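import Cfsg.Agent.Helper17.SP6TC.Facts3

set_option autoImplicit false
set_option linter.all false

noncomputable section

namespace Cfsg.Agent.Helper17.SP6TC

def n8580 : Q := act 7 n6770
theorem D8580 : act 7 n6770 = n8580 := rfl
theorem F40094 : act 4 n8580 = n6775 := d32_1 D8580 (iv D6775) (iv F32079)
theorem F40095 : act 5 n8580 = n6771 := d36_1 D8580 (iv D6771) D6770
def n8582 : Q := act 5 n6772
theorem D8582 : act 5 n6772 = n8582 := rfl
theorem F40105 : act 9 n8582 = n6891 := d38_2 (iv F32090) D8582 (iv D6891)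
def n8583 : Q := act 7 n6772
theorem D8583 : act 7 n6772 = n8583 := rfl
def n8584 : Q := act 4 n6773
theorem D8584 : act 4 n6773 = n8584 := rfl
def n8585 : Q := act 7 n6773
theorem D8585 : act 7 n6773 = n8585 := rfl
theorem F40117 : act 5 n8585 = n6774 := d36_1 D8585 (iv D6774) D6773
theorem F40118 : act 9 n8585 = n6894 := d43_2 (iv F32094) D8585 (iv D6894)
def n8586 : Q := act 8 n6773
theorem D8586 : act 8 n6773 = n8586 := rfl
def n8587 : Q := act 6 n6775
theorem D8587 : act 6 n6775 = n8587 := rfl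
theorem F40127 : act 9 n8587 = n6896 := d41_2 (iv F32103) D8587 (iv D6896)
def n8588 : Q := act 8 n6775
theorem D8588 : act 8 n6775 = n8588 := rfl
theorem F40131 : act 7 n8588 = n6776 := d42_1 D8588 (iv D6776) D6775
def n8589 : Q := act 9 n6776
theorem D8589 : act 9 n6776 = n8589 := rfl
def n8590 : Q := act 3 n6777
theorem D8590 : act 3 n6777 = n8590 := rfl
theorem F40138 : act 4 n8590 = n6780 := d24_2 D6777 D8590 (iv D6780) (iv D5388) (iv F25847)
def n8591 : Q := act 6 n6777
theorem D8591 : act 6 n6777 = n8591 := rfl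
theorem F40144 : act 7 n8591 = n8591 := d39_2 F33413 D8591 (iv D8591) (iv F33413) F33412
def n8592 : Q := act 3 n6779
theorem D8592 : act 3 n6779 = n8592 := rfl
theorem F40148 : act 5 n8592 = n6783 := d25_2 (iv F32121) D8592 (iv D6783)
theorem F40150 : act 7 n8592 = n6780 := d27_2 (iv F32123) D8592 (iv D6780)
def n8593 : Q := act 2 n6780
theorem D8593 : act 2 n6780 = n8593 := rfl
theorem F40155 : act 5 n8593 = n6786 := d19_2 (iv F32127) D8593 (iv D6786)
def n8594 : Q := act 6 n6780
theorem D8594 : act 6 n6780 = n8594 := rfl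
def n8595 : Q := act 5 n6781
theorem D8595 : act 5 n6781 = n8595 := rfl
theorem F40166 : act 6 n8595 = n6788 := d35_2 D6781 D8595 (iv D6788) (iv D5394) (iv F25858)
def n8596 : Q := act 7 n6782
theorem D8596 : act 7 n6782 = n8596 := rfl
theorem F40172 : act 5 n8596 = n6785 := d36_1 D8596 (iv D6785) (iv F32139)
def n8597 : Q := act 2 n6783
theorem D8597 : act 2 n6783 = n8597 := rfl
theorem F40177 : act 3 n8597 = n6811 := d17_2 D6783 D8597 (iv D6811) (iv D5411) (iv F25874)
theorem F40178 : act 7 n8597 = n6786 := d21_2 (iv F32143) D8597 (iv D6786)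
theorem F40179 : act 8 n8597 = n6790 := d22_2 (iv F32144) D8597 (iv D6790)
def n8598 : Q := act 6 n6783
theorem D8598 : act 6 n6783 = n8598 := rfl
theorem F40184 : act 8 n8598 = n6791 := d40_2 (iv F32144) D8598 (iv D6791)
def n8600 : Q := act 1 n6786
theorem D8600 : act 1 n6786 = n8600 := rfl
theorem F40194 : act 8 n8600 = n6794 := d15_2 (iv F32159) D8600 (iv D6794)
def n8601 : Q := act 6 n6786
theorem D8601 : act 6 n6786 = n8601 := rfl
theorem F40199 : act 8 n8601 = n6795 := d40_2 (iv F32159) D8601 (iv D6795)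
def n8602 : Q := act 5 n6787
theorem D8602 : act 5 n6787 = n8602 := rfl
def n8603 : Q := act 7 n6787
theorem D8603 : act 7 n6787 = n8603 := rfl
theorem F40206 : act 8 n8603 = n6797 := d42_2 (iv F32163) D8603 (iv D6797)
def n8604 : Q := act 7 n6788
theorem D8604 : act 7 n6788 = n8604 := rfl
theorem F40211 : act 5 n8604 = n6789 := d36_1 D8604 (iv D6789) D6788
def n8605 : Q := act 8 n6788
theorem D8605 : act 8 n6788 = n8605 := rfl
def n8606 : Q := act 1 n6790
theorem D8606 : act 1 n6790 = n8606 := rfl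
theorem F40218 : act 3 n8606 = n6820 := d10_2 (iv F32175) D8606 (iv D6820)
theorem F40220 : act 7 n8606 = n6794 := d14_2 (iv F32177) D8606 (iv D6794)
theorem F40221 : act 9 n8606 = n6899 := d16_2 (iv F32178) D8606 (iv D6899)
def n8607 : Q := act 6 n6790
theorem D8607 : act 6 n6790 = n8607 := rfl
theorem F40223 : act 2 n8607 = n6791 := d20_1 D8607 (iv D6791) D6790
theorem F40224 : act 3 n8607 = n6821 := d26_1 D8607 (iv D6821) (iv F32175)
theorem F40225 : act 9 n8607 = n6900 := d41_2 (iv F32178) D8607 (iv D6900)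
def n8608 : Q := act 5 n6791
theorem D8608 : act 5 n6791 = n8608 := rfl
theorem F40230 : act 9 n8608 = n6901 := d38_2 (iv F32181) D8608 (iv D6901)
def n8609 : Q := act 7 n6791
theorem D8609 : act 7 n6791 = n8609 := rfl
theorem F40233 : act 6 n8609 = n6797 := d39_1 D8609 (iv D6797) (iv D5400) (iv F25897) D6791
def n8611 : Q := act 0 n6794
theorem D8611 : act 0 n6794 = n8611 := rfl
theorem F40244 : act 9 n8611 = n6905 := d8_2 (iv F32195) D8611 (iv D6905)
def n8612 : Q := act 6 n6794
theorem D8612 : act 6 n6794 = n8612 := rfl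
theorem F40245 : act 1 n8612 = n6795 := d13_1 D8612 (iv D6795) D6794
theorem F40247 : act 9 n8612 = n6906 := d41_2 (iv F32195) D8612 (iv D6906)
def n8613 : Q := act 5 n6795
theorem D8613 : act 5 n6795 = n8613 := rfl
theorem F40249 : act 2 n8613 = n6796 := d19_1 D8613 (iv D6796) (iv F32197)
def n8614 : Q := act 7 n6795
theorem D8614 : act 7 n6795 = n8614 := rfl
def n8615 : Q := act 4 n6796
theorem D8615 : act 4 n6796 = n8615 := rfl
theorem F40258 : act 3 n8615 = n6800 := d24_1 D8615 (iv D6800) F25926 (iv F25917) (iv F32201)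
def n8616 : Q := act 7 n6796
theorem D8616 : act 7 n6796 = n8616 := rfl
theorem F40262 : act 3 n8616 = n6798 := d27_1 D8616 (iv D6798) (iv F32201)
theorem F40263 : act 5 n8616 = n6797 := d36_1 D8616 (iv D6797) D6796
def n8617 : Q := act 8 n6796
theorem D8617 : act 8 n6796 = n8617 := rfl
def n8618 : Q := act 6 n6798
theorem D8618 : act 6 n6798 = n8618 := rfl
theorem F40270 : act 4 n8618 = n6803 := d31_1 D8618 (iv D6803) (iv F32209)
def n8619 : Q := act 8 n6798
theorem D8619 : act 8 n6798 = n8619 := rfl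
theorem F40276 : act 7 n8619 = n6799 := d42_1 D8619 (iv D6799) D6798
def n8620 : Q := act 9 n6799
theorem D8620 : act 9 n6799 = n8620 := rfl
def n8621 : Q := act 7 n6800
theorem D8621 : act 7 n6800 = n8621 := rfl
theorem F40284 : act 4 n8621 = n6801 := d32_1 D8621 (iv D6801) D6800
def n8622 : Q := act 8 n6800
theorem D8622 : act 8 n6800 = n8622 := rfl
def n8623 : Q := act 6 n6801
theorem D8623 : act 6 n6801 = n8623 := rfl
theorem F40295 : act 9 n8623 = n6917 := d41_2 (iv F32224) D8623 (iv D6917)
def n8624 : Q := act 8 n6801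
theorem D8624 : act 8 n6801 = n8624 := rfl
theorem F40300 : act 7 n8624 = n6802 := d42_1 D8624 (iv D6802) D6801
def n8625 : Q := act 9 n6802
theorem D8625 : act 9 n6802 = n8625 := rfl
def n8626 : Q := act 8 n6803
theorem D8626 : act 8 n6803 = n8626 := rfl
theorem F40309 : act 6 n8626 = n6804 := d40_1 D8626 (iv D6804) D6803
def n8627 : Q := act 9 n6804
theorem D8627 : act 9 n6804 = n8627 := rfl
theorem F40314 : act 7 n8627 = n6805 := d43_1 D8627 (iv D6805) (iv F32238)
def n8628 : Q := act 2 n6806
theorem D8628 : act 2 n6806 = n8628 := rfl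
theorem F40318 : act 5 n8628 = n6811 := d19_2 (iv F32247) D8628 (iv D6811)
theorem F40320 : act 7 n8628 = n6807 := d21_2 (iv F32249) D8628 (iv D6807)
def n8630 : Q := act 6 n6807
theorem D8630 : act 6 n6807 = n8630 := rfl
theorem F40329 : act 2 n8630 = n6808 := d20_1 D8630 (iv D6808) D6807
def n8632 : Q := act 8 n6809
theorem D8632 : act 8 n6809 = n8632 := rfl
theorem F40344 : act 6 n8632 = n6819 := d40_1 D8632 (iv D6819) (iv F32267)
def n8633 : Q := act 1 n6811
theorem D8633 : act 1 n6811 = n8633 := rfl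
theorem F40347 : act 4 n8633 = n6838 := d11_2 (iv F32279) D8633 (iv D6838)
theorem F40348 : act 7 n8633 = n6814 := d14_2 (iv F32280) D8633 (iv D6814)
def n8634 : Q := act 6 n6811
theorem D8634 : act 6 n6811 = n8634 := rfl
theorem F40353 : act 4 n8634 = n6839 := d31_1 D8634 (iv D6839) (iv F32279)
def n8635 : Q := act 7 n6812
theorem D8635 : act 7 n6812 = n8635 := rfl
theorem F40362 : act 6 n8635 = n6817 := d39_1 D8635 (iv D6817) (iv D5415) (iv F25972) D6812
theorem F40363 : act 8 n8635 = n6823 := d42_2 (iv F32288) D8635 (iv D6823)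
def n8636 : Q := act 0 n6814
theorem D8636 : act 0 n6814 = n8636 := rfl
theorem F40368 : act 8 n8636 = n6825 := d7_2 (iv F32299) D8636 (iv D6825)
def n8637 : Q := act 6 n6814
theorem D8637 : act 6 n6814 = n8637 := rfl
theorem F40373 : act 8 n8637 = n6826 := d40_2 (iv F32299) D8637 (iv D6826)
def n8638 : Q := act 5 n6815
theorem D8638 : act 5 n6815 = n8638 := rfl
def n8639 : Q := act 7 n6815
theorem D8639 : act 7 n6815 = n8639 := rfl
theorem F40381 : act 8 n8639 = n6828 := d42_2 (iv F32304) D8639 (iv D6828)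
def n8640 : Q := act 4 n6816
theorem D8640 : act 4 n6816 = n8640 := rfl
theorem F40386 : act 5 n8640 = n6848 := d30_2 D6816 D8640 (iv D6848) (iv D5439) (iv F25994)
def n8641 : Q := act 7 n6816
theorem D8641 : act 7 n6816 = n8641 := rfl
theorem F40391 : act 5 n8641 = n6817 := d36_1 D8641 (iv D6817) D6816
def n8642 : Q := act 8 n6816
theorem D8642 : act 8 n6816 = n8642 := rfl
def n8643 : Q := act 8 n6818
theorem D8643 : act 8 n6818 = n8643 := rfl
theorem F40401 : act 5 n8643 = n6832 := d37_1 D8643 (iv D6832) F26049 (iv F26004) (iv F32319)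
theorem F40403 : act 7 n8643 = n6819 := d42_1 D8643 (iv D6819) D6818
def n8644 : Q := act 9 n6819
theorem D8644 : act 9 n6819 = n8644 := rfl
def n8645 : Q := act 0 n6820
theorem D8645 : act 0 n6820 = n8645 := rfl
theorem F40411 : act 4 n8645 = n6851 := d3_2 (iv F32327) D8645 (iv D6851)
theorem F40413 : act 7 n8645 = n6825 := d6_2 (iv F32329) D8645 (iv D6825)
theorem F40414 : act 9 n8645 = n6922 := d8_2 (iv F32330) D8645 (iv D6922)
def n8646 : Q := act 6 n6820
theorem D8646 : act 6 n6820 = n8646 := rfl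
theorem F40417 : act 4 n8646 = n6852 := d31_1 D8646 (iv D6852) (iv F32327)
def n8647 : Q := act 5 n6821
theorem D8647 : act 5 n6821 = n8647 := rfl
theorem F40423 : act 9 n8647 = n6924 := d38_2 (iv F32334) D8647 (iv D6924)
def n8648 : Q := act 7 n6821
theorem D8648 : act 7 n6821 = n8648 := rfl
theorem F40427 : act 6 n8648 = n6828 := d39_1 D8648 (iv D6828) (iv D5423) (iv F26009) D6821
def n8649 : Q := act 4 n6822
theorem D8649 : act 4 n6822 = n8649 := rfl
theorem F40432 : act 5 n8649 = n6855 := d30_2 D6822 D8649 (iv D6855) (iv D5444) (iv F26014)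
def n8650 : Q := act 7 n6822
theorem D8650 : act 7 n6822 = n8650 := rfl
theorem F40439 : act 5 n8650 = n6823 := d36_1 D8650 (iv D6823) D6822
def n8652 : Q := act 6 n6825
theorem D8652 : act 6 n6825 = n8652 := rfl
theorem F40449 : act 0 n8652 = n6826 := d5_1 D8652 (iv D6826) D6825
def n8653 : Q := act 5 n6826
theorem D8653 : act 5 n6826 = n8653 := rfl
theorem F40454 : act 1 n8653 = n6827 := d12_1 D8653 (iv D6827) (iv F32358)
theorem F40458 : act 9 n8653 = n6932 := d38_2 (iv F32361) D8653 (iv D6932)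
def n8654 : Q := act 7 n6826
theorem D8654 : act 7 n6826 = n8654 := rfl
def n8655 : Q := act 7 n6827
theorem D8655 : act 7 n6827 = n8655 := rfl
theorem F40464 : act 2 n8655 = n6829 := d21_1 D8655 (iv D6829) (iv F32363)
theorem F40466 : act 5 n8655 = n6828 := d36_1 D8655 (iv D6828) D6827
def n8656 : Q := act 8 n6827
theorem D8656 : act 8 n6827 = n8656 := rfl
def n8657 : Q := act 6 n6829
theorem D8657 : act 6 n6829 = n8657 := rfl
theorem F40474 : act 3 n8657 = n6831 := d26_1 D8657 (iv D6831) (iv F32373)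
def n8658 : Q := act 8 n6829
theorem D8658 : act 8 n6829 = n8658 := rfl
theorem F40482 : act 7 n8658 = n6830 := d42_1 D8658 (iv D6830) D6829
def n8659 : Q := act 9 n6830
theorem D8659 : act 9 n6830 = n8659 := rfl
def n8660 : Q := act 8 n6831
theorem D8660 : act 8 n6831 = n8660 := rfl
theorem F40491 : act 4 n8660 = n6834 := d33_1 D8660 (iv D6834) (iv F32384)
theorem F40493 : act 6 n8660 = n6832 := d40_1 D8660 (iv D6832) D6831
def n8661 : Q := act 9 n6832
theorem D8661 : act 9 n6832 = n8661 := rfl
theorem F40498 : act 7 n8661 = n6833 := d43_1 D8661 (iv D6833) (iv F32390)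
def n8662 : Q := act 5 n6834
theorem D8662 : act 5 n6834 = n8662 := rfl
def n8663 : Q := act 9 n6834
theorem D8663 : act 9 n6834 = n8663 := rfl
theorem F40510 : act 6 n8663 = n6835 := d41_1 D8663 (iv D6835) (iv F32399)
theorem F40512 : act 8 n8663 = n6942 := d44_1 D8663 (iv D6942) (iv D5509) (iv F26060) D6834
def n8664 : Q := act 7 n6836
theorem D8664 : act 7 n6836 = n8664 := rfl
theorem F40517 : act 5 n8664 = n6837 := d36_1 D8664 (iv D6837) D6836
def n8665 : Q := act 8 n6836
theorem D8665 : act 8 n6836 = n8665 := rfl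
theorem F40522 : act 4 n8665 = n6843 := d33_1 D8665 (iv D6843) (iv F32410)
def n8666 : Q := act 0 n6838
theorem D8666 : act 0 n6838 = n8666 := rfl
theorem F40529 : act 8 n8666 = n6851 := d7_2 (iv F32423) D8666 (iv D6851)
def n8667 : Q := act 6 n6838
theorem D8667 : act 6 n6838 = n8667 := rfl
theorem F40533 : act 8 n8667 = n6852 := d40_2 (iv F32423) D8667 (iv D6852)
def n8668 : Q := act 5 n6839
theorem D8668 : act 5 n6839 = n8668 := rfl
def n8669 : Q := act 7 n6839
theorem D8669 : act 7 n6839 = n8669 := rfl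
theorem F40542 : act 6 n8669 = n6847 := d39_1 D8669 (iv D6847) (iv D5438) (iv F26086) D6839
def n8670 : Q := act 7 n6840
theorem D8670 : act 7 n6840 = n8670 := rfl
theorem F40549 : act 5 n8670 = n6841 := d36_1 D8670 (iv D6841) D6840
def n8671 : Q := act 8 n6840
theorem D8671 : act 8 n6840 = n8671 := rfl
theorem F40555 : act 5 n8671 = n6857 := d37_1 D8671 (iv D6857) (iv D5444) (iv F26092) D6840
def n8673 : Q := act 8 n6842
theorem D8673 : act 8 n6842 = n8673 := rfl
theorem F40565 : act 7 n8673 = n6843 := d42_1 D8673 (iv D6843) D6842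
def n8674 : Q := act 9 n6843
theorem D8674 : act 9 n6843 = n8674 := rfl
theorem F40568 : act 5 n8674 = n6859 := d38_1 D8674 (iv D6859) (iv F32447)
def n8678 : Q := act 4 n6846
theorem D8678 : act 4 n6846 = n8678 := rfl
def n8679 : Q := act 7 n6846
theorem D8679 : act 7 n6846 = n8679 := rfl
theorem F40592 : act 5 n8679 = n6847 := d36_1 D8679 (iv D6847) D6846
def n8680 : Q := act 7 n6848
theorem D8680 : act 7 n6848 = n8680 := rfl
theorem F40598 : act 4 n8680 = n6849 := d32_1 D8680 (iv D6849) D6848
def n8681 : Q := act 6 n6849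
theorem D8681 : act 6 n6849 = n8681 := rfl
def n8682 : Q := act 6 n6851
theorem D8682 : act 6 n6851 = n8682 := rfl
theorem F40610 : act 9 n8682 = n6943 := d41_2 (iv F32489) D8682 (iv D6943)
def n8683 : Q := act 5 n6852
theorem D8683 : act 5 n6852 = n8683 := rfl
theorem F40613 : act 6 n8683 = n6863 := d35_2 D6852 D8683 (iv D6863) (iv D5452) (iv F26130)
theorem F40614 : act 9 n8683 = n6944 := d38_2 (iv F32492) D8683 (iv D6944)
def n8685 : Q := act 4 n6853
theorem D8685 : act 4 n6853 = n8685 := rfl
theorem F40621 : act 6 n8685 = n6864 := d31_2 (iv F32495) D8685 (iv D6864)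
def n8686 : Q := act 7 n6853
theorem D8686 : act 7 n6853 = n8686 := rfl
theorem F40625 : act 5 n8686 = n6854 := d36_1 D8686 (iv D6854) D6853
def n8687 : Q := act 8 n6853
theorem D8687 : act 8 n6853 = n8687 := rfl
theorem F40630 : act 6 n8687 = n6865 := d40_1 D8687 (iv D6865) (iv F32495)
def n8688 : Q := act 7 n6855
theorem D8688 : act 7 n6855 = n8688 := rfl
def n8689 : Q := act 8 n6855
theorem D8689 : act 8 n6855 = n8689 := rfl
theorem F40642 : act 6 n8689 = n6866 := d40_1 D8689 (iv D6866) (iv F32504)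
def n8690 : Q := act 8 n6856
theorem D8690 : act 8 n6856 = n8690 := rfl
theorem F40647 : act 7 n8690 = n6857 := d42_1 D8690 (iv D6857) D6856
def n8691 : Q := act 9 n6857
theorem D8691 : act 9 n6857 = n8691 := rfl
theorem F40651 : act 6 n8691 = n6867 := d41_1 D8691 (iv D6867) (iv F32515)
def n8692 : Q := act 9 n6858
theorem D8692 : act 9 n6858 = n8692 := rfl
theorem F40657 : act 7 n8692 = n6859 := d43_1 D8692 (iv D6859) (iv F32520)
def n8694 : Q := act 5 n6862
theorem D8694 : act 5 n6862 = n8694 := rfl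
theorem F40668 : act 9 n8694 = n6955 := d38_2 (iv F32541) D8694 (iv D6955)
def n8695 : Q := act 4 n6863
theorem D8695 : act 4 n6863 = n8695 := rfl
theorem F40673 : act 9 n8695 = n6956 := d34_2 (iv F32545) D8695 (iv D6956)
def n8696 : Q := act 8 n6863
theorem D8696 : act 8 n6863 = n8696 := rfl
def n8697 : Q := act 3 n6864
theorem D8697 : act 3 n6864 = n8697 := rfl
theorem F40682 : act 9 n8697 = n6958 := d29_2 (iv F32550) D8697 (iv D6958)
def n8698 : Q := act 8 n6864
theorem D8698 : act 8 n6864 = n8698 := rfl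
theorem F40685 : act 4 n8698 = n6865 := d33_1 D8698 (iv D6865) D6864
def n8699 : Q := act 9 n6865
theorem D8699 : act 9 n6865 = n8699 := rfl
def n8700 : Q := act 5 n6866
theorem D8700 : act 5 n6866 = n8700 := rfl
def n8701 : Q := act 9 n6866
theorem D8701 : act 9 n6866 = n8701 := rfl
theorem F40702 : act 4 n8701 = n6867 := d34_1 D8701 (iv D6867) (iv F32558)
theorem F40704 : act 8 n8701 = n6962 := d44_1 D8701 (iv D6962) (iv D5526) (iv F26189) D6866
def n8702 : Q := act 2 n6868
theorem D8702 : act 2 n6868 = n8702 := rfl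
theorem F40705 : act 0 n8702 = n6881 := d1_1 D8702 (iv D6881) (iv F32566)
theorem F40708 : act 7 n8702 = n6871 := d21_2 (iv F32569) D8702 (iv D6871)
def n8703 : Q := act 6 n6868
theorem D8703 : act 6 n6868 = n8703 := rfl
theorem F40710 : act 0 n8703 = n6882 := d5_1 D8703 (iv D6882) (iv F32566)
theorem F40712 : act 3 n8703 = n6869 := d26_1 D8703 (iv D6869) D6868
def n8704 : Q := act 5 n6869
theorem D8704 : act 5 n6869 = n8704 := rfl
theorem F40714 : act 0 n8704 = n6883 := d4_1 D8704 (iv D6883) (iv F32571)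
theorem F40716 : act 2 n8704 = n8704 := d19_1 D8704 (iv D8704) F32573
def n8706 : Q := act 1 n6871
theorem D8706 : act 1 n6871 = n8706 := rfl
def n8707 : Q := act 6 n6871
theorem D8707 : act 6 n6871 = n8707 := rfl
theorem F40730 : act 2 n8707 = n6872 := d20_1 D8707 (iv D6872) D6871
def n8708 : Q := act 5 n6872
theorem D8708 : act 5 n6872 = n8708 := rfl
theorem F40735 : act 3 n8708 = n6873 := d25_1 D8708 (iv D6873) (iv F32588)
def n8709 : Q := act 7 n6872
theorem D8709 : act 7 n6872 = n8709 := rfl
def n8710 : Q := act 7 n6873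
theorem D8710 : act 7 n6873 = n8710 := rfl
theorem F40744 : act 4 n8710 = n6879 := d32_1 D8710 (iv D6879) (iv F32593)
theorem F40745 : act 5 n8710 = n6874 := d36_1 D8710 (iv D6874) D6873
def n8711 : Q := act 8 n6873
theorem D8711 : act 8 n6873 = n8711 := rfl
def n8712 : Q := act 6 n6875
theorem D8712 : act 6 n6875 = n8712 := rfl
theorem F40753 : act 1 n8712 = n6876 := d13_1 D8712 (iv D6876) D6875
theorem F40756 : act 8 n8712 = n6974 := d40_2 (iv F32605) D8712 (iv D6974)
def n8713 : Q := act 5 n6876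
theorem D8713 : act 5 n6876 = n8713 := rfl
theorem F40758 : act 2 n8713 = n6877 := d19_1 D8713 (iv D6877) (iv F32607)
def n8715 : Q := act 4 n6877
theorem D8715 : act 4 n6877 = n8715 := rfl
def n8716 : Q := act 7 n6877
theorem D8716 : act 7 n6877 = n8716 := rfl
theorem F40772 : act 5 n8716 = n6878 := d36_1 D8716 (iv D6878) D6877
def n8717 : Q := act 8 n6877
theorem D8717 : act 8 n6877 = n8717 := rfl
def n8718 : Q := act 6 n6879
theorem D8718 : act 6 n6879 = n8718 := rfl
def n8719 : Q := act 8 n6879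
theorem D8719 : act 8 n6879 = n8719 := rfl
theorem F40786 : act 5 n8719 = n6981 := d37_1 D8719 (iv D6981) F26586 (iv F26244) (iv F32622)
theorem F40787 : act 7 n8719 = n6880 := d42_1 D8719 (iv D6880) D6879
def n8720 : Q := act 9 n6880
theorem D8720 : act 9 n6880 = n8720 := rfl
def n8721 : Q := act 1 n6881
theorem D8721 : act 1 n6881 = n8721 := rfl
theorem F40793 : act 2 n8721 = n6899 := d9_2 D6881 D8721 (iv D6899) (iv D5478) (iv F26245)
theorem F40796 : act 7 n8721 = n6885 := d14_2 (iv F32630) D8721 (iv D6885)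
def n8722 : Q := act 6 n6881
theorem D8722 : act 6 n6881 = n8722 := rfl
theorem F40798 : act 2 n8722 = n6882 := d20_1 D8722 (iv D6882) D6881
def n8723 : Q := act 5 n6882
theorem D8723 : act 5 n6882 = n8723 := rfl
theorem F40801 : act 1 n8723 = n6901 := d12_1 D8723 (iv D6901) (iv F32632)
theorem F40802 : act 3 n8723 = n6883 := d25_1 D8723 (iv D6883) (iv F32633)
def n8724 : Q := act 7 n6882
theorem D8724 : act 7 n6882 = n8724 := rfl
theorem F40806 : act 6 n8724 = n6888 := d39_1 D8724 (iv D6888) (iv D5470) (iv F26247) D6882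
def n8725 : Q := act 7 n6883
theorem D8725 : act 7 n6883 = n8725 := rfl
theorem F40811 : act 5 n8725 = n6884 := d36_1 D8725 (iv D6884) D6883
def n8726 : Q := act 8 n6883
theorem D8726 : act 8 n6883 = n8726 := rfl
theorem F40813 : act 2 n8726 = n8726 := d22_1 D8726 (iv D8726) F32636
def n8727 : Q := act 0 n6885
theorem D8727 : act 0 n6885 = n8727 := rfl
def n8728 : Q := act 6 n6885
theorem D8728 : act 6 n6885 = n8728 := rfl
theorem F40822 : act 1 n8728 = n6886 := d13_1 D8728 (iv D6886) D6885
def n8729 : Q := act 5 n6886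
theorem D8729 : act 5 n6886 = n8729 := rfl
theorem F40826 : act 2 n8729 = n6887 := d19_1 D8729 (iv D6887) (iv F32648)
def n8730 : Q := act 7 n6886
theorem D8730 : act 7 n6886 = n8730 := rfl
def n8731 : Q := act 4 n6887
theorem D8731 : act 4 n6887 = n8731 := rfl
theorem F40833 : act 3 n8731 = n6893 := d24_1 D8731 (iv D6893) F26277 (iv F26266) (iv F32652)
def n8732 : Q := act 7 n6887
theorem D8732 : act 7 n6887 = n8732 := rfl
theorem F40836 : act 3 n8732 = n6889 := d27_1 D8732 (iv D6889) (iv F32652)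
theorem F40837 : act 5 n8732 = n6888 := d36_1 D8732 (iv D6888) D6887
def n8733 : Q := act 8 n6887
theorem D8733 : act 8 n6887 = n8733 := rfl
def n8734 : Q := act 6 n6889
theorem D8734 : act 6 n6889 = n8734 := rfl
theorem F40844 : act 4 n8734 = n6896 := d31_1 D8734 (iv D6896) (iv F32659)
def n8735 : Q := act 8 n6889
theorem D8735 : act 8 n6889 = n8735 := rfl
theorem F40850 : act 7 n8735 = n6890 := d42_1 D8735 (iv D6890) D6889
def n8736 : Q := act 9 n6890
theorem D8736 : act 9 n6890 = n8736 := rfl
def n8737 : Q := act 4 n6891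
theorem D8737 : act 4 n6891 = n8737 := rfl
theorem F40857 : act 2 n8737 = n6893 := d18_1 D8737 (iv D6893) (iv F32667)
def n8738 : Q := act 7 n6891
theorem D8738 : act 7 n6891 = n8738 := rfl
theorem F40860 : act 2 n8738 = n6894 := d21_1 D8738 (iv D6894) (iv F32667)
theorem F40862 : act 5 n8738 = n6892 := d36_1 D8738 (iv D6892) D6891
def n8740 : Q := act 7 n6893
theorem D8740 : act 7 n6893 = n8740 := rfl
theorem F40869 : act 4 n8740 = n6894 := d32_1 D8740 (iv D6894) D6893
def n8741 : Q := act 8 n6893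
theorem D8741 : act 8 n6893 = n8741 := rfl
theorem F40871 : act 4 n8741 = n6895 := d33_1 D8741 (iv D6895) D6893
def n8742 : Q := act 6 n6894
theorem D8742 : act 6 n6894 = n8742 := rfl
theorem F40874 : act 3 n8742 = n6896 := d26_1 D8742 (iv D6896) (iv F32678)
def n8743 : Q := act 8 n6894
theorem D8743 : act 8 n6894 = n8743 := rfl
theorem F40879 : act 5 n8743 = n6989 := d37_1 D8743 (iv D6989) F26609 (iv F26282) (iv F32679)
theorem F40880 : act 7 n8743 = n6895 := d42_1 D8743 (iv D6895) D6894
def n8744 : Q := act 9 n6895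
theorem D8744 : act 9 n6895 = n8744 := rfl
def n8745 : Q := act 8 n6896
theorem D8745 : act 8 n6896 = n8745 := rfl
theorem F40887 : act 6 n8745 = n6897 := d40_1 D8745 (iv D6897) D6896
def n8746 : Q := act 9 n6897
theorem D8746 : act 9 n6897 = n8746 := rfl
theorem F40892 : act 7 n8746 = n6898 := d43_1 D8746 (iv D6898) (iv F32691)
def n8747 : Q := act 0 n6899
theorem D8747 : act 0 n6899 = n8747 := rfl
theorem F40894 : act 3 n8747 = n6922 := d2_2 (iv F32696) D8747 (iv D6922)
theorem F40896 : act 7 n8747 = n6905 := d6_2 (iv F32698) D8747 (iv D6905)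
def n8748 : Q := act 6 n6899
theorem D8748 : act 6 n6899 = n8748 := rfl
theorem F40898 : act 1 n8748 = n6900 := d13_1 D8748 (iv D6900) D6899
theorem F40899 : act 3 n8748 = n6923 := d26_1 D8748 (iv D6923) (iv F32696)
def n8749 : Q := act 5 n6900
theorem D8749 : act 5 n6900 = n8749 := rfl
theorem F40902 : act 2 n8749 = n6901 := d19_1 D8749 (iv D6901) (iv F32701)
theorem F40903 : act 3 n8749 = n6924 := d25_1 D8749 (iv D6924) (iv F32702)
def n8750 : Q := act 7 n6900
theorem D8750 : act 7 n6900 = n8750 := rfl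
theorem F40908 : act 6 n8750 = n6908 := d39_1 D8750 (iv D6908) (iv D5483) (iv F26293) D6900
def n8751 : Q := act 4 n6901
theorem D8751 : act 4 n6901 = n8751 := rfl
def n8752 : Q := act 7 n6901
theorem D8752 : act 7 n6901 = n8752 := rfl
theorem F40915 : act 5 n8752 = n6902 := d36_1 D8752 (iv D6902) D6901
def n8753 : Q := act 8 n6901
theorem D8753 : act 8 n6901 = n8753 := rfl
def n8756 : Q := act 6 n6905
theorem D8756 : act 6 n6905 = n8756 := rfl
theorem F40932 : act 0 n8756 = n6906 := d5_1 D8756 (iv D6906) D6905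
def n8757 : Q := act 5 n6906
theorem D8757 : act 5 n6906 = n8757 := rfl
theorem F40936 : act 1 n8757 = n6907 := d12_1 D8757 (iv D6907) (iv F32725)
def n8758 : Q := act 7 n6906
theorem D8758 : act 7 n6906 = n8758 := rfl
def n8759 : Q := act 4 n6907
theorem D8759 : act 4 n6907 = n8759 := rfl
theorem F40943 : act 2 n8759 = n6909 := d18_1 D8759 (iv D6909) (iv F32729)
def n8760 : Q := act 7 n6907
theorem D8760 : act 7 n6907 = n8760 := rfl
theorem F40947 : act 2 n8760 = n6910 := d21_1 D8760 (iv D6910) (iv F32729)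
theorem F40949 : act 5 n8760 = n6908 := d36_1 D8760 (iv D6908) D6907
def n8761 : Q := act 8 n6907
theorem D8761 : act 8 n6907 = n8761 := rfl
def n8762 : Q := act 7 n6909
theorem D8762 : act 7 n6909 = n8762 := rfl
theorem F40956 : act 3 n8762 = n6915 := d27_1 D8762 (iv D6915) (iv F32737)
theorem F40957 : act 4 n8762 = n6910 := d32_1 D8762 (iv D6910) D6909
def n8763 : Q := act 8 n6909
theorem D8763 : act 8 n6909 = n8763 := rfl
theorem F40959 : act 3 n8763 = n6916 := d28_1 D8763 (iv D6916) (iv F32737)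
def n8764 : Q := act 6 n6910
theorem D8764 : act 6 n6910 = n8764 := rfl
theorem F40963 : act 3 n8764 = n6912 := d26_1 D8764 (iv D6912) (iv F32740)
def n8765 : Q := act 8 n6910
theorem D8765 : act 8 n6910 = n8765 := rfl
theorem F40968 : act 7 n8765 = n6911 := d42_1 D8765 (iv D6911) D6910
def n8766 : Q := act 9 n6911
theorem D8766 : act 9 n6911 = n8766 := rfl
def n8767 : Q := act 8 n6912
theorem D8767 : act 8 n6912 = n8767 := rfl
theorem F40975 : act 4 n8767 = n6920 := d33_1 D8767 (iv D6920) (iv F32748)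
theorem F40976 : act 6 n8767 = n6913 := d40_1 D8767 (iv D6913) D6912
def n8768 : Q := act 9 n6913
theorem D8768 : act 9 n6913 = n8768 := rfl
theorem F40982 : act 7 n8768 = n6914 := d43_1 D8768 (iv D6914) (iv F32754)
def n8769 : Q := act 6 n6915
theorem D8769 : act 6 n6915 = n8769 := rfl
theorem F40985 : act 4 n8769 = n6917 := d31_1 D8769 (iv D6917) (iv F32762)
def n8770 : Q := act 8 n6915
theorem D8770 : act 8 n6915 = n8770 := rfl
theorem F40990 : act 7 n8770 = n6916 := d42_1 D8770 (iv D6916) D6915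
def n8771 : Q := act 5 n6916
theorem D8771 : act 5 n6916 = n8771 := rfl
theorem F40993 : act 4 n8771 = n6995 := d30_1 D8771 (iv D6995) F26637 (iv F26339) (iv F32765)
def n8772 : Q := act 9 n6916
theorem D8772 : act 9 n6916 = n8772 := rfl
def n8773 : Q := act 8 n6917
theorem D8773 : act 8 n6917 = n8773 := rfl
theorem F41001 : act 6 n8773 = n6918 := d40_1 D8773 (iv D6918) D6917
def n8774 : Q := act 9 n6918
theorem D8774 : act 9 n6918 = n8774 := rfl
theorem F41007 : act 7 n8774 = n6919 := d43_1 D8774 (iv D6919) (iv F32776)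
def n8775 : Q := act 5 n6920
theorem D8775 : act 5 n6920 = n8775 := rfl
theorem F41010 : act 6 n8775 = n6999 := d35_2 (iv F32784) D8775 (iv D6999) F26657 (iv F26347)
def n8776 : Q := act 9 n6920
theorem D8776 : act 9 n6920 = n8776 := rfl
theorem F41015 : act 6 n8776 = n6921 := d41_1 D8776 (iv D6921) (iv F32784)
def n8777 : Q := act 6 n6922
theorem D8777 : act 6 n6922 = n8777 := rfl
theorem F41017 : act 0 n8777 = n6923 := d5_1 D8777 (iv D6923) D6922
theorem F41020 : act 4 n8777 = n6943 := d31_1 D8777 (iv D6943) (iv F32792)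
def n8778 : Q := act 5 n6923
theorem D8778 : act 5 n6923 = n8778 := rfl
theorem F41022 : act 1 n8778 = n6924 := d12_1 D8778 (iv D6924) (iv F32796)
def n8779 : Q := act 7 n6923
theorem D8779 : act 7 n6923 = n8779 := rfl
theorem F41027 : act 4 n8779 = n6945 := d32_1 D8779 (iv D6945) (iv F32798)
theorem F41028 : act 6 n8779 = n6933 := d39_1 D8779 (iv D6933) (iv D5501) (iv F26356) D6923
def n8780 : Q := act 4 n6924
theorem D8780 : act 4 n6924 = n8780 := rfl
theorem F41032 : act 5 n8780 = n6946 := d30_2 D6924 D8780 (iv D6946) (iv D5513) (iv F26360)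
def n8781 : Q := act 7 n6924
theorem D8781 : act 7 n6924 = n8781 := rfl
theorem F41036 : act 5 n8781 = n6925 := d36_1 D8781 (iv D6925) D6924
def n8782 : Q := act 8 n6924
theorem D8782 : act 8 n6924 = n8782 := rfl
def n8783 : Q := act 7 n6926
theorem D8783 : act 7 n6926 = n8783 := rfl
theorem F41045 : act 4 n8783 = n6927 := d32_1 D8783 (iv D6927) D6926
theorem F41046 : act 5 n8783 = n6949 := d36_1 D8783 (iv D6949) (iv F32811)
def n8784 : Q := act 8 n6926
theorem D8784 : act 8 n6926 = n8784 := rfl
theorem F41050 : act 4 n8784 = n6928 := d33_1 D8784 (iv D6928) D6926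
def n8785 : Q := act 6 n6927
theorem D8785 : act 6 n6927 = n8785 := rfl
theorem F41056 : act 5 n8785 = n6936 := d35_1 D8785 (iv D6936) F26403 (iv F26370) (iv F32816)
def n8786 : Q := act 8 n6927
theorem D8786 : act 8 n6927 = n8786 := rfl
def n8787 : Q := act 8 n6929
theorem D8787 : act 8 n6929 = n8787 := rfl
theorem F41067 : act 6 n8787 = n6930 := d40_1 D8787 (iv D6930) D6929
def n8788 : Q := act 5 n6931
theorem D8788 : act 5 n6931 = n8788 := rfl
theorem F41070 : act 0 n8788 = n6932 := d4_1 D8788 (iv D6932) (iv F32834)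
def n8789 : Q := act 7 n6931
theorem D8789 : act 7 n6931 = n8789 := rfl
def n8790 : Q := act 7 n6932
theorem D8790 : act 7 n6932 = n8790 := rfl
theorem F41080 : act 1 n8790 = n6934 := d14_1 D8790 (iv D6934) (iv F32839)
theorem F41083 : act 5 n8790 = n6933 := d36_1 D8790 (iv D6933) D6932
def n8792 : Q := act 6 n6934
theorem D8792 : act 6 n6934 = n8792 := rfl
theorem F41090 : act 2 n8792 = n6936 := d20_1 D8792 (iv D6936) (iv F32848)
def n8793 : Q := act 8 n6934
theorem D8793 : act 8 n6934 = n8793 := rfl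
theorem F41097 : act 7 n8793 = n6935 := d42_1 D8793 (iv D6935) D6934
def n8794 : Q := act 9 n6935
theorem D8794 : act 9 n6935 = n8794 := rfl
def n8795 : Q := act 8 n6936
theorem D8795 : act 8 n6936 = n8795 := rfl
theorem F41105 : act 3 n8795 = n6939 := d28_1 D8795 (iv D6939) (iv F32858)
theorem F41107 : act 6 n8795 = n6937 := d40_1 D8795 (iv D6937) D6936
def n8796 : Q := act 9 n6937
theorem D8796 : act 9 n6937 = n8796 := rfl
theorem F41114 : act 7 n8796 = n6938 := d43_1 D8796 (iv D6938) (iv F32866)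
def n8797 : Q := act 5 n6939
theorem D8797 : act 5 n6939 = n8797 := rfl
def n8798 : Q := act 9 n6939
theorem D8798 : act 9 n6939 = n8798 := rfl
theorem F41121 : act 4 n8798 = n6942 := d34_1 D8798 (iv D6942) (iv F32875)
theorem F41122 : act 6 n8798 = n6940 := d41_1 D8798 (iv D6940) (iv F32876)
def n8799 : Q := act 4 n6941
theorem D8799 : act 4 n6941 = n8799 := rfl
theorem F41126 : act 6 n8799 = n7001 := d31_2 (iv F32886) D8799 (iv D7001)
def n8800 : Q := act 9 n6941
theorem D8800 : act 9 n6941 = n8800 := rfl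
theorem F41132 : act 5 n8800 = n6942 := d38_1 D8800 (iv D6942) D6941
theorem F41133 : act 6 n8800 = n7002 := d41_1 D8800 (iv D7002) (iv F32886)
def n8801 : Q := act 5 n6943
theorem D8801 : act 5 n6943 = n8801 := rfl
theorem F41135 : act 0 n8801 = n6944 := d4_1 D8801 (iv D6944) (iv F32894)
theorem F41138 : act 6 n8801 = n6955 := d35_2 D6943 D8801 (iv D6955) (iv D5522) (iv F26436)
def n8802 : Q := act 7 n6943
theorem D8802 : act 7 n6943 = n8802 := rfl
def n8803 : Q := act 4 n6944
theorem D8803 : act 4 n6944 = n8803 := rfl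
theorem F41144 : act 1 n8803 = n6946 := d11_1 D8803 (iv D6946) (iv F32898)
theorem F41146 : act 6 n8803 = n6956 := d31_2 (iv F32900) D8803 (iv D6956)
def n8804 : Q := act 7 n6944
theorem D8804 : act 7 n6944 = n8804 := rfl
theorem F41149 : act 5 n8804 = n6945 := d36_1 D8804 (iv D6945) D6944
def n8805 : Q := act 8 n6944
theorem D8805 : act 8 n6944 = n8805 := rfl
theorem F41154 : act 6 n8805 = n6957 := d40_1 D8805 (iv D6957) (iv F32900)
def n8806 : Q := act 3 n6946
theorem D8806 : act 3 n6946 = n8806 := rfl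
theorem F41156 : act 2 n8806 = n8806 := d17_1 D8806 (iv D8806) F32906 F26451 (iv F32906)
theorem F41157 : act 6 n8806 = n6958 := d26_2 (iv F32907) D8806 (iv D6958)
def n8807 : Q := act 7 n6946
theorem D8807 : act 7 n6946 = n8807 := rfl
def n8808 : Q := act 8 n6946
theorem D8808 : act 8 n6946 = n8808 := rfl
theorem F41163 : act 2 n8808 = n6950 := d22_1 D8808 (iv D6950) (iv F32906)
theorem F41165 : act 6 n8808 = n6959 := d40_1 D8808 (iv D6959) (iv F32907)
def n8809 : Q := act 8 n6947
theorem D8809 : act 8 n6947 = n8809 := rfl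
theorem F41170 : act 7 n8809 = n6948 := d42_1 D8809 (iv D6948) D6947
def n8810 : Q := act 9 n6948
theorem D8810 : act 9 n6948 = n8810 := rfl
theorem F41174 : act 6 n8810 = n6960 := d41_1 D8810 (iv D6960) (iv F32915)
def n8811 : Q := act 8 n6949
theorem D8811 : act 8 n6949 = n8811 := rfl
theorem F41180 : act 7 n8811 = n6950 := d42_1 D8811 (iv D6950) D6949
def n8812 : Q := act 5 n6950
theorem D8812 : act 5 n6950 = n8812 := rfl
def n8813 : Q := act 9 n6950
theorem D8813 : act 9 n6950 = n8813 := rfl
theorem F41189 : act 6 n8813 = n6962 := d41_1 D8813 (iv D6962) (iv F32925)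
def n8814 : Q := act 9 n6951
theorem D8814 : act 9 n6951 = n8814 := rfl
theorem F41195 : act 7 n8814 = n6952 := d43_1 D8814 (iv D6952) (iv F32931)
def n8815 : Q := act 4 n6955
theorem D8815 : act 4 n6955 = n8815 := rfl
theorem F41196 : act 0 n8815 = n6956 := d3_1 D8815 (iv D6956) (iv F32948)
def n8816 : Q := act 8 n6955
theorem D8816 : act 8 n6955 = n8816 := rfl
theorem F41204 : act 5 n8816 = n6964 := d37_1 D8816 (iv D6964) (iv D5528) (iv F26488) D6955
def n8817 : Q := act 3 n6956
theorem D8817 : act 3 n6956 = n8817 := rfl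
def n8818 : Q := act 8 n6956
theorem D8818 : act 8 n6956 = n8818 := rfl
theorem F41209 : act 1 n8818 = n6959 := d15_1 D8818 (iv D6959) (iv F32952)
theorem F41211 : act 4 n8818 = n6957 := d33_1 D8818 (iv D6957) D6956
def n8819 : Q := act 9 n6957
theorem D8819 : act 9 n6957 = n8819 := rfl
def n8820 : Q := act 8 n6958
theorem D8820 : act 8 n6958 = n8820 := rfl
theorem F41219 : act 3 n8820 = n6959 := d28_1 D8820 (iv D6959) D6958
def n8821 : Q := act 5 n6959
theorem D8821 : act 5 n6959 = n8821 := rfl
theorem F41223 : act 4 n8821 = n6967 := d30_1 D8821 (iv D6967) F26530 (iv F26498) (iv F32966)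
def n8822 : Q := act 9 n6959
theorem D8822 : act 9 n6959 = n8822 := rfl
theorem F41228 : act 4 n8822 = n6960 := d34_1 D8822 (iv D6960) (iv F32966)
def n8823 : Q := act 6 n6961
theorem D8823 : act 6 n6961 = n8823 := rfl
theorem F41233 : act 4 n8823 = n6969 := d31_1 D8823 (iv D6969) (iv F32975)
def n8824 : Q := act 9 n6961
theorem D8824 : act 9 n6961 = n8824 := rfl
theorem F41239 : act 5 n8824 = n6962 := d38_1 D8824 (iv D6962) D6961
def n8825 : Q := act 8 n6963
theorem D8825 : act 8 n6963 = n8825 := rfl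
theorem F41241 : act 0 n8825 = n6965 := d7_1 D8825 (iv D6965) (iv F32983)
theorem F41243 : act 2 n8825 = n8825 := d22_1 D8825 (iv D8825) F32985
theorem F41244 : act 3 n8825 = n8825 := d28_1 D8825 (iv D8825) F32986
theorem F41245 : act 4 n8825 = n6964 := d33_1 D8825 (iv D6964) D6963
def n8826 : Q := act 9 n6964
theorem D8826 : act 9 n6964 = n8826 := rfl
def n8827 : Q := act 5 n6965
theorem D8827 : act 5 n6965 = n8827 := rfl
theorem F41254 : act 1 n8827 = n6967 := d12_1 D8827 (iv D6967) (iv F32996)
def n8828 : Q := act 9 n6965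
theorem D8828 : act 9 n6965 = n8828 := rfl
theorem F41262 : act 4 n8828 = n6966 := d34_1 D8828 (iv D6966) (iv F32999)
theorem F41265 : act 8 n8828 = n8828 := d44_1 D8828 (iv D8828) (iv D6965) F26522 D6965
def n8829 : Q := act 6 n6967
theorem D8829 : act 6 n6967 = n8829 := rfl
theorem F41267 : act 2 n8829 = n6969 := d20_1 D8829 (iv D6969) (iv F33008)
def n8830 : Q := act 9 n6967
theorem D8830 : act 9 n6967 = n8830 := rfl
theorem F41274 : act 5 n8830 = n6968 := d38_1 D8830 (iv D6968) D6967
def n8832 : Q := act 9 n6969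
theorem D8832 : act 9 n6969 = n8832 := rfl
theorem F41284 : act 3 n8832 = n6972 := d29_1 D8832 (iv D6972) (iv F33021)
theorem F41286 : act 6 n8832 = n6970 := d41_1 D8832 (iv D6970) D6969
def n8833 : Q := act 8 n6970
theorem D8833 : act 8 n6970 = n8833 := rfl
def n8835 : Q := act 8 n6972
theorem D8835 : act 8 n6972 = n8835 := rfl
theorem F41304 : act 6 n8835 = n6973 := d40_1 D8835 (iv D6973) (iv F33041)
def n8836 : Q := act 5 n6974
theorem D8836 : act 5 n6974 = n8836 := rfl
theorem F41306 : act 0 n8836 = n8836 := d4_1 D8836 (iv D8836) F33049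
theorem F41307 : act 1 n8836 = n6975 := d12_1 D8836 (iv D6975) (iv F33050)
theorem F41308 : act 2 n8836 = n8836 := d19_1 D8836 (iv D8836) F33051
theorem F41309 : act 3 n8836 = n8836 := d25_1 D8836 (iv D8836) F33052
theorem F41310 : act 6 n8836 = n7003 := d35_2 D6974 D8836 (iv D7003) (iv D5560) (iv F26565)
def n8837 : Q := act 7 n6974
theorem D8837 : act 7 n6974 = n8837 := rfl
def n8838 : Q := act 4 n6975
theorem D8838 : act 4 n6975 = n8838 := rfl
theorem F41319 : act 2 n8838 = n6977 := d18_1 D8838 (iv D6977) (iv F33055)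
theorem F41320 : act 6 n8838 = n7005 := d31_2 (iv F33057) D8838 (iv D7005)
def n8839 : Q := act 7 n6975
theorem D8839 : act 7 n6975 = n8839 := rfl
theorem F41323 : act 2 n8839 = n6978 := d21_1 D8839 (iv D6978) (iv F33055)
theorem F41325 : act 5 n8839 = n6976 := d36_1 D8839 (iv D6976) D6975
def n8840 : Q := act 8 n6975
theorem D8840 : act 8 n6975 = n8840 := rfl
theorem F41330 : act 6 n8840 = n7007 := d40_1 D8840 (iv D7007) (iv F33057)
def n8841 : Q := act 7 n6977
theorem D8841 : act 7 n6977 = n8841 := rfl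
theorem F41334 : act 4 n8841 = n6978 := d32_1 D8841 (iv D6978) D6977
def n8842 : Q := act 8 n6977
theorem D8842 : act 8 n6977 = n8842 := rfl
theorem F41336 : act 0 n8842 = n6987 := d7_1 D8842 (iv D6987) (iv F33064)
theorem F41340 : act 6 n8842 = n7009 := d40_1 D8842 (iv D7009) (iv F33067)
def n8843 : Q := act 6 n6978
theorem D8843 : act 6 n6978 = n8843 := rfl
theorem F41343 : act 3 n8843 = n6980 := d26_1 D8843 (iv D6980) (iv F33071)
def n8844 : Q := act 8 n6978
theorem D8844 : act 8 n6978 = n8844 := rfl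
theorem F41350 : act 7 n8844 = n6979 := d42_1 D8844 (iv D6979) D6978
def n8845 : Q := act 9 n6979
theorem D8845 : act 9 n6979 = n8845 := rfl
def n8846 : Q := act 8 n6980
theorem D8846 : act 8 n6980 = n8846 := rfl
theorem F41356 : act 0 n8846 = n6991 := d7_1 D8846 (iv D6991) (iv F33078)
theorem F41358 : act 2 n8846 = n8846 := d22_1 D8846 (iv D8846) F33080
theorem F41360 : act 6 n8846 = n6981 := d40_1 D8846 (iv D6981) D6980
theorem F41361 : act 7 n8846 = n7013 := d42_1 D8846 (iv D7013) (iv F33083)
def n8847 : Q := act 9 n6981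
theorem D8847 : act 9 n6981 = n8847 := rfl
theorem F41366 : act 7 n8847 = n6982 := d43_1 D8847 (iv D6982) (iv F33089)
def n8848 : Q := act 3 n6983
theorem D8848 : act 3 n6983 = n8848 := rfl
theorem F41369 : act 2 n8848 = n8848 := d17_1 D8848 (iv D8848) F33097 F26604 (iv F33097)
theorem F41371 : act 6 n8848 = n7015 := d26_2 (iv F33098) D8848 (iv D7015)
theorem F41372 : act 9 n8848 = n8848 := d29_2 F33099 D8848 (iv D8848)
def n8849 : Q := act 7 n6983
theorem D8849 : act 7 n6983 = n8849 := rfl
theorem F41375 : act 4 n8849 = n6984 := d32_1 D8849 (iv D6984) D6983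
def n8850 : Q := act 8 n6983
theorem D8850 : act 8 n6983 = n8850 := rfl
theorem F41380 : act 6 n8850 = n7017 := d40_1 D8850 (iv D7017) (iv F33098)
def n8851 : Q := act 6 n6984
theorem D8851 : act 6 n6984 = n8851 := rfl
theorem F41382 : act 2 n8851 = n6988 := d20_1 D8851 (iv D6988) (iv F33101)
def n8852 : Q := act 8 n6984
theorem D8852 : act 8 n6984 = n8852 := rfl
def n8853 : Q := act 9 n6985
theorem D8853 : act 9 n6985 = n8853 := rfl
theorem F41394 : act 6 n8853 = n7020 := d41_1 D8853 (iv D7020) (iv F33108)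
def n8854 : Q := act 6 n6986
theorem D8854 : act 6 n6986 = n8854 := rfl
theorem F41398 : act 4 n8854 = n6988 := d31_1 D8854 (iv D6988) (iv F33111)
def n8855 : Q := act 8 n6986
theorem D8855 : act 8 n6986 = n8855 := rfl
def n8856 : Q := act 5 n6987
theorem D8856 : act 5 n6987 = n8856 := rfl
theorem F41405 : act 1 n8856 = n6995 := d12_1 D8856 (iv D6995) (iv F33113)
def n8857 : Q := act 9 n6987
theorem D8857 : act 9 n6987 = n8857 := rfl
theorem F41410 : act 6 n8857 = n7024 := d41_1 D8857 (iv D7024) (iv F33116)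
def n8858 : Q := act 8 n6988
theorem D8858 : act 8 n6988 = n8858 := rfl
theorem F41413 : act 3 n8858 = n6991 := d28_1 D8858 (iv D6991) (iv F33118)
theorem F41414 : act 6 n8858 = n6989 := d40_1 D8858 (iv D6989) D6988
def n8859 : Q := act 9 n6989
theorem D8859 : act 9 n6989 = n8859 := rfl
theorem F41418 : act 7 n8859 = n6990 := d43_1 D8859 (iv D6990) (iv F33124)
def n8860 : Q := act 5 n6991
theorem D8860 : act 5 n6991 = n8860 := rfl
theorem F41420 : act 1 n8860 = n6999 := d12_1 D8860 (iv D6999) (iv F33129)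
theorem F41422 : act 7 n8860 = n7027 := d36_2 (iv F33133) D8860 (iv D7027)
def n8861 : Q := act 9 n6991
theorem D8861 : act 9 n6991 = n8861 := rfl
theorem F41427 : act 6 n8861 = n6992 := d41_1 D8861 (iv D6992) (iv F33132)
def n8863 : Q := act 8 n6993
theorem D8863 : act 8 n6993 = n8863 := rfl
theorem F41440 : act 4 n8863 = n6997 := d33_1 D8863 (iv D6997) (iv F33142)
theorem F41442 : act 6 n8863 = n6994 := d40_1 D8863 (iv D6994) D6993
def n8864 : Q := act 5 n6994
theorem D8864 : act 5 n6994 = n8864 := rfl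
def n8865 : Q := act 9 n6994
theorem D8865 : act 9 n6994 = n8865 := rfl
def n8866 : Q := act 6 n6995
theorem D8866 : act 6 n6995 = n8866 := rfl
def n8867 : Q := act 9 n6995
theorem D8867 : act 9 n6995 = n8867 := rfl
def n8868 : Q := act 5 n6997
theorem D8868 : act 5 n6997 = n8868 := rfl
theorem F41466 : act 3 n8868 = n6999 := d25_1 D8868 (iv D6999) (iv F33161)
def n8869 : Q := act 9 n6997
theorem D8869 : act 9 n6997 = n8869 := rfl
theorem F41473 : act 6 n8869 = n6998 := d41_1 D8869 (iv D6998) (iv F33162)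
def n8870 : Q := act 4 n6999
theorem D8870 : act 4 n6999 = n8870 := rfl
theorem F41477 : act 2 n8870 = n7001 := d18_1 D8870 (iv D7001) (iv F33170)
def n8871 : Q := act 9 n6999
theorem D8871 : act 9 n6999 = n8871 := rfl
theorem F41484 : act 5 n8871 = n7000 := d38_1 D8871 (iv D7000) D6999
def n8872 : Q := act 3 n7001
theorem D8872 : act 3 n7001 = n8872 := rfl
def n8873 : Q := act 9 n7001
theorem D8873 : act 9 n7001 = n8873 := rfl
theorem F41495 : act 4 n8873 = n7002 := d34_1 D8873 (iv D7002) D7001
def n8874 : Q := act 8 n7002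
theorem D8874 : act 8 n7002 = n8874 := rfl
theorem F41502 : act 7 n8874 = n7041 := d42_1 D8874 (iv D7041) (iv F33188)
def n8875 : Q := act 4 n7003
theorem D8875 : act 4 n7003 = n8875 := rfl
theorem F41505 : act 1 n8875 = n7005 := d11_1 D8875 (iv D7005) (iv F33190)
def n8876 : Q := act 7 n7003
theorem D8876 : act 7 n7003 = n8876 := rfl
theorem F41513 : act 5 n8876 = n7004 := d36_1 D8876 (iv D7004) D7003
def n8877 : Q := act 8 n7003
theorem D8877 : act 8 n7003 = n8877 := rfl
def n8878 : Q := act 3 n7005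
theorem D8878 : act 3 n7005 = n8878 := rfl
def n8880 : Q := act 8 n7005
theorem D8880 : act 8 n7005 = n8880 := rfl
theorem F41531 : act 2 n8880 = n7009 := d22_1 D8880 (iv D7009) (iv F33203)
theorem F41532 : act 4 n8880 = n7007 := d33_1 D8880 (iv D7007) D7005
def n8883 : Q := act 9 n7007
theorem D8883 : act 9 n7007 = n8883 := rfl
def n8884 : Q := act 6 n7008
theorem D8884 : act 6 n7008 = n8884 := rfl
theorem F41548 : act 0 n8884 = n7021 := d5_1 D8884 (iv D7021) (iv F33215)
theorem F41551 : act 4 n8884 = n7010 := d31_1 D8884 (iv D7010) (iv F33218)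
def n8885 : Q := act 8 n7008
theorem D8885 : act 8 n7008 = n8885 := rfl
theorem F41557 : act 7 n8885 = n7009 := d42_1 D8885 (iv D7009) D7008
def n8886 : Q := act 5 n7009
theorem D8886 : act 5 n7009 = n8886 := rfl
def n8887 : Q := act 9 n7009
theorem D8887 : act 9 n7009 = n8887 := rfl
theorem F41566 : act 4 n8887 = n7012 := d34_1 D8887 (iv D7012) (iv F33224)
def n8888 : Q := act 8 n7010
theorem D8888 : act 8 n7010 = n8888 := rfl
theorem F41570 : act 3 n8888 = n7013 := d28_1 D8888 (iv D7013) (iv F33227)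
def n8890 : Q := act 5 n7013
theorem D8890 : act 5 n7013 = n8890 := rfl
theorem F41580 : act 2 n8890 = n8890 := d19_1 D8890 (iv D8890) F33242
def n8891 : Q := act 9 n7013
theorem D8891 : act 9 n7013 = n8891 := rfl
theorem F41587 : act 6 n8891 = n7014 := d41_1 D8891 (iv D7014) (iv F33244)
def n8892 : Q := act 7 n7015
theorem D8892 : act 7 n7015 = n8892 := rfl
def n8893 : Q := act 8 n7015
theorem D8893 : act 8 n7015 = n8893 := rfl
theorem F41597 : act 3 n8893 = n7017 := d28_1 D8893 (iv D7017) D7015
def n8896 : Q := act 5 n7017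
theorem D8896 : act 5 n7017 = n8896 := rfl
theorem F41608 : act 2 n8896 = n7023 := d19_1 D8896 (iv D7023) (iv F33263)
def n8897 : Q := act 9 n7017
theorem D8897 : act 9 n7017 = n8897 := rfl
theorem F41613 : act 4 n8897 = n7020 := d34_1 D8897 (iv D7020) (iv F33264)
def n8900 : Q := act 5 n7021
theorem D8900 : act 5 n7021 = n8900 := rfl
theorem F41625 : act 1 n8900 = n7029 := d12_1 D8900 (iv D7029) (iv F33280)
theorem F41630 : act 8 n8900 = n8900 := d15_0 F41625 F33325 (iv F41625)
def n8901 : Q := act 8 n7021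
theorem D8901 : act 8 n7021 = n8901 := rfl
theorem F41633 : act 4 n8901 = n7025 := d33_1 D8901 (iv D7025) (iv F33282)
theorem F41634 : act 5 n8901 = n8901 := d37_1 D8901 (iv D8901) D8900 F41630 (iv D8900)
theorem F41635 : act 6 n8901 = n7022 := d40_1 D8901 (iv D7022) D7021
def n8902 : Q := act 5 n7022
theorem D8902 : act 5 n7022 = n8902 := rfl
theorem F41639 : act 6 n8902 = n8902 := d35_2 F41635 D8902 (iv D8902) (iv F41635) F41634
theorem F41640 : act 7 n8902 = n7023 := d36_2 (iv F33287) D8902 (iv D7023)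
def n8904 : Q := act 6 n7023
theorem D8904 : act 6 n7023 = n8904 := rfl
theorem F41650 : act 7 n8904 = n8904 := d39_2 F41640 D8904 (iv D8904) (iv F41640) F41639
def n8905 : Q := act 9 n7023
theorem D8905 : act 9 n7023 = n8905 := rfl
theorem F41655 : act 5 n8905 = n7024 := d38_1 D8905 (iv D7024) D7023
def n8906 : Q := act 5 n7025
theorem D8906 : act 5 n7025 = n8906 := rfl
theorem F41657 : act 3 n8906 = n7027 := d25_1 D8906 (iv D7027) (iv F33297)
theorem F41658 : act 4 n8906 = n8906 := d30_1 D8906 (iv D8906) (iv F41633) F41634 F41633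
def n8908 : Q := act 4 n7027
theorem D8908 : act 4 n7027 = n8908 := rfl
theorem F41666 : act 2 n8908 = n8908 := d18_1 D8908 (iv D8908) F33305
theorem F41667 : act 3 n8908 = n8908 := d24_1 D8908 (iv D8908) (iv F41657) F41658 F41657
def n8909 : Q := act 9 n7027
theorem D8909 : act 9 n7027 = n8909 := rfl
theorem F41673 : act 5 n8909 = n7028 := d38_1 D8909 (iv D7028) D7027
def n8919 : Q := act 4 n7042
theorem D8919 : act 4 n7042 = n8919 := rfl
theorem F41730 : act 0 n8919 = n8919 := d3_1 D8919 (iv D8919) F33389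
theorem F41731 : act 1 n8919 = n7069 := d11_1 D8919 (iv D7069) (iv F33390)
theorem F41732 : act 2 n8919 = n8349 := d18_1 D8919 (iv D8349) (iv F33391)
theorem F41733 : act 3 n8919 = n8919 := d24_1 D8919 (iv D8919) F33392 F26837 (iv F33392)
theorem F41734 : act 5 n8919 = n8324 := d30_2 D7042 D8919 (iv D8324) (iv D6578) (iv F26822)
theorem F41735 : act 7 n8919 = n8919 := d32_2 F33393 D8919 (iv D8919)
theorem F41736 : act 8 n8919 = n7049 := d33_2 (iv F33394) D8919 (iv D7049)
theorem F41737 : act 9 n8919 = n8919 := d34_2 F33395 D8919 (iv D8919)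
def n8920 : Q := act 6 n7042
theorem D8920 : act 6 n7042 = n8920 := rfl
theorem F41738 : act 0 n8920 = n8920 := d5_1 D8920 (iv D8920) F33389
theorem F41739 : act 1 n8920 = n7070 := d13_1 D8920 (iv D7070) (iv F33390)
theorem F41740 : act 2 n8920 = n8350 := d20_1 D8920 (iv D8350) (iv F33391)
theorem F41741 : act 3 n8920 = n7044 := d26_1 D8920 (iv D7044) (iv F33392)
theorem F41742 : act 5 n8920 = n8320 := d35_1 D8920 (iv D8320) (iv D6575) (iv F26823) D7042
theorem F41743 : act 8 n8920 = n7050 := d40_2 (iv F33394) D8920 (iv D7050)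
theorem F41744 : act 9 n8920 = n8920 := d41_2 F33395 D8920 (iv D8920)
def n8921 : Q := act 4 n7043
theorem D8921 : act 4 n7043 = n8921 := rfl
theorem F41745 : act 0 n8921 = n8921 := d3_1 D8921 (iv D8921) F33396
theorem F41746 : act 1 n8921 = n7074 := d11_1 D8921 (iv D7074) (iv F33397)
theorem F41747 : act 2 n8921 = n8921 := d18_1 D8921 (iv D8921) F33398
theorem F41748 : act 5 n8921 = n7045 := d30_2 D7043 D8921 (iv D7045) (iv D5592) (iv F26830)
theorem F41749 : act 7 n8921 = n8317 := d32_2 (iv F33400) D8921 (iv D8317)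
theorem F41750 : act 8 n8921 = n8117 := d33_2 (iv F33401) D8921 (iv D8117)
theorem F41751 : act 9 n8921 = n8921 := d34_2 F33402 D8921 (iv D8921)
def n8922 : Q := act 6 n7043
theorem D8922 : act 6 n7043 = n8922 := rfl
theorem F41752 : act 0 n8922 = n8922 := d5_1 D8922 (iv D8922) F33396
theorem F41753 : act 1 n8922 = n7075 := d13_1 D8922 (iv D7075) (iv F33397)
theorem F41754 : act 2 n8922 = n8922 := d20_1 D8922 (iv D8922) F33398
theorem F41755 : act 3 n8922 = n8320 := d26_1 D8922 (iv D8320) (iv F33399)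
theorem F41756 : act 5 n8922 = n7044 := d35_1 D8922 (iv D7044) (iv D5591) (iv F26831) D7043
theorem F41757 : act 8 n8922 = n8118 := d40_2 (iv F33401) D8922 (iv D8118)
theorem F41758 : act 9 n8922 = n8922 := d41_2 F33402 D8922 (iv D8922)
def n8923 : Q := act 7 n7044
theorem D8923 : act 7 n7044 = n8923 := rfl
theorem F41759 : act 0 n8923 = n8923 := d6_1 D8923 (iv D8923) F33403
theorem F41760 : act 1 n8923 = n7076 := d14_1 D8923 (iv D7076) (iv F33404)
theorem F41761 : act 2 n8923 = n8923 := d21_1 D8923 (iv D8923) F33405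
theorem F41762 : act 4 n8923 = n8923 := d32_1 D8923 (iv D8923) F33406
theorem F41763 : act 6 n8923 = n8923 := d39_1 D8923 (iv D8923) (iv D7044) F26838 D7044
theorem F41764 : act 8 n8923 = n7051 := d42_2 (iv F33407) D8923 (iv D7051)
theorem F41765 : act 9 n8923 = n8923 := d43_2 F33408 D8923 (iv D8923)
def n8924 : Q := act 3 n7045
theorem D8924 : act 3 n7045 = n8924 := rfl
theorem F41766 : act 0 n8924 = n8924 := d2_1 D8924 (iv D8924) F33409
theorem F41767 : act 1 n8924 = n7079 := d10_1 D8924 (iv D7079) (iv F33410)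
theorem F41768 : act 4 n8924 = n8592 := d24_2 D7045 D8924 (iv D8592) (iv D6779) (iv F26844)
theorem F41769 : act 6 n8924 = n8924 := d26_2 F33412 D8924 (iv D8924)
theorem F41770 : act 7 n8924 = n8590 := d27_2 (iv F33413) D8924 (iv D8590)
theorem F41771 : act 8 n8924 = n8924 := d28_2 F33414 D8924 (iv D8924)
theorem F41772 : act 9 n8924 = n8924 := d29_2 F33415 D8924 (iv D8924)
def n8925 : Q := act 8 n7046
theorem D8925 : act 8 n7046 = n8925 := rfl
theorem F41773 : act 0 n8925 = n7047 := d7_1 D8925 (iv D7047) (iv F33416)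
theorem F41774 : act 1 n8925 = n8925 := d15_1 D8925 (iv D8925) F33417
theorem F41775 : act 2 n8925 = n7082 := d22_1 D8925 (iv D7082) (iv F33418)
theorem F41776 : act 3 n8925 = n8925 := d28_1 D8925 (iv D8925) F33419
theorem F41777 : act 4 n8925 = n8925 := d33_1 D8925 (iv D8925) F33420
theorem F41778 : act 6 n8925 = n8152 := d40_1 D8925 (iv D8152) (iv F33422)
theorem F41779 : act 7 n8925 = n8925 := d42_1 D8925 (iv D8925) F33423
theorem F41780 : act 9 n8925 = n7052 := d44_2 D7046 D8925 (iv D7052) (iv D5598) (iv F26856)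
def n8926 : Q := act 5 n7047
theorem D8926 : act 5 n7047 = n8926 := rfl
theorem F41781 : act 1 n8926 = n7048 := d12_1 D8926 (iv D7048) (iv F33424)
theorem F41782 : act 2 n8926 = n7085 := d19_1 D8926 (iv D7085) (iv F33425)
theorem F41783 : act 3 n8926 = n8926 := d25_1 D8926 (iv D8926) F33426
theorem F41784 : act 7 n8926 = n8926 := d36_2 F33429 D8926 (iv D8926)
theorem F41785 : act 8 n8926 = n7815 := d37_2 D7047 D8926 (iv D7815) (iv D6198) (iv F26861)
theorem F41786 : act 9 n8926 = n7053 := d38_2 (iv F33430) D8926 (iv D7053)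
def n8927 : Q := act 4 n7048
theorem D8927 : act 4 n7048 = n8927 := rfl
theorem F41787 : act 0 n8927 = n8927 := d3_1 D8927 (iv D8927) F33431
theorem F41788 : act 2 n8927 = n7049 := d18_1 D8927 (iv D7049) (iv F33432)
theorem F41789 : act 5 n8927 = n8927 := d30_2 D7048 D8927 (iv D8927) (iv D7048) F26867
theorem F41790 : act 7 n8927 = n8927 := d32_2 F33434 D8927 (iv D8927)
theorem F41791 : act 8 n8927 = n8349 := d33_2 (iv F33435) D8927 (iv D8349)
theorem F41792 : act 9 n8927 = n7054 := d34_2 (iv F33436) D8927 (iv D7054)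
def n8928 : Q := act 6 n7048
theorem D8928 : act 6 n7048 = n8928 := rfl
theorem F41793 : act 0 n8928 = n8928 := d5_1 D8928 (iv D8928) F33431
theorem F41794 : act 2 n8928 = n7050 := d20_1 D8928 (iv D7050) (iv F33432)
theorem F41795 : act 3 n8928 = n8928 := d26_1 D8928 (iv D8928) F33433
theorem F41796 : act 5 n8928 = n8187 := d35_1 D8928 (iv D8187) (iv D6470) (iv F26868) D7048
theorem F41797 : act 8 n8928 = n8350 := d40_2 (iv F33435) D8928 (iv D8350)
theorem F41798 : act 9 n8928 = n7055 := d41_2 (iv F33436) D8928 (iv D7055)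
def n8929 : Q := act 6 n7049
theorem D8929 : act 6 n7049 = n8929 := rfl
theorem F41799 : act 0 n8929 = n8929 := d5_1 D8929 (iv D8929) F33437
theorem F41800 : act 1 n8929 = n7096 := d13_1 D8929 (iv D7096) (iv F33438)
theorem F41801 : act 3 n8929 = n8929 := d26_1 D8929 (iv D8929) F33439
theorem F41802 : act 4 n8929 = n7050 := d31_1 D8929 (iv D7050) D7049
theorem F41803 : act 9 n8929 = n7056 := d41_2 (iv F33442) D8929 (iv D7056)
def n8930 : Q := act 7 n7050
theorem D8930 : act 7 n7050 = n8930 := rfl
theorem F41804 : act 0 n8930 = n8930 := d6_1 D8930 (iv D8930) F33443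
theorem F41805 : act 1 n8930 = n7097 := d14_1 D8930 (iv D7097) (iv F33444)
theorem F41806 : act 3 n8930 = n7051 := d27_1 D8930 (iv D7051) (iv F33445)
theorem F41807 : act 5 n8930 = n8216 := d36_1 D8930 (iv D8216) (iv F33446)
theorem F41808 : act 6 n8930 = n8930 := d39_1 D8930 (iv D8930) (iv D7050) F26874 D7050
theorem F41809 : act 9 n8930 = n7057 := d43_2 (iv F33447) D8930 (iv D7057)
def n8931 : Q := act 5 n7052
theorem D8931 : act 5 n7052 = n8931 := rfl
theorem F41810 : act 0 n8931 = n7053 := d4_1 D8931 (iv D7053) (iv F33455)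
theorem F41811 : act 1 n8931 = n8931 := d12_1 D8931 (iv D8931) F33456
theorem F41812 : act 2 n8931 = n7105 := d19_1 D8931 (iv D7105) (iv F33457)
theorem F41813 : act 3 n8931 = n8931 := d25_1 D8931 (iv D8931) F33458
theorem F41814 : act 7 n8931 = n8931 := d36_2 F33461 D8931 (iv D8931)
theorem F41815 : act 8 n8931 = n8931 := d37_2 D7052 D8931 (iv D8931) (iv D7052) F26887
def n8932 : Q := act 4 n7053
theorem D8932 : act 4 n7053 = n8932 := rfl
theorem F41816 : act 1 n8932 = n7054 := d11_1 D8932 (iv D7054) (iv F33462)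
theorem F41817 : act 2 n8932 = n7107 := d18_1 D8932 (iv D7107) (iv F33463)
theorem F41818 : act 5 n8932 = n8932 := d30_2 D7053 D8932 (iv D8932) (iv D7053) F26893
theorem F41819 : act 7 n8932 = n8932 := d32_2 F33465 D8932 (iv D8932)
theorem F41820 : act 8 n8932 = n8932 := d33_2 F33466 D8932 (iv D8932)
def n8933 : Q := act 6 n7053
theorem D8933 : act 6 n7053 = n8933 := rfl
theorem F41821 : act 1 n8933 = n7055 := d13_1 D8933 (iv D7055) (iv F33462)
theorem F41822 : act 2 n8933 = n7108 := d20_1 D8933 (iv D7108) (iv F33463)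
theorem F41823 : act 3 n8933 = n8933 := d26_1 D8933 (iv D8933) F33464
theorem F41824 : act 5 n8933 = n8168 := d35_1 D8933 (iv D8168) (iv D6457) (iv F26894) D7053
theorem F41825 : act 8 n8933 = n8933 := d40_2 F33466 D8933 (iv D8933)
def n8934 : Q := act 3 n7054
theorem D8934 : act 3 n7054 = n8934 := rfl
theorem F41826 : act 0 n8934 = n8934 := d2_1 D8934 (iv D8934) F33467
theorem F41827 : act 2 n8934 = n8934 := d17_1 D8934 (iv D8934) F33468 F26903 (iv F33468)
theorem F41828 : act 4 n8934 = n8934 := d24_2 D7054 D8934 (iv D8934) (iv D7054) F26898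
theorem F41829 : act 5 n8934 = n8934 := d25_2 F33469 D8934 (iv D8934)
theorem F41830 : act 7 n8934 = n8934 := d27_2 F33470 D8934 (iv D8934)
theorem F41831 : act 8 n8934 = n8934 := d28_2 F33471 D8934 (iv D8934)
def n8935 : Q := act 6 n7054
theorem D8935 : act 6 n7054 = n8935 := rfl
theorem F41832 : act 0 n8935 = n8935 := d5_1 D8935 (iv D8935) F33467
theorem F41833 : act 2 n8935 = n7056 := d20_1 D8935 (iv D7056) (iv F33468)
theorem F41834 : act 4 n8935 = n7055 := d31_1 D8935 (iv D7055) D7054
theorem F41835 : act 8 n8935 = n8935 := d40_2 F33471 D8935 (iv D8935)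
def n8936 : Q := act 7 n7055
theorem D8936 : act 7 n7055 = n8936 := rfl
theorem F41836 : act 0 n8936 = n8936 := d6_1 D8936 (iv D8936) F33472
theorem F41837 : act 2 n8936 = n7057 := d21_1 D8936 (iv D7057) (iv F33473)
theorem F41838 : act 3 n8936 = n8936 := d27_1 D8936 (iv D8936) F33474
theorem F41839 : act 5 n8936 = n8190 := d36_1 D8936 (iv D8190) (iv F33475)
theorem F41840 : act 6 n8936 = n8936 := d39_1 D8936 (iv D8936) (iv D7055) F26899 D7055
theorem F41841 : act 8 n8936 = n8936 := d42_2 F33476 D8936 (iv D8936)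
def n8937 : Q := act 5 n7056
theorem D8937 : act 5 n7056 = n8937 := rfl
theorem F41842 : act 0 n8937 = n8937 := d4_1 D8937 (iv D8937) F33477
theorem F41843 : act 1 n8937 = n7117 := d12_1 D8937 (iv D7117) (iv F33478)
theorem F41844 : act 3 n8937 = n8937 := d25_1 D8937 (iv D8937) F33479
theorem F41845 : act 4 n8937 = n8219 := d30_1 D8937 (iv D8219) F30896 (iv F26910) (iv F33480)
theorem F41846 : act 6 n8937 = n8937 := d35_2 D7056 D8937 (iv D8937) (iv D7056) F26904
def n8938 : Q := act 7 n7056
theorem D8938 : act 7 n7056 = n8938 := rfl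
theorem F41847 : act 0 n8938 = n8938 := d6_1 D8938 (iv D8938) F33477
theorem F41848 : act 1 n8938 = n7118 := d14_1 D8938 (iv D7118) (iv F33478)
theorem F41849 : act 3 n8938 = n8938 := d27_1 D8938 (iv D8938) F33479
theorem F41850 : act 4 n8938 = n7057 := d32_1 D8938 (iv D7057) (iv F33480)
theorem F41851 : act 6 n8938 = n8938 := d39_1 D8938 (iv D8938) (iv D7056) F26905 D7056
theorem F41852 : act 8 n8938 = n8938 := d42_2 F33481 D8938 (iv D8938)
def n8939 : Q := act 5 n7058
theorem D8939 : act 5 n7058 = n8939 := rfl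
theorem F41853 : act 0 n8939 = n7454 := d4_1 D8939 (iv D7454) (iv F33488)
theorem F41854 : act 1 n8939 = n7798 := d12_1 D8939 (iv D7798) (iv F33489)
theorem F41855 : act 2 n8939 = n7059 := d19_1 D8939 (iv D7059) (iv F33490)
theorem F41856 : act 3 n8939 = n8939 := d25_1 D8939 (iv D8939) F33491
theorem F41857 : act 7 n8939 = n8939 := d36_2 F33494 D8939 (iv D8939)
theorem F41858 : act 8 n8939 = n8939 := d37_2 D7058 D8939 (iv D8939) (iv D7058) F26924
theorem F41859 : act 9 n8939 = n8939 := d38_2 F33495 D8939 (iv D8939)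
def n8940 : Q := act 4 n7059
theorem D8940 : act 4 n7059 = n8940 := rfl
theorem F41860 : act 0 n8940 = n7456 := d3_1 D8940 (iv D7456) (iv F33496)
theorem F41861 : act 1 n8940 = n8324 := d11_1 D8940 (iv D8324) (iv F33497)
theorem F41862 : act 3 n8940 = n8940 := d24_1 D8940 (iv D8940) F33498 F26937 (iv F33498)
theorem F41863 : act 5 n8940 = n7069 := d30_2 D7059 D8940 (iv D7069) (iv D5615) (iv F26930)
theorem F41864 : act 7 n8940 = n8940 := d32_2 F33499 D8940 (iv D8940)
theorem F41865 : act 8 n8940 = n8940 := d33_2 F33500 D8940 (iv D8940)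
theorem F41866 : act 9 n8940 = n8940 := d34_2 F33501 D8940 (iv D8940)
def n8941 : Q := act 6 n7059
theorem D8941 : act 6 n7059 = n8941 := rfl
theorem F41867 : act 0 n8941 = n7457 := d5_1 D8941 (iv D7457) (iv F33496)
theorem F41868 : act 1 n8941 = n8325 := d13_1 D8941 (iv D8325) (iv F33497)
theorem F41869 : act 3 n8941 = n7060 := d26_1 D8941 (iv D7060) (iv F33498)
theorem F41870 : act 5 n8941 = n8301 := d35_1 D8941 (iv D8301) (iv D6562) (iv F26931) D7059
theorem F41871 : act 8 n8941 = n8941 := d40_2 F33500 D8941 (iv D8941)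
theorem F41872 : act 9 n8941 = n8941 := d41_2 F33501 D8941 (iv D8941)
def n8942 : Q := act 7 n7060
theorem D8942 : act 7 n7060 = n8942 := rfl
theorem F41877 : act 5 n8942 = n8567 := d36_1 D8942 (iv D8567) (iv F33506)
def n8943 : Q := act 3 n7061
theorem D8943 : act 3 n7061 = n8943 := rfl
theorem F41881 : act 0 n8943 = n7463 := d2_1 D8943 (iv D7463) (iv F33509)
theorem F41882 : act 1 n8943 = n8592 := d10_1 D8943 (iv D8592) (iv F33510)
theorem F41883 : act 4 n8943 = n7079 := d24_2 D7061 D8943 (iv D7079) (iv D5622) (iv F26944)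
theorem F41884 : act 5 n8943 = n8565 := d25_2 (iv F33512) D8943 (iv D8565)
theorem F41885 : act 6 n8943 = n8943 := d26_2 F33513 D8943 (iv D8943)
theorem F41886 : act 7 n8943 = n8563 := d27_2 (iv F33514) D8943 (iv D8563)
theorem F41887 : act 8 n8943 = n8943 := d28_2 F33515 D8943 (iv D8943)
theorem F41888 : act 9 n8943 = n8943 := d29_2 F33516 D8943 (iv D8943)
def n8944 : Q := act 8 n7062
theorem D8944 : act 8 n7062 = n8944 := rfl
theorem F41889 : act 0 n8944 = n7063 := d7_1 D8944 (iv D7063) (iv F33517)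
theorem F41890 : act 1 n8944 = n7464 := d15_1 D8944 (iv D7464) (iv F33518)
theorem F41891 : act 2 n8944 = n7337 := d22_1 D8944 (iv D7337) (iv F33519)
theorem F41892 : act 3 n8944 = n7126 := d28_1 D8944 (iv D7126) (iv F33520)
theorem F41893 : act 4 n8944 = n7325 := d33_1 D8944 (iv D7325) (iv F33521)
theorem F41894 : act 6 n8944 = n7323 := d40_1 D8944 (iv D7323) (iv F33523)
theorem F41895 : act 7 n8944 = n8944 := d42_1 D8944 (iv D8944) F33524
theorem F41896 : act 9 n8944 = n8944 := d44_2 D7062 D8944 (iv D8944) (iv D7062) F26956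
def n8945 : Q := act 5 n7063
theorem D8945 : act 5 n7063 = n8945 := rfl
theorem F41897 : act 1 n8945 = n7066 := d12_1 D8945 (iv D7066) (iv F33525)
theorem F41898 : act 2 n8945 = n7815 := d19_1 D8945 (iv D7815) (iv F33526)
theorem F41899 : act 3 n8945 = n7130 := d25_1 D8945 (iv D7130) (iv F33527)
theorem F41900 : act 7 n8945 = n8945 := d36_2 F33530 D8945 (iv D8945)
theorem F41901 : act 8 n8945 = n7085 := d37_2 D7063 D8945 (iv D7085) (iv D5627) (iv F26961)
theorem F41902 : act 9 n8945 = n8945 := d38_2 F33531 D8945 (iv D8945)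
def n8946 : Q := act 8 n7064
theorem D8946 : act 8 n7064 = n8946 := rfl
theorem F41903 : act 0 n8946 = n7470 := d7_1 D8946 (iv D7470) (iv F33532)
theorem F41904 : act 1 n8946 = n7625 := d15_1 D8946 (iv D7625) (iv F33533)
theorem F41905 : act 2 n8946 = n7067 := d22_1 D8946 (iv D7067) (iv F33534)
theorem F41906 : act 3 n8946 = n7139 := d28_1 D8946 (iv D7139) (iv F33535)
theorem F41907 : act 4 n8946 = n7614 := d33_1 D8946 (iv D7614) (iv F33536)
theorem F41908 : act 6 n8946 = n7088 := d40_1 D8946 (iv D7088) (iv F33538)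
theorem F41909 : act 7 n8946 = n7613 := d42_1 D8946 (iv D7613) (iv F33539)
theorem F41910 : act 9 n8946 = n7628 := d44_2 D7064 D8946 (iv D7628) (iv D6058) F26971
def n8947 : Q := act 5 n7065
theorem D8947 : act 5 n7065 = n8947 := rfl
theorem F41911 : act 0 n8947 = n7472 := d4_1 D8947 (iv D7472) (iv F33540)
theorem F41912 : act 1 n8947 = n7795 := d12_1 D8947 (iv D7795) (iv F33541)
theorem F41913 : act 2 n8947 = n7068 := d19_1 D8947 (iv D7068) (iv F33542)
theorem F41914 : act 3 n8947 = n7141 := d25_1 D8947 (iv D7141) (iv F33543)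
theorem F41915 : act 7 n8947 = n7781 := d36_2 (iv F33546) D8947 (iv D7781)
theorem F41916 : act 9 n8947 = n8947 := d38_2 F33547 D8947 (iv D8947)
def n8948 : Q := act 4 n7066
theorem D8948 : act 4 n7066 = n8948 := rfl
theorem F41917 : act 0 n8948 = n7473 := d3_1 D8948 (iv D7473) (iv F33548)
theorem F41918 : act 2 n8948 = n7069 := d18_1 D8948 (iv D7069) (iv F33549)
theorem F41919 : act 7 n8948 = n8948 := d32_2 F33551 D8948 (iv D8948)
theorem F41920 : act 8 n8948 = n7090 := d33_2 (iv F33552) D8948 (iv D7090)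
theorem F41921 : act 9 n8948 = n8948 := d34_2 F33553 D8948 (iv D8948)
def n8949 : Q := act 6 n7066
theorem D8949 : act 6 n7066 = n8949 := rfl
theorem F41922 : act 0 n8949 = n7474 := d5_1 D8949 (iv D7474) (iv F33548)
theorem F41923 : act 2 n8949 = n7070 := d20_1 D8949 (iv D7070) (iv F33549)
theorem F41924 : act 3 n8949 = n7143 := d26_1 D8949 (iv D7143) (iv F33550)
theorem F41925 : act 8 n8949 = n7091 := d40_2 (iv F33552) D8949 (iv D7091)
theorem F41926 : act 9 n8949 = n8949 := d41_2 F33553 D8949 (iv D8949)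
def n8950 : Q := act 5 n7067
theorem D8950 : act 5 n7067 = n8950 := rfl
theorem F41927 : act 0 n8950 = n7477 := d4_1 D8950 (iv D7477) (iv F33554)
theorem F41928 : act 1 n8950 = n8060 := d12_1 D8950 (iv D8060) (iv F33555)
theorem F41929 : act 3 n8950 = n7072 := d25_1 D8950 (iv D7072) (iv F33556)
theorem F41930 : act 7 n8950 = n8046 := d36_2 (iv F33559) D8950 (iv D8046)
theorem F41931 : act 8 n8950 = n7068 := d37_2 D7067 D8950 (iv D7068) (iv D5614) (iv F26988)
theorem F41932 : act 9 n8950 = n7646 := d38_2 (iv F33560) D8950 (iv D7646)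
def n8951 : Q := act 4 n7068
theorem D8951 : act 4 n7068 = n8951 := rfl
theorem F41933 : act 0 n8951 = n7479 := d3_1 D8951 (iv D7479) (iv F33561)
theorem F41934 : act 1 n8951 = n8319 := d11_1 D8951 (iv D8319) (iv F33562)
theorem F41935 : act 5 n8951 = n8300 := d30_2 D7068 D8951 (iv D8300) (iv D6562) (iv F26994)
theorem F41936 : act 7 n8951 = n8298 := d32_2 (iv F33564) D8951 (iv D8298)
theorem F41937 : act 9 n8951 = n8951 := d34_2 F33565 D8951 (iv D8951)
def n8952 : Q := act 6 n7068
theorem D8952 : act 6 n7068 = n8952 := rfl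
theorem F41938 : act 0 n8952 = n7480 := d5_1 D8952 (iv D7480) (iv F33561)
theorem F41939 : act 1 n8952 = n8320 := d13_1 D8952 (iv D8320) (iv F33562)
theorem F41940 : act 3 n8952 = n7075 := d26_1 D8952 (iv D7075) (iv F33563)
theorem F41941 : act 5 n8952 = n7070 := d35_1 D8952 (iv D7070) (iv D5615) (iv F26995) D7068
theorem F41942 : act 9 n8952 = n8952 := d41_2 F33565 D8952 (iv D8952)
def n8953 : Q := act 6 n7069
theorem D8953 : act 6 n7069 = n8953 := rfl
theorem F41943 : act 0 n8953 = n7481 := d5_1 D8953 (iv D7481) (iv F33566)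
theorem F41944 : act 3 n8953 = n8953 := d26_1 D8953 (iv D8953) F33567
theorem F41945 : act 4 n8953 = n7070 := d31_1 D8953 (iv D7070) D7069
theorem F41946 : act 8 n8953 = n7096 := d40_2 (iv F33569) D8953 (iv D7096)
theorem F41947 : act 9 n8953 = n8953 := d41_2 F33570 D8953 (iv D8953)
def n8954 : Q := act 7 n7070
theorem D8954 : act 7 n7070 = n8954 := rfl
theorem F41948 : act 0 n8954 = n7482 := d6_1 D8954 (iv D7482) (iv F33571)
theorem F41949 : act 3 n8954 = n7076 := d27_1 D8954 (iv D7076) (iv F33572)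
theorem F41950 : act 6 n8954 = n8954 := d39_1 D8954 (iv D8954) (iv D7070) F27000 D7070
theorem F41951 : act 8 n8954 = n7097 := d42_2 (iv F33573) D8954 (iv D7097)
theorem F41952 : act 9 n8954 = n8954 := d43_2 F33574 D8954 (iv D8954)
def n8955 : Q := act 5 n7071
theorem D8955 : act 5 n7071 = n8955 := rfl
theorem F41953 : act 0 n8955 = n7483 := d4_1 D8955 (iv D7483) (iv F33575)
theorem F41954 : act 1 n8955 = n8011 := d12_1 D8955 (iv D8011) (iv F33576)
theorem F41955 : act 2 n8955 = n7159 := d19_1 D8955 (iv D7159) (iv F33577)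
theorem F41956 : act 3 n8955 = n8046 := d25_1 D8955 (iv D8046) (iv F33578)
theorem F41957 : act 7 n8955 = n7072 := d36_2 (iv F33581) D8955 (iv D7072)
theorem F41958 : act 8 n8955 = n7073 := d37_2 D7071 D8955 (iv D7073) (iv D5618) (iv F27008)
theorem F41959 : act 9 n8955 = n7588 := d38_2 (iv F33582) D8955 (iv D7588)
def n8956 : Q := act 4 n7072
theorem D8956 : act 4 n7072 = n8956 := rfl
theorem F41960 : act 0 n8956 = n7484 := d3_1 D8956 (iv D7484) (iv F33583)
theorem F41961 : act 1 n8956 = n8117 := d11_1 D8956 (iv D8117) (iv F33584)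
theorem F41962 : act 2 n8956 = n7161 := d18_1 D8956 (iv D7161) (iv F33585)
theorem F41963 : act 5 n8956 = n8956 := d30_2 D7072 D8956 (iv D8956) (iv D7072) F27014
theorem F41964 : act 8 n8956 = n7074 := d33_2 (iv F33586) D8956 (iv D7074)
theorem F41965 : act 9 n8956 = n7663 := d34_2 (iv F33587) D8956 (iv D7663)
def n8957 : Q := act 6 n7072
theorem D8957 : act 6 n7072 = n8957 := rfl
theorem F41966 : act 0 n8957 = n7485 := d5_1 D8957 (iv D7485) (iv F33583)
theorem F41967 : act 1 n8957 = n8118 := d13_1 D8957 (iv D8118) (iv F33584)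
theorem F41968 : act 2 n8957 = n7162 := d20_1 D8957 (iv D7162) (iv F33585)
theorem F41969 : act 5 n8957 = n7099 := d35_1 D8957 (iv D7099) (iv D5637) (iv F27015) D7072
theorem F41970 : act 8 n8957 = n7075 := d40_2 (iv F33586) D8957 (iv D7075)
theorem F41971 : act 9 n8957 = n7664 := d41_2 (iv F33587) D8957 (iv D7664)
def n8958 : Q := act 4 n7073
theorem D8958 : act 4 n7073 = n8958 := rfl
theorem F41972 : act 0 n8958 = n7486 := d3_1 D8958 (iv D7486) (iv F33588)
theorem F41973 : act 1 n8958 = n8317 := d11_1 D8958 (iv D8317) (iv F33589)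
theorem F41974 : act 2 n8958 = n7163 := d18_1 D8958 (iv D7163) (iv F33590)
theorem F41975 : act 5 n8958 = n7077 := d30_2 D7073 D8958 (iv D7077) (iv D5621) (iv F27021)
theorem F41976 : act 7 n8958 = n7074 := d32_2 (iv F33592) D8958 (iv D7074)
theorem F41977 : act 9 n8958 = n8958 := d34_2 F33593 D8958 (iv D8958)
def n8959 : Q := act 6 n7073
theorem D8959 : act 6 n7073 = n8959 := rfl
theorem F41978 : act 0 n8959 = n7487 := d5_1 D8959 (iv D7487) (iv F33588)
theorem F41979 : act 1 n8959 = n8318 := d13_1 D8959 (iv D8318) (iv F33589)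
theorem F41980 : act 2 n8959 = n7164 := d20_1 D8959 (iv D7164) (iv F33590)
theorem F41981 : act 3 n8959 = n8299 := d26_1 D8959 (iv D8299) (iv F33591)
theorem F41982 : act 5 n8959 = n8959 := d35_1 D8959 (iv D8959) (iv D7073) F27022 D7073
theorem F41983 : act 9 n8959 = n8959 := d41_2 F33593 D8959 (iv D8959)
def n8960 : Q := act 3 n7074
theorem D8960 : act 3 n7074 = n8960 := rfl
theorem F41984 : act 0 n8960 = n7488 := d2_1 D8960 (iv D7488) (iv F33594)
theorem F41985 : act 5 n8960 = n7079 := d25_2 (iv F33596) D8960 (iv D7079)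
theorem F41986 : act 9 n8960 = n8960 := d29_2 F33597 D8960 (iv D8960)
def n8961 : Q := act 6 n7074
theorem D8961 : act 6 n7074 = n8961 := rfl
theorem F41987 : act 0 n8961 = n7489 := d5_1 D8961 (iv D7489) (iv F33594)
theorem F41988 : act 2 n8961 = n7166 := d20_1 D8961 (iv D7166) (iv F33595)
theorem F41989 : act 4 n8961 = n7075 := d31_1 D8961 (iv D7075) D7074
theorem F41990 : act 5 n8961 = n8961 := d35_1 D8961 (iv D8961) F33596 F27042 (iv F33596)
theorem F41991 : act 9 n8961 = n8961 := d41_2 F33597 D8961 (iv D8961)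
def n8962 : Q := act 7 n7075
theorem D8962 : act 7 n7075 = n8962 := rfl
theorem F41992 : act 0 n8962 = n7490 := d6_1 D8962 (iv D7490) (iv F33598)
theorem F41993 : act 2 n8962 = n7167 := d21_1 D8962 (iv D7167) (iv F33599)
theorem F41994 : act 5 n8962 = n7076 := d36_1 D8962 (iv D7076) (iv F33600)
theorem F41995 : act 9 n8962 = n8962 := d43_2 F33601 D8962 (iv D8962)
def n8963 : Q := act 3 n7077
theorem D8963 : act 3 n7077 = n8963 := rfl
theorem F41996 : act 0 n8963 = n7491 := d2_1 D8963 (iv D7491) (iv F33608)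
theorem F41997 : act 1 n8963 = n8590 := d10_1 D8963 (iv D8590) (iv F33609)
theorem F41998 : act 4 n8963 = n8563 := d24_2 D7077 D8963 (iv D8563) (iv D6758) (iv F27036)
theorem F41999 : act 7 n8963 = n7079 := d27_2 (iv F33611) D8963 (iv D7079)
theorem F42000 : act 8 n8963 = n8963 := d28_2 F33612 D8963 (iv D8963)
theorem F42001 : act 9 n8963 = n8963 := d29_2 F33613 D8963 (iv D8963)
def n8964 : Q := act 6 n7077
theorem D8964 : act 6 n7077 = n8964 := rfl
theorem F42002 : act 0 n8964 = n7492 := d5_1 D8964 (iv D7492) (iv F33608)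
theorem F42003 : act 1 n8964 = n8591 := d13_1 D8964 (iv D8591) (iv F33609)
theorem F42004 : act 2 n8964 = n7169 := d20_1 D8964 (iv D7169) (iv F33610)
theorem F42005 : act 4 n8964 = n7078 := d31_1 D8964 (iv D7078) D7077
theorem F42006 : act 7 n8964 = n8964 := d39_2 (iv F33611) D8964 (iv D8964) F33611 F27042
theorem F42007 : act 8 n8964 = n8964 := d40_2 F33612 D8964 (iv D8964)
theorem F42008 : act 9 n8964 = n8964 := d41_2 F33613 D8964 (iv D8964)
def n8965 : Q := act 2 n7079
theorem D8965 : act 2 n7079 = n8965 := rfl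
theorem F42009 : act 0 n8965 = n7493 := d1_1 D8965 (iv D7493) (iv F33622)
theorem F42010 : act 3 n8965 = n7170 := d17_2 D7079 D8965 (iv D7170) (iv D5693) (iv F27041)
theorem F42011 : act 6 n8965 = n8965 := d20_2 F33623 D8965 (iv D8965)
theorem F42012 : act 8 n8965 = n8965 := d22_2 F33624 D8965 (iv D8965)
theorem F42013 : act 9 n8965 = n8965 := d23_2 F33625 D8965 (iv D8965)
def n8966 : Q := act 9 n7080
theorem D8966 : act 9 n7080 = n8966 := rfl
theorem F42014 : act 0 n8966 = n7083 := d8_1 D8966 (iv D7083) (iv F33626)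
theorem F42015 : act 1 n8966 = n7494 := d16_1 D8966 (iv D7494) (iv F33627)
theorem F42016 : act 2 n8966 = n7202 := d23_1 D8966 (iv D7202) (iv F33628)
theorem F42017 : act 3 n8966 = n7174 := d29_1 D8966 (iv D7174) (iv F33629)
theorem F42018 : act 4 n8966 = n7192 := d34_1 D8966 (iv D7192) F33633
theorem F42019 : act 5 n8966 = n7081 := d38_1 D8966 (iv D7081) D7080
theorem F42020 : act 6 n8966 = n7189 := d41_1 D8966 (iv D7189) (iv F33630)
theorem F42021 : act 7 n8966 = n7607 := d43_1 D8966 (iv D7607) (iv F33631)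
def n8967 : Q := act 8 n7081
theorem D8967 : act 8 n7081 = n8967 := rfl
theorem F42022 : act 0 n8967 = n7084 := d7_1 D8967 (iv D7084) (iv F33634)
theorem F42023 : act 1 n8967 = n7495 := d15_1 D8967 (iv D7495) (iv F33635)
theorem F42024 : act 2 n8967 = n8152 := d22_1 D8967 (iv D8152) (iv F33636)
theorem F42025 : act 3 n8967 = n7176 := d28_1 D8967 (iv D7176) (iv F33637)
theorem F42026 : act 4 n8967 = n8967 := d33_1 D8967 (iv D8967) F33638
theorem F42027 : act 6 n8967 = n7082 := d40_1 D8967 (iv D7082) (iv F33639)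
theorem F42028 : act 7 n8967 = n7687 := d42_1 D8967 (iv D7687) (iv F33640)
theorem F42029 : act 9 n8967 = n7104 := d44_2 D7081 D8967 (iv D7104) (iv D5642) (iv F27050)
def n8968 : Q := act 5 n7082
theorem D8968 : act 5 n7082 = n8968 := rfl
theorem F42030 : act 0 n8968 = n7085 := d4_1 D8968 (iv D7085) (iv F33641)
theorem F42031 : act 1 n8968 = n7496 := d12_1 D8968 (iv D7496) (iv F33642)
theorem F42032 : act 3 n8968 = n7177 := d25_1 D8968 (iv D7177) (iv F33643)
theorem F42033 : act 7 n8968 = n8968 := d36_2 F33645 D8968 (iv D8968)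
theorem F42034 : act 9 n8968 = n7105 := d38_2 (iv F33646) D8968 (iv D7105)
def n8969 : Q := act 8 n7083
theorem D8969 : act 8 n7083 = n8969 := rfl
theorem F42035 : act 1 n8969 = n7088 := d15_1 D8969 (iv D7088) (iv F33647)
theorem F42036 : act 2 n8969 = n7641 := d22_1 D8969 (iv D7641) (iv F33648)
theorem F42037 : act 3 n8969 = n7183 := d28_1 D8969 (iv D7183) (iv F33649)
theorem F42038 : act 4 n8969 = n7628 := d33_1 D8969 (iv D7628) (iv F33650)
theorem F42039 : act 6 n8969 = n7625 := d40_1 D8969 (iv D7625) (iv F33652)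
theorem F42040 : act 7 n8969 = n7615 := d42_1 D8969 (iv D7615) (iv F33653)
theorem F42041 : act 9 n8969 = n7614 := d44_2 D7083 D8969 (iv D7614) (iv D6046) (iv F27062)
def n8970 : Q := act 5 n7084
theorem D8970 : act 5 n7084 = n8970 := rfl
theorem F42042 : act 1 n8970 = n7089 := d12_1 D8970 (iv D7089) (iv F33654)
theorem F42043 : act 2 n8970 = n8166 := d19_1 D8970 (iv D8166) (iv F33655)
theorem F42044 : act 3 n8970 = n7185 := d25_1 D8970 (iv D7185) (iv F33656)
theorem F42045 : act 7 n8970 = n7695 := d36_2 (iv F33659) D8970 (iv D7695)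
theorem F42046 : act 9 n8970 = n7106 := d38_2 (iv F33660) D8970 (iv D7106)
def n8971 : Q := act 4 n7085
theorem D8971 : act 4 n7085 = n8971 := rfl
theorem F42047 : act 1 n8971 = n7090 := d11_1 D8971 (iv D7090) (iv F33661)
theorem F42048 : act 5 n8971 = n8971 := d30_2 D7085 D8971 (iv D8971) (iv D7085) F27072
theorem F42049 : act 7 n8971 = n8971 := d32_2 F33663 D8971 (iv D8971)
theorem F42050 : act 9 n8971 = n7107 := d34_2 (iv F33664) D8971 (iv D7107)
def n8972 : Q := act 6 n7085
theorem D8972 : act 6 n7085 = n8972 := rfl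
theorem F42051 : act 1 n8972 = n7091 := d13_1 D8972 (iv D7091) (iv F33661)
theorem F42052 : act 3 n8972 = n7187 := d26_1 D8972 (iv D7187) (iv F33662)
theorem F42053 : act 9 n8972 = n7108 := d41_2 (iv F33664) D8972 (iv D7108)
def n8973 : Q := act 9 n7086
theorem D8973 : act 9 n7086 = n8973 := rfl
theorem F42054 : act 0 n8973 = n7502 := d8_1 D8973 (iv D7502) (iv F33665)
theorem F42055 : act 1 n8973 = n7138 := d16_1 D8973 (iv D7138) (iv F33666)
theorem F42056 : act 2 n8973 = n8973 := d23_1 D8973 (iv D8973) F33667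
theorem F42057 : act 3 n8973 = n7087 := d29_1 D8973 (iv D7087) D7086
theorem F42058 : act 4 n8973 = n7188 := d34_1 D8973 (iv D7188) (iv F33668)
theorem F42059 : act 5 n8973 = n8973 := d38_1 D8973 (iv D8973) F33669
theorem F42060 : act 6 n8973 = n7182 := d41_1 D8973 (iv D7182) (iv F33670)
theorem F42061 : act 7 n8973 = n7623 := d43_1 D8973 (iv D7623) (iv F33671)
def n8974 : Q := act 8 n7087
theorem D8974 : act 8 n7087 = n8974 := rfl
theorem F42062 : act 0 n8974 = n7503 := d7_1 D8974 (iv D7503) (iv F33673)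
theorem F42063 : act 1 n8974 = n7628 := d15_1 D8974 (iv D7628) (iv F33674)
theorem F42064 : act 2 n8974 = n7092 := d22_1 D8974 (iv D7092) (iv F33675)
theorem F42065 : act 4 n8974 = n7088 := d33_1 D8974 (iv D7088) (iv F33676)
theorem F42066 : act 6 n8974 = n7614 := d40_1 D8974 (iv D7614) (iv F33678)
theorem F42067 : act 7 n8974 = n7626 := d42_1 D8974 (iv D7626) (iv F33679)
theorem F42068 : act 9 n8974 = n7625 := d44_2 D7087 D8974 (iv D7625) (iv D6055) (iv F27081)
def n8975 : Q := act 5 n7088
theorem D8975 : act 5 n7088 = n8975 := rfl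
theorem F42069 : act 0 n8975 = n7504 := d4_1 D8975 (iv D7504) (iv F33680)
theorem F42070 : act 2 n8975 = n7093 := d19_1 D8975 (iv D7093) (iv F33681)
theorem F42071 : act 3 n8975 = n7195 := d25_1 D8975 (iv D7195) (iv F33682)
theorem F42072 : act 7 n8975 = n7630 := d36_2 (iv F33683) D8975 (iv D7630)
theorem F42073 : act 8 n8975 = n7089 := d37_2 D7088 D8975 (iv D7089) (iv D5630) (iv F27085)
theorem F42074 : act 9 n8975 = n7629 := d38_2 (iv F33684) D8975 (iv D7629)
def n8976 : Q := act 4 n7089
theorem D8976 : act 4 n7089 = n8976 := rfl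
theorem F42075 : act 0 n8976 = n7505 := d3_1 D8976 (iv D7505) (iv F33685)
theorem F42076 : act 2 n8976 = n7094 := d18_1 D8976 (iv D7094) (iv F33686)
theorem F42077 : act 5 n8976 = n8976 := d30_2 D7089 D8976 (iv D8976) (iv D7089) F27090
theorem F42078 : act 7 n8976 = n7707 := d32_2 (iv F33688) D8976 (iv D7707)
theorem F42079 : act 9 n8976 = n7109 := d34_2 (iv F33689) D8976 (iv D7109)
def n8977 : Q := act 6 n7089
theorem D8977 : act 6 n7089 = n8977 := rfl
theorem F42080 : act 0 n8977 = n7506 := d5_1 D8977 (iv D7506) (iv F33685)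
theorem F42081 : act 2 n8977 = n7095 := d20_1 D8977 (iv D7095) (iv F33686)
theorem F42082 : act 3 n8977 = n7198 := d26_1 D8977 (iv D7198) (iv F33687)
theorem F42083 : act 5 n8977 = n7091 := d35_1 D8977 (iv D7091) (iv D5631) (iv F27091) D7089
theorem F42084 : act 9 n8977 = n7110 := d41_2 (iv F33689) D8977 (iv D7110)
def n8978 : Q := act 3 n7090
theorem D8978 : act 3 n7090 = n8978 := rfl
theorem F42085 : act 0 n8978 = n7507 := d2_1 D8978 (iv D7507) (iv F33690)
theorem F42086 : act 2 n8978 = n8978 := d17_1 D8978 (iv D8978) F33691 F27117 (iv F33691)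
theorem F42087 : act 4 n8978 = n7199 := d24_2 D7090 D8978 (iv D7199) (iv D5715) (iv F27096)
theorem F42088 : act 5 n8978 = n8978 := d25_2 F33692 D8978 (iv D8978)
theorem F42089 : act 7 n8978 = n8978 := d27_2 F33693 D8978 (iv D8978)
theorem F42090 : act 9 n8978 = n7111 := d29_2 (iv F33694) D8978 (iv D7111)
def n8979 : Q := act 6 n7090
theorem D8979 : act 6 n7090 = n8979 := rfl
theorem F42091 : act 0 n8979 = n7508 := d5_1 D8979 (iv D7508) (iv F33690)
theorem F42092 : act 2 n8979 = n7096 := d20_1 D8979 (iv D7096) (iv F33691)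
theorem F42093 : act 4 n8979 = n7091 := d31_1 D8979 (iv D7091) D7090
theorem F42094 : act 9 n8979 = n7112 := d41_2 (iv F33694) D8979 (iv D7112)
def n8980 : Q := act 7 n7091
theorem D8980 : act 7 n7091 = n8980 := rfl
theorem F42095 : act 0 n8980 = n7509 := d6_1 D8980 (iv D7509) (iv F33695)
theorem F42096 : act 2 n8980 = n7097 := d21_1 D8980 (iv D7097) (iv F33696)
theorem F42097 : act 3 n8980 = n7201 := d27_1 D8980 (iv D7201) (iv F33697)
theorem F42098 : act 6 n8980 = n8980 := d39_1 D8980 (iv D8980) (iv D7091) F27097 D7091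
theorem F42099 : act 9 n8980 = n7113 := d43_2 (iv F33698) D8980 (iv D7113)
def n8981 : Q := act 5 n7092
theorem D8981 : act 5 n7092 = n8981 := rfl
theorem F42100 : act 0 n8981 = n7510 := d4_1 D8981 (iv D7510) (iv F33699)
theorem F42101 : act 1 n8981 = n8063 := d12_1 D8981 (iv D8063) (iv F33700)
theorem F42102 : act 3 n8981 = n8981 := d25_1 D8981 (iv D8981) F33701
theorem F42103 : act 7 n8981 = n7643 := d36_2 (iv F33704) D8981 (iv D7643)
theorem F42104 : act 8 n8981 = n8981 := d37_2 D7092 D8981 (iv D8981) (iv D7092) F27103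
theorem F42105 : act 9 n8981 = n7642 := d38_2 (iv F33705) D8981 (iv D7642)
def n8982 : Q := act 4 n7093
theorem D8982 : act 4 n7093 = n8982 := rfl
theorem F42106 : act 0 n8982 = n7511 := d3_1 D8982 (iv D7511) (iv F33706)
theorem F42107 : act 1 n8982 = n8092 := d11_1 D8982 (iv D8092) (iv F33707)
theorem F42108 : act 7 n8982 = n7649 := d32_2 (iv F33709) D8982 (iv D7649)
theorem F42109 : act 8 n8982 = n7094 := d33_2 (iv F33710) D8982 (iv D7094)
theorem F42110 : act 9 n8982 = n7647 := d34_2 (iv F33711) D8982 (iv D7647)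
def n8983 : Q := act 6 n7093
theorem D8983 : act 6 n7093 = n8983 := rfl
theorem F42111 : act 0 n8983 = n7512 := d5_1 D8983 (iv D7512) (iv F33706)
theorem F42112 : act 1 n8983 = n8093 := d13_1 D8983 (iv D8093) (iv F33707)
theorem F42113 : act 3 n8983 = n7099 := d26_1 D8983 (iv D7099) (iv F33708)
theorem F42114 : act 8 n8983 = n7095 := d40_2 (iv F33710) D8983 (iv D7095)
theorem F42115 : act 9 n8983 = n7648 := d41_2 (iv F33711) D8983 (iv D7648)
def n8984 : Q := act 3 n7094
theorem D8984 : act 3 n7094 = n8984 := rfl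
theorem F42116 : act 0 n8984 = n7513 := d2_1 D8984 (iv D7513) (iv F33712)
theorem F42117 : act 1 n8984 = n8214 := d10_1 D8984 (iv D8214) (iv F33713)
theorem F42118 : act 4 n8984 = n7100 := d24_2 D7094 D8984 (iv D7100) (iv D5638) (iv F27113)
theorem F42119 : act 5 n8984 = n8984 := d25_2 F33714 D8984 (iv D8984)
theorem F42120 : act 7 n8984 = n7723 := d27_2 (iv F33715) D8984 (iv D7723)
theorem F42121 : act 9 n8984 = n7114 := d29_2 (iv F33716) D8984 (iv D7114)
def n8985 : Q := act 6 n7094
theorem D8985 : act 6 n7094 = n8985 := rfl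
theorem F42122 : act 0 n8985 = n7514 := d5_1 D8985 (iv D7514) (iv F33712)
theorem F42123 : act 1 n8985 = n8215 := d13_1 D8985 (iv D8215) (iv F33713)
theorem F42124 : act 4 n8985 = n7095 := d31_1 D8985 (iv D7095) D7094
theorem F42125 : act 9 n8985 = n7115 := d41_2 (iv F33716) D8985 (iv D7115)
def n8986 : Q := act 7 n7095
theorem D8986 : act 7 n7095 = n8986 := rfl
theorem F42126 : act 0 n8986 = n7515 := d6_1 D8986 (iv D7515) (iv F33717)
theorem F42127 : act 1 n8986 = n8216 := d14_1 D8986 (iv D8216) (iv F33718)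
theorem F42128 : act 3 n8986 = n7102 := d27_1 D8986 (iv D7102) (iv F33719)
theorem F42129 : act 5 n8986 = n7097 := d36_1 D8986 (iv D7097) (iv F33720)
theorem F42130 : act 6 n8986 = n7725 := d39_1 D8986 (iv D7725) (iv D6128) (iv F27114) D7095
theorem F42131 : act 9 n8986 = n7116 := d43_2 (iv F33721) D8986 (iv D7116)
def n8987 : Q := act 5 n7096
theorem D8987 : act 5 n7096 = n8987 := rfl
theorem F42132 : act 0 n8987 = n7516 := d4_1 D8987 (iv D7516) (iv F33722)
theorem F42133 : act 3 n8987 = n8987 := d25_1 D8987 (iv D8987) F33723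
theorem F42134 : act 6 n8987 = n8987 := d35_2 D7096 D8987 (iv D8987) (iv D7096) F27118
theorem F42135 : act 9 n8987 = n7117 := d38_2 (iv F33725) D8987 (iv D7117)
def n8988 : Q := act 7 n7096
theorem D8988 : act 7 n7096 = n8988 := rfl
theorem F42136 : act 0 n8988 = n7517 := d6_1 D8988 (iv D7517) (iv F33722)
theorem F42137 : act 3 n8988 = n8988 := d27_1 D8988 (iv D8988) F33723
theorem F42138 : act 4 n8988 = n7097 := d32_1 D8988 (iv D7097) (iv F33724)
theorem F42139 : act 6 n8988 = n8988 := d39_1 D8988 (iv D8988) (iv D7096) F27119 D7096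
theorem F42140 : act 9 n8988 = n7118 := d43_2 (iv F33725) D8988 (iv D7118)
def n8989 : Q := act 3 n7098
theorem D8989 : act 3 n7098 = n8989 := rfl
theorem F42141 : act 0 n8989 = n7518 := d2_1 D8989 (iv D7518) (iv F33730)
theorem F42142 : act 1 n8989 = n8122 := d10_1 D8989 (iv D8122) (iv F33731)
theorem F42143 : act 5 n8989 = n8989 := d25_2 F33733 D8989 (iv D8989)
theorem F42144 : act 7 n8989 = n7668 := d27_2 (iv F33734) D8989 (iv D7668)
theorem F42145 : act 8 n8989 = n7100 := d28_2 (iv F33735) D8989 (iv D7100)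
theorem F42146 : act 9 n8989 = n7665 := d29_2 (iv F33736) D8989 (iv D7665)
def n8990 : Q := act 6 n7098
theorem D8990 : act 6 n7098 = n8990 := rfl
theorem F42147 : act 0 n8990 = n7519 := d5_1 D8990 (iv D7519) (iv F33730)
theorem F42148 : act 1 n8990 = n8123 := d13_1 D8990 (iv D8123) (iv F33731)
theorem F42149 : act 2 n8990 = n7224 := d20_1 D8990 (iv D7224) (iv F33732)
theorem F42150 : act 4 n8990 = n7099 := d31_1 D8990 (iv D7099) D7098
theorem F42151 : act 8 n8990 = n7101 := d40_2 (iv F33735) D8990 (iv D7101)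
theorem F42152 : act 9 n8990 = n7666 := d41_2 (iv F33736) D8990 (iv D7666)
def n8991 : Q := act 7 n7099
theorem D8991 : act 7 n7099 = n8991 := rfl
theorem F42153 : act 0 n8991 = n7520 := d6_1 D8991 (iv D7520) (iv F33737)
theorem F42154 : act 1 n8991 = n8124 := d14_1 D8991 (iv D8124) (iv F33738)
theorem F42155 : act 2 n8991 = n7225 := d21_1 D8991 (iv D7225) (iv F33739)
theorem F42156 : act 6 n8991 = n7670 := d39_1 D8991 (iv D7670) (iv D6088) (iv F27127) D7099
theorem F42157 : act 8 n8991 = n7102 := d42_2 (iv F33740) D8991 (iv D7102)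
theorem F42158 : act 9 n8991 = n7667 := d43_2 (iv F33741) D8991 (iv D7667)
def n8992 : Q := act 2 n7100
theorem D8992 : act 2 n7100 = n8992 := rfl
theorem F42159 : act 0 n8992 = n7521 := d1_1 D8992 (iv D7521) (iv F33742)
theorem F42160 : act 3 n8992 = n7229 := d17_2 D7100 D8992 (iv D7229) (iv D5737) (iv F27132)
theorem F42161 : act 5 n8992 = n7103 := d19_2 (iv F33744) D8992 (iv D7103)
theorem F42162 : act 7 n8992 = n7743 := d21_2 (iv F33745) D8992 (iv D7743)
theorem F42163 : act 9 n8992 = n7119 := d23_2 (iv F33746) D8992 (iv D7119)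
def n8993 : Q := act 6 n7100
theorem D8993 : act 6 n7100 = n8993 := rfl
theorem F42164 : act 0 n8993 = n7522 := d5_1 D8993 (iv D7522) (iv F33742)
theorem F42166 : act 3 n8993 = n7101 := d26_1 D8993 (iv D7101) D7100
theorem F42167 : act 5 n8993 = n8993 := d35_1 D8993 (iv D8993) F33744 F27149 (iv F33744)
theorem F42168 : act 9 n8993 = n7120 := d41_2 (iv F33746) D8993 (iv D7120)
def n8994 : Q := act 7 n7101
theorem D8994 : act 7 n7101 = n8994 := rfl
theorem F42169 : act 0 n8994 = n7523 := d6_1 D8994 (iv D7523) (iv F33747)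
theorem F42170 : act 1 n8994 = n8250 := d14_1 D8994 (iv D8250) (iv F33748)
theorem F42171 : act 2 n8994 = n7231 := d21_1 D8994 (iv D7231) (iv F33749)
theorem F42172 : act 4 n8994 = n7102 := d32_1 D8994 (iv D7102) (iv F33750)
theorem F42173 : act 5 n8994 = n8994 := d36_1 D8994 (iv D8994) F33751
theorem F42174 : act 6 n8994 = n7746 := d39_1 D8994 (iv D7746) (iv D6142) (iv F27134) D7101
theorem F42175 : act 9 n8994 = n7121 := d43_2 (iv F33752) D8994 (iv D7121)
def n8995 : Q := act 1 n7103
theorem D8995 : act 1 n7103 = n8995 := rfl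
theorem F42177 : act 3 n8995 = n7235 := d10_2 (iv F33760) D8995 (iv D7235)
theorem F42182 : act 9 n8995 = n7122 := d16_2 (iv F33765) D8995 (iv D7122)
def n8996 : Q := act 5 n7104
theorem D8996 : act 5 n7104 = n8996 := rfl
theorem F42183 : act 0 n8996 = n7106 := d4_1 D8996 (iv D7106) (iv F33766)
theorem F42184 : act 1 n8996 = n7525 := d12_1 D8996 (iv D7525) (iv F33767)
theorem F42185 : act 2 n8996 = n8153 := d19_1 D8996 (iv D8153) (iv F33768)
theorem F42186 : act 3 n8996 = n7239 := d25_1 D8996 (iv D7239) (iv F33769)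
theorem F42187 : act 7 n8996 = n7688 := d36_2 (iv F33772) D8996 (iv D7688)
theorem F42188 : act 8 n8996 = n7689 := d37_2 D7104 D8996 (iv D7689) (iv D6104) (iv F27158)
def n8997 : Q := act 4 n7105
theorem D8997 : act 4 n7105 = n8997 := rfl
theorem F42189 : act 0 n8997 = n7107 := d3_1 D8997 (iv D7107) (iv F33773)
theorem F42190 : act 1 n8997 = n7526 := d11_1 D8997 (iv D7526) (iv F33774)
theorem F42191 : act 5 n8997 = n8997 := d30_2 D7105 D8997 (iv D8997) (iv D7105) F27164
theorem F42192 : act 7 n8997 = n8997 := d32_2 F33776 D8997 (iv D8997)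
theorem F42193 : act 8 n8997 = n8997 := d33_2 F33777 D8997 (iv D8997)
def n8998 : Q := act 6 n7105
theorem D8998 : act 6 n7105 = n8998 := rfl
theorem F42194 : act 0 n8998 = n7108 := d5_1 D8998 (iv D7108) (iv F33773)
theorem F42195 : act 1 n8998 = n7527 := d13_1 D8998 (iv D7527) (iv F33774)
theorem F42196 : act 3 n8998 = n7241 := d26_1 D8998 (iv D7241) (iv F33775)
theorem F42197 : act 8 n8998 = n8998 := d40_2 F33777 D8998 (iv D8998)
def n8999 : Q := act 4 n7106
theorem D8999 : act 4 n7106 = n8999 := rfl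
theorem F42198 : act 1 n8999 = n7109 := d11_1 D8999 (iv D7109) (iv F33778)
theorem F42199 : act 2 n8999 = n8167 := d18_1 D8999 (iv D8167) (iv F33779)
theorem F42200 : act 5 n8999 = n8999 := d30_2 D7106 D8999 (iv D8999) (iv D7106) F27169
theorem F42201 : act 7 n8999 = n7696 := d32_2 (iv F33781) D8999 (iv D7696)
theorem F42202 : act 8 n8999 = n7698 := d33_2 (iv F33782) D8999 (iv D7698)
def n9000 : Q := act 6 n7106
theorem D9000 : act 6 n7106 = n9000 := rfl
theorem F42203 : act 1 n9000 = n7110 := d13_1 D9000 (iv D7110) (iv F33778)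
theorem F42204 : act 2 n9000 = n8168 := d20_1 D9000 (iv D8168) (iv F33779)
theorem F42205 : act 3 n9000 = n7246 := d26_1 D9000 (iv D7246) (iv F33780)
theorem F42206 : act 5 n9000 = n7108 := d35_1 D9000 (iv D7108) (iv D5645) (iv F27170) D7106
theorem F42207 : act 8 n9000 = n7699 := d40_2 (iv F33782) D9000 (iv D7699)
def n9001 : Q := act 3 n7107
theorem D9001 : act 3 n7107 = n9001 := rfl
theorem F42208 : act 1 n9001 = n7111 := d10_1 D9001 (iv D7111) (iv F33783)
theorem F42209 : act 4 n9001 = n7247 := d24_2 D7107 D9001 (iv D7247) (iv D5752) (iv F27173)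
theorem F42210 : act 5 n9001 = n9001 := d25_2 F33784 D9001 (iv D9001)
theorem F42211 : act 7 n9001 = n9001 := d27_2 F33785 D9001 (iv D9001)
theorem F42212 : act 8 n9001 = n9001 := d28_2 F33786 D9001 (iv D9001)
def n9002 : Q := act 6 n7107
theorem D9002 : act 6 n7107 = n9002 := rfl
theorem F42213 : act 1 n9002 = n7112 := d13_1 D9002 (iv D7112) (iv F33783)
theorem F42214 : act 4 n9002 = n7108 := d31_1 D9002 (iv D7108) D7107
theorem F42215 : act 8 n9002 = n9002 := d40_2 F33786 D9002 (iv D9002)
def n9003 : Q := act 7 n7108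
theorem D9003 : act 7 n7108 = n9003 := rfl
theorem F42216 : act 1 n9003 = n7113 := d14_1 D9003 (iv D7113) (iv F33787)
theorem F42217 : act 3 n9003 = n7249 := d27_1 D9003 (iv D7249) (iv F33788)
theorem F42218 : act 6 n9003 = n9003 := d39_1 D9003 (iv D9003) (iv D7108) F27174 D7108
theorem F42219 : act 8 n9003 = n9003 := d42_2 F33789 D9003 (iv D9003)
def n9004 : Q := act 3 n7109
theorem D9004 : act 3 n7109 = n9004 := rfl
theorem F42220 : act 0 n9004 = n7533 := d2_1 D9004 (iv D7533) (iv F33790)
theorem F42221 : act 4 n9004 = n7255 := d24_2 D7109 D9004 (iv D7255) (iv D5757) (iv F27178)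
theorem F42222 : act 5 n9004 = n9004 := d25_2 F33792 D9004 (iv D9004)
theorem F42223 : act 7 n9004 = n7709 := d27_2 (iv F33793) D9004 (iv D7709)
theorem F42224 : act 8 n9004 = n7712 := d28_2 (iv F33794) D9004 (iv D7712)
def n9005 : Q := act 6 n7109
theorem D9005 : act 6 n7109 = n9005 := rfl
theorem F42225 : act 0 n9005 = n7534 := d5_1 D9005 (iv D7534) (iv F33790)
theorem F42226 : act 2 n9005 = n7115 := d20_1 D9005 (iv D7115) (iv F33791)
theorem F42227 : act 4 n9005 = n7110 := d31_1 D9005 (iv D7110) D7109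
theorem F42228 : act 8 n9005 = n7713 := d40_2 (iv F33794) D9005 (iv D7713)
def n9006 : Q := act 7 n7110
theorem D9006 : act 7 n7110 = n9006 := rfl
theorem F42229 : act 0 n9006 = n7535 := d6_1 D9006 (iv D7535) (iv F33795)
theorem F42230 : act 2 n9006 = n7116 := d21_1 D9006 (iv D7116) (iv F33796)
theorem F42231 : act 3 n9006 = n7257 := d27_1 D9006 (iv D7257) (iv F33797)
theorem F42232 : act 5 n9006 = n7113 := d36_1 D9006 (iv D7113) (iv F33798)
theorem F42233 : act 6 n9006 = n7711 := d39_1 D9006 (iv D7711) (iv D6118) (iv F27179) D7110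
theorem F42234 : act 8 n9006 = n7714 := d42_2 (iv F33799) D9006 (iv D7714)
def n9007 : Q := act 6 n7111
theorem D9007 : act 6 n7111 = n9007 := rfl
theorem F42235 : act 0 n9007 = n7536 := d5_1 D9007 (iv D7536) (iv F33800)
theorem F42236 : act 2 n9007 = n9007 := d20_1 D9007 (iv D9007) F33801
theorem F42237 : act 3 n9007 = n7112 := d26_1 D9007 (iv D7112) D7111
theorem F42238 : act 4 n9007 = n7258 := d31_1 D9007 (iv D7258) (iv F33802)
theorem F42239 : act 8 n9007 = n9007 := d40_2 F33805 D9007 (iv D9007)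
def n9008 : Q := act 5 n7112
theorem D9008 : act 5 n7112 = n9008 := rfl
theorem F42240 : act 0 n9008 = n7537 := d4_1 D9008 (iv D7537) (iv F33806)
theorem F42241 : act 2 n9008 = n7117 := d19_1 D9008 (iv D7117) (iv F33807)
theorem F42242 : act 6 n9008 = n9008 := d35_2 D7112 D9008 (iv D9008) (iv D7112) F27183
def n9009 : Q := act 7 n7112
theorem D9009 : act 7 n7112 = n9009 := rfl
theorem F42243 : act 0 n9009 = n7538 := d6_1 D9009 (iv D7538) (iv F33806)
theorem F42244 : act 2 n9009 = n7118 := d21_1 D9009 (iv D7118) (iv F33807)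
theorem F42245 : act 4 n9009 = n7113 := d32_1 D9009 (iv D7113) (iv F33808)
theorem F42246 : act 6 n9009 = n9009 := d39_1 D9009 (iv D9009) (iv D7112) F27184 D7112
theorem F42247 : act 8 n9009 = n9009 := d42_2 F33809 D9009 (iv D9009)
def n9010 : Q := act 2 n7114
theorem D9010 : act 2 n7114 = n9010 := rfl
theorem F42248 : act 0 n9010 = n7539 := d1_1 D9010 (iv D7539) (iv F33815)
theorem F42249 : act 4 n9010 = n7119 := d18_2 (iv F33817) D9010 (iv D7119)
theorem F42250 : act 5 n9010 = n9010 := d19_2 F33818 D9010 (iv D9010)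
theorem F42251 : act 7 n9010 = n7726 := d21_2 (iv F33819) D9010 (iv D7726)
theorem F42252 : act 8 n9010 = n7730 := d22_2 (iv F33820) D9010 (iv D7730)
def n9011 : Q := act 6 n7114
theorem D9011 : act 6 n7114 = n9011 := rfl
theorem F42253 : act 0 n9011 = n7540 := d5_1 D9011 (iv D7540) (iv F33815)
theorem F42255 : act 3 n9011 = n7115 := d26_1 D9011 (iv D7115) D7114
theorem F42256 : act 4 n9011 = n7120 := d31_1 D9011 (iv D7120) (iv F33817)
theorem F42257 : act 8 n9011 = n7731 := d40_2 (iv F33820) D9011 (iv D7731)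
def n9012 : Q := act 5 n7115
theorem D9012 : act 5 n7115 = n9012 := rfl
theorem F42258 : act 0 n9012 = n7541 := d4_1 D9012 (iv D7541) (iv F33821)
theorem F42259 : act 1 n9012 = n8219 := d12_1 D9012 (iv D8219) (iv F33822)
theorem F42260 : act 4 n9012 = n7117 := d30_1 D9012 (iv D7117) F27202 (iv F27198) (iv F33823)
theorem F42261 : act 6 n9012 = n9012 := d35_2 D7115 D9012 (iv D9012) (iv D7115) F27192
def n9013 : Q := act 7 n7115
theorem D9013 : act 7 n7115 = n9013 := rfl
theorem F42262 : act 0 n9013 = n7542 := d6_1 D9013 (iv D7542) (iv F33821)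
theorem F42263 : act 1 n9013 = n8220 := d14_1 D9013 (iv D8220) (iv F33822)
theorem F42264 : act 4 n9013 = n7116 := d32_1 D9013 (iv D7116) (iv F33823)
theorem F42265 : act 6 n9013 = n7729 := d39_1 D9013 (iv D7729) (iv D6130) (iv F27193) D7115
theorem F42266 : act 8 n9013 = n7733 := d42_2 (iv F33824) D9013 (iv D7733)
def n9014 : Q := act 7 n7117
theorem D9014 : act 7 n7117 = n9014 := rfl
theorem F42267 : act 0 n9014 = n7543 := d6_1 D9014 (iv D7543) (iv F33831)
theorem F42268 : act 3 n9014 = n9014 := d27_1 D9014 (iv D9014) F33832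
theorem F42269 : act 5 n9014 = n7118 := d36_1 D9014 (iv D7118) D7117
def n9015 : Q := act 8 n7117
theorem D9015 : act 8 n7117 = n9015 := rfl
theorem F42270 : act 0 n9015 = n7544 := d7_1 D9015 (iv D7544) (iv F33831)
theorem F42271 : act 3 n9015 = n9015 := d28_1 D9015 (iv D9015) F33832
theorem F42272 : act 5 n9015 = n9015 := d37_1 D9015 (iv D9015) (iv D7117) F27203 D7117
theorem F42273 : act 6 n9015 = n9015 := d40_1 D9015 (iv D9015) F33833
def n9016 : Q := act 1 n7119
theorem D9016 : act 1 n7119 = n9016 := rfl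
theorem F42275 : act 3 n9016 = n7286 := d10_2 (iv F33840) D9016 (iv D7286)
theorem F42278 : act 8 n9016 = n7752 := d15_2 (iv F33843) D9016 (iv D7752)
def n9017 : Q := act 6 n7119
theorem D9017 : act 6 n7119 = n9017 := rfl
theorem F42279 : act 0 n9017 = n7546 := d5_1 D9017 (iv D7546) (iv F33839)
theorem F42280 : act 2 n9017 = n7120 := d20_1 D9017 (iv D7120) D7119
theorem F42281 : act 3 n9017 = n7287 := d26_1 D9017 (iv D7287) (iv F33840)
theorem F42282 : act 5 n9017 = n9017 := d35_1 D9017 (iv D9017) F33841 F27228 (iv F33841)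
theorem F42283 : act 8 n9017 = n7753 := d40_2 (iv F33843) D9017 (iv D7753)
def n9018 : Q := act 7 n7120
theorem D9018 : act 7 n7120 = n9018 := rfl
theorem F42284 : act 0 n9018 = n7547 := d6_1 D9018 (iv D7547) (iv F33844)
theorem F42286 : act 3 n9018 = n7121 := d27_1 D9018 (iv D7121) (iv F33846)
theorem F42287 : act 5 n9018 = n9018 := d36_1 D9018 (iv D9018) F33847
theorem F42288 : act 6 n9018 = n7750 := d39_1 D9018 (iv D7750) (iv D6145) (iv F27211) D7120
theorem F42289 : act 8 n9018 = n7755 := d42_2 (iv F33848) D9018 (iv D7755)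
def n9019 : Q := act 0 n7122
theorem D9019 : act 0 n7122 = n9019 := rfl
theorem F42292 : act 3 n9019 = n7292 := d2_2 (iv F33857) D9019 (iv D7292)
def n9020 : Q := act 9 n7124
theorem D9020 : act 9 n7124 = n9020 := rfl
theorem F42297 : act 0 n9020 = n7128 := d8_1 D9020 (iv D7128) (iv F33870)
theorem F42298 : act 1 n9020 = n7549 := d16_1 D9020 (iv D7549) (iv F33871)
theorem F42299 : act 2 n9020 = n9020 := d23_1 D9020 (iv D9020) F33872
theorem F42300 : act 3 n9020 = n7189 := d29_1 D9020 (iv D7189) (iv F33873)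
theorem F42301 : act 4 n9020 = n7623 := d34_1 D9020 (iv D7623) F33876
theorem F42302 : act 5 n9020 = n7125 := d38_1 D9020 (iv D7125) D7124
theorem F42303 : act 6 n9020 = n7174 := d41_1 D9020 (iv D7174) (iv F33874)
theorem F42304 : act 7 n9020 = n7188 := d43_1 D9020 (iv D7188) (iv F33875)
def n9021 : Q := act 8 n7125
theorem D9021 : act 8 n7125 = n9021 := rfl
theorem F42305 : act 0 n9021 = n7129 := d7_1 D9021 (iv D7129) (iv F33878)
theorem F42306 : act 1 n9021 = n7550 := d15_1 D9021 (iv D7550) (iv F33879)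
theorem F42307 : act 2 n9021 = n9021 := d22_1 D9021 (iv D9021) F33880
theorem F42308 : act 3 n9021 = n7323 := d28_1 D9021 (iv D7323) (iv F33881)
theorem F42309 : act 4 n9021 = n9021 := d33_1 D9021 (iv D9021) F33882
theorem F42310 : act 6 n9021 = n7126 := d40_1 D9021 (iv D7126) (iv F33883)
theorem F42311 : act 7 n9021 = n7322 := d42_1 D9021 (iv D7322) (iv F33884)
theorem F42312 : act 9 n9021 = n9021 := d44_2 D7125 D9021 (iv D9021) (iv D7125) F27243
def n9022 : Q := act 5 n7126
theorem D9022 : act 5 n7126 = n9022 := rfl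
theorem F42313 : act 0 n9022 = n7130 := d4_1 D9022 (iv D7130) (iv F33885)
theorem F42314 : act 1 n9022 = n7551 := d12_1 D9022 (iv D7551) (iv F33886)
theorem F42315 : act 2 n9022 = n9022 := d19_1 D9022 (iv D9022) F33887
theorem F42316 : act 7 n9022 = n9022 := d36_2 F33889 D9022 (iv D9022)
theorem F42317 : act 8 n9022 = n7177 := d37_2 D7126 D9022 (iv D7177) (iv D5697) (iv F27249)
theorem F42318 : act 9 n9022 = n9022 := d38_2 F33890 D9022 (iv D9022)
def n9023 : Q := act 9 n7127
theorem D9023 : act 9 n7127 = n9023 := rfl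
theorem F42319 : act 0 n9023 = n7623 := d8_1 D9023 (iv D7623) (iv F33891)
theorem F42320 : act 1 n9023 = n7134 := d16_1 D9023 (iv D7134) (iv F33892)
theorem F42321 : act 2 n9023 = n9023 := d23_1 D9023 (iv D9023) F33893
theorem F42322 : act 3 n9023 = n7190 := d29_1 D9023 (iv D7190) (iv F33894)
theorem F42323 : act 4 n9023 = n7128 := d34_1 D9023 (iv D7128) D7127
theorem F42324 : act 5 n9023 = n9023 := d38_1 D9023 (iv D9023) F33895
theorem F42325 : act 6 n9023 = n7179 := d41_1 D9023 (iv D7179) (iv F33896)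
theorem F42326 : act 7 n9023 = n7502 := d43_1 D9023 (iv D7502) (iv F33897)
def n9024 : Q := act 8 n7128
theorem D9024 : act 8 n7128 = n9024 := rfl
theorem F42327 : act 1 n9024 = n7139 := d15_1 D9024 (iv D7139) (iv F33899)
theorem F42328 : act 2 n9024 = n9024 := d22_1 D9024 (iv D9024) F33900
theorem F42329 : act 3 n9024 = n7625 := d28_1 D9024 (iv D7625) (iv F33901)
theorem F42330 : act 6 n9024 = n7183 := d40_1 D9024 (iv D7183) (iv F33903)
theorem F42331 : act 7 n9024 = n7624 := d42_1 D9024 (iv D7624) (iv F33904)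
def n9025 : Q := act 5 n7129
theorem D9025 : act 5 n7129 = n9025 := rfl
theorem F42332 : act 1 n9025 = n7141 := d12_1 D9025 (iv D7141) (iv F33905)
theorem F42333 : act 2 n9025 = n9025 := d19_1 D9025 (iv D9025) F33906
theorem F42334 : act 3 n9025 = n7795 := d25_1 D9025 (iv D7795) (iv F33907)
theorem F42335 : act 7 n9025 = n7794 := d36_2 (iv F33910) D9025 (iv D7794)
theorem F42336 : act 9 n9025 = n9025 := d38_2 F33911 D9025 (iv D9025)
def n9026 : Q := act 4 n7130
theorem D9026 : act 4 n7130 = n9026 := rfl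
theorem F42337 : act 1 n9026 = n7142 := d11_1 D9026 (iv D7142) (iv F33912)
theorem F42338 : act 2 n9026 = n9026 := d18_1 D9026 (iv D9026) F33913
theorem F42339 : act 5 n9026 = n9026 := d30_2 D7130 D9026 (iv D9026) (iv D7130) F27264
theorem F42340 : act 7 n9026 = n9026 := d32_2 F33914 D9026 (iv D9026)
theorem F42341 : act 8 n9026 = n7186 := d33_2 (iv F33915) D9026 (iv D7186)
theorem F42342 : act 9 n9026 = n9026 := d34_2 F33916 D9026 (iv D9026)
def n9027 : Q := act 6 n7130
theorem D9027 : act 6 n7130 = n9027 := rfl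
theorem F42343 : act 1 n9027 = n7143 := d13_1 D9027 (iv D7143) (iv F33912)
theorem F42344 : act 2 n9027 = n9027 := d20_1 D9027 (iv D9027) F33913
theorem F42345 : act 8 n9027 = n7187 := d40_2 (iv F33915) D9027 (iv D7187)
theorem F42346 : act 9 n9027 = n9027 := d41_2 F33916 D9027 (iv D9027)
def n9028 : Q := act 9 n7131
theorem D9028 : act 9 n7131 = n9028 := rfl
theorem F42347 : act 0 n9028 = n7560 := d8_1 D9028 (iv D7560) (iv F33917)
theorem F42348 : act 1 n9028 = n7190 := d16_1 D9028 (iv D7190) (iv F33918)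
theorem F42349 : act 2 n9028 = n9028 := d23_1 D9028 (iv D9028) F33919
theorem F42350 : act 3 n9028 = n7134 := d29_1 D9028 (iv D7134) D7131
theorem F42351 : act 4 n9028 = n7182 := d34_1 D9028 (iv D7182) (iv F33920)
theorem F42352 : act 5 n9028 = n9028 := d38_1 D9028 (iv D9028) F33921
theorem F42353 : act 6 n9028 = n7188 := d41_1 D9028 (iv D7188) (iv F33922)
theorem F42354 : act 7 n9028 = n7497 := d43_1 D9028 (iv D7497) F33924
def n9029 : Q := act 9 n7132
theorem D9029 : act 9 n7132 = n9029 := rfl
theorem F42355 : act 0 n9029 = n7554 := d8_1 D9029 (iv D7554) (iv F33925)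
theorem F42356 : act 1 n9029 = n7502 := d16_1 D9029 (iv D7502) (iv F33926)
theorem F42357 : act 2 n9029 = n7144 := d23_1 D9029 (iv D7144) (iv F33927)
theorem F42358 : act 3 n9029 = n7497 := d29_1 D9029 (iv D7497) (iv F33928)
theorem F42359 : act 4 n9029 = n7137 := d34_1 D9029 (iv D7137) (iv F33929)
theorem F42360 : act 5 n9029 = n9029 := d38_1 D9029 (iv D9029) F33930
theorem F42361 : act 6 n9029 = n7607 := d41_1 D9029 (iv D7607) (iv F33931)
theorem F42362 : act 7 n9029 = n7134 := d43_1 D9029 (iv D7134) D7132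
def n9030 : Q := act 9 n7133
theorem D9030 : act 9 n7133 = n9030 := rfl
theorem F42363 : act 0 n9030 = n7553 := d8_1 D9030 (iv D7553) (iv F33933)
theorem F42364 : act 1 n9030 = n7188 := d16_1 D9030 (iv D7188) (iv F33934)
theorem F42365 : act 2 n9030 = n7145 := d23_1 D9030 (iv D7145) (iv F33935)
theorem F42366 : act 3 n9030 = n7179 := d29_1 D9030 (iv D7179) (iv F33936)
theorem F42367 : act 4 n9030 = n7138 := d34_1 D9030 (iv D7138) (iv F33937)
theorem F42368 : act 5 n9030 = n7310 := d38_1 D9030 (iv D7310) F33940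
theorem F42369 : act 6 n9030 = n7190 := d41_1 D9030 (iv D7190) (iv F33938)
theorem F42370 : act 7 n9030 = n7549 := d43_1 D9030 (iv D7549) (iv F33939)
def n9031 : Q := act 8 n7134
theorem D9031 : act 8 n7134 = n9031 := rfl
theorem F42371 : act 0 n9031 = n7561 := d7_1 D9031 (iv D7561) (iv F33941)
theorem F42372 : act 2 n9031 = n7146 := d22_1 D9031 (iv D7146) (iv F33942)
theorem F42373 : act 4 n9031 = n7139 := d33_1 D9031 (iv D7139) (iv F33943)
theorem F42374 : act 6 n9031 = n7191 := d40_1 D9031 (iv D7191) (iv F33945)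
def n9032 : Q := act 9 n7135
theorem D9032 : act 9 n7135 = n9032 := rfl
theorem F42375 : act 0 n9032 = n7562 := d8_1 D9032 (iv D7562) (iv F33946)
theorem F42376 : act 1 n9032 = n7560 := d16_1 D9032 (iv D7560) (iv F33947)
theorem F42377 : act 2 n9032 = n7147 := d23_1 D9032 (iv D7147) (iv F33948)
theorem F42378 : act 3 n9032 = n7552 := d29_1 D9032 (iv D7552) (iv F33949)
theorem F42379 : act 4 n9032 = n7607 := d34_1 D9032 (iv D7607) (iv F33950)
theorem F42380 : act 5 n9032 = n9032 := d38_1 D9032 (iv D9032) F33951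
theorem F42381 : act 6 n9032 = n7137 := d41_1 D9032 (iv D7137) D7135
theorem F42382 : act 7 n9032 = n7192 := d43_1 D9032 (iv D7192) (iv F33952)
def n9033 : Q := act 9 n7136
theorem D9033 : act 9 n7136 = n9033 := rfl
theorem F42383 : act 0 n9033 = n7552 := d8_1 D9033 (iv D7552) (iv F33954)
theorem F42384 : act 1 n9033 = n7623 := d16_1 D9033 (iv D7623) (iv F33955)
theorem F42385 : act 2 n9033 = n7148 := d23_1 D9033 (iv D7148) (iv F33956)
theorem F42386 : act 3 n9033 = n7562 := d29_1 D9033 (iv D7562) (iv F33957)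
theorem F42387 : act 4 n9033 = n7549 := d34_1 D9033 (iv D7549) (iv F33958)
theorem F42388 : act 5 n9033 = n9033 := d38_1 D9033 (iv D9033) F33959
theorem F42389 : act 6 n9033 = n7469 := d41_1 D9033 (iv D7469) (iv F33960)
theorem F42390 : act 7 n9033 = n7138 := d43_1 D9033 (iv D7138) (iv F33961)
def n9034 : Q := act 8 n7137
theorem D9034 : act 8 n7137 = n9034 := rfl
theorem F42391 : act 0 n9034 = n7563 := d7_1 D9034 (iv D7563) (iv F33962)
theorem F42392 : act 1 n9034 = n7624 := d15_1 D9034 (iv D7624) (iv F33963)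
theorem F42393 : act 2 n9034 = n7149 := d22_1 D9034 (iv D7149) (iv F33964)
theorem F42394 : act 3 n9034 = n7613 := d28_1 D9034 (iv D7613) (iv F33965)
theorem F42395 : act 7 n9034 = n7139 := d42_1 D9034 (iv D7139) (iv F33967)
def n9035 : Q := act 8 n7138
theorem D9035 : act 8 n7138 = n9035 := rfl
theorem F42396 : act 0 n9035 = n7564 := d7_1 D9035 (iv D7564) (iv F33968)
theorem F42397 : act 2 n9035 = n7150 := d22_1 D9035 (iv D7150) (iv F33969)
theorem F42398 : act 3 n9035 = n7628 := d28_1 D9035 (iv D7628) (iv F33970)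
theorem F42399 : act 6 n9035 = n7194 := d40_1 D9035 (iv D7194) (iv F33972)
theorem F42400 : act 9 n9035 = n7139 := d44_2 D7138 D9035 (iv D7139) (iv D5666) D5665
def n9036 : Q := act 5 n7139
theorem D9036 : act 5 n7139 = n9036 := rfl
theorem F42401 : act 0 n9036 = n7565 := d4_1 D9036 (iv D7565) (iv F33973)
theorem F42402 : act 2 n9036 = n7151 := d19_1 D9036 (iv D7151) (iv F33974)
theorem F42403 : act 8 n9036 = n7141 := d37_2 D7139 D9036 (iv D7141) (iv D5668) (iv F27283)
def n9037 : Q := act 5 n7140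
theorem D9037 : act 5 n7140 = n9037 := rfl
theorem F42404 : act 0 n9037 = n7566 := d4_1 D9037 (iv D7566) (iv F33976)
theorem F42405 : act 1 n9037 = n7794 := d12_1 D9037 (iv D7794) (iv F33977)
theorem F42406 : act 2 n9037 = n7152 := d19_1 D9037 (iv D7152) (iv F33978)
theorem F42407 : act 3 n9037 = n7781 := d25_1 D9037 (iv D7781) (iv F33979)
theorem F42408 : act 7 n9037 = n7141 := d36_2 (iv F33982) D9037 (iv D7141)
theorem F42409 : act 9 n9037 = n9037 := d38_2 F33983 D9037 (iv D9037)
def n9038 : Q := act 4 n7141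
theorem D9038 : act 4 n7141 = n9038 := rfl
theorem F42410 : act 0 n9038 = n7567 := d3_1 D9038 (iv D7567) (iv F33984)
theorem F42411 : act 2 n9038 = n7153 := d18_1 D9038 (iv D7153) (iv F33985)
theorem F42412 : act 5 n9038 = n9038 := d30_2 D7141 D9038 (iv D9038) (iv D7141) F27294
theorem F42413 : act 9 n9038 = n9038 := d34_2 F33986 D9038 (iv D9038)
def n9039 : Q := act 6 n7141
theorem D9039 : act 6 n7141 = n9039 := rfl
theorem F42414 : act 0 n9039 = n7568 := d5_1 D9039 (iv D7568) (iv F33984)
theorem F42415 : act 2 n9039 = n7154 := d20_1 D9039 (iv D7154) (iv F33985)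
theorem F42416 : act 5 n9039 = n7143 := d35_1 D9039 (iv D7143) (iv D5669) (iv F27295) D7141
theorem F42417 : act 9 n9039 = n9039 := d41_2 F33986 D9039 (iv D9039)
def n9040 : Q := act 3 n7142
theorem D9040 : act 3 n7142 = n9040 := rfl
theorem F42418 : act 0 n9040 = n7569 := d2_1 D9040 (iv D7569) (iv F33987)
theorem F42419 : act 2 n9040 = n9040 := d17_1 D9040 (iv D9040) F33988 F27363 (iv F33988)
theorem F42420 : act 5 n9040 = n9040 := d25_2 F33989 D9040 (iv D9040)
theorem F42421 : act 7 n9040 = n9040 := d27_2 F33990 D9040 (iv D9040)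
theorem F42422 : act 8 n9040 = n7199 := d28_2 (iv F33991) D9040 (iv D7199)
theorem F42423 : act 9 n9040 = n9040 := d29_2 F33992 D9040 (iv D9040)
def n9041 : Q := act 6 n7142
theorem D9041 : act 6 n7142 = n9041 := rfl
theorem F42424 : act 0 n9041 = n7570 := d5_1 D9041 (iv D7570) (iv F33987)
theorem F42425 : act 2 n9041 = n7155 := d20_1 D9041 (iv D7155) (iv F33988)
theorem F42426 : act 4 n9041 = n7143 := d31_1 D9041 (iv D7143) D7142
theorem F42427 : act 8 n9041 = n7200 := d40_2 (iv F33991) D9041 (iv D7200)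
theorem F42428 : act 9 n9041 = n9041 := d41_2 F33992 D9041 (iv D9041)
def n9042 : Q := act 7 n7143
theorem D9042 : act 7 n7143 = n9042 := rfl
theorem F42429 : act 0 n9042 = n7571 := d6_1 D9042 (iv D7571) (iv F33993)
theorem F42430 : act 2 n9042 = n7156 := d21_1 D9042 (iv D7156) (iv F33994)
theorem F42431 : act 6 n9042 = n9042 := d39_1 D9042 (iv D9042) (iv D7143) F27299 D7143
theorem F42432 : act 8 n9042 = n7201 := d42_2 (iv F33995) D9042 (iv D7201)
theorem F42433 : act 9 n9042 = n9042 := d43_2 F33996 D9042 (iv D9042)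
def n9043 : Q := act 8 n7144
theorem D9043 : act 8 n7144 = n9043 := rfl
theorem F42434 : act 0 n9043 = n7572 := d7_1 D9043 (iv D7572) (iv F33997)
theorem F42435 : act 1 n9043 = n9043 := d15_1 D9043 (iv D9043) F33998
theorem F42436 : act 3 n9043 = n9043 := d28_1 D9043 (iv D9043) F33999
theorem F42437 : act 4 n9043 = n7149 := d33_1 D9043 (iv D7149) (iv F34000)
theorem F42438 : act 6 n9043 = n8038 := d40_1 D9043 (iv D8038) (iv F34002)
theorem F42439 : act 7 n9043 = n7146 := d42_1 D9043 (iv D7146) (iv F34003)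
theorem F42440 : act 9 n9043 = n7967 := d44_2 D7144 D9043 (iv D7967) (iv D6313) F27308
def n9044 : Q := act 8 n7145
theorem D9044 : act 8 n7145 = n9044 := rfl
theorem F42441 : act 0 n9044 = n7573 := d7_1 D9044 (iv D7573) (iv F34004)
theorem F42442 : act 1 n9044 = n9044 := d15_1 D9044 (iv D9044) F34005
theorem F42443 : act 3 n9044 = n9044 := d28_1 D9044 (iv D9044) F34006
theorem F42444 : act 4 n9044 = n7150 := d33_1 D9044 (iv D7150) (iv F34007)
theorem F42445 : act 6 n9044 = n7204 := d40_1 D9044 (iv D7204) (iv F34009)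
theorem F42446 : act 7 n9044 = n7967 := d42_1 D9044 (iv D7967) (iv F34010)
theorem F42447 : act 9 n9044 = n7146 := d44_2 D7145 D9044 (iv D7146) (iv D5672) D5671
def n9045 : Q := act 5 n7146
theorem D9045 : act 5 n7146 = n9045 := rfl
theorem F42448 : act 0 n9045 = n7574 := d4_1 D9045 (iv D7574) (iv F34011)
theorem F42449 : act 1 n9045 = n9045 := d12_1 D9045 (iv D9045) F34012
theorem F42450 : act 3 n9045 = n9045 := d25_1 D9045 (iv D9045) F34013
theorem F42451 : act 8 n9045 = n9045 := d37_2 D7146 D9045 (iv D9045) (iv D7146) F27320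
def n9046 : Q := act 8 n7147
theorem D9046 : act 8 n7147 = n9046 := rfl
theorem F42452 : act 0 n9046 = n7575 := d7_1 D9046 (iv D7575) (iv F34016)
theorem F42453 : act 1 n9046 = n9046 := d15_1 D9046 (iv D9046) F34017
theorem F42454 : act 3 n9046 = n7157 := d28_1 D9046 (iv D7157) (iv F34018)
theorem F42455 : act 4 n9046 = n8038 := d33_1 D9046 (iv D8038) (iv F34019)
theorem F42456 : act 6 n9046 = n7149 := d40_1 D9046 (iv D7149) (iv F34021)
theorem F42457 : act 7 n9046 = n7206 := d42_1 D9046 (iv D7206) (iv F34022)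
theorem F42458 : act 9 n9046 = n7476 := d44_2 D7147 D9046 (iv D7476) (iv D5933) F27328
def n9047 : Q := act 8 n7148
theorem D9047 : act 8 n7148 = n9047 := rfl
theorem F42459 : act 0 n9047 = n7576 := d7_1 D9047 (iv D7576) (iv F34023)
theorem F42460 : act 1 n9047 = n9047 := d15_1 D9047 (iv D9047) F34024
theorem F42461 : act 3 n9047 = n7158 := d28_1 D9047 (iv D7158) (iv F34025)
theorem F42462 : act 4 n9047 = n7967 := d33_1 D9047 (iv D7967) (iv F34026)
theorem F42463 : act 6 n9047 = n7476 := d40_1 D9047 (iv D7476) (iv F34028)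
theorem F42464 : act 7 n9047 = n7150 := d42_1 D9047 (iv D7150) (iv F34029)
theorem F42465 : act 9 n9047 = n7149 := d44_2 D7148 D9047 (iv D7149) (iv D5675) D5674
def n9048 : Q := act 5 n7149
theorem D9048 : act 5 n7149 = n9048 := rfl
theorem F42466 : act 0 n9048 = n7577 := d4_1 D9048 (iv D7577) (iv F34030)
theorem F42467 : act 1 n9048 = n9048 := d12_1 D9048 (iv D9048) F34031
theorem F42468 : act 3 n9048 = n7159 := d25_1 D9048 (iv D7159) (iv F34032)
theorem F42469 : act 7 n9048 = n7151 := d36_2 (iv F34033) D9048 (iv D7151)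
theorem F42470 : act 8 n9048 = n7152 := d37_2 D7149 D9048 (iv D7152) (iv D5678) (iv F27339)
def n9049 : Q := act 5 n7150
theorem D9049 : act 5 n7150 = n9049 := rfl
theorem F42471 : act 0 n9049 = n7578 := d4_1 D9049 (iv D7578) (iv F34034)
theorem F42472 : act 1 n9049 = n9049 := d12_1 D9049 (iv D9049) F34035
theorem F42473 : act 3 n9049 = n7160 := d25_1 D9049 (iv D7160) (iv F34036)
theorem F42474 : act 8 n9049 = n9049 := d37_2 D7150 D9049 (iv D9049) (iv D7150) F27344
theorem F42475 : act 9 n9049 = n7151 := d38_2 (iv F34038) D9049 (iv D7151)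
def n9050 : Q := act 4 n7151
theorem D9050 : act 4 n7151 = n9050 := rfl
theorem F42476 : act 0 n9050 = n7579 := d3_1 D9050 (iv D7579) (iv F34039)
theorem F42477 : act 1 n9050 = n9050 := d11_1 D9050 (iv D9050) F34040
theorem F42478 : act 8 n9050 = n7153 := d33_2 (iv F34042) D9050 (iv D7153)
def n9051 : Q := act 6 n7151
theorem D9051 : act 6 n7151 = n9051 := rfl
theorem F42479 : act 0 n9051 = n7580 := d5_1 D9051 (iv D7580) (iv F34039)
theorem F42480 : act 1 n9051 = n9051 := d13_1 D9051 (iv D9051) F34040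
theorem F42481 : act 3 n9051 = n7162 := d26_1 D9051 (iv D7162) (iv F34041)
theorem F42482 : act 5 n9051 = n7210 := d35_1 D9051 (iv D7210) (iv D5724) (iv F27349) D7151
theorem F42483 : act 8 n9051 = n7154 := d40_2 (iv F34042) D9051 (iv D7154)
def n9052 : Q := act 4 n7152
theorem D9052 : act 4 n7152 = n9052 := rfl
theorem F42484 : act 0 n9052 = n7581 := d3_1 D9052 (iv D7581) (iv F34043)
theorem F42485 : act 1 n9052 = n9052 := d11_1 D9052 (iv D9052) F34044
theorem F42486 : act 5 n9052 = n9052 := d30_2 D7152 D9052 (iv D9052) (iv D7152) F27353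
theorem F42487 : act 7 n9052 = n7153 := d32_2 (iv F34046) D9052 (iv D7153)
theorem F42488 : act 9 n9052 = n9052 := d34_2 F34047 D9052 (iv D9052)
def n9053 : Q := act 6 n7152
theorem D9053 : act 6 n7152 = n9053 := rfl
theorem F42489 : act 0 n9053 = n7582 := d5_1 D9053 (iv D7582) (iv F34043)
theorem F42490 : act 1 n9053 = n9053 := d13_1 D9053 (iv D9053) F34044
theorem F42491 : act 3 n9053 = n7164 := d26_1 D9053 (iv D7164) (iv F34045)
theorem F42492 : act 5 n9053 = n9053 := d35_1 D9053 (iv D9053) (iv D7152) F27354 D7152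
theorem F42493 : act 9 n9053 = n9053 := d41_2 F34047 D9053 (iv D9053)
def n9054 : Q := act 3 n7153
theorem D9054 : act 3 n7153 = n9054 := rfl
theorem F42494 : act 0 n9054 = n7583 := d2_1 D9054 (iv D7583) (iv F34048)
theorem F42495 : act 1 n9054 = n9054 := d10_1 D9054 (iv D9054) F34049
theorem F42496 : act 4 n9054 = n7165 := d24_2 D7153 D9054 (iv D7165) (iv D5688) (iv F27359)
theorem F42497 : act 5 n9054 = n9054 := d25_2 F34050 D9054 (iv D9054)
theorem F42498 : act 9 n9054 = n9054 := d29_2 F34051 D9054 (iv D9054)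
def n9055 : Q := act 6 n7153
theorem D9055 : act 6 n7153 = n9055 := rfl
theorem F42499 : act 0 n9055 = n7584 := d5_1 D9055 (iv D7584) (iv F34048)
theorem F42500 : act 1 n9055 = n9055 := d13_1 D9055 (iv D9055) F34049
theorem F42501 : act 4 n9055 = n7154 := d31_1 D9055 (iv D7154) D7153
theorem F42502 : act 9 n9055 = n9055 := d41_2 F34051 D9055 (iv D9055)
def n9056 : Q := act 7 n7154
theorem D9056 : act 7 n7154 = n9056 := rfl
theorem F42503 : act 0 n9056 = n7585 := d6_1 D9056 (iv D7585) (iv F34052)
theorem F42504 : act 1 n9056 = n9056 := d14_1 D9056 (iv D9056) F34053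
theorem F42505 : act 3 n9056 = n7167 := d27_1 D9056 (iv D7167) (iv F34054)
theorem F42506 : act 5 n9056 = n7156 := d36_1 D9056 (iv D7156) (iv F34055)
theorem F42507 : act 9 n9056 = n9056 := d43_2 F34056 D9056 (iv D9056)
def n9057 : Q := act 5 n7155
theorem D9057 : act 5 n7155 = n9057 := rfl
theorem F42508 : act 0 n9057 = n7586 := d4_1 D9057 (iv D7586) (iv F34057)
theorem F42509 : act 1 n9057 = n9057 := d12_1 D9057 (iv D9057) F34058
theorem F42510 : act 3 n9057 = n9057 := d25_1 D9057 (iv D9057) F34059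
theorem F42511 : act 6 n9057 = n9057 := d35_2 D7155 D9057 (iv D9057) (iv D7155) F27364
theorem F42512 : act 9 n9057 = n9057 := d38_2 F34062 D9057 (iv D9057)
def n9058 : Q := act 7 n7155
theorem D9058 : act 7 n7155 = n9058 := rfl
theorem F42513 : act 0 n9058 = n7587 := d6_1 D9058 (iv D7587) (iv F34057)
theorem F42514 : act 1 n9058 = n9058 := d14_1 D9058 (iv D9058) F34058
theorem F42515 : act 3 n9058 = n9058 := d27_1 D9058 (iv D9058) F34059
theorem F42516 : act 4 n9058 = n7156 := d32_1 D9058 (iv D7156) (iv F34060)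
theorem F42517 : act 6 n9058 = n9058 := d39_1 D9058 (iv D9058) (iv D7155) F27365 D7155
theorem F42518 : act 8 n9058 = n7217 := d42_2 (iv F34061) D9058 (iv D7217)
theorem F42519 : act 9 n9058 = n9058 := d43_2 F34062 D9058 (iv D9058)
def n9059 : Q := act 5 n7157
theorem D9059 : act 5 n7157 = n9059 := rfl
theorem F42520 : act 0 n9059 = n7588 := d4_1 D9059 (iv D7588) (iv F34069)
theorem F42521 : act 1 n9059 = n9059 := d12_1 D9059 (iv D9059) F34070
theorem F42522 : act 2 n9059 = n7589 := d19_1 D9059 (iv D7589) (iv F34071)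
theorem F42523 : act 7 n9059 = n7218 := d36_2 (iv F34074) D9059 (iv D7218)
theorem F42524 : act 8 n9059 = n9059 := d37_2 D7157 D9059 (iv D9059) (iv D7157) F27377
theorem F42525 : act 9 n9059 = n7483 := d38_2 (iv F34075) D9059 (iv D7483)
def n9060 : Q := act 5 n7158
theorem D9060 : act 5 n7158 = n9060 := rfl
theorem F42526 : act 0 n9060 = n7589 := d4_1 D9060 (iv D7589) (iv F34076)
theorem F42527 : act 1 n9060 = n9060 := d12_1 D9060 (iv D9060) F34077
theorem F42528 : act 2 n9060 = n7588 := d19_1 D9060 (iv D7588) (iv F34078)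
theorem F42529 : act 7 n9060 = n7160 := d36_2 (iv F34081) D9060 (iv D7160)
theorem F42530 : act 8 n9060 = n9060 := d37_2 D7158 D9060 (iv D9060) (iv D7158) F27384
theorem F42531 : act 9 n9060 = n7159 := d38_2 (iv F34082) D9060 (iv D7159)
def n9061 : Q := act 4 n7159
theorem D9061 : act 4 n7159 = n9061 := rfl
theorem F42532 : act 0 n9061 = n7590 := d3_1 D9061 (iv D7590) (iv F34083)
theorem F42533 : act 1 n9061 = n9061 := d11_1 D9061 (iv D9061) F34084
theorem F42534 : act 5 n9061 = n9061 := d30_2 D7159 D9061 (iv D9061) (iv D7159) F27389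
theorem F42535 : act 7 n9061 = n7161 := d32_2 (iv F34085) D9061 (iv D7161)
theorem F42536 : act 8 n9061 = n7163 := d33_2 (iv F34086) D9061 (iv D7163)
def n9062 : Q := act 6 n7159
theorem D9062 : act 6 n7159 = n9062 := rfl
theorem F42537 : act 0 n9062 = n7591 := d5_1 D9062 (iv D7591) (iv F34083)
theorem F42538 : act 1 n9062 = n9062 := d13_1 D9062 (iv D9062) F34084
theorem F42539 : act 8 n9062 = n7164 := d40_2 (iv F34086) D9062 (iv D7164)
def n9063 : Q := act 4 n7160
theorem D9063 : act 4 n7160 = n9063 := rfl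
theorem F42540 : act 0 n9063 = n7592 := d3_1 D9063 (iv D7592) (iv F34087)
theorem F42541 : act 1 n9063 = n9063 := d11_1 D9063 (iv D9063) F34088
theorem F42542 : act 2 n9063 = n7663 := d18_1 D9063 (iv D7663) (iv F34089)
theorem F42543 : act 5 n9063 = n9063 := d30_2 D7160 D9063 (iv D9063) (iv D7160) F27394
theorem F42544 : act 8 n9063 = n9063 := d33_2 F34090 D9063 (iv D9063)
theorem F42545 : act 9 n9063 = n7161 := d34_2 (iv F34091) D9063 (iv D7161)
def n9064 : Q := act 6 n7160
theorem D9064 : act 6 n7160 = n9064 := rfl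
theorem F42546 : act 0 n9064 = n7593 := d5_1 D9064 (iv D7593) (iv F34087)
theorem F42547 : act 1 n9064 = n9064 := d13_1 D9064 (iv D9064) F34088
theorem F42548 : act 2 n9064 = n7664 := d20_1 D9064 (iv D7664) (iv F34089)
theorem F42549 : act 5 n9064 = n7222 := d35_1 D9064 (iv D7222) (iv D5732) (iv F27395) D7160
theorem F42550 : act 8 n9064 = n9064 := d40_2 F34090 D9064 (iv D9064)
theorem F42551 : act 9 n9064 = n7162 := d41_2 (iv F34091) D9064 (iv D7162)
def n9065 : Q := act 3 n7161
theorem D9065 : act 3 n7161 = n9065 := rfl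
theorem F42552 : act 0 n9065 = n7594 := d2_1 D9065 (iv D7594) (iv F34092)
theorem F42553 : act 1 n9065 = n9065 := d10_1 D9065 (iv D9065) F34093
theorem F42554 : act 5 n9065 = n9065 := d25_2 F34094 D9065 (iv D9065)
theorem F42555 : act 8 n9065 = n7165 := d28_2 (iv F34095) D9065 (iv D7165)
def n9066 : Q := act 6 n7161
theorem D9066 : act 6 n7161 = n9066 := rfl
theorem F42556 : act 0 n9066 = n7595 := d5_1 D9066 (iv D7595) (iv F34092)
theorem F42557 : act 1 n9066 = n9066 := d13_1 D9066 (iv D9066) F34093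
theorem F42558 : act 4 n9066 = n7162 := d31_1 D9066 (iv D7162) D7161
theorem F42559 : act 8 n9066 = n7166 := d40_2 (iv F34095) D9066 (iv D7166)
def n9067 : Q := act 7 n7162
theorem D9067 : act 7 n7162 = n9067 := rfl
theorem F42560 : act 0 n9067 = n7596 := d6_1 D9067 (iv D7596) (iv F34096)
theorem F42561 : act 1 n9067 = n9067 := d14_1 D9067 (iv D9067) F34097
theorem F42562 : act 5 n9067 = n7225 := d36_1 D9067 (iv D7225) (iv F34098)
theorem F42563 : act 8 n9067 = n7167 := d42_2 (iv F34099) D9067 (iv D7167)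
def n9068 : Q := act 3 n7163
theorem D9068 : act 3 n7163 = n9068 := rfl
theorem F42564 : act 0 n9068 = n7597 := d2_1 D9068 (iv D7597) (iv F34100)
theorem F42565 : act 1 n9068 = n9068 := d10_1 D9068 (iv D9068) F34101
theorem F42566 : act 5 n9068 = n7168 := d25_2 (iv F34102) D9068 (iv D7168)
theorem F42567 : act 7 n9068 = n7165 := d27_2 (iv F34103) D9068 (iv D7165)
theorem F42568 : act 9 n9068 = n9068 := d29_2 F34104 D9068 (iv D9068)
def n9069 : Q := act 6 n7163
theorem D9069 : act 6 n7163 = n9069 := rfl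
theorem F42569 : act 0 n9069 = n7598 := d5_1 D9069 (iv D7598) (iv F34100)
theorem F42570 : act 1 n9069 = n9069 := d13_1 D9069 (iv D9069) F34101
theorem F42571 : act 4 n9069 = n7164 := d31_1 D9069 (iv D7164) D7163
theorem F42572 : act 9 n9069 = n9069 := d41_2 F34104 D9069 (iv D9069)
def n9070 : Q := act 7 n7164
theorem D9070 : act 7 n7164 = n9070 := rfl
theorem F42573 : act 0 n9070 = n7599 := d6_1 D9070 (iv D7599) (iv F34105)
theorem F42574 : act 1 n9070 = n9070 := d14_1 D9070 (iv D9070) F34106
theorem F42575 : act 5 n9070 = n9070 := d36_1 D9070 (iv D9070) F34107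
theorem F42576 : act 6 n9070 = n7167 := d39_1 D9070 (iv D7167) (iv D5689) (iv F27402) D7164
theorem F42577 : act 9 n9070 = n9070 := d43_2 F34108 D9070 (iv D9070)
def n9071 : Q := act 2 n7165
theorem D9071 : act 2 n7165 = n9071 := rfl
theorem F42578 : act 0 n9071 = n7600 := d1_1 D9071 (iv D7600) (iv F34109)
theorem F42579 : act 5 n9071 = n7170 := d19_2 (iv F34111) D9071 (iv D7170)
theorem F42580 : act 9 n9071 = n9071 := d23_2 F34112 D9071 (iv D9071)
def n9072 : Q := act 6 n7165
theorem D9072 : act 6 n7165 = n9072 := rfl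
theorem F42581 : act 0 n9072 = n7601 := d5_1 D9072 (iv D7601) (iv F34109)
theorem F42582 : act 1 n9072 = n9072 := d13_1 D9072 (iv D9072) F34110
theorem F42583 : act 3 n9072 = n7166 := d26_1 D9072 (iv D7166) D7165
theorem F42584 : act 5 n9072 = n9072 := d35_1 D9072 (iv D9072) F34111 F27433 (iv F34111)
theorem F42585 : act 9 n9072 = n9072 := d41_2 F34112 D9072 (iv D9072)
def n9073 : Q := act 7 n7166
theorem D9073 : act 7 n7166 = n9073 := rfl
theorem F42586 : act 0 n9073 = n7602 := d6_1 D9073 (iv D7602) (iv F34113)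
theorem F42587 : act 1 n9073 = n9073 := d14_1 D9073 (iv D9073) F34114
theorem F42588 : act 4 n9073 = n7167 := d32_1 D9073 (iv D7167) (iv F34115)
theorem F42589 : act 5 n9073 = n9073 := d36_1 D9073 (iv D9073) F34116
theorem F42590 : act 9 n9073 = n9073 := d43_2 F34117 D9073 (iv D9073)
def n9074 : Q := act 2 n7168
theorem D9074 : act 2 n7168 = n9074 := rfl
theorem F42591 : act 0 n9074 = n7603 := d1_1 D9074 (iv D7603) (iv F34122)
theorem F42592 : act 4 n9074 = n9074 := d18_2 F34124 D9074 (iv D9074)
theorem F42593 : act 7 n9074 = n7170 := d21_2 (iv F34125) D9074 (iv D7170)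
theorem F42594 : act 8 n9074 = n9074 := d22_2 F34126 D9074 (iv D9074)
theorem F42595 : act 9 n9074 = n9074 := d23_2 F34127 D9074 (iv D9074)
def n9075 : Q := act 6 n7168
theorem D9075 : act 6 n7168 = n9075 := rfl
theorem F42596 : act 0 n9075 = n7604 := d5_1 D9075 (iv D7604) (iv F34122)
theorem F42597 : act 1 n9075 = n9075 := d13_1 D9075 (iv D9075) F34123
theorem F42598 : act 3 n9075 = n7169 := d26_1 D9075 (iv D7169) D7168
theorem F42599 : act 4 n9075 = n9075 := d31_1 D9075 (iv D9075) F34124
theorem F42600 : act 7 n9075 = n9075 := d39_2 (iv F34125) D9075 (iv D9075) F34125 F27433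
theorem F42601 : act 8 n9075 = n9075 := d40_2 F34126 D9075 (iv D9075)
theorem F42602 : act 9 n9075 = n9075 := d41_2 F34127 D9075 (iv D9075)
def n9076 : Q := act 5 n7169
theorem D9076 : act 5 n7169 = n9076 := rfl
theorem F42603 : act 0 n9076 = n7605 := d4_1 D9076 (iv D7605) (iv F34128)
theorem F42604 : act 1 n9076 = n9076 := d12_1 D9076 (iv D9076) F34129
theorem F42605 : act 4 n9076 = n9076 := d30_1 D9076 (iv D9076) F34130 F27426 (iv F34130)
theorem F42606 : act 7 n9076 = n9076 := d36_2 F34131 D9076 (iv D9076)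
theorem F42607 : act 9 n9076 = n9076 := d38_2 F34133 D9076 (iv D9076)
def n9077 : Q := act 1 n7170
theorem D9077 : act 1 n7170 = n9077 := rfl
theorem F42608 : act 2 n9077 = n9077 := d9_2 D7170 D9077 (iv D9077) (iv D7170) F27431
theorem F42609 : act 4 n9077 = n9077 := d11_2 F34135 D9077 (iv D9077)
theorem F42610 : act 6 n9077 = n9077 := d13_2 F34136 D9077 (iv D9077)
theorem F42611 : act 8 n9077 = n9077 := d15_2 F34137 D9077 (iv D9077)
theorem F42612 : act 9 n9077 = n9077 := d16_2 F34138 D9077 (iv D9077)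
def n9078 : Q := act 9 n7171
theorem D9078 : act 9 n7171 = n9078 := rfl
theorem F42613 : act 0 n9078 = n7179 := d8_1 D9078 (iv D7179) (iv F34139)
theorem F42614 : act 1 n9078 = n7469 := d16_1 D9078 (iv D7469) (iv F34140)
theorem F42615 : act 2 n9078 = n9078 := d23_1 D9078 (iv D9078) F34141
theorem F42616 : act 3 n9078 = n7553 := d29_1 D9078 (iv D7553) (iv F34142)
theorem F42617 : act 4 n9078 = n7174 := d34_1 D9078 (iv D7174) D7171
theorem F42618 : act 5 n9078 = n7303 := d38_1 D9078 (iv D7303) (iv F34143)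
theorem F42619 : act 6 n9078 = n7623 := d41_1 D9078 (iv D7623) (iv F34144)
theorem F42620 : act 7 n9078 = n7465 := d43_1 D9078 (iv D7465) F34145
def n9079 : Q := act 9 n7172
theorem D9079 : act 9 n7172 = n9079 := rfl
theorem F42621 : act 0 n9079 = n7181 := d8_1 D9079 (iv D7181) (iv F34147)
theorem F42622 : act 1 n9079 = n7468 := d16_1 D9079 (iv D7468) (iv F34148)
theorem F42623 : act 2 n9079 = n9079 := d23_1 D9079 (iv D9079) F34149
theorem F42624 : act 3 n9079 = n7607 := d29_1 D9079 (iv D7607) (iv F34150)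
theorem F42625 : act 4 n9079 = n7465 := d34_1 D9079 (iv D7465) (iv F34151)
theorem F42626 : act 5 n9079 = n7175 := d38_1 D9079 (iv D7175) (iv F34152)
theorem F42627 : act 6 n9079 = n7497 := d41_1 D9079 (iv D7497) (iv F34153)
theorem F42628 : act 7 n9079 = n7174 := d43_1 D9079 (iv D7174) D7172
def n9080 : Q := act 9 n7173
theorem D9080 : act 9 n7173 = n9080 := rfl
theorem F42629 : act 0 n9080 = n7182 := d8_1 D9080 (iv D7182) (iv F34155)
theorem F42630 : act 1 n9080 = n7607 := d16_1 D9080 (iv D7607) (iv F34156)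
theorem F42631 : act 2 n9080 = n9080 := d23_1 D9080 (iv D9080) F34157
theorem F42632 : act 3 n9080 = n7468 := d29_1 D9080 (iv D7468) (iv F34158)
theorem F42633 : act 4 n9080 = n7560 := d34_1 D9080 (iv D7560) (iv F34159)
theorem F42634 : act 5 n9080 = n7236 := d38_1 D9080 (iv D7236) (iv F34160)
theorem F42635 : act 6 n9080 = n7502 := d41_1 D9080 (iv D7502) (iv F34161)
theorem F42636 : act 7 n9080 = n7494 := d43_1 D9080 (iv D7494) (iv F34162)
def n9081 : Q := act 8 n7174
theorem D9081 : act 8 n7174 = n9081 := rfl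
theorem F42637 : act 0 n9081 = n7183 := d7_1 D9081 (iv D7183) (iv F34163)
theorem F42638 : act 1 n9081 = n7608 := d15_1 D9081 (iv D7608) (iv F34164)
theorem F42639 : act 2 n9081 = n9081 := d22_1 D9081 (iv D9081) F34165
def n9082 : Q := act 8 n7175
theorem D9082 : act 8 n7175 = n9082 := rfl
theorem F42640 : act 0 n9082 = n7184 := d7_1 D9082 (iv D7184) (iv F34167)
theorem F42641 : act 1 n9082 = n7609 := d15_1 D9082 (iv D7609) (iv F34168)
theorem F42642 : act 2 n9082 = n9082 := d22_1 D9082 (iv D9082) F34169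
theorem F42643 : act 3 n9082 = n7687 := d28_1 D9082 (iv D7687) (iv F34170)
theorem F42644 : act 4 n9082 = n7306 := d33_1 D9082 (iv D7306) (iv F34171)
theorem F42645 : act 6 n9082 = n9082 := d40_1 D9082 (iv D9082) F34172
theorem F42646 : act 7 n9082 = n7176 := d42_1 D9082 (iv D7176) (iv F34173)
theorem F42647 : act 9 n9082 = n7238 := d44_2 D7175 D9082 (iv D7238) (iv D5745) (iv F27445)
def n9083 : Q := act 5 n7176
theorem D9083 : act 5 n7176 = n9083 := rfl
theorem F42648 : act 0 n9083 = n7185 := d4_1 D9083 (iv D7185) (iv F34174)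
theorem F42649 : act 1 n9083 = n7610 := d12_1 D9083 (iv D7610) (iv F34175)
theorem F42650 : act 2 n9083 = n9083 := d19_1 D9083 (iv D9083) F34176
theorem F42651 : act 9 n9083 = n7239 := d38_2 (iv F34179) D9083 (iv D7239)
def n9084 : Q := act 4 n7177
theorem D9084 : act 4 n7177 = n9084 := rfl
theorem F42652 : act 0 n9084 = n7186 := d3_1 D9084 (iv D7186) (iv F34180)
theorem F42653 : act 1 n9084 = n7611 := d11_1 D9084 (iv D7611) (iv F34181)
theorem F42654 : act 2 n9084 = n9084 := d18_1 D9084 (iv D9084) F34182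
theorem F42655 : act 5 n9084 = n7308 := d30_2 D7177 D9084 (iv D7308) (iv D5802) (iv F27454)
theorem F42656 : act 7 n9084 = n9084 := d32_2 F34183 D9084 (iv D9084)
theorem F42657 : act 9 n9084 = n7240 := d34_2 (iv F34184) D9084 (iv D7240)
def n9085 : Q := act 6 n7177
theorem D9085 : act 6 n7177 = n9085 := rfl
theorem F42658 : act 0 n9085 = n7187 := d5_1 D9085 (iv D7187) (iv F34180)
theorem F42659 : act 1 n9085 = n7612 := d13_1 D9085 (iv D7612) (iv F34181)
theorem F42660 : act 2 n9085 = n9085 := d20_1 D9085 (iv D9085) F34182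
theorem F42661 : act 9 n9085 = n7241 := d41_2 (iv F34184) D9085 (iv D7241)
def n9086 : Q := act 9 n7178
theorem D9086 : act 9 n7178 = n9086 := rfl
theorem F42662 : act 0 n9086 = n7465 := d8_1 D9086 (iv D7465) (iv F34185)
theorem F42663 : act 1 n9086 = n7189 := d16_1 D9086 (iv D7189) (iv F34186)
theorem F42664 : act 2 n9086 = n9086 := d23_1 D9086 (iv D9086) F34187
theorem F42665 : act 3 n9086 = n7549 := d29_1 D9086 (iv D7549) (iv F34188)
theorem F42666 : act 4 n9086 = n7181 := d34_1 D9086 (iv D7181) (iv F34189)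
theorem F42667 : act 5 n9086 = n7311 := d38_1 D9086 (iv D7311) (iv F34190)
theorem F42668 : act 6 n9086 = n7494 := d41_1 D9086 (iv D7494) (iv F34191)
theorem F42669 : act 7 n9086 = n7179 := d43_1 D9086 (iv D7179) D7178
def n9087 : Q := act 8 n7179
theorem D9087 : act 8 n7179 = n9087 := rfl
theorem F42670 : act 1 n9087 = n7191 := d15_1 D9087 (iv D7191) (iv F34193)
theorem F42671 : act 2 n9087 = n9087 := d22_1 D9087 (iv D9087) F34194
theorem F42672 : act 4 n9087 = n7183 := d33_1 D9087 (iv D7183) (iv F34195)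
def n9088 : Q := act 9 n7180
theorem D9088 : act 9 n7180 = n9088 := rfl
theorem F42673 : act 0 n9088 = n7497 := d8_1 D9088 (iv D7497) (iv F34197)
theorem F42674 : act 1 n9088 = n7192 := d16_1 D9088 (iv D7192) (iv F34198)
theorem F42675 : act 2 n9088 = n9088 := d23_1 D9088 (iv D9088) F34199
theorem F42676 : act 3 n9088 = n7554 := d29_1 D9088 (iv D7554) (iv F34200)
theorem F42677 : act 4 n9088 = n7494 := d34_1 D9088 (iv D7494) (iv F34201)
theorem F42678 : act 5 n9088 = n9088 := d38_1 D9088 (iv D9088) F34202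
theorem F42679 : act 6 n9088 = n7181 := d41_1 D9088 (iv D7181) D7180
theorem F42680 : act 7 n9088 = n7560 := d43_1 D9088 (iv D7560) (iv F34203)
def n9089 : Q := act 8 n7181
theorem D9089 : act 8 n7181 = n9089 := rfl
theorem F42681 : act 1 n9089 = n7193 := d15_1 D9089 (iv D7193) (iv F34205)
theorem F42682 : act 2 n9089 = n9089 := d22_1 D9089 (iv D9089) F34206
theorem F42683 : act 3 n9089 = n7615 := d28_1 D9089 (iv D7615) (iv F34207)
theorem F42684 : act 7 n9089 = n7183 := d42_1 D9089 (iv D7183) (iv F34209)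
theorem F42685 : act 9 n9089 = n7498 := d44_2 D7181 D9089 (iv D7498) (iv D5952) (iv F27464)
def n9090 : Q := act 8 n7182
theorem D9090 : act 8 n7182 = n9090 := rfl
theorem F42686 : act 1 n9090 = n7194 := d15_1 D9090 (iv D7194) (iv F34210)
theorem F42687 : act 2 n9090 = n9090 := d22_1 D9090 (iv D9090) F34211
theorem F42688 : act 3 n9090 = n7614 := d28_1 D9090 (iv D7614) (iv F34212)
theorem F42689 : act 7 n9090 = n7498 := d42_1 D9090 (iv D7498) (iv F34214)
theorem F42690 : act 9 n9090 = n7183 := d44_2 D7182 D9090 (iv D7183) (iv D5701) D5700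
def n9091 : Q := act 5 n7183
theorem D9091 : act 5 n7183 = n9091 := rfl
theorem F42691 : act 1 n9091 = n7195 := d12_1 D9091 (iv D7195) (iv F34215)
theorem F42692 : act 2 n9091 = n9091 := d19_1 D9091 (iv D9091) F34216
theorem F42693 : act 8 n9091 = n7185 := d37_2 D7183 D9091 (iv D7185) (iv D5703) (iv F27472)
def n9092 : Q := act 5 n7184
theorem D9092 : act 5 n7184 = n9092 := rfl
theorem F42694 : act 1 n9092 = n7196 := d12_1 D9092 (iv D7196) (iv F34217)
theorem F42695 : act 2 n9092 = n9092 := d19_1 D9092 (iv D9092) F34218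
theorem F42696 : act 3 n9092 = n7695 := d25_1 D9092 (iv D7695) (iv F34219)
theorem F42697 : act 7 n9092 = n7185 := d36_2 (iv F34222) D9092 (iv D7185)
theorem F42698 : act 9 n9092 = n7244 := d38_2 (iv F34223) D9092 (iv D7244)
def n9093 : Q := act 4 n7185
theorem D9093 : act 4 n7185 = n9093 := rfl
theorem F42699 : act 1 n9093 = n7197 := d11_1 D9093 (iv D7197) (iv F34224)
theorem F42700 : act 2 n9093 = n9093 := d18_1 D9093 (iv D9093) F34225
theorem F42701 : act 5 n9093 = n7317 := d30_2 D7185 D9093 (iv D7317) (iv D5810) (iv F27481)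
theorem F42702 : act 9 n9093 = n7245 := d34_2 (iv F34226) D9093 (iv D7245)
def n9094 : Q := act 6 n7185
theorem D9094 : act 6 n7185 = n9094 := rfl
theorem F42703 : act 1 n9094 = n7198 := d13_1 D9094 (iv D7198) (iv F34224)
theorem F42704 : act 2 n9094 = n9094 := d20_1 D9094 (iv D9094) F34225
theorem F42705 : act 5 n9094 = n7187 := d35_1 D9094 (iv D7187) (iv D5704) (iv F27482) D7185
theorem F42706 : act 9 n9094 = n7246 := d41_2 (iv F34226) D9094 (iv D7246)
def n9095 : Q := act 3 n7186
theorem D9095 : act 3 n7186 = n9095 := rfl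
theorem F42707 : act 1 n9095 = n7199 := d10_1 D9095 (iv D7199) (iv F34227)
theorem F42708 : act 5 n9095 = n7319 := d25_2 (iv F34229) D9095 (iv D7319)
theorem F42709 : act 7 n9095 = n9095 := d27_2 F34230 D9095 (iv D9095)
theorem F42710 : act 9 n9095 = n7247 := d29_2 (iv F34231) D9095 (iv D7247)
def n9096 : Q := act 6 n7186
theorem D9096 : act 6 n7186 = n9096 := rfl
theorem F42711 : act 1 n9096 = n7200 := d13_1 D9096 (iv D7200) (iv F34227)
theorem F42712 : act 2 n9096 = n9096 := d20_1 D9096 (iv D9096) F34228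
theorem F42713 : act 4 n9096 = n7187 := d31_1 D9096 (iv D7187) D7186
theorem F42714 : act 9 n9096 = n7248 := d41_2 (iv F34231) D9096 (iv D7248)
def n9097 : Q := act 7 n7187
theorem D9097 : act 7 n7187 = n9097 := rfl
theorem F42715 : act 1 n9097 = n7201 := d14_1 D9097 (iv D7201) (iv F34232)
theorem F42716 : act 2 n9097 = n9097 := d21_1 D9097 (iv D9097) F34233
theorem F42717 : act 6 n9097 = n9097 := d39_1 D9097 (iv D9097) (iv D7187) F27486 D7187
theorem F42718 : act 9 n9097 = n7249 := d43_2 (iv F34234) D9097 (iv D7249)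
def n9098 : Q := act 8 n7188
theorem D9098 : act 8 n7188 = n9098 := rfl
theorem F42719 : act 0 n9098 = n7624 := d7_1 D9098 (iv D7624) (iv F34235)
theorem F42720 : act 2 n9098 = n9098 := d22_1 D9098 (iv D9098) F34236
theorem F42721 : act 3 n9098 = n7191 := d28_1 D9098 (iv D7191) (iv F34237)
def n9099 : Q := act 8 n7189
theorem D9099 : act 8 n7189 = n9099 := rfl
theorem F42722 : act 0 n9099 = n7625 := d7_1 D9099 (iv D7625) (iv F34239)
theorem F42723 : act 2 n9099 = n7203 := d22_1 D9099 (iv D7203) (iv F34240)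
theorem F42724 : act 4 n9099 = n7193 := d33_1 D9099 (iv D7193) (iv F34241)
theorem F42725 : act 7 n9099 = n7191 := d42_1 D9099 (iv D7191) (iv F34243)
theorem F42726 : act 9 n9099 = n7503 := d44_2 D7189 D9099 (iv D7503) (iv D5956) (iv F27495)
def n9100 : Q := act 8 n7190
theorem D9100 : act 8 n7190 = n9100 := rfl
theorem F42727 : act 0 n9100 = n7626 := d7_1 D9100 (iv D7626) (iv F34244)
theorem F42728 : act 2 n9100 = n7204 := d22_1 D9100 (iv D7204) (iv F34245)
theorem F42729 : act 4 n9100 = n7194 := d33_1 D9100 (iv D7194) (iv F34246)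
theorem F42730 : act 7 n9100 = n7503 := d42_1 D9100 (iv D7503) (iv F34248)
theorem F42731 : act 9 n9100 = n7191 := d44_2 D7190 D9100 (iv D7191) (iv D5708) D5707
def n9101 : Q := act 5 n7191
theorem D9101 : act 5 n7191 = n9101 := rfl
theorem F42732 : act 0 n9101 = n7627 := d4_1 D9101 (iv D7627) (iv F34249)
theorem F42733 : act 2 n9101 = n7205 := d19_1 D9101 (iv D7205) (iv F34250)
theorem F42734 : act 8 n9101 = n7324 := d37_2 D7191 D9101 (iv D7324) (iv D5815) (iv F27504)
def n9102 : Q := act 8 n7192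
theorem D9102 : act 8 n7192 = n9102 := rfl
theorem F42735 : act 0 n9102 = n7628 := d7_1 D9102 (iv D7628) (iv F34252)
theorem F42736 : act 2 n9102 = n7206 := d22_1 D9102 (iv D7206) (iv F34253)
theorem F42737 : act 3 n9102 = n7564 := d28_1 D9102 (iv D7564) (iv F34254)
theorem F42738 : act 6 n9102 = n7193 := d40_1 D9102 (iv D7193) (iv F34256)
theorem F42739 : act 9 n9102 = n7470 := d44_2 D7192 D9102 (iv D7470) (iv D5928) (iv F27509)
def n9103 : Q := act 5 n7193
theorem D9103 : act 5 n7193 = n9103 := rfl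
theorem F42740 : act 0 n9103 = n7629 := d4_1 D9103 (iv D7629) (iv F34257)
theorem F42741 : act 2 n9103 = n7207 := d19_1 D9103 (iv D7207) (iv F34258)
theorem F42742 : act 3 n9103 = n7630 := d25_1 D9103 (iv D7630) (iv F34259)
theorem F42743 : act 7 n9103 = n7195 := d36_2 (iv F34260) D9103 (iv D7195)
theorem F42744 : act 8 n9103 = n7196 := d37_2 D7193 D9103 (iv D7196) (iv D5713) (iv F27513)
theorem F42745 : act 9 n9103 = n7504 := d38_2 (iv F34261) D9103 (iv D7504)
def n9104 : Q := act 5 n7194
theorem D9104 : act 5 n7194 = n9104 := rfl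
theorem F42746 : act 0 n9104 = n7630 := d4_1 D9104 (iv D7630) (iv F34262)
theorem F42747 : act 2 n9104 = n7208 := d19_1 D9104 (iv D7208) (iv F34263)
theorem F42748 : act 3 n9104 = n7629 := d25_1 D9104 (iv D7629) (iv F34264)
theorem F42749 : act 7 n9104 = n7504 := d36_2 (iv F34265) D9104 (iv D7504)
theorem F42750 : act 8 n9104 = n7250 := d37_2 D7194 D9104 (iv D7250) (iv D5754) (iv F27518)
theorem F42751 : act 9 n9104 = n7195 := d38_2 (iv F34266) D9104 (iv D7195)
def n9105 : Q := act 4 n7195
theorem D9105 : act 4 n7195 = n9105 := rfl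
theorem F42752 : act 0 n9105 = n7631 := d3_1 D9105 (iv D7631) (iv F34267)
theorem F42753 : act 2 n9105 = n7209 := d18_1 D9105 (iv D7209) (iv F34268)
theorem F42754 : act 8 n9105 = n7197 := d33_2 (iv F34269) D9105 (iv D7197)
def n9106 : Q := act 6 n7195
theorem D9106 : act 6 n7195 = n9106 := rfl
theorem F42755 : act 0 n9106 = n7632 := d5_1 D9106 (iv D7632) (iv F34267)
theorem F42756 : act 2 n9106 = n7210 := d20_1 D9106 (iv D7210) (iv F34268)
theorem F42757 : act 8 n9106 = n7198 := d40_2 (iv F34269) D9106 (iv D7198)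
def n9107 : Q := act 4 n7196
theorem D9107 : act 4 n7196 = n9107 := rfl
theorem F42758 : act 0 n9107 = n7633 := d3_1 D9107 (iv D7633) (iv F34270)
theorem F42759 : act 2 n9107 = n7211 := d18_1 D9107 (iv D7211) (iv F34271)
theorem F42760 : act 5 n9107 = n7329 := d30_2 D7196 D9107 (iv D7329) (iv D5819) (iv F27525)
theorem F42761 : act 7 n9107 = n7197 := d32_2 (iv F34273) D9107 (iv D7197)
theorem F42762 : act 9 n9107 = n7253 := d34_2 (iv F34274) D9107 (iv D7253)
def n9108 : Q := act 6 n7196
theorem D9108 : act 6 n7196 = n9108 := rfl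
theorem F42763 : act 0 n9108 = n7634 := d5_1 D9108 (iv D7634) (iv F34270)
theorem F42764 : act 2 n9108 = n7212 := d20_1 D9108 (iv D7212) (iv F34271)
theorem F42765 : act 3 n9108 = n7708 := d26_1 D9108 (iv D7708) (iv F34272)
theorem F42766 : act 5 n9108 = n9108 := d35_1 D9108 (iv D9108) (iv D7196) F27526 D7196
theorem F42767 : act 9 n9108 = n7254 := d41_2 (iv F34274) D9108 (iv D7254)
def n9109 : Q := act 3 n7197
theorem D9109 : act 3 n7197 = n9109 := rfl
theorem F42768 : act 0 n9109 = n7635 := d2_1 D9109 (iv D7635) (iv F34275)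
theorem F42769 : act 5 n9109 = n7331 := d25_2 (iv F34277) D9109 (iv D7331)
theorem F42770 : act 9 n9109 = n7255 := d29_2 (iv F34278) D9109 (iv D7255)
def n9110 : Q := act 6 n7197
theorem D9110 : act 6 n7197 = n9110 := rfl
theorem F42771 : act 0 n9110 = n7636 := d5_1 D9110 (iv D7636) (iv F34275)
theorem F42772 : act 2 n9110 = n7214 := d20_1 D9110 (iv D7214) (iv F34276)
theorem F42773 : act 4 n9110 = n7198 := d31_1 D9110 (iv D7198) D7197
theorem F42774 : act 9 n9110 = n7256 := d41_2 (iv F34278) D9110 (iv D7256)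
def n9111 : Q := act 7 n7198
theorem D9111 : act 7 n7198 = n9111 := rfl
theorem F42775 : act 0 n9111 = n7637 := d6_1 D9111 (iv D7637) (iv F34279)
theorem F42776 : act 2 n9111 = n7215 := d21_1 D9111 (iv D7215) (iv F34280)
theorem F42777 : act 5 n9111 = n7201 := d36_1 D9111 (iv D7201) (iv F34281)
theorem F42778 : act 9 n9111 = n7257 := d43_2 (iv F34282) D9111 (iv D7257)
def n9112 : Q := act 6 n7199
theorem D9112 : act 6 n7199 = n9112 := rfl
theorem F42779 : act 0 n9112 = n7638 := d5_1 D9112 (iv D7638) (iv F34283)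
theorem F42780 : act 2 n9112 = n9112 := d20_1 D9112 (iv D9112) F34284
theorem F42781 : act 3 n9112 = n7200 := d26_1 D9112 (iv D7200) D7199
theorem F42782 : act 9 n9112 = n7258 := d41_2 (iv F34287) D9112 (iv D7258)
def n9113 : Q := act 5 n7200
theorem D9113 : act 5 n7200 = n9113 := rfl
theorem F42783 : act 0 n9113 = n7639 := d4_1 D9113 (iv D7639) (iv F34288)
theorem F42784 : act 2 n9113 = n7216 := d19_1 D9113 (iv D7216) (iv F34289)
theorem F42785 : act 6 n9113 = n7335 := d35_2 D7200 D9113 (iv D7335) (iv D5823) (iv F27534)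
theorem F42786 : act 9 n9113 = n7259 := d38_2 (iv F34291) D9113 (iv D7259)
def n9114 : Q := act 7 n7200
theorem D9114 : act 7 n7200 = n9114 := rfl
theorem F42787 : act 0 n9114 = n7640 := d6_1 D9114 (iv D7640) (iv F34288)
theorem F42788 : act 2 n9114 = n7217 := d21_1 D9114 (iv D7217) (iv F34289)
theorem F42789 : act 4 n9114 = n7201 := d32_1 D9114 (iv D7201) (iv F34290)
theorem F42790 : act 6 n9114 = n9114 := d39_1 D9114 (iv D9114) (iv D7200) F27535 D7200
theorem F42791 : act 9 n9114 = n7260 := d43_2 (iv F34291) D9114 (iv D7260)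
def n9115 : Q := act 8 n7202
theorem D9115 : act 8 n7202 = n9115 := rfl
theorem F42792 : act 0 n9115 = n7641 := d7_1 D9115 (iv D7641) (iv F34296)
theorem F42793 : act 1 n9115 = n9115 := d15_1 D9115 (iv D9115) F34297
theorem F42794 : act 3 n9115 = n9115 := d28_1 D9115 (iv D9115) F34298
theorem F42795 : act 4 n9115 = n7206 := d33_1 D9115 (iv D7206) (iv F34299)
theorem F42796 : act 6 n9115 = n7203 := d40_1 D9115 (iv D7203) (iv F34301)
theorem F42797 : act 7 n9115 = n8038 := d42_1 D9115 (iv D8038) (iv F34302)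
theorem F42798 : act 9 n9115 = n7475 := d44_2 D7202 D9115 (iv D7475) (iv D5932) (iv F27546)
def n9116 : Q := act 5 n7203
theorem D9116 : act 5 n7203 = n9116 := rfl
theorem F42799 : act 0 n9116 = n7642 := d4_1 D9116 (iv D7642) (iv F34303)
theorem F42800 : act 1 n9116 = n9116 := d12_1 D9116 (iv D9116) F34304
theorem F42801 : act 3 n9116 = n9116 := d25_1 D9116 (iv D9116) F34305
theorem F42802 : act 7 n9116 = n7205 := d36_2 (iv F34307) D9116 (iv D7205)
theorem F42803 : act 8 n9116 = n7338 := d37_2 D7203 D9116 (iv D7338) (iv D5826) (iv F27551)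
theorem F42804 : act 9 n9116 = n7510 := d38_2 (iv F34308) D9116 (iv D7510)
def n9117 : Q := act 5 n7204
theorem D9117 : act 5 n7204 = n9117 := rfl
theorem F42805 : act 0 n9117 = n7643 := d4_1 D9117 (iv D7643) (iv F34309)
theorem F42806 : act 1 n9117 = n9117 := d12_1 D9117 (iv D9117) F34310
theorem F42807 : act 3 n9117 = n9117 := d25_1 D9117 (iv D9117) F34311
theorem F42808 : act 7 n9117 = n7510 := d36_2 (iv F34313) D9117 (iv D7510)
theorem F42809 : act 8 n9117 = n9117 := d37_2 D7204 D9117 (iv D9117) (iv D7204) F27557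
theorem F42810 : act 9 n9117 = n7205 := d38_2 (iv F34314) D9117 (iv D7205)
def n9118 : Q := act 4 n7205
theorem D9118 : act 4 n7205 = n9118 := rfl
theorem F42811 : act 0 n9118 = n7644 := d3_1 D9118 (iv D7644) (iv F34315)
theorem F42812 : act 1 n9118 = n9118 := d11_1 D9118 (iv D9118) F34316
theorem F42813 : act 5 n9118 = n7209 := d30_2 D7205 D9118 (iv D7209) (iv D5724) (iv F27562)
theorem F42814 : act 8 n9118 = n7339 := d33_2 (iv F34318) D9118 (iv D7339)
def n9119 : Q := act 6 n7205
theorem D9119 : act 6 n7205 = n9119 := rfl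
theorem F42815 : act 0 n9119 = n7645 := d5_1 D9119 (iv D7645) (iv F34315)
theorem F42816 : act 1 n9119 = n9119 := d13_1 D9119 (iv D9119) F34316
theorem F42817 : act 3 n9119 = n9119 := d26_1 D9119 (iv D9119) F34317
theorem F42818 : act 8 n9119 = n7340 := d40_2 (iv F34318) D9119 (iv D7340)
def n9120 : Q := act 5 n7206
theorem D9120 : act 5 n7206 = n9120 := rfl
theorem F42819 : act 0 n9120 = n7646 := d4_1 D9120 (iv D7646) (iv F34319)
theorem F42820 : act 1 n9120 = n9120 := d12_1 D9120 (iv D9120) F34320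
theorem F42821 : act 3 n9120 = n7218 := d25_1 D9120 (iv D7218) (iv F34321)
theorem F42822 : act 8 n9120 = n9120 := d37_2 D7206 D9120 (iv D9120) (iv D7206) F27566
theorem F42823 : act 9 n9120 = n7477 := d38_2 (iv F34323) D9120 (iv D7477)
def n9121 : Q := act 4 n7207
theorem D9121 : act 4 n7207 = n9121 := rfl
theorem F42824 : act 0 n9121 = n7647 := d3_1 D9121 (iv D7647) (iv F34324)
theorem F42825 : act 1 n9121 = n9121 := d11_1 D9121 (iv D9121) F34325
theorem F42826 : act 7 n9121 = n7209 := d32_2 (iv F34327) D9121 (iv D7209)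
theorem F42827 : act 8 n9121 = n7211 := d33_2 (iv F34328) D9121 (iv D7211)
theorem F42828 : act 9 n9121 = n7511 := d34_2 (iv F34329) D9121 (iv D7511)
def n9122 : Q := act 6 n7207
theorem D9122 : act 6 n7207 = n9122 := rfl
theorem F42829 : act 0 n9122 = n7648 := d5_1 D9122 (iv D7648) (iv F34324)
theorem F42830 : act 1 n9122 = n9122 := d13_1 D9122 (iv D9122) F34325
theorem F42831 : act 3 n9122 = n7220 := d26_1 D9122 (iv D7220) (iv F34326)
theorem F42832 : act 8 n9122 = n7212 := d40_2 (iv F34328) D9122 (iv D7212)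
theorem F42833 : act 9 n9122 = n7512 := d41_2 (iv F34329) D9122 (iv D7512)
def n9123 : Q := act 4 n7208
theorem D9123 : act 4 n7208 = n9123 := rfl
theorem F42834 : act 0 n9123 = n7649 := d3_1 D9123 (iv D7649) (iv F34330)
theorem F42835 : act 1 n9123 = n9123 := d11_1 D9123 (iv D9123) F34331
theorem F42836 : act 7 n9123 = n7511 := d32_2 (iv F34333) D9123 (iv D7511)
theorem F42837 : act 8 n9123 = n7261 := d33_2 (iv F34334) D9123 (iv D7261)
theorem F42838 : act 9 n9123 = n7209 := d34_2 (iv F34335) D9123 (iv D7209)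
def n9124 : Q := act 6 n7208
theorem D9124 : act 6 n7208 = n9124 := rfl
theorem F42839 : act 0 n9124 = n7650 := d5_1 D9124 (iv D7650) (iv F34330)
theorem F42840 : act 1 n9124 = n9124 := d13_1 D9124 (iv D9124) F34331
theorem F42841 : act 3 n9124 = n7222 := d26_1 D9124 (iv D7222) (iv F34332)
theorem F42842 : act 8 n9124 = n7262 := d40_2 (iv F34334) D9124 (iv D7262)
theorem F42843 : act 9 n9124 = n7210 := d41_2 (iv F34335) D9124 (iv D7210)
def n9125 : Q := act 3 n7209
theorem D9125 : act 3 n7209 = n9125 := rfl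
theorem F42844 : act 0 n9125 = n7651 := d2_1 D9125 (iv D7651) (iv F34336)
theorem F42845 : act 1 n9125 = n9125 := d10_1 D9125 (iv D9125) F34337
theorem F42846 : act 4 n9125 = n7223 := d24_2 D7209 D9125 (iv D7223) (iv D5733) (iv F27580)
theorem F42847 : act 8 n9125 = n7213 := d28_2 (iv F34338) D9125 (iv D7213)
def n9126 : Q := act 6 n7209
theorem D9126 : act 6 n7209 = n9126 := rfl
theorem F42848 : act 0 n9126 = n7652 := d5_1 D9126 (iv D7652) (iv F34336)
theorem F42849 : act 1 n9126 = n9126 := d13_1 D9126 (iv D9126) F34337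
theorem F42850 : act 4 n9126 = n7210 := d31_1 D9126 (iv D7210) D7209
theorem F42851 : act 8 n9126 = n7214 := d40_2 (iv F34338) D9126 (iv D7214)
def n9127 : Q := act 7 n7210
theorem D9127 : act 7 n7210 = n9127 := rfl
theorem F42852 : act 0 n9127 = n7653 := d6_1 D9127 (iv D7653) (iv F34339)
theorem F42853 : act 1 n9127 = n9127 := d14_1 D9127 (iv D9127) F34340
theorem F42854 : act 3 n9127 = n7225 := d27_1 D9127 (iv D7225) (iv F34341)
theorem F42855 : act 8 n9127 = n7215 := d42_2 (iv F34342) D9127 (iv D7215)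
def n9128 : Q := act 3 n7211
theorem D9128 : act 3 n7211 = n9128 := rfl
theorem F42856 : act 0 n9128 = n7654 := d2_1 D9128 (iv D7654) (iv F34343)
theorem F42857 : act 1 n9128 = n9128 := d10_1 D9128 (iv D9128) F34344
theorem F42858 : act 4 n9128 = n7226 := d24_2 D7211 D9128 (iv D7226) (iv D5735) (iv F27584)
theorem F42859 : act 5 n9128 = n7347 := d25_2 (iv F34345) D9128 (iv D7347)
theorem F42860 : act 7 n9128 = n7213 := d27_2 (iv F34346) D9128 (iv D7213)
theorem F42861 : act 9 n9128 = n7266 := d29_2 (iv F34347) D9128 (iv D7266)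
def n9129 : Q := act 6 n7211
theorem D9129 : act 6 n7211 = n9129 := rfl
theorem F42862 : act 0 n9129 = n7655 := d5_1 D9129 (iv D7655) (iv F34343)
theorem F42863 : act 1 n9129 = n9129 := d13_1 D9129 (iv D9129) F34344
theorem F42864 : act 4 n9129 = n7212 := d31_1 D9129 (iv D7212) D7211
theorem F42865 : act 9 n9129 = n7267 := d41_2 (iv F34347) D9129 (iv D7267)
def n9130 : Q := act 7 n7212
theorem D9130 : act 7 n7212 = n9130 := rfl
theorem F42866 : act 0 n9130 = n7656 := d6_1 D9130 (iv D7656) (iv F34348)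
theorem F42867 : act 1 n9130 = n9130 := d14_1 D9130 (iv D9130) F34349
theorem F42868 : act 3 n9130 = n7228 := d27_1 D9130 (iv D7228) (iv F34350)
theorem F42869 : act 5 n9130 = n9130 := d36_1 D9130 (iv D9130) F34351
theorem F42870 : act 6 n9130 = n7215 := d39_1 D9130 (iv D7215) (iv D5727) (iv F27585) D7212
theorem F42871 : act 9 n9130 = n7268 := d43_2 (iv F34352) D9130 (iv D7268)
def n9131 : Q := act 2 n7213
theorem D9131 : act 2 n7213 = n9131 := rfl
theorem F42872 : act 0 n9131 = n7657 := d1_1 D9131 (iv D7657) (iv F34353)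
theorem F42873 : act 4 n9131 = n7229 := d18_2 (iv F34355) D9131 (iv D7229)
theorem F42874 : act 5 n9131 = n7350 := d19_2 (iv F34356) D9131 (iv D7350)
theorem F42875 : act 9 n9131 = n7269 := d23_2 (iv F34357) D9131 (iv D7269)
def n9132 : Q := act 6 n7213
theorem D9132 : act 6 n7213 = n9132 := rfl
theorem F42876 : act 0 n9132 = n7658 := d5_1 D9132 (iv D7658) (iv F34353)
theorem F42877 : act 1 n9132 = n9132 := d13_1 D9132 (iv D9132) F34354
theorem F42878 : act 3 n9132 = n7214 := d26_1 D9132 (iv D7214) D7213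
theorem F42879 : act 4 n9132 = n7230 := d31_1 D9132 (iv D7230) (iv F34355)
theorem F42880 : act 9 n9132 = n7270 := d41_2 (iv F34357) D9132 (iv D7270)
def n9133 : Q := act 5 n7214
theorem D9133 : act 5 n7214 = n9133 := rfl
theorem F42881 : act 0 n9133 = n7659 := d4_1 D9133 (iv D7659) (iv F34358)
theorem F42882 : act 1 n9133 = n9133 := d12_1 D9133 (iv D9133) F34359
theorem F42883 : act 4 n9133 = n7216 := d30_1 D9133 (iv D7216) F27599 (iv F27594) (iv F34360)
theorem F42884 : act 6 n9133 = n7352 := d35_2 D7214 D9133 (iv D7352) (iv D5835) (iv F27589)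
theorem F42885 : act 9 n9133 = n7271 := d38_2 (iv F34361) D9133 (iv D7271)
def n9134 : Q := act 7 n7214
theorem D9134 : act 7 n7214 = n9134 := rfl
theorem F42886 : act 0 n9134 = n7660 := d6_1 D9134 (iv D7660) (iv F34358)
theorem F42887 : act 1 n9134 = n9134 := d14_1 D9134 (iv D9134) F34359
theorem F42888 : act 4 n9134 = n7215 := d32_1 D9134 (iv D7215) (iv F34360)
theorem F42889 : act 9 n9134 = n7272 := d43_2 (iv F34361) D9134 (iv D7272)
def n9135 : Q := act 7 n7216
theorem D9135 : act 7 n7216 = n9135 := rfl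
theorem F42890 : act 0 n9135 = n7661 := d6_1 D9135 (iv D7661) (iv F34367)
theorem F42891 : act 1 n9135 = n9135 := d14_1 D9135 (iv D9135) F34368
theorem F42892 : act 3 n9135 = n9135 := d27_1 D9135 (iv D9135) F34369
theorem F42893 : act 5 n9135 = n7217 := d36_1 D9135 (iv D7217) D7216
theorem F42894 : act 9 n9135 = n7273 := d43_2 (iv F34371) D9135 (iv D7273)
def n9136 : Q := act 8 n7216
theorem D9136 : act 8 n7216 = n9136 := rfl
theorem F42895 : act 0 n9136 = n7662 := d7_1 D9136 (iv D7662) (iv F34367)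
theorem F42896 : act 1 n9136 = n9136 := d15_1 D9136 (iv D9136) F34368
theorem F42897 : act 3 n9136 = n9136 := d28_1 D9136 (iv D9136) F34369
theorem F42898 : act 6 n9136 = n7355 := d40_1 D9136 (iv D7355) (iv F34370)
def n9137 : Q := act 4 n7218
theorem D9137 : act 4 n7218 = n9137 := rfl
theorem F42899 : act 0 n9137 = n7663 := d3_1 D9137 (iv D7663) (iv F34378)
theorem F42900 : act 1 n9137 = n9137 := d11_1 D9137 (iv D9137) F34379
theorem F42901 : act 2 n9137 = n7592 := d18_1 D9137 (iv D7592) (iv F34380)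
theorem F42902 : act 5 n9137 = n9137 := d30_2 D7218 D9137 (iv D9137) (iv D7218) F27609
theorem F42903 : act 8 n9137 = n9137 := d33_2 F34381 D9137 (iv D9137)
theorem F42904 : act 9 n9137 = n7484 := d34_2 (iv F34382) D9137 (iv D7484)
def n9138 : Q := act 6 n7218
theorem D9138 : act 6 n7218 = n9138 := rfl
theorem F42905 : act 0 n9138 = n7664 := d5_1 D9138 (iv D7664) (iv F34378)
theorem F42906 : act 1 n9138 = n9138 := d13_1 D9138 (iv D9138) F34379
theorem F42907 : act 2 n9138 = n7593 := d20_1 D9138 (iv D7593) (iv F34380)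
theorem F42908 : act 5 n9138 = n7220 := d35_1 D9138 (iv D7220) (iv D5731) (iv F27610) D7218
theorem F42909 : act 8 n9138 = n9138 := d40_2 F34381 D9138 (iv D9138)
theorem F42910 : act 9 n9138 = n7485 := d41_2 (iv F34382) D9138 (iv D7485)
def n9139 : Q := act 3 n7219
theorem D9139 : act 3 n7219 = n9139 := rfl
theorem F42911 : act 0 n9139 = n7665 := d2_1 D9139 (iv D7665) (iv F34383)
theorem F42912 : act 1 n9139 = n9139 := d10_1 D9139 (iv D9139) F34384
theorem F42913 : act 5 n9139 = n9139 := d25_2 F34386 D9139 (iv D9139)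
theorem F42914 : act 7 n9139 = n7223 := d27_2 (iv F34387) D9139 (iv D7223)
theorem F42915 : act 8 n9139 = n7226 := d28_2 (iv F34388) D9139 (iv D7226)
theorem F42916 : act 9 n9139 = n7518 := d29_2 (iv F34389) D9139 (iv D7518)
def n9140 : Q := act 6 n7219
theorem D9140 : act 6 n7219 = n9140 := rfl
theorem F42917 : act 0 n9140 = n7666 := d5_1 D9140 (iv D7666) (iv F34383)
theorem F42918 : act 1 n9140 = n9140 := d13_1 D9140 (iv D9140) F34384
theorem F42919 : act 2 n9140 = n7669 := d20_1 D9140 (iv D7669) (iv F34385)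
theorem F42920 : act 4 n9140 = n7220 := d31_1 D9140 (iv D7220) D7219
theorem F42921 : act 8 n9140 = n7227 := d40_2 (iv F34388) D9140 (iv D7227)
theorem F42922 : act 9 n9140 = n7519 := d41_2 (iv F34389) D9140 (iv D7519)
def n9141 : Q := act 7 n7220
theorem D9141 : act 7 n7220 = n9141 := rfl
theorem F42923 : act 0 n9141 = n7667 := d6_1 D9141 (iv D7667) (iv F34390)
theorem F42924 : act 1 n9141 = n9141 := d14_1 D9141 (iv D9141) F34391
theorem F42925 : act 2 n9141 = n7670 := d21_1 D9141 (iv D7670) (iv F34392)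
theorem F42926 : act 6 n9141 = n7225 := d39_1 D9141 (iv D7225) (iv D5734) (iv F27615) D7220
theorem F42927 : act 8 n9141 = n7228 := d42_2 (iv F34393) D9141 (iv D7228)
theorem F42928 : act 9 n9141 = n7520 := d43_2 (iv F34394) D9141 (iv D7520)
def n9142 : Q := act 3 n7221
theorem D9142 : act 3 n7221 = n9142 := rfl
theorem F42929 : act 0 n9142 = n7668 := d2_1 D9142 (iv D7668) (iv F34395)
theorem F42930 : act 1 n9142 = n9142 := d10_1 D9142 (iv D9142) F34396
theorem F42931 : act 5 n9142 = n9142 := d25_2 F34398 D9142 (iv D9142)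
theorem F42932 : act 7 n9142 = n7518 := d27_2 (iv F34399) D9142 (iv D7518)
theorem F42933 : act 8 n9142 = n7275 := d28_2 (iv F34400) D9142 (iv D7275)
theorem F42934 : act 9 n9142 = n7223 := d29_2 (iv F34401) D9142 (iv D7223)
def n9143 : Q := act 6 n7221
theorem D9143 : act 6 n7221 = n9143 := rfl
theorem F42935 : act 0 n9143 = n7669 := d5_1 D9143 (iv D7669) (iv F34395)
theorem F42936 : act 1 n9143 = n9143 := d13_1 D9143 (iv D9143) F34396
theorem F42937 : act 2 n9143 = n7666 := d20_1 D9143 (iv D7666) (iv F34397)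
theorem F42938 : act 4 n9143 = n7222 := d31_1 D9143 (iv D7222) D7221
theorem F42939 : act 8 n9143 = n7276 := d40_2 (iv F34400) D9143 (iv D7276)
theorem F42940 : act 9 n9143 = n7224 := d41_2 (iv F34401) D9143 (iv D7224)
def n9144 : Q := act 7 n7222
theorem D9144 : act 7 n7222 = n9144 := rfl
theorem F42941 : act 0 n9144 = n7670 := d6_1 D9144 (iv D7670) (iv F34402)
theorem F42942 : act 1 n9144 = n9144 := d14_1 D9144 (iv D9144) F34403
theorem F42943 : act 2 n9144 = n7667 := d21_1 D9144 (iv D7667) (iv F34404)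
theorem F42944 : act 6 n9144 = n7520 := d39_1 D9144 (iv D7520) (iv D5968) (iv F27621) D7222
theorem F42945 : act 8 n9144 = n7277 := d42_2 (iv F34405) D9144 (iv D7277)
theorem F42946 : act 9 n9144 = n7225 := d43_2 (iv F34406) D9144 (iv D7225)
def n9145 : Q := act 2 n7223
theorem D9145 : act 2 n7223 = n9145 := rfl
theorem F42947 : act 0 n9145 = n7671 := d1_1 D9145 (iv D7671) (iv F34407)
theorem F42948 : act 5 n9145 = n9145 := d19_2 F34409 D9145 (iv D9145)
theorem F42949 : act 8 n9145 = n7229 := d22_2 (iv F34410) D9145 (iv D7229)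
def n9146 : Q := act 6 n7223
theorem D9146 : act 6 n7223 = n9146 := rfl
theorem F42950 : act 0 n9146 = n7672 := d5_1 D9146 (iv D7672) (iv F34407)
theorem F42951 : act 1 n9146 = n9146 := d13_1 D9146 (iv D9146) F34408
theorem F42952 : act 3 n9146 = n7224 := d26_1 D9146 (iv D7224) D7223
theorem F42953 : act 8 n9146 = n7230 := d40_2 (iv F34410) D9146 (iv D7230)
def n9147 : Q := act 5 n7224
theorem D9147 : act 5 n7224 = n9147 := rfl
theorem F42954 : act 0 n9147 = n7673 := d4_1 D9147 (iv D7673) (iv F34411)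
theorem F42955 : act 1 n9147 = n9147 := d12_1 D9147 (iv D9147) F34412
theorem F42956 : act 6 n9147 = n9147 := d35_2 D7224 D9147 (iv D9147) (iv D7224) F27626
theorem F42957 : act 8 n9147 = n9147 := d37_2 (iv F34414) D9147 (iv D9147) F34414 F27649
def n9148 : Q := act 7 n7224
theorem D9148 : act 7 n7224 = n9148 := rfl
theorem F42958 : act 0 n9148 = n7674 := d6_1 D9148 (iv D7674) (iv F34411)
theorem F42959 : act 1 n9148 = n9148 := d14_1 D9148 (iv D9148) F34412
theorem F42960 : act 4 n9148 = n7225 := d32_1 D9148 (iv D7225) (iv F34413)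
theorem F42961 : act 8 n9148 = n7231 := d42_2 (iv F34414) D9148 (iv D7231)
def n9149 : Q := act 2 n7226
theorem D9149 : act 2 n7226 = n9149 := rfl
theorem F42962 : act 0 n9149 = n7675 := d1_1 D9149 (iv D7675) (iv F34418)
theorem F42963 : act 3 n9149 = n7743 := d17_2 D7226 D9149 (iv D7743) (iv D6141) (iv F27633)
theorem F42964 : act 5 n9149 = n7232 := d19_2 (iv F34420) D9149 (iv D7232)
theorem F42965 : act 7 n9149 = n7229 := d21_2 (iv F34421) D9149 (iv D7229)
theorem F42966 : act 9 n9149 = n7282 := d23_2 (iv F34422) D9149 (iv D7282)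
def n9150 : Q := act 6 n7226
theorem D9150 : act 6 n7226 = n9150 := rfl
theorem F42967 : act 0 n9150 = n7676 := d5_1 D9150 (iv D7676) (iv F34418)
theorem F42968 : act 1 n9150 = n9150 := d13_1 D9150 (iv D9150) F34419
theorem F42969 : act 3 n9150 = n7227 := d26_1 D9150 (iv D7227) D7226
theorem F42970 : act 9 n9150 = n7283 := d41_2 (iv F34422) D9150 (iv D7283)
def n9151 : Q := act 5 n7227
theorem D9151 : act 5 n7227 = n9151 := rfl
theorem F42971 : act 0 n9151 = n7677 := d4_1 D9151 (iv D7677) (iv F34423)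
theorem F42972 : act 1 n9151 = n9151 := d12_1 D9151 (iv D9151) F34424
theorem F42973 : act 2 n9151 = n7745 := d19_1 D9151 (iv D7745) (iv F34425)
theorem F42974 : act 4 n9151 = n9151 := d30_1 D9151 (iv D9151) F34426 F27640 (iv F34426)
theorem F42975 : act 6 n9151 = n7234 := d35_2 D7227 D9151 (iv D7234) (iv D5741) (iv F27634)
theorem F42976 : act 9 n9151 = n7284 := d38_2 (iv F34427) D9151 (iv D7284)
def n9152 : Q := act 7 n7227
theorem D9152 : act 7 n7227 = n9152 := rfl
theorem F42977 : act 0 n9152 = n7678 := d6_1 D9152 (iv D7678) (iv F34423)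
theorem F42978 : act 1 n9152 = n9152 := d14_1 D9152 (iv D9152) F34424
theorem F42979 : act 2 n9152 = n7746 := d21_1 D9152 (iv D7746) (iv F34425)
theorem F42980 : act 4 n9152 = n7228 := d32_1 D9152 (iv D7228) (iv F34426)
theorem F42981 : act 6 n9152 = n7231 := d39_1 D9152 (iv D7231) (iv D5738) (iv F27635) D7227
theorem F42982 : act 9 n9152 = n7285 := d43_2 (iv F34427) D9152 (iv D7285)
def n9153 : Q := act 1 n7229
theorem D9153 : act 1 n7229 = n9153 := rfl
theorem F42983 : act 2 n9153 = n9153 := d9_2 D7229 D9153 (iv D9153) (iv D7229) F27643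
theorem F42984 : act 5 n9153 = n7235 := d12_2 (iv F34435) D9153 (iv D7235)
theorem F42985 : act 9 n9153 = n7286 := d16_2 (iv F34436) D9153 (iv D7286)
def n9154 : Q := act 6 n7229
theorem D9154 : act 6 n7229 = n9154 := rfl
theorem F42986 : act 0 n9154 = n7680 := d5_1 D9154 (iv D7680) (iv F34434)
theorem F42987 : act 2 n9154 = n7230 := d20_1 D9154 (iv D7230) D7229
theorem F42988 : act 5 n9154 = n9154 := d35_1 D9154 (iv D9154) F34435 F27670 (iv F34435)
theorem F42989 : act 9 n9154 = n7287 := d41_2 (iv F34436) D9154 (iv D7287)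
def n9155 : Q := act 7 n7230
theorem D9155 : act 7 n7230 = n9155 := rfl
theorem F42990 : act 0 n9155 = n7681 := d6_1 D9155 (iv D7681) (iv F34437)
theorem F42991 : act 1 n9155 = n9155 := d14_1 D9155 (iv D9155) F34438
theorem F42992 : act 3 n9155 = n7231 := d27_1 D9155 (iv D7231) (iv F34439)
theorem F42993 : act 5 n9155 = n9155 := d36_1 D9155 (iv D9155) F34440
theorem F42994 : act 9 n9155 = n7288 := d43_2 (iv F34441) D9155 (iv D7288)
def n9156 : Q := act 1 n7232
theorem D9156 : act 1 n7232 = n9156 := rfl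
theorem F42995 : act 2 n9156 = n9156 := d9_2 D7232 D9156 (iv D9156) (iv D7232) F27656
theorem F42996 : act 3 n9156 = n7764 := d10_2 (iv F34448) D9156 (iv D7764)
theorem F42997 : act 4 n9156 = n7372 := d11_2 (iv F34449) D9156 (iv D7372)
theorem F42998 : act 7 n9156 = n7235 := d14_2 (iv F34450) D9156 (iv D7235)
theorem F42999 : act 8 n9156 = n9156 := d15_2 F34451 D9156 (iv D9156)
theorem F43000 : act 9 n9156 = n7289 := d16_2 (iv F34452) D9156 (iv D7289)
def n9157 : Q := act 6 n7232
theorem D9157 : act 6 n7232 = n9157 := rfl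
theorem F43001 : act 0 n9157 = n7683 := d5_1 D9157 (iv D7683) (iv F34447)
theorem F43003 : act 3 n9157 = n7765 := d26_1 D9157 (iv D7765) (iv F34448)
theorem F43004 : act 4 n9157 = n7373 := d31_1 D9157 (iv D7373) (iv F34449)
theorem F43007 : act 9 n9157 = n7290 := d41_2 (iv F34452) D9157 (iv D7290)
def n9158 : Q := act 5 n7233
theorem D9158 : act 5 n7233 = n9158 := rfl
theorem F43010 : act 3 n9158 = n7234 := d25_1 D9158 (iv D7234) (iv F34455)
def n9159 : Q := act 8 n7234
theorem D9159 : act 8 n7234 = n9159 := rfl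
theorem F43013 : act 0 n9159 = n7685 := d7_1 D9159 (iv D7685) (iv F34460)
theorem F43014 : act 1 n9159 = n9159 := d15_1 D9159 (iv D9159) F34461
theorem F43015 : act 2 n9159 = n7767 := d22_1 D9159 (iv D7767) (iv F34462)
theorem F43016 : act 4 n9159 = n9159 := d33_1 D9159 (iv D9159) F34463
theorem F43017 : act 5 n9159 = n9159 := d37_1 D9159 (iv D9159) (iv D7234) F27666 D7234
theorem F43018 : act 7 n9159 = n9159 := d42_1 D9159 (iv D9159) F34464
theorem F43019 : act 9 n9159 = n9159 := d44_2 (iv F34465) D9159 (iv D9159) F34465 F27885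
def n9160 : Q := act 0 n7235
theorem D9160 : act 0 n7235 = n9160 := rfl
theorem F43020 : act 1 n9160 = n7686 := d0_2 D7235 D9160 (iv D7686) (iv D6101) (iv F27668)
theorem F43021 : act 2 n9160 = n9160 := d1_2 F34466 D9160 (iv D9160)
theorem F43023 : act 6 n9160 = n9160 := d5_2 F34468 D9160 (iv D9160)
theorem F43024 : act 8 n9160 = n9160 := d7_2 F34469 D9160 (iv D9160)
theorem F43025 : act 9 n9160 = n7292 := d8_2 (iv F34470) D9160 (iv D7292)
def n9161 : Q := act 8 n7236
theorem D9161 : act 8 n7236 = n9161 := rfl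
theorem F43026 : act 0 n9161 = n7242 := d7_1 D9161 (iv D7242) (iv F34471)
theorem F43027 : act 1 n9161 = n7687 := d15_1 D9161 (iv D7687) (iv F34472)
theorem F43028 : act 2 n9161 = n9161 := d22_1 D9161 (iv D9161) F34473
theorem F43029 : act 3 n9161 = n7609 := d28_1 D9161 (iv D7609) (iv F34474)
theorem F43030 : act 4 n9161 = n9161 := d33_1 D9161 (iv D9161) F34475
theorem F43031 : act 6 n9161 = n9161 := d40_1 D9161 (iv D9161) F34476
theorem F43032 : act 7 n9161 = n7495 := d42_1 D9161 (iv D7495) (iv F34477)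
theorem F43033 : act 9 n9161 = n7237 := d44_2 D7236 D9161 (iv D7237) (iv D5744) D5743
def n9162 : Q := act 5 n7237
theorem D9162 : act 5 n7237 = n9162 := rfl
theorem F43034 : act 0 n9162 = n7243 := d4_1 D9162 (iv D7243) (iv F34478)
theorem F43035 : act 1 n9162 = n7688 := d12_1 D9162 (iv D7688) (iv F34479)
theorem F43036 : act 2 n9162 = n9162 := d19_1 D9162 (iv D9162) F34480
theorem F43037 : act 3 n9162 = n7689 := d25_1 D9162 (iv D7689) (iv F34481)
theorem F43038 : act 7 n9162 = n7525 := d36_2 (iv F34484) D9162 (iv D7525)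
theorem F43039 : act 8 n9162 = n7239 := d37_2 D7237 D9162 (iv D7239) (iv D5746) (iv F27685)
def n9163 : Q := act 5 n7238
theorem D9163 : act 5 n7238 = n9163 := rfl
theorem F43040 : act 0 n9163 = n7244 := d4_1 D9163 (iv D7244) (iv F34485)
theorem F43041 : act 1 n9163 = n7689 := d12_1 D9163 (iv D7689) (iv F34486)
theorem F43042 : act 2 n9163 = n9163 := d19_1 D9163 (iv D9163) F34487
theorem F43043 : act 3 n9163 = n7688 := d25_1 D9163 (iv D7688) (iv F34488)
theorem F43044 : act 7 n9163 = n7239 := d36_2 (iv F34491) D9163 (iv D7239)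
theorem F43045 : act 8 n9163 = n7525 := d37_2 D7238 D9163 (iv D7525) (iv D5973) (iv F27693)
def n9164 : Q := act 4 n7239
theorem D9164 : act 4 n7239 = n9164 := rfl
theorem F43046 : act 0 n9164 = n7245 := d3_1 D9164 (iv D7245) (iv F34492)
theorem F43047 : act 1 n9164 = n7690 := d11_1 D9164 (iv D7690) (iv F34493)
theorem F43048 : act 2 n9164 = n9164 := d18_1 D9164 (iv D9164) F34494
theorem F43049 : act 5 n9164 = n7378 := d30_2 D7239 D9164 (iv D7378) (iv D5856) (iv F27699)
def n9165 : Q := act 6 n7239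
theorem D9165 : act 6 n7239 = n9165 := rfl
theorem F43050 : act 0 n9165 = n7246 := d5_1 D9165 (iv D7246) (iv F34492)
theorem F43051 : act 1 n9165 = n7691 := d13_1 D9165 (iv D7691) (iv F34493)
theorem F43052 : act 2 n9165 = n9165 := d20_1 D9165 (iv D9165) F34494
theorem F43053 : act 5 n9165 = n7241 := d35_1 D9165 (iv D7241) (iv D5747) (iv F27700) D7239
def n9166 : Q := act 3 n7240
theorem D9166 : act 3 n7240 = n9166 := rfl
theorem F43054 : act 0 n9166 = n7247 := d2_1 D9166 (iv D7247) (iv F34495)
theorem F43055 : act 1 n9166 = n7692 := d10_1 D9166 (iv D7692) (iv F34496)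
theorem F43056 : act 5 n9166 = n7380 := d25_2 (iv F34498) D9166 (iv D7380)
theorem F43057 : act 7 n9166 = n9166 := d27_2 F34499 D9166 (iv D9166)
theorem F43058 : act 8 n9166 = n9166 := d28_2 F34500 D9166 (iv D9166)
def n9167 : Q := act 6 n7240
theorem D9167 : act 6 n7240 = n9167 := rfl
theorem F43059 : act 0 n9167 = n7248 := d5_1 D9167 (iv D7248) (iv F34495)
theorem F43060 : act 1 n9167 = n7693 := d13_1 D9167 (iv D7693) (iv F34496)
theorem F43061 : act 2 n9167 = n9167 := d20_1 D9167 (iv D9167) F34497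
theorem F43062 : act 4 n9167 = n7241 := d31_1 D9167 (iv D7241) D7240
theorem F43063 : act 8 n9167 = n9167 := d40_2 F34500 D9167 (iv D9167)
def n9168 : Q := act 7 n7241
theorem D9168 : act 7 n7241 = n9168 := rfl
theorem F43064 : act 0 n9168 = n7249 := d6_1 D9168 (iv D7249) (iv F34501)
theorem F43065 : act 1 n9168 = n7694 := d14_1 D9168 (iv D7694) (iv F34502)
theorem F43066 : act 2 n9168 = n9168 := d21_1 D9168 (iv D9168) F34503
theorem F43067 : act 6 n9168 = n9168 := d39_1 D9168 (iv D9168) (iv D7241) F27704 D7241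
theorem F43068 : act 8 n9168 = n9168 := d42_2 F34504 D9168 (iv D9168)
def n9169 : Q := act 5 n7242
theorem D9169 : act 5 n7242 = n9169 := rfl
theorem F43069 : act 1 n9169 = n7250 := d12_1 D9169 (iv D7250) (iv F34505)
theorem F43070 : act 2 n9169 = n9169 := d19_1 D9169 (iv D9169) F34506
theorem F43071 : act 3 n9169 = n7617 := d25_1 D9169 (iv D7617) (iv F34507)
theorem F43072 : act 7 n9169 = n7499 := d36_2 (iv F34510) D9169 (iv D7499)
theorem F43073 : act 9 n9169 = n7243 := d38_2 (iv F34511) D9169 (iv D7243)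
def n9170 : Q := act 4 n7243
theorem D9170 : act 4 n7243 = n9170 := rfl
theorem F43074 : act 1 n9170 = n7251 := d11_1 D9170 (iv D7251) (iv F34512)
theorem F43075 : act 2 n9170 = n9170 := d18_1 D9170 (iv D9170) F34513
theorem F43076 : act 5 n9170 = n9170 := d30_2 D7243 D9170 (iv D9170) (iv D7243) F27715
theorem F43077 : act 7 n9170 = n7528 := d32_2 (iv F34515) D9170 (iv D7528)
theorem F43078 : act 8 n9170 = n7245 := d33_2 (iv F34516) D9170 (iv D7245)
def n9171 : Q := act 6 n7243
theorem D9171 : act 6 n7243 = n9171 := rfl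
theorem F43079 : act 1 n9171 = n7252 := d13_1 D9171 (iv D7252) (iv F34512)
theorem F43080 : act 2 n9171 = n9171 := d20_1 D9171 (iv D9171) F34513
theorem F43081 : act 3 n9171 = n7699 := d26_1 D9171 (iv D7699) (iv F34514)
theorem F43082 : act 5 n9171 = n9171 := d35_1 D9171 (iv D9171) (iv D7243) F27716 D7243
theorem F43083 : act 8 n9171 = n7246 := d40_2 (iv F34516) D9171 (iv D7246)
def n9172 : Q := act 4 n7244
theorem D9172 : act 4 n7244 = n9172 := rfl
theorem F43084 : act 1 n9172 = n7253 := d11_1 D9172 (iv D7253) (iv F34517)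
theorem F43085 : act 2 n9172 = n9172 := d18_1 D9172 (iv D9172) F34518
theorem F43086 : act 5 n9172 = n7383 := d30_2 D7244 D9172 (iv D7383) (iv D5859) (iv F27721)
theorem F43087 : act 7 n9172 = n7245 := d32_2 (iv F34520) D9172 (iv D7245)
theorem F43088 : act 8 n9172 = n7528 := d33_2 (iv F34521) D9172 (iv D7528)
def n9173 : Q := act 6 n7244
theorem D9173 : act 6 n7244 = n9173 := rfl
theorem F43089 : act 1 n9173 = n7254 := d13_1 D9173 (iv D7254) (iv F34517)
theorem F43090 : act 2 n9173 = n9173 := d20_1 D9173 (iv D9173) F34518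
theorem F43091 : act 3 n9173 = n7697 := d26_1 D9173 (iv D7697) (iv F34519)
theorem F43092 : act 5 n9173 = n9173 := d35_1 D9173 (iv D9173) (iv D7244) F27722 D7244
theorem F43093 : act 8 n9173 = n7529 := d40_2 (iv F34521) D9173 (iv D7529)
def n9174 : Q := act 3 n7245
theorem D9174 : act 3 n7245 = n9174 := rfl
theorem F43094 : act 1 n9174 = n7255 := d10_1 D9174 (iv D7255) (iv F34522)
theorem F43095 : act 5 n9174 = n7385 := d25_2 (iv F34524) D9174 (iv D7385)
def n9175 : Q := act 6 n7245
theorem D9175 : act 6 n7245 = n9175 := rfl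
theorem F43096 : act 1 n9175 = n7256 := d13_1 D9175 (iv D7256) (iv F34522)
theorem F43097 : act 2 n9175 = n9175 := d20_1 D9175 (iv D9175) F34523
theorem F43098 : act 4 n9175 = n7246 := d31_1 D9175 (iv D7246) D7245
def n9176 : Q := act 7 n7246
theorem D9176 : act 7 n7246 = n9176 := rfl
theorem F43099 : act 1 n9176 = n7257 := d14_1 D9176 (iv D7257) (iv F34525)
theorem F43100 : act 2 n9176 = n9176 := d21_1 D9176 (iv D9176) F34526
theorem F43101 : act 5 n9176 = n7249 := d36_1 D9176 (iv D7249) (iv F34527)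
def n9177 : Q := act 2 n7247
theorem D9177 : act 2 n7247 = n9177 := rfl
theorem F43102 : act 1 n9177 = n9177 := d9_1 D9177 (iv D9177) F34528 F27758 (iv F34528)
theorem F43103 : act 3 n9177 = n9177 := d17_2 D7247 D9177 (iv D9177) (iv D7247) F27727
theorem F43104 : act 5 n9177 = n7388 := d19_2 (iv F34529) D9177 (iv D7388)
theorem F43105 : act 7 n9177 = n9177 := d21_2 F34530 D9177 (iv D9177)
theorem F43106 : act 8 n9177 = n9177 := d22_2 F34531 D9177 (iv D9177)
def n9178 : Q := act 6 n7247
theorem D9178 : act 6 n7247 = n9178 := rfl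
theorem F43107 : act 1 n9178 = n7258 := d13_1 D9178 (iv D7258) (iv F34528)
theorem F43108 : act 3 n9178 = n7248 := d26_1 D9178 (iv D7248) D7247
theorem F43109 : act 8 n9178 = n9178 := d40_2 F34531 D9178 (iv D9178)
def n9179 : Q := act 5 n7248
theorem D9179 : act 5 n7248 = n9179 := rfl
theorem F43110 : act 1 n9179 = n7259 := d12_1 D9179 (iv D7259) (iv F34532)
theorem F43111 : act 2 n9179 = n9179 := d19_1 D9179 (iv D9179) F34533
theorem F43112 : act 6 n9179 = n7390 := d35_2 D7248 D9179 (iv D7390) (iv D5863) (iv F27728)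
def n9180 : Q := act 7 n7248
theorem D9180 : act 7 n7248 = n9180 := rfl
theorem F43113 : act 1 n9180 = n7260 := d14_1 D9180 (iv D7260) (iv F34532)
theorem F43114 : act 2 n9180 = n9180 := d21_1 D9180 (iv D9180) F34533
theorem F43115 : act 4 n9180 = n7249 := d32_1 D9180 (iv D7249) (iv F34534)
theorem F43116 : act 6 n9180 = n9180 := d39_1 D9180 (iv D9180) (iv D7248) F27729 D7248
theorem F43117 : act 8 n9180 = n9180 := d42_2 F34535 D9180 (iv D9180)
def n9181 : Q := act 4 n7250
theorem D9181 : act 4 n7250 = n9181 := rfl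
theorem F43118 : act 0 n9181 = n7707 := d3_1 D9181 (iv D7707) (iv F34540)
theorem F43119 : act 2 n9181 = n7261 := d18_1 D9181 (iv D7261) (iv F34541)
theorem F43120 : act 5 n9181 = n9181 := d30_2 D7250 D9181 (iv D9181) (iv D7250) F27737
theorem F43121 : act 7 n9181 = n7505 := d32_2 (iv F34543) D9181 (iv D7505)
theorem F43122 : act 9 n9181 = n7251 := d34_2 (iv F34544) D9181 (iv D7251)
def n9182 : Q := act 6 n7250
theorem D9182 : act 6 n7250 = n9182 := rfl
theorem F43123 : act 0 n9182 = n7708 := d5_1 D9182 (iv D7708) (iv F34540)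
theorem F43124 : act 2 n9182 = n7262 := d20_1 D9182 (iv D7262) (iv F34541)
theorem F43125 : act 3 n9182 = n7634 := d26_1 D9182 (iv D7634) (iv F34542)
theorem F43126 : act 5 n9182 = n9182 := d35_1 D9182 (iv D9182) (iv D7250) F27738 D7250
theorem F43127 : act 9 n9182 = n7252 := d41_2 (iv F34544) D9182 (iv D7252)
def n9183 : Q := act 3 n7251
theorem D9183 : act 3 n7251 = n9183 := rfl
theorem F43128 : act 0 n9183 = n7709 := d2_1 D9183 (iv D7709) (iv F34545)
theorem F43129 : act 4 n9183 = n7712 := d24_2 D7251 D9183 (iv D7712) (iv D6119) (iv F27743)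
theorem F43130 : act 5 n9183 = n9183 := d25_2 F34547 D9183 (iv D9183)
theorem F43131 : act 7 n9183 = n7533 := d27_2 (iv F34548) D9183 (iv D7533)
theorem F43132 : act 8 n9183 = n7255 := d28_2 (iv F34549) D9183 (iv D7255)
def n9184 : Q := act 6 n7251
theorem D9184 : act 6 n7251 = n9184 := rfl
theorem F43133 : act 0 n9184 = n7710 := d5_1 D9184 (iv D7710) (iv F34545)
theorem F43134 : act 2 n9184 = n7264 := d20_1 D9184 (iv D7264) (iv F34546)
theorem F43135 : act 4 n9184 = n7252 := d31_1 D9184 (iv D7252) D7251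
theorem F43136 : act 8 n9184 = n7256 := d40_2 (iv F34549) D9184 (iv D7256)
def n9185 : Q := act 7 n7252
theorem D9185 : act 7 n7252 = n9185 := rfl
theorem F43137 : act 0 n9185 = n7711 := d6_1 D9185 (iv D7711) (iv F34550)
theorem F43138 : act 2 n9185 = n7265 := d21_1 D9185 (iv D7265) (iv F34551)
theorem F43139 : act 3 n9185 = n7714 := d27_1 D9185 (iv D7714) (iv F34552)
theorem F43140 : act 5 n9185 = n9185 := d36_1 D9185 (iv D9185) F34553
theorem F43141 : act 6 n9185 = n7535 := d39_1 D9185 (iv D7535) (iv D5979) (iv F27744) D7252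
theorem F43142 : act 8 n9185 = n7257 := d42_2 (iv F34554) D9185 (iv D7257)
def n9186 : Q := act 3 n7253
theorem D9186 : act 3 n7253 = n9186 := rfl
theorem F43143 : act 0 n9186 = n7712 := d2_1 D9186 (iv D7712) (iv F34555)
theorem F43144 : act 4 n9186 = n7709 := d24_2 D7253 D9186 (iv D7709) (iv D6117) (iv F27748)
theorem F43145 : act 5 n9186 = n7392 := d25_2 (iv F34557) D9186 (iv D7392)
theorem F43146 : act 7 n9186 = n7255 := d27_2 (iv F34558) D9186 (iv D7255)
theorem F43147 : act 8 n9186 = n7533 := d28_2 (iv F34559) D9186 (iv D7533)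
def n9187 : Q := act 6 n7253
theorem D9187 : act 6 n7253 = n9187 := rfl
theorem F43148 : act 0 n9187 = n7713 := d5_1 D9187 (iv D7713) (iv F34555)
theorem F43149 : act 2 n9187 = n7267 := d20_1 D9187 (iv D7267) (iv F34556)
theorem F43150 : act 4 n9187 = n7254 := d31_1 D9187 (iv D7254) D7253
theorem F43151 : act 8 n9187 = n7534 := d40_2 (iv F34559) D9187 (iv D7534)
def n9188 : Q := act 7 n7254
theorem D9188 : act 7 n7254 = n9188 := rfl
theorem F43152 : act 0 n9188 = n7714 := d6_1 D9188 (iv D7714) (iv F34560)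
theorem F43153 : act 2 n9188 = n7268 := d21_1 D9188 (iv D7268) (iv F34561)
theorem F43154 : act 3 n9188 = n7711 := d27_1 D9188 (iv D7711) (iv F34562)
theorem F43155 : act 5 n9188 = n9188 := d36_1 D9188 (iv D9188) F34563
theorem F43156 : act 6 n9188 = n7257 := d39_1 D9188 (iv D7257) (iv D5758) (iv F27749) D7254
theorem F43157 : act 8 n9188 = n7535 := d42_2 (iv F34564) D9188 (iv D7535)
def n9189 : Q := act 2 n7255
theorem D9189 : act 2 n7255 = n9189 := rfl
theorem F43158 : act 0 n9189 = n7715 := d1_1 D9189 (iv D7715) (iv F34565)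
theorem F43159 : act 3 n9189 = n7269 := d17_2 D7255 D9189 (iv D7269) (iv D5767) (iv F27752)
theorem F43160 : act 5 n9189 = n7395 := d19_2 (iv F34566) D9189 (iv D7395)
def n9190 : Q := act 6 n7255
theorem D9190 : act 6 n7255 = n9190 := rfl
theorem F43161 : act 0 n9190 = n7716 := d5_1 D9190 (iv D7716) (iv F34565)
theorem F43162 : act 3 n9190 = n7256 := d26_1 D9190 (iv D7256) D7255
def n9191 : Q := act 5 n7256
theorem D9191 : act 5 n7256 = n9191 := rfl
theorem F43163 : act 0 n9191 = n7717 := d4_1 D9191 (iv D7717) (iv F34567)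
theorem F43164 : act 2 n9191 = n7271 := d19_1 D9191 (iv D7271) (iv F34568)
theorem F43165 : act 4 n9191 = n7259 := d30_1 D9191 (iv D7259) F27764 (iv F27756) (iv F34569)
theorem F43166 : act 6 n9191 = n7397 := d35_2 D7256 D9191 (iv D7397) (iv D5868) (iv F27753)
def n9192 : Q := act 7 n7256
theorem D9192 : act 7 n7256 = n9192 := rfl
theorem F43167 : act 0 n9192 = n7718 := d6_1 D9192 (iv D7718) (iv F34567)
theorem F43168 : act 2 n9192 = n7272 := d21_1 D9192 (iv D7272) (iv F34568)
theorem F43169 : act 4 n9192 = n7257 := d32_1 D9192 (iv D7257) (iv F34569)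
def n9193 : Q := act 5 n7258
theorem D9193 : act 5 n7258 = n9193 := rfl
theorem F43170 : act 0 n9193 = n7719 := d4_1 D9193 (iv D7719) (iv F34573)
theorem F43171 : act 2 n9193 = n9193 := d19_1 D9193 (iv D9193) F34574
theorem F43172 : act 3 n9193 = n7259 := d25_1 D9193 (iv D7259) (iv F34575)
theorem F43173 : act 6 n9193 = n7399 := d35_2 D7258 D9193 (iv D7399) (iv D5870) (iv F27759)
def n9194 : Q := act 7 n7258
theorem D9194 : act 7 n7258 = n9194 := rfl
theorem F43174 : act 0 n9194 = n7720 := d6_1 D9194 (iv D7720) (iv F34573)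
theorem F43175 : act 2 n9194 = n9194 := d21_1 D9194 (iv D9194) F34574
theorem F43176 : act 3 n9194 = n7260 := d27_1 D9194 (iv D7260) (iv F34575)
theorem F43177 : act 6 n9194 = n9194 := d39_1 D9194 (iv D9194) (iv D7258) F27760 D7258
theorem F43178 : act 8 n9194 = n9194 := d42_2 F34576 D9194 (iv D9194)
def n9195 : Q := act 7 n7259
theorem D9195 : act 7 n7259 = n9195 := rfl
theorem F43179 : act 0 n9195 = n7721 := d6_1 D9195 (iv D7721) (iv F34577)
theorem F43180 : act 2 n9195 = n7273 := d21_1 D9195 (iv D7273) (iv F34578)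
theorem F43181 : act 5 n9195 = n7260 := d36_1 D9195 (iv D7260) D7259
def n9196 : Q := act 8 n7259
theorem D9196 : act 8 n7259 = n9196 := rfl
theorem F43182 : act 0 n9196 = n7722 := d7_1 D9196 (iv D7722) (iv F34577)
theorem F43183 : act 2 n9196 = n7274 := d22_1 D9196 (iv D7274) (iv F34578)
theorem F43184 : act 5 n9196 = n9196 := d37_1 D9196 (iv D9196) (iv D7259) F27765 D7259
theorem F43185 : act 6 n9196 = n7402 := d40_1 D9196 (iv D7402) (iv F34579)
def n9197 : Q := act 3 n7261
theorem D9197 : act 3 n7261 = n9197 := rfl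
theorem F43186 : act 0 n9197 = n7723 := d2_1 D9197 (iv D7723) (iv F34585)
theorem F43187 : act 1 n9197 = n9197 := d10_1 D9197 (iv D9197) F34586
theorem F43188 : act 4 n9197 = n7275 := d24_2 D7261 D9197 (iv D7275) (iv D5772) (iv F27772)
theorem F43189 : act 5 n9197 = n9197 := d25_2 F34587 D9197 (iv D9197)
theorem F43190 : act 7 n9197 = n7513 := d27_2 (iv F34588) D9197 (iv D7513)
theorem F43191 : act 9 n9197 = n7263 := d29_2 (iv F34589) D9197 (iv D7263)
def n9198 : Q := act 6 n7261
theorem D9198 : act 6 n7261 = n9198 := rfl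
theorem F43192 : act 0 n9198 = n7724 := d5_1 D9198 (iv D7724) (iv F34585)
theorem F43193 : act 1 n9198 = n9198 := d13_1 D9198 (iv D9198) F34586
theorem F43194 : act 4 n9198 = n7262 := d31_1 D9198 (iv D7262) D7261
theorem F43195 : act 9 n9198 = n7264 := d41_2 (iv F34589) D9198 (iv D7264)
def n9199 : Q := act 7 n7262
theorem D9199 : act 7 n7262 = n9199 := rfl
theorem F43196 : act 0 n9199 = n7725 := d6_1 D9199 (iv D7725) (iv F34590)
theorem F43197 : act 1 n9199 = n9199 := d14_1 D9199 (iv D9199) F34591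
theorem F43198 : act 3 n9199 = n7277 := d27_1 D9199 (iv D7277) (iv F34592)
theorem F43199 : act 5 n9199 = n9199 := d36_1 D9199 (iv D9199) F34593
theorem F43200 : act 6 n9199 = n7515 := d39_1 D9199 (iv D7515) (iv D5964) (iv F27773) D7262
theorem F43201 : act 9 n9199 = n7265 := d43_2 (iv F34594) D9199 (iv D7265)
def n9200 : Q := act 2 n7263
theorem D9200 : act 2 n7263 = n9200 := rfl
theorem F43202 : act 0 n9200 = n7726 := d1_1 D9200 (iv D7726) (iv F34595)
theorem F43203 : act 4 n9200 = n7278 := d18_2 (iv F34597) D9200 (iv D7278)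
theorem F43204 : act 5 n9200 = n9200 := d19_2 F34598 D9200 (iv D9200)
theorem F43205 : act 7 n9200 = n7539 := d21_2 (iv F34599) D9200 (iv D7539)
theorem F43206 : act 8 n9200 = n7269 := d22_2 (iv F34600) D9200 (iv D7269)
def n9201 : Q := act 6 n7263
theorem D9201 : act 6 n7263 = n9201 := rfl
theorem F43207 : act 0 n9201 = n7727 := d5_1 D9201 (iv D7727) (iv F34595)
theorem F43208 : act 1 n9201 = n9201 := d13_1 D9201 (iv D9201) F34596
theorem F43209 : act 3 n9201 = n7264 := d26_1 D9201 (iv D7264) D7263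
theorem F43210 : act 4 n9201 = n7279 := d31_1 D9201 (iv D7279) (iv F34597)
theorem F43211 : act 8 n9201 = n7270 := d40_2 (iv F34600) D9201 (iv D7270)
def n9202 : Q := act 5 n7264
theorem D9202 : act 5 n7264 = n9202 := rfl
theorem F43212 : act 0 n9202 = n7728 := d4_1 D9202 (iv D7728) (iv F34601)
theorem F43213 : act 1 n9202 = n9202 := d12_1 D9202 (iv D9202) F34602
theorem F43214 : act 4 n9202 = n9202 := d30_1 D9202 (iv D9202) F34603 F27783 (iv F34603)
theorem F43215 : act 6 n9202 = n9202 := d35_2 D7264 D9202 (iv D9202) (iv D7264) F27777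
def n9203 : Q := act 7 n7264
theorem D9203 : act 7 n7264 = n9203 := rfl
theorem F43216 : act 0 n9203 = n7729 := d6_1 D9203 (iv D7729) (iv F34601)
theorem F43217 : act 1 n9203 = n9203 := d14_1 D9203 (iv D9203) F34602
theorem F43218 : act 4 n9203 = n7265 := d32_1 D9203 (iv D7265) (iv F34603)
theorem F43219 : act 6 n9203 = n7542 := d39_1 D9203 (iv D7542) (iv D5984) (iv F27778) D7264
theorem F43220 : act 8 n9203 = n7272 := d42_2 (iv F34604) D9203 (iv D7272)
def n9204 : Q := act 2 n7266
theorem D9204 : act 2 n7266 = n9204 := rfl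
theorem F43221 : act 0 n9204 = n7730 := d1_1 D9204 (iv D7730) (iv F34611)
theorem F43222 : act 4 n9204 = n7282 := d18_2 (iv F34613) D9204 (iv D7282)
theorem F43223 : act 5 n9204 = n7403 := d19_2 (iv F34614) D9204 (iv D7403)
theorem F43224 : act 7 n9204 = n7269 := d21_2 (iv F34615) D9204 (iv D7269)
theorem F43225 : act 8 n9204 = n7539 := d22_2 (iv F34616) D9204 (iv D7539)
def n9205 : Q := act 6 n7266
theorem D9205 : act 6 n7266 = n9205 := rfl
theorem F43226 : act 0 n9205 = n7731 := d5_1 D9205 (iv D7731) (iv F34611)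
theorem F43227 : act 1 n9205 = n9205 := d13_1 D9205 (iv D9205) F34612
theorem F43228 : act 3 n9205 = n7267 := d26_1 D9205 (iv D7267) D7266
theorem F43229 : act 4 n9205 = n7283 := d31_1 D9205 (iv D7283) (iv F34613)
theorem F43230 : act 8 n9205 = n7540 := d40_2 (iv F34616) D9205 (iv D7540)
def n9206 : Q := act 5 n7267
theorem D9206 : act 5 n7267 = n9206 := rfl
theorem F43231 : act 0 n9206 = n7732 := d4_1 D9206 (iv D7732) (iv F34617)
theorem F43232 : act 1 n9206 = n9206 := d12_1 D9206 (iv D9206) F34618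
theorem F43233 : act 4 n9206 = n9206 := d30_1 D9206 (iv D9206) F34619 F27793 (iv F34619)
theorem F43234 : act 6 n9206 = n7405 := d35_2 D7267 D9206 (iv D7405) (iv D5874) (iv F27787)
def n9207 : Q := act 7 n7267
theorem D9207 : act 7 n7267 = n9207 := rfl
theorem F43235 : act 0 n9207 = n7733 := d6_1 D9207 (iv D7733) (iv F34617)
theorem F43236 : act 1 n9207 = n9207 := d14_1 D9207 (iv D9207) F34618
theorem F43237 : act 4 n9207 = n7268 := d32_1 D9207 (iv D7268) (iv F34619)
theorem F43238 : act 6 n9207 = n7272 := d39_1 D9207 (iv D7272) (iv D5768) (iv F27788) D7267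
theorem F43239 : act 8 n9207 = n7542 := d42_2 (iv F34620) D9207 (iv D7542)
def n9208 : Q := act 1 n7269
theorem D9208 : act 1 n7269 = n9208 := rfl
theorem F43240 : act 2 n9208 = n9208 := d9_2 D7269 D9208 (iv D9208) (iv D7269) F27796
theorem F43241 : act 4 n9208 = n7286 := d11_2 (iv F34628) D9208 (iv D7286)
theorem F43242 : act 5 n9208 = n7407 := d12_2 (iv F34629) D9208 (iv D7407)
def n9209 : Q := act 6 n7269
theorem D9209 : act 6 n7269 = n9209 := rfl
theorem F43243 : act 0 n9209 = n7735 := d5_1 D9209 (iv D7735) (iv F34627)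
theorem F43244 : act 2 n9209 = n7270 := d20_1 D9209 (iv D7270) D7269
theorem F43245 : act 4 n9209 = n7287 := d31_1 D9209 (iv D7287) (iv F34628)
def n9210 : Q := act 5 n7270
theorem D9210 : act 5 n7270 = n9210 := rfl
theorem F43246 : act 0 n9210 = n7736 := d4_1 D9210 (iv D7736) (iv F34630)
theorem F43247 : act 1 n9210 = n9210 := d12_1 D9210 (iv D9210) F34631
theorem F43248 : act 3 n9210 = n7271 := d25_1 D9210 (iv D7271) (iv F34632)
theorem F43249 : act 4 n9210 = n9210 := d30_1 D9210 (iv D9210) F34633 F27864 (iv F34633)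
theorem F43250 : act 6 n9210 = n7409 := d35_2 D7270 D9210 (iv D7409) (iv D5877) (iv F27798)
def n9211 : Q := act 7 n7270
theorem D9211 : act 7 n7270 = n9211 := rfl
theorem F43251 : act 0 n9211 = n7737 := d6_1 D9211 (iv D7737) (iv F34630)
theorem F43252 : act 1 n9211 = n9211 := d14_1 D9211 (iv D9211) F34631
theorem F43253 : act 3 n9211 = n7272 := d27_1 D9211 (iv D7272) (iv F34632)
theorem F43254 : act 4 n9211 = n7288 := d32_1 D9211 (iv D7288) (iv F34633)
def n9212 : Q := act 7 n7271
theorem D9212 : act 7 n7271 = n9212 := rfl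
theorem F43255 : act 0 n9212 = n7738 := d6_1 D9212 (iv D7738) (iv F34634)
theorem F43256 : act 1 n9212 = n9212 := d14_1 D9212 (iv D9212) F34635
theorem F43257 : act 4 n9212 = n7273 := d32_1 D9212 (iv D7273) (iv F34636)
theorem F43258 : act 5 n9212 = n7272 := d36_1 D9212 (iv D7272) D7271
def n9213 : Q := act 8 n7271
theorem D9213 : act 8 n7271 = n9213 := rfl
theorem F43259 : act 0 n9213 = n7739 := d7_1 D9213 (iv D7739) (iv F34634)
theorem F43260 : act 1 n9213 = n9213 := d15_1 D9213 (iv D9213) F34635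
theorem F43261 : act 4 n9213 = n7274 := d33_1 D9213 (iv D7274) (iv F34636)
theorem F43262 : act 6 n9213 = n7412 := d40_1 D9213 (iv D7412) (iv F34637)
def n9214 : Q := act 6 n7273
theorem D9214 : act 6 n7273 = n9214 := rfl
theorem F43263 : act 0 n9214 = n7740 := d5_1 D9214 (iv D7740) (iv F34641)
theorem F43264 : act 1 n9214 = n9214 := d13_1 D9214 (iv D9214) F34642
theorem F43265 : act 3 n9214 = n9214 := d26_1 D9214 (iv D9214) F34643
theorem F43266 : act 5 n9214 = n9214 := d35_1 D9214 (iv D9214) F34644 F27814 (iv F34644)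
theorem F43267 : act 7 n9214 = n7413 := d39_2 D7273 D9214 (iv D7413) (iv D5880) (iv F27809)
def n9215 : Q := act 8 n7273
theorem D9215 : act 8 n7273 = n9215 := rfl
theorem F43268 : act 0 n9215 = n7741 := d7_1 D9215 (iv D7741) (iv F34641)
theorem F43269 : act 1 n9215 = n9215 := d15_1 D9215 (iv D9215) F34642
theorem F43270 : act 3 n9215 = n9215 := d28_1 D9215 (iv D9215) F34643
theorem F43271 : act 5 n9215 = n9215 := d37_1 D9215 (iv D9215) F34644 F27815 (iv F34644)
theorem F43272 : act 7 n9215 = n7274 := d42_1 D9215 (iv D7274) D7273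
def n9216 : Q := act 9 n7274
theorem D9216 : act 9 n7274 = n9216 := rfl
theorem F43273 : act 0 n9216 = n7742 := d8_1 D9216 (iv D7742) (iv F34645)
theorem F43274 : act 1 n9216 = n9216 := d16_1 D9216 (iv D9216) F34646
theorem F43275 : act 3 n9216 = n9216 := d29_1 D9216 (iv D9216) F34647
theorem F43276 : act 5 n9216 = n9216 := d38_1 D9216 (iv D9216) F34648
theorem F43277 : act 6 n9216 = n7415 := d41_1 D9216 (iv D7415) (iv F34649)
def n9217 : Q := act 2 n7275
theorem D9217 : act 2 n7275 = n9217 := rfl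
theorem F43278 : act 0 n9217 = n7743 := d1_1 D9217 (iv D7743) (iv F34650)
theorem F43279 : act 3 n9217 = n7675 := d17_2 D7275 D9217 (iv D7675) (iv D6092) (iv F27818)
theorem F43280 : act 5 n9217 = n7293 := d19_2 (iv F34652) D9217 (iv D7293)
theorem F43281 : act 7 n9217 = n7521 := d21_2 (iv F34653) D9217 (iv D7521)
theorem F43282 : act 9 n9217 = n7278 := d23_2 (iv F34654) D9217 (iv D7278)
def n9218 : Q := act 6 n7275
theorem D9218 : act 6 n7275 = n9218 := rfl
theorem F43283 : act 0 n9218 = n7744 := d5_1 D9218 (iv D7744) (iv F34650)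
theorem F43284 : act 1 n9218 = n9218 := d13_1 D9218 (iv D9218) F34651
theorem F43285 : act 3 n9218 = n7276 := d26_1 D9218 (iv D7276) D7275
theorem F43286 : act 9 n9218 = n7279 := d41_2 (iv F34654) D9218 (iv D7279)
def n9219 : Q := act 5 n7276
theorem D9219 : act 5 n7276 = n9219 := rfl
theorem F43287 : act 0 n9219 = n7745 := d4_1 D9219 (iv D7745) (iv F34655)
theorem F43288 : act 1 n9219 = n9219 := d12_1 D9219 (iv D9219) F34656
theorem F43289 : act 2 n9219 = n7677 := d19_1 D9219 (iv D7677) (iv F34657)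
theorem F43290 : act 4 n9219 = n9219 := d30_1 D9219 (iv D9219) F34658 F27825 (iv F34658)
theorem F43291 : act 6 n9219 = n7295 := d35_2 D7276 D9219 (iv D7295) (iv D5788) (iv F27819)
theorem F43292 : act 9 n9219 = n7280 := d38_2 (iv F34659) D9219 (iv D7280)
def n9220 : Q := act 7 n7276
theorem D9220 : act 7 n7276 = n9220 := rfl
theorem F43293 : act 0 n9220 = n7746 := d6_1 D9220 (iv D7746) (iv F34655)
theorem F43294 : act 1 n9220 = n9220 := d14_1 D9220 (iv D9220) F34656
theorem F43295 : act 2 n9220 = n7678 := d21_1 D9220 (iv D7678) (iv F34657)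
theorem F43296 : act 4 n9220 = n7277 := d32_1 D9220 (iv D7277) (iv F34658)
theorem F43297 : act 6 n9220 = n7523 := d39_1 D9220 (iv D7523) (iv D5970) (iv F27820) D7276
theorem F43298 : act 9 n9220 = n7281 := d43_2 (iv F34659) D9220 (iv D7281)
def n9221 : Q := act 1 n7278
theorem D9221 : act 1 n7278 = n9221 := rfl
theorem F43300 : act 3 n9221 = n7752 := d10_2 (iv F34667) D9221 (iv D7752)
theorem F43301 : act 5 n9221 = n7296 := d12_2 (iv F34668) D9221 (iv D7296)
theorem F43302 : act 7 n9221 = n7545 := d14_2 (iv F34669) D9221 (iv D7545)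
theorem F43303 : act 8 n9221 = n7286 := d15_2 (iv F34670) D9221 (iv D7286)
def n9222 : Q := act 6 n7278
theorem D9222 : act 6 n7278 = n9222 := rfl
theorem F43304 : act 0 n9222 = n7748 := d5_1 D9222 (iv D7748) (iv F34666)
theorem F43305 : act 2 n9222 = n7279 := d20_1 D9222 (iv D7279) D7278
theorem F43306 : act 3 n9222 = n7753 := d26_1 D9222 (iv D7753) (iv F34667)
theorem F43307 : act 8 n9222 = n7287 := d40_2 (iv F34670) D9222 (iv D7287)
def n9223 : Q := act 5 n7279
theorem D9223 : act 5 n7279 = n9223 := rfl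
theorem F43308 : act 0 n9223 = n7749 := d4_1 D9223 (iv D7749) (iv F34671)
theorem F43309 : act 1 n9223 = n9223 := d12_1 D9223 (iv D9223) F34672
theorem F43310 : act 3 n9223 = n7280 := d25_1 D9223 (iv D7280) (iv F34673)
theorem F43311 : act 6 n9223 = n7298 := d35_2 D7279 D9223 (iv D7298) (iv D5790) (iv F27829)
theorem F43312 : act 8 n9223 = n9223 := d37_2 (iv F34674) D9223 (iv D9223) F34674 F27864
def n9224 : Q := act 7 n7279
theorem D9224 : act 7 n7279 = n9224 := rfl
theorem F43313 : act 0 n9224 = n7750 := d6_1 D9224 (iv D7750) (iv F34671)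
theorem F43314 : act 1 n9224 = n9224 := d14_1 D9224 (iv D9224) F34672
theorem F43315 : act 3 n9224 = n7281 := d27_1 D9224 (iv D7281) (iv F34673)
theorem F43316 : act 6 n9224 = n7547 := d39_1 D9224 (iv D7547) (iv D5989) (iv F27830) D7279
theorem F43317 : act 8 n9224 = n7288 := d42_2 (iv F34674) D9224 (iv D7288)
def n9225 : Q := act 7 n7280
theorem D9225 : act 7 n7280 = n9225 := rfl
theorem F43318 : act 0 n9225 = n7751 := d6_1 D9225 (iv D7751) (iv F34675)
theorem F43319 : act 1 n9225 = n9225 := d14_1 D9225 (iv D9225) F34676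
theorem F43320 : act 2 n9225 = n7756 := d21_1 D9225 (iv D7756) (iv F34677)
theorem F43321 : act 4 n9225 = n9225 := d32_1 D9225 (iv D9225) F34678
theorem F43322 : act 5 n9225 = n7281 := d36_1 D9225 (iv D7281) D7280
theorem F43323 : act 6 n9225 = n9225 := d39_1 D9225 (iv D9225) F34679 F27918 (iv F34679)
theorem F43324 : act 8 n9225 = n9225 := d42_2 F34680 D9225 (iv D9225)
def n9226 : Q := act 1 n7282
theorem D9226 : act 1 n7282 = n9226 := rfl
theorem F43325 : act 2 n9226 = n9226 := d9_2 D7282 D9226 (iv D9226) (iv D7282) F27844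
theorem F43326 : act 3 n9226 = n7747 := d10_2 (iv F34688) D9226 (iv D7747)
theorem F43327 : act 5 n9226 = n7289 := d12_2 (iv F34689) D9226 (iv D7289)
theorem F43328 : act 7 n9226 = n7286 := d14_2 (iv F34690) D9226 (iv D7286)
theorem F43329 : act 8 n9226 = n7545 := d15_2 (iv F34691) D9226 (iv D7545)
def n9227 : Q := act 6 n7282
theorem D9227 : act 6 n7282 = n9227 := rfl
theorem F43331 : act 2 n9227 = n7283 := d20_1 D9227 (iv D7283) D7282
theorem F43332 : act 3 n9227 = n7748 := d26_1 D9227 (iv D7748) (iv F34688)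
theorem F43333 : act 8 n9227 = n7546 := d40_2 (iv F34691) D9227 (iv D7546)
def n9228 : Q := act 5 n7283
theorem D9228 : act 5 n7283 = n9228 := rfl
theorem F43337 : act 6 n9228 = n7291 := d35_2 D7283 D9228 (iv D7291) (iv D5784) (iv F27845)
def n9229 : Q := act 7 n7283
theorem D9229 : act 7 n7283 = n9229 := rfl
theorem F43339 : act 0 n9229 = n7755 := d6_1 D9229 (iv D7755) (iv F34692)
theorem F43340 : act 1 n9229 = n9229 := d14_1 D9229 (iv D9229) F34693
theorem F43341 : act 3 n9229 = n7285 := d27_1 D9229 (iv D7285) (iv F34694)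
theorem F43342 : act 6 n9229 = n7288 := d39_1 D9229 (iv D7288) (iv D5781) (iv F27846) D7283
theorem F43343 : act 8 n9229 = n7547 := d42_2 (iv F34695) D9229 (iv D7547)
def n9230 : Q := act 7 n7284
theorem D9230 : act 7 n7284 = n9230 := rfl
theorem F43344 : act 0 n9230 = n7756 := d6_1 D9230 (iv D7756) (iv F34696)
theorem F43345 : act 1 n9230 = n9230 := d14_1 D9230 (iv D9230) F34697
theorem F43346 : act 2 n9230 = n7751 := d21_1 D9230 (iv D7751) (iv F34698)
theorem F43347 : act 4 n9230 = n9230 := d32_1 D9230 (iv D9230) F34699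
theorem F43348 : act 5 n9230 = n7285 := d36_1 D9230 (iv D7285) D7284
theorem F43349 : act 6 n9230 = n9230 := d39_1 D9230 (iv D9230) F34700 F27884 (iv F34700)
theorem F43350 : act 8 n9230 = n9230 := d42_2 F34701 D9230 (iv D9230)
def n9231 : Q := act 0 n7286
theorem D9231 : act 0 n7286 = n9231 := rfl
theorem F43351 : act 1 n9231 = n7757 := d0_2 D7286 D9231 (iv D7757) (iv D6152) (iv F27859)
theorem F43352 : act 2 n9231 = n9231 := d1_2 F34708 D9231 (iv D9231)
theorem F43353 : act 5 n9231 = n7292 := d4_2 (iv F34709) D9231 (iv D7292)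
def n9232 : Q := act 6 n7286
theorem D9232 : act 6 n7286 = n9232 := rfl
theorem F43354 : act 1 n9232 = n7287 := d13_1 D9232 (iv D7287) D7286
theorem F43355 : act 2 n9232 = n9232 := d20_1 D9232 (iv D9232) F34708
theorem F43356 : act 5 n9232 = n9232 := d35_1 D9232 (iv D9232) F34709 F27888 (iv F34709)
def n9233 : Q := act 7 n7287
theorem D9233 : act 7 n7287 = n9233 := rfl
theorem F43357 : act 0 n9233 = n7759 := d6_1 D9233 (iv D7759) (iv F34710)
theorem F43358 : act 2 n9233 = n7288 := d21_1 D9233 (iv D7288) (iv F34711)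
theorem F43359 : act 5 n9233 = n9233 := d36_1 D9233 (iv D9233) F34712
def n9234 : Q := act 0 n7289
theorem D9234 : act 0 n7289 = n9234 := rfl
theorem F43362 : act 3 n9234 = n7768 := d2_2 (iv F34718) D9234 (iv D7768)
theorem F43363 : act 4 n9234 = n7425 := d3_2 (iv F34719) D9234 (iv D7425)
theorem F43364 : act 7 n9234 = n7292 := d6_2 (iv F34720) D9234 (iv D7292)
def n9235 : Q := act 6 n7289
theorem D9235 : act 6 n7289 = n9235 := rfl
theorem F43366 : act 1 n9235 = n7290 := d13_1 D9235 (iv D7290) D7289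
theorem F43368 : act 3 n9235 = n7769 := d26_1 D9235 (iv D7769) (iv F34718)
theorem F43369 : act 4 n9235 = n7426 := d31_1 D9235 (iv D7426) (iv F34719)
def n9236 : Q := act 5 n7290
theorem D9236 : act 5 n7290 = n9236 := rfl
theorem F43374 : act 3 n9236 = n7770 := d25_1 D9236 (iv D7770) (iv F34724)
def n9237 : Q := act 4 n7291
theorem D9237 : act 4 n7291 = n9237 := rfl
theorem F43377 : act 0 n9237 = n7763 := d3_1 D9237 (iv D7763) (iv F34728)
def n9238 : Q := act 1 n7293
theorem D9238 : act 1 n7293 = n9238 := rfl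
theorem F43384 : act 3 n9238 = n7682 := d10_2 (iv F34739) D9238 (iv D7682)
theorem F43386 : act 7 n9238 = n7524 := d14_2 (iv F34741) D9238 (iv D7524)
def n9239 : Q := act 6 n7293
theorem D9239 : act 6 n7293 = n9239 := rfl
theorem F43390 : act 2 n9239 = n7294 := d20_1 D9239 (iv D7294) D7293
theorem F43391 : act 3 n9239 = n7683 := d26_1 D9239 (iv D7683) (iv F34739)
def n9240 : Q := act 5 n7294
theorem D9240 : act 5 n7294 = n9240 := rfl
theorem F43396 : act 0 n9240 = n7766 := d4_1 D9240 (iv D7766) (iv F34744)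
theorem F43397 : act 1 n9240 = n9240 := d12_1 D9240 (iv D9240) F34745
theorem F43398 : act 3 n9240 = n7295 := d25_1 D9240 (iv D7295) (iv F34746)
theorem F43399 : act 7 n9240 = n9240 := d36_2 F34748 D9240 (iv D9240)
theorem F43400 : act 9 n9240 = n7298 := d38_2 (iv F34750) D9240 (iv D7298)
def n9241 : Q := act 8 n7295
theorem D9241 : act 8 n7295 = n9241 := rfl
theorem F43401 : act 0 n9241 = n7767 := d7_1 D9241 (iv D7767) (iv F34751)
theorem F43402 : act 1 n9241 = n9241 := d15_1 D9241 (iv D9241) F34752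
theorem F43403 : act 2 n9241 = n7685 := d22_1 D9241 (iv D7685) (iv F34753)
theorem F43404 : act 4 n9241 = n9241 := d33_1 D9241 (iv D9241) F34754
theorem F43405 : act 5 n9241 = n9241 := d37_1 D9241 (iv D9241) (iv D7295) F27901 D7295
theorem F43406 : act 7 n9241 = n9241 := d42_1 D9241 (iv D9241) F34755
theorem F43407 : act 9 n9241 = n9241 := d44_2 (iv F34756) D9241 (iv D9241) F34756 F27919
def n9242 : Q := act 0 n7296
theorem D9242 : act 0 n7296 = n9242 := rfl
theorem F43410 : act 3 n9242 = n7760 := d2_2 (iv F34758) D9242 (iv D7760)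
theorem F43412 : act 7 n9242 = n7548 := d6_2 (iv F34760) D9242 (iv D7548)
def n9243 : Q := act 6 n7296
theorem D9243 : act 6 n7296 = n9243 := rfl
theorem F43414 : act 1 n9243 = n7297 := d13_1 D9243 (iv D7297) D7296
theorem F43416 : act 3 n9243 = n7761 := d26_1 D9243 (iv D7761) (iv F34758)
def n9244 : Q := act 5 n7297
theorem D9244 : act 5 n7297 = n9244 := rfl
theorem F43421 : act 2 n9244 = n7298 := d19_1 D9244 (iv D7298) (iv F34763)
theorem F43422 : act 3 n9244 = n7762 := d25_1 D9244 (iv D7762) (iv F34764)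
def n9245 : Q := act 4 n7298
theorem D9245 : act 4 n7298 = n9245 := rfl
theorem F43425 : act 0 n9245 = n7771 := d3_1 D9245 (iv D7771) (iv F34768)
theorem F43426 : act 1 n9245 = n9245 := d11_1 D9245 (iv D9245) F34769
theorem F43427 : act 3 n9245 = n9245 := d24_1 D9245 (iv D9245) F34770 F27917 (iv F34770)
theorem F43428 : act 5 n9245 = n9245 := d30_2 D7298 D9245 (iv D9245) (iv D7298) F27911
theorem F43429 : act 7 n9245 = n9245 := d32_2 F34771 D9245 (iv D9245)
theorem F43430 : act 8 n9245 = n9245 := d33_2 F34772 D9245 (iv D9245)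
def n9246 : Q := act 6 n7299
theorem D9246 : act 6 n7299 = n9246 := rfl
theorem F43434 : act 3 n9246 = n7773 := d26_1 D9246 (iv D7773) (iv F34775)
def n9247 : Q := act 6 n7301
theorem D9247 : act 6 n7301 = n9247 := rfl
theorem F43442 : act 3 n9247 = n7772 := d26_1 D9247 (iv D7772) (iv F34789)
theorem F43443 : act 4 n9247 = n7431 := d31_1 D9247 (iv D7431) (iv F34790)
def n9248 : Q := act 8 n7303
theorem D9248 : act 8 n7303 = n9248 := rfl
theorem F43447 : act 0 n9248 = n7312 := d7_1 D9248 (iv D7312) (iv F34801)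
theorem F43448 : act 1 n9248 = n7471 := d15_1 D9248 (iv D7471) (iv F34802)
theorem F43449 : act 2 n9248 = n9248 := d22_1 D9248 (iv D9248) F34803
theorem F43450 : act 3 n9248 = n7556 := d28_1 D9248 (iv D7556) (iv F34804)
theorem F43451 : act 4 n9248 = n7305 := d33_1 D9248 (iv D7305) (iv F34805)
theorem F43452 : act 6 n9248 = n9248 := d40_1 D9248 (iv D9248) F34806
theorem F43453 : act 7 n9248 = n7466 := d42_1 D9248 (iv D7466) (iv F34807)
theorem F43454 : act 9 n9248 = n9248 := d44_2 D7303 D9248 (iv D9248) (iv D7303) F27955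
def n9249 : Q := act 8 n7304
theorem D9249 : act 8 n7304 = n9249 := rfl
theorem F43455 : act 0 n9249 = n7314 := d7_1 D9249 (iv D7314) (iv F34808)
theorem F43456 : act 1 n9249 = n7453 := d15_1 D9249 (iv D7453) (iv F34809)
theorem F43457 : act 2 n9249 = n9249 := d22_1 D9249 (iv D9249) F34810
theorem F43458 : act 3 n9249 = n9249 := d28_1 D9249 (iv D9249) F34811
theorem F43459 : act 4 n9249 = n7466 := d33_1 D9249 (iv D7466) (iv F34812)
theorem F43460 : act 6 n9249 = n7452 := d40_1 D9249 (iv D7452) (iv F34814)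
theorem F43461 : act 7 n9249 = n7305 := d42_1 D9249 (iv D7305) (iv F34815)
theorem F43462 : act 9 n9249 = n9249 := d44_2 D7304 D9249 (iv D9249) (iv D7304) F27964
def n9250 : Q := act 5 n7305
theorem D9250 : act 5 n7305 = n9250 := rfl
theorem F43463 : act 0 n9250 = n7315 := d4_1 D9250 (iv D7315) (iv F34816)
theorem F43464 : act 1 n9250 = n7774 := d12_1 D9250 (iv D7774) (iv F34817)
theorem F43465 : act 2 n9250 = n9250 := d19_1 D9250 (iv D9250) F34818
theorem F43466 : act 3 n9250 = n9250 := d25_1 D9250 (iv D9250) F34819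
theorem F43467 : act 8 n9250 = n7307 := d37_2 D7305 D9250 (iv D7307) (iv D5801) (iv F27970)
theorem F43468 : act 9 n9250 = n9250 := d38_2 F34821 D9250 (iv D9250)
def n9251 : Q := act 5 n7306
theorem D9251 : act 5 n7306 = n9251 := rfl
theorem F43469 : act 0 n9251 = n7316 := d4_1 D9251 (iv D7316) (iv F34822)
theorem F43470 : act 1 n9251 = n7775 := d12_1 D9251 (iv D7775) (iv F34823)
theorem F43471 : act 2 n9251 = n9251 := d19_1 D9251 (iv D9251) F34824
theorem F43472 : act 3 n9251 = n9251 := d25_1 D9251 (iv D9251) F34825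
theorem F43473 : act 7 n9251 = n7307 := d36_2 (iv F34827) D9251 (iv D7307)
theorem F43474 : act 9 n9251 = n7377 := d38_2 (iv F34828) D9251 (iv D7377)
def n9252 : Q := act 4 n7307
theorem D9252 : act 4 n7307 = n9252 := rfl
theorem F43475 : act 0 n9252 = n7317 := d3_1 D9252 (iv D7317) (iv F34829)
theorem F43476 : act 1 n9252 = n7776 := d11_1 D9252 (iv D7776) (iv F34830)
theorem F43477 : act 2 n9252 = n9252 := d18_1 D9252 (iv D9252) F34831
theorem F43478 : act 9 n9252 = n7378 := d34_2 (iv F34833) D9252 (iv D7378)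
def n9253 : Q := act 6 n7307
theorem D9253 : act 6 n7307 = n9253 := rfl
theorem F43479 : act 0 n9253 = n7318 := d5_1 D9253 (iv D7318) (iv F34829)
theorem F43480 : act 1 n9253 = n7777 := d13_1 D9253 (iv D7777) (iv F34830)
theorem F43481 : act 2 n9253 = n9253 := d20_1 D9253 (iv D9253) F34831
theorem F43482 : act 3 n9253 = n9253 := d26_1 D9253 (iv D9253) F34832
theorem F43483 : act 5 n9253 = n7309 := d35_1 D9253 (iv D7309) (iv D5802) (iv F27982) D7307
theorem F43484 : act 9 n9253 = n7379 := d41_2 (iv F34833) D9253 (iv D7379)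
def n9254 : Q := act 3 n7308
theorem D9254 : act 3 n7308 = n9254 := rfl
theorem F43485 : act 0 n9254 = n7319 := d2_1 D9254 (iv D7319) (iv F34834)
theorem F43486 : act 1 n9254 = n7778 := d10_1 D9254 (iv D7778) (iv F34835)
theorem F43487 : act 4 n9254 = n9254 := d24_2 D7308 D9254 (iv D9254) (iv D7308) F27987
theorem F43488 : act 7 n9254 = n9254 := d27_2 F34837 D9254 (iv D9254)
theorem F43489 : act 8 n9254 = n9254 := d28_2 F34838 D9254 (iv D9254)
theorem F43490 : act 9 n9254 = n7380 := d29_2 (iv F34839) D9254 (iv D7380)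
def n9255 : Q := act 6 n7308
theorem D9255 : act 6 n7308 = n9255 := rfl
theorem F43491 : act 0 n9255 = n7320 := d5_1 D9255 (iv D7320) (iv F34834)
theorem F43492 : act 1 n9255 = n7779 := d13_1 D9255 (iv D7779) (iv F34835)
theorem F43494 : act 4 n9255 = n7309 := d31_1 D9255 (iv D7309) D7308
theorem F43496 : act 9 n9255 = n7381 := d41_2 (iv F34839) D9255 (iv D7381)
def n9256 : Q := act 7 n7309
theorem D9256 : act 7 n7309 = n9256 := rfl
theorem F43497 : act 0 n9256 = n7321 := d6_1 D9256 (iv D7321) (iv F34840)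
theorem F43498 : act 1 n9256 = n7780 := d14_1 D9256 (iv D7780) (iv F34841)
def n9257 : Q := act 8 n7310
theorem D9257 : act 8 n7310 = n9257 := rfl
theorem F43504 : act 0 n9257 = n7556 := d7_1 D9257 (iv D7556) (iv F34846)
theorem F43505 : act 1 n9257 = n7322 := d15_1 D9257 (iv D7322) (iv F34847)
theorem F43506 : act 2 n9257 = n7968 := d22_1 D9257 (iv D7968) (iv F34848)
theorem F43507 : act 3 n9257 = n7312 := d28_1 D9257 (iv D7312) (iv F34849)
theorem F43508 : act 4 n9257 = n9257 := d33_1 D9257 (iv D9257) F34850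
theorem F43509 : act 6 n9257 = n9257 := d40_1 D9257 (iv D9257) F34851
theorem F43510 : act 7 n9257 = n7550 := d42_1 D9257 (iv D7550) (iv F34852)
theorem F43511 : act 9 n9257 = n9257 := d44_2 D7310 D9257 (iv D9257) (iv D7310) F27995
def n9258 : Q := act 8 n7311
theorem D9258 : act 8 n7311 = n9258 := rfl
theorem F43512 : act 0 n9258 = n7466 := d7_1 D9258 (iv D7466) (iv F34853)
theorem F43513 : act 1 n9258 = n7323 := d15_1 D9258 (iv D7323) (iv F34854)
theorem F43514 : act 2 n9258 = n9258 := d22_1 D9258 (iv D9258) F34855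
theorem F43515 : act 3 n9258 = n7550 := d28_1 D9258 (iv D7550) (iv F34856)
theorem F43516 : act 4 n9258 = n7314 := d33_1 D9258 (iv D7314) (iv F34857)
theorem F43517 : act 6 n9258 = n7464 := d40_1 D9258 (iv D7464) (iv F34858)
theorem F43518 : act 7 n9258 = n7312 := d42_1 D9258 (iv D7312) (iv F34859)
theorem F43519 : act 9 n9258 = n9258 := d44_2 D7311 D9258 (iv D9258) (iv D7311) F28003
def n9259 : Q := act 5 n7312
theorem D9259 : act 5 n7312 = n9259 := rfl
theorem F43520 : act 1 n9259 = n7324 := d12_1 D9259 (iv D7324) (iv F34860)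
theorem F43521 : act 2 n9259 = n9259 := d19_1 D9259 (iv D9259) F34861
theorem F43522 : act 9 n9259 = n9259 := d38_2 F34864 D9259 (iv D9259)
def n9260 : Q := act 8 n7313
theorem D9260 : act 8 n7313 = n9260 := rfl
theorem F43523 : act 0 n9260 = n7452 := d7_1 D9260 (iv D7452) (iv F34865)
theorem F43524 : act 1 n9260 = n7325 := d15_1 D9260 (iv D7325) (iv F34866)
theorem F43525 : act 2 n9260 = n9260 := d22_1 D9260 (iv D9260) F34867
theorem F43526 : act 3 n9260 = n9260 := d28_1 D9260 (iv D9260) F34868
theorem F43527 : act 4 n9260 = n7464 := d33_1 D9260 (iv D7464) (iv F34869)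
theorem F43528 : act 6 n9260 = n7314 := d40_1 D9260 (iv D7314) (iv F34871)
theorem F43529 : act 7 n9260 = n9260 := d42_1 D9260 (iv D9260) F34872
theorem F43530 : act 9 n9260 = n9260 := d44_2 D7313 D9260 (iv D9260) (iv D7313) F28016
def n9261 : Q := act 5 n7314
theorem D9261 : act 5 n7314 = n9261 := rfl
theorem F43531 : act 1 n9261 = n7326 := d12_1 D9261 (iv D7326) (iv F34873)
theorem F43532 : act 2 n9261 = n9261 := d19_1 D9261 (iv D9261) F34874
theorem F43533 : act 3 n9261 = n9261 := d25_1 D9261 (iv D9261) F34875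
theorem F43534 : act 7 n9261 = n7315 := d36_2 (iv F34876) D9261 (iv D7315)
theorem F43535 : act 8 n9261 = n7316 := d37_2 D7314 D9261 (iv D7316) (iv D5809) (iv F28020)
theorem F43536 : act 9 n9261 = n9261 := d38_2 F34877 D9261 (iv D9261)
def n9262 : Q := act 4 n7315
theorem D9262 : act 4 n7315 = n9262 := rfl
theorem F43537 : act 1 n9262 = n7327 := d11_1 D9262 (iv D7327) (iv F34878)
theorem F43538 : act 2 n9262 = n9262 := d18_1 D9262 (iv D9262) F34879
theorem F43539 : act 8 n9262 = n7317 := d33_2 (iv F34881) D9262 (iv D7317)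
theorem F43540 : act 9 n9262 = n9262 := d34_2 F34882 D9262 (iv D9262)
def n9263 : Q := act 6 n7315
theorem D9263 : act 6 n7315 = n9263 := rfl
theorem F43541 : act 1 n9263 = n7328 := d13_1 D9263 (iv D7328) (iv F34878)
theorem F43542 : act 2 n9263 = n9263 := d20_1 D9263 (iv D9263) F34879
theorem F43543 : act 3 n9263 = n9263 := d26_1 D9263 (iv D9263) F34880
theorem F43544 : act 5 n9263 = n9263 := d35_1 D9263 (iv D9263) (iv D7315) F28025 D7315
theorem F43545 : act 8 n9263 = n7318 := d40_2 (iv F34881) D9263 (iv D7318)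
theorem F43546 : act 9 n9263 = n9263 := d41_2 F34882 D9263 (iv D9263)
def n9264 : Q := act 4 n7316
theorem D9264 : act 4 n7316 = n9264 := rfl
theorem F43547 : act 1 n9264 = n7329 := d11_1 D9264 (iv D7329) (iv F34883)
theorem F43548 : act 2 n9264 = n9264 := d18_1 D9264 (iv D9264) F34884
theorem F43549 : act 7 n9264 = n7317 := d32_2 (iv F34886) D9264 (iv D7317)
theorem F43550 : act 9 n9264 = n7383 := d34_2 (iv F34887) D9264 (iv D7383)
def n9265 : Q := act 6 n7316
theorem D9265 : act 6 n7316 = n9265 := rfl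
theorem F43551 : act 1 n9265 = n7330 := d13_1 D9265 (iv D7330) (iv F34883)
theorem F43552 : act 2 n9265 = n9265 := d20_1 D9265 (iv D9265) F34884
theorem F43553 : act 3 n9265 = n9265 := d26_1 D9265 (iv D9265) F34885
theorem F43554 : act 5 n9265 = n9265 := d35_1 D9265 (iv D9265) (iv D7316) F28030 D7316
theorem F43555 : act 9 n9265 = n7384 := d41_2 (iv F34887) D9265 (iv D7384)
def n9266 : Q := act 3 n7317
theorem D9266 : act 3 n7317 = n9266 := rfl
theorem F43556 : act 1 n9266 = n7331 := d10_1 D9266 (iv D7331) (iv F34888)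
theorem F43557 : act 4 n9266 = n9266 := d24_2 D7317 D9266 (iv D9266) (iv D7317) F28035
theorem F43558 : act 9 n9266 = n7385 := d29_2 (iv F34890) D9266 (iv D7385)
def n9267 : Q := act 6 n7317
theorem D9267 : act 6 n7317 = n9267 := rfl
theorem F43559 : act 1 n9267 = n7332 := d13_1 D9267 (iv D7332) (iv F34888)
theorem F43560 : act 2 n9267 = n9267 := d20_1 D9267 (iv D9267) F34889
theorem F43561 : act 4 n9267 = n7318 := d31_1 D9267 (iv D7318) D7317
theorem F43562 : act 9 n9267 = n7386 := d41_2 (iv F34890) D9267 (iv D7386)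
def n9268 : Q := act 7 n7318
theorem D9268 : act 7 n7318 = n9268 := rfl
theorem F43563 : act 1 n9268 = n7333 := d14_1 D9268 (iv D7333) (iv F34891)
theorem F43564 : act 2 n9268 = n9268 := d21_1 D9268 (iv D9268) F34892
theorem F43565 : act 3 n9268 = n9268 := d27_1 D9268 (iv D9268) F34893
theorem F43566 : act 5 n9268 = n7321 := d36_1 D9268 (iv D7321) (iv F34894)
theorem F43567 : act 9 n9268 = n7387 := d43_2 (iv F34895) D9268 (iv D7387)
def n9269 : Q := act 2 n7319
theorem D9269 : act 2 n7319 = n9269 := rfl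
theorem F43568 : act 1 n9269 = n9269 := d9_1 D9269 (iv D9269) F34896 F28091 (iv F34896)
theorem F43569 : act 3 n9269 = n9269 := d17_2 D7319 D9269 (iv D9269) (iv D7319) F28038
theorem F43570 : act 4 n9269 = n9269 := d18_2 F34897 D9269 (iv D9269)
theorem F43571 : act 7 n9269 = n9269 := d21_2 F34898 D9269 (iv D9269)
theorem F43572 : act 8 n9269 = n9269 := d22_2 F34899 D9269 (iv D9269)
theorem F43573 : act 9 n9269 = n7388 := d23_2 (iv F34900) D9269 (iv D7388)
def n9270 : Q := act 6 n7319
theorem D9270 : act 6 n7319 = n9270 := rfl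
theorem F43574 : act 1 n9270 = n7334 := d13_1 D9270 (iv D7334) (iv F34896)
theorem F43575 : act 3 n9270 = n7320 := d26_1 D9270 (iv D7320) D7319
theorem F43576 : act 4 n9270 = n9270 := d31_1 D9270 (iv D9270) F34897
theorem F43577 : act 8 n9270 = n9270 := d40_2 F34899 D9270 (iv D9270)
theorem F43578 : act 9 n9270 = n7389 := d41_2 (iv F34900) D9270 (iv D7389)
def n9271 : Q := act 5 n7320
theorem D9271 : act 5 n7320 = n9271 := rfl
theorem F43579 : act 1 n9271 = n7335 := d12_1 D9271 (iv D7335) (iv F34901)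
theorem F43580 : act 2 n9271 = n9271 := d19_1 D9271 (iv D9271) F34902
theorem F43581 : act 9 n9271 = n7390 := d38_2 (iv F34905) D9271 (iv D7390)
def n9272 : Q := act 7 n7320
theorem D9272 : act 7 n7320 = n9272 := rfl
theorem F43584 : act 4 n9272 = n7321 := d32_1 D9272 (iv D7321) (iv F34903)
def n9273 : Q := act 5 n7322
theorem D9273 : act 5 n7322 = n9273 := rfl
theorem F43588 : act 0 n9273 = n7794 := d4_1 D9273 (iv D7794) (iv F34912)
theorem F43589 : act 2 n9273 = n9273 := d19_1 D9273 (iv D9273) F34913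
theorem F43590 : act 3 n9273 = n7324 := d25_1 D9273 (iv D7324) (iv F34914)
theorem F43591 : act 9 n9273 = n9273 := d38_2 F34917 D9273 (iv D9273)
def n9274 : Q := act 5 n7323
theorem D9274 : act 5 n7323 = n9274 := rfl
theorem F43592 : act 0 n9274 = n7795 := d4_1 D9274 (iv D7795) (iv F34918)
theorem F43593 : act 2 n9274 = n7338 := d19_1 D9274 (iv D7338) (iv F34919)
theorem F43594 : act 7 n9274 = n7324 := d36_2 (iv F34921) D9274 (iv D7324)
theorem F43595 : act 9 n9274 = n9274 := d38_2 F34922 D9274 (iv D9274)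
def n9275 : Q := act 4 n7324
theorem D9275 : act 4 n7324 = n9275 := rfl
theorem F43596 : act 0 n9275 = n7796 := d3_1 D9275 (iv D7796) (iv F34923)
theorem F43597 : act 2 n9275 = n7339 := d18_1 D9275 (iv D7339) (iv F34924)
theorem F43598 : act 5 n9275 = n7327 := d30_2 D7324 D9275 (iv D7327) (iv D5818) (iv F28058)
theorem F43599 : act 9 n9275 = n9275 := d34_2 F34925 D9275 (iv D9275)
def n9276 : Q := act 6 n7324
theorem D9276 : act 6 n7324 = n9276 := rfl
theorem F43600 : act 0 n9276 = n7797 := d5_1 D9276 (iv D7797) (iv F34923)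
theorem F43601 : act 2 n9276 = n7340 := d20_1 D9276 (iv D7340) (iv F34924)
theorem F43602 : act 5 n9276 = n9276 := d35_1 D9276 (iv D9276) (iv D7324) F28059 D7324
theorem F43603 : act 9 n9276 = n9276 := d41_2 F34925 D9276 (iv D9276)
def n9277 : Q := act 5 n7325
theorem D9277 : act 5 n7325 = n9277 := rfl
theorem F43604 : act 0 n9277 = n7798 := d4_1 D9277 (iv D7798) (iv F34926)
theorem F43605 : act 2 n9277 = n7341 := d19_1 D9277 (iv D7341) (iv F34927)
theorem F43606 : act 3 n9277 = n9277 := d25_1 D9277 (iv D9277) F34928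
theorem F43607 : act 7 n9277 = n9277 := d36_2 F34930 D9277 (iv D9277)
theorem F43608 : act 8 n9277 = n9277 := d37_2 D7325 D9277 (iv D9277) (iv D7325) F28064
theorem F43609 : act 9 n9277 = n9277 := d38_2 F34931 D9277 (iv D9277)
def n9278 : Q := act 4 n7326
theorem D9278 : act 4 n7326 = n9278 := rfl
theorem F43610 : act 0 n9278 = n7799 := d3_1 D9278 (iv D7799) (iv F34932)
theorem F43611 : act 2 n9278 = n7342 := d18_1 D9278 (iv D7342) (iv F34933)
theorem F43612 : act 7 n9278 = n7327 := d32_2 (iv F34935) D9278 (iv D7327)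
theorem F43613 : act 8 n9278 = n7329 := d33_2 (iv F34936) D9278 (iv D7329)
theorem F43614 : act 9 n9278 = n9278 := d34_2 F34937 D9278 (iv D9278)
def n9279 : Q := act 6 n7326
theorem D9279 : act 6 n7326 = n9279 := rfl
theorem F43615 : act 0 n9279 = n7800 := d5_1 D9279 (iv D7800) (iv F34932)
theorem F43616 : act 2 n9279 = n7343 := d20_1 D9279 (iv D7343) (iv F34933)
theorem F43617 : act 3 n9279 = n9279 := d26_1 D9279 (iv D9279) F34934
theorem F43618 : act 8 n9279 = n7330 := d40_2 (iv F34936) D9279 (iv D7330)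
theorem F43619 : act 9 n9279 = n9279 := d41_2 F34937 D9279 (iv D9279)
def n9280 : Q := act 3 n7327
theorem D9280 : act 3 n7327 = n9280 := rfl
theorem F43620 : act 0 n9280 = n7801 := d2_1 D9280 (iv D7801) (iv F34938)
theorem F43621 : act 4 n9280 = n9280 := d24_2 D7327 D9280 (iv D9280) (iv D7327) F28074
theorem F43622 : act 8 n9280 = n7331 := d28_2 (iv F34940) D9280 (iv D7331)
theorem F43623 : act 9 n9280 = n9280 := d29_2 F34941 D9280 (iv D9280)
def n9281 : Q := act 6 n7327
theorem D9281 : act 6 n7327 = n9281 := rfl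
theorem F43624 : act 0 n9281 = n7802 := d5_1 D9281 (iv D7802) (iv F34938)
theorem F43625 : act 2 n9281 = n7345 := d20_1 D9281 (iv D7345) (iv F34939)
theorem F43626 : act 4 n9281 = n7328 := d31_1 D9281 (iv D7328) D7327
theorem F43627 : act 8 n9281 = n7332 := d40_2 (iv F34940) D9281 (iv D7332)
theorem F43628 : act 9 n9281 = n9281 := d41_2 F34941 D9281 (iv D9281)
def n9282 : Q := act 7 n7328
theorem D9282 : act 7 n7328 = n9282 := rfl
theorem F43629 : act 0 n9282 = n7803 := d6_1 D9282 (iv D7803) (iv F34942)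
theorem F43630 : act 2 n9282 = n7346 := d21_1 D9282 (iv D7346) (iv F34943)
theorem F43631 : act 3 n9282 = n9282 := d27_1 D9282 (iv D9282) F34944
theorem F43632 : act 5 n9282 = n9282 := d36_1 D9282 (iv D9282) F34945
theorem F43633 : act 8 n9282 = n7333 := d42_2 (iv F34946) D9282 (iv D7333)
theorem F43634 : act 9 n9282 = n9282 := d43_2 F34947 D9282 (iv D9282)
def n9283 : Q := act 3 n7329
theorem D9283 : act 3 n7329 = n9283 := rfl
theorem F43635 : act 0 n9283 = n7804 := d2_1 D9283 (iv D7804) (iv F34948)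
theorem F43636 : act 4 n9283 = n9283 := d24_2 D7329 D9283 (iv D9283) (iv D7329) F28079
theorem F43637 : act 7 n9283 = n7331 := d27_2 (iv F34950) D9283 (iv D7331)
theorem F43638 : act 9 n9283 = n7392 := d29_2 (iv F34951) D9283 (iv D7392)
def n9284 : Q := act 6 n7329
theorem D9284 : act 6 n7329 = n9284 := rfl
theorem F43639 : act 0 n9284 = n7805 := d5_1 D9284 (iv D7805) (iv F34948)
theorem F43640 : act 2 n9284 = n7348 := d20_1 D9284 (iv D7348) (iv F34949)
theorem F43641 : act 4 n9284 = n7330 := d31_1 D9284 (iv D7330) D7329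
theorem F43642 : act 9 n9284 = n7393 := d41_2 (iv F34951) D9284 (iv D7393)
def n9285 : Q := act 7 n7330
theorem D9285 : act 7 n7330 = n9285 := rfl
theorem F43643 : act 0 n9285 = n7806 := d6_1 D9285 (iv D7806) (iv F34952)
theorem F43644 : act 2 n9285 = n7349 := d21_1 D9285 (iv D7349) (iv F34953)
theorem F43645 : act 3 n9285 = n9285 := d27_1 D9285 (iv D9285) F34954
theorem F43646 : act 5 n9285 = n9285 := d36_1 D9285 (iv D9285) F34955
theorem F43647 : act 6 n9285 = n7333 := d39_1 D9285 (iv D7333) (iv D5821) (iv F28080) D7330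
theorem F43648 : act 9 n9285 = n7394 := d43_2 (iv F34956) D9285 (iv D7394)
def n9286 : Q := act 2 n7331
theorem D9286 : act 2 n7331 = n9286 := rfl
theorem F43649 : act 0 n9286 = n7807 := d1_1 D9286 (iv D7807) (iv F34957)
theorem F43650 : act 3 n9286 = n7350 := d17_2 D7331 D9286 (iv D7350) (iv D5834) (iv F28083)
theorem F43651 : act 4 n9286 = n9286 := d18_2 F34958 D9286 (iv D9286)
theorem F43652 : act 9 n9286 = n7395 := d23_2 (iv F34959) D9286 (iv D7395)
def n9287 : Q := act 6 n7331
theorem D9287 : act 6 n7331 = n9287 := rfl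
theorem F43653 : act 0 n9287 = n7808 := d5_1 D9287 (iv D7808) (iv F34957)
theorem F43654 : act 3 n9287 = n7332 := d26_1 D9287 (iv D7332) D7331
theorem F43655 : act 4 n9287 = n9287 := d31_1 D9287 (iv D9287) F34958
theorem F43656 : act 9 n9287 = n7396 := d41_2 (iv F34959) D9287 (iv D7396)
def n9288 : Q := act 5 n7332
theorem D9288 : act 5 n7332 = n9288 := rfl
theorem F43657 : act 0 n9288 = n7809 := d4_1 D9288 (iv D7809) (iv F34960)
theorem F43658 : act 2 n9288 = n7352 := d19_1 D9288 (iv D7352) (iv F34961)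
theorem F43659 : act 4 n9288 = n7335 := d30_1 D9288 (iv D7335) F28098 (iv F28088) (iv F34962)
theorem F43660 : act 9 n9288 = n7397 := d38_2 (iv F34963) D9288 (iv D7397)
def n9289 : Q := act 7 n7332
theorem D9289 : act 7 n7332 = n9289 := rfl
theorem F43661 : act 0 n9289 = n7810 := d6_1 D9289 (iv D7810) (iv F34960)
theorem F43662 : act 2 n9289 = n7353 := d21_1 D9289 (iv D7353) (iv F34961)
theorem F43663 : act 4 n9289 = n7333 := d32_1 D9289 (iv D7333) (iv F34962)
theorem F43664 : act 9 n9289 = n7398 := d43_2 (iv F34963) D9289 (iv D7398)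
def n9290 : Q := act 5 n7334
theorem D9290 : act 5 n7334 = n9290 := rfl
theorem F43665 : act 0 n9290 = n7811 := d4_1 D9290 (iv D7811) (iv F34969)
theorem F43666 : act 2 n9290 = n9290 := d19_1 D9290 (iv D9290) F34970
theorem F43667 : act 3 n9290 = n7335 := d25_1 D9290 (iv D7335) (iv F34971)
theorem F43668 : act 9 n9290 = n7399 := d38_2 (iv F34974) D9290 (iv D7399)
def n9291 : Q := act 7 n7334
theorem D9291 : act 7 n7334 = n9291 := rfl
theorem F43669 : act 0 n9291 = n7812 := d6_1 D9291 (iv D7812) (iv F34969)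
theorem F43670 : act 2 n9291 = n9291 := d21_1 D9291 (iv D9291) F34970
theorem F43671 : act 3 n9291 = n7336 := d27_1 D9291 (iv D7336) (iv F34971)
theorem F43672 : act 4 n9291 = n9291 := d32_1 D9291 (iv D9291) F34972
theorem F43673 : act 6 n9291 = n9291 := d39_1 D9291 (iv D9291) (iv D7334) F28093 D7334
theorem F43674 : act 8 n9291 = n9291 := d42_2 F34973 D9291 (iv D9291)
theorem F43675 : act 9 n9291 = n7400 := d43_2 (iv F34974) D9291 (iv D7400)
def n9292 : Q := act 7 n7335
theorem D9292 : act 7 n7335 = n9292 := rfl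
theorem F43676 : act 0 n9292 = n7813 := d6_1 D9292 (iv D7813) (iv F34975)
theorem F43677 : act 2 n9292 = n7354 := d21_1 D9292 (iv D7354) (iv F34976)
theorem F43678 : act 5 n9292 = n7336 := d36_1 D9292 (iv D7336) D7335
theorem F43679 : act 9 n9292 = n7401 := d43_2 (iv F34977) D9292 (iv D7401)
def n9293 : Q := act 8 n7335
theorem D9293 : act 8 n7335 = n9293 := rfl
theorem F43680 : act 0 n9293 = n7814 := d7_1 D9293 (iv D7814) (iv F34975)
theorem F43681 : act 2 n9293 = n7355 := d22_1 D9293 (iv D7355) (iv F34976)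
theorem F43682 : act 5 n9293 = n9293 := d37_1 D9293 (iv D9293) (iv D7335) F28099 D7335
def n9294 : Q := act 5 n7337
theorem D9294 : act 5 n7337 = n9294 := rfl
theorem F43683 : act 0 n9294 = n7815 := d4_1 D9294 (iv D7815) (iv F34984)
theorem F43684 : act 1 n9294 = n9294 := d12_1 D9294 (iv D9294) F34985
theorem F43685 : act 3 n9294 = n9294 := d25_1 D9294 (iv D9294) F34986
theorem F43686 : act 7 n9294 = n9294 := d36_2 F34989 D9294 (iv D9294)
theorem F43687 : act 9 n9294 = n9294 := d38_2 F34990 D9294 (iv D9294)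
def n9295 : Q := act 4 n7338
theorem D9295 : act 4 n7338 = n9295 := rfl
theorem F43688 : act 0 n9295 = n7816 := d3_1 D9295 (iv D7816) (iv F34991)
theorem F43689 : act 1 n9295 = n9295 := d11_1 D9295 (iv D9295) F34992
theorem F43690 : act 5 n9295 = n7342 := d30_2 D7338 D9295 (iv D7342) (iv D5829) (iv F28116)
theorem F43691 : act 7 n9295 = n7339 := d32_2 (iv F34994) D9295 (iv D7339)
theorem F43692 : act 9 n9295 = n9295 := d34_2 F34995 D9295 (iv D9295)
def n9296 : Q := act 6 n7338
theorem D9296 : act 6 n7338 = n9296 := rfl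
theorem F43693 : act 0 n9296 = n7817 := d5_1 D9296 (iv D7817) (iv F34991)
theorem F43694 : act 1 n9296 = n9296 := d13_1 D9296 (iv D9296) F34992
theorem F43695 : act 3 n9296 = n9296 := d26_1 D9296 (iv D9296) F34993
theorem F43696 : act 9 n9296 = n9296 := d41_2 F34995 D9296 (iv D9296)
def n9297 : Q := act 3 n7339
theorem D9297 : act 3 n7339 = n9297 := rfl
theorem F43697 : act 0 n9297 = n7818 := d2_1 D9297 (iv D7818) (iv F34996)
theorem F43698 : act 1 n9297 = n9297 := d10_1 D9297 (iv D9297) F34997
theorem F43699 : act 4 n9297 = n9297 := d24_2 D7339 D9297 (iv D9297) (iv D7339) F28121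
theorem F43700 : act 5 n9297 = n7344 := d25_2 (iv F34998) D9297 (iv D7344)
theorem F43701 : act 9 n9297 = n9297 := d29_2 F34999 D9297 (iv D9297)
def n9298 : Q := act 6 n7339
theorem D9298 : act 6 n7339 = n9298 := rfl
theorem F43702 : act 0 n9298 = n7819 := d5_1 D9298 (iv D7819) (iv F34996)
theorem F43703 : act 1 n9298 = n9298 := d13_1 D9298 (iv D9298) F34997
theorem F43704 : act 4 n9298 = n7340 := d31_1 D9298 (iv D7340) D7339
theorem F43705 : act 9 n9298 = n9298 := d41_2 F34999 D9298 (iv D9298)
def n9299 : Q := act 7 n7340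
theorem D9299 : act 7 n7340 = n9299 := rfl
theorem F43706 : act 0 n9299 = n7820 := d6_1 D9299 (iv D7820) (iv F35000)
theorem F43707 : act 1 n9299 = n9299 := d14_1 D9299 (iv D9299) F35001
theorem F43708 : act 3 n9299 = n9299 := d27_1 D9299 (iv D9299) F35002
theorem F43709 : act 5 n9299 = n9299 := d36_1 D9299 (iv D9299) F35003
theorem F43710 : act 9 n9299 = n9299 := d43_2 F35004 D9299 (iv D9299)
def n9300 : Q := act 4 n7341
theorem D9300 : act 4 n7341 = n9300 := rfl
theorem F43711 : act 0 n9300 = n7821 := d3_1 D9300 (iv D7821) (iv F35005)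
theorem F43712 : act 1 n9300 = n9300 := d11_1 D9300 (iv D9300) F35006
theorem F43713 : act 7 n9300 = n9300 := d32_2 F35008 D9300 (iv D9300)
theorem F43714 : act 8 n9300 = n9300 := d33_2 F35009 D9300 (iv D9300)
theorem F43715 : act 9 n9300 = n9300 := d34_2 F35010 D9300 (iv D9300)
def n9301 : Q := act 6 n7341
theorem D9301 : act 6 n7341 = n9301 := rfl
theorem F43716 : act 0 n9301 = n7822 := d5_1 D9301 (iv D7822) (iv F35005)
theorem F43717 : act 1 n9301 = n9301 := d13_1 D9301 (iv D9301) F35006
theorem F43718 : act 3 n9301 = n7357 := d26_1 D9301 (iv D7357) (iv F35007)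
theorem F43719 : act 5 n9301 = n7343 := d35_1 D9301 (iv D7343) (iv D5829) (iv F28126) D7341
theorem F43720 : act 8 n9301 = n9301 := d40_2 F35009 D9301 (iv D9301)
theorem F43721 : act 9 n9301 = n9301 := d41_2 F35010 D9301 (iv D9301)
def n9302 : Q := act 3 n7342
theorem D9302 : act 3 n7342 = n9302 := rfl
theorem F43722 : act 0 n9302 = n7823 := d2_1 D9302 (iv D7823) (iv F35011)
theorem F43723 : act 1 n9302 = n9302 := d10_1 D9302 (iv D9302) F35012
theorem F43724 : act 4 n9302 = n7358 := d24_2 D7342 D9302 (iv D7358) (iv D5840) (iv F28131)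
theorem F43725 : act 7 n9302 = n7344 := d27_2 (iv F35013) D9302 (iv D7344)
theorem F43726 : act 8 n9302 = n7347 := d28_2 (iv F35014) D9302 (iv D7347)
theorem F43727 : act 9 n9302 = n9302 := d29_2 F35015 D9302 (iv D9302)
def n9303 : Q := act 6 n7342
theorem D9303 : act 6 n7342 = n9303 := rfl
theorem F43728 : act 0 n9303 = n7824 := d5_1 D9303 (iv D7824) (iv F35011)
theorem F43729 : act 1 n9303 = n9303 := d13_1 D9303 (iv D9303) F35012
theorem F43730 : act 4 n9303 = n7343 := d31_1 D9303 (iv D7343) D7342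
theorem F43731 : act 8 n9303 = n7348 := d40_2 (iv F35014) D9303 (iv D7348)
theorem F43732 : act 9 n9303 = n9303 := d41_2 F35015 D9303 (iv D9303)
def n9304 : Q := act 7 n7343
theorem D9304 : act 7 n7343 = n9304 := rfl
theorem F43733 : act 0 n9304 = n7825 := d6_1 D9304 (iv D7825) (iv F35016)
theorem F43734 : act 1 n9304 = n9304 := d14_1 D9304 (iv D9304) F35017
theorem F43735 : act 3 n9304 = n7360 := d27_1 D9304 (iv D7360) (iv F35018)
theorem F43736 : act 6 n9304 = n7346 := d39_1 D9304 (iv D7346) (iv D5831) (iv F28132) D7343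
theorem F43737 : act 8 n9304 = n7349 := d42_2 (iv F35019) D9304 (iv D7349)
theorem F43738 : act 9 n9304 = n9304 := d43_2 F35020 D9304 (iv D9304)
def n9305 : Q := act 2 n7344
theorem D9305 : act 2 n7344 = n9305 := rfl
theorem F43739 : act 0 n9305 = n7826 := d1_1 D9305 (iv D7826) (iv F35021)
theorem F43740 : act 4 n9305 = n7361 := d18_2 (iv F35023) D9305 (iv D7361)
theorem F43741 : act 8 n9305 = n7350 := d22_2 (iv F35024) D9305 (iv D7350)
theorem F43742 : act 9 n9305 = n9305 := d23_2 F35025 D9305 (iv D9305)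
def n9306 : Q := act 6 n7344
theorem D9306 : act 6 n7344 = n9306 := rfl
theorem F43743 : act 0 n9306 = n7827 := d5_1 D9306 (iv D7827) (iv F35021)
theorem F43744 : act 1 n9306 = n9306 := d13_1 D9306 (iv D9306) F35022
theorem F43745 : act 3 n9306 = n7345 := d26_1 D9306 (iv D7345) D7344
theorem F43746 : act 4 n9306 = n7362 := d31_1 D9306 (iv D7362) (iv F35023)
theorem F43747 : act 8 n9306 = n7351 := d40_2 (iv F35024) D9306 (iv D7351)
theorem F43748 : act 9 n9306 = n9306 := d41_2 F35025 D9306 (iv D9306)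
def n9307 : Q := act 5 n7345
theorem D9307 : act 5 n7345 = n9307 := rfl
theorem F43749 : act 0 n9307 = n7828 := d4_1 D9307 (iv D7828) (iv F35026)
theorem F43750 : act 1 n9307 = n9307 := d12_1 D9307 (iv D9307) F35027
theorem F43751 : act 4 n9307 = n9307 := d30_1 D9307 (iv D9307) F35028 F28142 (iv F35028)
theorem F43752 : act 9 n9307 = n9307 := d38_2 F35030 D9307 (iv D9307)
def n9308 : Q := act 7 n7345
theorem D9308 : act 7 n7345 = n9308 := rfl
theorem F43753 : act 0 n9308 = n7829 := d6_1 D9308 (iv D7829) (iv F35026)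
theorem F43754 : act 1 n9308 = n9308 := d14_1 D9308 (iv D9308) F35027
theorem F43755 : act 4 n9308 = n7346 := d32_1 D9308 (iv D7346) (iv F35028)
theorem F43756 : act 8 n9308 = n7353 := d42_2 (iv F35029) D9308 (iv D7353)
theorem F43757 : act 9 n9308 = n9308 := d43_2 F35030 D9308 (iv D9308)
def n9309 : Q := act 2 n7347
theorem D9309 : act 2 n7347 = n9309 := rfl
theorem F43758 : act 0 n9309 = n7830 := d1_1 D9309 (iv D7830) (iv F35037)
theorem F43759 : act 4 n9309 = n7365 := d18_2 (iv F35039) D9309 (iv D7365)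
theorem F43760 : act 7 n9309 = n7350 := d21_2 (iv F35040) D9309 (iv D7350)
theorem F43761 : act 9 n9309 = n7403 := d23_2 (iv F35041) D9309 (iv D7403)
def n9310 : Q := act 6 n7347
theorem D9310 : act 6 n7347 = n9310 := rfl
theorem F43762 : act 0 n9310 = n7831 := d5_1 D9310 (iv D7831) (iv F35037)
theorem F43764 : act 3 n9310 = n7348 := d26_1 D9310 (iv D7348) D7347
theorem F43765 : act 4 n9310 = n7366 := d31_1 D9310 (iv D7366) (iv F35039)
def n9311 : Q := act 5 n7348
theorem D9311 : act 5 n7348 = n9311 := rfl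
theorem F43767 : act 0 n9311 = n7832 := d4_1 D9311 (iv D7832) (iv F35042)
theorem F43768 : act 1 n9311 = n9311 := d12_1 D9311 (iv D9311) F35043
theorem F43769 : act 4 n9311 = n9311 := d30_1 D9311 (iv D9311) F35044 F28152 (iv F35044)
theorem F43770 : act 9 n9311 = n7405 := d38_2 (iv F35045) D9311 (iv D7405)
def n9312 : Q := act 7 n7348
theorem D9312 : act 7 n7348 = n9312 := rfl
theorem F43771 : act 0 n9312 = n7833 := d6_1 D9312 (iv D7833) (iv F35042)
theorem F43772 : act 1 n9312 = n9312 := d14_1 D9312 (iv D9312) F35043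
theorem F43773 : act 4 n9312 = n7349 := d32_1 D9312 (iv D7349) (iv F35044)
theorem F43774 : act 6 n9312 = n7353 := d39_1 D9312 (iv D7353) (iv D5835) (iv F28147) D7348
theorem F43775 : act 9 n9312 = n7406 := d43_2 (iv F35045) D9312 (iv D7406)
def n9313 : Q := act 1 n7350
theorem D9313 : act 1 n7350 = n9313 := rfl
theorem F43776 : act 2 n9313 = n9313 := d9_2 D7350 D9313 (iv D9313) (iv D7350) F28155
theorem F43777 : act 4 n9313 = n7369 := d11_2 (iv F35053) D9313 (iv D7369)
theorem F43778 : act 9 n9313 = n7407 := d16_2 (iv F35054) D9313 (iv D7407)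
def n9314 : Q := act 6 n7350
theorem D9314 : act 6 n7350 = n9314 := rfl
theorem F43779 : act 0 n9314 = n7835 := d5_1 D9314 (iv D7835) (iv F35052)
theorem F43780 : act 2 n9314 = n7351 := d20_1 D9314 (iv D7351) D7350
theorem F43781 : act 4 n9314 = n7370 := d31_1 D9314 (iv D7370) (iv F35053)
theorem F43782 : act 9 n9314 = n7408 := d41_2 (iv F35054) D9314 (iv D7408)
def n9315 : Q := act 5 n7351
theorem D9315 : act 5 n7351 = n9315 := rfl
theorem F43783 : act 0 n9315 = n7836 := d4_1 D9315 (iv D7836) (iv F35055)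
theorem F43784 : act 1 n9315 = n9315 := d12_1 D9315 (iv D9315) F35056
theorem F43785 : act 3 n9315 = n7352 := d25_1 D9315 (iv D7352) (iv F35057)
theorem F43786 : act 4 n9315 = n9315 := d30_1 D9315 (iv D9315) F35058 F28236 (iv F35058)
theorem F43787 : act 9 n9315 = n7409 := d38_2 (iv F35059) D9315 (iv D7409)
def n9316 : Q := act 7 n7351
theorem D9316 : act 7 n7351 = n9316 := rfl
theorem F43788 : act 0 n9316 = n7837 := d6_1 D9316 (iv D7837) (iv F35055)
theorem F43789 : act 1 n9316 = n9316 := d14_1 D9316 (iv D9316) F35056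
theorem F43790 : act 3 n9316 = n7353 := d27_1 D9316 (iv D7353) (iv F35057)
theorem F43791 : act 4 n9316 = n7371 := d32_1 D9316 (iv D7371) (iv F35058)
theorem F43792 : act 9 n9316 = n7410 := d43_2 (iv F35059) D9316 (iv D7410)
def n9317 : Q := act 7 n7352
theorem D9317 : act 7 n7352 = n9317 := rfl
theorem F43793 : act 0 n9317 = n7838 := d6_1 D9317 (iv D7838) (iv F35060)
theorem F43794 : act 1 n9317 = n9317 := d14_1 D9317 (iv D9317) F35061
theorem F43795 : act 4 n9317 = n7354 := d32_1 D9317 (iv D7354) (iv F35062)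
theorem F43796 : act 5 n9317 = n7353 := d36_1 D9317 (iv D7353) D7352
theorem F43797 : act 9 n9317 = n7411 := d43_2 (iv F35063) D9317 (iv D7411)
def n9318 : Q := act 8 n7352
theorem D9318 : act 8 n7352 = n9318 := rfl
theorem F43798 : act 0 n9318 = n7839 := d7_1 D9318 (iv D7839) (iv F35060)
theorem F43799 : act 1 n9318 = n9318 := d15_1 D9318 (iv D9318) F35061
theorem F43800 : act 4 n9318 = n7355 := d33_1 D9318 (iv D7355) (iv F35062)
def n9319 : Q := act 6 n7354
theorem D9319 : act 6 n7354 = n9319 := rfl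
theorem F43801 : act 0 n9319 = n7840 := d5_1 D9319 (iv D7840) (iv F35068)
theorem F43802 : act 1 n9319 = n9319 := d13_1 D9319 (iv D9319) F35069
theorem F43803 : act 3 n9319 = n9319 := d26_1 D9319 (iv D9319) F35070
theorem F43804 : act 5 n9319 = n9319 := d35_1 D9319 (iv D9319) F35071 F28175 (iv F35071)
theorem F43805 : act 9 n9319 = n7413 := d41_2 (iv F35072) D9319 (iv D7413)
def n9320 : Q := act 8 n7354
theorem D9320 : act 8 n7354 = n9320 := rfl
theorem F43806 : act 0 n9320 = n7841 := d7_1 D9320 (iv D7841) (iv F35068)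
theorem F43807 : act 1 n9320 = n9320 := d15_1 D9320 (iv D9320) F35069
theorem F43808 : act 3 n9320 = n9320 := d28_1 D9320 (iv D9320) F35070
theorem F43809 : act 5 n9320 = n9320 := d37_1 D9320 (iv D9320) F35071 F28176 (iv F35071)
theorem F43810 : act 7 n9320 = n7355 := d42_1 D9320 (iv D7355) D7354
def n9321 : Q := act 9 n7355
theorem D9321 : act 9 n7355 = n9321 := rfl
theorem F43811 : act 0 n9321 = n7842 := d8_1 D9321 (iv D7842) (iv F35073)
theorem F43812 : act 1 n9321 = n9321 := d16_1 D9321 (iv D9321) F35074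
theorem F43813 : act 3 n9321 = n9321 := d29_1 D9321 (iv D9321) F35075
theorem F43814 : act 5 n9321 = n9321 := d38_1 D9321 (iv D9321) F35076
theorem F43815 : act 8 n9321 = n7415 := d44_1 D9321 (iv D7415) (iv D5881) (iv F28170) D7355
def n9322 : Q := act 3 n7356
theorem D9322 : act 3 n7356 = n9322 := rfl
def n9323 : Q := act 6 n7356
theorem D9323 : act 6 n7356 = n9323 := rfl
theorem F43825 : act 4 n9323 = n7357 := d31_1 D9323 (iv D7357) D7356
def n9324 : Q := act 7 n7357
theorem D9324 : act 7 n7357 = n9324 := rfl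
theorem F43828 : act 0 n9324 = n7845 := d6_1 D9324 (iv D7845) (iv F35084)
theorem F43831 : act 5 n9324 = n7360 := d36_1 D9324 (iv D7360) (iv F35087)
def n9325 : Q := act 2 n7358
theorem D9325 : act 2 n7358 = n9325 := rfl
theorem F43835 : act 0 n9325 = n7846 := d1_1 D9325 (iv D7846) (iv F35090)
theorem F43836 : act 3 n9325 = n9325 := d17_2 D7358 D9325 (iv D9325) (iv D7358) F28186
theorem F43837 : act 5 n9325 = n9325 := d19_2 F35092 D9325 (iv D9325)
theorem F43838 : act 7 n9325 = n7361 := d21_2 (iv F35093) D9325 (iv D7361)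
theorem F43839 : act 8 n9325 = n7365 := d22_2 (iv F35094) D9325 (iv D7365)
theorem F43840 : act 9 n9325 = n9325 := d23_2 F35095 D9325 (iv D9325)
def n9326 : Q := act 6 n7358
theorem D9326 : act 6 n7358 = n9326 := rfl
theorem F43841 : act 0 n9326 = n7847 := d5_1 D9326 (iv D7847) (iv F35090)
theorem F43843 : act 3 n9326 = n7359 := d26_1 D9326 (iv D7359) D7358
theorem F43844 : act 8 n9326 = n7366 := d40_2 (iv F35094) D9326 (iv D7366)
def n9327 : Q := act 5 n7359
theorem D9327 : act 5 n7359 = n9327 := rfl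
def n9328 : Q := act 7 n7359
theorem D9328 : act 7 n7359 = n9328 := rfl
theorem F43854 : act 4 n9328 = n7360 := d32_1 D9328 (iv D7360) (iv F35099)
theorem F43855 : act 6 n9328 = n7364 := d39_1 D9328 (iv D7364) (iv D5843) (iv F28188) D7359
def n9329 : Q := act 1 n7361
theorem D9329 : act 1 n7361 = n9329 := rfl
theorem F43858 : act 2 n9329 = n9329 := d9_2 D7361 D9329 (iv D9329) (iv D7361) F28197
theorem F43859 : act 3 n9329 = n9329 := d10_2 F35109 D9329 (iv D9329)
theorem F43860 : act 5 n9329 = n9329 := d12_2 F35110 D9329 (iv D9329)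
theorem F43861 : act 8 n9329 = n7369 := d15_2 (iv F35111) D9329 (iv D7369)
theorem F43862 : act 9 n9329 = n9329 := d16_2 F35112 D9329 (iv D9329)
def n9330 : Q := act 6 n7361
theorem D9330 : act 6 n7361 = n9330 := rfl
theorem F43863 : act 0 n9330 = n7851 := d5_1 D9330 (iv D7851) (iv F35108)
theorem F43864 : act 2 n9330 = n7362 := d20_1 D9330 (iv D7362) D7361
theorem F43865 : act 3 n9330 = n9330 := d26_1 D9330 (iv D9330) F35109
theorem F43866 : act 8 n9330 = n7370 := d40_2 (iv F35111) D9330 (iv D7370)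
theorem F43867 : act 9 n9330 = n9330 := d41_2 F35112 D9330 (iv D9330)
def n9331 : Q := act 5 n7362
theorem D9331 : act 5 n7362 = n9331 := rfl
theorem F43868 : act 0 n9331 = n7852 := d4_1 D9331 (iv D7852) (iv F35113)
theorem F43869 : act 1 n9331 = n9331 := d12_1 D9331 (iv D9331) F35114
theorem F43870 : act 3 n9331 = n7363 := d25_1 D9331 (iv D7363) (iv F35115)
theorem F43871 : act 6 n9331 = n9331 := d35_2 D7362 D9331 (iv D9331) (iv D7362) F28198
theorem F43872 : act 8 n9331 = n9331 := d37_2 (iv F35116) D9331 (iv D9331) F35116 F28236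
theorem F43873 : act 9 n9331 = n9331 := d38_2 F35117 D9331 (iv D9331)
def n9332 : Q := act 7 n7362
theorem D9332 : act 7 n7362 = n9332 := rfl
theorem F43874 : act 0 n9332 = n7853 := d6_1 D9332 (iv D7853) (iv F35113)
theorem F43875 : act 1 n9332 = n9332 := d14_1 D9332 (iv D9332) F35114
theorem F43876 : act 3 n9332 = n7364 := d27_1 D9332 (iv D7364) (iv F35115)
theorem F43877 : act 8 n9332 = n7371 := d42_2 (iv F35116) D9332 (iv D7371)
theorem F43878 : act 9 n9332 = n9332 := d43_2 F35117 D9332 (iv D9332)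
def n9333 : Q := act 7 n7363
theorem D9333 : act 7 n7363 = n9333 := rfl
theorem F43879 : act 0 n9333 = n7854 := d6_1 D9333 (iv D7854) (iv F35118)
theorem F43883 : act 5 n9333 = n7364 := d36_1 D9333 (iv D7364) D7363
def n9334 : Q := act 1 n7365
theorem D9334 : act 1 n7365 = n9334 := rfl
theorem F43889 : act 7 n9334 = n7369 := d14_2 (iv F35134) D9334 (iv D7369)
def n9335 : Q := act 6 n7365
theorem D9335 : act 6 n7365 = n9335 := rfl
theorem F43891 : act 0 n9335 = n7856 := d5_1 D9335 (iv D7856) (iv F35131)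
def n9336 : Q := act 5 n7366
theorem D9336 : act 5 n7366 = n9336 := rfl
theorem F43895 : act 0 n9336 = n7857 := d4_1 D9336 (iv D7857) (iv F35136)
def n9337 : Q := act 7 n7366
theorem D9337 : act 7 n7366 = n9337 := rfl
theorem F43903 : act 6 n9337 = n7371 := d39_1 D9337 (iv D7371) (iv D5849) (iv F28216) D7366
def n9338 : Q := act 7 n7367
theorem D9338 : act 7 n7367 = n9338 := rfl
theorem F43909 : act 5 n9338 = n7368 := d36_1 D9338 (iv D7368) D7367
def n9339 : Q := act 8 n7367
theorem D9339 : act 8 n7367 = n9339 := rfl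
theorem F43916 : act 6 n9339 = n7375 := d40_1 D9339 (iv D7375) (iv F35144)
def n9340 : Q := act 0 n7369
theorem D9340 : act 0 n7369 = n9340 := rfl
def n9341 : Q := act 6 n7369
theorem D9341 : act 6 n7369 = n9341 := rfl
theorem F43922 : act 1 n9341 = n7370 := d13_1 D9341 (iv D7370) D7369
theorem F43923 : act 2 n9341 = n9341 := d20_1 D9341 (iv D9341) F35152
theorem F43924 : act 3 n9341 = n9341 := d26_1 D9341 (iv D9341) F35153
theorem F43925 : act 5 n9341 = n9341 := d35_1 D9341 (iv D9341) F35154 F28263 (iv F35154)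
theorem F43926 : act 9 n9341 = n7423 := d41_2 (iv F35155) D9341 (iv D7423)
def n9342 : Q := act 7 n7370
theorem D9342 : act 7 n7370 = n9342 := rfl
theorem F43928 : act 2 n9342 = n7371 := d21_1 D9342 (iv D7371) (iv F35157)
theorem F43929 : act 3 n9342 = n9342 := d27_1 D9342 (iv D9342) F35158
theorem F43930 : act 5 n9342 = n9342 := d36_1 D9342 (iv D9342) F35159
theorem F43931 : act 9 n9342 = n7424 := d43_2 (iv F35160) D9342 (iv D7424)
def n9343 : Q := act 0 n7372
theorem D9343 : act 0 n7372 = n9343 := rfl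
theorem F43932 : act 1 n9343 = n7864 := d0_2 D7372 D9343 (iv D7864) (iv D6233) (iv F28244)
theorem F43935 : act 7 n9343 = n7376 := d6_2 (iv F35168) D9343 (iv D7376)
def n9344 : Q := act 6 n7372
theorem D9344 : act 6 n7372 = n9344 := rfl
theorem F43938 : act 1 n9344 = n7373 := d13_1 D9344 (iv D7373) D7372
def n9345 : Q := act 5 n7373
theorem D9345 : act 5 n7373 = n9345 := rfl
theorem F43944 : act 0 n9345 = n7866 := d4_1 D9345 (iv D7866) (iv F35171)
theorem F43945 : act 2 n9345 = n7374 := d19_1 D9345 (iv D7374) (iv F35172)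
def n9346 : Q := act 4 n7374
theorem D9346 : act 4 n7374 = n9346 := rfl
theorem F43949 : act 0 n9346 = n7867 := d3_1 D9346 (iv D7867) (iv F35177)
def n9347 : Q := act 8 n7374
theorem D9347 : act 8 n7374 = n9347 := rfl
theorem F43954 : act 0 n9347 = n7868 := d7_1 D9347 (iv D7868) (iv F35177)
def n9348 : Q := act 9 n7375
theorem D9348 : act 9 n7375 = n9348 := rfl
theorem F43959 : act 0 n9348 = n7869 := d8_1 D9348 (iv D7869) (iv F35182)
def n9349 : Q := act 4 n7377
theorem D9349 : act 4 n7377 = n9349 := rfl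
theorem F43966 : act 0 n9349 = n7383 := d3_1 D9349 (iv D7383) (iv F35194)
theorem F43967 : act 1 n9349 = n7870 := d11_1 D9349 (iv D7870) (iv F35195)
theorem F43968 : act 2 n9349 = n9349 := d18_1 D9349 (iv D9349) F35196
theorem F43969 : act 7 n9349 = n7378 := d32_2 (iv F35198) D9349 (iv D7378)
theorem F43970 : act 8 n9349 = n9349 := d33_2 F35199 D9349 (iv D9349)
def n9350 : Q := act 6 n7377
theorem D9350 : act 6 n7377 = n9350 := rfl
theorem F43971 : act 0 n9350 = n7384 := d5_1 D9350 (iv D7384) (iv F35194)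
theorem F43972 : act 1 n9350 = n7871 := d13_1 D9350 (iv D7871) (iv F35195)
theorem F43973 : act 2 n9350 = n9350 := d20_1 D9350 (iv D9350) F35196
theorem F43974 : act 3 n9350 = n9350 := d26_1 D9350 (iv D9350) F35197
theorem F43975 : act 5 n9350 = n9350 := d35_1 D9350 (iv D9350) (iv D7377) F28270 D7377
theorem F43976 : act 8 n9350 = n9350 := d40_2 F35199 D9350 (iv D9350)
def n9351 : Q := act 3 n7378
theorem D9351 : act 3 n7378 = n9351 := rfl
theorem F43977 : act 0 n9351 = n7385 := d2_1 D9351 (iv D7385) (iv F35200)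
theorem F43978 : act 1 n9351 = n7872 := d10_1 D9351 (iv D7872) (iv F35201)
theorem F43979 : act 4 n9351 = n9351 := d24_2 D7378 D9351 (iv D9351) (iv D7378) F28275
theorem F43980 : act 8 n9351 = n9351 := d28_2 F35203 D9351 (iv D9351)
def n9352 : Q := act 6 n7378
theorem D9352 : act 6 n7378 = n9352 := rfl
theorem F43981 : act 0 n9352 = n7386 := d5_1 D9352 (iv D7386) (iv F35200)
theorem F43982 : act 1 n9352 = n7873 := d13_1 D9352 (iv D7873) (iv F35201)
theorem F43983 : act 2 n9352 = n9352 := d20_1 D9352 (iv D9352) F35202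
theorem F43984 : act 4 n9352 = n7379 := d31_1 D9352 (iv D7379) D7378
theorem F43985 : act 8 n9352 = n9352 := d40_2 F35203 D9352 (iv D9352)
def n9353 : Q := act 7 n7379
theorem D9353 : act 7 n7379 = n9353 := rfl
theorem F43986 : act 0 n9353 = n7387 := d6_1 D9353 (iv D7387) (iv F35204)
theorem F43987 : act 1 n9353 = n7874 := d14_1 D9353 (iv D7874) (iv F35205)
def n9354 : Q := act 2 n7380
theorem D9354 : act 2 n7380 = n9354 := rfl
theorem F43992 : act 0 n9354 = n7388 := d1_1 D9354 (iv D7388) (iv F35210)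
theorem F43996 : act 8 n9354 = n7435 := d22_2 (iv F35214) D9354 (iv D7435)
def n9355 : Q := act 6 n7380
theorem D9355 : act 6 n7380 = n9355 := rfl
theorem F43997 : act 0 n9355 = n7389 := d5_1 D9355 (iv D7389) (iv F35210)
theorem F43998 : act 1 n9355 = n7876 := d13_1 D9355 (iv D7876) (iv F35211)
theorem F43999 : act 3 n9355 = n7381 := d26_1 D9355 (iv D7381) D7380
theorem F44001 : act 8 n9355 = n7436 := d40_2 (iv F35214) D9355 (iv D7436)
def n9356 : Q := act 5 n7381
theorem D9356 : act 5 n7381 = n9356 := rfl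
theorem F44002 : act 0 n9356 = n7390 := d4_1 D9356 (iv D7390) (iv F35215)
theorem F44003 : act 1 n9356 = n7877 := d12_1 D9356 (iv D7877) (iv F35216)
def n9357 : Q := act 7 n7381
theorem D9357 : act 7 n7381 = n9357 := rfl
theorem F44005 : act 0 n9357 = n7391 := d6_1 D9357 (iv D7391) (iv F35215)
theorem F44006 : act 1 n9357 = n7878 := d14_1 D9357 (iv D7878) (iv F35216)
theorem F44010 : act 8 n9357 = n7438 := d42_2 (iv F35219) D9357 (iv D7438)
def n9358 : Q := act 3 n7383
theorem D9358 : act 3 n7383 = n9358 := rfl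
theorem F44011 : act 1 n9358 = n7392 := d10_1 D9358 (iv D7392) (iv F35226)
theorem F44012 : act 4 n9358 = n9358 := d24_2 D7383 D9358 (iv D9358) (iv D7383) F28289
theorem F44013 : act 7 n9358 = n7385 := d27_2 (iv F35228) D9358 (iv D7385)
theorem F44014 : act 8 n9358 = n9358 := d28_2 F35229 D9358 (iv D9358)
def n9359 : Q := act 6 n7383
theorem D9359 : act 6 n7383 = n9359 := rfl
theorem F44015 : act 1 n9359 = n7393 := d13_1 D9359 (iv D7393) (iv F35226)
theorem F44016 : act 2 n9359 = n9359 := d20_1 D9359 (iv D9359) F35227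
theorem F44017 : act 4 n9359 = n7384 := d31_1 D9359 (iv D7384) D7383
theorem F44018 : act 8 n9359 = n9359 := d40_2 F35229 D9359 (iv D9359)
def n9360 : Q := act 7 n7384
theorem D9360 : act 7 n7384 = n9360 := rfl
theorem F44019 : act 1 n9360 = n7394 := d14_1 D9360 (iv D7394) (iv F35230)
theorem F44020 : act 2 n9360 = n9360 := d21_1 D9360 (iv D9360) F35231
theorem F44021 : act 3 n9360 = n9360 := d27_1 D9360 (iv D9360) F35232
theorem F44022 : act 5 n9360 = n9360 := d36_1 D9360 (iv D9360) F35233
theorem F44023 : act 6 n9360 = n7387 := d39_1 D9360 (iv D7387) (iv D5861) (iv F28290) D7384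
theorem F44024 : act 8 n9360 = n9360 := d42_2 F35234 D9360 (iv D9360)
def n9361 : Q := act 2 n7385
theorem D9361 : act 2 n7385 = n9361 := rfl
theorem F44025 : act 3 n9361 = n9361 := d17_2 D7385 D9361 (iv D9361) (iv D7385) F28293
theorem F44026 : act 4 n9361 = n9361 := d18_2 F35236 D9361 (iv D9361)
theorem F44027 : act 8 n9361 = n9361 := d22_2 F35237 D9361 (iv D9361)
def n9362 : Q := act 6 n7385
theorem D9362 : act 6 n7385 = n9362 := rfl
theorem F44028 : act 1 n9362 = n7396 := d13_1 D9362 (iv D7396) (iv F35235)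
theorem F44029 : act 3 n9362 = n7386 := d26_1 D9362 (iv D7386) D7385
theorem F44030 : act 4 n9362 = n9362 := d31_1 D9362 (iv D9362) F35236
theorem F44031 : act 8 n9362 = n9362 := d40_2 F35237 D9362 (iv D9362)
def n9363 : Q := act 5 n7386
theorem D9363 : act 5 n7386 = n9363 := rfl
theorem F44032 : act 1 n9363 = n7397 := d12_1 D9363 (iv D7397) (iv F35238)
theorem F44033 : act 2 n9363 = n9363 := d19_1 D9363 (iv D9363) F35239
theorem F44034 : act 4 n9363 = n7390 := d30_1 D9363 (iv D7390) F28306 (iv F28298) (iv F35240)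
def n9364 : Q := act 7 n7386
theorem D9364 : act 7 n7386 = n9364 := rfl
theorem F44035 : act 1 n9364 = n7398 := d14_1 D9364 (iv D7398) (iv F35238)
theorem F44036 : act 2 n9364 = n9364 := d21_1 D9364 (iv D9364) F35239
theorem F44037 : act 4 n9364 = n7387 := d32_1 D9364 (iv D7387) (iv F35240)
theorem F44038 : act 8 n9364 = n9364 := d42_2 F35241 D9364 (iv D9364)
def n9365 : Q := act 6 n7388
theorem D9365 : act 6 n7388 = n9365 := rfl
theorem F44040 : act 2 n9365 = n7389 := d20_1 D9365 (iv D7389) D7388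
def n9366 : Q := act 5 n7389
theorem D9366 : act 5 n7389 = n9366 := rfl
theorem F44044 : act 1 n9366 = n7399 := d12_1 D9366 (iv D7399) (iv F35252)
theorem F44045 : act 3 n9366 = n7390 := d25_1 D9366 (iv D7390) (iv F35253)
def n9367 : Q := act 7 n7389
theorem D9367 : act 7 n7389 = n9367 := rfl
theorem F44050 : act 8 n9367 = n7441 := d42_2 (iv F35255) D9367 (iv D7441)
def n9368 : Q := act 7 n7390
theorem D9368 : act 7 n7390 = n9368 := rfl
theorem F44051 : act 1 n9368 = n7401 := d14_1 D9368 (iv D7401) (iv F35256)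
theorem F44053 : act 5 n9368 = n7391 := d36_1 D9368 (iv D7391) D7390
def n9369 : Q := act 8 n7390
theorem D9369 : act 8 n7390 = n9369 := rfl
theorem F44054 : act 1 n9369 = n7402 := d15_1 D9369 (iv D7402) (iv F35256)
theorem F44055 : act 2 n9369 = n9369 := d22_1 D9369 (iv D9369) F35257
def n9370 : Q := act 2 n7392
theorem D9370 : act 2 n7392 = n9370 := rfl
theorem F44057 : act 0 n9370 = n7891 := d1_1 D9370 (iv D7891) (iv F35263)
theorem F44058 : act 3 n9370 = n7403 := d17_2 D7392 D9370 (iv D7403) (iv D5873) (iv F28314)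
theorem F44059 : act 4 n9370 = n9370 := d18_2 F35264 D9370 (iv D9370)
theorem F44060 : act 7 n9370 = n7395 := d21_2 (iv F35265) D9370 (iv D7395)
theorem F44061 : act 8 n9370 = n9370 := d22_2 F35266 D9370 (iv D9370)
def n9371 : Q := act 6 n7392
theorem D9371 : act 6 n7392 = n9371 := rfl
theorem F44062 : act 0 n9371 = n7892 := d5_1 D9371 (iv D7892) (iv F35263)
theorem F44063 : act 3 n9371 = n7393 := d26_1 D9371 (iv D7393) D7392
theorem F44064 : act 4 n9371 = n9371 := d31_1 D9371 (iv D9371) F35264
theorem F44065 : act 8 n9371 = n9371 := d40_2 F35266 D9371 (iv D9371)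
def n9372 : Q := act 5 n7393
theorem D9372 : act 5 n7393 = n9372 := rfl
theorem F44066 : act 0 n9372 = n7893 := d4_1 D9372 (iv D7893) (iv F35267)
theorem F44067 : act 2 n9372 = n7405 := d19_1 D9372 (iv D7405) (iv F35268)
theorem F44068 : act 4 n9372 = n9372 := d30_1 D9372 (iv D9372) F35269 F28320 (iv F35269)
def n9373 : Q := act 7 n7393
theorem D9373 : act 7 n7393 = n9373 := rfl
theorem F44069 : act 0 n9373 = n7894 := d6_1 D9373 (iv D7894) (iv F35267)
theorem F44070 : act 2 n9373 = n7406 := d21_1 D9373 (iv D7406) (iv F35268)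
theorem F44071 : act 4 n9373 = n7394 := d32_1 D9373 (iv D7394) (iv F35269)
theorem F44072 : act 6 n9373 = n7398 := d39_1 D9373 (iv D7398) (iv D5868) (iv F28315) D7393
theorem F44073 : act 8 n9373 = n9373 := d42_2 F35270 D9373 (iv D9373)
def n9374 : Q := act 1 n7395
theorem D9374 : act 1 n7395 = n9374 := rfl
theorem F44074 : act 3 n9374 = n7407 := d10_2 (iv F35278) D9374 (iv D7407)
theorem F44075 : act 4 n9374 = n9374 := d11_2 F35279 D9374 (iv D9374)
theorem F44076 : act 8 n9374 = n9374 := d15_2 F35280 D9374 (iv D9374)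
def n9375 : Q := act 6 n7395
theorem D9375 : act 6 n7395 = n9375 := rfl
theorem F44077 : act 0 n9375 = n7896 := d5_1 D9375 (iv D7896) (iv F35277)
theorem F44078 : act 2 n9375 = n7396 := d20_1 D9375 (iv D7396) D7395
theorem F44079 : act 3 n9375 = n7408 := d26_1 D9375 (iv D7408) (iv F35278)
theorem F44080 : act 4 n9375 = n9375 := d31_1 D9375 (iv D9375) F35279
theorem F44081 : act 8 n9375 = n9375 := d40_2 F35280 D9375 (iv D9375)
def n9376 : Q := act 5 n7396
theorem D9376 : act 5 n7396 = n9376 := rfl
theorem F44082 : act 0 n9376 = n7897 := d4_1 D9376 (iv D7897) (iv F35281)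
theorem F44083 : act 3 n9376 = n7397 := d25_1 D9376 (iv D7397) (iv F35282)
def n9377 : Q := act 7 n7396
theorem D9377 : act 7 n7396 = n9377 := rfl
theorem F44084 : act 0 n9377 = n7898 := d6_1 D9377 (iv D7898) (iv F35281)
theorem F44085 : act 3 n9377 = n7398 := d27_1 D9377 (iv D7398) (iv F35282)
theorem F44086 : act 4 n9377 = n9377 := d32_1 D9377 (iv D9377) F35283
theorem F44087 : act 8 n9377 = n9377 := d42_2 F35284 D9377 (iv D9377)
def n9378 : Q := act 7 n7397
theorem D9378 : act 7 n7397 = n9378 := rfl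
theorem F44088 : act 0 n9378 = n7899 := d6_1 D9378 (iv D7899) (iv F35285)
theorem F44089 : act 2 n9378 = n7411 := d21_1 D9378 (iv D7411) (iv F35286)
theorem F44090 : act 4 n9378 = n7401 := d32_1 D9378 (iv D7401) (iv F35287)
theorem F44091 : act 5 n9378 = n7398 := d36_1 D9378 (iv D7398) D7397
def n9379 : Q := act 8 n7397
theorem D9379 : act 8 n7397 = n9379 := rfl
theorem F44092 : act 0 n9379 = n7900 := d7_1 D9379 (iv D7900) (iv F35285)
theorem F44093 : act 2 n9379 = n7412 := d22_1 D9379 (iv D7412) (iv F35286)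
theorem F44094 : act 4 n9379 = n7402 := d33_1 D9379 (iv D7402) (iv F35287)
theorem F44095 : act 5 n9379 = n9379 := d37_1 D9379 (iv D9379) (iv D7397) F28328 D7397
def n9380 : Q := act 4 n7399
theorem D9380 : act 4 n7399 = n9380 := rfl
theorem F44096 : act 0 n9380 = n7901 := d3_1 D9380 (iv D7901) (iv F35292)
theorem F44097 : act 2 n9380 = n9380 := d18_1 D9380 (iv D9380) F35293
theorem F44098 : act 5 n9380 = n9380 := d30_2 D7399 D9380 (iv D9380) (iv D7399) F28337
def n9381 : Q := act 7 n7399
theorem D9381 : act 7 n7399 = n9381 := rfl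
theorem F44101 : act 3 n9381 = n7401 := d27_1 D9381 (iv D7401) (iv F35294)
theorem F44102 : act 5 n9381 = n7400 := d36_1 D9381 (iv D7400) D7399
def n9382 : Q := act 8 n7399
theorem D9382 : act 8 n7399 = n9382 := rfl
theorem F44103 : act 0 n9382 = n7903 := d7_1 D9382 (iv D7903) (iv F35292)
theorem F44106 : act 5 n9382 = n7446 := d37_1 D9382 (iv D7446) (iv D5906) (iv F28338) D7399
def n9383 : Q := act 6 n7401
theorem D9383 : act 6 n7401 = n9383 := rfl
theorem F44107 : act 0 n9383 = n7904 := d5_1 D9383 (iv D7904) (iv F35301)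
theorem F44108 : act 2 n9383 = n7413 := d20_1 D9383 (iv D7413) (iv F35302)
theorem F44109 : act 5 n9383 = n9383 := d35_1 D9383 (iv D9383) F35303 F28344 (iv F35303)
def n9384 : Q := act 8 n7401
theorem D9384 : act 8 n7401 = n9384 := rfl
theorem F44111 : act 2 n9384 = n7414 := d22_1 D9384 (iv D7414) (iv F35302)
theorem F44112 : act 5 n9384 = n7448 := d37_1 D9384 (iv D7448) F28525 (iv F28345) (iv F35303)
theorem F44113 : act 7 n9384 = n7402 := d42_1 D9384 (iv D7402) D7401
def n9385 : Q := act 9 n7402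
theorem D9385 : act 9 n7402 = n9385 := rfl
theorem F44114 : act 0 n9385 = n7906 := d8_1 D9385 (iv D7906) (iv F35304)
theorem F44115 : act 2 n9385 = n7415 := d23_1 D9385 (iv D7415) (iv F35305)
theorem F44116 : act 5 n9385 = n7449 := d38_1 D9385 (iv D7449) (iv F35306)
def n9386 : Q := act 1 n7403
theorem D9386 : act 1 n7403 = n9386 := rfl
theorem F44118 : act 4 n9386 = n7416 := d11_2 (iv F35308) D9386 (iv D7416)
theorem F44119 : act 7 n9386 = n7407 := d14_2 (iv F35309) D9386 (iv D7407)
def n9387 : Q := act 6 n7403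
theorem D9387 : act 6 n7403 = n9387 := rfl
theorem F44121 : act 0 n9387 = n7908 := d5_1 D9387 (iv D7908) (iv F35307)
theorem F44123 : act 4 n9387 = n7417 := d31_1 D9387 (iv D7417) (iv F35308)
def n9388 : Q := act 5 n7404
theorem D9388 : act 5 n7404 = n9388 := rfl
theorem F44125 : act 0 n9388 = n7909 := d4_1 D9388 (iv D7909) (iv F35311)
theorem F44127 : act 3 n9388 = n7405 := d25_1 D9388 (iv D7405) (iv F35313)
def n9389 : Q := act 7 n7404
theorem D9389 : act 7 n7404 = n9389 := rfl
theorem F44132 : act 6 n9389 = n7410 := d39_1 D9389 (iv D7410) (iv D5877) (iv F28349) D7404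
def n9390 : Q := act 7 n7405
theorem D9390 : act 7 n7405 = n9390 := rfl
theorem F44134 : act 0 n9390 = n7911 := d6_1 D9390 (iv D7911) (iv F35316)
theorem F44135 : act 1 n9390 = n9390 := d14_1 D9390 (iv D9390) F35317
theorem F44136 : act 4 n9390 = n9390 := d32_1 D9390 (iv D9390) F35318
theorem F44137 : act 5 n9390 = n7406 := d36_1 D9390 (iv D7406) D7405
def n9391 : Q := act 8 n7405
theorem D9391 : act 8 n7405 = n9391 := rfl
theorem F44138 : act 0 n9391 = n7912 := d7_1 D9391 (iv D7912) (iv F35316)
theorem F44139 : act 1 n9391 = n9391 := d15_1 D9391 (iv D9391) F35317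
theorem F44140 : act 4 n9391 = n9391 := d33_1 D9391 (iv D9391) F35318
theorem F44141 : act 5 n9391 = n9391 := d37_1 D9391 (iv D9391) (iv D7405) F28354 D7405
def n9392 : Q := act 0 n7407
theorem D9392 : act 0 n7407 = n9392 := rfl
def n9393 : Q := act 6 n7407
theorem D9393 : act 6 n7407 = n9393 := rfl
theorem F44146 : act 1 n9393 = n7408 := d13_1 D9393 (iv D7408) D7407
theorem F44147 : act 2 n9393 = n9393 := d20_1 D9393 (iv D9393) F35324
theorem F44148 : act 4 n9393 = n7423 := d31_1 D9393 (iv D7423) (iv F35325)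
theorem F44149 : act 8 n9393 = n9393 := d40_2 F35326 D9393 (iv D9393)
def n9394 : Q := act 5 n7408
theorem D9394 : act 5 n7408 = n9394 := rfl
theorem F44150 : act 0 n9394 = n7915 := d4_1 D9394 (iv D7915) (iv F35327)
theorem F44151 : act 2 n9394 = n7409 := d19_1 D9394 (iv D7409) (iv F35328)
theorem F44152 : act 4 n9394 = n9394 := d30_1 D9394 (iv D9394) F35329 F28411 (iv F35329)
def n9395 : Q := act 7 n7408
theorem D9395 : act 7 n7408 = n9395 := rfl
theorem F44154 : act 2 n9395 = n7410 := d21_1 D9395 (iv D7410) (iv F35328)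
theorem F44155 : act 4 n9395 = n7424 := d32_1 D9395 (iv D7424) (iv F35329)
theorem F44156 : act 8 n9395 = n9395 := d42_2 F35330 D9395 (iv D9395)
def n9396 : Q := act 7 n7409
theorem D9396 : act 7 n7409 = n9396 := rfl
theorem F44157 : act 0 n9396 = n7917 := d6_1 D9396 (iv D7917) (iv F35331)
theorem F44158 : act 1 n9396 = n9396 := d14_1 D9396 (iv D9396) F35332
theorem F44159 : act 3 n9396 = n7411 := d27_1 D9396 (iv D7411) (iv F35333)
theorem F44160 : act 4 n9396 = n9396 := d32_1 D9396 (iv D9396) F35334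
theorem F44161 : act 5 n9396 = n7410 := d36_1 D9396 (iv D7410) D7409
def n9397 : Q := act 8 n7409
theorem D9397 : act 8 n7409 = n9397 := rfl
theorem F44162 : act 0 n9397 = n7918 := d7_1 D9397 (iv D7918) (iv F35331)
theorem F44163 : act 1 n9397 = n9397 := d15_1 D9397 (iv D9397) F35332
theorem F44164 : act 3 n9397 = n7412 := d28_1 D9397 (iv D7412) (iv F35333)
theorem F44165 : act 4 n9397 = n9397 := d33_1 D9397 (iv D9397) F35334
theorem F44166 : act 5 n9397 = n9397 := d37_1 D9397 (iv D9397) (iv D7409) F28368 D7409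
def n9398 : Q := act 6 n7411
theorem D9398 : act 6 n7411 = n9398 := rfl
theorem F44167 : act 0 n9398 = n7919 := d5_1 D9398 (iv D7919) (iv F35340)
theorem F44168 : act 1 n9398 = n9398 := d13_1 D9398 (iv D9398) F35341
theorem F44169 : act 4 n9398 = n7413 := d31_1 D9398 (iv D7413) (iv F35342)
def n9399 : Q := act 8 n7411
theorem D9399 : act 8 n7411 = n9399 := rfl
theorem F44170 : act 0 n9399 = n7920 := d7_1 D9399 (iv D7920) (iv F35340)
theorem F44171 : act 1 n9399 = n9399 := d15_1 D9399 (iv D9399) F35341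
theorem F44172 : act 4 n9399 = n7414 := d33_1 D9399 (iv D7414) (iv F35342)
theorem F44173 : act 5 n9399 = n9399 := d37_1 D9399 (iv D9399) F35343 F28375 (iv F35343)
theorem F44174 : act 7 n9399 = n7412 := d42_1 D9399 (iv D7412) D7411
def n9400 : Q := act 9 n7412
theorem D9400 : act 9 n7412 = n9400 := rfl
theorem F44175 : act 0 n9400 = n7921 := d8_1 D9400 (iv D7921) (iv F35344)
theorem F44176 : act 1 n9400 = n9400 := d16_1 D9400 (iv D9400) F35345
theorem F44177 : act 4 n9400 = n7415 := d34_1 D9400 (iv D7415) (iv F35346)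
theorem F44178 : act 5 n9400 = n9400 := d38_1 D9400 (iv D9400) F35347
def n9401 : Q := act 8 n7413
theorem D9401 : act 8 n7413 = n9401 := rfl
theorem F44179 : act 0 n9401 = n7922 := d7_1 D9401 (iv D7922) (iv F35348)
theorem F44180 : act 1 n9401 = n9401 := d15_1 D9401 (iv D9401) F35349
theorem F44181 : act 3 n9401 = n9401 := d28_1 D9401 (iv D9401) F35350
theorem F44182 : act 6 n9401 = n7414 := d40_1 D9401 (iv D7414) D7413
def n9402 : Q := act 9 n7414
theorem D9402 : act 9 n7414 = n9402 := rfl
theorem F44183 : act 0 n9402 = n7923 := d8_1 D9402 (iv D7923) (iv F35352)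
theorem F44184 : act 1 n9402 = n9402 := d16_1 D9402 (iv D9402) F35353
theorem F44185 : act 3 n9402 = n9402 := d29_1 D9402 (iv D9402) F35354
theorem F44186 : act 5 n9402 = n7451 := d38_1 D9402 (iv D7451) (iv F35355)
theorem F44187 : act 7 n9402 = n7415 := d43_1 D9402 (iv D7415) (iv F35356)
def n9403 : Q := act 0 n7416
theorem D9403 : act 0 n7416 = n9403 := rfl
theorem F44188 : act 1 n9403 = n7924 := d0_2 D7416 D9403 (iv D7924) (iv D6277) (iv F28384)
theorem F44192 : act 7 n9403 = n7422 := d6_2 (iv F35364) D9403 (iv D7422)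
def n9404 : Q := act 6 n7416
theorem D9404 : act 6 n7416 = n9404 := rfl
theorem F44194 : act 1 n9404 = n7417 := d13_1 D9404 (iv D7417) D7416
def n9405 : Q := act 5 n7417
theorem D9405 : act 5 n7417 = n9405 := rfl
theorem F44198 : act 0 n9405 = n7926 := d4_1 D9405 (iv D7926) (iv F35366)
theorem F44199 : act 2 n9405 = n7418 := d19_1 D9405 (iv D7418) (iv F35367)
theorem F44201 : act 6 n9405 = n7427 := d35_2 D7417 D9405 (iv D7427) (iv D5890) (iv F28386)
def n9406 : Q := act 7 n7417
theorem D9406 : act 7 n7417 = n9406 := rfl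
theorem F44205 : act 6 n9406 = n7424 := d39_1 D9406 (iv D7424) (iv D5887) (iv F28387) D7417
def n9407 : Q := act 4 n7418
theorem D9407 : act 4 n7418 = n9407 := rfl
theorem F44207 : act 0 n9407 = n7928 := d3_1 D9407 (iv D7928) (iv F35370)
theorem F44209 : act 3 n9407 = n9407 := d24_1 D9407 (iv D9407) F35372 F28396 (iv F35372)
def n9408 : Q := act 7 n7418
theorem D9408 : act 7 n7418 = n9408 := rfl
theorem F44214 : act 5 n9408 = n7419 := d36_1 D9408 (iv D7419) D7418
def n9409 : Q := act 8 n7418
theorem D9409 : act 8 n7418 = n9409 := rfl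
theorem F44216 : act 0 n9409 = n7930 := d7_1 D9409 (iv D7930) (iv F35370)
def n9411 : Q := act 9 n7421
theorem D9411 : act 9 n7421 = n9411 := rfl
theorem F44233 : act 6 n9411 = n7430 := d41_1 D9411 (iv D7430) (iv F35390)
def n9412 : Q := act 6 n7422
theorem D9412 : act 6 n7422 = n9412 := rfl
theorem F44234 : act 0 n9412 = n7423 := d5_1 D9412 (iv D7423) D7422
def n9413 : Q := act 7 n7423
theorem D9413 : act 7 n7423 = n9413 := rfl
def n9414 : Q := act 6 n7425
theorem D9414 : act 6 n7425 = n9414 := rfl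
theorem F44245 : act 0 n9414 = n7426 := d5_1 D9414 (iv D7426) D7425
theorem F44246 : act 1 n9414 = n7935 := d13_1 D9414 (iv D7935) (iv F35406)
def n9415 : Q := act 5 n7426
theorem D9415 : act 5 n7426 = n9415 := rfl
def n9416 : Q := act 4 n7427
theorem D9416 : act 4 n7427 = n9416 := rfl
theorem F44255 : act 0 n9416 = n7937 := d3_1 D9416 (iv D7937) (iv F35416)
theorem F44256 : act 2 n9416 = n7428 := d18_1 D9416 (iv D7428) (iv F35417)
theorem F44257 : act 7 n9416 = n9416 := d32_2 F35419 D9416 (iv D9416)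
def n9417 : Q := act 8 n7427
theorem D9417 : act 8 n7427 = n9417 := rfl
theorem F44258 : act 0 n9417 = n7938 := d7_1 D9417 (iv D7938) (iv F35416)
def n9420 : Q := act 5 n7431
theorem D9420 : act 5 n7431 = n9420 := rfl
theorem F44274 : act 0 n9420 = n7432 := d4_1 D9420 (iv D7432) (iv F35435)
theorem F44275 : act 1 n9420 = n7941 := d12_1 D9420 (iv D7941) (iv F35436)
def n9421 : Q := act 8 n7432
theorem D9421 : act 8 n7432 = n9421 := rfl
def n9423 : Q := act 1 n7435
theorem D9423 : act 1 n7435 = n9423 := rfl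
theorem F44296 : act 2 n9423 = n7944 := d9_2 D7435 D9423 (iv D7944) (iv D6296) (iv F28474)
def n9424 : Q := act 6 n7435
theorem D9424 : act 6 n7435 = n9424 := rfl
def n9425 : Q := act 5 n7436
theorem D9425 : act 5 n7436 = n9425 := rfl
theorem F44307 : act 0 n9425 = n7440 := d4_1 D9425 (iv D7440) (iv F35467)
theorem F44308 : act 1 n9425 = n7946 := d12_1 D9425 (iv D7946) (iv F35468)
theorem F44309 : act 3 n9425 = n7437 := d25_1 D9425 (iv D7437) (iv F35469)
def n9426 : Q := act 7 n7436
theorem D9426 : act 7 n7436 = n9426 := rfl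
theorem F44313 : act 1 n9426 = n7947 := d14_1 D9426 (iv D7947) (iv F35468)
def n9427 : Q := act 7 n7437
theorem D9427 : act 7 n7437 = n9427 := rfl
theorem F44319 : act 1 n9427 = n7948 := d14_1 D9427 (iv D7948) (iv F35473)
theorem F44322 : act 5 n9427 = n7438 := d36_1 D9427 (iv D7438) D7437
def n9428 : Q := act 8 n7437
theorem D9428 : act 8 n7437 = n9428 := rfl
theorem F44325 : act 1 n9428 = n7949 := d15_1 D9428 (iv D7949) (iv F35473)
def n9429 : Q := act 5 n7439
theorem D9429 : act 5 n7439 = n9429 := rfl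
theorem F44330 : act 2 n9429 = n7440 := d19_1 D9429 (iv D7440) (iv F35485)
def n9430 : Q := act 7 n7439
theorem D9430 : act 7 n7439 = n9430 := rfl
def n9431 : Q := act 4 n7440
theorem D9431 : act 4 n7440 = n9431 := rfl
theorem F44340 : act 1 n9431 = n7444 := d11_1 D9431 (iv D7444) (iv F35489)
def n9432 : Q := act 7 n7440
theorem D9432 : act 7 n7440 = n9432 := rfl
theorem F44346 : act 3 n9432 = n7442 := d27_1 D9432 (iv D7442) (iv F35490)
theorem F44347 : act 5 n9432 = n7441 := d36_1 D9432 (iv D7441) D7440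
def n9433 : Q := act 8 n7440
theorem D9433 : act 8 n7440 = n9433 := rfl
def n9434 : Q := act 6 n7442
theorem D9434 : act 6 n7442 = n9434 := rfl
def n9435 : Q := act 8 n7442
theorem D9435 : act 8 n7442 = n9435 := rfl
theorem F44361 : act 7 n9435 = n7443 := d42_1 D9435 (iv D7443) D7442
def n9436 : Q := act 9 n7443
theorem D9436 : act 9 n7443 = n9436 := rfl
theorem F44362 : act 1 n9436 = n7449 := d16_1 D9436 (iv D7449) (iv F35503)
def n9437 : Q := act 7 n7444
theorem D9437 : act 7 n7444 = n9437 := rfl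
theorem F44367 : act 0 n9437 = n7958 := d6_1 D9437 (iv D7958) (iv F35507)
theorem F44370 : act 4 n9437 = n7445 := d32_1 D9437 (iv D7445) D7444
def n9438 : Q := act 8 n7444
theorem D9438 : act 8 n7444 = n9438 := rfl
theorem F44373 : act 0 n9438 = n7959 := d7_1 D9438 (iv D7959) (iv F35507)
theorem F44376 : act 4 n9438 = n7446 := d33_1 D9438 (iv D7446) D7444
def n9439 : Q := act 6 n7445
theorem D9439 : act 6 n7445 = n9439 := rfl
theorem F44380 : act 3 n9439 = n7447 := d26_1 D9439 (iv D7447) (iv F35515)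
def n9440 : Q := act 8 n7445
theorem D9440 : act 8 n7445 = n9440 := rfl
def n9441 : Q := act 9 n7446
theorem D9441 : act 9 n7446 = n9441 := rfl
theorem F44388 : act 0 n9441 = n7962 := d8_1 D9441 (iv D7962) (iv F35518)
def n9442 : Q := act 8 n7447
theorem D9442 : act 8 n7447 = n9442 := rfl
theorem F44394 : act 2 n9442 = n7450 := d22_1 D9442 (iv D7450) (iv F35523)
theorem F44396 : act 6 n9442 = n7448 := d40_1 D9442 (iv D7448) D7447
def n9443 : Q := act 9 n7448
theorem D9443 : act 9 n7448 = n9443 := rfl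
theorem F44401 : act 7 n9443 = n7449 := d43_1 D9443 (iv D7449) (iv F35531)
def n9444 : Q := act 5 n7450
theorem D9444 : act 5 n7450 = n9444 := rfl
theorem F44403 : act 0 n9444 = n7965 := d4_1 D9444 (iv D7965) (iv F35537)
theorem F44406 : act 7 n9444 = n9444 := d36_2 F35542 D9444 (iv D9444)
theorem F44407 : act 8 n9444 = n9444 := d37_2 D7450 D9444 (iv D9444) (iv D7450) F28535
def n9445 : Q := act 9 n7450
theorem D9445 : act 9 n7450 = n9445 := rfl
theorem F44412 : act 6 n9445 = n7451 := d41_1 D9445 (iv D7451) (iv F35541)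
def n9446 : Q := act 5 n7452
theorem D9446 : act 5 n7452 = n9446 := rfl
theorem F44415 : act 1 n9446 = n7454 := d12_1 D9446 (iv D7454) (iv F35549)
theorem F44416 : act 2 n9446 = n9446 := d19_1 D9446 (iv D9446) F35550
theorem F44417 : act 3 n9446 = n9446 := d25_1 D9446 (iv D9446) F35551
theorem F44418 : act 7 n9446 = n9446 := d36_2 F35553 D9446 (iv D9446)
theorem F44419 : act 8 n9446 = n9446 := d37_2 D7452 D9446 (iv D9446) (iv D7452) F28553
theorem F44420 : act 9 n9446 = n9446 := d38_2 F35554 D9446 (iv D9446)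
def n9447 : Q := act 5 n7453
theorem D9447 : act 5 n7453 = n9447 := rfl
theorem F44421 : act 0 n9447 = n7782 := d4_1 D9447 (iv D7782) (iv F35555)
theorem F44422 : act 2 n9447 = n7455 := d19_1 D9447 (iv D7455) (iv F35556)
theorem F44423 : act 3 n9447 = n9447 := d25_1 D9447 (iv D9447) F35557
theorem F44424 : act 7 n9447 = n7774 := d36_2 (iv F35560) D9447 (iv D7774)
theorem F44425 : act 8 n9447 = n7775 := d37_2 D7453 D9447 (iv D7775) (iv D6170) (iv F28559)
theorem F44426 : act 9 n9447 = n9447 := d38_2 F35561 D9447 (iv D9447)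
def n9448 : Q := act 4 n7454
theorem D9448 : act 4 n7454 = n9448 := rfl
theorem F44427 : act 2 n9448 = n7456 := d18_1 D9448 (iv D7456) (iv F35562)
theorem F44428 : act 5 n9448 = n7473 := d30_2 D7454 D9448 (iv D7473) (iv D5931) (iv F28564)
theorem F44429 : act 7 n9448 = n9448 := d32_2 F35564 D9448 (iv D9448)
theorem F44430 : act 8 n9448 = n9448 := d33_2 F35565 D9448 (iv D9448)
theorem F44431 : act 9 n9448 = n9448 := d34_2 F35566 D9448 (iv D9448)
def n9449 : Q := act 6 n7454
theorem D9449 : act 6 n7454 = n9449 := rfl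
theorem F44432 : act 2 n9449 = n7457 := d20_1 D9449 (iv D7457) (iv F35562)
theorem F44433 : act 3 n9449 = n9449 := d26_1 D9449 (iv D9449) F35563
theorem F44434 : act 8 n9449 = n9449 := d40_2 F35565 D9449 (iv D9449)
theorem F44435 : act 9 n9449 = n9449 := d41_2 F35566 D9449 (iv D9449)
def n9450 : Q := act 4 n7455
theorem D9450 : act 4 n7455 = n9450 := rfl
theorem F44436 : act 0 n9450 = n8300 := d3_1 D9450 (iv D8300) (iv F35567)
theorem F44437 : act 1 n9450 = n9450 := d11_1 D9450 (iv D9450) F35568
theorem F44438 : act 5 n9450 = n7479 := d30_2 D7455 D9450 (iv D7479) (iv D5936) (iv F28570)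
theorem F44439 : act 7 n9450 = n8287 := d32_2 (iv F35570) D9450 (iv D8287)
theorem F44440 : act 8 n9450 = n8289 := d33_2 (iv F35571) D9450 (iv D8289)
theorem F44441 : act 9 n9450 = n9450 := d34_2 F35572 D9450 (iv D9450)
def n9451 : Q := act 6 n7455
theorem D9451 : act 6 n7455 = n9451 := rfl
theorem F44444 : act 3 n9451 = n7459 := d26_1 D9451 (iv D7459) (iv F35569)
theorem F44445 : act 5 n9451 = n7457 := d35_1 D9451 (iv D7457) (iv D5917) (iv F28571) D7455
def n9452 : Q := act 6 n7456
theorem D9452 : act 6 n7456 = n9452 := rfl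
theorem F44448 : act 1 n9452 = n9452 := d13_1 D9452 (iv D9452) F35573
theorem F44449 : act 3 n9452 = n9452 := d26_1 D9452 (iv D9452) F35574
theorem F44450 : act 4 n9452 = n7457 := d31_1 D9452 (iv D7457) D7456
theorem F44451 : act 8 n9452 = n9452 := d40_2 F35577 D9452 (iv D9452)
theorem F44452 : act 9 n9452 = n9452 := d41_2 F35578 D9452 (iv D9452)
def n9453 : Q := act 7 n7457
theorem D9453 : act 7 n7457 = n9453 := rfl
def n9454 : Q := act 3 n7458
theorem D9454 : act 3 n7458 = n9454 := rfl
theorem F44458 : act 0 n9454 = n8565 := d2_1 D9454 (iv D8565) (iv F35583)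
theorem F44460 : act 5 n9454 = n7463 := d25_2 (iv F35586) D9454 (iv D7463)
theorem F44461 : act 7 n9454 = n8547 := d27_2 (iv F35587) D9454 (iv D8547)
theorem F44462 : act 8 n9454 = n8550 := d28_2 (iv F35588) D9454 (iv D8550)
def n9456 : Q := act 7 n7459
theorem D9456 : act 7 n7459 = n9456 := rfl
theorem F44471 : act 0 n9456 = n8567 := d6_1 D9456 (iv D8567) (iv F35590)
theorem F44474 : act 5 n9456 = n7460 := d36_1 D9456 (iv D7460) (iv F35593)
def n9457 : Q := act 3 n7461
theorem D9457 : act 3 n7461 = n9457 := rfl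
theorem F44480 : act 4 n9457 = n7491 := d24_2 D7461 D9457 (iv D7491) (iv D5945) (iv F28593)
theorem F44481 : act 5 n9457 = n8547 := d25_2 (iv F35605) D9457 (iv D8547)
theorem F44482 : act 7 n9457 = n7463 := d27_2 (iv F35606) D9457 (iv D7463)
def n9459 : Q := act 2 n7463
theorem D9459 : act 2 n7463 = n9459 := rfl
theorem F44492 : act 3 n9459 = n9459 := d17_2 D7463 D9459 (iv D9459) (iv D7463) F28598
theorem F44493 : act 4 n9459 = n7493 := d18_2 (iv F35618) D9459 (iv D7493)
theorem F44494 : act 6 n9459 = n9459 := d20_2 F35619 D9459 (iv D9459)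
theorem F44495 : act 8 n9459 = n9459 := d22_2 F35620 D9459 (iv D9459)
theorem F44496 : act 9 n9459 = n9459 := d23_2 F35621 D9459 (iv D9459)
def n9460 : Q := act 5 n7464
theorem D9460 : act 5 n7464 = n9460 := rfl
theorem F44497 : act 0 n9460 = n7467 := d4_1 D9460 (iv D7467) (iv F35622)
theorem F44498 : act 2 n9460 = n9460 := d19_1 D9460 (iv D9460) F35623
theorem F44499 : act 3 n9460 = n7551 := d25_1 D9460 (iv D7551) (iv F35624)
theorem F44500 : act 7 n9460 = n9460 := d36_2 F35625 D9460 (iv D9460)
theorem F44501 : act 8 n9460 = n7496 := d37_2 D7464 D9460 (iv D7496) (iv D5950) (iv F28605)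
theorem F44502 : act 9 n9460 = n9460 := d38_2 F35626 D9460 (iv D9460)
def n9461 : Q := act 8 n7465
theorem D9461 : act 8 n7465 = n9461 := rfl
theorem F44503 : act 1 n9461 = n7470 := d15_1 D9461 (iv D7470) (iv F35627)
theorem F44504 : act 2 n9461 = n9461 := d22_1 D9461 (iv D9461) F35628
theorem F44505 : act 3 n9461 = n7555 := d28_1 D9461 (iv D7555) (iv F35629)
theorem F44506 : act 6 n9461 = n7498 := d40_1 D9461 (iv D7498) (iv F35631)
def n9462 : Q := act 5 n7466
theorem D9462 : act 5 n7466 = n9462 := rfl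
theorem F44507 : act 1 n9462 = n7472 := d12_1 D9462 (iv D7472) (iv F35632)
theorem F44508 : act 2 n9462 = n9462 := d19_1 D9462 (iv D9462) F35633
theorem F44509 : act 3 n9462 = n7557 := d25_1 D9462 (iv D7557) (iv F35634)
theorem F44510 : act 9 n9462 = n9462 := d38_2 F35636 D9462 (iv D9462)
def n9463 : Q := act 4 n7467
theorem D9463 : act 4 n7467 = n9463 := rfl
theorem F44511 : act 1 n9463 = n7473 := d11_1 D9463 (iv D7473) (iv F35637)
theorem F44512 : act 2 n9463 = n9463 := d18_1 D9463 (iv D9463) F35638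
theorem F44513 : act 7 n9463 = n9463 := d32_2 F35640 D9463 (iv D9463)
theorem F44514 : act 8 n9463 = n7500 := d33_2 (iv F35641) D9463 (iv D7500)
theorem F44515 : act 9 n9463 = n9463 := d34_2 F35642 D9463 (iv D9463)
def n9464 : Q := act 6 n7467
theorem D9464 : act 6 n7467 = n9464 := rfl
theorem F44516 : act 1 n9464 = n7474 := d13_1 D9464 (iv D7474) (iv F35637)
theorem F44517 : act 2 n9464 = n9464 := d20_1 D9464 (iv D9464) F35638
theorem F44518 : act 3 n9464 = n7559 := d26_1 D9464 (iv D7559) (iv F35639)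
theorem F44519 : act 8 n9464 = n7501 := d40_2 (iv F35641) D9464 (iv D7501)
theorem F44520 : act 9 n9464 = n9464 := d41_2 F35642 D9464 (iv D9464)
def n9465 : Q := act 8 n7468
theorem D9465 : act 8 n7468 = n9465 := rfl
theorem F44521 : act 0 n9465 = n7614 := d7_1 D9465 (iv D7614) (iv F35643)
theorem F44522 : act 2 n9465 = n7475 := d22_1 D9465 (iv D7475) (iv F35644)
theorem F44523 : act 4 n9465 = n7470 := d33_1 D9465 (iv D7470) (iv F35645)
theorem F44524 : act 6 n9465 = n7503 := d40_1 D9465 (iv D7503) (iv F35647)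
theorem F44525 : act 7 n9465 = n7608 := d42_1 D9465 (iv D7608) (iv F35648)
def n9466 : Q := act 8 n7469
theorem D9466 : act 8 n7469 = n9466 := rfl
theorem F44526 : act 0 n9466 = n7613 := d7_1 D9466 (iv D7613) (iv F35649)
theorem F44527 : act 2 n9466 = n7476 := d22_1 D9466 (iv D7476) (iv F35650)
theorem F44528 : act 3 n9466 = n7563 := d28_1 D9466 (iv D7563) (iv F35651)
theorem F44529 : act 4 n9466 = n7608 := d33_1 D9466 (iv D7608) (iv F35652)
theorem F44530 : act 7 n9466 = n7470 := d42_1 D9466 (iv D7470) (iv F35654)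
def n9467 : Q := act 5 n7470
theorem D9467 : act 5 n7470 = n9467 := rfl
theorem F44531 : act 2 n9467 = n7477 := d19_1 D9467 (iv D7477) (iv F35655)
theorem F44532 : act 3 n9467 = n7565 := d25_1 D9467 (iv D7565) (iv F35656)
theorem F44533 : act 8 n9467 = n7472 := d37_2 D7470 D9467 (iv D7472) (iv D5930) (iv F28632)
def n9468 : Q := act 5 n7471
theorem D9468 : act 5 n7471 = n9468 := rfl
theorem F44534 : act 0 n9468 = n7781 := d4_1 D9468 (iv D7781) (iv F35658)
theorem F44535 : act 2 n9468 = n7478 := d19_1 D9468 (iv D7478) (iv F35659)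
theorem F44536 : act 3 n9468 = n7566 := d25_1 D9468 (iv D7566) (iv F35660)
theorem F44537 : act 7 n9468 = n7472 := d36_2 (iv F35663) D9468 (iv D7472)
theorem F44538 : act 9 n9468 = n9468 := d38_2 F35664 D9468 (iv D9468)
def n9469 : Q := act 4 n7472
theorem D9469 : act 4 n7472 = n9469 := rfl
theorem F44539 : act 2 n9469 = n7479 := d18_1 D9469 (iv D7479) (iv F35665)
theorem F44540 : act 9 n9469 = n9469 := d34_2 F35667 D9469 (iv D9469)
def n9470 : Q := act 6 n7472
theorem D9470 : act 6 n7472 = n9470 := rfl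
theorem F44541 : act 2 n9470 = n7480 := d20_1 D9470 (iv D7480) (iv F35665)
theorem F44542 : act 3 n9470 = n7568 := d26_1 D9470 (iv D7568) (iv F35666)
theorem F44543 : act 5 n9470 = n7474 := d35_1 D9470 (iv D7474) (iv D5931) (iv F28642) D7472
theorem F44544 : act 9 n9470 = n9470 := d41_2 F35667 D9470 (iv D9470)
def n9471 : Q := act 3 n7473
theorem D9471 : act 3 n7473 = n9471 := rfl
theorem F44545 : act 2 n9471 = n9471 := d17_1 D9471 (iv D9471) F35668 F28676 (iv F35668)
theorem F44546 : act 4 n9471 = n7569 := d24_2 D7473 D9471 (iv D7569) (iv D6011) (iv F28645)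
theorem F44547 : act 7 n9471 = n9471 := d27_2 F35669 D9471 (iv D9471)
theorem F44548 : act 8 n9471 = n7507 := d28_2 (iv F35670) D9471 (iv D7507)
theorem F44549 : act 9 n9471 = n9471 := d29_2 F35671 D9471 (iv D9471)
def n9472 : Q := act 6 n7473
theorem D9472 : act 6 n7473 = n9472 := rfl
theorem F44550 : act 2 n9472 = n7481 := d20_1 D9472 (iv D7481) (iv F35668)
theorem F44551 : act 4 n9472 = n7474 := d31_1 D9472 (iv D7474) D7473
theorem F44552 : act 8 n9472 = n7508 := d40_2 (iv F35670) D9472 (iv D7508)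
theorem F44553 : act 9 n9472 = n9472 := d41_2 F35671 D9472 (iv D9472)
def n9473 : Q := act 7 n7474
theorem D9473 : act 7 n7474 = n9473 := rfl
theorem F44554 : act 2 n9473 = n7482 := d21_1 D9473 (iv D7482) (iv F35672)
theorem F44555 : act 3 n9473 = n7571 := d27_1 D9473 (iv D7571) (iv F35673)
theorem F44556 : act 6 n9473 = n9473 := d39_1 D9473 (iv D9473) (iv D7474) F28646 D7474
theorem F44557 : act 8 n9473 = n7509 := d42_2 (iv F35674) D9473 (iv D7509)
theorem F44558 : act 9 n9473 = n9473 := d43_2 F35675 D9473 (iv D9473)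
def n9474 : Q := act 5 n7475
theorem D9474 : act 5 n7475 = n9474 := rfl
theorem F44559 : act 0 n9474 = n8047 := d4_1 D9474 (iv D8047) (iv F35676)
theorem F44560 : act 1 n9474 = n9474 := d12_1 D9474 (iv D9474) F35677
theorem F44561 : act 3 n9474 = n9474 := d25_1 D9474 (iv D9474) F35678
theorem F44562 : act 7 n9474 = n8039 := d36_2 (iv F35681) D9474 (iv D8039)
theorem F44563 : act 8 n9474 = n8040 := d37_2 D7475 D9474 (iv D8040) (iv D6367) (iv F28653)
def n9475 : Q := act 5 n7476
theorem D9475 : act 5 n7476 = n9475 := rfl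
theorem F44564 : act 0 n9475 = n8046 := d4_1 D9475 (iv D8046) (iv F35682)
theorem F44565 : act 1 n9475 = n9475 := d12_1 D9475 (iv D9475) F35683
theorem F44566 : act 3 n9475 = n7483 := d25_1 D9475 (iv D7483) (iv F35684)
theorem F44567 : act 7 n9475 = n7477 := d36_2 (iv F35686) D9475 (iv D7477)
theorem F44568 : act 8 n9475 = n7478 := d37_2 D7476 D9475 (iv D7478) (iv D5935) (iv F28660)
def n9476 : Q := act 4 n7477
theorem D9476 : act 4 n7477 = n9476 := rfl
theorem F44569 : act 1 n9476 = n9476 := d11_1 D9476 (iv D9476) F35687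
theorem F44570 : act 8 n9476 = n7479 := d33_2 (iv F35689) D9476 (iv D7479)
def n9477 : Q := act 6 n7477
theorem D9477 : act 6 n7477 = n9477 := rfl
theorem F44571 : act 1 n9477 = n9477 := d13_1 D9477 (iv D9477) F35687
theorem F44572 : act 3 n9477 = n7485 := d26_1 D9477 (iv D7485) (iv F35688)
theorem F44573 : act 5 n9477 = n7512 := d35_1 D9477 (iv D7512) (iv D5962) (iv F28664) D7477
theorem F44574 : act 8 n9477 = n7480 := d40_2 (iv F35689) D9477 (iv D7480)
def n9478 : Q := act 4 n7478
theorem D9478 : act 4 n7478 = n9478 := rfl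
theorem F44575 : act 0 n9478 = n8298 := d3_1 D9478 (iv D8298) (iv F35690)
theorem F44576 : act 1 n9478 = n9478 := d11_1 D9478 (iv D9478) F35691
theorem F44577 : act 5 n9478 = n8287 := d30_2 D7478 D9478 (iv D8287) (iv D6554) (iv F28668)
theorem F44578 : act 7 n9478 = n7479 := d32_2 (iv F35693) D9478 (iv D7479)
theorem F44579 : act 9 n9478 = n9478 := d34_2 F35694 D9478 (iv D9478)
def n9479 : Q := act 6 n7478
theorem D9479 : act 6 n7478 = n9479 := rfl
theorem F44580 : act 0 n9479 = n8299 := d5_1 D9479 (iv D8299) (iv F35690)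
theorem F44581 : act 1 n9479 = n9479 := d13_1 D9479 (iv D9479) F35691
theorem F44582 : act 3 n9479 = n7487 := d26_1 D9479 (iv D7487) (iv F35692)
theorem F44583 : act 5 n9479 = n9479 := d35_1 D9479 (iv D9479) (iv D7478) F28669 D7478
theorem F44584 : act 9 n9479 = n9479 := d41_2 F35694 D9479 (iv D9479)
def n9480 : Q := act 3 n7479
theorem D9480 : act 3 n7479 = n9480 := rfl
theorem F44585 : act 1 n9480 = n9480 := d10_1 D9480 (iv D9480) F35695
theorem F44586 : act 4 n9480 = n7488 := d24_2 D7479 D9480 (iv D7488) (iv D5942) (iv F28673)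
theorem F44587 : act 9 n9480 = n9480 := d29_2 F35696 D9480 (iv D9480)
def n9481 : Q := act 6 n7479
theorem D9481 : act 6 n7479 = n9481 := rfl
theorem F44588 : act 1 n9481 = n9481 := d13_1 D9481 (iv D9481) F35695
theorem F44589 : act 4 n9481 = n7480 := d31_1 D9481 (iv D7480) D7479
theorem F44590 : act 9 n9481 = n9481 := d41_2 F35696 D9481 (iv D9481)
def n9482 : Q := act 7 n7480
theorem D9482 : act 7 n7480 = n9482 := rfl
theorem F44591 : act 1 n9482 = n9482 := d14_1 D9482 (iv D9482) F35697
theorem F44592 : act 3 n9482 = n7490 := d27_1 D9482 (iv D7490) (iv F35698)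
theorem F44593 : act 5 n9482 = n7482 := d36_1 D9482 (iv D7482) (iv F35699)
theorem F44594 : act 9 n9482 = n9482 := d43_2 F35700 D9482 (iv D9482)
def n9483 : Q := act 5 n7481
theorem D9483 : act 5 n7481 = n9483 := rfl
theorem F44595 : act 1 n9483 = n9483 := d12_1 D9483 (iv D9483) F35701
theorem F44596 : act 3 n9483 = n9483 := d25_1 D9483 (iv D9483) F35702
theorem F44597 : act 9 n9483 = n9483 := d38_2 F35705 D9483 (iv D9483)
def n9484 : Q := act 7 n7481
theorem D9484 : act 7 n7481 = n9484 := rfl
theorem F44598 : act 1 n9484 = n9484 := d14_1 D9484 (iv D9484) F35701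
theorem F44599 : act 3 n9484 = n9484 := d27_1 D9484 (iv D9484) F35702
theorem F44600 : act 4 n9484 = n7482 := d32_1 D9484 (iv D7482) (iv F35703)
theorem F44601 : act 6 n9484 = n9484 := d39_1 D9484 (iv D9484) (iv D7481) F28677 D7481
theorem F44602 : act 8 n9484 = n7517 := d42_2 (iv F35704) D9484 (iv D7517)
theorem F44603 : act 9 n9484 = n9484 := d43_2 F35705 D9484 (iv D9484)
def n9485 : Q := act 4 n7483
theorem D9485 : act 4 n7483 = n9485 := rfl
theorem F44604 : act 1 n9485 = n9485 := d11_1 D9485 (iv D9485) F35711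
theorem F44605 : act 2 n9485 = n7590 := d18_1 D9485 (iv D7590) (iv F35712)
theorem F44606 : act 5 n9485 = n9485 := d30_2 D7483 D9485 (iv D9485) (iv D7483) F28686
theorem F44607 : act 7 n9485 = n7484 := d32_2 (iv F35713) D9485 (iv D7484)
theorem F44608 : act 8 n9485 = n7486 := d33_2 (iv F35714) D9485 (iv D7486)
def n9486 : Q := act 6 n7483
theorem D9486 : act 6 n7483 = n9486 := rfl
theorem F44609 : act 1 n9486 = n9486 := d13_1 D9486 (iv D9486) F35711
theorem F44610 : act 2 n9486 = n7591 := d20_1 D9486 (iv D7591) (iv F35712)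
theorem F44611 : act 8 n9486 = n7487 := d40_2 (iv F35714) D9486 (iv D7487)
def n9487 : Q := act 3 n7484
theorem D9487 : act 3 n7484 = n9487 := rfl
theorem F44612 : act 1 n9487 = n9487 := d10_1 D9487 (iv D9487) F35715
theorem F44613 : act 5 n9487 = n9487 := d25_2 F35717 D9487 (iv D9487)
theorem F44614 : act 8 n9487 = n7488 := d28_2 (iv F35718) D9487 (iv D7488)
def n9488 : Q := act 6 n7484
theorem D9488 : act 6 n7484 = n9488 := rfl
theorem F44615 : act 1 n9488 = n9488 := d13_1 D9488 (iv D9488) F35715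
theorem F44616 : act 2 n9488 = n7595 := d20_1 D9488 (iv D7595) (iv F35716)
theorem F44617 : act 4 n9488 = n7485 := d31_1 D9488 (iv D7485) D7484
theorem F44618 : act 8 n9488 = n7489 := d40_2 (iv F35718) D9488 (iv D7489)
def n9489 : Q := act 7 n7485
theorem D9489 : act 7 n7485 = n9489 := rfl
theorem F44619 : act 1 n9489 = n9489 := d14_1 D9489 (iv D9489) F35719
theorem F44620 : act 2 n9489 = n7596 := d21_1 D9489 (iv D7596) (iv F35720)
theorem F44621 : act 5 n9489 = n7520 := d36_1 D9489 (iv D7520) (iv F35721)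
theorem F44622 : act 8 n9489 = n7490 := d42_2 (iv F35722) D9489 (iv D7490)
def n9490 : Q := act 3 n7486
theorem D9490 : act 3 n7486 = n9490 := rfl
theorem F44623 : act 1 n9490 = n9490 := d10_1 D9490 (iv D9490) F35723
theorem F44624 : act 5 n9490 = n7491 := d25_2 (iv F35725) D9490 (iv D7491)
theorem F44625 : act 7 n9490 = n7488 := d27_2 (iv F35726) D9490 (iv D7488)
theorem F44626 : act 9 n9490 = n9490 := d29_2 F35727 D9490 (iv D9490)
def n9491 : Q := act 6 n7486
theorem D9491 : act 6 n7486 = n9491 := rfl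
theorem F44627 : act 1 n9491 = n9491 := d13_1 D9491 (iv D9491) F35723
theorem F44628 : act 2 n9491 = n7598 := d20_1 D9491 (iv D7598) (iv F35724)
theorem F44629 : act 4 n9491 = n7487 := d31_1 D9491 (iv D7487) D7486
theorem F44630 : act 9 n9491 = n9491 := d41_2 F35727 D9491 (iv D9491)
def n9492 : Q := act 7 n7487
theorem D9492 : act 7 n7487 = n9492 := rfl
theorem F44631 : act 1 n9492 = n9492 := d14_1 D9492 (iv D9492) F35728
theorem F44632 : act 2 n9492 = n7599 := d21_1 D9492 (iv D7599) (iv F35729)
theorem F44633 : act 5 n9492 = n9492 := d36_1 D9492 (iv D9492) F35730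
theorem F44634 : act 6 n9492 = n7490 := d39_1 D9492 (iv D7490) (iv D5943) (iv F28693) D7487
theorem F44635 : act 9 n9492 = n9492 := d43_2 F35731 D9492 (iv D9492)
def n9493 : Q := act 2 n7488
theorem D9493 : act 2 n7488 = n9493 := rfl
theorem F44636 : act 3 n9493 = n7600 := d17_2 D7488 D9493 (iv D7600) (iv D6034) (iv F28696)
theorem F44637 : act 5 n9493 = n7493 := d19_2 (iv F35733) D9493 (iv D7493)
theorem F44638 : act 9 n9493 = n9493 := d23_2 F35734 D9493 (iv D9493)
def n9494 : Q := act 6 n7488
theorem D9494 : act 6 n7488 = n9494 := rfl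
theorem F44639 : act 1 n9494 = n9494 := d13_1 D9494 (iv D9494) F35732
theorem F44640 : act 3 n9494 = n7489 := d26_1 D9494 (iv D7489) D7488
theorem F44641 : act 5 n9494 = n9494 := d35_1 D9494 (iv D9494) F35733 F28721 (iv F35733)
theorem F44642 : act 9 n9494 = n9494 := d41_2 F35734 D9494 (iv D9494)
def n9495 : Q := act 7 n7489
theorem D9495 : act 7 n7489 = n9495 := rfl
theorem F44643 : act 1 n9495 = n9495 := d14_1 D9495 (iv D9495) F35735
theorem F44644 : act 2 n9495 = n7602 := d21_1 D9495 (iv D7602) (iv F35736)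
theorem F44645 : act 4 n9495 = n7490 := d32_1 D9495 (iv D7490) (iv F35737)
theorem F44646 : act 5 n9495 = n9495 := d36_1 D9495 (iv D9495) F35738
theorem F44647 : act 9 n9495 = n9495 := d43_2 F35739 D9495 (iv D9495)
def n9496 : Q := act 2 n7491
theorem D9496 : act 2 n7491 = n9496 := rfl
theorem F44648 : act 3 n9496 = n7603 := d17_2 D7491 D9496 (iv D7603) (iv D6037) (iv F28710)
theorem F44649 : act 7 n9496 = n7493 := d21_2 (iv F35745) D9496 (iv D7493)
theorem F44650 : act 8 n9496 = n9496 := d22_2 F35746 D9496 (iv D9496)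
theorem F44651 : act 9 n9496 = n9496 := d23_2 F35747 D9496 (iv D9496)
def n9497 : Q := act 6 n7491
theorem D9497 : act 6 n7491 = n9497 := rfl
theorem F44653 : act 3 n9497 = n7492 := d26_1 D9497 (iv D7492) D7491
def n9498 : Q := act 5 n7492
theorem D9498 : act 5 n7492 = n9498 := rfl
theorem F44657 : act 1 n9498 = n9498 := d12_1 D9498 (iv D9498) F35748
theorem F44658 : act 2 n9498 = n7605 := d19_1 D9498 (iv D7605) (iv F35749)
theorem F44659 : act 4 n9498 = n9498 := d30_1 D9498 (iv D9498) F35750 F28716 (iv F35750)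
theorem F44660 : act 7 n9498 = n9498 := d36_2 F35751 D9498 (iv D9498)
theorem F44661 : act 9 n9498 = n9498 := d38_2 F35753 D9498 (iv D9498)
def n9499 : Q := act 1 n7493
theorem D9499 : act 1 n7493 = n9499 := rfl
theorem F44662 : act 2 n9499 = n9499 := d9_2 D7493 D9499 (iv D9499) (iv D7493) F28720
theorem F44663 : act 3 n9499 = n7606 := d10_2 (iv F35754) D9499 (iv D7606)
theorem F44664 : act 6 n9499 = n9499 := d13_2 F35755 D9499 (iv D9499)
theorem F44665 : act 8 n9499 = n9499 := d15_2 F35756 D9499 (iv D9499)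
theorem F44666 : act 9 n9499 = n9499 := d16_2 F35757 D9499 (iv D9499)
def n9500 : Q := act 8 n7494
theorem D9500 : act 8 n7494 = n9500 := rfl
theorem F44667 : act 0 n9500 = n7498 := d7_1 D9500 (iv D7498) (iv F35758)
theorem F44668 : act 2 n9500 = n9500 := d22_1 D9500 (iv D9500) F35759
theorem F44669 : act 3 n9500 = n7608 := d28_1 D9500 (iv D7608) (iv F35760)
def n9501 : Q := act 5 n7495
theorem D9501 : act 5 n7495 = n9501 := rfl
theorem F44670 : act 0 n9501 = n7499 := d4_1 D9501 (iv D7499) (iv F35762)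
theorem F44671 : act 2 n9501 = n9501 := d19_1 D9501 (iv D9501) F35763
theorem F44672 : act 3 n9501 = n7610 := d25_1 D9501 (iv D7610) (iv F35764)
theorem F44673 : act 9 n9501 = n7525 := d38_2 (iv F35767) D9501 (iv D7525)
def n9502 : Q := act 4 n7496
theorem D9502 : act 4 n7496 = n9502 := rfl
theorem F44674 : act 0 n9502 = n7500 := d3_1 D9502 (iv D7500) (iv F35768)
theorem F44675 : act 2 n9502 = n9502 := d18_1 D9502 (iv D9502) F35769
theorem F44676 : act 5 n9502 = n9502 := d30_2 D7496 D9502 (iv D9502) (iv D7496) F28735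
theorem F44677 : act 7 n9502 = n9502 := d32_2 F35771 D9502 (iv D9502)
theorem F44678 : act 9 n9502 = n7526 := d34_2 (iv F35772) D9502 (iv D7526)
def n9503 : Q := act 6 n7496
theorem D9503 : act 6 n7496 = n9503 := rfl
theorem F44679 : act 0 n9503 = n7501 := d5_1 D9503 (iv D7501) (iv F35768)
theorem F44680 : act 2 n9503 = n9503 := d20_1 D9503 (iv D9503) F35769
theorem F44681 : act 3 n9503 = n7612 := d26_1 D9503 (iv D7612) (iv F35770)
theorem F44682 : act 9 n9503 = n7527 := d41_2 (iv F35772) D9503 (iv D7527)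
def n9504 : Q := act 8 n7497
theorem D9504 : act 8 n7497 = n9504 := rfl
theorem F44683 : act 1 n9504 = n7503 := d15_1 D9504 (iv D7503) (iv F35773)
theorem F44684 : act 2 n9504 = n9504 := d22_1 D9504 (iv D9504) F35774
theorem F44685 : act 4 n9504 = n7498 := d33_1 D9504 (iv D7498) (iv F35775)
def n9505 : Q := act 5 n7498
theorem D9505 : act 5 n7498 = n9505 := rfl
theorem F44686 : act 1 n9505 = n7504 := d12_1 D9505 (iv D7504) (iv F35777)
theorem F44687 : act 2 n9505 = n9505 := d19_1 D9505 (iv D9505) F35778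
theorem F44688 : act 3 n9505 = n7616 := d25_1 D9505 (iv D7616) (iv F35779)
theorem F44689 : act 8 n9505 = n7499 := d37_2 D7498 D9505 (iv D7499) (iv D5953) (iv F28744)
def n9506 : Q := act 4 n7499
theorem D9506 : act 4 n7499 = n9506 := rfl
theorem F44690 : act 1 n9506 = n7505 := d11_1 D9506 (iv D7505) (iv F35780)
theorem F44691 : act 2 n9506 = n9506 := d18_1 D9506 (iv D9506) F35781
theorem F44692 : act 5 n9506 = n9506 := d30_2 D7499 D9506 (iv D9506) (iv D7499) F28748
theorem F44693 : act 9 n9506 = n7528 := d34_2 (iv F35783) D9506 (iv D7528)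
def n9507 : Q := act 6 n7499
theorem D9507 : act 6 n7499 = n9507 := rfl
theorem F44694 : act 1 n9507 = n7506 := d13_1 D9507 (iv D7506) (iv F35780)
theorem F44695 : act 2 n9507 = n9507 := d20_1 D9507 (iv D9507) F35781
theorem F44696 : act 3 n9507 = n7619 := d26_1 D9507 (iv D7619) (iv F35782)
theorem F44697 : act 5 n9507 = n7501 := d35_1 D9507 (iv D7501) (iv D5954) (iv F28749) D7499
theorem F44698 : act 9 n9507 = n7529 := d41_2 (iv F35783) D9507 (iv D7529)
def n9508 : Q := act 3 n7500
theorem D9508 : act 3 n7500 = n9508 := rfl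
theorem F44699 : act 1 n9508 = n7507 := d10_1 D9508 (iv D7507) (iv F35784)
theorem F44700 : act 4 n9508 = n7620 := d24_2 D7500 D9508 (iv D7620) (iv D6051) (iv F28753)
theorem F44701 : act 5 n9508 = n9508 := d25_2 F35786 D9508 (iv D9508)
theorem F44702 : act 7 n9508 = n9508 := d27_2 F35787 D9508 (iv D9508)
theorem F44703 : act 9 n9508 = n7530 := d29_2 (iv F35788) D9508 (iv D7530)
def n9509 : Q := act 6 n7500
theorem D9509 : act 6 n7500 = n9509 := rfl
theorem F44704 : act 1 n9509 = n7508 := d13_1 D9509 (iv D7508) (iv F35784)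
theorem F44705 : act 2 n9509 = n9509 := d20_1 D9509 (iv D9509) F35785
theorem F44706 : act 4 n9509 = n7501 := d31_1 D9509 (iv D7501) D7500
theorem F44707 : act 9 n9509 = n7531 := d41_2 (iv F35788) D9509 (iv D7531)
def n9510 : Q := act 7 n7501
theorem D9510 : act 7 n7501 = n9510 := rfl
theorem F44708 : act 1 n9510 = n7509 := d14_1 D9510 (iv D7509) (iv F35789)
theorem F44709 : act 2 n9510 = n9510 := d21_1 D9510 (iv D9510) F35790
theorem F44710 : act 3 n9510 = n7622 := d27_1 D9510 (iv D7622) (iv F35791)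
theorem F44711 : act 6 n9510 = n9510 := d39_1 D9510 (iv D9510) (iv D7501) F28754 D7501
theorem F44712 : act 9 n9510 = n7532 := d43_2 (iv F35792) D9510 (iv D7532)
def n9511 : Q := act 8 n7502
theorem D9511 : act 8 n7502 = n9511 := rfl
theorem F44713 : act 2 n9511 = n9511 := d22_1 D9511 (iv D9511) F35793
theorem F44714 : act 3 n9511 = n7503 := d28_1 D9511 (iv D7503) (iv F35794)
theorem F44715 : act 4 n9511 = n7624 := d33_1 D9511 (iv D7624) (iv F35795)
def n9512 : Q := act 5 n7503
theorem D9512 : act 5 n7503 = n9512 := rfl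
theorem F44716 : act 2 n9512 = n7510 := d19_1 D9512 (iv D7510) (iv F35797)
theorem F44717 : act 8 n9512 = n9512 := d37_2 D7503 D9512 (iv D9512) (iv D7503) F28761
def n9513 : Q := act 4 n7504
theorem D9513 : act 4 n7504 = n9513 := rfl
theorem F44718 : act 2 n9513 = n7511 := d18_1 D9513 (iv D7511) (iv F35799)
theorem F44719 : act 8 n9513 = n7505 := d33_2 (iv F35801) D9513 (iv D7505)
def n9514 : Q := act 6 n7504
theorem D9514 : act 6 n7504 = n9514 := rfl
theorem F44720 : act 2 n9514 = n7512 := d20_1 D9514 (iv D7512) (iv F35799)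
theorem F44721 : act 3 n9514 = n7632 := d26_1 D9514 (iv D7632) (iv F35800)
theorem F44722 : act 8 n9514 = n7506 := d40_2 (iv F35801) D9514 (iv D7506)
def n9515 : Q := act 3 n7505
theorem D9515 : act 3 n7505 = n9515 := rfl
theorem F44723 : act 4 n9515 = n7635 := d24_2 D7505 D9515 (iv D7635) (iv D6063) (iv F28765)
theorem F44724 : act 5 n9515 = n9515 := d25_2 F35803 D9515 (iv D9515)
theorem F44725 : act 9 n9515 = n7533 := d29_2 (iv F35804) D9515 (iv D7533)
def n9516 : Q := act 6 n7505
theorem D9516 : act 6 n7505 = n9516 := rfl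
theorem F44726 : act 2 n9516 = n7514 := d20_1 D9516 (iv D7514) (iv F35802)
theorem F44727 : act 4 n9516 = n7506 := d31_1 D9516 (iv D7506) D7505
theorem F44728 : act 9 n9516 = n7534 := d41_2 (iv F35804) D9516 (iv D7534)
def n9517 : Q := act 7 n7506
theorem D9517 : act 7 n7506 = n9517 := rfl
theorem F44729 : act 2 n9517 = n7515 := d21_1 D9517 (iv D7515) (iv F35805)
theorem F44730 : act 3 n9517 = n7637 := d27_1 D9517 (iv D7637) (iv F35806)
theorem F44731 : act 5 n9517 = n7509 := d36_1 D9517 (iv D7509) (iv F35807)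
theorem F44732 : act 9 n9517 = n7535 := d43_2 (iv F35808) D9517 (iv D7535)
def n9518 : Q := act 6 n7507
theorem D9518 : act 6 n7507 = n9518 := rfl
theorem F44733 : act 2 n9518 = n9518 := d20_1 D9518 (iv D9518) F35809
theorem F44734 : act 3 n9518 = n7508 := d26_1 D9518 (iv D7508) D7507
theorem F44735 : act 4 n9518 = n7638 := d31_1 D9518 (iv D7638) (iv F35810)
theorem F44736 : act 9 n9518 = n7536 := d41_2 (iv F35813) D9518 (iv D7536)
def n9519 : Q := act 5 n7508
theorem D9519 : act 5 n7508 = n9519 := rfl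
theorem F44737 : act 2 n9519 = n7516 := d19_1 D9519 (iv D7516) (iv F35814)
theorem F44738 : act 6 n9519 = n9519 := d35_2 D7508 D9519 (iv D9519) (iv D7508) F28768
theorem F44739 : act 9 n9519 = n7537 := d38_2 (iv F35816) D9519 (iv D7537)
def n9520 : Q := act 7 n7508
theorem D9520 : act 7 n7508 = n9520 := rfl
theorem F44740 : act 2 n9520 = n7517 := d21_1 D9520 (iv D7517) (iv F35814)
theorem F44741 : act 4 n9520 = n7509 := d32_1 D9520 (iv D7509) (iv F35815)
theorem F44742 : act 6 n9520 = n9520 := d39_1 D9520 (iv D9520) (iv D7508) F28769 D7508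
theorem F44743 : act 9 n9520 = n7538 := d43_2 (iv F35816) D9520 (iv D7538)
def n9521 : Q := act 4 n7510
theorem D9521 : act 4 n7510 = n9521 := rfl
theorem F44744 : act 1 n9521 = n9521 := d11_1 D9521 (iv D9521) F35821
theorem F44745 : act 5 n9521 = n7511 := d30_2 D7510 D9521 (iv D7511) (iv D5962) (iv F28776)
theorem F44746 : act 8 n9521 = n9521 := d33_2 F35823 D9521 (iv D9521)
def n9522 : Q := act 6 n7510
theorem D9522 : act 6 n7510 = n9522 := rfl
theorem F44747 : act 1 n9522 = n9522 := d13_1 D9522 (iv D9522) F35821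
theorem F44748 : act 3 n9522 = n9522 := d26_1 D9522 (iv D9522) F35822
theorem F44749 : act 8 n9522 = n9522 := d40_2 F35823 D9522 (iv D9522)
def n9523 : Q := act 3 n7511
theorem D9523 : act 3 n7511 = n9523 := rfl
theorem F44750 : act 1 n9523 = n9523 := d10_1 D9523 (iv D9523) F35824
theorem F44751 : act 4 n9523 = n7518 := d24_2 D7511 D9523 (iv D7518) (iv D5967) (iv F28778)
theorem F44752 : act 8 n9523 = n7513 := d28_2 (iv F35825) D9523 (iv D7513)
def n9524 : Q := act 6 n7511
theorem D9524 : act 6 n7511 = n9524 := rfl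
theorem F44753 : act 1 n9524 = n9524 := d13_1 D9524 (iv D9524) F35824
theorem F44754 : act 4 n9524 = n7512 := d31_1 D9524 (iv D7512) D7511
theorem F44755 : act 8 n9524 = n7514 := d40_2 (iv F35825) D9524 (iv D7514)
def n9525 : Q := act 7 n7512
theorem D9525 : act 7 n7512 = n9525 := rfl
theorem F44756 : act 1 n9525 = n9525 := d14_1 D9525 (iv D9525) F35826
theorem F44757 : act 3 n9525 = n7520 := d27_1 D9525 (iv D7520) (iv F35827)
theorem F44758 : act 8 n9525 = n7515 := d42_2 (iv F35828) D9525 (iv D7515)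
def n9526 : Q := act 2 n7513
theorem D9526 : act 2 n7513 = n9526 := rfl
theorem F44759 : act 4 n9526 = n7521 := d18_2 (iv F35830) D9526 (iv D7521)
theorem F44760 : act 5 n9526 = n9526 := d19_2 F35831 D9526 (iv D9526)
theorem F44761 : act 9 n9526 = n7539 := d23_2 (iv F35832) D9526 (iv D7539)
def n9527 : Q := act 6 n7513
theorem D9527 : act 6 n7513 = n9527 := rfl
theorem F44762 : act 1 n9527 = n9527 := d13_1 D9527 (iv D9527) F35829
theorem F44763 : act 3 n9527 = n7514 := d26_1 D9527 (iv D7514) D7513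
theorem F44764 : act 4 n9527 = n7522 := d31_1 D9527 (iv D7522) (iv F35830)
theorem F44765 : act 9 n9527 = n7540 := d41_2 (iv F35832) D9527 (iv D7540)
def n9528 : Q := act 5 n7514
theorem D9528 : act 5 n7514 = n9528 := rfl
theorem F44766 : act 1 n9528 = n9528 := d12_1 D9528 (iv D9528) F35833
theorem F44767 : act 4 n9528 = n7516 := d30_1 D9528 (iv D7516) F28789 (iv F28785) (iv F35834)
theorem F44768 : act 6 n9528 = n9528 := d35_2 D7514 D9528 (iv D9528) (iv D7514) F28781
theorem F44769 : act 9 n9528 = n7541 := d38_2 (iv F35835) D9528 (iv D7541)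
def n9529 : Q := act 7 n7514
theorem D9529 : act 7 n7514 = n9529 := rfl
theorem F44770 : act 1 n9529 = n9529 := d14_1 D9529 (iv D9529) F35833
theorem F44771 : act 4 n9529 = n7515 := d32_1 D9529 (iv D7515) (iv F35834)
theorem F44772 : act 9 n9529 = n7542 := d43_2 (iv F35835) D9529 (iv D7542)
def n9530 : Q := act 7 n7516
theorem D9530 : act 7 n7516 = n9530 := rfl
theorem F44773 : act 1 n9530 = n9530 := d14_1 D9530 (iv D9530) F35840
theorem F44774 : act 3 n9530 = n9530 := d27_1 D9530 (iv D9530) F35841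
theorem F44775 : act 5 n9530 = n7517 := d36_1 D9530 (iv D7517) D7516
theorem F44776 : act 9 n9530 = n7543 := d43_2 (iv F35843) D9530 (iv D7543)
def n9531 : Q := act 8 n7516
theorem D9531 : act 8 n7516 = n9531 := rfl
theorem F44777 : act 1 n9531 = n9531 := d15_1 D9531 (iv D9531) F35840
theorem F44778 : act 3 n9531 = n9531 := d28_1 D9531 (iv D9531) F35841
theorem F44779 : act 6 n9531 = n9531 := d40_1 D9531 (iv D9531) F35842
def n9532 : Q := act 2 n7518
theorem D9532 : act 2 n7518 = n9532 := rfl
theorem F44780 : act 3 n9532 = n7671 := d17_2 D7518 D9532 (iv D7671) (iv D6089) (iv F28796)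
theorem F44781 : act 5 n9532 = n9532 := d19_2 F35850 D9532 (iv D9532)
theorem F44782 : act 8 n9532 = n7521 := d22_2 (iv F35851) D9532 (iv D7521)
def n9533 : Q := act 6 n7518
theorem D9533 : act 6 n7518 = n9533 := rfl
theorem F44783 : act 1 n9533 = n9533 := d13_1 D9533 (iv D9533) F35849
theorem F44784 : act 3 n9533 = n7519 := d26_1 D9533 (iv D7519) D7518
theorem F44785 : act 8 n9533 = n7522 := d40_2 (iv F35851) D9533 (iv D7522)
def n9534 : Q := act 5 n7519
theorem D9534 : act 5 n7519 = n9534 := rfl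
theorem F44786 : act 1 n9534 = n9534 := d12_1 D9534 (iv D9534) F35852
theorem F44787 : act 2 n9534 = n7673 := d19_1 D9534 (iv D7673) (iv F35853)
theorem F44788 : act 6 n9534 = n9534 := d35_2 D7519 D9534 (iv D9534) (iv D7519) F28797
theorem F44789 : act 8 n9534 = n9534 := d37_2 (iv F35855) D9534 (iv D9534) F35855 F28808
def n9535 : Q := act 7 n7519
theorem D9535 : act 7 n7519 = n9535 := rfl
theorem F44790 : act 1 n9535 = n9535 := d14_1 D9535 (iv D9535) F35852
theorem F44791 : act 2 n9535 = n7674 := d21_1 D9535 (iv D7674) (iv F35853)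
theorem F44792 : act 4 n9535 = n7520 := d32_1 D9535 (iv D7520) (iv F35854)
theorem F44793 : act 8 n9535 = n7523 := d42_2 (iv F35855) D9535 (iv D7523)
def n9536 : Q := act 1 n7521
theorem D9536 : act 1 n7521 = n9536 := rfl
theorem F44794 : act 2 n9536 = n9536 := d9_2 D7521 D9536 (iv D9536) (iv D7521) F28802
theorem F44795 : act 3 n9536 = n7679 := d10_2 (iv F35859) D9536 (iv D7679)
theorem F44796 : act 5 n9536 = n7524 := d12_2 (iv F35860) D9536 (iv D7524)
theorem F44797 : act 9 n9536 = n7545 := d16_2 (iv F35861) D9536 (iv D7545)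
def n9537 : Q := act 6 n7521
theorem D9537 : act 6 n7521 = n9537 := rfl
theorem F44798 : act 2 n9537 = n7522 := d20_1 D9537 (iv D7522) D7521
theorem F44799 : act 3 n9537 = n7680 := d26_1 D9537 (iv D7680) (iv F35859)
theorem F44800 : act 5 n9537 = n9537 := d35_1 D9537 (iv D9537) F35860 F28816 (iv F35860)
theorem F44801 : act 9 n9537 = n7546 := d41_2 (iv F35861) D9537 (iv D7546)
def n9538 : Q := act 7 n7522
theorem D9538 : act 7 n7522 = n9538 := rfl
theorem F44802 : act 1 n9538 = n9538 := d14_1 D9538 (iv D9538) F35862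
theorem F44803 : act 3 n9538 = n7523 := d27_1 D9538 (iv D7523) (iv F35863)
theorem F44804 : act 5 n9538 = n9538 := d36_1 D9538 (iv D9538) F35864
theorem F44805 : act 9 n9538 = n7547 := d43_2 (iv F35865) D9538 (iv D7547)
def n9539 : Q := act 0 n7524
theorem D9539 : act 0 n7524 = n9539 := rfl
theorem F44811 : act 9 n9539 = n7548 := d8_2 (iv F35876) D9539 (iv D7548)
def n9540 : Q := act 4 n7525
theorem D9540 : act 4 n7525 = n9540 := rfl
theorem F44812 : act 0 n9540 = n7528 := d3_1 D9540 (iv D7528) (iv F35877)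
theorem F44813 : act 2 n9540 = n9540 := d18_1 D9540 (iv D9540) F35878
theorem F44814 : act 5 n9540 = n9540 := d30_2 D7525 D9540 (iv D9540) (iv D7525) F28822
def n9541 : Q := act 6 n7525
theorem D9541 : act 6 n7525 = n9541 := rfl
theorem F44815 : act 0 n9541 = n7529 := d5_1 D9541 (iv D7529) (iv F35877)
theorem F44816 : act 2 n9541 = n9541 := d20_1 D9541 (iv D9541) F35878
theorem F44817 : act 3 n9541 = n7691 := d26_1 D9541 (iv D7691) (iv F35879)
theorem F44818 : act 5 n9541 = n7527 := d35_1 D9541 (iv D7527) (iv D5974) (iv F28823) D7525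
def n9542 : Q := act 3 n7526
theorem D9542 : act 3 n7526 = n9542 := rfl
theorem F44819 : act 0 n9542 = n7530 := d2_1 D9542 (iv D7530) (iv F35880)
theorem F44820 : act 4 n9542 = n7692 := d24_2 D7526 D9542 (iv D7692) (iv D6106) (iv F28826)
theorem F44821 : act 5 n9542 = n9542 := d25_2 F35882 D9542 (iv D9542)
theorem F44822 : act 7 n9542 = n9542 := d27_2 F35883 D9542 (iv D9542)
theorem F44823 : act 8 n9542 = n9542 := d28_2 F35884 D9542 (iv D9542)
def n9543 : Q := act 6 n7526
theorem D9543 : act 6 n7526 = n9543 := rfl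
theorem F44824 : act 0 n9543 = n7531 := d5_1 D9543 (iv D7531) (iv F35880)
theorem F44825 : act 2 n9543 = n9543 := d20_1 D9543 (iv D9543) F35881
theorem F44826 : act 4 n9543 = n7527 := d31_1 D9543 (iv D7527) D7526
theorem F44827 : act 8 n9543 = n9543 := d40_2 F35884 D9543 (iv D9543)
def n9544 : Q := act 7 n7527
theorem D9544 : act 7 n7527 = n9544 := rfl
theorem F44828 : act 0 n9544 = n7532 := d6_1 D9544 (iv D7532) (iv F35885)
theorem F44829 : act 2 n9544 = n9544 := d21_1 D9544 (iv D9544) F35886
theorem F44830 : act 3 n9544 = n7694 := d27_1 D9544 (iv D7694) (iv F35887)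
theorem F44831 : act 6 n9544 = n9544 := d39_1 D9544 (iv D9544) (iv D7527) F28827 D7527
theorem F44832 : act 8 n9544 = n9544 := d42_2 F35888 D9544 (iv D9544)
def n9545 : Q := act 3 n7528
theorem D9545 : act 3 n7528 = n9545 := rfl
theorem F44833 : act 1 n9545 = n7533 := d10_1 D9545 (iv D7533) (iv F35889)
theorem F44834 : act 4 n9545 = n7700 := d24_2 D7528 D9545 (iv D7700) (iv D6111) (iv F28831)
theorem F44835 : act 5 n9545 = n9545 := d25_2 F35891 D9545 (iv D9545)
def n9546 : Q := act 6 n7528
theorem D9546 : act 6 n7528 = n9546 := rfl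
theorem F44836 : act 1 n9546 = n7534 := d13_1 D9546 (iv D7534) (iv F35889)
theorem F44837 : act 2 n9546 = n9546 := d20_1 D9546 (iv D9546) F35890
theorem F44838 : act 4 n9546 = n7529 := d31_1 D9546 (iv D7529) D7528
def n9547 : Q := act 7 n7529
theorem D9547 : act 7 n7529 = n9547 := rfl
theorem F44839 : act 1 n9547 = n7535 := d14_1 D9547 (iv D7535) (iv F35892)
theorem F44840 : act 2 n9547 = n9547 := d21_1 D9547 (iv D9547) F35893
theorem F44841 : act 3 n9547 = n7702 := d27_1 D9547 (iv D7702) (iv F35894)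
theorem F44842 : act 5 n9547 = n7532 := d36_1 D9547 (iv D7532) (iv F35895)
def n9548 : Q := act 2 n7530
theorem D9548 : act 2 n7530 = n9548 := rfl
theorem F44845 : act 4 n9548 = n7703 := d18_2 (iv F35897) D9548 (iv D7703)
def n9549 : Q := act 6 n7530
theorem D9549 : act 6 n7530 = n9549 := rfl
theorem F44849 : act 1 n9549 = n7536 := d13_1 D9549 (iv D7536) (iv F35896)
theorem F44850 : act 3 n9549 = n7531 := d26_1 D9549 (iv D7531) D7530
theorem F44851 : act 4 n9549 = n7704 := d31_1 D9549 (iv D7704) (iv F35897)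
theorem F44852 : act 8 n9549 = n9549 := d40_2 F35900 D9549 (iv D9549)
def n9550 : Q := act 5 n7531
theorem D9550 : act 5 n7531 = n9550 := rfl
theorem F44853 : act 1 n9550 = n7537 := d12_1 D9550 (iv D7537) (iv F35901)
theorem F44854 : act 2 n9550 = n9550 := d19_1 D9550 (iv D9550) F35902
theorem F44855 : act 6 n9550 = n9550 := d35_2 D7531 D9550 (iv D9550) (iv D7531) F28834
def n9551 : Q := act 7 n7531
theorem D9551 : act 7 n7531 = n9551 := rfl
theorem F44856 : act 1 n9551 = n7538 := d14_1 D9551 (iv D7538) (iv F35901)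
theorem F44857 : act 2 n9551 = n9551 := d21_1 D9551 (iv D9551) F35902
theorem F44858 : act 4 n9551 = n7532 := d32_1 D9551 (iv D7532) (iv F35903)
theorem F44859 : act 6 n9551 = n9551 := d39_1 D9551 (iv D9551) (iv D7531) F28835 D7531
theorem F44860 : act 8 n9551 = n9551 := d42_2 F35904 D9551 (iv D9551)
def n9552 : Q := act 2 n7533
theorem D9552 : act 2 n7533 = n9552 := rfl
theorem F44861 : act 3 n9552 = n7539 := d17_2 D7533 D9552 (iv D7539) (iv D5983) (iv F28841)
theorem F44862 : act 4 n9552 = n7715 := d18_2 (iv F35910) D9552 (iv D7715)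
theorem F44863 : act 5 n9552 = n9552 := d19_2 F35911 D9552 (iv D9552)
def n9553 : Q := act 6 n7533
theorem D9553 : act 6 n7533 = n9553 := rfl
theorem F44864 : act 3 n9553 = n7534 := d26_1 D9553 (iv D7534) D7533
theorem F44865 : act 4 n9553 = n7716 := d31_1 D9553 (iv D7716) (iv F35910)
def n9554 : Q := act 5 n7534
theorem D9554 : act 5 n7534 = n9554 := rfl
theorem F44866 : act 2 n9554 = n7541 := d19_1 D9554 (iv D7541) (iv F35912)
theorem F44867 : act 4 n9554 = n7537 := d30_1 D9554 (iv D7537) F28852 (iv F28845) (iv F35913)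
theorem F44868 : act 6 n9554 = n9554 := d35_2 D7534 D9554 (iv D9554) (iv D7534) F28842
def n9555 : Q := act 7 n7534
theorem D9555 : act 7 n7534 = n9555 := rfl
theorem F44869 : act 2 n9555 = n7542 := d21_1 D9555 (iv D7542) (iv F35912)
theorem F44870 : act 4 n9555 = n7535 := d32_1 D9555 (iv D7535) (iv F35913)
def n9556 : Q := act 5 n7536
theorem D9556 : act 5 n7536 = n9556 := rfl
theorem F44871 : act 2 n9556 = n9556 := d19_1 D9556 (iv D9556) F35917
theorem F44872 : act 3 n9556 = n7537 := d25_1 D9556 (iv D7537) (iv F35918)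
theorem F44873 : act 6 n9556 = n9556 := d35_2 D7536 D9556 (iv D9556) (iv D7536) F28848
def n9557 : Q := act 7 n7536
theorem D9557 : act 7 n7536 = n9557 := rfl
theorem F44874 : act 2 n9557 = n9557 := d21_1 D9557 (iv D9557) F35917
theorem F44875 : act 3 n9557 = n7538 := d27_1 D9557 (iv D7538) (iv F35918)
theorem F44876 : act 4 n9557 = n7720 := d32_1 D9557 (iv D7720) (iv F35919)
theorem F44877 : act 6 n9557 = n9557 := d39_1 D9557 (iv D9557) (iv D7536) F28849 D7536
theorem F44878 : act 8 n9557 = n9557 := d42_2 F35920 D9557 (iv D9557)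
def n9558 : Q := act 7 n7537
theorem D9558 : act 7 n7537 = n9558 := rfl
theorem F44879 : act 2 n9558 = n7543 := d21_1 D9558 (iv D7543) (iv F35921)
theorem F44880 : act 5 n9558 = n7538 := d36_1 D9558 (iv D7538) D7537
def n9559 : Q := act 8 n7537
theorem D9559 : act 8 n7537 = n9559 := rfl
theorem F44881 : act 2 n9559 = n7544 := d22_1 D9559 (iv D7544) (iv F35921)
theorem F44882 : act 5 n9559 = n9559 := d37_1 D9559 (iv D9559) (iv D7537) F28853 D7537
theorem F44883 : act 6 n9559 = n9559 := d40_1 D9559 (iv D9559) F35922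
def n9560 : Q := act 1 n7539
theorem D9560 : act 1 n7539 = n9560 := rfl
theorem F44884 : act 2 n9560 = n9560 := d9_2 D7539 D9560 (iv D9560) (iv D7539) F28858
theorem F44885 : act 4 n9560 = n7545 := d11_2 (iv F35927) D9560 (iv D7545)
theorem F44886 : act 5 n9560 = n9560 := d12_2 F35928 D9560 (iv D9560)
def n9561 : Q := act 6 n7539
theorem D9561 : act 6 n7539 = n9561 := rfl
theorem F44887 : act 2 n9561 = n7540 := d20_1 D9561 (iv D7540) D7539
theorem F44888 : act 4 n9561 = n7546 := d31_1 D9561 (iv D7546) (iv F35927)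
def n9562 : Q := act 5 n7540
theorem D9562 : act 5 n7540 = n9562 := rfl
theorem F44889 : act 1 n9562 = n9562 := d12_1 D9562 (iv D9562) F35929
theorem F44890 : act 3 n9562 = n7541 := d25_1 D9562 (iv D7541) (iv F35930)
theorem F44891 : act 4 n9562 = n9562 := d30_1 D9562 (iv D9562) F35931 F28878 (iv F35931)
theorem F44892 : act 6 n9562 = n9562 := d35_2 D7540 D9562 (iv D9562) (iv D7540) F28860
def n9563 : Q := act 7 n7540
theorem D9563 : act 7 n7540 = n9563 := rfl
theorem F44893 : act 1 n9563 = n9563 := d14_1 D9563 (iv D9563) F35929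
theorem F44894 : act 3 n9563 = n7542 := d27_1 D9563 (iv D7542) (iv F35930)
theorem F44895 : act 4 n9563 = n7547 := d32_1 D9563 (iv D7547) (iv F35931)
def n9564 : Q := act 7 n7541
theorem D9564 : act 7 n7541 = n9564 := rfl
theorem F44896 : act 1 n9564 = n9564 := d14_1 D9564 (iv D9564) F35932
theorem F44897 : act 4 n9564 = n7543 := d32_1 D9564 (iv D7543) (iv F35933)
theorem F44898 : act 5 n9564 = n7542 := d36_1 D9564 (iv D7542) D7541
def n9565 : Q := act 8 n7541
theorem D9565 : act 8 n7541 = n9565 := rfl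
theorem F44899 : act 1 n9565 = n9565 := d15_1 D9565 (iv D9565) F35932
theorem F44900 : act 4 n9565 = n7544 := d33_1 D9565 (iv D7544) (iv F35933)
theorem F44901 : act 6 n9565 = n9565 := d40_1 D9565 (iv D9565) F35934
def n9566 : Q := act 6 n7543
theorem D9566 : act 6 n7543 = n9566 := rfl
theorem F44902 : act 1 n9566 = n9566 := d13_1 D9566 (iv D9566) F35937
theorem F44903 : act 3 n9566 = n9566 := d26_1 D9566 (iv D9566) F35938
theorem F44904 : act 5 n9566 = n9566 := d35_1 D9566 (iv D9566) F35939 F28872 (iv F35939)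
theorem F44905 : act 7 n9566 = n9566 := d39_2 D7543 D9566 (iv D9566) (iv D7543) F28868
def n9567 : Q := act 8 n7543
theorem D9567 : act 8 n7543 = n9567 := rfl
theorem F44906 : act 1 n9567 = n9567 := d15_1 D9567 (iv D9567) F35937
theorem F44907 : act 3 n9567 = n9567 := d28_1 D9567 (iv D9567) F35938
theorem F44908 : act 5 n9567 = n9567 := d37_1 D9567 (iv D9567) F35939 F28873 (iv F35939)
theorem F44909 : act 7 n9567 = n7544 := d42_1 D9567 (iv D7544) D7543
def n9568 : Q := act 9 n7544
theorem D9568 : act 9 n7544 = n9568 := rfl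
theorem F44910 : act 1 n9568 = n9568 := d16_1 D9568 (iv D9568) F35940
theorem F44911 : act 3 n9568 = n9568 := d29_1 D9568 (iv D9568) F35941
theorem F44912 : act 5 n9568 = n9568 := d38_1 D9568 (iv D9568) F35942
theorem F44913 : act 6 n9568 = n9568 := d41_1 D9568 (iv D9568) F35943
def n9569 : Q := act 0 n7545
theorem D9569 : act 0 n7545 = n9569 := rfl
def n9570 : Q := act 6 n7545
theorem D9570 : act 6 n7545 = n9570 := rfl
theorem F44917 : act 1 n9570 = n7546 := d13_1 D9570 (iv D7546) D7545
theorem F44918 : act 2 n9570 = n9570 := d20_1 D9570 (iv D9570) F35944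
theorem F44919 : act 3 n9570 = n7758 := d26_1 D9570 (iv D7758) (iv F35945)
theorem F44920 : act 5 n9570 = n9570 := d35_1 D9570 (iv D9570) F35946 F28886 (iv F35946)
def n9571 : Q := act 7 n7546
theorem D9571 : act 7 n7546 = n9571 := rfl
theorem F44921 : act 2 n9571 = n7547 := d21_1 D9571 (iv D7547) (iv F35947)
theorem F44922 : act 3 n9571 = n7759 := d27_1 D9571 (iv D7759) (iv F35948)
theorem F44923 : act 5 n9571 = n9571 := d36_1 D9571 (iv D9571) F35949
def n9572 : Q := act 8 n7549
theorem D9572 : act 8 n7549 = n9572 := rfl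
theorem F44924 : act 0 n9572 = n7555 := d7_1 D9572 (iv D7555) (iv F35958)
theorem F44925 : act 2 n9572 = n7967 := d22_1 D9572 (iv D7967) (iv F35959)
theorem F44926 : act 6 n9572 = n7608 := d40_1 D9572 (iv D7608) (iv F35961)
def n9573 : Q := act 5 n7550
theorem D9573 : act 5 n7550 = n9573 := rfl
theorem F44927 : act 0 n9573 = n7557 := d4_1 D9573 (iv D7557) (iv F35962)
theorem F44928 : act 2 n9573 = n7969 := d19_1 D9573 (iv D7969) (iv F35963)
theorem F44929 : act 9 n9573 = n9573 := d38_2 F35966 D9573 (iv D9573)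
def n9574 : Q := act 4 n7551
theorem D9574 : act 4 n7551 = n9574 := rfl
theorem F44930 : act 0 n9574 = n7558 := d3_1 D9574 (iv D7558) (iv F35967)
theorem F44931 : act 2 n9574 = n7970 := d18_1 D9574 (iv D7970) (iv F35968)
theorem F44932 : act 5 n9574 = n9574 := d30_2 D7551 D9574 (iv D9574) (iv D7551) F28902
theorem F44933 : act 7 n9574 = n9574 := d32_2 F35969 D9574 (iv D9574)
theorem F44934 : act 8 n9574 = n7611 := d33_2 (iv F35970) D9574 (iv D7611)
theorem F44935 : act 9 n9574 = n9574 := d34_2 F35971 D9574 (iv D9574)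
def n9575 : Q := act 6 n7551
theorem D9575 : act 6 n7551 = n9575 := rfl
theorem F44936 : act 0 n9575 = n7559 := d5_1 D9575 (iv D7559) (iv F35967)
theorem F44937 : act 2 n9575 = n7971 := d20_1 D9575 (iv D7971) (iv F35968)
theorem F44938 : act 8 n9575 = n7612 := d40_2 (iv F35970) D9575 (iv D7612)
theorem F44939 : act 9 n9575 = n9575 := d41_2 F35971 D9575 (iv D9575)
def n9576 : Q := act 8 n7552
theorem D9576 : act 8 n7552 = n9576 := rfl
theorem F44940 : act 1 n9576 = n7561 := d15_1 D9576 (iv D7561) (iv F35972)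
theorem F44941 : act 2 n9576 = n7576 := d22_1 D9576 (iv D7576) (iv F35973)
theorem F44942 : act 4 n9576 = n7555 := d33_1 D9576 (iv D7555) (iv F35974)
theorem F44943 : act 6 n9576 = n7613 := d40_1 D9576 (iv D7613) (iv F35976)
theorem F44944 : act 7 n9576 = n7564 := d42_1 D9576 (iv D7564) (iv F35977)
theorem F44945 : act 9 n9576 = n7563 := d44_2 D7552 D9576 (iv D7563) (iv D6006) (iv F28910)
def n9577 : Q := act 8 n7553
theorem D9577 : act 8 n7553 = n9577 := rfl
theorem F44946 : act 1 n9577 = n7563 := d15_1 D9577 (iv D7563) (iv F35978)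
theorem F44947 : act 2 n9577 = n7573 := d22_1 D9577 (iv D7573) (iv F35979)
theorem F44948 : act 4 n9577 = n7564 := d33_1 D9577 (iv D7564) (iv F35980)
theorem F44949 : act 6 n9577 = n7626 := d40_1 D9577 (iv D7626) (iv F35982)
theorem F44950 : act 7 n9577 = n7555 := d42_1 D9577 (iv D7555) (iv F35983)
theorem F44951 : act 9 n9577 = n7561 := d44_2 D7553 D9577 (iv D7561) (iv D6004) F28916
def n9578 : Q := act 8 n7554
theorem D9578 : act 8 n7554 = n9578 := rfl
theorem F44952 : act 1 n9578 = n7564 := d15_1 D9578 (iv D7564) (iv F35984)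
theorem F44953 : act 2 n9578 = n7572 := d22_1 D9578 (iv D7572) (iv F35985)
theorem F44954 : act 4 n9578 = n7563 := d33_1 D9578 (iv D7563) (iv F35986)
theorem F44955 : act 6 n9578 = n7615 := d40_1 D9578 (iv D7615) (iv F35988)
theorem F44956 : act 7 n9578 = n7561 := d42_1 D9578 (iv D7561) (iv F35989)
theorem F44957 : act 9 n9578 = n7555 := d44_2 D7554 D9578 (iv D7555) (iv D5999) D5998
def n9579 : Q := act 5 n7555
theorem D9579 : act 5 n7555 = n9579 := rfl
theorem F44958 : act 1 n9579 = n7565 := d12_1 D9579 (iv D7565) (iv F35990)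
theorem F44959 : act 2 n9579 = n7972 := d19_1 D9579 (iv D7972) (iv F35991)
theorem F44960 : act 8 n9579 = n7557 := d37_2 D7555 D9579 (iv D7557) (iv D6001) (iv F28925)
def n9580 : Q := act 5 n7556
theorem D9580 : act 5 n7556 = n9580 := rfl
theorem F44961 : act 1 n9580 = n7566 := d12_1 D9580 (iv D7566) (iv F35993)
theorem F44962 : act 2 n9580 = n7973 := d19_1 D9580 (iv D7973) (iv F35994)
theorem F44963 : act 7 n9580 = n7557 := d36_2 (iv F35997) D9580 (iv D7557)
theorem F44964 : act 9 n9580 = n9580 := d38_2 F35998 D9580 (iv D9580)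
def n9581 : Q := act 4 n7557
theorem D9581 : act 4 n7557 = n9581 := rfl
theorem F44965 : act 1 n9581 = n7567 := d11_1 D9581 (iv D7567) (iv F35999)
theorem F44966 : act 2 n9581 = n7974 := d18_1 D9581 (iv D7974) (iv F36000)
theorem F44967 : act 5 n9581 = n9581 := d30_2 D7557 D9581 (iv D9581) (iv D7557) F28934
theorem F44968 : act 9 n9581 = n9581 := d34_2 F36001 D9581 (iv D9581)
def n9582 : Q := act 6 n7557
theorem D9582 : act 6 n7557 = n9582 := rfl
theorem F44969 : act 1 n9582 = n7568 := d13_1 D9582 (iv D7568) (iv F35999)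
theorem F44970 : act 2 n9582 = n7975 := d20_1 D9582 (iv D7975) (iv F36000)
theorem F44971 : act 5 n9582 = n7559 := d35_1 D9582 (iv D7559) (iv D6002) (iv F28935) D7557
theorem F44972 : act 9 n9582 = n9582 := d41_2 F36001 D9582 (iv D9582)
def n9583 : Q := act 3 n7558
theorem D9583 : act 3 n7558 = n9583 := rfl
theorem F44973 : act 1 n9583 = n7569 := d10_1 D9583 (iv D7569) (iv F36002)
theorem F44974 : act 5 n9583 = n9583 := d25_2 F36004 D9583 (iv D9583)
theorem F44975 : act 7 n9583 = n9583 := d27_2 F36005 D9583 (iv D9583)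
theorem F44976 : act 8 n9583 = n7620 := d28_2 (iv F36006) D9583 (iv D7620)
theorem F44977 : act 9 n9583 = n9583 := d29_2 F36007 D9583 (iv D9583)
def n9584 : Q := act 6 n7558
theorem D9584 : act 6 n7558 = n9584 := rfl
theorem F44978 : act 1 n9584 = n7570 := d13_1 D9584 (iv D7570) (iv F36002)
theorem F44979 : act 2 n9584 = n7977 := d20_1 D9584 (iv D7977) (iv F36003)
theorem F44980 : act 4 n9584 = n7559 := d31_1 D9584 (iv D7559) D7558
theorem F44981 : act 8 n9584 = n7621 := d40_2 (iv F36006) D9584 (iv D7621)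
theorem F44982 : act 9 n9584 = n9584 := d41_2 F36007 D9584 (iv D9584)
def n9585 : Q := act 7 n7559
theorem D9585 : act 7 n7559 = n9585 := rfl
theorem F44983 : act 1 n9585 = n7571 := d14_1 D9585 (iv D7571) (iv F36008)
theorem F44984 : act 2 n9585 = n7978 := d21_1 D9585 (iv D7978) (iv F36009)
theorem F44985 : act 6 n9585 = n9585 := d39_1 D9585 (iv D9585) (iv D7559) F28939 D7559
theorem F44986 : act 8 n9585 = n7622 := d42_2 (iv F36010) D9585 (iv D7622)
theorem F44987 : act 9 n9585 = n9585 := d43_2 F36011 D9585 (iv D9585)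
def n9586 : Q := act 8 n7560
theorem D9586 : act 8 n7560 = n9586 := rfl
theorem F44988 : act 2 n9586 = n9586 := d22_1 D9586 (iv D9586) F36012
theorem F44989 : act 3 n9586 = n7561 := d28_1 D9586 (iv D7561) (iv F36013)
theorem F44990 : act 6 n9586 = n7624 := d40_1 D9586 (iv D7624) (iv F36015)
def n9587 : Q := act 5 n7561
theorem D9587 : act 5 n7561 = n9587 := rfl
theorem F44991 : act 2 n9587 = n7574 := d19_1 D9587 (iv D7574) (iv F36016)
theorem F44992 : act 8 n9587 = n9587 := d37_2 D7561 D9587 (iv D9587) (iv D7561) F28947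
def n9588 : Q := act 8 n7562
theorem D9588 : act 8 n7562 = n9588 := rfl
theorem F44993 : act 1 n9588 = n7626 := d15_1 D9588 (iv D7626) (iv F36019)
theorem F44994 : act 2 n9588 = n7575 := d22_1 D9588 (iv D7575) (iv F36020)
theorem F44995 : act 4 n9588 = n7615 := d33_1 D9588 (iv D7615) (iv F36021)
theorem F44996 : act 6 n9588 = n7563 := d40_1 D9588 (iv D7563) (iv F36023)
theorem F44997 : act 7 n9588 = n7628 := d42_1 D9588 (iv D7628) (iv F36024)
theorem F44998 : act 9 n9588 = n7613 := d44_2 D7562 D9588 (iv D7613) (iv D6045) (iv F28954)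
def n9589 : Q := act 5 n7563
theorem D9589 : act 5 n7563 = n9589 := rfl
theorem F44999 : act 2 n9589 = n7577 := d19_1 D9589 (iv D7577) (iv F36025)
theorem F45000 : act 7 n9589 = n7565 := d36_2 (iv F36026) D9589 (iv D7565)
theorem F45001 : act 8 n9589 = n7566 := d37_2 D7563 D9589 (iv D7566) (iv D6009) (iv F28956)
def n9590 : Q := act 5 n7564
theorem D9590 : act 5 n7564 = n9590 := rfl
theorem F45002 : act 2 n9590 = n7578 := d19_1 D9590 (iv D7578) (iv F36027)
theorem F45003 : act 8 n9590 = n9590 := d37_2 D7564 D9590 (iv D9590) (iv D7564) F28959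
theorem F45004 : act 9 n9590 = n7565 := d38_2 (iv F36029) D9590 (iv D7565)
def n9591 : Q := act 4 n7565
theorem D9591 : act 4 n7565 = n9591 := rfl
theorem F45005 : act 2 n9591 = n7579 := d18_1 D9591 (iv D7579) (iv F36030)
theorem F45006 : act 8 n9591 = n7567 := d33_2 (iv F36031) D9591 (iv D7567)
def n9592 : Q := act 6 n7565
theorem D9592 : act 6 n7565 = n9592 := rfl
theorem F45007 : act 2 n9592 = n7580 := d20_1 D9592 (iv D7580) (iv F36030)
theorem F45008 : act 5 n9592 = n7632 := d35_1 D9592 (iv D7632) (iv D6061) (iv F28962) D7565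
theorem F45009 : act 8 n9592 = n7568 := d40_2 (iv F36031) D9592 (iv D7568)
def n9593 : Q := act 4 n7566
theorem D9593 : act 4 n7566 = n9593 := rfl
theorem F45010 : act 2 n9593 = n7581 := d18_1 D9593 (iv D7581) (iv F36032)
theorem F45011 : act 5 n9593 = n9593 := d30_2 D7566 D9593 (iv D9593) (iv D7566) F28964
theorem F45012 : act 7 n9593 = n7567 := d32_2 (iv F36033) D9593 (iv D7567)
theorem F45013 : act 9 n9593 = n9593 := d34_2 F36034 D9593 (iv D9593)
def n9594 : Q := act 6 n7566
theorem D9594 : act 6 n7566 = n9594 := rfl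
theorem F45014 : act 2 n9594 = n7582 := d20_1 D9594 (iv D7582) (iv F36032)
theorem F45015 : act 5 n9594 = n9594 := d35_1 D9594 (iv D9594) (iv D7566) F28965 D7566
theorem F45016 : act 9 n9594 = n9594 := d41_2 F36034 D9594 (iv D9594)
def n9595 : Q := act 3 n7567
theorem D9595 : act 3 n7567 = n9595 := rfl
theorem F45017 : act 5 n9595 = n9595 := d25_2 F36036 D9595 (iv D9595)
theorem F45018 : act 9 n9595 = n9595 := d29_2 F36037 D9595 (iv D9595)
def n9596 : Q := act 6 n7567
theorem D9596 : act 6 n7567 = n9596 := rfl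
theorem F45019 : act 2 n9596 = n7584 := d20_1 D9596 (iv D7584) (iv F36035)
theorem F45020 : act 4 n9596 = n7568 := d31_1 D9596 (iv D7568) D7567
theorem F45021 : act 9 n9596 = n9596 := d41_2 F36037 D9596 (iv D9596)
def n9597 : Q := act 7 n7568
theorem D9597 : act 7 n7568 = n9597 := rfl
theorem F45022 : act 2 n9597 = n7585 := d21_1 D9597 (iv D7585) (iv F36038)
theorem F45023 : act 5 n9597 = n7571 := d36_1 D9597 (iv D7571) (iv F36039)
theorem F45024 : act 9 n9597 = n9597 := d43_2 F36040 D9597 (iv D9597)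
def n9598 : Q := act 6 n7569
theorem D9598 : act 6 n7569 = n9598 := rfl
theorem F45025 : act 2 n9598 = n9598 := d20_1 D9598 (iv D9598) F36041
theorem F45026 : act 3 n9598 = n7570 := d26_1 D9598 (iv D7570) D7569
theorem F45027 : act 8 n9598 = n7638 := d40_2 (iv F36044) D9598 (iv D7638)
theorem F45028 : act 9 n9598 = n9598 := d41_2 F36045 D9598 (iv D9598)
def n9599 : Q := act 5 n7570
theorem D9599 : act 5 n7570 = n9599 := rfl
theorem F45029 : act 2 n9599 = n7586 := d19_1 D9599 (iv D7586) (iv F36046)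
theorem F45030 : act 6 n9599 = n9599 := d35_2 D7570 D9599 (iv D9599) (iv D7570) F28971
theorem F45031 : act 9 n9599 = n9599 := d38_2 F36049 D9599 (iv D9599)
def n9600 : Q := act 7 n7570
theorem D9600 : act 7 n7570 = n9600 := rfl
theorem F45032 : act 2 n9600 = n7587 := d21_1 D9600 (iv D7587) (iv F36046)
theorem F45033 : act 4 n9600 = n7571 := d32_1 D9600 (iv D7571) (iv F36047)
theorem F45034 : act 6 n9600 = n9600 := d39_1 D9600 (iv D9600) (iv D7570) F28972 D7570
theorem F45035 : act 8 n9600 = n7640 := d42_2 (iv F36048) D9600 (iv D7640)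
theorem F45036 : act 9 n9600 = n9600 := d43_2 F36049 D9600 (iv D9600)
def n9601 : Q := act 5 n7572
theorem D9601 : act 5 n7572 = n9601 := rfl
theorem F45037 : act 1 n9601 = n7981 := d12_1 D9601 (iv D7981) (iv F36054)
theorem F45038 : act 3 n9601 = n9601 := d25_1 D9601 (iv D9601) F36055
theorem F45039 : act 7 n9601 = n7574 := d36_2 (iv F36058) D9601 (iv D7574)
theorem F45040 : act 8 n9601 = n9601 := d37_2 D7572 D9601 (iv D9601) (iv D7572) F28981
theorem F45041 : act 9 n9601 = n7972 := d38_2 (iv F36059) D9601 (iv D7972)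
def n9602 : Q := act 5 n7573
theorem D9602 : act 5 n7573 = n9602 := rfl
theorem F45042 : act 1 n9602 = n7980 := d12_1 D9602 (iv D7980) (iv F36060)
theorem F45043 : act 3 n9602 = n9602 := d25_1 D9602 (iv D9602) F36061
theorem F45044 : act 7 n9602 = n7972 := d36_2 (iv F36064) D9602 (iv D7972)
theorem F45045 : act 8 n9602 = n7973 := d37_2 D7573 D9602 (iv D7973) (iv D6318) (iv F28987)
theorem F45046 : act 9 n9602 = n7574 := d38_2 (iv F36065) D9602 (iv D7574)
def n9603 : Q := act 4 n7574
theorem D9603 : act 4 n7574 = n9603 := rfl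
theorem F45047 : act 1 n9603 = n7992 := d11_1 D9603 (iv D7992) (iv F36066)
theorem F45048 : act 5 n9603 = n7579 := d30_2 D7574 D9603 (iv D7579) (iv D6020) (iv F28992)
theorem F45049 : act 8 n9603 = n9603 := d33_2 F36068 D9603 (iv D9603)
def n9604 : Q := act 6 n7574
theorem D9604 : act 6 n7574 = n9604 := rfl
theorem F45050 : act 1 n9604 = n7993 := d13_1 D9604 (iv D7993) (iv F36066)
theorem F45051 : act 3 n9604 = n9604 := d26_1 D9604 (iv D9604) F36067
theorem F45052 : act 5 n9604 = n7645 := d35_1 D9604 (iv D7645) (iv D6071) (iv F28993) D7574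
theorem F45053 : act 8 n9604 = n9604 := d40_2 F36068 D9604 (iv D9604)
def n9605 : Q := act 5 n7575
theorem D9605 : act 5 n7575 = n9605 := rfl
theorem F45054 : act 1 n9605 = n7994 := d12_1 D9605 (iv D7994) (iv F36069)
theorem F45055 : act 3 n9605 = n7588 := d25_1 D9605 (iv D7588) (iv F36070)
theorem F45056 : act 7 n9605 = n7646 := d36_2 (iv F36073) D9605 (iv D7646)
theorem F45057 : act 8 n9605 = n9605 := d37_2 D7575 D9605 (iv D9605) (iv D7575) F28997
theorem F45058 : act 9 n9605 = n8046 := d38_2 (iv F36074) D9605 (iv D8046)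
def n9606 : Q := act 5 n7576
theorem D9606 : act 5 n7576 = n9606 := rfl
theorem F45059 : act 1 n9606 = n7979 := d12_1 D9606 (iv D7979) (iv F36075)
theorem F45060 : act 3 n9606 = n7589 := d25_1 D9606 (iv D7589) (iv F36076)
theorem F45061 : act 7 n9606 = n7578 := d36_2 (iv F36079) D9606 (iv D7578)
theorem F45062 : act 8 n9606 = n9606 := d37_2 D7576 D9606 (iv D9606) (iv D7576) F29003
theorem F45063 : act 9 n9606 = n7577 := d38_2 (iv F36080) D9606 (iv D7577)
def n9607 : Q := act 4 n7577
theorem D9607 : act 4 n7577 = n9607 := rfl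
theorem F45064 : act 1 n9607 = n7995 := d11_1 D9607 (iv D7995) (iv F36081)
theorem F45065 : act 7 n9607 = n7579 := d32_2 (iv F36083) D9607 (iv D7579)
theorem F45066 : act 8 n9607 = n7581 := d33_2 (iv F36084) D9607 (iv D7581)
def n9608 : Q := act 6 n7577
theorem D9608 : act 6 n7577 = n9608 := rfl
theorem F45067 : act 1 n9608 = n7996 := d13_1 D9608 (iv D7996) (iv F36081)
theorem F45068 : act 3 n9608 = n7591 := d26_1 D9608 (iv D7591) (iv F36082)
theorem F45069 : act 8 n9608 = n7582 := d40_2 (iv F36084) D9608 (iv D7582)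
def n9609 : Q := act 4 n7578
theorem D9609 : act 4 n7578 = n9609 := rfl
theorem F45070 : act 1 n9609 = n7997 := d11_1 D9609 (iv D7997) (iv F36085)
theorem F45071 : act 8 n9609 = n9609 := d33_2 F36087 D9609 (iv D9609)
theorem F45072 : act 9 n9609 = n7579 := d34_2 (iv F36088) D9609 (iv D7579)
def n9610 : Q := act 6 n7578
theorem D9610 : act 6 n7578 = n9610 := rfl
theorem F45073 : act 1 n9610 = n7998 := d13_1 D9610 (iv D7998) (iv F36085)
theorem F45074 : act 3 n9610 = n7593 := d26_1 D9610 (iv D7593) (iv F36086)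
theorem F45075 : act 5 n9610 = n7650 := d35_1 D9610 (iv D7650) (iv D6074) (iv F29011) D7578
theorem F45076 : act 8 n9610 = n9610 := d40_2 F36087 D9610 (iv D9610)
theorem F45077 : act 9 n9610 = n7580 := d41_2 (iv F36088) D9610 (iv D7580)
def n9611 : Q := act 3 n7579
theorem D9611 : act 3 n7579 = n9611 := rfl
theorem F45078 : act 1 n9611 = n7999 := d10_1 D9611 (iv D7999) (iv F36089)
theorem F45079 : act 4 n9611 = n7594 := d24_2 D7579 D9611 (iv D7594) (iv D6030) (iv F29014)
theorem F45080 : act 8 n9611 = n7583 := d28_2 (iv F36090) D9611 (iv D7583)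
def n9612 : Q := act 6 n7579
theorem D9612 : act 6 n7579 = n9612 := rfl
theorem F45081 : act 1 n9612 = n8000 := d13_1 D9612 (iv D8000) (iv F36089)
theorem F45082 : act 4 n9612 = n7580 := d31_1 D9612 (iv D7580) D7579
theorem F45083 : act 8 n9612 = n7584 := d40_2 (iv F36090) D9612 (iv D7584)
def n9613 : Q := act 7 n7580
theorem D9613 : act 7 n7580 = n9613 := rfl
theorem F45084 : act 1 n9613 = n8001 := d14_1 D9613 (iv D8001) (iv F36091)
theorem F45085 : act 3 n9613 = n7596 := d27_1 D9613 (iv D7596) (iv F36092)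
theorem F45086 : act 5 n9613 = n7653 := d36_1 D9613 (iv D7653) (iv F36093)
theorem F45087 : act 8 n9613 = n7585 := d42_2 (iv F36094) D9613 (iv D7585)
def n9614 : Q := act 3 n7581
theorem D9614 : act 3 n7581 = n9614 := rfl
theorem F45088 : act 1 n9614 = n8002 := d10_1 D9614 (iv D8002) (iv F36095)
theorem F45089 : act 4 n9614 = n7597 := d24_2 D7581 D9614 (iv D7597) (iv D6032) (iv F29017)
theorem F45090 : act 5 n9614 = n9614 := d25_2 F36096 D9614 (iv D9614)
theorem F45091 : act 7 n9614 = n7583 := d27_2 (iv F36097) D9614 (iv D7583)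
theorem F45092 : act 9 n9614 = n9614 := d29_2 F36098 D9614 (iv D9614)
def n9615 : Q := act 6 n7581
theorem D9615 : act 6 n7581 = n9615 := rfl
theorem F45093 : act 1 n9615 = n8003 := d13_1 D9615 (iv D8003) (iv F36095)
theorem F45094 : act 4 n9615 = n7582 := d31_1 D9615 (iv D7582) D7581
theorem F45095 : act 9 n9615 = n9615 := d41_2 F36098 D9615 (iv D9615)
def n9616 : Q := act 7 n7582
theorem D9616 : act 7 n7582 = n9616 := rfl
theorem F45096 : act 1 n9616 = n8004 := d14_1 D9616 (iv D8004) (iv F36099)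
theorem F45097 : act 3 n9616 = n7599 := d27_1 D9616 (iv D7599) (iv F36100)
theorem F45098 : act 5 n9616 = n9616 := d36_1 D9616 (iv D9616) F36101
theorem F45099 : act 6 n9616 = n7585 := d39_1 D9616 (iv D7585) (iv D6023) (iv F29018) D7582
theorem F45100 : act 9 n9616 = n9616 := d43_2 F36102 D9616 (iv D9616)
def n9617 : Q := act 2 n7583
theorem D9617 : act 2 n7583 = n9617 := rfl
theorem F45101 : act 4 n9617 = n7600 := d18_2 (iv F36104) D9617 (iv D7600)
theorem F45102 : act 5 n9617 = n9617 := d19_2 F36105 D9617 (iv D9617)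
theorem F45103 : act 9 n9617 = n9617 := d23_2 F36106 D9617 (iv D9617)
def n9618 : Q := act 6 n7583
theorem D9618 : act 6 n7583 = n9618 := rfl
theorem F45104 : act 1 n9618 = n8006 := d13_1 D9618 (iv D8006) (iv F36103)
theorem F45105 : act 3 n9618 = n7584 := d26_1 D9618 (iv D7584) D7583
theorem F45106 : act 4 n9618 = n7601 := d31_1 D9618 (iv D7601) (iv F36104)
theorem F45107 : act 9 n9618 = n9618 := d41_2 F36106 D9618 (iv D9618)
def n9619 : Q := act 5 n7584
theorem D9619 : act 5 n7584 = n9619 := rfl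
theorem F45108 : act 1 n9619 = n8007 := d12_1 D9619 (iv D8007) (iv F36107)
theorem F45109 : act 4 n9619 = n7586 := d30_1 D9619 (iv D7586) F29029 (iv F29025) (iv F36108)
theorem F45110 : act 6 n9619 = n9619 := d35_2 D7584 D9619 (iv D9619) (iv D7584) F29021
theorem F45111 : act 9 n9619 = n9619 := d38_2 F36109 D9619 (iv D9619)
def n9620 : Q := act 7 n7584
theorem D9620 : act 7 n7584 = n9620 := rfl
theorem F45112 : act 1 n9620 = n8008 := d14_1 D9620 (iv D8008) (iv F36107)
theorem F45113 : act 4 n9620 = n7585 := d32_1 D9620 (iv D7585) (iv F36108)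
theorem F45114 : act 9 n9620 = n9620 := d43_2 F36109 D9620 (iv D9620)
def n9621 : Q := act 7 n7586
theorem D9621 : act 7 n7586 = n9621 := rfl
theorem F45115 : act 1 n9621 = n8009 := d14_1 D9621 (iv D8009) (iv F36114)
theorem F45116 : act 3 n9621 = n9621 := d27_1 D9621 (iv D9621) F36115
theorem F45117 : act 5 n9621 = n7587 := d36_1 D9621 (iv D7587) D7586
theorem F45118 : act 9 n9621 = n9621 := d43_2 F36117 D9621 (iv D9621)
def n9622 : Q := act 8 n7586
theorem D9622 : act 8 n7586 = n9622 := rfl
theorem F45119 : act 1 n9622 = n8010 := d15_1 D9622 (iv D8010) (iv F36114)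
theorem F45120 : act 3 n9622 = n9622 := d28_1 D9622 (iv D9622) F36115
theorem F45121 : act 5 n9622 = n7662 := d37_1 D9622 (iv D7662) (iv D6082) (iv F29030) D7586
theorem F45122 : act 6 n9622 = n9622 := d40_1 D9622 (iv D9622) F36116
def n9623 : Q := act 4 n7588
theorem D9623 : act 4 n7588 = n9623 := rfl
theorem F45123 : act 1 n9623 = n8012 := d11_1 D9623 (iv D8012) (iv F36124)
theorem F45124 : act 5 n9623 = n9623 := d30_2 D7588 D9623 (iv D9623) (iv D7588) F29038
theorem F45125 : act 7 n9623 = n7663 := d32_2 (iv F36125) D9623 (iv D7663)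
theorem F45126 : act 8 n9623 = n9623 := d33_2 F36126 D9623 (iv D9623)
def n9624 : Q := act 6 n7588
theorem D9624 : act 6 n7588 = n9624 := rfl
theorem F45127 : act 1 n9624 = n8013 := d13_1 D9624 (iv D8013) (iv F36124)
theorem F45128 : act 5 n9624 = n7591 := d35_1 D9624 (iv D7591) (iv D6028) (iv F29039) D7588
theorem F45129 : act 8 n9624 = n9624 := d40_2 F36126 D9624 (iv D9624)
def n9625 : Q := act 4 n7589
theorem D9625 : act 4 n7589 = n9625 := rfl
theorem F45130 : act 1 n9625 = n8014 := d11_1 D9625 (iv D8014) (iv F36127)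
theorem F45131 : act 5 n9625 = n9625 := d30_2 D7589 D9625 (iv D9625) (iv D7589) F29042
theorem F45132 : act 7 n9625 = n7592 := d32_2 (iv F36128) D9625 (iv D7592)
theorem F45133 : act 8 n9625 = n9625 := d33_2 F36129 D9625 (iv D9625)
theorem F45134 : act 9 n9625 = n7590 := d34_2 (iv F36130) D9625 (iv D7590)
def n9626 : Q := act 6 n7589
theorem D9626 : act 6 n7589 = n9626 := rfl
theorem F45135 : act 1 n9626 = n8015 := d13_1 D9626 (iv D8015) (iv F36127)
theorem F45136 : act 8 n9626 = n9626 := d40_2 F36129 D9626 (iv D9626)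
theorem F45137 : act 9 n9626 = n7591 := d41_2 (iv F36130) D9626 (iv D7591)
def n9627 : Q := act 3 n7590
theorem D9627 : act 3 n7590 = n9627 := rfl
theorem F45138 : act 1 n9627 = n8016 := d10_1 D9627 (iv D8016) (iv F36131)
theorem F45139 : act 5 n9627 = n9627 := d25_2 F36132 D9627 (iv D9627)
theorem F45140 : act 7 n9627 = n7594 := d27_2 (iv F36133) D9627 (iv D7594)
theorem F45141 : act 8 n9627 = n7597 := d28_2 (iv F36134) D9627 (iv D7597)
def n9628 : Q := act 6 n7590
theorem D9628 : act 6 n7590 = n9628 := rfl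
theorem F45142 : act 1 n9628 = n8017 := d13_1 D9628 (iv D8017) (iv F36131)
theorem F45143 : act 4 n9628 = n7591 := d31_1 D9628 (iv D7591) D7590
theorem F45144 : act 8 n9628 = n7598 := d40_2 (iv F36134) D9628 (iv D7598)
def n9629 : Q := act 7 n7591
theorem D9629 : act 7 n7591 = n9629 := rfl
theorem F45145 : act 1 n9629 = n8018 := d14_1 D9629 (iv D8018) (iv F36135)
theorem F45146 : act 6 n9629 = n7596 := d39_1 D9629 (iv D7596) (iv D6031) (iv F29046) D7591
theorem F45147 : act 8 n9629 = n7599 := d42_2 (iv F36136) D9629 (iv D7599)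
def n9630 : Q := act 3 n7592
theorem D9630 : act 3 n7592 = n9630 := rfl
theorem F45148 : act 1 n9630 = n8019 := d10_1 D9630 (iv D8019) (iv F36137)
theorem F45149 : act 5 n9630 = n9630 := d25_2 F36138 D9630 (iv D9630)
theorem F45150 : act 8 n9630 = n9630 := d28_2 F36139 D9630 (iv D9630)
theorem F45151 : act 9 n9630 = n7594 := d29_2 (iv F36140) D9630 (iv D7594)
def n9631 : Q := act 6 n7592
theorem D9631 : act 6 n7592 = n9631 := rfl
theorem F45152 : act 1 n9631 = n8020 := d13_1 D9631 (iv D8020) (iv F36137)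
theorem F45153 : act 4 n9631 = n7593 := d31_1 D9631 (iv D7593) D7592
theorem F45154 : act 8 n9631 = n9631 := d40_2 F36139 D9631 (iv D9631)
theorem F45155 : act 9 n9631 = n7595 := d41_2 (iv F36140) D9631 (iv D7595)
def n9632 : Q := act 7 n7593
theorem D9632 : act 7 n7593 = n9632 := rfl
theorem F45156 : act 1 n9632 = n8021 := d14_1 D9632 (iv D8021) (iv F36141)
theorem F45157 : act 5 n9632 = n7670 := d36_1 D9632 (iv D7670) (iv F36142)
theorem F45158 : act 8 n9632 = n9632 := d42_2 F36143 D9632 (iv D9632)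
theorem F45159 : act 9 n9632 = n7596 := d43_2 (iv F36144) D9632 (iv D7596)
def n9633 : Q := act 2 n7594
theorem D9633 : act 2 n7594 = n9633 := rfl
theorem F45160 : act 5 n9633 = n9633 := d19_2 F36146 D9633 (iv D9633)
theorem F45161 : act 8 n9633 = n7600 := d22_2 (iv F36147) D9633 (iv D7600)
def n9634 : Q := act 6 n7594
theorem D9634 : act 6 n7594 = n9634 := rfl
theorem F45162 : act 1 n9634 = n8023 := d13_1 D9634 (iv D8023) (iv F36145)
theorem F45163 : act 3 n9634 = n7595 := d26_1 D9634 (iv D7595) D7594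
theorem F45164 : act 8 n9634 = n7601 := d40_2 (iv F36147) D9634 (iv D7601)
def n9635 : Q := act 5 n7595
theorem D9635 : act 5 n7595 = n9635 := rfl
theorem F45165 : act 1 n9635 = n8024 := d12_1 D9635 (iv D8024) (iv F36148)
theorem F45166 : act 4 n9635 = n7673 := d30_1 D9635 (iv D7673) F29261 (iv F29055) (iv F36149)
theorem F45167 : act 6 n9635 = n9635 := d35_2 D7595 D9635 (iv D9635) (iv D7595) F29052
theorem F45168 : act 8 n9635 = n9635 := d37_2 (iv F36150) D9635 (iv D9635) F36150 F29069
def n9636 : Q := act 7 n7595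
theorem D9636 : act 7 n7595 = n9636 := rfl
theorem F45169 : act 1 n9636 = n8025 := d14_1 D9636 (iv D8025) (iv F36148)
theorem F45170 : act 4 n9636 = n7596 := d32_1 D9636 (iv D7596) (iv F36149)
theorem F45171 : act 8 n9636 = n7602 := d42_2 (iv F36150) D9636 (iv D7602)
def n9637 : Q := act 2 n7597
theorem D9637 : act 2 n7597 = n9637 := rfl
theorem F45172 : act 5 n9637 = n7603 := d19_2 (iv F36155) D9637 (iv D7603)
theorem F45173 : act 7 n9637 = n7600 := d21_2 (iv F36156) D9637 (iv D7600)
theorem F45174 : act 9 n9637 = n9637 := d23_2 F36157 D9637 (iv D9637)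
def n9638 : Q := act 6 n7597
theorem D9638 : act 6 n7597 = n9638 := rfl
theorem F45175 : act 1 n9638 = n8027 := d13_1 D9638 (iv D8027) (iv F36154)
theorem F45176 : act 3 n9638 = n7598 := d26_1 D9638 (iv D7598) D7597
theorem F45177 : act 9 n9638 = n9638 := d41_2 F36157 D9638 (iv D9638)
def n9639 : Q := act 5 n7598
theorem D9639 : act 5 n7598 = n9639 := rfl
theorem F45178 : act 1 n9639 = n8028 := d12_1 D9639 (iv D8028) (iv F36158)
theorem F45179 : act 4 n9639 = n9639 := d30_1 D9639 (iv D9639) F36159 F29062 (iv F36159)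
theorem F45180 : act 6 n9639 = n7605 := d35_2 D7598 D9639 (iv D7605) (iv D6038) (iv F29058)
theorem F45181 : act 9 n9639 = n9639 := d38_2 F36160 D9639 (iv D9639)
def n9640 : Q := act 7 n7598
theorem D9640 : act 7 n7598 = n9640 := rfl
theorem F45182 : act 1 n9640 = n8029 := d14_1 D9640 (iv D8029) (iv F36158)
theorem F45183 : act 4 n9640 = n7599 := d32_1 D9640 (iv D7599) (iv F36159)
theorem F45184 : act 6 n9640 = n7602 := d39_1 D9640 (iv D7602) (iv D6035) (iv F29059) D7598
theorem F45185 : act 9 n9640 = n9640 := d43_2 F36160 D9640 (iv D9640)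
def n9641 : Q := act 1 n7600
theorem D9641 : act 1 n7600 = n9641 := rfl
theorem F45186 : act 2 n9641 = n8030 := d9_2 D7600 D9641 (iv D8030) (iv D6358) (iv F29064)
theorem F45187 : act 5 n9641 = n7606 := d12_2 (iv F36165) D9641 (iv D7606)
theorem F45188 : act 9 n9641 = n9641 := d16_2 F36166 D9641 (iv D9641)
def n9642 : Q := act 6 n7600
theorem D9642 : act 6 n7600 = n9642 := rfl
theorem F45189 : act 2 n9642 = n7601 := d20_1 D9642 (iv D7601) D7600
theorem F45190 : act 5 n9642 = n9642 := d35_1 D9642 (iv D9642) F36165 F29085 (iv F36165)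
theorem F45191 : act 9 n9642 = n9642 := d41_2 F36166 D9642 (iv D9642)
def n9643 : Q := act 7 n7601
theorem D9643 : act 7 n7601 = n9643 := rfl
theorem F45192 : act 1 n9643 = n8032 := d14_1 D9643 (iv D8032) (iv F36167)
theorem F45193 : act 3 n9643 = n7602 := d27_1 D9643 (iv D7602) (iv F36168)
theorem F45194 : act 5 n9643 = n9643 := d36_1 D9643 (iv D9643) F36169
theorem F45195 : act 9 n9643 = n9643 := d43_2 F36170 D9643 (iv D9643)
def n9644 : Q := act 1 n7603
theorem D9644 : act 1 n7603 = n9644 := rfl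
theorem F45196 : act 2 n9644 = n8033 := d9_2 D7603 D9644 (iv D8033) (iv D6361) (iv F29074)
theorem F45197 : act 4 n9644 = n9644 := d11_2 F36175 D9644 (iv D9644)
theorem F45198 : act 7 n9644 = n7606 := d14_2 (iv F36176) D9644 (iv D7606)
theorem F45199 : act 8 n9644 = n9644 := d15_2 F36177 D9644 (iv D9644)
theorem F45200 : act 9 n9644 = n9644 := d16_2 F36178 D9644 (iv D9644)
def n9645 : Q := act 6 n7603
theorem D9645 : act 6 n7603 = n9645 := rfl
theorem F45201 : act 2 n9645 = n7604 := d20_1 D9645 (iv D7604) D7603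
theorem F45202 : act 4 n9645 = n9645 := d31_1 D9645 (iv D9645) F36175
theorem F45203 : act 7 n9645 = n9645 := d39_2 (iv F36176) D9645 (iv D9645) F36176 F29085
theorem F45204 : act 8 n9645 = n9645 := d40_2 F36177 D9645 (iv D9645)
theorem F45205 : act 9 n9645 = n9645 := d41_2 F36178 D9645 (iv D9645)
def n9646 : Q := act 5 n7604
theorem D9646 : act 5 n7604 = n9646 := rfl
theorem F45206 : act 1 n9646 = n8035 := d12_1 D9646 (iv D8035) (iv F36179)
theorem F45207 : act 3 n9646 = n7605 := d25_1 D9646 (iv D7605) (iv F36180)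
theorem F45208 : act 7 n9646 = n9646 := d36_2 F36182 D9646 (iv D9646)
theorem F45209 : act 9 n9646 = n9646 := d38_2 F36184 D9646 (iv D9646)
def n9647 : Q := act 8 n7605
theorem D9647 : act 8 n7605 = n9647 := rfl
theorem F45210 : act 1 n9647 = n8036 := d15_1 D9647 (iv D8036) (iv F36185)
theorem F45211 : act 4 n9647 = n9647 := d33_1 D9647 (iv D9647) F36186
theorem F45212 : act 5 n9647 = n9647 := d37_1 D9647 (iv D9647) (iv D7605) F29082 D7605
theorem F45213 : act 7 n9647 = n9647 := d42_1 D9647 (iv D9647) F36187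
def n9648 : Q := act 0 n7606
theorem D9648 : act 0 n7606 = n9648 := rfl
theorem F45214 : act 2 n9648 = n8037 := d1_2 (iv F36189) D9648 (iv D8037)
theorem F45215 : act 4 n9648 = n9648 := d3_2 F36190 D9648 (iv D9648)
theorem F45216 : act 6 n9648 = n9648 := d5_2 F36191 D9648 (iv D9648)
theorem F45217 : act 8 n9648 = n9648 := d7_2 F36192 D9648 (iv D9648)
theorem F45218 : act 9 n9648 = n9648 := d8_2 F36193 D9648 (iv D9648)
def n9649 : Q := act 8 n7607
theorem D9649 : act 8 n7607 = n9649 := rfl
theorem F45219 : act 0 n9649 = n7615 := d7_1 D9649 (iv D7615) (iv F36194)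
theorem F45220 : act 2 n9649 = n8038 := d22_1 D9649 (iv D8038) (iv F36195)
theorem F45221 : act 9 n9649 = n7608 := d44_2 D7607 D9649 (iv D7608) (iv D6041) D6040
def n9650 : Q := act 5 n7608
theorem D9650 : act 5 n7608 = n9650 := rfl
theorem F45222 : act 0 n9650 = n7616 := d4_1 D9650 (iv D7616) (iv F36197)
theorem F45223 : act 2 n9650 = n8039 := d19_1 D9650 (iv D8039) (iv F36198)
theorem F45224 : act 8 n9650 = n7610 := d37_2 D7608 D9650 (iv D7610) (iv D6043) (iv F29093)
def n9651 : Q := act 5 n7609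
theorem D9651 : act 5 n7609 = n9651 := rfl
theorem F45225 : act 0 n9651 = n7617 := d4_1 D9651 (iv D7617) (iv F36199)
theorem F45226 : act 2 n9651 = n8040 := d19_1 D9651 (iv D8040) (iv F36200)
theorem F45227 : act 7 n9651 = n7610 := d36_2 (iv F36203) D9651 (iv D7610)
theorem F45228 : act 9 n9651 = n7689 := d38_2 (iv F36204) D9651 (iv D7689)
def n9652 : Q := act 4 n7610
theorem D9652 : act 4 n7610 = n9652 := rfl
theorem F45229 : act 0 n9652 = n7618 := d3_1 D9652 (iv D7618) (iv F36205)
theorem F45230 : act 2 n9652 = n8041 := d18_1 D9652 (iv D8041) (iv F36206)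
theorem F45231 : act 5 n9652 = n7776 := d30_2 D7610 D9652 (iv D7776) (iv D6171) (iv F29101)
theorem F45232 : act 9 n9652 = n7690 := d34_2 (iv F36207) D9652 (iv D7690)
def n9653 : Q := act 6 n7610
theorem D9653 : act 6 n7610 = n9653 := rfl
theorem F45233 : act 0 n9653 = n7619 := d5_1 D9653 (iv D7619) (iv F36205)
theorem F45234 : act 2 n9653 = n8042 := d20_1 D9653 (iv D8042) (iv F36206)
theorem F45235 : act 5 n9653 = n7612 := d35_1 D9653 (iv D7612) (iv D6044) (iv F29102) D7610
theorem F45236 : act 9 n9653 = n7691 := d41_2 (iv F36207) D9653 (iv D7691)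
def n9654 : Q := act 3 n7611
theorem D9654 : act 3 n7611 = n9654 := rfl
theorem F45237 : act 0 n9654 = n7620 := d2_1 D9654 (iv D7620) (iv F36208)
theorem F45238 : act 5 n9654 = n7778 := d25_2 (iv F36210) D9654 (iv D7778)
theorem F45239 : act 7 n9654 = n9654 := d27_2 F36211 D9654 (iv D9654)
theorem F45240 : act 9 n9654 = n7692 := d29_2 (iv F36212) D9654 (iv D7692)
def n9655 : Q := act 6 n7611
theorem D9655 : act 6 n7611 = n9655 := rfl
theorem F45241 : act 0 n9655 = n7621 := d5_1 D9655 (iv D7621) (iv F36208)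
theorem F45242 : act 2 n9655 = n8044 := d20_1 D9655 (iv D8044) (iv F36209)
theorem F45243 : act 4 n9655 = n7612 := d31_1 D9655 (iv D7612) D7611
theorem F45244 : act 9 n9655 = n7693 := d41_2 (iv F36212) D9655 (iv D7693)
def n9656 : Q := act 7 n7612
theorem D9656 : act 7 n7612 = n9656 := rfl
theorem F45245 : act 0 n9656 = n7622 := d6_1 D9656 (iv D7622) (iv F36213)
theorem F45246 : act 2 n9656 = n8045 := d21_1 D9656 (iv D8045) (iv F36214)
theorem F45247 : act 6 n9656 = n9656 := d39_1 D9656 (iv D9656) (iv D7612) F29106 D7612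
theorem F45248 : act 9 n9656 = n7694 := d43_2 (iv F36215) D9656 (iv D7694)
def n9657 : Q := act 5 n7613
theorem D9657 : act 5 n7613 = n9657 := rfl
theorem F45249 : act 1 n9657 = n7627 := d12_1 D9657 (iv D7627) (iv F36216)
theorem F45250 : act 2 n9657 = n8046 := d19_1 D9657 (iv D8046) (iv F36217)
theorem F45251 : act 8 n9657 = n7781 := d37_2 D7613 D9657 (iv D7781) (iv D6174) (iv F29111)
def n9658 : Q := act 5 n7614
theorem D9658 : act 5 n7614 = n9658 := rfl
theorem F45252 : act 1 n9658 = n7629 := d12_1 D9658 (iv D7629) (iv F36219)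
theorem F45253 : act 2 n9658 = n8047 := d19_1 D9658 (iv D8047) (iv F36220)
theorem F45254 : act 7 n9658 = n7616 := d36_2 (iv F36221) D9658 (iv D7616)
theorem F45255 : act 8 n9658 = n7617 := d37_2 D7614 D9658 (iv D7617) (iv D6049) (iv F29114)
def n9659 : Q := act 5 n7615
theorem D9659 : act 5 n7615 = n9659 := rfl
theorem F45256 : act 1 n9659 = n7630 := d12_1 D9659 (iv D7630) (iv F36222)
theorem F45257 : act 2 n9659 = n8048 := d19_1 D9659 (iv D8048) (iv F36223)
theorem F45258 : act 8 n9659 = n7695 := d37_2 D7615 D9659 (iv D7695) (iv D6108) (iv F29118)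
theorem F45259 : act 9 n9659 = n7616 := d38_2 (iv F36224) D9659 (iv D7616)
def n9660 : Q := act 4 n7616
theorem D9660 : act 4 n7616 = n9660 := rfl
theorem F45260 : act 1 n9660 = n7631 := d11_1 D9660 (iv D7631) (iv F36225)
theorem F45261 : act 2 n9660 = n8049 := d18_1 D9660 (iv D8049) (iv F36226)
theorem F45262 : act 8 n9660 = n7618 := d33_2 (iv F36227) D9660 (iv D7618)
def n9661 : Q := act 6 n7616
theorem D9661 : act 6 n7616 = n9661 := rfl
theorem F45263 : act 1 n9661 = n7632 := d13_1 D9661 (iv D7632) (iv F36225)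
theorem F45264 : act 2 n9661 = n8050 := d20_1 D9661 (iv D8050) (iv F36226)
theorem F45265 : act 8 n9661 = n7619 := d40_2 (iv F36227) D9661 (iv D7619)
def n9662 : Q := act 4 n7617
theorem D9662 : act 4 n7617 = n9662 := rfl
theorem F45266 : act 1 n9662 = n7633 := d11_1 D9662 (iv D7633) (iv F36228)
theorem F45267 : act 2 n9662 = n8051 := d18_1 D9662 (iv D8051) (iv F36229)
theorem F45268 : act 5 n9662 = n7785 := d30_2 D7617 D9662 (iv D7785) (iv D6177) (iv F29123)
theorem F45269 : act 7 n9662 = n7618 := d32_2 (iv F36230) D9662 (iv D7618)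
theorem F45270 : act 9 n9662 = n7698 := d34_2 (iv F36231) D9662 (iv D7698)
def n9663 : Q := act 6 n7617
theorem D9663 : act 6 n7617 = n9663 := rfl
theorem F45271 : act 1 n9663 = n7634 := d13_1 D9663 (iv D7634) (iv F36228)
theorem F45272 : act 2 n9663 = n8052 := d20_1 D9663 (iv D8052) (iv F36229)
theorem F45273 : act 5 n9663 = n9663 := d35_1 D9663 (iv D9663) (iv D7617) F29124 D7617
theorem F45274 : act 9 n9663 = n7699 := d41_2 (iv F36231) D9663 (iv D7699)
def n9664 : Q := act 3 n7618
theorem D9664 : act 3 n7618 = n9664 := rfl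
theorem F45275 : act 1 n9664 = n7635 := d10_1 D9664 (iv D7635) (iv F36232)
theorem F45276 : act 5 n9664 = n7787 := d25_2 (iv F36234) D9664 (iv D7787)
theorem F45277 : act 9 n9664 = n7700 := d29_2 (iv F36235) D9664 (iv D7700)
def n9665 : Q := act 6 n7618
theorem D9665 : act 6 n7618 = n9665 := rfl
theorem F45278 : act 1 n9665 = n7636 := d13_1 D9665 (iv D7636) (iv F36232)
theorem F45279 : act 2 n9665 = n8054 := d20_1 D9665 (iv D8054) (iv F36233)
theorem F45280 : act 4 n9665 = n7619 := d31_1 D9665 (iv D7619) D7618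
theorem F45281 : act 9 n9665 = n7701 := d41_2 (iv F36235) D9665 (iv D7701)
def n9666 : Q := act 7 n7619
theorem D9666 : act 7 n7619 = n9666 := rfl
theorem F45282 : act 1 n9666 = n7637 := d14_1 D9666 (iv D7637) (iv F36236)
theorem F45283 : act 2 n9666 = n8055 := d21_1 D9666 (iv D8055) (iv F36237)
theorem F45284 : act 5 n9666 = n7622 := d36_1 D9666 (iv D7622) (iv F36238)
theorem F45285 : act 9 n9666 = n7702 := d43_2 (iv F36239) D9666 (iv D7702)
def n9667 : Q := act 2 n7620
theorem D9667 : act 2 n7620 = n9667 := rfl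
theorem F45290 : act 9 n9667 = n7703 := d23_2 (iv F36243) D9667 (iv D7703)
def n9668 : Q := act 6 n7620
theorem D9668 : act 6 n7620 = n9668 := rfl
theorem F45291 : act 1 n9668 = n7638 := d13_1 D9668 (iv D7638) (iv F36240)
theorem F45292 : act 3 n9668 = n7621 := d26_1 D9668 (iv D7621) D7620
theorem F45293 : act 9 n9668 = n7704 := d41_2 (iv F36243) D9668 (iv D7704)
def n9669 : Q := act 5 n7621
theorem D9669 : act 5 n7621 = n9669 := rfl
theorem F45294 : act 1 n9669 = n7639 := d12_1 D9669 (iv D7639) (iv F36244)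
theorem F45295 : act 2 n9669 = n8058 := d19_1 D9669 (iv D8058) (iv F36245)
theorem F45296 : act 6 n9669 = n7792 := d35_2 D7621 D9669 (iv D7792) (iv D6181) (iv F29132)
theorem F45297 : act 9 n9669 = n7705 := d38_2 (iv F36247) D9669 (iv D7705)
def n9670 : Q := act 7 n7621
theorem D9670 : act 7 n7621 = n9670 := rfl
theorem F45298 : act 1 n9670 = n7640 := d14_1 D9670 (iv D7640) (iv F36244)
theorem F45299 : act 2 n9670 = n8059 := d21_1 D9670 (iv D8059) (iv F36245)
theorem F45300 : act 4 n9670 = n7622 := d32_1 D9670 (iv D7622) (iv F36246)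
theorem F45301 : act 6 n9670 = n9670 := d39_1 D9670 (iv D9670) (iv D7621) F29133 D7621
theorem F45302 : act 9 n9670 = n7706 := d43_2 (iv F36247) D9670 (iv D7706)
def n9671 : Q := act 8 n7623
theorem D9671 : act 8 n7623 = n9671 := rfl
theorem F45303 : act 2 n9671 = n9671 := d22_1 D9671 (iv D9671) F36252
theorem F45304 : act 3 n9671 = n7626 := d28_1 D9671 (iv D7626) (iv F36253)
theorem F45305 : act 9 n9671 = n7624 := d44_2 D7623 D9671 (iv D7624) (iv D6054) D6053
def n9672 : Q := act 5 n7624
theorem D9672 : act 5 n7624 = n9672 := rfl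
theorem F45306 : act 2 n9672 = n9672 := d19_1 D9672 (iv D9672) F36255
theorem F45307 : act 3 n9672 = n7627 := d25_1 D9672 (iv D7627) (iv F36256)
theorem F45308 : act 8 n9672 = n7794 := d37_2 D7624 D9672 (iv D7794) (iv D6183) (iv F29143)
def n9673 : Q := act 5 n7625
theorem D9673 : act 5 n7625 = n9673 := rfl
theorem F45309 : act 2 n9673 = n7642 := d19_1 D9673 (iv D7642) (iv F36257)
theorem F45310 : act 7 n9673 = n7627 := d36_2 (iv F36259) D9673 (iv D7627)
theorem F45311 : act 8 n9673 = n7795 := d37_2 D7625 D9673 (iv D7795) (iv D6184) (iv F29146)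
def n9674 : Q := act 5 n7626
theorem D9674 : act 5 n7626 = n9674 := rfl
theorem F45312 : act 2 n9674 = n7643 := d19_1 D9674 (iv D7643) (iv F36260)
theorem F45313 : act 8 n9674 = n9674 := d37_2 D7626 D9674 (iv D9674) (iv D7626) F29150
theorem F45314 : act 9 n9674 = n7627 := d38_2 (iv F36262) D9674 (iv D7627)
def n9675 : Q := act 4 n7627
theorem D9675 : act 4 n7627 = n9675 := rfl
theorem F45315 : act 2 n9675 = n7644 := d18_1 D9675 (iv D7644) (iv F36263)
theorem F45316 : act 5 n9675 = n7631 := d30_2 D7627 D9675 (iv D7631) (iv D6061) (iv F29152)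
theorem F45317 : act 8 n9675 = n7796 := d33_2 (iv F36264) D9675 (iv D7796)
def n9676 : Q := act 6 n7627
theorem D9676 : act 6 n7627 = n9676 := rfl
theorem F45318 : act 2 n9676 = n7645 := d20_1 D9676 (iv D7645) (iv F36263)
theorem F45319 : act 8 n9676 = n7797 := d40_2 (iv F36264) D9676 (iv D7797)
def n9677 : Q := act 5 n7628
theorem D9677 : act 5 n7628 = n9677 := rfl
theorem F45320 : act 2 n9677 = n7646 := d19_1 D9677 (iv D7646) (iv F36265)
theorem F45321 : act 8 n9677 = n9677 := d37_2 D7628 D9677 (iv D9677) (iv D7628) F29154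
def n9678 : Q := act 4 n7629
theorem D9678 : act 4 n7629 = n9678 := rfl
theorem F45322 : act 2 n9678 = n7647 := d18_1 D9678 (iv D7647) (iv F36267)
theorem F45323 : act 7 n9678 = n7631 := d32_2 (iv F36268) D9678 (iv D7631)
theorem F45324 : act 8 n9678 = n7633 := d33_2 (iv F36269) D9678 (iv D7633)
def n9679 : Q := act 6 n7629
theorem D9679 : act 6 n7629 = n9679 := rfl
theorem F45325 : act 2 n9679 = n7648 := d20_1 D9679 (iv D7648) (iv F36267)
theorem F45326 : act 8 n9679 = n7634 := d40_2 (iv F36269) D9679 (iv D7634)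
def n9680 : Q := act 4 n7630
theorem D9680 : act 4 n7630 = n9680 := rfl
theorem F45327 : act 2 n9680 = n7649 := d18_1 D9680 (iv D7649) (iv F36270)
theorem F45328 : act 8 n9680 = n7707 := d33_2 (iv F36271) D9680 (iv D7707)
theorem F45329 : act 9 n9680 = n7631 := d34_2 (iv F36272) D9680 (iv D7631)
def n9681 : Q := act 6 n7630
theorem D9681 : act 6 n7630 = n9681 := rfl
theorem F45330 : act 2 n9681 = n7650 := d20_1 D9681 (iv D7650) (iv F36270)
theorem F45331 : act 8 n9681 = n7708 := d40_2 (iv F36271) D9681 (iv D7708)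
theorem F45332 : act 9 n9681 = n7632 := d41_2 (iv F36272) D9681 (iv D7632)
def n9682 : Q := act 3 n7631
theorem D9682 : act 3 n7631 = n9682 := rfl
theorem F45333 : act 8 n9682 = n7635 := d28_2 (iv F36274) D9682 (iv D7635)
def n9683 : Q := act 6 n7631
theorem D9683 : act 6 n7631 = n9683 := rfl
theorem F45334 : act 2 n9683 = n7652 := d20_1 D9683 (iv D7652) (iv F36273)
theorem F45335 : act 4 n9683 = n7632 := d31_1 D9683 (iv D7632) D7631
theorem F45336 : act 8 n9683 = n7636 := d40_2 (iv F36274) D9683 (iv D7636)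
def n9684 : Q := act 7 n7632
theorem D9684 : act 7 n7632 = n9684 := rfl
theorem F45337 : act 2 n9684 = n7653 := d21_1 D9684 (iv D7653) (iv F36275)
theorem F45338 : act 8 n9684 = n7637 := d42_2 (iv F36276) D9684 (iv D7637)
def n9685 : Q := act 3 n7633
theorem D9685 : act 3 n7633 = n9685 := rfl
theorem F45339 : act 5 n9685 = n7804 := d25_2 (iv F36278) D9685 (iv D7804)
theorem F45340 : act 7 n9685 = n7635 := d27_2 (iv F36279) D9685 (iv D7635)
theorem F45341 : act 9 n9685 = n7712 := d29_2 (iv F36280) D9685 (iv D7712)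
def n9686 : Q := act 6 n7633
theorem D9686 : act 6 n7633 = n9686 := rfl
theorem F45342 : act 2 n9686 = n7655 := d20_1 D9686 (iv D7655) (iv F36277)
theorem F45343 : act 4 n9686 = n7634 := d31_1 D9686 (iv D7634) D7633
theorem F45344 : act 9 n9686 = n7713 := d41_2 (iv F36280) D9686 (iv D7713)
def n9687 : Q := act 7 n7634
theorem D9687 : act 7 n7634 = n9687 := rfl
theorem F45345 : act 2 n9687 = n7656 := d21_1 D9687 (iv D7656) (iv F36281)
theorem F45346 : act 5 n9687 = n9687 := d36_1 D9687 (iv D9687) F36282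
theorem F45347 : act 6 n9687 = n7637 := d39_1 D9687 (iv D7637) (iv D6064) (iv F29163) D7634
theorem F45348 : act 9 n9687 = n7714 := d43_2 (iv F36283) D9687 (iv D7714)
def n9688 : Q := act 2 n7635
theorem D9688 : act 2 n7635 = n9688 := rfl
theorem F45349 : act 3 n9688 = n7657 := d17_2 D7635 D9688 (iv D7657) (iv D6079) (iv F29165)
theorem F45350 : act 5 n9688 = n7807 := d19_2 (iv F36284) D9688 (iv D7807)
theorem F45351 : act 9 n9688 = n7715 := d23_2 (iv F36285) D9688 (iv D7715)
def n9689 : Q := act 6 n7635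
theorem D9689 : act 6 n7635 = n9689 := rfl
theorem F45352 : act 3 n9689 = n7636 := d26_1 D9689 (iv D7636) D7635
theorem F45353 : act 9 n9689 = n7716 := d41_2 (iv F36285) D9689 (iv D7716)
def n9690 : Q := act 5 n7636
theorem D9690 : act 5 n7636 = n9690 := rfl
theorem F45354 : act 2 n9690 = n7659 := d19_1 D9690 (iv D7659) (iv F36286)
theorem F45355 : act 4 n9690 = n7639 := d30_1 D9690 (iv D7639) F29176 (iv F29169) (iv F36287)
theorem F45356 : act 6 n9690 = n7809 := d35_2 D7636 D9690 (iv D7809) (iv D6193) (iv F29166)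
theorem F45357 : act 9 n9690 = n7717 := d38_2 (iv F36288) D9690 (iv D7717)
def n9691 : Q := act 7 n7636
theorem D9691 : act 7 n7636 = n9691 := rfl
theorem F45358 : act 2 n9691 = n7660 := d21_1 D9691 (iv D7660) (iv F36286)
theorem F45359 : act 4 n9691 = n7637 := d32_1 D9691 (iv D7637) (iv F36287)
theorem F45360 : act 9 n9691 = n7718 := d43_2 (iv F36288) D9691 (iv D7718)
def n9692 : Q := act 5 n7638
theorem D9692 : act 5 n7638 = n9692 := rfl
theorem F45361 : act 2 n9692 = n9692 := d19_1 D9692 (iv D9692) F36292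
theorem F45362 : act 3 n9692 = n7639 := d25_1 D9692 (iv D7639) (iv F36293)
theorem F45363 : act 6 n9692 = n7811 := d35_2 D7638 D9692 (iv D7811) (iv D6195) (iv F29172)
theorem F45364 : act 9 n9692 = n7719 := d38_2 (iv F36294) D9692 (iv D7719)
def n9693 : Q := act 7 n7638
theorem D9693 : act 7 n7638 = n9693 := rfl
theorem F45365 : act 2 n9693 = n9693 := d21_1 D9693 (iv D9693) F36292
theorem F45366 : act 3 n9693 = n7640 := d27_1 D9693 (iv D7640) (iv F36293)
theorem F45367 : act 6 n9693 = n9693 := d39_1 D9693 (iv D9693) (iv D7638) F29173 D7638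
theorem F45368 : act 9 n9693 = n7720 := d43_2 (iv F36294) D9693 (iv D7720)
def n9694 : Q := act 7 n7639
theorem D9694 : act 7 n7639 = n9694 := rfl
theorem F45369 : act 2 n9694 = n7661 := d21_1 D9694 (iv D7661) (iv F36295)
theorem F45370 : act 5 n9694 = n7640 := d36_1 D9694 (iv D7640) D7639
theorem F45371 : act 9 n9694 = n7721 := d43_2 (iv F36297) D9694 (iv D7721)
def n9695 : Q := act 8 n7639
theorem D9695 : act 8 n7639 = n9695 := rfl
theorem F45372 : act 2 n9695 = n7662 := d22_1 D9695 (iv D7662) (iv F36295)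
theorem F45373 : act 6 n9695 = n7814 := d40_1 D9695 (iv D7814) (iv F36296)
def n9696 : Q := act 5 n7641
theorem D9696 : act 5 n7641 = n9696 := rfl
theorem F45374 : act 1 n9696 = n8064 := d12_1 D9696 (iv D8064) (iv F36302)
theorem F45375 : act 3 n9696 = n9696 := d25_1 D9696 (iv D9696) F36303
theorem F45376 : act 7 n9696 = n8048 := d36_2 (iv F36306) D9696 (iv D8048)
theorem F45377 : act 8 n9696 = n8166 := d37_2 D7641 D9696 (iv D8166) (iv D6456) (iv F29184)
theorem F45378 : act 9 n9696 = n8047 := d38_2 (iv F36307) D9696 (iv D8047)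
def n9697 : Q := act 4 n7642
theorem D9697 : act 4 n7642 = n9697 := rfl
theorem F45379 : act 1 n9697 = n8083 := d11_1 D9697 (iv D8083) (iv F36308)
theorem F45380 : act 5 n9697 = n7647 := d30_2 D7642 D9697 (iv D7647) (iv D6073) (iv F29189)
theorem F45381 : act 7 n9697 = n7644 := d32_2 (iv F36310) D9697 (iv D7644)
theorem F45382 : act 8 n9697 = n7816 := d33_2 (iv F36311) D9697 (iv D7816)
def n9698 : Q := act 6 n7642
theorem D9698 : act 6 n7642 = n9698 := rfl
theorem F45383 : act 1 n9698 = n8084 := d13_1 D9698 (iv D8084) (iv F36308)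
theorem F45384 : act 3 n9698 = n9698 := d26_1 D9698 (iv D9698) F36309
theorem F45385 : act 8 n9698 = n7817 := d40_2 (iv F36311) D9698 (iv D7817)
def n9699 : Q := act 4 n7643
theorem D9699 : act 4 n7643 = n9699 := rfl
theorem F45386 : act 1 n9699 = n8085 := d11_1 D9699 (iv D8085) (iv F36312)
theorem F45387 : act 5 n9699 = n7649 := d30_2 D7643 D9699 (iv D7649) (iv D6074) (iv F29193)
theorem F45388 : act 8 n9699 = n9699 := d33_2 F36314 D9699 (iv D9699)
theorem F45389 : act 9 n9699 = n7644 := d34_2 (iv F36315) D9699 (iv D7644)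
def n9700 : Q := act 6 n7643
theorem D9700 : act 6 n7643 = n9700 := rfl
theorem F45390 : act 1 n9700 = n8086 := d13_1 D9700 (iv D8086) (iv F36312)
theorem F45391 : act 3 n9700 = n9700 := d26_1 D9700 (iv D9700) F36313
theorem F45392 : act 8 n9700 = n9700 := d40_2 F36314 D9700 (iv D9700)
theorem F45393 : act 9 n9700 = n7645 := d41_2 (iv F36315) D9700 (iv D7645)
def n9701 : Q := act 3 n7644
theorem D9701 : act 3 n7644 = n9701 := rfl
theorem F45394 : act 1 n9701 = n8087 := d10_1 D9701 (iv D8087) (iv F36316)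
theorem F45395 : act 4 n9701 = n9701 := d24_2 D7644 D9701 (iv D9701) (iv D7644) F29196
theorem F45396 : act 5 n9701 = n7651 := d25_2 (iv F36317) D9701 (iv D7651)
theorem F45397 : act 8 n9701 = n7818 := d28_2 (iv F36318) D9701 (iv D7818)
def n9702 : Q := act 6 n7644
theorem D9702 : act 6 n7644 = n9702 := rfl
theorem F45398 : act 1 n9702 = n8088 := d13_1 D9702 (iv D8088) (iv F36316)
theorem F45399 : act 4 n9702 = n7645 := d31_1 D9702 (iv D7645) D7644
theorem F45400 : act 8 n9702 = n7819 := d40_2 (iv F36318) D9702 (iv D7819)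
def n9703 : Q := act 7 n7645
theorem D9703 : act 7 n7645 = n9703 := rfl
theorem F45401 : act 1 n9703 = n8089 := d14_1 D9703 (iv D8089) (iv F36319)
theorem F45402 : act 3 n9703 = n9703 := d27_1 D9703 (iv D9703) F36320
theorem F45403 : act 8 n9703 = n7820 := d42_2 (iv F36321) D9703 (iv D7820)
def n9704 : Q := act 4 n7646
theorem D9704 : act 4 n7646 = n9704 := rfl
theorem F45404 : act 1 n9704 = n8090 := d11_1 D9704 (iv D8090) (iv F36322)
theorem F45405 : act 8 n9704 = n9704 := d33_2 F36324 D9704 (iv D9704)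
def n9705 : Q := act 6 n7646
theorem D9705 : act 6 n7646 = n9705 := rfl
theorem F45406 : act 1 n9705 = n8091 := d13_1 D9705 (iv D8091) (iv F36322)
theorem F45407 : act 3 n9705 = n7664 := d26_1 D9705 (iv D7664) (iv F36323)
theorem F45408 : act 5 n9705 = n7648 := d35_1 D9705 (iv D7648) (iv D6073) (iv F29200) D7646
theorem F45409 : act 8 n9705 = n9705 := d40_2 F36324 D9705 (iv D9705)
def n9706 : Q := act 3 n7647
theorem D9706 : act 3 n7647 = n9706 := rfl
theorem F45410 : act 1 n9706 = n8094 := d10_1 D9706 (iv D8094) (iv F36325)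
theorem F45411 : act 4 n9706 = n7665 := d24_2 D7647 D9706 (iv D7665) (iv D6085) (iv F29202)
theorem F45412 : act 7 n9706 = n7651 := d27_2 (iv F36326) D9706 (iv D7651)
theorem F45413 : act 8 n9706 = n7654 := d28_2 (iv F36327) D9706 (iv D7654)
def n9707 : Q := act 6 n7647
theorem D9707 : act 6 n7647 = n9707 := rfl
theorem F45414 : act 1 n9707 = n8095 := d13_1 D9707 (iv D8095) (iv F36325)
theorem F45415 : act 4 n9707 = n7648 := d31_1 D9707 (iv D7648) D7647
theorem F45416 : act 8 n9707 = n7655 := d40_2 (iv F36327) D9707 (iv D7655)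
def n9708 : Q := act 7 n7648
theorem D9708 : act 7 n7648 = n9708 := rfl
theorem F45417 : act 1 n9708 = n8096 := d14_1 D9708 (iv D8096) (iv F36328)
theorem F45418 : act 3 n9708 = n7667 := d27_1 D9708 (iv D7667) (iv F36329)
theorem F45419 : act 6 n9708 = n7653 := d39_1 D9708 (iv D7653) (iv D6076) (iv F29203) D7648
theorem F45420 : act 8 n9708 = n7656 := d42_2 (iv F36330) D9708 (iv D7656)
def n9709 : Q := act 3 n7649
theorem D9709 : act 3 n7649 = n9709 := rfl
theorem F45421 : act 1 n9709 = n8097 := d10_1 D9709 (iv D8097) (iv F36331)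
theorem F45422 : act 4 n9709 = n7668 := d24_2 D7649 D9709 (iv D7668) (iv D6087) (iv F29206)
theorem F45423 : act 8 n9709 = n7723 := d28_2 (iv F36332) D9709 (iv D7723)
theorem F45424 : act 9 n9709 = n7651 := d29_2 (iv F36333) D9709 (iv D7651)
def n9710 : Q := act 6 n7649
theorem D9710 : act 6 n7649 = n9710 := rfl
theorem F45425 : act 1 n9710 = n8098 := d13_1 D9710 (iv D8098) (iv F36331)
theorem F45426 : act 4 n9710 = n7650 := d31_1 D9710 (iv D7650) D7649
theorem F45427 : act 8 n9710 = n7724 := d40_2 (iv F36332) D9710 (iv D7724)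
theorem F45428 : act 9 n9710 = n7652 := d41_2 (iv F36333) D9710 (iv D7652)
def n9711 : Q := act 7 n7650
theorem D9711 : act 7 n7650 = n9711 := rfl
theorem F45429 : act 1 n9711 = n8099 := d14_1 D9711 (iv D8099) (iv F36334)
theorem F45430 : act 3 n9711 = n7670 := d27_1 D9711 (iv D7670) (iv F36335)
theorem F45431 : act 8 n9711 = n7725 := d42_2 (iv F36336) D9711 (iv D7725)
theorem F45432 : act 9 n9711 = n7653 := d43_2 (iv F36337) D9711 (iv D7653)
def n9712 : Q := act 2 n7651
theorem D9712 : act 2 n7651 = n9712 := rfl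
theorem F45433 : act 4 n9712 = n7671 := d18_2 (iv F36339) D9712 (iv D7671)
theorem F45434 : act 8 n9712 = n7657 := d22_2 (iv F36340) D9712 (iv D7657)
def n9713 : Q := act 6 n7651
theorem D9713 : act 6 n7651 = n9713 := rfl
theorem F45435 : act 1 n9713 = n8101 := d13_1 D9713 (iv D8101) (iv F36338)
theorem F45436 : act 3 n9713 = n7652 := d26_1 D9713 (iv D7652) D7651
theorem F45437 : act 4 n9713 = n7672 := d31_1 D9713 (iv D7672) (iv F36339)
theorem F45438 : act 8 n9713 = n7658 := d40_2 (iv F36340) D9713 (iv D7658)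
def n9714 : Q := act 5 n7652
theorem D9714 : act 5 n7652 = n9714 := rfl
theorem F45439 : act 1 n9714 = n8102 := d12_1 D9714 (iv D8102) (iv F36341)
def n9715 : Q := act 7 n7652
theorem D9715 : act 7 n7652 = n9715 := rfl
theorem F45440 : act 1 n9715 = n8103 := d14_1 D9715 (iv D8103) (iv F36341)
theorem F45441 : act 4 n9715 = n7653 := d32_1 D9715 (iv D7653) (iv F36342)
theorem F45442 : act 8 n9715 = n7660 := d42_2 (iv F36343) D9715 (iv D7660)
def n9716 : Q := act 2 n7654
theorem D9716 : act 2 n7654 = n9716 := rfl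
theorem F45443 : act 4 n9716 = n7675 := d18_2 (iv F36348) D9716 (iv D7675)
theorem F45444 : act 5 n9716 = n7830 := d19_2 (iv F36349) D9716 (iv D7830)
theorem F45445 : act 7 n9716 = n7657 := d21_2 (iv F36350) D9716 (iv D7657)
theorem F45446 : act 9 n9716 = n7730 := d23_2 (iv F36351) D9716 (iv D7730)
def n9717 : Q := act 6 n7654
theorem D9717 : act 6 n7654 = n9717 := rfl
theorem F45448 : act 3 n9717 = n7655 := d26_1 D9717 (iv D7655) D7654
theorem F45449 : act 4 n9717 = n7676 := d31_1 D9717 (iv D7676) (iv F36348)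
theorem F45450 : act 9 n9717 = n7731 := d41_2 (iv F36351) D9717 (iv D7731)
def n9718 : Q := act 5 n7655
theorem D9718 : act 5 n7655 = n9718 := rfl
theorem F45451 : act 1 n9718 = n8106 := d12_1 D9718 (iv D8106) (iv F36352)
theorem F45452 : act 4 n9718 = n9718 := d30_1 D9718 (iv D9718) F36353 F29220 (iv F36353)
theorem F45453 : act 6 n9718 = n7832 := d35_2 D7655 D9718 (iv D7832) (iv D6209) (iv F29215)
theorem F45454 : act 9 n9718 = n7732 := d38_2 (iv F36354) D9718 (iv D7732)
def n9719 : Q := act 7 n7655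
theorem D9719 : act 7 n7655 = n9719 := rfl
theorem F45455 : act 1 n9719 = n8107 := d14_1 D9719 (iv D8107) (iv F36352)
theorem F45456 : act 4 n9719 = n7656 := d32_1 D9719 (iv D7656) (iv F36353)
theorem F45457 : act 6 n9719 = n7660 := d39_1 D9719 (iv D7660) (iv D6080) (iv F29216) D7655
theorem F45458 : act 9 n9719 = n7733 := d43_2 (iv F36354) D9719 (iv D7733)
def n9720 : Q := act 1 n7657
theorem D9720 : act 1 n7657 = n9720 := rfl
theorem F45459 : act 2 n9720 = n8108 := d9_2 D7657 D9720 (iv D8108) (iv D6413) (iv F29222)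
theorem F45460 : act 4 n9720 = n7679 := d11_2 (iv F36360) D9720 (iv D7679)
theorem F45462 : act 9 n9720 = n7734 := d16_2 (iv F36362) D9720 (iv D7734)
def n9721 : Q := act 6 n7657
theorem D9721 : act 6 n7657 = n9721 := rfl
theorem F45463 : act 2 n9721 = n7658 := d20_1 D9721 (iv D7658) D7657
theorem F45464 : act 4 n9721 = n7680 := d31_1 D9721 (iv D7680) (iv F36360)
theorem F45465 : act 9 n9721 = n7735 := d41_2 (iv F36362) D9721 (iv D7735)
def n9722 : Q := act 5 n7658
theorem D9722 : act 5 n7658 = n9722 := rfl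
theorem F45466 : act 1 n9722 = n8110 := d12_1 D9722 (iv D8110) (iv F36363)
theorem F45467 : act 3 n9722 = n7659 := d25_1 D9722 (iv D7659) (iv F36364)
theorem F45468 : act 4 n9722 = n9722 := d30_1 D9722 (iv D9722) F36365 F29280 (iv F36365)
theorem F45469 : act 6 n9722 = n7836 := d35_2 D7658 D9722 (iv D7836) (iv D6212) (iv F29224)
theorem F45470 : act 9 n9722 = n7736 := d38_2 (iv F36366) D9722 (iv D7736)
def n9723 : Q := act 7 n7658
theorem D9723 : act 7 n7658 = n9723 := rfl
theorem F45471 : act 1 n9723 = n8111 := d14_1 D9723 (iv D8111) (iv F36363)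
theorem F45472 : act 3 n9723 = n7660 := d27_1 D9723 (iv D7660) (iv F36364)
theorem F45473 : act 4 n9723 = n7681 := d32_1 D9723 (iv D7681) (iv F36365)
theorem F45474 : act 9 n9723 = n7737 := d43_2 (iv F36366) D9723 (iv D7737)
def n9724 : Q := act 7 n7659
theorem D9724 : act 7 n7659 = n9724 := rfl
theorem F45475 : act 1 n9724 = n8112 := d14_1 D9724 (iv D8112) (iv F36367)
theorem F45476 : act 4 n9724 = n7661 := d32_1 D9724 (iv D7661) (iv F36368)
theorem F45477 : act 5 n9724 = n7660 := d36_1 D9724 (iv D7660) D7659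
theorem F45478 : act 9 n9724 = n7738 := d43_2 (iv F36370) D9724 (iv D7738)
def n9725 : Q := act 8 n7659
theorem D9725 : act 8 n7659 = n9725 := rfl
theorem F45479 : act 1 n9725 = n8113 := d15_1 D9725 (iv D8113) (iv F36367)
theorem F45480 : act 4 n9725 = n7662 := d33_1 D9725 (iv D7662) (iv F36368)
theorem F45481 : act 6 n9725 = n7839 := d40_1 D9725 (iv D7839) (iv F36369)
def n9726 : Q := act 6 n7661
theorem D9726 : act 6 n7661 = n9726 := rfl
theorem F45482 : act 1 n9726 = n8114 := d13_1 D9726 (iv D8114) (iv F36374)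
theorem F45483 : act 3 n9726 = n9726 := d26_1 D9726 (iv D9726) F36375
theorem F45484 : act 5 n9726 = n9726 := d35_1 D9726 (iv D9726) F36376 F29240 (iv F36376)
theorem F45485 : act 7 n9726 = n7840 := d39_2 D7661 D9726 (iv D7840) (iv D6215) (iv F29235)
theorem F45486 : act 9 n9726 = n7740 := d41_2 (iv F36377) D9726 (iv D7740)
def n9727 : Q := act 8 n7661
theorem D9727 : act 8 n7661 = n9727 := rfl
theorem F45487 : act 1 n9727 = n8115 := d15_1 D9727 (iv D8115) (iv F36374)
theorem F45488 : act 3 n9727 = n9727 := d28_1 D9727 (iv D9727) F36375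
theorem F45489 : act 7 n9727 = n7662 := d42_1 D9727 (iv D7662) D7661
def n9728 : Q := act 9 n7662
theorem D9728 : act 9 n7662 = n9728 := rfl
theorem F45490 : act 1 n9728 = n8116 := d16_1 D9728 (iv D8116) (iv F36378)
theorem F45491 : act 3 n9728 = n9728 := d29_1 D9728 (iv D9728) F36379
theorem F45492 : act 6 n9728 = n7842 := d41_1 D9728 (iv D7842) (iv F36380)
theorem F45493 : act 8 n9728 = n7742 := d44_1 D9728 (iv D7742) (iv D6140) (iv F29236) D7662
def n9729 : Q := act 3 n7663
theorem D9729 : act 3 n7663 = n9729 := rfl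
theorem F45494 : act 1 n9729 = n8119 := d10_1 D9729 (iv D8119) (iv F36381)
theorem F45495 : act 5 n9729 = n9729 := d25_2 F36382 D9729 (iv D9729)
theorem F45496 : act 8 n9729 = n9729 := d28_2 F36383 D9729 (iv D9729)
def n9730 : Q := act 6 n7663
theorem D9730 : act 6 n7663 = n9730 := rfl
theorem F45497 : act 1 n9730 = n8120 := d13_1 D9730 (iv D8120) (iv F36381)
theorem F45498 : act 4 n9730 = n7664 := d31_1 D9730 (iv D7664) D7663
theorem F45499 : act 8 n9730 = n9730 := d40_2 F36383 D9730 (iv D9730)
def n9731 : Q := act 7 n7664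
theorem D9731 : act 7 n7664 = n9731 := rfl
theorem F45500 : act 1 n9731 = n8121 := d14_1 D9731 (iv D8121) (iv F36384)
theorem F45501 : act 5 n9731 = n7667 := d36_1 D9731 (iv D7667) (iv F36385)
theorem F45502 : act 8 n9731 = n9731 := d42_2 F36386 D9731 (iv D9731)
def n9732 : Q := act 2 n7665
theorem D9732 : act 2 n7665 = n9732 := rfl
theorem F45503 : act 5 n9732 = n9732 := d19_2 F36388 D9732 (iv D9732)
theorem F45504 : act 7 n9732 = n7671 := d21_2 (iv F36389) D9732 (iv D7671)
theorem F45505 : act 8 n9732 = n7675 := d22_2 (iv F36390) D9732 (iv D7675)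
def n9733 : Q := act 6 n7665
theorem D9733 : act 6 n7665 = n9733 := rfl
theorem F45507 : act 3 n9733 = n7666 := d26_1 D9733 (iv D7666) D7665
theorem F45508 : act 8 n9733 = n7676 := d40_2 (iv F36390) D9733 (iv D7676)
def n9734 : Q := act 5 n7666
theorem D9734 : act 5 n7666 = n9734 := rfl
theorem F45509 : act 1 n9734 = n8127 := d12_1 D9734 (iv D8127) (iv F36391)
theorem F45510 : act 6 n9734 = n9734 := d35_2 D7666 D9734 (iv D9734) (iv D7666) F29245
def n9735 : Q := act 7 n7666
theorem D9735 : act 7 n7666 = n9735 := rfl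
theorem F45511 : act 1 n9735 = n8128 := d14_1 D9735 (iv D8128) (iv F36391)
theorem F45512 : act 4 n9735 = n7667 := d32_1 D9735 (iv D7667) (iv F36392)
theorem F45513 : act 6 n9735 = n7674 := d39_1 D9735 (iv D7674) (iv D6090) (iv F29246) D7666
theorem F45514 : act 8 n9735 = n7678 := d42_2 (iv F36393) D9735 (iv D7678)
def n9736 : Q := act 2 n7668
theorem D9736 : act 2 n7668 = n9736 := rfl
theorem F45515 : act 5 n9736 = n9736 := d19_2 F36398 D9736 (iv D9736)
theorem F45516 : act 8 n9736 = n7743 := d22_2 (iv F36399) D9736 (iv D7743)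
theorem F45517 : act 9 n9736 = n7671 := d23_2 (iv F36400) D9736 (iv D7671)
def n9737 : Q := act 6 n7668
theorem D9737 : act 6 n7668 = n9737 := rfl
theorem F45518 : act 1 n9737 = n8130 := d13_1 D9737 (iv D8130) (iv F36397)
theorem F45519 : act 3 n9737 = n7669 := d26_1 D9737 (iv D7669) D7668
theorem F45520 : act 8 n9737 = n7744 := d40_2 (iv F36399) D9737 (iv D7744)
theorem F45521 : act 9 n9737 = n7672 := d41_2 (iv F36400) D9737 (iv D7672)
def n9738 : Q := act 5 n7669
theorem D9738 : act 5 n7669 = n9738 := rfl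
theorem F45522 : act 1 n9738 = n8131 := d12_1 D9738 (iv D8131) (iv F36401)
theorem F45523 : act 6 n9738 = n9738 := d35_2 D7669 D9738 (iv D9738) (iv D7669) F29251
theorem F45524 : act 9 n9738 = n7673 := d38_2 (iv F36404) D9738 (iv D7673)
def n9739 : Q := act 7 n7669
theorem D9739 : act 7 n7669 = n9739 := rfl
theorem F45525 : act 1 n9739 = n8132 := d14_1 D9739 (iv D8132) (iv F36401)
theorem F45526 : act 4 n9739 = n7670 := d32_1 D9739 (iv D7670) (iv F36402)
theorem F45527 : act 8 n9739 = n7746 := d42_2 (iv F36403) D9739 (iv D7746)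
theorem F45528 : act 9 n9739 = n7674 := d43_2 (iv F36404) D9739 (iv D7674)
def n9740 : Q := act 1 n7671
theorem D9740 : act 1 n7671 = n9740 := rfl
theorem F45529 : act 2 n9740 = n8133 := d9_2 D7671 D9740 (iv D8133) (iv D6430) (iv F29257)
theorem F45530 : act 5 n9740 = n9740 := d12_2 F36408 D9740 (iv D9740)
theorem F45531 : act 8 n9740 = n7679 := d15_2 (iv F36409) D9740 (iv D7679)
def n9741 : Q := act 6 n7671
theorem D9741 : act 6 n7671 = n9741 := rfl
theorem F45532 : act 2 n9741 = n7672 := d20_1 D9741 (iv D7672) D7671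
theorem F45533 : act 8 n9741 = n7680 := d40_2 (iv F36409) D9741 (iv D7680)
def n9742 : Q := act 5 n7672
theorem D9742 : act 5 n7672 = n9742 := rfl
theorem F45534 : act 1 n9742 = n8135 := d12_1 D9742 (iv D8135) (iv F36410)
theorem F45535 : act 3 n9742 = n7673 := d25_1 D9742 (iv D7673) (iv F36411)
theorem F45536 : act 6 n9742 = n9742 := d35_2 D7672 D9742 (iv D9742) (iv D7672) F29258
theorem F45537 : act 8 n9742 = n9742 := d37_2 (iv F36412) D9742 (iv D9742) F36412 F29280
def n9743 : Q := act 7 n7672
theorem D9743 : act 7 n7672 = n9743 := rfl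
theorem F45538 : act 1 n9743 = n8136 := d14_1 D9743 (iv D8136) (iv F36410)
theorem F45539 : act 3 n9743 = n7674 := d27_1 D9743 (iv D7674) (iv F36411)
theorem F45540 : act 8 n9743 = n7681 := d42_2 (iv F36412) D9743 (iv D7681)
def n9744 : Q := act 7 n7673
theorem D9744 : act 7 n7673 = n9744 := rfl
theorem F45541 : act 1 n9744 = n8137 := d14_1 D9744 (iv D8137) (iv F36413)
theorem F45542 : act 5 n9744 = n7674 := d36_1 D9744 (iv D7674) D7673
theorem F45543 : act 8 n9744 = n9744 := d42_2 F36415 D9744 (iv D9744)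
def n9745 : Q := act 1 n7675
theorem D9745 : act 1 n7675 = n9745 := rfl
theorem F45545 : act 5 n9745 = n7682 := d12_2 (iv F36419) D9745 (iv D7682)
theorem F45546 : act 7 n9745 = n7679 := d14_2 (iv F36420) D9745 (iv D7679)
def n9746 : Q := act 6 n7675
theorem D9746 : act 6 n7675 = n9746 := rfl
def n9748 : Q := act 7 n7676
theorem D9748 : act 7 n7676 = n9748 := rfl
theorem F45555 : act 3 n9748 = n7678 := d27_1 D9748 (iv D7678) (iv F36423)
theorem F45556 : act 6 n9748 = n7681 := d39_1 D9748 (iv D7681) (iv D6096) (iv F29267) D7676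
theorem F45557 : act 9 n9748 = n7755 := d43_2 (iv F36424) D9748 (iv D7755)
def n9749 : Q := act 7 n7677
theorem D9749 : act 7 n7677 = n9749 := rfl
theorem F45559 : act 4 n9749 = n9749 := d32_1 D9749 (iv D9749) F36426
theorem F45560 : act 5 n9749 = n7678 := d36_1 D9749 (iv D7678) D7677
theorem F45561 : act 6 n9749 = n9749 := d39_1 D9749 (iv D9749) F36427 F29298 (iv F36427)
theorem F45562 : act 9 n9749 = n7756 := d43_2 (iv F36428) D9749 (iv D7756)
def n9750 : Q := act 8 n7677
theorem D9750 : act 8 n7677 = n9750 := rfl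
theorem F45564 : act 4 n9750 = n9750 := d33_1 D9750 (iv D9750) F36426
theorem F45565 : act 6 n9750 = n7685 := d40_1 D9750 (iv D7685) (iv F36427)
theorem F45566 : act 9 n9750 = n9750 := d44_2 (iv F36428) D9750 (iv D9750) F36428 F29457
def n9751 : Q := act 0 n7679
theorem D9751 : act 0 n7679 = n9751 := rfl
def n9752 : Q := act 6 n7679
theorem D9752 : act 6 n7679 = n9752 := rfl
theorem F45570 : act 1 n9752 = n7680 := d13_1 D9752 (iv D7680) D7679
theorem F45571 : act 2 n9752 = n8145 := d20_1 D9752 (iv D8145) (iv F36433)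
theorem F45572 : act 5 n9752 = n9752 := d35_1 D9752 (iv D9752) F36434 F29302 (iv F36434)
theorem F45573 : act 9 n9752 = n7758 := d41_2 (iv F36435) D9752 (iv D7758)
def n9753 : Q := act 7 n7680
theorem D9753 : act 7 n7680 = n9753 := rfl
theorem F45574 : act 2 n9753 = n7681 := d21_1 D9753 (iv D7681) (iv F36436)
theorem F45575 : act 5 n9753 = n9753 := d36_1 D9753 (iv D9753) F36437
theorem F45576 : act 9 n9753 = n7759 := d43_2 (iv F36438) D9753 (iv D7759)
def n9754 : Q := act 0 n7682
theorem D9754 : act 0 n7682 = n9754 := rfl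
theorem F45578 : act 4 n9754 = n7864 := d3_2 (iv F36444) D9754 (iv D7864)
def n9755 : Q := act 6 n7682
theorem D9755 : act 6 n7682 = n9755 := rfl
theorem F45584 : act 4 n9755 = n7865 := d31_1 D9755 (iv D7865) (iv F36444)
def n9756 : Q := act 5 n7683
theorem D9756 : act 5 n7683 = n9756 := rfl
theorem F45590 : act 9 n9756 = n7762 := d38_2 (iv F36452) D9756 (iv D7762)
def n9759 : Q := act 5 n7687
theorem D9759 : act 5 n7687 = n9759 := rfl
theorem F45601 : act 0 n9759 = n7695 := d4_1 D9759 (iv D7695) (iv F36467)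
theorem F45602 : act 2 n9759 = n8154 := d19_1 D9759 (iv D8154) (iv F36468)
theorem F45603 : act 9 n9759 = n7688 := d38_2 (iv F36471) D9759 (iv D7688)
def n9760 : Q := act 4 n7688
theorem D9760 : act 4 n7688 = n9760 := rfl
theorem F45604 : act 0 n9760 = n7696 := d3_1 D9760 (iv D7696) (iv F36472)
theorem F45605 : act 2 n9760 = n8155 := d18_1 D9760 (iv D8155) (iv F36473)
theorem F45606 : act 5 n9760 = n9760 := d30_2 D7688 D9760 (iv D9760) (iv D7688) F29311
theorem F45607 : act 8 n9760 = n7690 := d33_2 (iv F36474) D9760 (iv D7690)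
def n9761 : Q := act 6 n7688
theorem D9761 : act 6 n7688 = n9761 := rfl
theorem F45608 : act 0 n9761 = n7697 := d5_1 D9761 (iv D7697) (iv F36472)
theorem F45609 : act 2 n9761 = n8156 := d20_1 D9761 (iv D8156) (iv F36473)
theorem F45610 : act 5 n9761 = n9761 := d35_1 D9761 (iv D9761) (iv D7688) F29312 D7688
theorem F45611 : act 8 n9761 = n7691 := d40_2 (iv F36474) D9761 (iv D7691)
def n9762 : Q := act 4 n7689
theorem D9762 : act 4 n7689 = n9762 := rfl
theorem F45612 : act 0 n9762 = n7698 := d3_1 D9762 (iv D7698) (iv F36475)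
theorem F45613 : act 2 n9762 = n8157 := d18_1 D9762 (iv D8157) (iv F36476)
theorem F45614 : act 5 n9762 = n7870 := d30_2 D7689 D9762 (iv D7870) (iv D6238) (iv F29315)
theorem F45615 : act 7 n9762 = n7690 := d32_2 (iv F36477) D9762 (iv D7690)
def n9763 : Q := act 6 n7689
theorem D9763 : act 6 n7689 = n9763 := rfl
theorem F45616 : act 0 n9763 = n7699 := d5_1 D9763 (iv D7699) (iv F36475)
theorem F45617 : act 2 n9763 = n8158 := d20_1 D9763 (iv D8158) (iv F36476)
theorem F45618 : act 5 n9763 = n9763 := d35_1 D9763 (iv D9763) (iv D7689) F29316 D7689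
def n9764 : Q := act 3 n7690
theorem D9764 : act 3 n7690 = n9764 := rfl
theorem F45619 : act 0 n9764 = n7700 := d2_1 D9764 (iv D7700) (iv F36478)
theorem F45620 : act 5 n9764 = n7872 := d25_2 (iv F36480) D9764 (iv D7872)
def n9765 : Q := act 6 n7690
theorem D9765 : act 6 n7690 = n9765 := rfl
theorem F45621 : act 0 n9765 = n7701 := d5_1 D9765 (iv D7701) (iv F36478)
theorem F45622 : act 2 n9765 = n8160 := d20_1 D9765 (iv D8160) (iv F36479)
theorem F45623 : act 4 n9765 = n7691 := d31_1 D9765 (iv D7691) D7690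
def n9766 : Q := act 7 n7691
theorem D9766 : act 7 n7691 = n9766 := rfl
theorem F45624 : act 0 n9766 = n7702 := d6_1 D9766 (iv D7702) (iv F36481)
theorem F45625 : act 2 n9766 = n8161 := d21_1 D9766 (iv D8161) (iv F36482)
theorem F45626 : act 5 n9766 = n7694 := d36_1 D9766 (iv D7694) (iv F36483)
def n9767 : Q := act 2 n7692
theorem D9767 : act 2 n7692 = n9767 := rfl
theorem F45629 : act 5 n9767 = n7875 := d19_2 (iv F36485) D9767 (iv D7875)
def n9768 : Q := act 6 n7692
theorem D9768 : act 6 n7692 = n9768 := rfl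
theorem F45632 : act 0 n9768 = n7704 := d5_1 D9768 (iv D7704) (iv F36484)
theorem F45633 : act 3 n9768 = n7693 := d26_1 D9768 (iv D7693) D7692
theorem F45634 : act 8 n9768 = n9768 := d40_2 F36487 D9768 (iv D9768)
def n9769 : Q := act 5 n7693
theorem D9769 : act 5 n7693 = n9769 := rfl
theorem F45635 : act 0 n9769 = n7705 := d4_1 D9769 (iv D7705) (iv F36488)
theorem F45637 : act 6 n9769 = n7877 := d35_2 D7693 D9769 (iv D7877) (iv D6242) (iv F29322)
def n9770 : Q := act 7 n7693
theorem D9770 : act 7 n7693 = n9770 := rfl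
theorem F45638 : act 0 n9770 = n7706 := d6_1 D9770 (iv D7706) (iv F36488)
theorem F45639 : act 2 n9770 = n8165 := d21_1 D9770 (iv D8165) (iv F36489)
theorem F45640 : act 4 n9770 = n7694 := d32_1 D9770 (iv D7694) (iv F36490)
theorem F45641 : act 6 n9770 = n9770 := d39_1 D9770 (iv D9770) (iv D7693) F29323 D7693
theorem F45642 : act 8 n9770 = n9770 := d42_2 F36491 D9770 (iv D9770)
def n9771 : Q := act 4 n7695
theorem D9771 : act 4 n7695 = n9771 := rfl
theorem F45643 : act 1 n9771 = n7707 := d11_1 D9771 (iv D7707) (iv F36496)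
theorem F45644 : act 2 n9771 = n8169 := d18_1 D9771 (iv D8169) (iv F36497)
theorem F45645 : act 5 n9771 = n9771 := d30_2 D7695 D9771 (iv D9771) (iv D7695) F29330
theorem F45646 : act 9 n9771 = n7696 := d34_2 (iv F36498) D9771 (iv D7696)
def n9772 : Q := act 6 n7695
theorem D9772 : act 6 n7695 = n9772 := rfl
theorem F45647 : act 1 n9772 = n7708 := d13_1 D9772 (iv D7708) (iv F36496)
theorem F45648 : act 2 n9772 = n8170 := d20_1 D9772 (iv D8170) (iv F36497)
theorem F45649 : act 5 n9772 = n9772 := d35_1 D9772 (iv D9772) (iv D7695) F29331 D7695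
theorem F45650 : act 9 n9772 = n7697 := d41_2 (iv F36498) D9772 (iv D7697)
def n9773 : Q := act 3 n7696
theorem D9773 : act 3 n7696 = n9773 := rfl
theorem F45651 : act 1 n9773 = n7709 := d10_1 D9773 (iv D7709) (iv F36499)
theorem F45652 : act 5 n9773 = n9773 := d25_2 F36501 D9773 (iv D9773)
theorem F45653 : act 8 n9773 = n7700 := d28_2 (iv F36502) D9773 (iv D7700)
def n9774 : Q := act 6 n7696
theorem D9774 : act 6 n7696 = n9774 := rfl
theorem F45654 : act 1 n9774 = n7710 := d13_1 D9774 (iv D7710) (iv F36499)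
theorem F45655 : act 2 n9774 = n8172 := d20_1 D9774 (iv D8172) (iv F36500)
theorem F45656 : act 4 n9774 = n7697 := d31_1 D9774 (iv D7697) D7696
theorem F45657 : act 8 n9774 = n7701 := d40_2 (iv F36502) D9774 (iv D7701)
def n9775 : Q := act 7 n7697
theorem D9775 : act 7 n7697 = n9775 := rfl
theorem F45658 : act 1 n9775 = n7711 := d14_1 D9775 (iv D7711) (iv F36503)
theorem F45659 : act 2 n9775 = n8173 := d21_1 D9775 (iv D8173) (iv F36504)
theorem F45660 : act 5 n9775 = n9775 := d36_1 D9775 (iv D9775) F36505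
theorem F45661 : act 8 n9775 = n7702 := d42_2 (iv F36506) D9775 (iv D7702)
def n9776 : Q := act 3 n7698
theorem D9776 : act 3 n7698 = n9776 := rfl
theorem F45662 : act 1 n9776 = n7712 := d10_1 D9776 (iv D7712) (iv F36507)
theorem F45663 : act 5 n9776 = n7879 := d25_2 (iv F36509) D9776 (iv D7879)
theorem F45664 : act 7 n9776 = n7700 := d27_2 (iv F36510) D9776 (iv D7700)
def n9777 : Q := act 6 n7698
theorem D9777 : act 6 n7698 = n9777 := rfl
theorem F45665 : act 1 n9777 = n7713 := d13_1 D9777 (iv D7713) (iv F36507)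
theorem F45666 : act 2 n9777 = n8175 := d20_1 D9777 (iv D8175) (iv F36508)
theorem F45667 : act 4 n9777 = n7699 := d31_1 D9777 (iv D7699) D7698
def n9778 : Q := act 7 n7699
theorem D9778 : act 7 n7699 = n9778 := rfl
theorem F45668 : act 1 n9778 = n7714 := d14_1 D9778 (iv D7714) (iv F36511)
theorem F45669 : act 2 n9778 = n8176 := d21_1 D9778 (iv D8176) (iv F36512)
theorem F45670 : act 5 n9778 = n9778 := d36_1 D9778 (iv D9778) F36513
theorem F45671 : act 6 n9778 = n7702 := d39_1 D9778 (iv D7702) (iv D6112) (iv F29338) D7699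
def n9779 : Q := act 2 n7700
theorem D9779 : act 2 n7700 = n9779 := rfl
theorem F45672 : act 3 n9779 = n8177 := d17_2 D7700 D9779 (iv D8177) (iv D6463) (iv F29340)
theorem F45673 : act 5 n9779 = n7882 := d19_2 (iv F36515) D9779 (iv D7882)
def n9780 : Q := act 6 n7700
theorem D9780 : act 6 n7700 = n9780 := rfl
theorem F45674 : act 1 n9780 = n7716 := d13_1 D9780 (iv D7716) (iv F36514)
theorem F45675 : act 3 n9780 = n7701 := d26_1 D9780 (iv D7701) D7700
def n9781 : Q := act 5 n7701
theorem D9781 : act 5 n7701 = n9781 := rfl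
theorem F45676 : act 1 n9781 = n7717 := d12_1 D9781 (iv D7717) (iv F36516)
theorem F45677 : act 2 n9781 = n8179 := d19_1 D9781 (iv D8179) (iv F36517)
theorem F45678 : act 4 n9781 = n7705 := d30_1 D9781 (iv D7705) F29351 (iv F29344) (iv F36518)
theorem F45679 : act 6 n9781 = n7884 := d35_2 D7701 D9781 (iv D7884) (iv D6247) (iv F29341)
def n9782 : Q := act 7 n7701
theorem D9782 : act 7 n7701 = n9782 := rfl
theorem F45680 : act 1 n9782 = n7718 := d14_1 D9782 (iv D7718) (iv F36516)
theorem F45681 : act 2 n9782 = n8180 := d21_1 D9782 (iv D8180) (iv F36517)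
theorem F45682 : act 4 n9782 = n7702 := d32_1 D9782 (iv D7702) (iv F36518)
def n9783 : Q := act 6 n7703
theorem D9783 : act 6 n7703 = n9783 := rfl
theorem F45684 : act 2 n9783 = n7704 := d20_1 D9783 (iv D7704) D7703
def n9784 : Q := act 5 n7704
theorem D9784 : act 5 n7704 = n9784 := rfl
theorem F45687 : act 1 n9784 = n7719 := d12_1 D9784 (iv D7719) (iv F36527)
theorem F45688 : act 3 n9784 = n7705 := d25_1 D9784 (iv D7705) (iv F36528)
theorem F45689 : act 6 n9784 = n7887 := d35_2 D7704 D9784 (iv D7887) (iv D6250) (iv F29346)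
def n9785 : Q := act 7 n7704
theorem D9785 : act 7 n7704 = n9785 := rfl
theorem F45690 : act 1 n9785 = n7720 := d14_1 D9785 (iv D7720) (iv F36527)
theorem F45691 : act 3 n9785 = n7706 := d27_1 D9785 (iv D7706) (iv F36528)
theorem F45692 : act 6 n9785 = n9785 := d39_1 D9785 (iv D9785) (iv D7704) F29347 D7704
theorem F45693 : act 8 n9785 = n9785 := d42_2 F36529 D9785 (iv D9785)
def n9786 : Q := act 7 n7705
theorem D9786 : act 7 n7705 = n9786 := rfl
theorem F45694 : act 1 n9786 = n7721 := d14_1 D9786 (iv D7721) (iv F36530)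
theorem F45695 : act 2 n9786 = n8184 := d21_1 D9786 (iv D8184) (iv F36531)
theorem F45696 : act 5 n9786 = n7706 := d36_1 D9786 (iv D7706) D7705
def n9787 : Q := act 8 n7705
theorem D9787 : act 8 n7705 = n9787 := rfl
theorem F45697 : act 1 n9787 = n7722 := d15_1 D9787 (iv D7722) (iv F36530)
def n9788 : Q := act 3 n7707
theorem D9788 : act 3 n7707 = n9788 := rfl
theorem F45701 : act 5 n9788 = n9788 := d25_2 F36539 D9788 (iv D9788)
theorem F45702 : act 9 n9788 = n7709 := d29_2 (iv F36540) D9788 (iv D7709)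
def n9789 : Q := act 6 n7707
theorem D9789 : act 6 n7707 = n9789 := rfl
theorem F45703 : act 2 n9789 = n7724 := d20_1 D9789 (iv D7724) (iv F36538)
theorem F45704 : act 4 n9789 = n7708 := d31_1 D9789 (iv D7708) D7707
theorem F45705 : act 9 n9789 = n7710 := d41_2 (iv F36540) D9789 (iv D7710)
def n9790 : Q := act 7 n7708
theorem D9790 : act 7 n7708 = n9790 := rfl
theorem F45706 : act 2 n9790 = n7725 := d21_1 D9790 (iv D7725) (iv F36541)
theorem F45707 : act 5 n9790 = n9790 := d36_1 D9790 (iv D9790) F36542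
theorem F45708 : act 9 n9790 = n7711 := d43_2 (iv F36543) D9790 (iv D7711)
def n9791 : Q := act 2 n7709
theorem D9791 : act 2 n7709 = n9791 := rfl
theorem F45709 : act 3 n9791 = n7726 := d17_2 D7709 D9791 (iv D7726) (iv D6129) (iv F29359)
theorem F45710 : act 5 n9791 = n9791 := d19_2 F36544 D9791 (iv D9791)
theorem F45711 : act 8 n9791 = n7715 := d22_2 (iv F36545) D9791 (iv D7715)
def n9792 : Q := act 6 n7709
theorem D9792 : act 6 n7709 = n9792 := rfl
theorem F45712 : act 3 n9792 = n7710 := d26_1 D9792 (iv D7710) D7709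
theorem F45713 : act 8 n9792 = n7716 := d40_2 (iv F36545) D9792 (iv D7716)
def n9793 : Q := act 5 n7710
theorem D9793 : act 5 n7710 = n9793 := rfl
theorem F45714 : act 2 n9793 = n7728 := d19_1 D9793 (iv D7728) (iv F36546)
theorem F45715 : act 4 n9793 = n9793 := d30_1 D9793 (iv D9793) F36547 F29363 (iv F36547)
theorem F45716 : act 6 n9793 = n9793 := d35_2 D7710 D9793 (iv D9793) (iv D7710) F29360
def n9794 : Q := act 7 n7710
theorem D9794 : act 7 n7710 = n9794 := rfl
theorem F45717 : act 2 n9794 = n7729 := d21_1 D9794 (iv D7729) (iv F36546)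
theorem F45718 : act 4 n9794 = n7711 := d32_1 D9794 (iv D7711) (iv F36547)
theorem F45719 : act 8 n9794 = n7718 := d42_2 (iv F36548) D9794 (iv D7718)
def n9795 : Q := act 2 n7712
theorem D9795 : act 2 n7712 = n9795 := rfl
theorem F45720 : act 3 n9795 = n7730 := d17_2 D7712 D9795 (iv D7730) (iv D6132) (iv F29365)
theorem F45721 : act 5 n9795 = n7891 := d19_2 (iv F36552) D9795 (iv D7891)
theorem F45722 : act 7 n9795 = n7715 := d21_2 (iv F36553) D9795 (iv D7715)
def n9796 : Q := act 6 n7712
theorem D9796 : act 6 n7712 = n9796 := rfl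
theorem F45723 : act 3 n9796 = n7713 := d26_1 D9796 (iv D7713) D7712
def n9797 : Q := act 5 n7713
theorem D9797 : act 5 n7713 = n9797 := rfl
theorem F45724 : act 2 n9797 = n7732 := d19_1 D9797 (iv D7732) (iv F36554)
theorem F45725 : act 4 n9797 = n9797 := d30_1 D9797 (iv D9797) F36555 F29369 (iv F36555)
theorem F45726 : act 6 n9797 = n7893 := d35_2 D7713 D9797 (iv D7893) (iv D6254) (iv F29366)
def n9798 : Q := act 7 n7713
theorem D9798 : act 7 n7713 = n9798 := rfl
theorem F45727 : act 2 n9798 = n7733 := d21_1 D9798 (iv D7733) (iv F36554)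
theorem F45728 : act 4 n9798 = n7714 := d32_1 D9798 (iv D7714) (iv F36555)
theorem F45729 : act 6 n9798 = n7718 := d39_1 D9798 (iv D7718) (iv D6122) (iv F29367) D7713
def n9799 : Q := act 1 n7715
theorem D9799 : act 1 n7715 = n9799 := rfl
theorem F45730 : act 3 n9799 = n7734 := d10_2 (iv F36559) D9799 (iv D7734)
theorem F45731 : act 5 n9799 = n7895 := d12_2 (iv F36560) D9799 (iv D7895)
def n9800 : Q := act 6 n7715
theorem D9800 : act 6 n7715 = n9800 := rfl
theorem F45732 : act 2 n9800 = n7716 := d20_1 D9800 (iv D7716) D7715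
theorem F45733 : act 3 n9800 = n7735 := d26_1 D9800 (iv D7735) (iv F36559)
def n9801 : Q := act 5 n7716
theorem D9801 : act 5 n7716 = n9801 := rfl
theorem F45734 : act 3 n9801 = n7717 := d25_1 D9801 (iv D7717) (iv F36561)
theorem F45735 : act 6 n9801 = n7897 := d35_2 D7716 D9801 (iv D7897) (iv D6257) (iv F29370)
def n9802 : Q := act 7 n7716
theorem D9802 : act 7 n7716 = n9802 := rfl
theorem F45736 : act 3 n9802 = n7718 := d27_1 D9802 (iv D7718) (iv F36561)
def n9803 : Q := act 7 n7717
theorem D9803 : act 7 n7717 = n9803 := rfl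
theorem F45737 : act 2 n9803 = n7738 := d21_1 D9803 (iv D7738) (iv F36562)
theorem F45738 : act 4 n9803 = n7721 := d32_1 D9803 (iv D7721) (iv F36563)
theorem F45739 : act 5 n9803 = n7718 := d36_1 D9803 (iv D7718) D7717
def n9804 : Q := act 8 n7717
theorem D9804 : act 8 n7717 = n9804 := rfl
theorem F45740 : act 2 n9804 = n7739 := d22_1 D9804 (iv D7739) (iv F36562)
theorem F45741 : act 4 n9804 = n7722 := d33_1 D9804 (iv D7722) (iv F36563)
theorem F45742 : act 6 n9804 = n7900 := d40_1 D9804 (iv D7900) (iv F36564)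
def n9805 : Q := act 4 n7719
theorem D9805 : act 4 n7719 = n9805 := rfl
theorem F45743 : act 2 n9805 = n9805 := d18_1 D9805 (iv D9805) F36567
theorem F45744 : act 6 n9805 = n7901 := d31_2 (iv F36569) D9805 (iv D7901)
def n9806 : Q := act 7 n7719
theorem D9806 : act 7 n7719 = n9806 := rfl
theorem F45745 : act 2 n9806 = n9806 := d21_1 D9806 (iv D9806) F36567
theorem F45746 : act 3 n9806 = n7721 := d27_1 D9806 (iv D7721) (iv F36568)
theorem F45747 : act 5 n9806 = n7720 := d36_1 D9806 (iv D7720) D7719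
def n9807 : Q := act 8 n7719
theorem D9807 : act 8 n7719 = n9807 := rfl
theorem F45749 : act 3 n9807 = n7722 := d28_1 D9807 (iv D7722) (iv F36568)
def n9808 : Q := act 6 n7721
theorem D9808 : act 6 n7721 = n9808 := rfl
theorem F45752 : act 2 n9808 = n7740 := d20_1 D9808 (iv D7740) (iv F36574)
theorem F45753 : act 5 n9808 = n9808 := d35_1 D9808 (iv D9808) F36575 F29382 (iv F36575)
theorem F45754 : act 7 n9808 = n7904 := d39_2 D7721 D9808 (iv D7904) (iv D6262) (iv F29379)
def n9809 : Q := act 8 n7721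
theorem D9809 : act 8 n7721 = n9809 := rfl
theorem F45755 : act 2 n9809 = n7741 := d22_1 D9809 (iv D7741) (iv F36574)
theorem F45756 : act 5 n9809 = n9809 := d37_1 D9809 (iv D9809) F36575 F29383 (iv F36575)
theorem F45757 : act 7 n9809 = n7722 := d42_1 D9809 (iv D7722) D7721
def n9810 : Q := act 9 n7722
theorem D9810 : act 9 n7722 = n9810 := rfl
theorem F45758 : act 2 n9810 = n7742 := d23_1 D9810 (iv D7742) (iv F36576)
theorem F45759 : act 5 n9810 = n9810 := d38_1 D9810 (iv D9810) F36577
theorem F45760 : act 6 n9810 = n7906 := d41_1 D9810 (iv D7906) (iv F36578)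
def n9811 : Q := act 2 n7723
theorem D9811 : act 2 n7723 = n9811 := rfl
theorem F45761 : act 4 n9811 = n7743 := d18_2 (iv F36580) D9811 (iv D7743)
theorem F45762 : act 5 n9811 = n9811 := d19_2 F36581 D9811 (iv D9811)
theorem F45763 : act 9 n9811 = n7726 := d23_2 (iv F36582) D9811 (iv D7726)
def n9812 : Q := act 6 n7723
theorem D9812 : act 6 n7723 = n9812 := rfl
theorem F45764 : act 1 n9812 = n8222 := d13_1 D9812 (iv D8222) (iv F36579)
theorem F45765 : act 3 n9812 = n7724 := d26_1 D9812 (iv D7724) D7723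
theorem F45766 : act 4 n9812 = n7744 := d31_1 D9812 (iv D7744) (iv F36580)
theorem F45767 : act 9 n9812 = n7727 := d41_2 (iv F36582) D9812 (iv D7727)
def n9813 : Q := act 5 n7724
theorem D9813 : act 5 n7724 = n9813 := rfl
theorem F45768 : act 1 n9813 = n8223 := d12_1 D9813 (iv D8223) (iv F36583)
theorem F45769 : act 4 n9813 = n9813 := d30_1 D9813 (iv D9813) F36584 F29389 (iv F36584)
theorem F45770 : act 6 n9813 = n9813 := d35_2 D7724 D9813 (iv D9813) (iv D7724) F29385
theorem F45771 : act 9 n9813 = n7728 := d38_2 (iv F36585) D9813 (iv D7728)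
def n9814 : Q := act 7 n7724
theorem D9814 : act 7 n7724 = n9814 := rfl
theorem F45772 : act 1 n9814 = n8224 := d14_1 D9814 (iv D8224) (iv F36583)
theorem F45773 : act 4 n9814 = n7725 := d32_1 D9814 (iv D7725) (iv F36584)
theorem F45774 : act 9 n9814 = n7729 := d43_2 (iv F36585) D9814 (iv D7729)
def n9815 : Q := act 1 n7726
theorem D9815 : act 1 n7726 = n9815 := rfl
theorem F45775 : act 2 n9815 = n8225 := d9_2 D7726 D9815 (iv D8225) (iv D6497) (iv F29391)
theorem F45776 : act 4 n9815 = n7747 := d11_2 (iv F36590) D9815 (iv D7747)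
theorem F45777 : act 5 n9815 = n9815 := d12_2 F36591 D9815 (iv D9815)
theorem F45778 : act 8 n9815 = n7734 := d15_2 (iv F36592) D9815 (iv D7734)
def n9816 : Q := act 6 n7726
theorem D9816 : act 6 n7726 = n9816 := rfl
theorem F45779 : act 2 n9816 = n7727 := d20_1 D9816 (iv D7727) D7726
theorem F45780 : act 4 n9816 = n7748 := d31_1 D9816 (iv D7748) (iv F36590)
theorem F45781 : act 8 n9816 = n7735 := d40_2 (iv F36592) D9816 (iv D7735)
def n9817 : Q := act 5 n7727
theorem D9817 : act 5 n7727 = n9817 := rfl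
theorem F45782 : act 1 n9817 = n8227 := d12_1 D9817 (iv D8227) (iv F36593)
theorem F45783 : act 3 n9817 = n7728 := d25_1 D9817 (iv D7728) (iv F36594)
theorem F45784 : act 6 n9817 = n9817 := d35_2 D7727 D9817 (iv D9817) (iv D7727) F29393
def n9818 : Q := act 7 n7727
theorem D9818 : act 7 n7727 = n9818 := rfl
theorem F45785 : act 1 n9818 = n8228 := d14_1 D9818 (iv D8228) (iv F36593)
theorem F45786 : act 3 n9818 = n7729 := d27_1 D9818 (iv D7729) (iv F36594)
theorem F45787 : act 4 n9818 = n7750 := d32_1 D9818 (iv D7750) (iv F36595)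
theorem F45788 : act 8 n9818 = n7737 := d42_2 (iv F36596) D9818 (iv D7737)
def n9819 : Q := act 7 n7728
theorem D9819 : act 7 n7728 = n9819 := rfl
theorem F45789 : act 1 n9819 = n8229 := d14_1 D9819 (iv D8229) (iv F36597)
theorem F45790 : act 4 n9819 = n9819 := d32_1 D9819 (iv D9819) F36598
theorem F45791 : act 5 n9819 = n7729 := d36_1 D9819 (iv D7729) D7728
def n9820 : Q := act 8 n7728
theorem D9820 : act 8 n7728 = n9820 := rfl
theorem F45792 : act 1 n9820 = n8230 := d15_1 D9820 (iv D8230) (iv F36597)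
theorem F45793 : act 4 n9820 = n9820 := d33_1 D9820 (iv D9820) F36598
theorem F45794 : act 5 n9820 = n7739 := d37_1 D9820 (iv D7739) (iv D6137) (iv F29397) D7728
theorem F45795 : act 6 n9820 = n9820 := d40_1 D9820 (iv D9820) F36599
def n9821 : Q := act 1 n7730
theorem D9821 : act 1 n7730 = n9821 := rfl
theorem F45798 : act 5 n9821 = n7907 := d12_2 (iv F36604) D9821 (iv D7907)
theorem F45799 : act 7 n9821 = n7734 := d14_2 (iv F36605) D9821 (iv D7734)
def n9822 : Q := act 6 n7730
theorem D9822 : act 6 n7730 = n9822 := rfl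
theorem F45800 : act 2 n9822 = n7731 := d20_1 D9822 (iv D7731) D7730
def n9823 : Q := act 5 n7731
theorem D9823 : act 5 n7731 = n9823 := rfl
theorem F45803 : act 3 n9823 = n7732 := d25_1 D9823 (iv D7732) (iv F36607)
theorem F45804 : act 6 n9823 = n7909 := d35_2 D7731 D9823 (iv D7909) (iv D6265) (iv F29404)
def n9824 : Q := act 7 n7731
theorem D9824 : act 7 n7731 = n9824 := rfl
theorem F45806 : act 3 n9824 = n7733 := d27_1 D9824 (iv D7733) (iv F36607)
theorem F45807 : act 4 n9824 = n7755 := d32_1 D9824 (iv D7755) (iv F36608)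
theorem F45808 : act 6 n9824 = n7737 := d39_1 D9824 (iv D7737) (iv D6136) (iv F29405) D7731
def n9825 : Q := act 7 n7732
theorem D9825 : act 7 n7732 = n9825 := rfl
theorem F45809 : act 1 n9825 = n8235 := d14_1 D9825 (iv D8235) (iv F36609)
theorem F45810 : act 4 n9825 = n9825 := d32_1 D9825 (iv D9825) F36610
theorem F45811 : act 5 n9825 = n7733 := d36_1 D9825 (iv D7733) D7732
def n9826 : Q := act 8 n7732
theorem D9826 : act 8 n7732 = n9826 := rfl
theorem F45813 : act 4 n9826 = n9826 := d33_1 D9826 (iv D9826) F36610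
theorem F45814 : act 6 n9826 = n7912 := d40_1 D9826 (iv D7912) (iv F36611)
def n9827 : Q := act 0 n7734
theorem D9827 : act 0 n7734 = n9827 := rfl
theorem F45817 : act 5 n9827 = n7913 := d4_2 (iv F36617) D9827 (iv D7913)
def n9828 : Q := act 6 n7734
theorem D9828 : act 6 n7734 = n9828 := rfl
theorem F45818 : act 1 n9828 = n7735 := d13_1 D9828 (iv D7735) D7734
theorem F45819 : act 2 n9828 = n8238 := d20_1 D9828 (iv D8238) (iv F36615)
theorem F45820 : act 4 n9828 = n7758 := d31_1 D9828 (iv D7758) (iv F36616)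
def n9829 : Q := act 5 n7735
theorem D9829 : act 5 n7735 = n9829 := rfl
theorem F45821 : act 2 n9829 = n7736 := d19_1 D9829 (iv D7736) (iv F36618)
theorem F45822 : act 4 n9829 = n9829 := d30_1 D9829 (iv D9829) F36619 F29464 (iv F36619)
theorem F45823 : act 6 n9829 = n7915 := d35_2 D7735 D9829 (iv D7915) (iv D6269) (iv F29413)
def n9830 : Q := act 7 n7735
theorem D9830 : act 7 n7735 = n9830 := rfl
theorem F45824 : act 2 n9830 = n7737 := d21_1 D9830 (iv D7737) (iv F36618)
theorem F45825 : act 4 n9830 = n7759 := d32_1 D9830 (iv D7759) (iv F36619)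
def n9831 : Q := act 7 n7736
theorem D9831 : act 7 n7736 = n9831 := rfl
theorem F45826 : act 1 n9831 = n8241 := d14_1 D9831 (iv D8241) (iv F36620)
theorem F45827 : act 3 n9831 = n7738 := d27_1 D9831 (iv D7738) (iv F36621)
theorem F45828 : act 4 n9831 = n9831 := d32_1 D9831 (iv D9831) F36622
theorem F45829 : act 5 n9831 = n7737 := d36_1 D9831 (iv D7737) D7736
def n9832 : Q := act 8 n7736
theorem D9832 : act 8 n7736 = n9832 := rfl
theorem F45830 : act 1 n9832 = n8242 := d15_1 D9832 (iv D8242) (iv F36620)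
theorem F45831 : act 3 n9832 = n7739 := d28_1 D9832 (iv D7739) (iv F36621)
theorem F45832 : act 4 n9832 = n9832 := d33_1 D9832 (iv D9832) F36622
theorem F45833 : act 6 n9832 = n7918 := d40_1 D9832 (iv D7918) (iv F36623)
def n9833 : Q := act 6 n7738
theorem D9833 : act 6 n7738 = n9833 := rfl
theorem F45834 : act 1 n9833 = n8243 := d13_1 D9833 (iv D8243) (iv F36627)
theorem F45835 : act 4 n9833 = n7740 := d31_1 D9833 (iv D7740) (iv F36628)
theorem F45836 : act 7 n9833 = n7919 := d39_2 D7738 D9833 (iv D7919) (iv D6272) (iv F29419)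
def n9834 : Q := act 8 n7738
theorem D9834 : act 8 n7738 = n9834 := rfl
theorem F45837 : act 1 n9834 = n8244 := d15_1 D9834 (iv D8244) (iv F36627)
theorem F45838 : act 4 n9834 = n7741 := d33_1 D9834 (iv D7741) (iv F36628)
theorem F45839 : act 7 n9834 = n7739 := d42_1 D9834 (iv D7739) D7738
def n9835 : Q := act 9 n7739
theorem D9835 : act 9 n7739 = n9835 := rfl
theorem F45840 : act 1 n9835 = n8245 := d16_1 D9835 (iv D8245) (iv F36630)
theorem F45841 : act 4 n9835 = n7742 := d34_1 D9835 (iv D7742) (iv F36631)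
theorem F45842 : act 6 n9835 = n7921 := d41_1 D9835 (iv D7921) (iv F36632)
def n9836 : Q := act 8 n7740
theorem D9836 : act 8 n7740 = n9836 := rfl
theorem F45843 : act 1 n9836 = n8246 := d15_1 D9836 (iv D8246) (iv F36633)
theorem F45844 : act 3 n9836 = n9836 := d28_1 D9836 (iv D9836) F36634
theorem F45845 : act 6 n9836 = n7741 := d40_1 D9836 (iv D7741) D7740
theorem F45846 : act 7 n9836 = n7922 := d42_1 D9836 (iv D7922) (iv F36636)
def n9837 : Q := act 9 n7741
theorem D9837 : act 9 n7741 = n9837 := rfl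
theorem F45847 : act 1 n9837 = n8247 := d16_1 D9837 (iv D8247) (iv F36637)
theorem F45848 : act 3 n9837 = n9837 := d29_1 D9837 (iv D9837) F36638
theorem F45849 : act 5 n9837 = n9837 := d38_1 D9837 (iv D9837) F36639
theorem F45850 : act 7 n9837 = n7742 := d43_1 D9837 (iv D7742) (iv F36640)
def n9838 : Q := act 1 n7743
theorem D9838 : act 1 n7743 = n9838 := rfl
theorem F45851 : act 2 n9838 = n8254 := d9_2 D7743 D9838 (iv D8254) (iv D6520) (iv F29429)
theorem F45852 : act 5 n9838 = n7764 := d12_2 (iv F36645) D9838 (iv D7764)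
theorem F45853 : act 9 n9838 = n7747 := d16_2 (iv F36646) D9838 (iv D7747)
def n9839 : Q := act 6 n7743
theorem D9839 : act 6 n7743 = n9839 := rfl
theorem F45854 : act 2 n9839 = n7744 := d20_1 D9839 (iv D7744) D7743
theorem F45855 : act 9 n9839 = n7748 := d41_2 (iv F36646) D9839 (iv D7748)
def n9840 : Q := act 5 n7744
theorem D9840 : act 5 n7744 = n9840 := rfl
theorem F45856 : act 1 n9840 = n8256 := d12_1 D9840 (iv D8256) (iv F36647)
theorem F45857 : act 3 n9840 = n7745 := d25_1 D9840 (iv D7745) (iv F36648)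
theorem F45858 : act 6 n9840 = n7766 := d35_2 D7744 D9840 (iv D7766) (iv D6160) (iv F29430)
theorem F45859 : act 9 n9840 = n7749 := d38_2 (iv F36649) D9840 (iv D7749)
def n9841 : Q := act 7 n7744
theorem D9841 : act 7 n7744 = n9841 := rfl
theorem F45860 : act 1 n9841 = n8257 := d14_1 D9841 (iv D8257) (iv F36647)
theorem F45861 : act 3 n9841 = n7746 := d27_1 D9841 (iv D7746) (iv F36648)
theorem F45862 : act 9 n9841 = n7750 := d43_2 (iv F36649) D9841 (iv D7750)
def n9842 : Q := act 7 n7745
theorem D9842 : act 7 n7745 = n9842 := rfl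
theorem F45863 : act 1 n9842 = n8258 := d14_1 D9842 (iv D8258) (iv F36650)
theorem F45864 : act 4 n9842 = n9842 := d32_1 D9842 (iv D9842) F36651
theorem F45865 : act 5 n9842 = n7746 := d36_1 D9842 (iv D7746) D7745
theorem F45866 : act 6 n9842 = n9842 := d39_1 D9842 (iv D9842) F36652 F29495 (iv F36652)
theorem F45867 : act 9 n9842 = n7751 := d43_2 (iv F36653) D9842 (iv D7751)
def n9843 : Q := act 8 n7745
theorem D9843 : act 8 n7745 = n9843 := rfl
theorem F45868 : act 1 n9843 = n8259 := d15_1 D9843 (iv D8259) (iv F36650)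
theorem F45869 : act 4 n9843 = n9843 := d33_1 D9843 (iv D9843) F36651
theorem F45870 : act 6 n9843 = n7767 := d40_1 D9843 (iv D7767) (iv F36652)
theorem F45871 : act 9 n9843 = n9843 := d44_2 (iv F36653) D9843 (iv D9843) F36653 F29446
def n9844 : Q := act 0 n7747
theorem D9844 : act 0 n7747 = n9844 := rfl
theorem F45872 : act 2 n9844 = n8260 := d1_2 (iv F36657) D9844 (iv D8260)
theorem F45873 : act 5 n9844 = n7768 := d4_2 (iv F36658) D9844 (iv D7768)
def n9845 : Q := act 6 n7747
theorem D9845 : act 6 n7747 = n9845 := rfl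
theorem F45875 : act 1 n9845 = n7748 := d13_1 D9845 (iv D7748) D7747
theorem F45876 : act 2 n9845 = n8261 := d20_1 D9845 (iv D8261) (iv F36657)
theorem F45877 : act 8 n9845 = n7758 := d40_2 (iv F36659) D9845 (iv D7758)
def n9846 : Q := act 5 n7748
theorem D9846 : act 5 n7748 = n9846 := rfl
theorem F45878 : act 2 n9846 = n7749 := d19_1 D9846 (iv D7749) (iv F36660)
theorem F45879 : act 6 n9846 = n7770 := d35_2 D7748 D9846 (iv D7770) (iv D6163) (iv F29438)
def n9847 : Q := act 7 n7748
theorem D9847 : act 7 n7748 = n9847 := rfl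
theorem F45881 : act 2 n9847 = n7750 := d21_1 D9847 (iv D7750) (iv F36660)
theorem F45882 : act 8 n9847 = n7759 := d42_2 (iv F36661) D9847 (iv D7759)
def n9848 : Q := act 4 n7749
theorem D9848 : act 4 n7749 = n9848 := rfl
theorem F45883 : act 1 n9848 = n8264 := d11_1 D9848 (iv D8264) (iv F36662)
theorem F45884 : act 3 n9848 = n9848 := d24_1 D9848 (iv D9848) F36663 F29444 (iv F36663)
theorem F45885 : act 6 n9848 = n7771 := d31_2 (iv F36664) D9848 (iv D7771)
theorem F45886 : act 8 n9848 = n9848 := d33_2 F36665 D9848 (iv D9848)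
def n9849 : Q := act 7 n7749
theorem D9849 : act 7 n7749 = n9849 := rfl
theorem F45887 : act 1 n9849 = n8265 := d14_1 D9849 (iv D8265) (iv F36662)
theorem F45888 : act 3 n9849 = n7751 := d27_1 D9849 (iv D7751) (iv F36663)
theorem F45889 : act 5 n9849 = n7750 := d36_1 D9849 (iv D7750) D7749
theorem F45890 : act 6 n9849 = n9849 := d39_1 D9849 (iv D9849) F36664 F29506 (iv F36664)
theorem F45891 : act 8 n9849 = n9849 := d42_2 F36665 D9849 (iv D9849)
def n9850 : Q := act 0 n7752
theorem D9850 : act 0 n7752 = n9850 := rfl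
theorem F45893 : act 5 n9850 = n7760 := d4_2 (iv F36675) D9850 (iv D7760)
def n9851 : Q := act 6 n7752
theorem D9851 : act 6 n7752 = n9851 := rfl
theorem F45896 : act 2 n9851 = n8267 := d20_1 D9851 (iv D8267) (iv F36674)
def n9852 : Q := act 5 n7753
theorem D9852 : act 5 n7753 = n9852 := rfl
theorem F45898 : act 6 n9852 = n7762 := d35_2 D7753 D9852 (iv D7762) (iv D6156) (iv F29450)
def n9853 : Q := act 7 n7753
theorem D9853 : act 7 n7753 = n9853 := rfl
theorem F45901 : act 6 n9853 = n7759 := d39_1 D9853 (iv D7759) (iv D6153) (iv F29451) D7753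
def n9856 : Q := act 6 n7757
theorem D9856 : act 6 n7757 = n9856 := rfl
theorem F45911 : act 0 n9856 = n7758 := d5_1 D9856 (iv D7758) D7757
def n9857 : Q := act 7 n7758
theorem D9857 : act 7 n7758 = n9857 := rfl
def n9858 : Q := act 6 n7760
theorem D9858 : act 6 n7760 = n9858 := rfl
theorem F45919 : act 4 n9858 = n7935 := d31_1 D9858 (iv D7935) (iv F36698)
def n9859 : Q := act 5 n7761
theorem D9859 : act 5 n7761 = n9859 := rfl
def n9860 : Q := act 4 n7762
theorem D9860 : act 4 n7762 = n9860 := rfl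
theorem F45927 : act 5 n9860 = n7937 := d30_2 D7762 D9860 (iv D7937) (iv D6288) (iv F29473)
def n9861 : Q := act 0 n7764
theorem D9861 : act 0 n7764 = n9861 := rfl
theorem F45930 : act 2 n9861 = n8279 := d1_2 (iv F36714) D9861 (iv D8279)
theorem F45933 : act 9 n9861 = n7768 := d8_2 (iv F36717) D9861 (iv D7768)
def n9862 : Q := act 6 n7764
theorem D9862 : act 6 n7764 = n9862 := rfl
theorem F45934 : act 1 n9862 = n7765 := d13_1 D9862 (iv D7765) D7764
theorem F45935 : act 2 n9862 = n8280 := d20_1 D9862 (iv D8280) (iv F36714)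
theorem F45939 : act 9 n9862 = n7769 := d41_2 (iv F36717) D9862 (iv D7769)
def n9863 : Q := act 5 n7765
theorem D9863 : act 5 n7765 = n9863 := rfl
theorem F45940 : act 2 n9863 = n7766 := d19_1 D9863 (iv D7766) (iv F36718)
theorem F45942 : act 9 n9863 = n7770 := d38_2 (iv F36722) D9863 (iv D7770)
def n9864 : Q := act 4 n7766
theorem D9864 : act 4 n7766 = n9864 := rfl
theorem F45943 : act 1 n9864 = n8282 := d11_1 D9864 (iv D8282) (iv F36723)
theorem F45944 : act 3 n9864 = n9864 := d24_1 D9864 (iv D9864) F36724 F29494 (iv F36724)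
theorem F45945 : act 5 n9864 = n9864 := d30_2 D7766 D9864 (iv D9864) (iv D7766) F29489
theorem F45946 : act 7 n9864 = n9864 := d32_2 F36725 D9864 (iv D9864)
theorem F45947 : act 9 n9864 = n7771 := d34_2 (iv F36726) D9864 (iv D7771)
def n9865 : Q := act 8 n7766
theorem D9865 : act 8 n7766 = n9865 := rfl
theorem F45948 : act 1 n9865 = n8283 := d15_1 D9865 (iv D8283) (iv F36723)
theorem F45949 : act 3 n9865 = n7767 := d28_1 D9865 (iv D7767) (iv F36724)
theorem F45950 : act 5 n9865 = n9865 := d37_1 D9865 (iv D9865) (iv D7766) F29491 D7766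
theorem F45951 : act 7 n9865 = n9865 := d42_1 D9865 (iv D9865) F36725
theorem F45952 : act 9 n9865 = n9865 := d44_2 (iv F36726) D9865 (iv D9865) F36726 F29507
def n9866 : Q := act 6 n7768
theorem D9866 : act 6 n7768 = n9866 := rfl
theorem F45954 : act 2 n9866 = n8284 := d20_1 D9866 (iv D8284) (iv F36732)
def n9867 : Q := act 5 n7769
theorem D9867 : act 5 n7769 = n9867 := rfl
def n9868 : Q := act 4 n7770
theorem D9868 : act 4 n7770 = n9868 := rfl
theorem F45962 : act 2 n9868 = n7771 := d18_1 D9868 (iv D7771) (iv F36740)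
def n9869 : Q := act 4 n7774
theorem D9869 : act 4 n7774 = n9869 := rfl
theorem F45966 : act 0 n9869 = n7783 := d3_1 D9869 (iv D7783) (iv F36760)
theorem F45967 : act 2 n9869 = n8287 := d18_1 D9869 (iv D8287) (iv F36761)
theorem F45968 : act 8 n9869 = n7776 := d33_2 (iv F36763) D9869 (iv D7776)
theorem F45969 : act 9 n9869 = n9869 := d34_2 F36764 D9869 (iv D9869)
def n9870 : Q := act 6 n7774
theorem D9870 : act 6 n7774 = n9870 := rfl
theorem F45970 : act 0 n9870 = n7784 := d5_1 D9870 (iv D7784) (iv F36760)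
theorem F45971 : act 2 n9870 = n8288 := d20_1 D9870 (iv D8288) (iv F36761)
def n9871 : Q := act 4 n7775
theorem D9871 : act 4 n7775 = n9871 := rfl
theorem F45976 : act 0 n9871 = n7785 := d3_1 D9871 (iv D7785) (iv F36765)
theorem F45977 : act 2 n9871 = n8289 := d18_1 D9871 (iv D8289) (iv F36766)
theorem F45978 : act 7 n9871 = n7776 := d32_2 (iv F36768) D9871 (iv D7776)
theorem F45979 : act 9 n9871 = n7870 := d34_2 (iv F36769) D9871 (iv D7870)
def n9872 : Q := act 6 n7775
theorem D9872 : act 6 n7775 = n9872 := rfl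
theorem F45980 : act 0 n9872 = n7786 := d5_1 D9872 (iv D7786) (iv F36765)
def n9873 : Q := act 3 n7776
theorem D9873 : act 3 n7776 = n9873 := rfl
theorem F45985 : act 0 n9873 = n7787 := d2_1 D9873 (iv D7787) (iv F36770)
theorem F45986 : act 4 n9873 = n9873 := d24_2 D7776 D9873 (iv D9873) (iv D7776) F29541
theorem F45987 : act 9 n9873 = n7872 := d29_2 (iv F36772) D9873 (iv D7872)
def n9874 : Q := act 6 n7776
theorem D9874 : act 6 n7776 = n9874 := rfl
theorem F45988 : act 0 n9874 = n7788 := d5_1 D9874 (iv D7788) (iv F36770)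
theorem F45989 : act 2 n9874 = n8292 := d20_1 D9874 (iv D8292) (iv F36771)
theorem F45990 : act 4 n9874 = n7777 := d31_1 D9874 (iv D7777) D7776
theorem F45991 : act 9 n9874 = n7873 := d41_2 (iv F36772) D9874 (iv D7873)
def n9875 : Q := act 7 n7777
theorem D9875 : act 7 n7777 = n9875 := rfl
theorem F45993 : act 2 n9875 = n8293 := d21_1 D9875 (iv D8293) (iv F36774)
def n9876 : Q := act 2 n7778
theorem D9876 : act 2 n7778 = n9876 := rfl
theorem F45998 : act 3 n9876 = n8294 := d17_2 D7778 D9876 (iv D8294) (iv D6558) (iv F29544)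
theorem F46002 : act 9 n9876 = n7875 := d23_2 (iv F36782) D9876 (iv D7875)
def n9877 : Q := act 6 n7778
theorem D9877 : act 6 n7778 = n9877 := rfl
theorem F46004 : act 3 n9877 = n7779 := d26_1 D9877 (iv D7779) D7778
theorem F46007 : act 9 n9877 = n7876 := d41_2 (iv F36782) D9877 (iv D7876)
def n9878 : Q := act 5 n7779
theorem D9878 : act 5 n7779 = n9878 := rfl
theorem F46008 : act 0 n9878 = n7792 := d4_1 D9878 (iv D7792) (iv F36783)
theorem F46010 : act 9 n9878 = n7877 := d38_2 (iv F36787) D9878 (iv D7877)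
def n9879 : Q := act 7 n7779
theorem D9879 : act 7 n7779 = n9879 := rfl
theorem F46012 : act 2 n9879 = n8297 := d21_1 D9879 (iv D8297) (iv F36784)
def n9880 : Q := act 4 n7781
theorem D9880 : act 4 n7781 = n9880 := rfl
theorem F46017 : act 1 n9880 = n7796 := d11_1 D9880 (iv D7796) (iv F36794)
theorem F46018 : act 2 n9880 = n8298 := d18_1 D9880 (iv D8298) (iv F36795)
theorem F46019 : act 5 n9880 = n7783 := d30_2 D7781 D9880 (iv D7783) (iv D6176) (iv F29555)
theorem F46020 : act 9 n9880 = n9880 := d34_2 F36796 D9880 (iv D9880)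
def n9881 : Q := act 6 n7781
theorem D9881 : act 6 n7781 = n9881 := rfl
theorem F46021 : act 1 n9881 = n7797 := d13_1 D9881 (iv D7797) (iv F36794)
theorem F46022 : act 2 n9881 = n8299 := d20_1 D9881 (iv D8299) (iv F36795)
theorem F46023 : act 5 n9881 = n9881 := d35_1 D9881 (iv D9881) (iv D7781) F29556 D7781
theorem F46024 : act 9 n9881 = n9881 := d41_2 F36796 D9881 (iv D9881)
def n9882 : Q := act 4 n7782
theorem D9882 : act 4 n7782 = n9882 := rfl
theorem F46025 : act 1 n9882 = n7799 := d11_1 D9882 (iv D7799) (iv F36797)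
theorem F46026 : act 2 n9882 = n8300 := d18_1 D9882 (iv D8300) (iv F36798)
theorem F46027 : act 7 n9882 = n7783 := d32_2 (iv F36800) D9882 (iv D7783)
theorem F46028 : act 8 n9882 = n7785 := d33_2 (iv F36801) D9882 (iv D7785)
theorem F46029 : act 9 n9882 = n9882 := d34_2 F36802 D9882 (iv D9882)
def n9883 : Q := act 6 n7782
theorem D9883 : act 6 n7782 = n9883 := rfl
theorem F46030 : act 1 n9883 = n7800 := d13_1 D9883 (iv D7800) (iv F36797)
theorem F46031 : act 2 n9883 = n8301 := d20_1 D9883 (iv D8301) (iv F36798)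
theorem F46032 : act 3 n9883 = n9883 := d26_1 D9883 (iv D9883) F36799
theorem F46033 : act 8 n9883 = n7786 := d40_2 (iv F36801) D9883 (iv D7786)
theorem F46034 : act 9 n9883 = n9883 := d41_2 F36802 D9883 (iv D9883)
def n9884 : Q := act 3 n7783
theorem D9884 : act 3 n7783 = n9884 := rfl
theorem F46035 : act 1 n9884 = n7801 := d10_1 D9884 (iv D7801) (iv F36803)
theorem F46036 : act 4 n9884 = n9884 := d24_2 D7783 D9884 (iv D9884) (iv D7783) F29565
theorem F46037 : act 8 n9884 = n7787 := d28_2 (iv F36805) D9884 (iv D7787)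
theorem F46038 : act 9 n9884 = n9884 := d29_2 F36806 D9884 (iv D9884)
def n9885 : Q := act 6 n7783
theorem D9885 : act 6 n7783 = n9885 := rfl
theorem F46039 : act 1 n9885 = n7802 := d13_1 D9885 (iv D7802) (iv F36803)
theorem F46040 : act 2 n9885 = n8303 := d20_1 D9885 (iv D8303) (iv F36804)
theorem F46041 : act 4 n9885 = n7784 := d31_1 D9885 (iv D7784) D7783
theorem F46042 : act 8 n9885 = n7788 := d40_2 (iv F36805) D9885 (iv D7788)
theorem F46043 : act 9 n9885 = n9885 := d41_2 F36806 D9885 (iv D9885)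
def n9886 : Q := act 7 n7784
theorem D9886 : act 7 n7784 = n9886 := rfl
theorem F46044 : act 1 n9886 = n7803 := d14_1 D9886 (iv D7803) (iv F36807)
theorem F46045 : act 2 n9886 = n8304 := d21_1 D9886 (iv D8304) (iv F36808)
def n9887 : Q := act 3 n7785
theorem D9887 : act 3 n7785 = n9887 := rfl
theorem F46050 : act 1 n9887 = n7804 := d10_1 D9887 (iv D7804) (iv F36813)
theorem F46051 : act 4 n9887 = n9887 := d24_2 D7785 D9887 (iv D9887) (iv D7785) F29570
theorem F46052 : act 7 n9887 = n7787 := d27_2 (iv F36815) D9887 (iv D7787)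
theorem F46053 : act 9 n9887 = n7879 := d29_2 (iv F36816) D9887 (iv D7879)
def n9888 : Q := act 6 n7785
theorem D9888 : act 6 n7785 = n9888 := rfl
theorem F46054 : act 1 n9888 = n7805 := d13_1 D9888 (iv D7805) (iv F36813)
theorem F46055 : act 2 n9888 = n8306 := d20_1 D9888 (iv D8306) (iv F36814)
theorem F46056 : act 4 n9888 = n7786 := d31_1 D9888 (iv D7786) D7785
theorem F46057 : act 9 n9888 = n7880 := d41_2 (iv F36816) D9888 (iv D7880)
def n9889 : Q := act 7 n7786
theorem D9889 : act 7 n7786 = n9889 := rfl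
theorem F46058 : act 1 n9889 = n7806 := d14_1 D9889 (iv D7806) (iv F36817)
theorem F46062 : act 6 n9889 = n7789 := d39_1 D9889 (iv D7789) (iv D6179) (iv F29571) D7786
def n9890 : Q := act 2 n7787
theorem D9890 : act 2 n7787 = n9890 := rfl
theorem F46064 : act 3 n9890 = n8308 := d17_2 D7787 D9890 (iv D8308) (iv D6567) (iv F29574)
theorem F46065 : act 4 n9890 = n9890 := d18_2 F36823 D9890 (iv D9890)
theorem F46066 : act 9 n9890 = n7882 := d23_2 (iv F36824) D9890 (iv D7882)
def n9891 : Q := act 6 n7787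
theorem D9891 : act 6 n7787 = n9891 := rfl
theorem F46067 : act 1 n9891 = n7808 := d13_1 D9891 (iv D7808) (iv F36822)
theorem F46068 : act 3 n9891 = n7788 := d26_1 D9891 (iv D7788) D7787
theorem F46069 : act 4 n9891 = n9891 := d31_1 D9891 (iv D9891) F36823
theorem F46070 : act 9 n9891 = n7883 := d41_2 (iv F36824) D9891 (iv D7883)
def n9892 : Q := act 5 n7788
theorem D9892 : act 5 n7788 = n9892 := rfl
theorem F46071 : act 1 n9892 = n7809 := d12_1 D9892 (iv D7809) (iv F36825)
theorem F46072 : act 2 n9892 = n8310 := d19_1 D9892 (iv D8310) (iv F36826)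
def n9893 : Q := act 7 n7788
theorem D9893 : act 7 n7788 = n9893 := rfl
theorem F46075 : act 1 n9893 = n7810 := d14_1 D9893 (iv D7810) (iv F36825)
theorem F46076 : act 2 n9893 = n8311 := d21_1 D9893 (iv D8311) (iv F36826)
def n9894 : Q := act 6 n7790
theorem D9894 : act 6 n7790 = n9894 := rfl
theorem F46080 : act 2 n9894 = n7791 := d20_1 D9894 (iv D7791) D7790
theorem F46081 : act 3 n9894 = n8312 := d26_1 D9894 (iv D8312) (iv F36835)
def n9895 : Q := act 5 n7791
theorem D9895 : act 5 n7791 = n9895 := rfl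
theorem F46085 : act 1 n9895 = n7811 := d12_1 D9895 (iv D7811) (iv F36840)
theorem F46086 : act 3 n9895 = n7792 := d25_1 D9895 (iv D7792) (iv F36841)
theorem F46087 : act 9 n9895 = n7887 := d38_2 (iv F36844) D9895 (iv D7887)
def n9896 : Q := act 7 n7791
theorem D9896 : act 7 n7791 = n9896 := rfl
theorem F46088 : act 1 n9896 = n7812 := d14_1 D9896 (iv D7812) (iv F36840)
def n9897 : Q := act 7 n7792
theorem D9897 : act 7 n7792 = n9897 := rfl
theorem F46094 : act 1 n9897 = n7813 := d14_1 D9897 (iv D7813) (iv F36845)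
theorem F46095 : act 2 n9897 = n8315 := d21_1 D9897 (iv D8315) (iv F36846)
def n9898 : Q := act 8 n7792
theorem D9898 : act 8 n7792 = n9898 := rfl
theorem F46098 : act 1 n9898 = n7814 := d15_1 D9898 (iv D7814) (iv F36845)
def n9899 : Q := act 4 n7794
theorem D9899 : act 4 n7794 = n9899 := rfl
theorem F46101 : act 2 n9899 = n9899 := d18_1 D9899 (iv D9899) F36854
theorem F46102 : act 5 n9899 = n9899 := d30_2 D7794 D9899 (iv D9899) (iv D7794) F29599
theorem F46103 : act 9 n9899 = n9899 := d34_2 F36856 D9899 (iv D9899)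
def n9900 : Q := act 6 n7794
theorem D9900 : act 6 n7794 = n9900 := rfl
theorem F46104 : act 2 n9900 = n9900 := d20_1 D9900 (iv D9900) F36854
theorem F46105 : act 3 n9900 = n7797 := d26_1 D9900 (iv D7797) (iv F36855)
theorem F46106 : act 5 n9900 = n9900 := d35_1 D9900 (iv D9900) (iv D7794) F29600 D7794
theorem F46107 : act 9 n9900 = n9900 := d41_2 F36856 D9900 (iv D9900)
def n9901 : Q := act 4 n7795
theorem D9901 : act 4 n7795 = n9901 := rfl
theorem F46108 : act 2 n9901 = n7816 := d18_1 D9901 (iv D7816) (iv F36857)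
theorem F46109 : act 5 n9901 = n7799 := d30_2 D7795 D9901 (iv D7799) (iv D6187) (iv F29603)
theorem F46110 : act 7 n9901 = n7796 := d32_2 (iv F36858) D9901 (iv D7796)
theorem F46111 : act 9 n9901 = n9901 := d34_2 F36859 D9901 (iv D9901)
def n9902 : Q := act 6 n7795
theorem D9902 : act 6 n7795 = n9902 := rfl
theorem F46112 : act 2 n9902 = n7817 := d20_1 D9902 (iv D7817) (iv F36857)
theorem F46113 : act 9 n9902 = n9902 := d41_2 F36859 D9902 (iv D9902)
def n9903 : Q := act 3 n7796
theorem D9903 : act 3 n7796 = n9903 := rfl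
theorem F46114 : act 5 n9903 = n7801 := d25_2 (iv F36861) D9903 (iv D7801)
theorem F46115 : act 9 n9903 = n9903 := d29_2 F36862 D9903 (iv D9903)
def n9904 : Q := act 6 n7796
theorem D9904 : act 6 n7796 = n9904 := rfl
theorem F46116 : act 2 n9904 = n7819 := d20_1 D9904 (iv D7819) (iv F36860)
theorem F46117 : act 4 n9904 = n7797 := d31_1 D9904 (iv D7797) D7796
theorem F46118 : act 9 n9904 = n9904 := d41_2 F36862 D9904 (iv D9904)
def n9905 : Q := act 7 n7797
theorem D9905 : act 7 n7797 = n9905 := rfl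
theorem F46119 : act 2 n9905 = n7820 := d21_1 D9905 (iv D7820) (iv F36863)
theorem F46120 : act 5 n9905 = n9905 := d36_1 D9905 (iv D9905) F36864
theorem F46121 : act 9 n9905 = n9905 := d43_2 F36865 D9905 (iv D9905)
def n9906 : Q := act 4 n7798
theorem D9906 : act 4 n7798 = n9906 := rfl
theorem F46122 : act 2 n9906 = n7821 := d18_1 D9906 (iv D7821) (iv F36866)
theorem F46123 : act 7 n9906 = n9906 := d32_2 F36868 D9906 (iv D9906)
theorem F46124 : act 8 n9906 = n9906 := d33_2 F36869 D9906 (iv D9906)
theorem F46125 : act 9 n9906 = n9906 := d34_2 F36870 D9906 (iv D9906)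
def n9907 : Q := act 6 n7798
theorem D9907 : act 6 n7798 = n9907 := rfl
theorem F46126 : act 2 n9907 = n7822 := d20_1 D9907 (iv D7822) (iv F36866)
theorem F46127 : act 3 n9907 = n9907 := d26_1 D9907 (iv D9907) F36867
theorem F46128 : act 5 n9907 = n7800 := d35_1 D9907 (iv D7800) (iv D6187) (iv F29610) D7798
theorem F46129 : act 8 n9907 = n9907 := d40_2 F36869 D9907 (iv D9907)
theorem F46130 : act 9 n9907 = n9907 := d41_2 F36870 D9907 (iv D9907)
def n9908 : Q := act 3 n7799
theorem D9908 : act 3 n7799 = n9908 := rfl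
theorem F46131 : act 4 n9908 = n9908 := d24_2 D7799 D9908 (iv D9908) (iv D7799) F29614
theorem F46132 : act 7 n9908 = n7801 := d27_2 (iv F36872) D9908 (iv D7801)
theorem F46133 : act 8 n9908 = n7804 := d28_2 (iv F36873) D9908 (iv D7804)
theorem F46134 : act 9 n9908 = n9908 := d29_2 F36874 D9908 (iv D9908)
def n9909 : Q := act 6 n7799
theorem D9909 : act 6 n7799 = n9909 := rfl
theorem F46135 : act 2 n9909 = n7824 := d20_1 D9909 (iv D7824) (iv F36871)
theorem F46136 : act 4 n9909 = n7800 := d31_1 D9909 (iv D7800) D7799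
theorem F46137 : act 8 n9909 = n7805 := d40_2 (iv F36873) D9909 (iv D7805)
theorem F46138 : act 9 n9909 = n9909 := d41_2 F36874 D9909 (iv D9909)
def n9910 : Q := act 7 n7800
theorem D9910 : act 7 n7800 = n9910 := rfl
theorem F46139 : act 2 n9910 = n7825 := d21_1 D9910 (iv D7825) (iv F36875)
theorem F46140 : act 3 n9910 = n9910 := d27_1 D9910 (iv D9910) F36876
theorem F46141 : act 6 n9910 = n7803 := d39_1 D9910 (iv D7803) (iv D6189) (iv F29615) D7800
theorem F46142 : act 8 n9910 = n7806 := d42_2 (iv F36877) D9910 (iv D7806)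
theorem F46143 : act 9 n9910 = n9910 := d43_2 F36878 D9910 (iv D9910)
def n9911 : Q := act 2 n7801
theorem D9911 : act 2 n7801 = n9911 := rfl
theorem F46144 : act 3 n9911 = n7826 := d17_2 D7801 D9911 (iv D7826) (iv D6205) (iv F29618)
theorem F46145 : act 4 n9911 = n9911 := d18_2 F36879 D9911 (iv D9911)
theorem F46146 : act 8 n9911 = n7807 := d22_2 (iv F36880) D9911 (iv D7807)
theorem F46147 : act 9 n9911 = n9911 := d23_2 F36881 D9911 (iv D9911)
def n9912 : Q := act 6 n7801
theorem D9912 : act 6 n7801 = n9912 := rfl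
theorem F46148 : act 3 n9912 = n7802 := d26_1 D9912 (iv D7802) D7801
theorem F46149 : act 4 n9912 = n9912 := d31_1 D9912 (iv D9912) F36879
theorem F46150 : act 8 n9912 = n7808 := d40_2 (iv F36880) D9912 (iv D7808)
theorem F46151 : act 9 n9912 = n9912 := d41_2 F36881 D9912 (iv D9912)
def n9913 : Q := act 5 n7802
theorem D9913 : act 5 n7802 = n9913 := rfl
theorem F46152 : act 2 n9913 = n7828 := d19_1 D9913 (iv D7828) (iv F36882)
theorem F46153 : act 4 n9913 = n9913 := d30_1 D9913 (iv D9913) F36883 F29623 (iv F36883)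
theorem F46154 : act 9 n9913 = n9913 := d38_2 F36885 D9913 (iv D9913)
def n9914 : Q := act 7 n7802
theorem D9914 : act 7 n7802 = n9914 := rfl
theorem F46155 : act 2 n9914 = n7829 := d21_1 D9914 (iv D7829) (iv F36882)
theorem F46156 : act 4 n9914 = n7803 := d32_1 D9914 (iv D7803) (iv F36883)
theorem F46157 : act 8 n9914 = n7810 := d42_2 (iv F36884) D9914 (iv D7810)
theorem F46158 : act 9 n9914 = n9914 := d43_2 F36885 D9914 (iv D9914)
def n9915 : Q := act 2 n7804
theorem D9915 : act 2 n7804 = n9915 := rfl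
theorem F46159 : act 3 n9915 = n7830 := d17_2 D7804 D9915 (iv D7830) (iv D6208) (iv F29626)
theorem F46161 : act 7 n9915 = n7807 := d21_2 (iv F36892) D9915 (iv D7807)
theorem F46162 : act 9 n9915 = n7891 := d23_2 (iv F36893) D9915 (iv D7891)
def n9916 : Q := act 6 n7804
theorem D9916 : act 6 n7804 = n9916 := rfl
theorem F46163 : act 3 n9916 = n7805 := d26_1 D9916 (iv D7805) D7804
def n9917 : Q := act 5 n7805
theorem D9917 : act 5 n7805 = n9917 := rfl
theorem F46166 : act 2 n9917 = n7832 := d19_1 D9917 (iv D7832) (iv F36894)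
theorem F46167 : act 4 n9917 = n9917 := d30_1 D9917 (iv D9917) F36895 F29631 (iv F36895)
theorem F46168 : act 9 n9917 = n7893 := d38_2 (iv F36896) D9917 (iv D7893)
def n9918 : Q := act 7 n7805
theorem D9918 : act 7 n7805 = n9918 := rfl
theorem F46169 : act 2 n9918 = n7833 := d21_1 D9918 (iv D7833) (iv F36894)
theorem F46170 : act 4 n9918 = n7806 := d32_1 D9918 (iv D7806) (iv F36895)
theorem F46171 : act 6 n9918 = n7810 := d39_1 D9918 (iv D7810) (iv D6193) (iv F29627) D7805
theorem F46172 : act 9 n9918 = n7894 := d43_2 (iv F36896) D9918 (iv D7894)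
def n9919 : Q := act 1 n7807
theorem D9919 : act 1 n7807 = n9919 := rfl
theorem F46174 : act 4 n9919 = n9919 := d11_2 F36903 D9919 (iv D9919)
theorem F46175 : act 9 n9919 = n7895 := d16_2 (iv F36904) D9919 (iv D7895)
def n9920 : Q := act 6 n7807
theorem D9920 : act 6 n7807 = n9920 := rfl
theorem F46176 : act 2 n9920 = n7808 := d20_1 D9920 (iv D7808) D7807
theorem F46177 : act 3 n9920 = n7835 := d26_1 D9920 (iv D7835) (iv F36902)
theorem F46178 : act 4 n9920 = n9920 := d31_1 D9920 (iv D9920) F36903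
theorem F46179 : act 9 n9920 = n7896 := d41_2 (iv F36904) D9920 (iv D7896)
def n9921 : Q := act 5 n7808
theorem D9921 : act 5 n7808 = n9921 := rfl
theorem F46180 : act 3 n9921 = n7809 := d25_1 D9921 (iv D7809) (iv F36905)
theorem F46181 : act 9 n9921 = n7897 := d38_2 (iv F36907) D9921 (iv D7897)
def n9922 : Q := act 7 n7808
theorem D9922 : act 7 n7808 = n9922 := rfl
theorem F46182 : act 3 n9922 = n7810 := d27_1 D9922 (iv D7810) (iv F36905)
def n9923 : Q := act 7 n7809
theorem D9923 : act 7 n7809 = n9923 := rfl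
theorem F46187 : act 5 n9923 = n7810 := d36_1 D9923 (iv D7810) D7809
def n9924 : Q := act 8 n7809
theorem D9924 : act 8 n7809 = n9924 := rfl
theorem F46189 : act 2 n9924 = n7839 := d22_1 D9924 (iv D7839) (iv F36908)
theorem F46190 : act 4 n9924 = n7814 := d33_1 D9924 (iv D7814) (iv F36909)
def n9925 : Q := act 4 n7811
theorem D9925 : act 4 n7811 = n9925 := rfl
theorem F46191 : act 2 n9925 = n9925 := d18_1 D9925 (iv D9925) F36914
theorem F46192 : act 5 n9925 = n9925 := d30_2 D7811 D9925 (iv D9925) (iv D7811) F29644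
theorem F46193 : act 9 n9925 = n7901 := d34_2 (iv F36916) D9925 (iv D7901)
def n9926 : Q := act 7 n7811
theorem D9926 : act 7 n7811 = n9926 := rfl
def n9927 : Q := act 8 n7811
theorem D9927 : act 8 n7811 = n9927 := rfl
theorem F46198 : act 2 n9927 = n9927 := d22_1 D9927 (iv D9927) F36914
theorem F46199 : act 3 n9927 = n7814 := d28_1 D9927 (iv D7814) (iv F36915)
theorem F46200 : act 5 n9927 = n9927 := d37_1 D9927 (iv D9927) (iv D7811) F29645 D7811
def n9928 : Q := act 6 n7813
theorem D9928 : act 6 n7813 = n9928 := rfl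
def n9929 : Q := act 8 n7813
theorem D9929 : act 8 n7813 = n9929 := rfl
theorem F46206 : act 7 n9929 = n7814 := d42_1 D9929 (iv D7814) D7813
def n9930 : Q := act 9 n7814
theorem D9930 : act 9 n7814 = n9930 := rfl
theorem F46207 : act 2 n9930 = n7842 := d23_1 D9930 (iv D7842) (iv F36926)
theorem F46208 : act 5 n9930 = n9930 := d38_1 D9930 (iv D9930) F36927
theorem F46209 : act 8 n9930 = n7906 := d44_1 D9930 (iv D7906) (iv D6263) (iv F29648) D7814
def n9931 : Q := act 4 n7815
theorem D9931 : act 4 n7815 = n9931 := rfl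
theorem F46210 : act 1 n9931 = n8349 := d11_1 D9931 (iv D8349) (iv F36928)
theorem F46211 : act 5 n9931 = n7821 := d30_2 D7815 D9931 (iv D7821) (iv D6202) (iv F29656)
theorem F46212 : act 7 n9931 = n9931 := d32_2 F36930 D9931 (iv D9931)
theorem F46213 : act 9 n9931 = n9931 := d34_2 F36931 D9931 (iv D9931)
def n9932 : Q := act 6 n7815
theorem D9932 : act 6 n7815 = n9932 := rfl
theorem F46214 : act 1 n9932 = n8350 := d13_1 D9932 (iv D8350) (iv F36928)
theorem F46215 : act 3 n9932 = n9932 := d26_1 D9932 (iv D9932) F36929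
theorem F46216 : act 5 n9932 = n7817 := d35_1 D9932 (iv D7817) (iv D6199) (iv F29657) D7815
theorem F46217 : act 9 n9932 = n9932 := d41_2 F36931 D9932 (iv D9932)
def n9933 : Q := act 3 n7816
theorem D9933 : act 3 n7816 = n9933 := rfl
theorem F46219 : act 4 n9933 = n9933 := d24_2 D7816 D9933 (iv D9933) (iv D7816) F29661
theorem F46220 : act 5 n9933 = n7823 := d25_2 (iv F36933) D9933 (iv D7823)
theorem F46221 : act 7 n9933 = n7818 := d27_2 (iv F36934) D9933 (iv D7818)
theorem F46222 : act 9 n9933 = n9933 := d29_2 F36935 D9933 (iv D9933)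
def n9934 : Q := act 6 n7816
theorem D9934 : act 6 n7816 = n9934 := rfl
theorem F46223 : act 1 n9934 = n8352 := d13_1 D9934 (iv D8352) (iv F36932)
theorem F46224 : act 4 n9934 = n7817 := d31_1 D9934 (iv D7817) D7816
theorem F46225 : act 9 n9934 = n9934 := d41_2 F36935 D9934 (iv D9934)
def n9935 : Q := act 7 n7817
theorem D9935 : act 7 n7817 = n9935 := rfl
theorem F46226 : act 1 n9935 = n8353 := d14_1 D9935 (iv D8353) (iv F36936)
theorem F46227 : act 3 n9935 = n9935 := d27_1 D9935 (iv D9935) F36937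
theorem F46228 : act 6 n9935 = n7820 := d39_1 D9935 (iv D7820) (iv D6201) (iv F29662) D7817
theorem F46229 : act 9 n9935 = n9935 := d43_2 F36938 D9935 (iv D9935)
def n9936 : Q := act 2 n7818
theorem D9936 : act 2 n7818 = n9936 := rfl
theorem F46230 : act 4 n9936 = n9936 := d18_2 F36940 D9936 (iv D9936)
theorem F46231 : act 5 n9936 = n7826 := d19_2 (iv F36941) D9936 (iv D7826)
theorem F46232 : act 9 n9936 = n9936 := d23_2 F36942 D9936 (iv D9936)
def n9937 : Q := act 6 n7818
theorem D9937 : act 6 n7818 = n9937 := rfl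
theorem F46233 : act 1 n9937 = n8355 := d13_1 D9937 (iv D8355) (iv F36939)
theorem F46234 : act 3 n9937 = n7819 := d26_1 D9937 (iv D7819) D7818
theorem F46235 : act 4 n9937 = n9937 := d31_1 D9937 (iv D9937) F36940
theorem F46236 : act 9 n9937 = n9937 := d41_2 F36942 D9937 (iv D9937)
def n9938 : Q := act 5 n7819
theorem D9938 : act 5 n7819 = n9938 := rfl
theorem F46237 : act 1 n9938 = n8356 := d12_1 D9938 (iv D8356) (iv F36943)
theorem F46238 : act 4 n9938 = n9938 := d30_1 D9938 (iv D9938) F36944 F29669 (iv F36944)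
theorem F46239 : act 6 n9938 = n7828 := d35_2 D7819 D9938 (iv D7828) (iv D6206) (iv F29665)
theorem F46240 : act 9 n9938 = n9938 := d38_2 F36945 D9938 (iv D9938)
def n9939 : Q := act 7 n7819
theorem D9939 : act 7 n7819 = n9939 := rfl
theorem F46241 : act 1 n9939 = n8357 := d14_1 D9939 (iv D8357) (iv F36943)
theorem F46242 : act 4 n9939 = n7820 := d32_1 D9939 (iv D7820) (iv F36944)
theorem F46243 : act 9 n9939 = n9939 := d43_2 F36945 D9939 (iv D9939)
def n9940 : Q := act 3 n7821
theorem D9940 : act 3 n7821 = n9940 := rfl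
theorem F46244 : act 1 n9940 = n8358 := d10_1 D9940 (iv D8358) (iv F36950)
theorem F46245 : act 4 n9940 = n7843 := d24_2 D7821 D9940 (iv D7843) (iv D6217) (iv F29672)
def n9941 : Q := act 6 n7821
theorem D9941 : act 6 n7821 = n9941 := rfl
theorem F46250 : act 4 n9941 = n7822 := d31_1 D9941 (iv D7822) D7821
def n9942 : Q := act 7 n7822
theorem D9942 : act 7 n7822 = n9942 := rfl
theorem F46255 : act 5 n9942 = n7825 := d36_1 D9942 (iv D7825) (iv F36956)
def n9943 : Q := act 2 n7823
theorem D9943 : act 2 n7823 = n9943 := rfl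
theorem F46259 : act 4 n9943 = n7846 := d18_2 (iv F36960) D9943 (iv D7846)
theorem F46260 : act 7 n9943 = n7826 := d21_2 (iv F36961) D9943 (iv D7826)
def n9944 : Q := act 6 n7823
theorem D9944 : act 6 n7823 = n9944 := rfl
theorem F46264 : act 3 n9944 = n7824 := d26_1 D9944 (iv D7824) D7823
theorem F46265 : act 4 n9944 = n7847 := d31_1 D9944 (iv D7847) (iv F36960)
def n9945 : Q := act 5 n7824
theorem D9945 : act 5 n7824 = n9945 := rfl
theorem F46269 : act 9 n9945 = n9945 := d38_2 F36967 D9945 (iv D9945)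
def n9946 : Q := act 7 n7824
theorem D9946 : act 7 n7824 = n9946 := rfl
theorem F46270 : act 1 n9946 = n8364 := d14_1 D9946 (iv D8364) (iv F36964)
theorem F46271 : act 4 n9946 = n7825 := d32_1 D9946 (iv D7825) (iv F36965)
theorem F46272 : act 6 n9946 = n7829 := d39_1 D9946 (iv D7829) (iv D6206) (iv F29677) D7824
theorem F46273 : act 8 n9946 = n7833 := d42_2 (iv F36966) D9946 (iv D7833)
theorem F46274 : act 9 n9946 = n9946 := d43_2 F36967 D9946 (iv D9946)
def n9947 : Q := act 1 n7826
theorem D9947 : act 1 n7826 = n9947 := rfl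
def n9948 : Q := act 6 n7826
theorem D9948 : act 6 n7826 = n9948 := rfl
theorem F46279 : act 2 n9948 = n7827 := d20_1 D9948 (iv D7827) D7826
theorem F46280 : act 4 n9948 = n7851 := d31_1 D9948 (iv D7851) (iv F36973)
theorem F46281 : act 8 n9948 = n7835 := d40_2 (iv F36974) D9948 (iv D7835)
theorem F46282 : act 9 n9948 = n9948 := d41_2 F36975 D9948 (iv D9948)
def n9949 : Q := act 5 n7827
theorem D9949 : act 5 n7827 = n9949 := rfl
theorem F46283 : act 1 n9949 = n8367 := d12_1 D9949 (iv D8367) (iv F36976)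
theorem F46284 : act 3 n9949 = n7828 := d25_1 D9949 (iv D7828) (iv F36977)
theorem F46285 : act 9 n9949 = n9949 := d38_2 F36980 D9949 (iv D9949)
def n9950 : Q := act 7 n7827
theorem D9950 : act 7 n7827 = n9950 := rfl
theorem F46286 : act 1 n9950 = n8368 := d14_1 D9950 (iv D8368) (iv F36976)
theorem F46287 : act 3 n9950 = n7829 := d27_1 D9950 (iv D7829) (iv F36977)
theorem F46288 : act 4 n9950 = n7853 := d32_1 D9950 (iv D7853) (iv F36978)
theorem F46289 : act 8 n9950 = n7837 := d42_2 (iv F36979) D9950 (iv D7837)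
theorem F46290 : act 9 n9950 = n9950 := d43_2 F36980 D9950 (iv D9950)
def n9951 : Q := act 7 n7828
theorem D9951 : act 7 n7828 = n9951 := rfl
theorem F46291 : act 1 n9951 = n8369 := d14_1 D9951 (iv D8369) (iv F36981)
theorem F46292 : act 4 n9951 = n9951 := d32_1 D9951 (iv D9951) F36982
theorem F46293 : act 5 n9951 = n7829 := d36_1 D9951 (iv D7829) D7828
theorem F46294 : act 9 n9951 = n9951 := d43_2 F36983 D9951 (iv D9951)
def n9952 : Q := act 8 n7828
theorem D9952 : act 8 n7828 = n9952 := rfl
theorem F46295 : act 1 n9952 = n8370 := d15_1 D9952 (iv D8370) (iv F36981)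
theorem F46296 : act 4 n9952 = n9952 := d33_1 D9952 (iv D9952) F36982
theorem F46297 : act 5 n9952 = n7839 := d37_1 D9952 (iv D7839) (iv D6213) (iv F29690) D7828
def n9953 : Q := act 1 n7830
theorem D9953 : act 1 n7830 = n9953 := rfl
theorem F46299 : act 4 n9953 = n7855 := d11_2 (iv F36988) D9953 (iv D7855)
theorem F46300 : act 7 n9953 = n7834 := d14_2 (iv F36989) D9953 (iv D7834)
def n9954 : Q := act 6 n7830
theorem D9954 : act 6 n7830 = n9954 := rfl
theorem F46303 : act 4 n9954 = n7856 := d31_1 D9954 (iv D7856) (iv F36988)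
def n9955 : Q := act 5 n7831
theorem D9955 : act 5 n7831 = n9955 := rfl
theorem F46306 : act 3 n9955 = n7832 := d25_1 D9955 (iv D7832) (iv F36992)
def n9956 : Q := act 7 n7831
theorem D9956 : act 7 n7831 = n9956 := rfl
theorem F46309 : act 3 n9956 = n7833 := d27_1 D9956 (iv D7833) (iv F36992)
theorem F46310 : act 4 n9956 = n7858 := d32_1 D9956 (iv D7858) (iv F36993)
theorem F46311 : act 6 n9956 = n7837 := d39_1 D9956 (iv D7837) (iv D6212) (iv F29699) D7831
def n9957 : Q := act 7 n7832
theorem D9957 : act 7 n7832 = n9957 := rfl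
theorem F46313 : act 1 n9957 = n8375 := d14_1 D9957 (iv D8375) (iv F36995)
theorem F46314 : act 4 n9957 = n9957 := d32_1 D9957 (iv D9957) F36996
theorem F46315 : act 5 n9957 = n7833 := d36_1 D9957 (iv D7833) D7832
theorem F46316 : act 9 n9957 = n7911 := d43_2 (iv F36997) D9957 (iv D7911)
def n9958 : Q := act 8 n7832
theorem D9958 : act 8 n7832 = n9958 := rfl
theorem F46318 : act 4 n9958 = n9958 := d33_1 D9958 (iv D9958) F36996
def n9959 : Q := act 0 n7834
theorem D9959 : act 0 n7834 = n9959 := rfl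
def n9960 : Q := act 6 n7834
theorem D9960 : act 6 n7834 = n9960 := rfl
theorem F46322 : act 1 n9960 = n7835 := d13_1 D9960 (iv D7835) D7834
def n9961 : Q := act 5 n7835
theorem D9961 : act 5 n7835 = n9961 := rfl
theorem F46326 : act 2 n9961 = n7836 := d19_1 D9961 (iv D7836) (iv F37005)
theorem F46327 : act 4 n9961 = n9961 := d30_1 D9961 (iv D9961) F37006 F29796 (iv F37006)
theorem F46328 : act 9 n9961 = n7915 := d38_2 (iv F37007) D9961 (iv D7915)
def n9962 : Q := act 7 n7835
theorem D9962 : act 7 n7835 = n9962 := rfl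
theorem F46329 : act 2 n9962 = n7837 := d21_1 D9962 (iv D7837) (iv F37005)
def n9963 : Q := act 7 n7836
theorem D9963 : act 7 n7836 = n9963 := rfl
theorem F46332 : act 1 n9963 = n8381 := d14_1 D9963 (iv D8381) (iv F37008)
theorem F46333 : act 3 n9963 = n7838 := d27_1 D9963 (iv D7838) (iv F37009)
theorem F46334 : act 4 n9963 = n9963 := d32_1 D9963 (iv D9963) F37010
theorem F46335 : act 5 n9963 = n7837 := d36_1 D9963 (iv D7837) D7836
theorem F46336 : act 9 n9963 = n7917 := d43_2 (iv F37011) D9963 (iv D7917)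
def n9964 : Q := act 8 n7836
theorem D9964 : act 8 n7836 = n9964 := rfl
theorem F46337 : act 1 n9964 = n8382 := d15_1 D9964 (iv D8382) (iv F37008)
theorem F46338 : act 3 n9964 = n7839 := d28_1 D9964 (iv D7839) (iv F37009)
theorem F46339 : act 4 n9964 = n9964 := d33_1 D9964 (iv D9964) F37010
def n9965 : Q := act 6 n7838
theorem D9965 : act 6 n7838 = n9965 := rfl
theorem F46340 : act 1 n9965 = n8383 := d13_1 D9965 (iv D8383) (iv F37016)
theorem F46341 : act 4 n9965 = n7840 := d31_1 D9965 (iv D7840) (iv F37017)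
theorem F46342 : act 9 n9965 = n7919 := d41_2 (iv F37019) D9965 (iv D7919)
def n9966 : Q := act 8 n7838
theorem D9966 : act 8 n7838 = n9966 := rfl
theorem F46343 : act 1 n9966 = n8384 := d15_1 D9966 (iv D8384) (iv F37016)
theorem F46344 : act 4 n9966 = n7841 := d33_1 D9966 (iv D7841) (iv F37017)
theorem F46345 : act 7 n9966 = n7839 := d42_1 D9966 (iv D7839) D7838
def n9967 : Q := act 9 n7839
theorem D9967 : act 9 n7839 = n9967 := rfl
theorem F46346 : act 1 n9967 = n8385 := d16_1 D9967 (iv D8385) (iv F37020)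
theorem F46347 : act 4 n9967 = n7842 := d34_1 D9967 (iv D7842) (iv F37021)
theorem F46348 : act 8 n9967 = n7921 := d44_1 D9967 (iv D7921) (iv D6273) (iv F29717) D7839
def n9968 : Q := act 8 n7840
theorem D9968 : act 8 n7840 = n9968 := rfl
theorem F46349 : act 1 n9968 = n8386 := d15_1 D9968 (iv D8386) (iv F37022)
theorem F46350 : act 3 n9968 = n9968 := d28_1 D9968 (iv D9968) F37023
theorem F46351 : act 6 n9968 = n7841 := d40_1 D9968 (iv D7841) D7840
def n9969 : Q := act 9 n7841
theorem D9969 : act 9 n7841 = n9969 := rfl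
theorem F46352 : act 1 n9969 = n8387 := d16_1 D9969 (iv D8387) (iv F37026)
theorem F46353 : act 3 n9969 = n9969 := d29_1 D9969 (iv D9969) F37027
theorem F46354 : act 5 n9969 = n9969 := d38_1 D9969 (iv D9969) F37028
theorem F46355 : act 7 n9969 = n7842 := d43_1 D9969 (iv D7842) (iv F37029)
theorem F46356 : act 8 n9969 = n7923 := d44_1 D9969 (iv D7923) (iv D6275) (iv F29724) D7841
def n9971 : Q := act 6 n7843
theorem D9971 : act 6 n7843 = n9971 := rfl
theorem F46364 : act 3 n9971 = n7844 := d26_1 D9971 (iv D7844) D7843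
def n9972 : Q := act 5 n7844
theorem D9972 : act 5 n7844 = n9972 := rfl
theorem F46369 : act 4 n9972 = n7848 := d30_1 D9972 (iv D7848) F29746 (iv F29736) (iv F37041)
def n9974 : Q := act 1 n7846
theorem D9974 : act 1 n7846 = n9974 := rfl
theorem F46381 : act 7 n9974 = n7850 := d14_2 (iv F37052) D9974 (iv D7850)
theorem F46382 : act 8 n9974 = n7855 := d15_2 (iv F37053) D9974 (iv D7855)
def n9975 : Q := act 6 n7846
theorem D9975 : act 6 n7846 = n9975 := rfl
theorem F46386 : act 8 n9975 = n7856 := d40_2 (iv F37053) D9975 (iv D7856)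
def n9976 : Q := act 5 n7847
theorem D9976 : act 5 n7847 = n9976 := rfl
def n9977 : Q := act 7 n7847
theorem D9977 : act 7 n7847 = n9977 := rfl
theorem F46394 : act 6 n9977 = n7853 := d39_1 D9977 (iv D7853) (iv D6223) (iv F29741) D7847
def n9978 : Q := act 7 n7848
theorem D9978 : act 7 n7848 = n9978 := rfl
theorem F46399 : act 5 n9978 = n7849 := d36_1 D9978 (iv D7849) D7848
def n9979 : Q := act 8 n7848
theorem D9979 : act 8 n7848 = n9979 := rfl
theorem F46403 : act 5 n9979 = n7860 := d37_1 D9979 (iv D7860) (iv D6228) (iv F29747) D7848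
def n9980 : Q := act 0 n7850
theorem D9980 : act 0 n7850 = n9980 := rfl
def n9981 : Q := act 6 n7850
theorem D9981 : act 6 n7850 = n9981 := rfl
theorem F46410 : act 1 n9981 = n7851 := d13_1 D9981 (iv D7851) D7850
def n9982 : Q := act 5 n7851
theorem D9982 : act 5 n7851 = n9982 := rfl
theorem F46415 : act 2 n9982 = n7852 := d19_1 D9982 (iv D7852) (iv F37074)
theorem F46416 : act 3 n9982 = n9982 := d25_1 D9982 (iv D9982) F37075
theorem F46417 : act 6 n9982 = n9982 := d35_2 D7851 D9982 (iv D9982) (iv D7851) F29755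
theorem F46418 : act 8 n9982 = n9982 := d37_2 (iv F37076) D9982 (iv D9982) F37076 F29796
theorem F46419 : act 9 n9982 = n9982 := d38_2 F37077 D9982 (iv D9982)
def n9983 : Q := act 7 n7851
theorem D9983 : act 7 n7851 = n9983 := rfl
def n9984 : Q := act 4 n7852
theorem D9984 : act 4 n7852 = n9984 := rfl
theorem F46424 : act 1 n9984 = n8401 := d11_1 D9984 (iv D8401) (iv F37078)
theorem F46425 : act 3 n9984 = n9984 := d24_1 D9984 (iv D9984) F37079 F29764 (iv F37079)
theorem F46426 : act 6 n9984 = n9984 := d31_2 F37080 D9984 (iv D9984)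
theorem F46427 : act 8 n9984 = n9984 := d33_2 F37081 D9984 (iv D9984)
theorem F46428 : act 9 n9984 = n9984 := d34_2 F37082 D9984 (iv D9984)
def n9985 : Q := act 7 n7852
theorem D9985 : act 7 n7852 = n9985 := rfl
theorem F46431 : act 5 n9985 = n7853 := d36_1 D9985 (iv D7853) D7852
def n9987 : Q := act 0 n7855
theorem D9987 : act 0 n7855 = n9987 := rfl
theorem F46440 : act 2 n9987 = n8404 := d1_2 (iv F37093) D9987 (iv D8404)
def n9988 : Q := act 6 n7855
theorem D9988 : act 6 n7855 = n9988 := rfl
theorem F46445 : act 1 n9988 = n7856 := d13_1 D9988 (iv D7856) D7855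
theorem F46446 : act 2 n9988 = n8405 := d20_1 D9988 (iv D8405) (iv F37093)
def n9989 : Q := act 5 n7856
theorem D9989 : act 5 n7856 = n9989 := rfl
def n9990 : Q := act 7 n7856
theorem D9990 : act 7 n7856 = n9990 := rfl
theorem F46455 : act 6 n9990 = n7863 := d39_1 D9990 (iv D7863) (iv D6231) (iv F29775) D7856
def n9991 : Q := act 4 n7857
theorem D9991 : act 4 n7857 = n9991 := rfl
theorem F46457 : act 1 n9991 = n8408 := d11_1 D9991 (iv D8408) (iv F37101)
def n9992 : Q := act 7 n7857
theorem D9992 : act 7 n7857 = n9992 := rfl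
theorem F46463 : act 5 n9992 = n7858 := d36_1 D9992 (iv D7858) D7857
def n9993 : Q := act 8 n7857
theorem D9993 : act 8 n7857 = n9993 := rfl
theorem F46468 : act 6 n9993 = n7868 := d40_1 D9993 (iv D7868) (iv F37103)
def n9994 : Q := act 8 n7859
theorem D9994 : act 8 n7859 = n9994 := rfl
theorem F46473 : act 7 n9994 = n7860 := d42_1 D9994 (iv D7860) D7859
def n9995 : Q := act 9 n7860
theorem D9995 : act 9 n7860 = n9995 := rfl
theorem F46477 : act 6 n9995 = n7869 := d41_1 D9995 (iv D7869) (iv F37118)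
def n9997 : Q := act 7 n7862
theorem D9997 : act 7 n7862 = n9997 := rfl
def n9998 : Q := act 6 n7864
theorem D9998 : act 6 n7864 = n9998 := rfl
theorem F46490 : act 2 n9998 = n8415 := d20_1 D9998 (iv D8415) (iv F37132)
def n9999 : Q := act 5 n7865
theorem D9999 : act 5 n7865 = n9999 := rfl
theorem F46495 : act 1 n9999 = n7866 := d12_1 D9999 (iv D7866) (iv F37137)
theorem F46496 : act 2 n9999 = n8416 := d19_1 D9999 (iv D8416) (iv F37138)
def n10001 : Q := act 8 n7866
theorem D10001 : act 8 n7866 = n10001 := rfl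
def n10002 : Q := act 8 n7867
theorem D10002 : act 8 n7867 = n10002 := rfl
theorem F46507 : act 1 n10002 = n8419 := d15_1 D10002 (iv D8419) (iv F37147)
def n10003 : Q := act 9 n7868
theorem D10003 : act 9 n7868 = n10003 := rfl
theorem F46511 : act 1 n10003 = n8420 := d16_1 D10003 (iv D8420) (iv F37151)
def n10004 : Q := act 3 n7870
theorem D10004 : act 3 n7870 = n10004 := rfl
theorem F46516 : act 0 n10004 = n7879 := d2_1 D10004 (iv D7879) (iv F37161)
theorem F46517 : act 4 n10004 = n10004 := d24_2 D7870 D10004 (iv D10004) (iv D7870) F29828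
theorem F46518 : act 7 n10004 = n7872 := d27_2 (iv F37163) D10004 (iv D7872)
theorem F46519 : act 8 n10004 = n10004 := d28_2 F37164 D10004 (iv D10004)
def n10005 : Q := act 6 n7870
theorem D10005 : act 6 n7870 = n10005 := rfl
theorem F46520 : act 0 n10005 = n7880 := d5_1 D10005 (iv D7880) (iv F37161)
theorem F46521 : act 2 n10005 = n8422 := d20_1 D10005 (iv D8422) (iv F37162)
def n10007 : Q := act 2 n7872
theorem D10007 : act 2 n7872 = n10007 := rfl
theorem F46530 : act 0 n10007 = n7882 := d1_1 D10007 (iv D7882) (iv F37170)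
theorem F46531 : act 3 n10007 = n8424 := d17_2 D7872 D10007 (iv D8424) (iv D6652) (iv F29832)
def n10008 : Q := act 6 n7872
theorem D10008 : act 6 n7872 = n10008 := rfl
theorem F46534 : act 0 n10008 = n7883 := d5_1 D10008 (iv D7883) (iv F37170)
theorem F46535 : act 3 n10008 = n7873 := d26_1 D10008 (iv D7873) D7872
def n10009 : Q := act 5 n7873
theorem D10009 : act 5 n7873 = n10009 := rfl
theorem F46539 : act 2 n10009 = n8426 := d19_1 D10009 (iv D8426) (iv F37174)
theorem F46540 : act 4 n10009 = n7877 := d30_1 D10009 (iv D7877) F29845 (iv F29837) (iv F37175)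
def n10010 : Q := act 7 n7873
theorem D10010 : act 7 n7873 = n10010 := rfl
theorem F46542 : act 2 n10010 = n8427 := d21_1 D10010 (iv D8427) (iv F37174)
def n10011 : Q := act 1 n7875
theorem D10011 : act 1 n7875 = n10011 := rfl
theorem F46546 : act 3 n10011 = n8428 := d10_2 (iv F37183) D10011 (iv D8428)
theorem F46549 : act 8 n10011 = n7944 := d15_2 (iv F37186) D10011 (iv D7944)
def n10012 : Q := act 6 n7875
theorem D10012 : act 6 n7875 = n10012 := rfl
theorem F46550 : act 0 n10012 = n7886 := d5_1 D10012 (iv D7886) (iv F37182)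
theorem F46551 : act 2 n10012 = n7876 := d20_1 D10012 (iv D7876) D7875
theorem F46552 : act 3 n10012 = n8429 := d26_1 D10012 (iv D8429) (iv F37183)
def n10013 : Q := act 5 n7876
theorem D10013 : act 5 n7876 = n10013 := rfl
theorem F46555 : act 0 n10013 = n7887 := d4_1 D10013 (iv D7887) (iv F37187)
theorem F46556 : act 3 n10013 = n7877 := d25_1 D10013 (iv D7877) (iv F37188)
def n10014 : Q := act 7 n7876
theorem D10014 : act 7 n7876 = n10014 := rfl
theorem F46561 : act 8 n10014 = n7947 := d42_2 (iv F37190) D10014 (iv D7947)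
def n10015 : Q := act 7 n7877
theorem D10015 : act 7 n7877 = n10015 := rfl
theorem F46563 : act 2 n10015 = n8432 := d21_1 D10015 (iv D8432) (iv F37192)
theorem F46564 : act 5 n10015 = n7878 := d36_1 D10015 (iv D7878) D7877
def n10016 : Q := act 8 n7877
theorem D10016 : act 8 n7877 = n10016 := rfl
theorem F46566 : act 2 n10016 = n8433 := d22_1 D10016 (iv D8433) (iv F37192)
def n10017 : Q := act 2 n7879
theorem D10017 : act 2 n7879 = n10017 := rfl
theorem F46568 : act 3 n10017 = n8434 := d17_2 D7879 D10017 (iv D8434) (iv D6659) (iv F29853)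
theorem F46569 : act 4 n10017 = n10017 := d18_2 F37199 D10017 (iv D10017)
theorem F46570 : act 7 n10017 = n7882 := d21_2 (iv F37200) D10017 (iv D7882)
theorem F46571 : act 8 n10017 = n10017 := d22_2 F37201 D10017 (iv D10017)
def n10018 : Q := act 6 n7879
theorem D10018 : act 6 n7879 = n10018 := rfl
theorem F46572 : act 1 n10018 = n7892 := d13_1 D10018 (iv D7892) (iv F37198)
theorem F46573 : act 3 n10018 = n7880 := d26_1 D10018 (iv D7880) D7879
theorem F46574 : act 4 n10018 = n10018 := d31_1 D10018 (iv D10018) F37199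
theorem F46575 : act 8 n10018 = n10018 := d40_2 F37201 D10018 (iv D10018)
def n10019 : Q := act 5 n7880
theorem D10019 : act 5 n7880 = n10019 := rfl
theorem F46576 : act 1 n10019 = n7893 := d12_1 D10019 (iv D7893) (iv F37202)
theorem F46577 : act 2 n10019 = n8436 := d19_1 D10019 (iv D8436) (iv F37203)
theorem F46578 : act 4 n10019 = n10019 := d30_1 D10019 (iv D10019) F37204 F29859 (iv F37204)
def n10020 : Q := act 7 n7880
theorem D10020 : act 7 n7880 = n10020 := rfl
theorem F46579 : act 1 n10020 = n7894 := d14_1 D10020 (iv D7894) (iv F37202)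
theorem F46582 : act 6 n10020 = n7885 := d39_1 D10020 (iv D7885) (iv D6247) (iv F29854) D7880
def n10021 : Q := act 1 n7882
theorem D10021 : act 1 n7882 = n10021 := rfl
theorem F46584 : act 2 n10021 = n7895 := d9_2 D7882 D10021 (iv D7895) (iv D6256) (iv F29861)
theorem F46585 : act 3 n10021 = n8438 := d10_2 (iv F37212) D10021 (iv D8438)
def n10022 : Q := act 6 n7882
theorem D10022 : act 6 n7882 = n10022 := rfl
theorem F46588 : act 2 n10022 = n7883 := d20_1 D10022 (iv D7883) D7882
theorem F46589 : act 3 n10022 = n8439 := d26_1 D10022 (iv D8439) (iv F37212)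
def n10023 : Q := act 5 n7883
theorem D10023 : act 5 n7883 = n10023 := rfl
theorem F46592 : act 1 n10023 = n7897 := d12_1 D10023 (iv D7897) (iv F37215)
theorem F46593 : act 3 n10023 = n7884 := d25_1 D10023 (iv D7884) (iv F37216)
def n10024 : Q := act 7 n7883
theorem D10024 : act 7 n7883 = n10024 := rfl
theorem F46594 : act 1 n10024 = n7898 := d14_1 D10024 (iv D7898) (iv F37215)
def n10025 : Q := act 7 n7884
theorem D10025 : act 7 n7884 = n10025 := rfl
theorem F46598 : act 1 n10025 = n7899 := d14_1 D10025 (iv D7899) (iv F37219)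
theorem F46599 : act 2 n10025 = n8442 := d21_1 D10025 (iv D8442) (iv F37220)
theorem F46601 : act 5 n10025 = n7885 := d36_1 D10025 (iv D7885) D7884
def n10026 : Q := act 8 n7884
theorem D10026 : act 8 n7884 = n10026 := rfl
theorem F46602 : act 1 n10026 = n7900 := d15_1 D10026 (iv D7900) (iv F37219)
def n10027 : Q := act 5 n7886
theorem D10027 : act 5 n7886 = n10027 := rfl
theorem F46607 : act 2 n10027 = n7887 := d19_1 D10027 (iv D7887) (iv F37227)
theorem F46608 : act 3 n10027 = n8444 := d25_1 D10027 (iv D8444) (iv F37228)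
def n10028 : Q := act 7 n7886
theorem D10028 : act 7 n7886 = n10028 := rfl
theorem F46610 : act 2 n10028 = n7888 := d21_1 D10028 (iv D7888) (iv F37227)
theorem F46611 : act 3 n10028 = n8445 := d27_1 D10028 (iv D8445) (iv F37228)
def n10029 : Q := act 4 n7887
theorem D10029 : act 4 n7887 = n10029 := rfl
theorem F46615 : act 1 n10029 = n7901 := d11_1 D10029 (iv D7901) (iv F37231)
def n10030 : Q := act 7 n7887
theorem D10030 : act 7 n7887 = n10030 := rfl
theorem F46617 : act 1 n10030 = n7902 := d14_1 D10030 (iv D7902) (iv F37231)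
theorem F46619 : act 5 n10030 = n7888 := d36_1 D10030 (iv D7888) D7887
def n10031 : Q := act 8 n7887
theorem D10031 : act 8 n7887 = n10031 := rfl
theorem F46620 : act 1 n10031 = n7903 := d15_1 D10031 (iv D7903) (iv F37231)
theorem F46622 : act 5 n10031 = n7954 := d37_1 D10031 (iv D7954) (iv D6301) (iv F29881) D7887
def n10032 : Q := act 6 n7889
theorem D10032 : act 6 n7889 = n10032 := rfl
theorem F46623 : act 1 n10032 = n7904 := d13_1 D10032 (iv D7904) (iv F37238)
def n10033 : Q := act 8 n7889
theorem D10033 : act 8 n7889 = n10033 := rfl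
theorem F46626 : act 1 n10033 = n7905 := d15_1 D10033 (iv D7905) (iv F37238)
theorem F46627 : act 2 n10033 = n8450 := d22_1 D10033 (iv D8450) (iv F37239)
theorem F46628 : act 5 n10033 = n7956 := d37_1 D10033 (iv D7956) F30086 (iv F29888) (iv F37240)
def n10034 : Q := act 9 n7890
theorem D10034 : act 9 n7890 = n10034 := rfl
theorem F46630 : act 1 n10034 = n7906 := d16_1 D10034 (iv D7906) (iv F37241)
def n10035 : Q := act 1 n7891
theorem D10035 : act 1 n7891 = n10035 := rfl
theorem F46633 : act 3 n10035 = n7907 := d10_2 (iv F37244) D10035 (iv D7907)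
theorem F46635 : act 7 n10035 = n7895 := d14_2 (iv F37246) D10035 (iv D7895)
def n10036 : Q := act 6 n7891
theorem D10036 : act 6 n7891 = n10036 := rfl
theorem F46637 : act 2 n10036 = n7892 := d20_1 D10036 (iv D7892) D7891
theorem F46638 : act 3 n10036 = n7908 := d26_1 D10036 (iv D7908) (iv F37244)
def n10037 : Q := act 5 n7892
theorem D10037 : act 5 n7892 = n10037 := rfl
theorem F46641 : act 3 n10037 = n7893 := d25_1 D10037 (iv D7893) (iv F37248)
def n10038 : Q := act 7 n7892
theorem D10038 : act 7 n7892 = n10038 := rfl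
theorem F46642 : act 3 n10038 = n7894 := d27_1 D10038 (iv D7894) (iv F37248)
def n10039 : Q := act 7 n7893
theorem D10039 : act 7 n7893 = n10039 := rfl
theorem F46646 : act 2 n10039 = n7911 := d21_1 D10039 (iv D7911) (iv F37251)
theorem F46647 : act 4 n10039 = n10039 := d32_1 D10039 (iv D10039) F37252
theorem F46648 : act 5 n10039 = n7894 := d36_1 D10039 (iv D7894) D7893
def n10040 : Q := act 8 n7893
theorem D10040 : act 8 n7893 = n10040 := rfl
theorem F46649 : act 2 n10040 = n7912 := d22_1 D10040 (iv D7912) (iv F37251)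
theorem F46650 : act 4 n10040 = n10040 := d33_1 D10040 (iv D10040) F37252
theorem F46651 : act 5 n10040 = n10040 := d37_1 D10040 (iv D10040) (iv D7893) F29894 D7893
def n10041 : Q := act 0 n7895
theorem D10041 : act 0 n7895 = n10041 := rfl
theorem F46652 : act 3 n10041 = n7913 := d2_2 (iv F37257) D10041 (iv D7913)
def n10042 : Q := act 6 n7895
theorem D10042 : act 6 n7895 = n10042 := rfl
theorem F46655 : act 1 n10042 = n7896 := d13_1 D10042 (iv D7896) D7895
def n10043 : Q := act 5 n7896
theorem D10043 : act 5 n7896 = n10043 := rfl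
theorem F46659 : act 2 n10043 = n7897 := d19_1 D10043 (iv D7897) (iv F37260)
theorem F46660 : act 3 n10043 = n7915 := d25_1 D10043 (iv D7915) (iv F37261)
def n10044 : Q := act 7 n7896
theorem D10044 : act 7 n7896 = n10044 := rfl
def n10045 : Q := act 4 n7897
theorem D10045 : act 4 n7897 = n10045 := rfl
theorem F46665 : act 3 n10045 = n7901 := d24_1 D10045 (iv D7901) F29912 (iv F29907) (iv F37264)
theorem F46666 : act 5 n10045 = n10045 := d30_2 D7897 D10045 (iv D10045) (iv D7897) F29904
def n10046 : Q := act 7 n7897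
theorem D10046 : act 7 n7897 = n10046 := rfl
def n10047 : Q := act 8 n7897
theorem D10047 : act 8 n7897 = n10047 := rfl
theorem F46669 : act 3 n10047 = n7900 := d28_1 D10047 (iv D7900) (iv F37264)
theorem F46670 : act 5 n10047 = n10047 := d37_1 D10047 (iv D10047) (iv D7897) F29905 D7897
def n10048 : Q := act 6 n7899
theorem D10048 : act 6 n7899 = n10048 := rfl
theorem F46672 : act 4 n10048 = n7904 := d31_1 D10048 (iv D7904) (iv F37269)
def n10049 : Q := act 8 n7899
theorem D10049 : act 8 n7899 = n10049 := rfl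
theorem F46676 : act 7 n10049 = n7900 := d42_1 D10049 (iv D7900) D7899
def n10050 : Q := act 9 n7900
theorem D10050 : act 9 n7900 = n10050 := rfl
theorem F46677 : act 2 n10050 = n7921 := d23_1 D10050 (iv D7921) (iv F37271)
theorem F46678 : act 4 n10050 = n7906 := d34_1 D10050 (iv D7906) (iv F37272)
theorem F46679 : act 5 n10050 = n10050 := d38_1 D10050 (iv D10050) F37273
def n10051 : Q := act 7 n7901
theorem D10051 : act 7 n7901 = n10051 := rfl
theorem F46681 : act 4 n10051 = n7902 := d32_1 D10051 (iv D7902) D7901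
def n10052 : Q := act 8 n7901
theorem D10052 : act 8 n7901 = n10052 := rfl
theorem F46684 : act 4 n10052 = n7903 := d33_1 D10052 (iv D7903) D7901
def n10053 : Q := act 6 n7902
theorem D10053 : act 6 n7902 = n10053 := rfl
def n10054 : Q := act 8 n7902
theorem D10054 : act 8 n7902 = n10054 := rfl
theorem F46690 : act 5 n10054 = n7961 := d37_1 D10054 (iv D7961) F30099 (iv F29917) (iv F37278)
def n10055 : Q := act 9 n7903
theorem D10055 : act 9 n7903 = n10055 := rfl
theorem F46693 : act 3 n10055 = n7906 := d29_1 D10055 (iv D7906) (iv F37280)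
def n10056 : Q := act 8 n7904
theorem D10056 : act 8 n7904 = n10056 := rfl
theorem F46696 : act 6 n10056 = n7905 := d40_1 D10056 (iv D7905) D7904
def n10057 : Q := act 9 n7905
theorem D10057 : act 9 n7905 = n10057 := rfl
theorem F46699 : act 7 n10057 = n7906 := d43_1 D10057 (iv D7906) (iv F37286)
def n10058 : Q := act 0 n7907
theorem D10058 : act 0 n7907 = n10058 := rfl
theorem F46700 : act 2 n10058 = n8475 := d1_2 (iv F37289) D10058 (iv D8475)
theorem F46701 : act 4 n10058 = n7924 := d3_2 (iv F37290) D10058 (iv D7924)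
theorem F46702 : act 7 n10058 = n7913 := d6_2 (iv F37291) D10058 (iv D7913)
def n10059 : Q := act 6 n7907
theorem D10059 : act 6 n7907 = n10059 := rfl
theorem F46705 : act 2 n10059 = n8476 := d20_1 D10059 (iv D8476) (iv F37289)
theorem F46706 : act 4 n10059 = n7925 := d31_1 D10059 (iv D7925) (iv F37290)
def n10060 : Q := act 5 n7908
theorem D10060 : act 5 n7908 = n10060 := rfl
def n10061 : Q := act 7 n7908
theorem D10061 : act 7 n7908 = n10061 := rfl
theorem F46710 : act 4 n10061 = n7927 := d32_1 D10061 (iv D7927) (iv F37294)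
theorem F46711 : act 6 n10061 = n7916 := d39_1 D10061 (iv D7916) (iv D6269) (iv F29923) D7908
def n10062 : Q := act 4 n7909
theorem D10062 : act 4 n7909 = n10062 := rfl
theorem F46715 : act 5 n10062 = n7928 := d30_2 D7909 D10062 (iv D7928) (iv D6279) (iv F29927)
def n10063 : Q := act 7 n7909
theorem D10063 : act 7 n7909 = n10063 := rfl
theorem F46716 : act 1 n10063 = n8480 := d14_1 D10063 (iv D8480) (iv F37296)
theorem F46717 : act 3 n10063 = n7911 := d27_1 D10063 (iv D7911) (iv F37297)
theorem F46718 : act 5 n10063 = n7910 := d36_1 D10063 (iv D7910) D7909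
def n10064 : Q := act 8 n7909
theorem D10064 : act 8 n7909 = n10064 := rfl
theorem F46720 : act 3 n10064 = n7912 := d28_1 D10064 (iv D7912) (iv F37297)
def n10065 : Q := act 6 n7911
theorem D10065 : act 6 n7911 = n10065 := rfl
theorem F46722 : act 1 n10065 = n8482 := d13_1 D10065 (iv D8482) (iv F37303)
theorem F46723 : act 4 n10065 = n10065 := d31_1 D10065 (iv D10065) F37304
theorem F46724 : act 5 n10065 = n7919 := d35_1 D10065 (iv D7919) F29950 (iv F29933) (iv F37305)
def n10066 : Q := act 8 n7911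
theorem D10066 : act 8 n7911 = n10066 := rfl
theorem F46725 : act 1 n10066 = n8483 := d15_1 D10066 (iv D8483) (iv F37303)
theorem F46726 : act 4 n10066 = n10066 := d33_1 D10066 (iv D10066) F37304
theorem F46727 : act 5 n10066 = n10066 := d37_1 D10066 (iv D10066) F37305 F29934 (iv F37305)
theorem F46728 : act 7 n10066 = n7912 := d42_1 D10066 (iv D7912) D7911
def n10067 : Q := act 9 n7912
theorem D10067 : act 9 n7912 = n10067 := rfl
theorem F46730 : act 4 n10067 = n10067 := d34_1 D10067 (iv D10067) F37307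
theorem F46731 : act 5 n10067 = n10067 := d38_1 D10067 (iv D10067) F37308
def n10068 : Q := act 6 n7913
theorem D10068 : act 6 n7913 = n10068 := rfl
theorem F46732 : act 0 n10068 = n7914 := d5_1 D10068 (iv D7914) D7913
theorem F46733 : act 2 n10068 = n8485 := d20_1 D10068 (iv D8485) (iv F37309)
def n10069 : Q := act 5 n7914
theorem D10069 : act 5 n7914 = n10069 := rfl
theorem F46736 : act 1 n10069 = n7915 := d12_1 D10069 (iv D7915) (iv F37312)
def n10070 : Q := act 7 n7914
theorem D10070 : act 7 n7914 = n10070 := rfl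
def n10071 : Q := act 7 n7915
theorem D10071 : act 7 n7915 = n10071 := rfl
theorem F46743 : act 2 n10071 = n7917 := d21_1 D10071 (iv D7917) (iv F37316)
theorem F46745 : act 5 n10071 = n7916 := d36_1 D10071 (iv D7916) D7915
def n10072 : Q := act 8 n7915
theorem D10072 : act 8 n7915 = n10072 := rfl
theorem F46746 : act 2 n10072 = n7918 := d22_1 D10072 (iv D7918) (iv F37316)
theorem F46747 : act 4 n10072 = n10072 := d33_1 D10072 (iv D10072) F37317
theorem F46748 : act 5 n10072 = n10072 := d37_1 D10072 (iv D10072) (iv D7915) F29940 D7915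
def n10073 : Q := act 6 n7917
theorem D10073 : act 6 n7917 = n10073 := rfl
theorem F46749 : act 1 n10073 = n8490 := d13_1 D10073 (iv D8490) (iv F37321)
theorem F46750 : act 3 n10073 = n7919 := d26_1 D10073 (iv D7919) (iv F37322)
theorem F46751 : act 4 n10073 = n10073 := d31_1 D10073 (iv D10073) F37323
def n10074 : Q := act 8 n7917
theorem D10074 : act 8 n7917 = n10074 := rfl
theorem F46752 : act 1 n10074 = n8491 := d15_1 D10074 (iv D8491) (iv F37321)
theorem F46753 : act 3 n10074 = n7920 := d28_1 D10074 (iv D7920) (iv F37322)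
theorem F46754 : act 4 n10074 = n10074 := d33_1 D10074 (iv D10074) F37323
theorem F46755 : act 5 n10074 = n10074 := d37_1 D10074 (iv D10074) F37324 F29947 (iv F37324)
theorem F46756 : act 7 n10074 = n7918 := d42_1 D10074 (iv D7918) D7917
def n10075 : Q := act 9 n7918
theorem D10075 : act 9 n7918 = n10075 := rfl
theorem F46757 : act 1 n10075 = n8492 := d16_1 D10075 (iv D8492) (iv F37325)
theorem F46758 : act 3 n10075 = n7921 := d29_1 D10075 (iv D7921) (iv F37326)
theorem F46759 : act 4 n10075 = n10075 := d34_1 D10075 (iv D10075) F37327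
theorem F46760 : act 5 n10075 = n10075 := d38_1 D10075 (iv D10075) F37328
def n10076 : Q := act 8 n7919
theorem D10076 : act 8 n7919 = n10076 := rfl
theorem F46761 : act 1 n10076 = n8493 := d15_1 D10076 (iv D8493) (iv F37329)
theorem F46762 : act 4 n10076 = n7922 := d33_1 D10076 (iv D7922) (iv F37330)
theorem F46763 : act 6 n10076 = n7920 := d40_1 D10076 (iv D7920) D7919
def n10077 : Q := act 9 n7920
theorem D10077 : act 9 n7920 = n10077 := rfl
theorem F46764 : act 1 n10077 = n8494 := d16_1 D10077 (iv D8494) (iv F37331)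
theorem F46765 : act 4 n10077 = n7923 := d34_1 D10077 (iv D7923) (iv F37332)
theorem F46766 : act 5 n10077 = n10077 := d38_1 D10077 (iv D10077) F37333
theorem F46767 : act 7 n10077 = n7921 := d43_1 D10077 (iv D7921) (iv F37334)
def n10078 : Q := act 5 n7922
theorem D10078 : act 5 n7922 = n10078 := rfl
theorem F46768 : act 1 n10078 = n8495 := d12_1 D10078 (iv D8495) (iv F37338)
theorem F46769 : act 3 n10078 = n10078 := d25_1 D10078 (iv D10078) F37339
theorem F46770 : act 6 n10078 = n7965 := d35_2 (iv F37340) D10078 (iv D7965) F30119 (iv F29959)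
theorem F46771 : act 8 n10078 = n10078 := d37_2 D7922 D10078 (iv D10078) (iv D7922) F29956
def n10079 : Q := act 9 n7922
theorem D10079 : act 9 n7922 = n10079 := rfl
theorem F46772 : act 1 n10079 = n8496 := d16_1 D10079 (iv D8496) (iv F37338)
theorem F46773 : act 3 n10079 = n10079 := d29_1 D10079 (iv D10079) F37339
theorem F46774 : act 6 n10079 = n7923 := d41_1 D10079 (iv D7923) (iv F37340)
def n10080 : Q := act 6 n7924
theorem D10080 : act 6 n7924 = n10080 := rfl
theorem F46776 : act 2 n10080 = n8497 := d20_1 D10080 (iv D8497) (iv F37345)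
def n10081 : Q := act 5 n7925
theorem D10081 : act 5 n7925 = n10081 := rfl
theorem F46779 : act 1 n10081 = n7926 := d12_1 D10081 (iv D7926) (iv F37350)
theorem F46780 : act 2 n10081 = n8498 := d19_1 D10081 (iv D8498) (iv F37351)
theorem F46782 : act 6 n10081 = n7936 := d35_2 D7925 D10081 (iv D7936) (iv D6287) (iv F29966)
def n10082 : Q := act 7 n7925
theorem D10082 : act 7 n7925 = n10082 := rfl
theorem F46786 : act 6 n10082 = n7934 := d39_1 D10082 (iv D7934) (iv D6284) (iv F29967) D7925
def n10083 : Q := act 4 n7926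
theorem D10083 : act 4 n7926 = n10083 := rfl
def n10084 : Q := act 7 n7926
theorem D10084 : act 7 n7926 = n10084 := rfl
theorem F46792 : act 5 n10084 = n7927 := d36_1 D10084 (iv D7927) D7926
def n10085 : Q := act 8 n7926
theorem D10085 : act 8 n7926 = n10085 := rfl
theorem F46797 : act 6 n10085 = n7938 := d40_1 D10085 (iv D7938) (iv F37356)
def n10086 : Q := act 7 n7928
theorem D10086 : act 7 n7928 = n10086 := rfl
theorem F46798 : act 1 n10086 = n8503 := d14_1 D10086 (iv D8503) (iv F37361)
def n10087 : Q := act 8 n7928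
theorem D10087 : act 8 n7928 = n10087 := rfl
theorem F46802 : act 1 n10087 = n8504 := d15_1 D10087 (iv D8504) (iv F37361)
def n10088 : Q := act 8 n7929
theorem D10088 : act 8 n7929 = n10088 := rfl
theorem F46810 : act 7 n10088 = n7930 := d42_1 D10088 (iv D7930) D7929
def n10089 : Q := act 9 n7930
theorem D10089 : act 9 n7930 = n10089 := rfl
theorem F46814 : act 6 n10089 = n7940 := d41_1 D10089 (iv D7940) (iv F37371)
def n10092 : Q := act 5 n7935
theorem D10092 : act 5 n7935 = n10092 := rfl
theorem F46827 : act 2 n10092 = n8509 := d19_1 D10092 (iv D8509) (iv F37394)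
def n10093 : Q := act 4 n7936
theorem D10093 : act 4 n7936 = n10093 := rfl
theorem F46830 : act 1 n10093 = n7937 := d11_1 D10093 (iv D7937) (iv F37398)
theorem F46831 : act 2 n10093 = n8510 := d18_1 D10093 (iv D8510) (iv F37399)
def n10094 : Q := act 8 n7936
theorem D10094 : act 8 n7936 = n10094 := rfl
theorem F46833 : act 1 n10094 = n7938 := d15_1 D10094 (iv D7938) (iv F37398)
theorem F46834 : act 2 n10094 = n8511 := d22_1 D10094 (iv D8511) (iv F37399)
def n10096 : Q := act 8 n7937
theorem D10096 : act 8 n7937 = n10096 := rfl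
def n10097 : Q := act 9 n7938
theorem D10097 : act 9 n7938 = n10097 := rfl
def n10099 : Q := act 8 n7941
theorem D10099 : act 8 n7941 = n10099 := rfl
theorem F46855 : act 2 n10099 = n8516 := d22_1 D10099 (iv D8516) (iv F37418)
def n10100 : Q := act 9 n7942
theorem D10100 : act 9 n7942 = n10100 := rfl
theorem F46861 : act 2 n10100 = n8517 := d23_1 D10100 (iv D8517) (iv F37425)
def n10101 : Q := act 6 n7944
theorem D10101 : act 6 n7944 = n10101 := rfl
theorem F46868 : act 1 n10101 = n7945 := d13_1 D10101 (iv D7945) D7944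
theorem F46869 : act 3 n10101 = n8518 := d26_1 D10101 (iv D8518) (iv F37437)
def n10102 : Q := act 5 n7945
theorem D10102 : act 5 n7945 = n10102 := rfl
theorem F46872 : act 0 n10102 = n7950 := d4_1 D10102 (iv D7950) (iv F37442)
theorem F46873 : act 2 n10102 = n7946 := d19_1 D10102 (iv D7946) (iv F37443)
theorem F46874 : act 3 n10102 = n8519 := d25_1 D10102 (iv D8519) (iv F37444)
def n10103 : Q := act 7 n7945
theorem D10103 : act 7 n7945 = n10103 := rfl
theorem F46878 : act 2 n10103 = n7947 := d21_1 D10103 (iv D7947) (iv F37443)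
theorem F46879 : act 3 n10103 = n8520 := d27_1 D10103 (iv D8520) (iv F37444)
def n10104 : Q := act 4 n7946
theorem D10104 : act 4 n7946 = n10104 := rfl
theorem F46883 : act 0 n10104 = n7952 := d3_1 D10104 (iv D7952) (iv F37447)
def n10105 : Q := act 7 n7946
theorem D10105 : act 7 n7946 = n10105 := rfl
theorem F46888 : act 0 n10105 = n7953 := d6_1 D10105 (iv D7953) (iv F37447)
theorem F46889 : act 3 n10105 = n7948 := d27_1 D10105 (iv D7948) (iv F37448)
theorem F46890 : act 5 n10105 = n7947 := d36_1 D10105 (iv D7947) D7946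
def n10106 : Q := act 8 n7946
theorem D10106 : act 8 n7946 = n10106 := rfl
def n10107 : Q := act 6 n7948
theorem D10107 : act 6 n7948 = n10107 := rfl
def n10108 : Q := act 8 n7948
theorem D10108 : act 8 n7948 = n10108 := rfl
def n10109 : Q := act 9 n7949
theorem D10109 : act 9 n7949 = n10109 := rfl
theorem F46906 : act 2 n10109 = n8526 := d23_1 D10109 (iv D8526) (iv F37462)
def n10110 : Q := act 4 n7950
theorem D10110 : act 4 n7950 = n10110 := rfl
theorem F46911 : act 2 n10110 = n7952 := d18_1 D10110 (iv D7952) (iv F37466)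
def n10111 : Q := act 7 n7950
theorem D10111 : act 7 n7950 = n10111 := rfl
theorem F46916 : act 2 n10111 = n7953 := d21_1 D10111 (iv D7953) (iv F37466)
theorem F46917 : act 3 n10111 = n8528 := d27_1 D10111 (iv D8528) (iv F37467)
def n10112 : Q := act 8 n7950
theorem D10112 : act 8 n7950 = n10112 := rfl
theorem F46921 : act 2 n10112 = n7954 := d22_1 D10112 (iv D7954) (iv F37466)
theorem F46922 : act 3 n10112 = n8529 := d28_1 D10112 (iv D8529) (iv F37467)
def n10113 : Q := act 7 n7952
theorem D10113 : act 7 n7952 = n10113 := rfl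
theorem F46924 : act 1 n10113 = n7958 := d14_1 D10113 (iv D7958) (iv F37476)
theorem F46926 : act 4 n10113 = n7953 := d32_1 D10113 (iv D7953) D7952
def n10114 : Q := act 8 n7952
theorem D10114 : act 8 n7952 = n10114 := rfl
theorem F46929 : act 1 n10114 = n7959 := d15_1 D10114 (iv D7959) (iv F37476)
theorem F46931 : act 4 n10114 = n7954 := d33_1 D10114 (iv D7954) D7952
def n10115 : Q := act 6 n7953
theorem D10115 : act 6 n7953 = n10115 := rfl
theorem F46934 : act 3 n10115 = n7955 := d26_1 D10115 (iv D7955) (iv F37482)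
def n10116 : Q := act 8 n7953
theorem D10116 : act 8 n7953 = n10116 := rfl
theorem F46938 : act 1 n10116 = n7961 := d15_1 D10116 (iv D7961) (iv F37481)
def n10117 : Q := act 9 n7954
theorem D10117 : act 9 n7954 = n10117 := rfl
theorem F46941 : act 1 n10117 = n7962 := d16_1 D10117 (iv D7962) (iv F37485)
def n10118 : Q := act 8 n7955
theorem D10118 : act 8 n7955 = n10118 := rfl
theorem F46948 : act 6 n10118 = n7956 := d40_1 D10118 (iv D7956) D7955
def n10119 : Q := act 9 n7956
theorem D10119 : act 9 n7956 = n10119 := rfl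
theorem F46950 : act 1 n10119 = n7964 := d16_1 D10119 (iv D7964) (iv F37494)
theorem F46951 : act 2 n10119 = n8536 := d23_1 D10119 (iv D8536) (iv F37495)
def n10120 : Q := act 6 n7958
theorem D10120 : act 6 n7958 = n10120 := rfl
theorem F46957 : act 4 n10120 = n7960 := d31_1 D10120 (iv D7960) (iv F37505)
def n10121 : Q := act 8 n7958
theorem D10121 : act 8 n7958 = n10121 := rfl
theorem F46962 : act 4 n10121 = n7961 := d33_1 D10121 (iv D7961) (iv F37505)
theorem F46963 : act 7 n10121 = n7959 := d42_1 D10121 (iv D7959) D7958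
def n10122 : Q := act 5 n7959
theorem D10122 : act 5 n7959 = n10122 := rfl
def n10123 : Q := act 9 n7959
theorem D10123 : act 9 n7959 = n10123 := rfl
def n10124 : Q := act 8 n7960
theorem D10124 : act 8 n7960 = n10124 := rfl
theorem F46973 : act 3 n10124 = n7963 := d28_1 D10124 (iv D7963) (iv F37513)
theorem F46974 : act 6 n10124 = n7961 := d40_1 D10124 (iv D7961) D7960
def n10125 : Q := act 9 n7961
theorem D10125 : act 9 n7961 = n10125 := rfl
def n10126 : Q := act 5 n7963
theorem D10126 : act 5 n7963 = n10126 := rfl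
theorem F46980 : act 2 n10126 = n7965 := d19_1 D10126 (iv D7965) (iv F37524)
def n10128 : Q := act 4 n7965
theorem D10128 : act 4 n7965 = n10128 := rfl
theorem F46988 : act 1 n10128 = n8545 := d11_1 D10128 (iv D8545) (iv F37532)
theorem F46989 : act 5 n10128 = n10128 := d30_2 D7965 D10128 (iv D10128) (iv D7965) F30118
theorem F46990 : act 7 n10128 = n10128 := d32_2 F37534 D10128 (iv D10128)
theorem F46991 : act 8 n10128 = n10128 := d33_2 F37535 D10128 (iv D10128)
def n10129 : Q := act 9 n7965
theorem D10129 : act 9 n7965 = n10129 := rfl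
theorem F46992 : act 1 n10129 = n8546 := d16_1 D10129 (iv D8546) (iv F37532)
theorem F46993 : act 3 n10129 = n10129 := d29_1 D10129 (iv D10129) F37533
theorem F46994 : act 5 n10129 = n7966 := d38_1 D10129 (iv D7966) D7965
theorem F46995 : act 7 n10129 = n10129 := d43_1 D10129 (iv D10129) F37534
def n10130 : Q := act 5 n7967
theorem D10130 : act 5 n7967 = n10130 := rfl
theorem F46996 : act 0 n10130 = n7972 := d4_1 D10130 (iv D7972) (iv F37542)
theorem F46997 : act 1 n10130 = n10130 := d12_1 D10130 (iv D10130) F37543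
theorem F46998 : act 3 n10130 = n10130 := d25_1 D10130 (iv D10130) F37544
theorem F46999 : act 8 n10130 = n7969 := d37_2 D7967 D10130 (iv D7969) (iv D6315) (iv F30129)
def n10131 : Q := act 5 n7968
theorem D10131 : act 5 n7968 = n10131 := rfl
theorem F47000 : act 0 n10131 = n7973 := d4_1 D10131 (iv D7973) (iv F37546)
theorem F47001 : act 1 n10131 = n10131 := d12_1 D10131 (iv D10131) F37547
theorem F47002 : act 3 n10131 = n10131 := d25_1 D10131 (iv D10131) F37548
theorem F47003 : act 7 n10131 = n7969 := d36_2 (iv F37551) D10131 (iv D7969)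
theorem F47004 : act 9 n10131 = n10131 := d38_2 F37552 D10131 (iv D10131)
def n10132 : Q := act 4 n7969
theorem D10132 : act 4 n7969 = n10132 := rfl
theorem F47005 : act 0 n10132 = n7974 := d3_1 D10132 (iv D7974) (iv F37553)
theorem F47006 : act 1 n10132 = n10132 := d11_1 D10132 (iv D10132) F37554
theorem F47007 : act 5 n10132 = n10132 := d30_2 D7969 D10132 (iv D10132) (iv D7969) F30140
theorem F47008 : act 9 n10132 = n10132 := d34_2 F37556 D10132 (iv D10132)
def n10133 : Q := act 6 n7969
theorem D10133 : act 6 n7969 = n10133 := rfl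
theorem F47009 : act 0 n10133 = n7975 := d5_1 D10133 (iv D7975) (iv F37553)
theorem F47010 : act 1 n10133 = n10133 := d13_1 D10133 (iv D10133) F37554
theorem F47011 : act 3 n10133 = n10133 := d26_1 D10133 (iv D10133) F37555
theorem F47012 : act 5 n10133 = n7971 := d35_1 D10133 (iv D7971) (iv D6316) (iv F30141) D7969
theorem F47013 : act 9 n10133 = n10133 := d41_2 F37556 D10133 (iv D10133)
def n10134 : Q := act 3 n7970
theorem D10134 : act 3 n7970 = n10134 := rfl
theorem F47019 : act 8 n10134 = n8043 := d28_2 (iv F37561) D10134 (iv D8043)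
def n10135 : Q := act 6 n7970
theorem D10135 : act 6 n7970 = n10135 := rfl
theorem F47021 : act 0 n10135 = n7977 := d5_1 D10135 (iv D7977) (iv F37557)
theorem F47022 : act 1 n10135 = n10135 := d13_1 D10135 (iv D10135) F37558
theorem F47023 : act 4 n10135 = n7971 := d31_1 D10135 (iv D7971) D7970
theorem F47024 : act 8 n10135 = n8044 := d40_2 (iv F37561) D10135 (iv D8044)
theorem F47025 : act 9 n10135 = n10135 := d41_2 F37562 D10135 (iv D10135)
def n10136 : Q := act 7 n7971
theorem D10136 : act 7 n7971 = n10136 := rfl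
theorem F47026 : act 0 n10136 = n7978 := d6_1 D10136 (iv D7978) (iv F37563)
theorem F47027 : act 1 n10136 = n10136 := d14_1 D10136 (iv D10136) F37564
theorem F47028 : act 3 n10136 = n10136 := d27_1 D10136 (iv D10136) F37565
theorem F47029 : act 6 n10136 = n10136 := d39_1 D10136 (iv D10136) (iv D7971) F30146 D7971
theorem F47030 : act 8 n10136 = n8045 := d42_2 (iv F37566) D10136 (iv D8045)
theorem F47031 : act 9 n10136 = n10136 := d43_2 F37567 D10136 (iv D10136)
def n10137 : Q := act 4 n7972
theorem D10137 : act 4 n7972 = n10137 := rfl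
theorem F47032 : act 1 n10137 = n7982 := d11_1 D10137 (iv D7982) (iv F37568)
theorem F47033 : act 8 n10137 = n7974 := d33_2 (iv F37570) D10137 (iv D7974)
def n10138 : Q := act 6 n7972
theorem D10138 : act 6 n7972 = n10138 := rfl
theorem F47034 : act 1 n10138 = n7983 := d13_1 D10138 (iv D7983) (iv F37568)
theorem F47035 : act 3 n10138 = n10138 := d26_1 D10138 (iv D10138) F37569
theorem F47036 : act 5 n10138 = n8050 := d35_1 D10138 (iv D8050) (iv D6374) (iv F30151) D7972
theorem F47037 : act 8 n10138 = n7975 := d40_2 (iv F37570) D10138 (iv D7975)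
def n10139 : Q := act 4 n7973
theorem D10139 : act 4 n7973 = n10139 := rfl
theorem F47038 : act 1 n10139 = n7984 := d11_1 D10139 (iv D7984) (iv F37571)
theorem F47039 : act 5 n10139 = n10139 := d30_2 D7973 D10139 (iv D10139) (iv D7973) F30154
theorem F47040 : act 7 n10139 = n7974 := d32_2 (iv F37573) D10139 (iv D7974)
theorem F47041 : act 9 n10139 = n10139 := d34_2 F37574 D10139 (iv D10139)
def n10140 : Q := act 6 n7973
theorem D10140 : act 6 n7973 = n10140 := rfl
theorem F47042 : act 1 n10140 = n7985 := d13_1 D10140 (iv D7985) (iv F37571)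
theorem F47043 : act 3 n10140 = n10140 := d26_1 D10140 (iv D10140) F37572
theorem F47044 : act 5 n10140 = n10140 := d35_1 D10140 (iv D10140) (iv D7973) F30155 D7973
theorem F47045 : act 9 n10140 = n10140 := d41_2 F37574 D10140 (iv D10140)
def n10141 : Q := act 3 n7974
theorem D10141 : act 3 n7974 = n10141 := rfl
theorem F47046 : act 1 n10141 = n7986 := d10_1 D10141 (iv D7986) (iv F37575)
theorem F47047 : act 4 n10141 = n10141 := d24_2 D7974 D10141 (iv D10141) (iv D7974) F30159
theorem F47048 : act 5 n10141 = n10141 := d25_2 F37576 D10141 (iv D10141)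
theorem F47049 : act 9 n10141 = n10141 := d29_2 F37577 D10141 (iv D10141)
def n10142 : Q := act 6 n7974
theorem D10142 : act 6 n7974 = n10142 := rfl
theorem F47050 : act 1 n10142 = n7987 := d13_1 D10142 (iv D7987) (iv F37575)
theorem F47051 : act 4 n10142 = n7975 := d31_1 D10142 (iv D7975) D7974
theorem F47052 : act 9 n10142 = n10142 := d41_2 F37577 D10142 (iv D10142)
def n10143 : Q := act 7 n7975
theorem D10143 : act 7 n7975 = n10143 := rfl
theorem F47053 : act 1 n10143 = n7988 := d14_1 D10143 (iv D7988) (iv F37578)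
theorem F47054 : act 3 n10143 = n10143 := d27_1 D10143 (iv D10143) F37579
theorem F47055 : act 5 n10143 = n7978 := d36_1 D10143 (iv D7978) (iv F37580)
theorem F47056 : act 9 n10143 = n10143 := d43_2 F37581 D10143 (iv D10143)
def n10145 : Q := act 6 n7976
theorem D10145 : act 6 n7976 = n10145 := rfl
theorem F47063 : act 1 n10145 = n7989 := d13_1 D10145 (iv D7989) (iv F37582)
theorem F47064 : act 3 n10145 = n7977 := d26_1 D10145 (iv D7977) D7976
theorem F47066 : act 8 n10145 = n8057 := d40_2 (iv F37586) D10145 (iv D8057)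
def n10146 : Q := act 5 n7977
theorem D10146 : act 5 n7977 = n10146 := rfl
theorem F47068 : act 1 n10146 = n7990 := d12_1 D10146 (iv D7990) (iv F37588)
theorem F47069 : act 6 n10146 = n10146 := d35_2 D7977 D10146 (iv D10146) (iv D7977) F30162
theorem F47070 : act 9 n10146 = n10146 := d38_2 F37591 D10146 (iv D10146)
def n10147 : Q := act 7 n7977
theorem D10147 : act 7 n7977 = n10147 := rfl
theorem F47071 : act 1 n10147 = n7991 := d14_1 D10147 (iv D7991) (iv F37588)
theorem F47072 : act 4 n10147 = n7978 := d32_1 D10147 (iv D7978) (iv F37589)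
theorem F47073 : act 6 n10147 = n10147 := d39_1 D10147 (iv D10147) (iv D7977) F30163 D7977
theorem F47074 : act 8 n10147 = n8059 := d42_2 (iv F37590) D10147 (iv D8059)
theorem F47075 : act 9 n10147 = n10147 := d43_2 F37591 D10147 (iv D10147)
def n10148 : Q := act 4 n7979
theorem D10148 : act 4 n7979 = n10148 := rfl
theorem F47076 : act 0 n10148 = n10148 := d3_1 D10148 (iv D10148) F37597
theorem F47077 : act 2 n10148 = n7992 := d18_1 D10148 (iv D7992) (iv F37598)
theorem F47078 : act 5 n10148 = n7982 := d30_2 D7979 D10148 (iv D7982) (iv D6325) (iv F30173)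
theorem F47079 : act 7 n10148 = n7997 := d32_2 (iv F37600) D10148 (iv D7997)
theorem F47080 : act 8 n10148 = n10148 := d33_2 F37601 D10148 (iv D10148)
theorem F47081 : act 9 n10148 = n7995 := d34_2 (iv F37602) D10148 (iv D7995)
def n10149 : Q := act 6 n7979
theorem D10149 : act 6 n7979 = n10149 := rfl
theorem F47082 : act 0 n10149 = n10149 := d5_1 D10149 (iv D10149) F37597
theorem F47083 : act 2 n10149 = n7993 := d20_1 D10149 (iv D7993) (iv F37598)
theorem F47084 : act 3 n10149 = n8015 := d26_1 D10149 (iv D8015) (iv F37599)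
theorem F47085 : act 5 n10149 = n8062 := d35_1 D10149 (iv D8062) (iv D6382) (iv F30174) D7979
theorem F47086 : act 8 n10149 = n10149 := d40_2 F37601 D10149 (iv D10149)
theorem F47087 : act 9 n10149 = n7996 := d41_2 (iv F37602) D10149 (iv D7996)
def n10150 : Q := act 4 n7980
theorem D10150 : act 4 n7980 = n10150 := rfl
theorem F47088 : act 0 n10150 = n10150 := d3_1 D10150 (iv D10150) F37603
theorem F47089 : act 2 n10150 = n7995 := d18_1 D10150 (iv D7995) (iv F37604)
theorem F47090 : act 5 n10150 = n7997 := d30_2 D7980 D10150 (iv D7997) (iv D6335) (iv F30180)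
theorem F47091 : act 7 n10150 = n7982 := d32_2 (iv F37606) D10150 (iv D7982)
theorem F47092 : act 8 n10150 = n7984 := d33_2 (iv F37607) D10150 (iv D7984)
theorem F47093 : act 9 n10150 = n7992 := d34_2 (iv F37608) D10150 (iv D7992)
def n10151 : Q := act 6 n7980
theorem D10151 : act 6 n7980 = n10151 := rfl
theorem F47094 : act 0 n10151 = n10151 := d5_1 D10151 (iv D10151) F37603
theorem F47095 : act 2 n10151 = n7996 := d20_1 D10151 (iv D7996) (iv F37604)
theorem F47096 : act 3 n10151 = n10151 := d26_1 D10151 (iv D10151) F37605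
theorem F47097 : act 5 n10151 = n8086 := d35_1 D10151 (iv D8086) (iv D6398) (iv F30181) D7980
theorem F47098 : act 8 n10151 = n7985 := d40_2 (iv F37607) D10151 (iv D7985)
theorem F47099 : act 9 n10151 = n7993 := d41_2 (iv F37608) D10151 (iv D7993)
def n10152 : Q := act 4 n7981
theorem D10152 : act 4 n7981 = n10152 := rfl
theorem F47100 : act 0 n10152 = n10152 := d3_1 D10152 (iv D10152) F37609
theorem F47101 : act 2 n10152 = n7997 := d18_1 D10152 (iv D7997) (iv F37610)
theorem F47102 : act 5 n10152 = n7995 := d30_2 D7981 D10152 (iv D7995) (iv D6334) (iv F30187)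
theorem F47103 : act 7 n10152 = n7992 := d32_2 (iv F37612) D10152 (iv D7992)
theorem F47104 : act 8 n10152 = n10152 := d33_2 F37613 D10152 (iv D10152)
theorem F47105 : act 9 n10152 = n7982 := d34_2 (iv F37614) D10152 (iv D7982)
def n10153 : Q := act 6 n7981
theorem D10153 : act 6 n7981 = n10153 := rfl
theorem F47106 : act 0 n10153 = n10153 := d5_1 D10153 (iv D10153) F37609
theorem F47107 : act 2 n10153 = n7998 := d20_1 D10153 (iv D7998) (iv F37610)
theorem F47108 : act 3 n10153 = n10153 := d26_1 D10153 (iv D10153) F37611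
theorem F47109 : act 5 n10153 = n8068 := d35_1 D10153 (iv D8068) (iv D6386) (iv F30188) D7981
theorem F47110 : act 8 n10153 = n10153 := d40_2 F37613 D10153 (iv D10153)
theorem F47111 : act 9 n10153 = n7983 := d41_2 (iv F37614) D10153 (iv D7983)
def n10154 : Q := act 3 n7982
theorem D10154 : act 3 n7982 = n10154 := rfl
theorem F47112 : act 0 n10154 = n10154 := d2_1 D10154 (iv D10154) F37615
theorem F47113 : act 4 n10154 = n10154 := d24_2 D7982 D10154 (iv D10154) (iv D7982) F30193
theorem F47114 : act 8 n10154 = n7986 := d28_2 (iv F37617) D10154 (iv D7986)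
def n10155 : Q := act 6 n7982
theorem D10155 : act 6 n7982 = n10155 := rfl
theorem F47115 : act 0 n10155 = n10155 := d5_1 D10155 (iv D10155) F37615
theorem F47116 : act 2 n10155 = n8000 := d20_1 D10155 (iv D8000) (iv F37616)
theorem F47117 : act 4 n10155 = n7983 := d31_1 D10155 (iv D7983) D7982
theorem F47118 : act 8 n10155 = n7987 := d40_2 (iv F37617) D10155 (iv D7987)
def n10156 : Q := act 7 n7983
theorem D10156 : act 7 n7983 = n10156 := rfl
theorem F47119 : act 0 n10156 = n10156 := d6_1 D10156 (iv D10156) F37618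
theorem F47120 : act 2 n10156 = n8001 := d21_1 D10156 (iv D8001) (iv F37619)
theorem F47121 : act 3 n10156 = n10156 := d27_1 D10156 (iv D10156) F37620
theorem F47122 : act 5 n10156 = n8071 := d36_1 D10156 (iv D8071) (iv F37621)
theorem F47123 : act 8 n10156 = n7988 := d42_2 (iv F37622) D10156 (iv D7988)
def n10157 : Q := act 3 n7984
theorem D10157 : act 3 n7984 = n10157 := rfl
theorem F47124 : act 0 n10157 = n10157 := d2_1 D10157 (iv D10157) F37623
theorem F47125 : act 4 n10157 = n10157 := d24_2 D7984 D10157 (iv D10157) (iv D7984) F30197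
theorem F47126 : act 5 n10157 = n10157 := d25_2 F37625 D10157 (iv D10157)
theorem F47127 : act 7 n10157 = n7986 := d27_2 (iv F37626) D10157 (iv D7986)
theorem F47128 : act 9 n10157 = n10157 := d29_2 F37627 D10157 (iv D10157)
def n10158 : Q := act 6 n7984
theorem D10158 : act 6 n7984 = n10158 := rfl
theorem F47129 : act 0 n10158 = n10158 := d5_1 D10158 (iv D10158) F37623
theorem F47130 : act 2 n10158 = n8003 := d20_1 D10158 (iv D8003) (iv F37624)
theorem F47131 : act 4 n10158 = n7985 := d31_1 D10158 (iv D7985) D7984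
theorem F47132 : act 9 n10158 = n10158 := d41_2 F37627 D10158 (iv D10158)
def n10159 : Q := act 7 n7985
theorem D10159 : act 7 n7985 = n10159 := rfl
theorem F47133 : act 0 n10159 = n10159 := d6_1 D10159 (iv D10159) F37628
theorem F47134 : act 2 n10159 = n8004 := d21_1 D10159 (iv D8004) (iv F37629)
theorem F47135 : act 3 n10159 = n10159 := d27_1 D10159 (iv D10159) F37630
theorem F47136 : act 5 n10159 = n10159 := d36_1 D10159 (iv D10159) F37631
theorem F47137 : act 6 n10159 = n7988 := d39_1 D10159 (iv D7988) (iv D6328) (iv F30198) D7985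
theorem F47138 : act 9 n10159 = n10159 := d43_2 F37632 D10159 (iv D10159)
def n10160 : Q := act 2 n7986
theorem D10160 : act 2 n7986 = n10160 := rfl
theorem F47139 : act 0 n10160 = n10160 := d1_1 D10160 (iv D10160) F37633
theorem F47140 : act 3 n10160 = n8005 := d17_2 D7986 D10160 (iv D8005) (iv D6340) (iv F30201)
theorem F47141 : act 4 n10160 = n10160 := d18_2 F37634 D10160 (iv D10160)
theorem F47142 : act 5 n10160 = n10160 := d19_2 F37635 D10160 (iv D10160)
theorem F47143 : act 9 n10160 = n10160 := d23_2 F37636 D10160 (iv D10160)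
def n10161 : Q := act 6 n7986
theorem D10161 : act 6 n7986 = n10161 := rfl
theorem F47144 : act 0 n10161 = n10161 := d5_1 D10161 (iv D10161) F37633
theorem F47145 : act 3 n10161 = n7987 := d26_1 D10161 (iv D7987) D7986
theorem F47146 : act 4 n10161 = n10161 := d31_1 D10161 (iv D10161) F37634
theorem F47147 : act 9 n10161 = n10161 := d41_2 F37636 D10161 (iv D10161)
def n10162 : Q := act 5 n7987
theorem D10162 : act 5 n7987 = n10162 := rfl
theorem F47148 : act 0 n10162 = n10162 := d4_1 D10162 (iv D10162) F37637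
theorem F47149 : act 2 n10162 = n8007 := d19_1 D10162 (iv D8007) (iv F37638)
theorem F47150 : act 4 n10162 = n7990 := d30_1 D10162 (iv D7990) F30218 (iv F30207) (iv F37639)
theorem F47151 : act 6 n10162 = n10162 := d35_2 D7987 D10162 (iv D10162) (iv D7987) F30202
theorem F47152 : act 9 n10162 = n10162 := d38_2 F37640 D10162 (iv D10162)
def n10163 : Q := act 7 n7987
theorem D10163 : act 7 n7987 = n10163 := rfl
theorem F47153 : act 0 n10163 = n10163 := d6_1 D10163 (iv D10163) F37637
theorem F47154 : act 2 n10163 = n8008 := d21_1 D10163 (iv D8008) (iv F37638)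
theorem F47155 : act 4 n10163 = n7988 := d32_1 D10163 (iv D7988) (iv F37639)
theorem F47156 : act 9 n10163 = n10163 := d43_2 F37640 D10163 (iv D10163)
def n10164 : Q := act 5 n7989
theorem D10164 : act 5 n7989 = n10164 := rfl
theorem F47157 : act 0 n10164 = n10164 := d4_1 D10164 (iv D10164) F37646
theorem F47158 : act 2 n10164 = n10164 := d19_1 D10164 (iv D10164) F37647
theorem F47159 : act 3 n10164 = n7990 := d25_1 D10164 (iv D7990) (iv F37648)
theorem F47160 : act 6 n10164 = n10164 := d35_2 D7989 D10164 (iv D10164) (iv D7989) F30212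
theorem F47161 : act 9 n10164 = n10164 := d38_2 F37651 D10164 (iv D10164)
def n10165 : Q := act 7 n7989
theorem D10165 : act 7 n7989 = n10165 := rfl
theorem F47162 : act 0 n10165 = n10165 := d6_1 D10165 (iv D10165) F37646
theorem F47163 : act 2 n10165 = n10165 := d21_1 D10165 (iv D10165) F37647
theorem F47164 : act 3 n10165 = n7991 := d27_1 D10165 (iv D7991) (iv F37648)
theorem F47165 : act 4 n10165 = n10165 := d32_1 D10165 (iv D10165) F37649
theorem F47166 : act 6 n10165 = n10165 := d39_1 D10165 (iv D10165) (iv D7989) F30213 D7989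
theorem F47167 : act 8 n10165 = n8080 := d42_2 (iv F37650) D10165 (iv D8080)
theorem F47168 : act 9 n10165 = n10165 := d43_2 F37651 D10165 (iv D10165)
def n10166 : Q := act 7 n7990
theorem D10166 : act 7 n7990 = n10166 := rfl
theorem F47169 : act 0 n10166 = n10166 := d6_1 D10166 (iv D10166) F37652
theorem F47170 : act 2 n10166 = n8009 := d21_1 D10166 (iv D8009) (iv F37653)
theorem F47171 : act 5 n10166 = n7991 := d36_1 D10166 (iv D7991) D7990
theorem F47172 : act 9 n10166 = n10166 := d43_2 F37655 D10166 (iv D10166)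
def n10167 : Q := act 8 n7990
theorem D10167 : act 8 n7990 = n10167 := rfl
theorem F47173 : act 0 n10167 = n10167 := d7_1 D10167 (iv D10167) F37652
theorem F47174 : act 2 n10167 = n8010 := d22_1 D10167 (iv D8010) (iv F37653)
theorem F47175 : act 5 n10167 = n8082 := d37_1 D10167 (iv D8082) (iv D6395) (iv F30219) D7990
theorem F47176 : act 6 n10167 = n10167 := d40_1 D10167 (iv D10167) F37654
def n10168 : Q := act 3 n7992
theorem D10168 : act 3 n7992 = n10168 := rfl
theorem F47177 : act 0 n10168 = n10168 := d2_1 D10168 (iv D10168) F37662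
theorem F47178 : act 4 n10168 = n10168 := d24_2 D7992 D10168 (iv D10168) (iv D7992) F30228
theorem F47179 : act 5 n10168 = n7999 := d25_2 (iv F37663) D10168 (iv D7999)
theorem F47180 : act 8 n10168 = n10168 := d28_2 F37664 D10168 (iv D10168)
def n10169 : Q := act 6 n7992
theorem D10169 : act 6 n7992 = n10169 := rfl
theorem F47181 : act 0 n10169 = n10169 := d5_1 D10169 (iv D10169) F37662
theorem F47182 : act 4 n10169 = n7993 := d31_1 D10169 (iv D7993) D7992
theorem F47183 : act 8 n10169 = n10169 := d40_2 F37664 D10169 (iv D10169)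
def n10170 : Q := act 7 n7993
theorem D10170 : act 7 n7993 = n10170 := rfl
theorem F47184 : act 0 n10170 = n10170 := d6_1 D10170 (iv D10170) F37665
theorem F47185 : act 3 n10170 = n10170 := d27_1 D10170 (iv D10170) F37666
theorem F47186 : act 5 n10170 = n8089 := d36_1 D10170 (iv D8089) (iv F37667)
theorem F47187 : act 8 n10170 = n10170 := d42_2 F37668 D10170 (iv D10170)
def n10171 : Q := act 4 n7994
theorem D10171 : act 4 n7994 = n10171 := rfl
theorem F47188 : act 0 n10171 = n10171 := d3_1 D10171 (iv D10171) F37669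
theorem F47189 : act 2 n10171 = n8085 := d18_1 D10171 (iv D8085) (iv F37670)
theorem F47190 : act 5 n10171 = n8067 := d30_2 D7994 D10171 (iv D8067) (iv D6386) (iv F30233)
theorem F47191 : act 7 n10171 = n8090 := d32_2 (iv F37672) D10171 (iv D8090)
theorem F47192 : act 8 n10171 = n10171 := d33_2 F37673 D10171 (iv D10171)
theorem F47193 : act 9 n10171 = n8061 := d34_2 (iv F37674) D10171 (iv D8061)
def n10172 : Q := act 6 n7994
theorem D10172 : act 6 n7994 = n10172 := rfl
theorem F47194 : act 0 n10172 = n10172 := d5_1 D10172 (iv D10172) F37669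
theorem F47195 : act 2 n10172 = n8086 := d20_1 D10172 (iv D8086) (iv F37670)
theorem F47196 : act 3 n10172 = n8013 := d26_1 D10172 (iv D8013) (iv F37671)
theorem F47197 : act 5 n10172 = n7996 := d35_1 D10172 (iv D7996) (iv D6334) (iv F30234) D7994
theorem F47198 : act 8 n10172 = n10172 := d40_2 F37673 D10172 (iv D10172)
theorem F47199 : act 9 n10172 = n8062 := d41_2 (iv F37674) D10172 (iv D8062)
def n10173 : Q := act 3 n7995
theorem D10173 : act 3 n7995 = n10173 := rfl
theorem F47200 : act 0 n10173 = n10173 := d2_1 D10173 (iv D10173) F37675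
theorem F47201 : act 4 n10173 = n8016 := d24_2 D7995 D10173 (iv D8016) (iv D6348) (iv F30238)
theorem F47202 : act 7 n10173 = n7999 := d27_2 (iv F37676) D10173 (iv D7999)
theorem F47203 : act 8 n10173 = n8002 := d28_2 (iv F37677) D10173 (iv D8002)
def n10174 : Q := act 6 n7995
theorem D10174 : act 6 n7995 = n10174 := rfl
theorem F47204 : act 0 n10174 = n10174 := d5_1 D10174 (iv D10174) F37675
theorem F47205 : act 4 n10174 = n7996 := d31_1 D10174 (iv D7996) D7995
theorem F47206 : act 8 n10174 = n8003 := d40_2 (iv F37677) D10174 (iv D8003)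
def n10175 : Q := act 7 n7996
theorem D10175 : act 7 n7996 = n10175 := rfl
theorem F47207 : act 0 n10175 = n10175 := d6_1 D10175 (iv D10175) F37678
theorem F47208 : act 3 n10175 = n8018 := d27_1 D10175 (iv D8018) (iv F37679)
theorem F47209 : act 6 n10175 = n8001 := d39_1 D10175 (iv D8001) (iv D6337) (iv F30239) D7996
theorem F47210 : act 8 n10175 = n8004 := d42_2 (iv F37680) D10175 (iv D8004)
def n10176 : Q := act 3 n7997
theorem D10176 : act 3 n7997 = n10176 := rfl
theorem F47211 : act 0 n10176 = n10176 := d2_1 D10176 (iv D10176) F37681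
theorem F47212 : act 4 n10176 = n8019 := d24_2 D7997 D10176 (iv D8019) (iv D6350) (iv F30242)
theorem F47213 : act 8 n10176 = n10176 := d28_2 F37682 D10176 (iv D10176)
theorem F47214 : act 9 n10176 = n7999 := d29_2 (iv F37683) D10176 (iv D7999)
def n10177 : Q := act 6 n7997
theorem D10177 : act 6 n7997 = n10177 := rfl
theorem F47215 : act 0 n10177 = n10177 := d5_1 D10177 (iv D10177) F37681
theorem F47216 : act 4 n10177 = n7998 := d31_1 D10177 (iv D7998) D7997
theorem F47217 : act 8 n10177 = n10177 := d40_2 F37682 D10177 (iv D10177)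
theorem F47218 : act 9 n10177 = n8000 := d41_2 (iv F37683) D10177 (iv D8000)
def n10178 : Q := act 7 n7998
theorem D10178 : act 7 n7998 = n10178 := rfl
theorem F47219 : act 0 n10178 = n10178 := d6_1 D10178 (iv D10178) F37684
theorem F47220 : act 3 n10178 = n8021 := d27_1 D10178 (iv D8021) (iv F37685)
theorem F47221 : act 5 n10178 = n8099 := d36_1 D10178 (iv D8099) (iv F37686)
theorem F47222 : act 8 n10178 = n10178 := d42_2 F37687 D10178 (iv D10178)
theorem F47223 : act 9 n10178 = n8001 := d43_2 (iv F37688) D10178 (iv D8001)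
def n10179 : Q := act 2 n7999
theorem D10179 : act 2 n7999 = n10179 := rfl
theorem F47224 : act 0 n10179 = n10179 := d1_1 D10179 (iv D10179) F37689
theorem F47225 : act 4 n10179 = n8022 := d18_2 (iv F37690) D10179 (iv D8022)
theorem F47226 : act 8 n10179 = n8005 := d22_2 (iv F37691) D10179 (iv D8005)
def n10180 : Q := act 6 n7999
theorem D10180 : act 6 n7999 = n10180 := rfl
theorem F47227 : act 0 n10180 = n10180 := d5_1 D10180 (iv D10180) F37689
theorem F47228 : act 3 n10180 = n8000 := d26_1 D10180 (iv D8000) D7999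
theorem F47229 : act 4 n10180 = n8023 := d31_1 D10180 (iv D8023) (iv F37690)
theorem F47230 : act 8 n10180 = n8006 := d40_2 (iv F37691) D10180 (iv D8006)
def n10181 : Q := act 5 n8000
theorem D10181 : act 5 n8000 = n10181 := rfl
theorem F47231 : act 0 n10181 = n10181 := d4_1 D10181 (iv D10181) F37692
theorem F47232 : act 4 n10181 = n8102 := d30_1 D10181 (iv D8102) F30551 (iv F30249) (iv F37693)
def n10182 : Q := act 7 n8000
theorem D10182 : act 7 n8000 = n10182 := rfl
theorem F47233 : act 0 n10182 = n10182 := d6_1 D10182 (iv D10182) F37692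
theorem F47234 : act 4 n10182 = n8001 := d32_1 D10182 (iv D8001) (iv F37693)
theorem F47235 : act 8 n10182 = n8008 := d42_2 (iv F37694) D10182 (iv D8008)
def n10183 : Q := act 2 n8002
theorem D10183 : act 2 n8002 = n10183 := rfl
theorem F47236 : act 0 n10183 = n10183 := d1_1 D10183 (iv D10183) F37699
theorem F47237 : act 4 n10183 = n8026 := d18_2 (iv F37700) D10183 (iv D8026)
theorem F47238 : act 5 n10183 = n10183 := d19_2 F37701 D10183 (iv D10183)
theorem F47239 : act 7 n10183 = n8005 := d21_2 (iv F37702) D10183 (iv D8005)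
theorem F47240 : act 9 n10183 = n10183 := d23_2 F37703 D10183 (iv D10183)
def n10184 : Q := act 6 n8002
theorem D10184 : act 6 n8002 = n10184 := rfl
theorem F47241 : act 0 n10184 = n10184 := d5_1 D10184 (iv D10184) F37699
theorem F47242 : act 3 n10184 = n8003 := d26_1 D10184 (iv D8003) D8002
theorem F47243 : act 4 n10184 = n8027 := d31_1 D10184 (iv D8027) (iv F37700)
theorem F47244 : act 9 n10184 = n10184 := d41_2 F37703 D10184 (iv D10184)
def n10185 : Q := act 5 n8003
theorem D10185 : act 5 n8003 = n10185 := rfl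
theorem F47245 : act 0 n10185 = n10185 := d4_1 D10185 (iv D10185) F37704
theorem F47246 : act 4 n10185 = n10185 := d30_1 D10185 (iv D10185) F37705 F30257 (iv F37705)
theorem F47247 : act 6 n10185 = n10185 := d35_2 D8003 D10185 (iv D10185) (iv D8003) F30252
theorem F47248 : act 9 n10185 = n10185 := d38_2 F37706 D10185 (iv D10185)
def n10186 : Q := act 7 n8003
theorem D10186 : act 7 n8003 = n10186 := rfl
theorem F47249 : act 0 n10186 = n10186 := d6_1 D10186 (iv D10186) F37704
theorem F47250 : act 4 n10186 = n8004 := d32_1 D10186 (iv D8004) (iv F37705)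
theorem F47251 : act 6 n10186 = n8008 := d39_1 D10186 (iv D8008) (iv D6341) (iv F30253) D8003
theorem F47252 : act 9 n10186 = n10186 := d43_2 F37706 D10186 (iv D10186)
def n10187 : Q := act 1 n8005
theorem D10187 : act 1 n8005 = n10187 := rfl
theorem F47253 : act 4 n10187 = n8030 := d11_2 (iv F37713) D10187 (iv D8030)
theorem F47254 : act 5 n10187 = n10187 := d12_2 F37714 D10187 (iv D10187)
theorem F47255 : act 9 n10187 = n10187 := d16_2 F37715 D10187 (iv D10187)
def n10188 : Q := act 6 n8005
theorem D10188 : act 6 n8005 = n10188 := rfl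
theorem F47256 : act 0 n10188 = n10188 := d5_1 D10188 (iv D10188) F37712
theorem F47257 : act 2 n10188 = n8006 := d20_1 D10188 (iv D8006) D8005
theorem F47258 : act 4 n10188 = n8031 := d31_1 D10188 (iv D8031) (iv F37713)
theorem F47259 : act 9 n10188 = n10188 := d41_2 F37715 D10188 (iv D10188)
def n10189 : Q := act 5 n8006
theorem D10189 : act 5 n8006 = n10189 := rfl
theorem F47260 : act 0 n10189 = n10189 := d4_1 D10189 (iv D10189) F37716
theorem F47261 : act 3 n10189 = n8007 := d25_1 D10189 (iv D8007) (iv F37717)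
theorem F47262 : act 4 n10189 = n10189 := d30_1 D10189 (iv D10189) F37718 F30344 (iv F37718)
theorem F47263 : act 6 n10189 = n10189 := d35_2 D8006 D10189 (iv D10189) (iv D8006) F30261
theorem F47264 : act 9 n10189 = n10189 := d38_2 F37719 D10189 (iv D10189)
def n10190 : Q := act 7 n8006
theorem D10190 : act 7 n8006 = n10190 := rfl
theorem F47265 : act 0 n10190 = n10190 := d6_1 D10190 (iv D10190) F37716
theorem F47266 : act 3 n10190 = n8008 := d27_1 D10190 (iv D8008) (iv F37717)
theorem F47267 : act 4 n10190 = n8032 := d32_1 D10190 (iv D8032) (iv F37718)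
theorem F47268 : act 9 n10190 = n10190 := d43_2 F37719 D10190 (iv D10190)
def n10191 : Q := act 7 n8007
theorem D10191 : act 7 n8007 = n10191 := rfl
theorem F47269 : act 0 n10191 = n10191 := d6_1 D10191 (iv D10191) F37720
theorem F47270 : act 4 n10191 = n8009 := d32_1 D10191 (iv D8009) (iv F37721)
theorem F47271 : act 5 n10191 = n8008 := d36_1 D10191 (iv D8008) D8007
theorem F47272 : act 9 n10191 = n10191 := d43_2 F37723 D10191 (iv D10191)
def n10192 : Q := act 8 n8007
theorem D10192 : act 8 n8007 = n10192 := rfl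
theorem F47273 : act 0 n10192 = n10192 := d7_1 D10192 (iv D10192) F37720
theorem F47274 : act 4 n10192 = n8010 := d33_1 D10192 (iv D8010) (iv F37721)
theorem F47275 : act 6 n10192 = n10192 := d40_1 D10192 (iv D10192) F37722
def n10193 : Q := act 6 n8009
theorem D10193 : act 6 n8009 = n10193 := rfl
theorem F47276 : act 0 n10193 = n10193 := d5_1 D10193 (iv D10193) F37727
theorem F47277 : act 3 n10193 = n10193 := d26_1 D10193 (iv D10193) F37728
theorem F47278 : act 5 n10193 = n10193 := d35_1 D10193 (iv D10193) F37729 F30277 (iv F37729)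
theorem F47279 : act 7 n10193 = n10193 := d39_2 D8009 D10193 (iv D10193) (iv D8009) F30272
theorem F47280 : act 9 n10193 = n10193 := d41_2 F37730 D10193 (iv D10193)
def n10194 : Q := act 8 n8009
theorem D10194 : act 8 n8009 = n10194 := rfl
theorem F47281 : act 0 n10194 = n10194 := d7_1 D10194 (iv D10194) F37727
theorem F47282 : act 3 n10194 = n10194 := d28_1 D10194 (iv D10194) F37728
theorem F47283 : act 5 n10194 = n8115 := d37_1 D10194 (iv D8115) F30586 (iv F30278) (iv F37729)
theorem F47284 : act 7 n10194 = n8010 := d42_1 D10194 (iv D8010) D8009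
def n10195 : Q := act 9 n8010
theorem D10195 : act 9 n8010 = n10195 := rfl
theorem F47285 : act 0 n10195 = n10195 := d8_1 D10195 (iv D10195) F37731
theorem F47286 : act 3 n10195 = n10195 := d29_1 D10195 (iv D10195) F37732
theorem F47287 : act 5 n10195 = n8116 := d38_1 D10195 (iv D8116) (iv F37733)
theorem F47288 : act 6 n10195 = n10195 := d41_1 D10195 (iv D10195) F37734
theorem F47289 : act 8 n10195 = n10195 := d44_1 D10195 (iv D10195) (iv D8010) F30273 D8010
def n10196 : Q := act 4 n8011
theorem D10196 : act 4 n8011 = n10196 := rfl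
theorem F47290 : act 0 n10196 = n10196 := d3_1 D10196 (iv D10196) F37735
theorem F47291 : act 2 n10196 = n10196 := d18_1 D10196 (iv D10196) F37736
theorem F47292 : act 5 n10196 = n10196 := d30_2 D8011 D10196 (iv D10196) (iv D8011) F30283
theorem F47293 : act 7 n10196 = n8117 := d32_2 (iv F37738) D10196 (iv D8117)
theorem F47294 : act 8 n10196 = n8317 := d33_2 (iv F37739) D10196 (iv D8317)
theorem F47295 : act 9 n10196 = n8012 := d34_2 (iv F37740) D10196 (iv D8012)
def n10197 : Q := act 6 n8011
theorem D10197 : act 6 n8011 = n10197 := rfl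
theorem F47296 : act 0 n10197 = n10197 := d5_1 D10197 (iv D10197) F37735
theorem F47297 : act 2 n10197 = n10197 := d20_1 D10197 (iv D10197) F37736
theorem F47298 : act 3 n10197 = n8062 := d26_1 D10197 (iv D8062) (iv F37737)
theorem F47299 : act 5 n10197 = n8015 := d35_1 D10197 (iv D8015) (iv D6347) (iv F30284) D8011
theorem F47300 : act 8 n10197 = n8318 := d40_2 (iv F37739) D10197 (iv D8318)
theorem F47301 : act 9 n10197 = n8013 := d41_2 (iv F37740) D10197 (iv D8013)
def n10198 : Q := act 3 n8012
theorem D10198 : act 3 n8012 = n10198 := rfl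
theorem F47302 : act 0 n10198 = n10198 := d2_1 D10198 (iv D10198) F37741
theorem F47303 : act 5 n10198 = n10198 := d25_2 F37743 D10198 (iv D10198)
theorem F47304 : act 7 n10198 = n8119 := d27_2 (iv F37744) D10198 (iv D8119)
theorem F47305 : act 8 n10198 = n10198 := d28_2 F37745 D10198 (iv D10198)
def n10199 : Q := act 6 n8012
theorem D10199 : act 6 n8012 = n10199 := rfl
theorem F47306 : act 0 n10199 = n10199 := d5_1 D10199 (iv D10199) F37741
theorem F47307 : act 2 n10199 = n10199 := d20_1 D10199 (iv D10199) F37742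
theorem F47308 : act 4 n10199 = n8013 := d31_1 D10199 (iv D8013) D8012
theorem F47309 : act 8 n10199 = n10199 := d40_2 F37745 D10199 (iv D10199)
def n10200 : Q := act 7 n8013
theorem D10200 : act 7 n8013 = n10200 := rfl
theorem F47310 : act 0 n10200 = n10200 := d6_1 D10200 (iv D10200) F37746
theorem F47311 : act 2 n10200 = n10200 := d21_1 D10200 (iv D10200) F37747
theorem F47312 : act 5 n10200 = n8018 := d36_1 D10200 (iv D8018) (iv F37748)
theorem F47313 : act 6 n10200 = n8121 := d39_1 D10200 (iv D8121) (iv D6421) (iv F30289) D8013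
theorem F47314 : act 8 n10200 = n10200 := d42_2 F37749 D10200 (iv D10200)
def n10201 : Q := act 3 n8014
theorem D10201 : act 3 n8014 = n10201 := rfl
theorem F47315 : act 0 n10201 = n10201 := d2_1 D10201 (iv D10201) F37750
theorem F47316 : act 5 n10201 = n10201 := d25_2 F37752 D10201 (iv D10201)
theorem F47317 : act 7 n10201 = n8019 := d27_2 (iv F37753) D10201 (iv D8019)
theorem F47318 : act 8 n10201 = n10201 := d28_2 F37754 D10201 (iv D10201)
theorem F47319 : act 9 n10201 = n8016 := d29_2 (iv F37755) D10201 (iv D8016)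
def n10202 : Q := act 6 n8014
theorem D10202 : act 6 n8014 = n10202 := rfl
theorem F47320 : act 0 n10202 = n10202 := d5_1 D10202 (iv D10202) F37750
theorem F47321 : act 2 n10202 = n10202 := d20_1 D10202 (iv D10202) F37751
theorem F47322 : act 4 n10202 = n8015 := d31_1 D10202 (iv D8015) D8014
theorem F47323 : act 8 n10202 = n10202 := d40_2 F37754 D10202 (iv D10202)
theorem F47324 : act 9 n10202 = n8017 := d41_2 (iv F37755) D10202 (iv D8017)
def n10203 : Q := act 7 n8015
theorem D10203 : act 7 n8015 = n10203 := rfl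
theorem F47325 : act 0 n10203 = n10203 := d6_1 D10203 (iv D10203) F37756
theorem F47326 : act 2 n10203 = n10203 := d21_1 D10203 (iv D10203) F37757
theorem F47327 : act 6 n10203 = n8021 := d39_1 D10203 (iv D8021) (iv D6351) (iv F30293) D8015
theorem F47328 : act 8 n10203 = n10203 := d42_2 F37758 D10203 (iv D10203)
theorem F47329 : act 9 n10203 = n8018 := d43_2 (iv F37759) D10203 (iv D8018)
def n10204 : Q := act 2 n8016
theorem D10204 : act 2 n8016 = n10204 := rfl
theorem F47330 : act 0 n10204 = n10204 := d1_1 D10204 (iv D10204) F37760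
theorem F47331 : act 3 n10204 = n10204 := d17_2 D8016 D10204 (iv D10204) (iv D8016) F30297
theorem F47332 : act 5 n10204 = n10204 := d19_2 F37761 D10204 (iv D10204)
theorem F47333 : act 7 n10204 = n8022 := d21_2 (iv F37762) D10204 (iv D8022)
theorem F47334 : act 8 n10204 = n8026 := d22_2 (iv F37763) D10204 (iv D8026)
def n10205 : Q := act 6 n8016
theorem D10205 : act 6 n8016 = n10205 := rfl
theorem F47335 : act 0 n10205 = n10205 := d5_1 D10205 (iv D10205) F37760
theorem F47336 : act 3 n10205 = n8017 := d26_1 D10205 (iv D8017) D8016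
theorem F47337 : act 8 n10205 = n8027 := d40_2 (iv F37763) D10205 (iv D8027)
def n10206 : Q := act 5 n8017
theorem D10206 : act 5 n8017 = n10206 := rfl
theorem F47338 : act 0 n10206 = n10206 := d4_1 D10206 (iv D10206) F37764
theorem F47339 : act 2 n10206 = n10206 := d19_1 D10206 (iv D10206) F37765
theorem F47340 : act 6 n10206 = n10206 := d35_2 D8017 D10206 (iv D10206) (iv D8017) F30298
def n10207 : Q := act 7 n8017
theorem D10207 : act 7 n8017 = n10207 := rfl
theorem F47341 : act 0 n10207 = n10207 := d6_1 D10207 (iv D10207) F37764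
theorem F47342 : act 2 n10207 = n10207 := d21_1 D10207 (iv D10207) F37765
theorem F47343 : act 4 n10207 = n8018 := d32_1 D10207 (iv D8018) (iv F37766)
theorem F47344 : act 6 n10207 = n8025 := d39_1 D10207 (iv D8025) (iv D6353) (iv F30299) D8017
theorem F47345 : act 8 n10207 = n8029 := d42_2 (iv F37767) D10207 (iv D8029)
def n10208 : Q := act 2 n8019
theorem D10208 : act 2 n8019 = n10208 := rfl
theorem F47346 : act 0 n10208 = n10208 := d1_1 D10208 (iv D10208) F37772
theorem F47347 : act 3 n10208 = n10208 := d17_2 D8019 D10208 (iv D10208) (iv D8019) F30305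
theorem F47348 : act 5 n10208 = n10208 := d19_2 F37773 D10208 (iv D10208)
theorem F47349 : act 8 n10208 = n10208 := d22_2 F37774 D10208 (iv D10208)
theorem F47350 : act 9 n10208 = n8022 := d23_2 (iv F37775) D10208 (iv D8022)
def n10209 : Q := act 6 n8019
theorem D10209 : act 6 n8019 = n10209 := rfl
theorem F47351 : act 0 n10209 = n10209 := d5_1 D10209 (iv D10209) F37772
theorem F47352 : act 3 n10209 = n8020 := d26_1 D10209 (iv D8020) D8019
theorem F47353 : act 8 n10209 = n10209 := d40_2 F37774 D10209 (iv D10209)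
theorem F47354 : act 9 n10209 = n8023 := d41_2 (iv F37775) D10209 (iv D8023)
def n10210 : Q := act 5 n8020
theorem D10210 : act 5 n8020 = n10210 := rfl
theorem F47355 : act 0 n10210 = n10210 := d4_1 D10210 (iv D10210) F37776
theorem F47356 : act 2 n10210 = n10210 := d19_1 D10210 (iv D10210) F37777
theorem F47357 : act 4 n10210 = n8131 := d30_1 D10210 (iv D8131) F30630 (iv F30311) (iv F37778)
theorem F47358 : act 6 n10210 = n10210 := d35_2 D8020 D10210 (iv D10210) (iv D8020) F30306
theorem F47359 : act 9 n10210 = n8024 := d38_2 (iv F37780) D10210 (iv D8024)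
def n10211 : Q := act 7 n8020
theorem D10211 : act 7 n8020 = n10211 := rfl
theorem F47360 : act 0 n10211 = n10211 := d6_1 D10211 (iv D10211) F37776
theorem F47361 : act 2 n10211 = n10211 := d21_1 D10211 (iv D10211) F37777
theorem F47362 : act 4 n10211 = n8021 := d32_1 D10211 (iv D8021) (iv F37778)
theorem F47363 : act 8 n10211 = n10211 := d42_2 F37779 D10211 (iv D10211)
theorem F47364 : act 9 n10211 = n8025 := d43_2 (iv F37780) D10211 (iv D8025)
def n10212 : Q := act 1 n8022
theorem D10212 : act 1 n8022 = n10212 := rfl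
theorem F47365 : act 3 n10212 = n10212 := d10_2 F37787 D10212 (iv D10212)
theorem F47366 : act 5 n10212 = n10212 := d12_2 F37788 D10212 (iv D10212)
theorem F47367 : act 8 n10212 = n8030 := d15_2 (iv F37789) D10212 (iv D8030)
def n10213 : Q := act 6 n8022
theorem D10213 : act 6 n8022 = n10213 := rfl
theorem F47368 : act 0 n10213 = n10213 := d5_1 D10213 (iv D10213) F37786
theorem F47369 : act 2 n10213 = n8023 := d20_1 D10213 (iv D8023) D8022
theorem F47370 : act 3 n10213 = n10213 := d26_1 D10213 (iv D10213) F37787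
theorem F47371 : act 8 n10213 = n8031 := d40_2 (iv F37789) D10213 (iv D8031)
def n10214 : Q := act 5 n8023
theorem D10214 : act 5 n8023 = n10214 := rfl
theorem F47372 : act 0 n10214 = n10214 := d4_1 D10214 (iv D10214) F37790
theorem F47373 : act 3 n10214 = n8024 := d25_1 D10214 (iv D8024) (iv F37791)
theorem F47374 : act 6 n10214 = n10214 := d35_2 D8023 D10214 (iv D10214) (iv D8023) F30315
theorem F47375 : act 8 n10214 = n10214 := d37_2 (iv F37792) D10214 (iv D10214) F37792 F30344
def n10215 : Q := act 7 n8023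
theorem D10215 : act 7 n8023 = n10215 := rfl
theorem F47376 : act 0 n10215 = n10215 := d6_1 D10215 (iv D10215) F37790
theorem F47377 : act 3 n10215 = n8025 := d27_1 D10215 (iv D8025) (iv F37791)
theorem F47378 : act 8 n10215 = n8032 := d42_2 (iv F37792) D10215 (iv D8032)
def n10216 : Q := act 7 n8024
theorem D10216 : act 7 n8024 = n10216 := rfl
theorem F47379 : act 0 n10216 = n10216 := d6_1 D10216 (iv D10216) F37793
theorem F47380 : act 2 n10216 = n10216 := d21_1 D10216 (iv D10216) F37794
theorem F47381 : act 4 n10216 = n8137 := d32_1 D10216 (iv D8137) (iv F37795)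
theorem F47382 : act 5 n10216 = n8025 := d36_1 D10216 (iv D8025) D8024
theorem F47383 : act 8 n10216 = n10216 := d42_2 F37797 D10216 (iv D10216)
def n10217 : Q := act 1 n8026
theorem D10217 : act 1 n8026 = n10217 := rfl
theorem F47384 : act 3 n10217 = n10217 := d10_2 F37803 D10217 (iv D10217)
theorem F47385 : act 5 n10217 = n8033 := d12_2 (iv F37804) D10217 (iv D8033)
theorem F47386 : act 7 n10217 = n8030 := d14_2 (iv F37805) D10217 (iv D8030)
theorem F47387 : act 9 n10217 = n10217 := d16_2 F37806 D10217 (iv D10217)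
def n10218 : Q := act 6 n8026
theorem D10218 : act 6 n8026 = n10218 := rfl
theorem F47388 : act 0 n10218 = n10218 := d5_1 D10218 (iv D10218) F37802
theorem F47389 : act 2 n10218 = n8027 := d20_1 D10218 (iv D8027) D8026
theorem F47390 : act 3 n10218 = n10218 := d26_1 D10218 (iv D10218) F37803
theorem F47391 : act 9 n10218 = n10218 := d41_2 F37806 D10218 (iv D10218)
def n10219 : Q := act 5 n8027
theorem D10219 : act 5 n8027 = n10219 := rfl
theorem F47392 : act 0 n10219 = n10219 := d4_1 D10219 (iv D10219) F37807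
theorem F47393 : act 3 n10219 = n8028 := d25_1 D10219 (iv D8028) (iv F37808)
theorem F47394 : act 6 n10219 = n8035 := d35_2 D8027 D10219 (iv D8035) (iv D6362) (iv F30326)
theorem F47395 : act 9 n10219 = n10219 := d38_2 F37809 D10219 (iv D10219)
def n10220 : Q := act 7 n8027
theorem D10220 : act 7 n8027 = n10220 := rfl
theorem F47396 : act 0 n10220 = n10220 := d6_1 D10220 (iv D10220) F37807
theorem F47397 : act 3 n10220 = n8029 := d27_1 D10220 (iv D8029) (iv F37808)
theorem F47398 : act 6 n10220 = n8032 := d39_1 D10220 (iv D8032) (iv D6359) (iv F30327) D8027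
theorem F47399 : act 9 n10220 = n10220 := d43_2 F37809 D10220 (iv D10220)
def n10221 : Q := act 7 n8028
theorem D10221 : act 7 n8028 = n10221 := rfl
theorem F47400 : act 0 n10221 = n10221 := d6_1 D10221 (iv D10221) F37810
theorem F47401 : act 2 n10221 = n10221 := d21_1 D10221 (iv D10221) F37811
theorem F47402 : act 4 n10221 = n10221 := d32_1 D10221 (iv D10221) F37812
theorem F47403 : act 5 n10221 = n8029 := d36_1 D10221 (iv D8029) D8028
theorem F47404 : act 6 n10221 = n10221 := d39_1 D10221 (iv D10221) F37813 F30366 (iv F37813)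
theorem F47405 : act 9 n10221 = n10221 := d43_2 F37814 D10221 (iv D10221)
def n10222 : Q := act 8 n8028
theorem D10222 : act 8 n8028 = n10222 := rfl
theorem F47406 : act 0 n10222 = n10222 := d7_1 D10222 (iv D10222) F37810
theorem F47407 : act 2 n10222 = n10222 := d22_1 D10222 (iv D10222) F37811
theorem F47408 : act 4 n10222 = n10222 := d33_1 D10222 (iv D10222) F37812
theorem F47409 : act 6 n10222 = n8036 := d40_1 D10222 (iv D8036) (iv F37813)
def n10223 : Q := act 0 n8030
theorem D10223 : act 0 n8030 = n10223 := rfl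
theorem F47410 : act 1 n10223 = n10223 := d0_2 D8030 D10223 (iv D10223) (iv D8030) F30338
theorem F47411 : act 3 n10223 = n10223 := d2_2 F37820 D10223 (iv D10223)
theorem F47412 : act 5 n10223 = n8037 := d4_2 (iv F37821) D10223 (iv D8037)
theorem F47413 : act 9 n10223 = n10223 := d8_2 F37822 D10223 (iv D10223)
def n10224 : Q := act 6 n8030
theorem D10224 : act 6 n8030 = n10224 := rfl
theorem F47414 : act 1 n10224 = n8031 := d13_1 D10224 (iv D8031) D8030
theorem F47415 : act 3 n10224 = n10224 := d26_1 D10224 (iv D10224) F37820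
theorem F47416 : act 5 n10224 = n10224 := d35_1 D10224 (iv D10224) F37821 F30370 (iv F37821)
theorem F47417 : act 9 n10224 = n10224 := d41_2 F37822 D10224 (iv D10224)
def n10225 : Q := act 7 n8031
theorem D10225 : act 7 n8031 = n10225 := rfl
theorem F47418 : act 0 n10225 = n10225 := d6_1 D10225 (iv D10225) F37823
theorem F47419 : act 2 n10225 = n8032 := d21_1 D10225 (iv D8032) (iv F37824)
theorem F47420 : act 3 n10225 = n10225 := d27_1 D10225 (iv D10225) F37825
theorem F47421 : act 5 n10225 = n10225 := d36_1 D10225 (iv D10225) F37826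
theorem F47422 : act 9 n10225 = n10225 := d43_2 F37827 D10225 (iv D10225)
def n10226 : Q := act 0 n8033
theorem D10226 : act 0 n8033 = n10226 := rfl
theorem F47423 : act 1 n10226 = n10226 := d0_2 D8033 D10226 (iv D10226) (iv D8033) F30351
theorem F47424 : act 3 n10226 = n10226 := d2_2 F37832 D10226 (iv D10226)
theorem F47425 : act 4 n10226 = n10226 := d3_2 F37833 D10226 (iv D10226)
theorem F47426 : act 7 n10226 = n8037 := d6_2 (iv F37834) D10226 (iv D8037)
theorem F47427 : act 8 n10226 = n10226 := d7_2 F37835 D10226 (iv D10226)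
theorem F47428 : act 9 n10226 = n10226 := d8_2 F37836 D10226 (iv D10226)
def n10227 : Q := act 6 n8033
theorem D10227 : act 6 n8033 = n10227 := rfl
theorem F47429 : act 1 n10227 = n8034 := d13_1 D10227 (iv D8034) D8033
theorem F47430 : act 3 n10227 = n10227 := d26_1 D10227 (iv D10227) F37832
theorem F47431 : act 4 n10227 = n10227 := d31_1 D10227 (iv D10227) F37833
theorem F47432 : act 7 n10227 = n10227 := d39_2 (iv F37834) D10227 (iv D10227) F37834 F30370
theorem F47433 : act 8 n10227 = n10227 := d40_2 F37835 D10227 (iv D10227)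
theorem F47434 : act 9 n10227 = n10227 := d41_2 F37836 D10227 (iv D10227)
def n10228 : Q := act 5 n8034
theorem D10228 : act 5 n8034 = n10228 := rfl
theorem F47435 : act 0 n10228 = n10228 := d4_1 D10228 (iv D10228) F37837
theorem F47436 : act 2 n10228 = n8035 := d19_1 D10228 (iv D8035) (iv F37838)
theorem F47437 : act 3 n10228 = n10228 := d25_1 D10228 (iv D10228) F37839
theorem F47438 : act 7 n10228 = n10228 := d36_2 F37841 D10228 (iv D10228)
theorem F47439 : act 9 n10228 = n10228 := d38_2 F37843 D10228 (iv D10228)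
def n10229 : Q := act 4 n8035
theorem D10229 : act 4 n8035 = n10229 := rfl
theorem F47440 : act 0 n10229 = n10229 := d3_1 D10229 (iv D10229) F37844
theorem F47441 : act 3 n10229 = n10229 := d24_1 D10229 (iv D10229) F37845 F30365 (iv F37845)
theorem F47442 : act 5 n10229 = n10229 := d30_2 D8035 D10229 (iv D10229) (iv D8035) F30359
theorem F47443 : act 7 n10229 = n10229 := d32_2 F37846 D10229 (iv D10229)
theorem F47444 : act 9 n10229 = n10229 := d34_2 F37847 D10229 (iv D10229)
def n10230 : Q := act 8 n8035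
theorem D10230 : act 8 n8035 = n10230 := rfl
theorem F47445 : act 0 n10230 = n10230 := d7_1 D10230 (iv D10230) F37844
theorem F47446 : act 3 n10230 = n8036 := d28_1 D10230 (iv D8036) (iv F37845)
theorem F47447 : act 5 n10230 = n10230 := d37_1 D10230 (iv D10230) (iv D8035) F30361 D8035
theorem F47448 : act 7 n10230 = n10230 := d42_1 D10230 (iv D10230) F37846
def n10231 : Q := act 9 n8036
theorem D10231 : act 9 n8036 = n10231 := rfl
theorem F47449 : act 0 n10231 = n10231 := d8_1 D10231 (iv D10231) F37848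
theorem F47450 : act 2 n10231 = n10231 := d23_1 D10231 (iv D10231) F37849
theorem F47451 : act 4 n10231 = n10231 := d34_1 D10231 (iv D10231) F37850
theorem F47452 : act 5 n10231 = n10231 := d38_1 D10231 (iv D10231) F37851
theorem F47453 : act 7 n10231 = n10231 := d43_1 D10231 (iv D10231) F37852
theorem F47454 : act 8 n10231 = n10231 := d44_1 D10231 (iv D10231) (iv D8036) F30367 D8036
def n10232 : Q := act 5 n8038
theorem D10232 : act 5 n8038 = n10232 := rfl
theorem F47455 : act 0 n10232 = n8048 := d4_1 D10232 (iv D8048) (iv F37859)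
theorem F47456 : act 1 n10232 = n10232 := d12_1 D10232 (iv D10232) F37860
theorem F47457 : act 3 n10232 = n10232 := d25_1 D10232 (iv D10232) F37861
theorem F47458 : act 8 n10232 = n8154 := d37_2 D8038 D10232 (iv D8154) (iv D6448) (iv F30376)
theorem F47459 : act 9 n10232 = n8039 := d38_2 (iv F37862) D10232 (iv D8039)
def n10233 : Q := act 4 n8039
theorem D10233 : act 4 n8039 = n10233 := rfl
theorem F47460 : act 0 n10233 = n8049 := d3_1 D10233 (iv D8049) (iv F37863)
theorem F47461 : act 1 n10233 = n10233 := d11_1 D10233 (iv D10233) F37864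
theorem F47462 : act 8 n10233 = n8041 := d33_2 (iv F37866) D10233 (iv D8041)
def n10234 : Q := act 6 n8039
theorem D10234 : act 6 n8039 = n10234 := rfl
theorem F47463 : act 0 n10234 = n8050 := d5_1 D10234 (iv D8050) (iv F37863)
theorem F47464 : act 1 n10234 = n10234 := d13_1 D10234 (iv D10234) F37864
theorem F47465 : act 3 n10234 = n10234 := d26_1 D10234 (iv D10234) F37865
theorem F47466 : act 8 n10234 = n8042 := d40_2 (iv F37866) D10234 (iv D8042)
def n10235 : Q := act 4 n8040
theorem D10235 : act 4 n8040 = n10235 := rfl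
theorem F47467 : act 0 n10235 = n8051 := d3_1 D10235 (iv D8051) (iv F37867)
theorem F47468 : act 1 n10235 = n10235 := d11_1 D10235 (iv D10235) F37868
theorem F47469 : act 5 n10235 = n8289 := d30_2 D8040 D10235 (iv D8289) (iv D6555) (iv F30383)
theorem F47470 : act 7 n10235 = n8041 := d32_2 (iv F37870) D10235 (iv D8041)
theorem F47471 : act 9 n10235 = n8157 := d34_2 (iv F37871) D10235 (iv D8157)
def n10236 : Q := act 6 n8040
theorem D10236 : act 6 n8040 = n10236 := rfl
theorem F47472 : act 0 n10236 = n8052 := d5_1 D10236 (iv D8052) (iv F37867)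
theorem F47473 : act 1 n10236 = n10236 := d13_1 D10236 (iv D10236) F37868
theorem F47474 : act 3 n10236 = n10236 := d26_1 D10236 (iv D10236) F37869
theorem F47475 : act 5 n10236 = n10236 := d35_1 D10236 (iv D10236) (iv D8040) F30384 D8040
theorem F47476 : act 9 n10236 = n8158 := d41_2 (iv F37871) D10236 (iv D8158)
def n10237 : Q := act 3 n8041
theorem D10237 : act 3 n8041 = n10237 := rfl
theorem F47480 : act 5 n10237 = n8291 := d25_2 (iv F37874) D10237 (iv D8291)
def n10238 : Q := act 6 n8041
theorem D10238 : act 6 n8041 = n10238 := rfl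
theorem F47482 : act 0 n10238 = n8054 := d5_1 D10238 (iv D8054) (iv F37872)
theorem F47483 : act 1 n10238 = n10238 := d13_1 D10238 (iv D10238) F37873
theorem F47484 : act 4 n10238 = n8042 := d31_1 D10238 (iv D8042) D8041
theorem F47485 : act 9 n10238 = n8160 := d41_2 (iv F37875) D10238 (iv D8160)
def n10239 : Q := act 7 n8042
theorem D10239 : act 7 n8042 = n10239 := rfl
theorem F47486 : act 0 n10239 = n8055 := d6_1 D10239 (iv D8055) (iv F37876)
theorem F47487 : act 1 n10239 = n10239 := d14_1 D10239 (iv D10239) F37877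
theorem F47488 : act 3 n10239 = n10239 := d27_1 D10239 (iv D10239) F37878
theorem F47489 : act 5 n10239 = n8045 := d36_1 D10239 (iv D8045) (iv F37879)
theorem F47490 : act 9 n10239 = n8161 := d43_2 (iv F37880) D10239 (iv D8161)
def n10241 : Q := act 6 n8043
theorem D10241 : act 6 n8043 = n10241 := rfl
theorem F47498 : act 3 n10241 = n8044 := d26_1 D10241 (iv D8044) D8043
def n10242 : Q := act 5 n8044
theorem D10242 : act 5 n8044 = n10242 := rfl
theorem F47503 : act 6 n10242 = n8296 := d35_2 D8044 D10242 (iv D8296) (iv D6559) (iv F30393)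
def n10243 : Q := act 7 n8044
theorem D10243 : act 7 n8044 = n10243 := rfl
theorem F47505 : act 0 n10243 = n8059 := d6_1 D10243 (iv D8059) (iv F37887)
theorem F47506 : act 1 n10243 = n10243 := d14_1 D10243 (iv D10243) F37888
theorem F47507 : act 4 n10243 = n8045 := d32_1 D10243 (iv D8045) (iv F37889)
theorem F47508 : act 6 n10243 = n10243 := d39_1 D10243 (iv D10243) (iv D8044) F30394 D8044
theorem F47509 : act 9 n10243 = n8165 := d43_2 (iv F37890) D10243 (iv D8165)
def n10244 : Q := act 4 n8046
theorem D10244 : act 4 n8046 = n10244 := rfl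
theorem F47510 : act 1 n10244 = n8061 := d11_1 D10244 (iv D8061) (iv F37896)
theorem F47511 : act 5 n10244 = n8049 := d30_2 D8046 D10244 (iv D8049) (iv D6374) (iv F30401)
theorem F47512 : act 8 n10244 = n8298 := d33_2 (iv F37897) D10244 (iv D8298)
def n10245 : Q := act 6 n8046
theorem D10245 : act 6 n8046 = n10245 := rfl
theorem F47513 : act 1 n10245 = n8062 := d13_1 D10245 (iv D8062) (iv F37896)
theorem F47514 : act 8 n10245 = n8299 := d40_2 (iv F37897) D10245 (iv D8299)
def n10246 : Q := act 4 n8047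
theorem D10246 : act 4 n8047 = n10246 := rfl
theorem F47515 : act 1 n10246 = n8065 := d11_1 D10246 (iv D8065) (iv F37898)
theorem F47516 : act 7 n10246 = n8049 := d32_2 (iv F37900) D10246 (iv D8049)
theorem F47517 : act 8 n10246 = n8051 := d33_2 (iv F37901) D10246 (iv D8051)
def n10247 : Q := act 6 n8047
theorem D10247 : act 6 n8047 = n10247 := rfl
theorem F47518 : act 1 n10247 = n8066 := d13_1 D10247 (iv D8066) (iv F37898)
theorem F47519 : act 3 n10247 = n10247 := d26_1 D10247 (iv D10247) F37899
theorem F47520 : act 8 n10247 = n8052 := d40_2 (iv F37901) D10247 (iv D8052)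
def n10248 : Q := act 4 n8048
theorem D10248 : act 4 n8048 = n10248 := rfl
theorem F47521 : act 1 n10248 = n8067 := d11_1 D10248 (iv D8067) (iv F37902)
theorem F47522 : act 8 n10248 = n8169 := d33_2 (iv F37904) D10248 (iv D8169)
theorem F47523 : act 9 n10248 = n8049 := d34_2 (iv F37905) D10248 (iv D8049)
def n10249 : Q := act 6 n8048
theorem D10249 : act 6 n8048 = n10249 := rfl
theorem F47524 : act 1 n10249 = n8068 := d13_1 D10249 (iv D8068) (iv F37902)
theorem F47525 : act 3 n10249 = n10249 := d26_1 D10249 (iv D10249) F37903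
theorem F47526 : act 8 n10249 = n8170 := d40_2 (iv F37904) D10249 (iv D8170)
theorem F47527 : act 9 n10249 = n8050 := d41_2 (iv F37905) D10249 (iv D8050)
def n10250 : Q := act 3 n8049
theorem D10250 : act 3 n8049 = n10250 := rfl
theorem F47528 : act 1 n10250 = n8069 := d10_1 D10250 (iv D8069) (iv F37906)
theorem F47530 : act 8 n10250 = n8053 := d28_2 (iv F37907) D10250 (iv D8053)
def n10251 : Q := act 6 n8049
theorem D10251 : act 6 n8049 = n10251 := rfl
theorem F47531 : act 1 n10251 = n8070 := d13_1 D10251 (iv D8070) (iv F37906)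
theorem F47532 : act 4 n10251 = n8050 := d31_1 D10251 (iv D8050) D8049
theorem F47533 : act 8 n10251 = n8054 := d40_2 (iv F37907) D10251 (iv D8054)
def n10252 : Q := act 7 n8050
theorem D10252 : act 7 n8050 = n10252 := rfl
theorem F47534 : act 1 n10252 = n8071 := d14_1 D10252 (iv D8071) (iv F37908)
theorem F47535 : act 3 n10252 = n10252 := d27_1 D10252 (iv D10252) F37909
theorem F47536 : act 8 n10252 = n8055 := d42_2 (iv F37910) D10252 (iv D8055)
def n10253 : Q := act 3 n8051
theorem D10253 : act 3 n8051 = n10253 := rfl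
theorem F47539 : act 5 n10253 = n8305 := d25_2 (iv F37912) D10253 (iv D8305)
theorem F47540 : act 7 n10253 = n8053 := d27_2 (iv F37913) D10253 (iv D8053)
theorem F47541 : act 9 n10253 = n8174 := d29_2 (iv F37914) D10253 (iv D8174)
def n10254 : Q := act 6 n8051
theorem D10254 : act 6 n8051 = n10254 := rfl
theorem F47542 : act 1 n10254 = n8073 := d13_1 D10254 (iv D8073) (iv F37911)
theorem F47543 : act 4 n10254 = n8052 := d31_1 D10254 (iv D8052) D8051
theorem F47544 : act 9 n10254 = n8175 := d41_2 (iv F37914) D10254 (iv D8175)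
def n10255 : Q := act 7 n8052
theorem D10255 : act 7 n8052 = n10255 := rfl
theorem F47545 : act 1 n10255 = n8074 := d14_1 D10255 (iv D8074) (iv F37915)
theorem F47546 : act 3 n10255 = n10255 := d27_1 D10255 (iv D10255) F37916
theorem F47547 : act 5 n10255 = n10255 := d36_1 D10255 (iv D10255) F37917
theorem F47548 : act 6 n10255 = n8055 := d39_1 D10255 (iv D8055) (iv D6377) (iv F30413) D8052
theorem F47549 : act 9 n10255 = n8176 := d43_2 (iv F37918) D10255 (iv D8176)
def n10256 : Q := act 2 n8053
theorem D10256 : act 2 n8053 = n10256 := rfl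
theorem F47551 : act 5 n10256 = n8308 := d19_2 (iv F37921) D10256 (iv D8308)
theorem F47552 : act 9 n10256 = n8177 := d23_2 (iv F37922) D10256 (iv D8177)
def n10257 : Q := act 6 n8053
theorem D10257 : act 6 n8053 = n10257 := rfl
theorem F47553 : act 1 n10257 = n8076 := d13_1 D10257 (iv D8076) (iv F37919)
theorem F47554 : act 3 n10257 = n8054 := d26_1 D10257 (iv D8054) D8053
def n10258 : Q := act 5 n8054
theorem D10258 : act 5 n8054 = n10258 := rfl
theorem F47557 : act 1 n10258 = n8077 := d12_1 D10258 (iv D8077) (iv F37923)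
def n10259 : Q := act 7 n8054
theorem D10259 : act 7 n8054 = n10259 := rfl
theorem F47561 : act 1 n10259 = n8078 := d14_1 D10259 (iv D8078) (iv F37923)
theorem F47562 : act 4 n10259 = n8055 := d32_1 D10259 (iv D8055) (iv F37924)
theorem F47563 : act 9 n10259 = n8180 := d43_2 (iv F37925) D10259 (iv D8180)
def n10262 : Q := act 7 n8057
theorem D10262 : act 7 n8057 = n10262 := rfl
theorem F47572 : act 1 n10262 = n8080 := d14_1 D10262 (iv D8080) (iv F37935)
theorem F47573 : act 3 n10262 = n8059 := d27_1 D10262 (iv D8059) (iv F37936)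
def n10263 : Q := act 7 n8058
theorem D10263 : act 7 n8058 = n10263 := rfl
theorem F47577 : act 1 n10263 = n8081 := d14_1 D10263 (iv D8081) (iv F37939)
theorem F47578 : act 5 n10263 = n8059 := d36_1 D10263 (iv D8059) D8058
def n10264 : Q := act 8 n8058
theorem D10264 : act 8 n8058 = n10264 := rfl
theorem F47580 : act 1 n10264 = n8082 := d15_1 D10264 (iv D8082) (iv F37939)
theorem F47581 : act 6 n10264 = n8316 := d40_1 D10264 (iv D8316) (iv F37940)
def n10265 : Q := act 4 n8060
theorem D10265 : act 4 n8060 = n10265 := rfl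
theorem F47582 : act 0 n10265 = n10265 := d3_1 D10265 (iv D10265) F37946
theorem F47583 : act 2 n10265 = n8083 := d18_1 D10265 (iv D8083) (iv F37947)
theorem F47584 : act 5 n10265 = n8065 := d30_2 D8060 D10265 (iv D8065) (iv D6385) (iv F30437)
theorem F47585 : act 7 n10265 = n8061 := d32_2 (iv F37949) D10265 (iv D8061)
theorem F47586 : act 8 n10265 = n8319 := d33_2 (iv F37950) D10265 (iv D8319)
theorem F47587 : act 9 n10265 = n8090 := d34_2 (iv F37951) D10265 (iv D8090)
def n10266 : Q := act 6 n8060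
theorem D10266 : act 6 n8060 = n10266 := rfl
theorem F47588 : act 0 n10266 = n10266 := d5_1 D10266 (iv D10266) F37946
theorem F47589 : act 2 n10266 = n8084 := d20_1 D10266 (iv D8084) (iv F37947)
theorem F47590 : act 3 n10266 = n8118 := d26_1 D10266 (iv D8118) (iv F37948)
theorem F47591 : act 5 n10266 = n8093 := d35_1 D10266 (iv D8093) (iv D6402) (iv F30438) D8060
theorem F47592 : act 8 n10266 = n8320 := d40_2 (iv F37950) D10266 (iv D8320)
theorem F47593 : act 9 n10266 = n8091 := d41_2 (iv F37951) D10266 (iv D8091)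
def n10267 : Q := act 3 n8061
theorem D10267 : act 3 n8061 = n10267 := rfl
theorem F47594 : act 0 n10267 = n10267 := d2_1 D10267 (iv D10267) F37952
theorem F47595 : act 5 n10267 = n8069 := d25_2 (iv F37954) D10267 (iv D8069)
theorem F47596 : act 8 n10267 = n8321 := d28_2 (iv F37955) D10267 (iv D8321)
def n10268 : Q := act 6 n8061
theorem D10268 : act 6 n8061 = n10268 := rfl
theorem F47597 : act 0 n10268 = n10268 := d5_1 D10268 (iv D10268) F37952
theorem F47598 : act 2 n10268 = n8088 := d20_1 D10268 (iv D8088) (iv F37953)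
theorem F47599 : act 4 n10268 = n8062 := d31_1 D10268 (iv D8062) D8061
theorem F47600 : act 8 n10268 = n8322 := d40_2 (iv F37955) D10268 (iv D8322)
def n10269 : Q := act 7 n8062
theorem D10269 : act 7 n8062 = n10269 := rfl
theorem F47601 : act 0 n10269 = n10269 := d6_1 D10269 (iv D10269) F37956
theorem F47602 : act 2 n10269 = n8089 := d21_1 D10269 (iv D8089) (iv F37957)
theorem F47603 : act 8 n10269 = n8323 := d42_2 (iv F37958) D10269 (iv D8323)
def n10270 : Q := act 4 n8063
theorem D10270 : act 4 n8063 = n10270 := rfl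
theorem F47604 : act 0 n10270 = n10270 := d3_1 D10270 (iv D10270) F37959
theorem F47605 : act 2 n10270 = n8090 := d18_1 D10270 (iv D8090) (iv F37960)
theorem F47606 : act 5 n10270 = n8092 := d30_2 D8063 D10270 (iv D8092) (iv D6402) (iv F30447)
theorem F47607 : act 7 n10270 = n8085 := d32_2 (iv F37962) D10270 (iv D8085)
theorem F47608 : act 8 n10270 = n10270 := d33_2 F37963 D10270 (iv D10270)
theorem F47609 : act 9 n10270 = n8083 := d34_2 (iv F37964) D10270 (iv D8083)
def n10271 : Q := act 6 n8063
theorem D10271 : act 6 n8063 = n10271 := rfl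
theorem F47610 : act 0 n10271 = n10271 := d5_1 D10271 (iv D10271) F37959
theorem F47611 : act 2 n10271 = n8091 := d20_1 D10271 (iv D8091) (iv F37960)
theorem F47612 : act 3 n10271 = n10271 := d26_1 D10271 (iv D10271) F37961
theorem F47613 : act 5 n10271 = n8066 := d35_1 D10271 (iv D8066) (iv D6385) (iv F30448) D8063
theorem F47614 : act 8 n10271 = n10271 := d40_2 F37963 D10271 (iv D10271)
theorem F47615 : act 9 n10271 = n8084 := d41_2 (iv F37964) D10271 (iv D8084)
def n10272 : Q := act 4 n8064
theorem D10272 : act 4 n8064 = n10272 := rfl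
theorem F47616 : act 0 n10272 = n10272 := d3_1 D10272 (iv D10272) F37965
theorem F47617 : act 2 n10272 = n8092 := d18_1 D10272 (iv D8092) (iv F37966)
theorem F47618 : act 5 n10272 = n8090 := d30_2 D8064 D10272 (iv D8090) (iv D6401) (iv F30454)
theorem F47619 : act 7 n10272 = n8067 := d32_2 (iv F37968) D10272 (iv D8067)
theorem F47620 : act 8 n10272 = n8186 := d33_2 (iv F37969) D10272 (iv D8186)
theorem F47621 : act 9 n10272 = n8065 := d34_2 (iv F37970) D10272 (iv D8065)
def n10273 : Q := act 6 n8064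
theorem D10273 : act 6 n8064 = n10273 := rfl
theorem F47622 : act 0 n10273 = n10273 := d5_1 D10273 (iv D10273) F37965
theorem F47623 : act 2 n10273 = n8093 := d20_1 D10273 (iv D8093) (iv F37966)
theorem F47624 : act 3 n10273 = n10273 := d26_1 D10273 (iv D10273) F37967
theorem F47625 : act 5 n10273 = n8084 := d35_1 D10273 (iv D8084) (iv D6397) (iv F30455) D8064
theorem F47626 : act 8 n10273 = n8187 := d40_2 (iv F37969) D10273 (iv D8187)
theorem F47627 : act 9 n10273 = n8066 := d41_2 (iv F37970) D10273 (iv D8066)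
def n10274 : Q := act 3 n8065
theorem D10274 : act 3 n8065 = n10274 := rfl
theorem F47628 : act 0 n10274 = n10274 := d2_1 D10274 (iv D10274) F37971
theorem F47629 : act 4 n10274 = n10274 := d24_2 D8065 D10274 (iv D10274) (iv D8065) F30460
theorem F47630 : act 7 n10274 = n8069 := d27_2 (iv F37973) D10274 (iv D8069)
theorem F47631 : act 8 n10274 = n8072 := d28_2 (iv F37974) D10274 (iv D8072)
def n10275 : Q := act 6 n8065
theorem D10275 : act 6 n8065 = n10275 := rfl
theorem F47632 : act 0 n10275 = n10275 := d5_1 D10275 (iv D10275) F37971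
theorem F47633 : act 2 n10275 = n8095 := d20_1 D10275 (iv D8095) (iv F37972)
theorem F47634 : act 4 n10275 = n8066 := d31_1 D10275 (iv D8066) D8065
theorem F47635 : act 8 n10275 = n8073 := d40_2 (iv F37974) D10275 (iv D8073)
def n10276 : Q := act 7 n8066
theorem D10276 : act 7 n8066 = n10276 := rfl
theorem F47636 : act 0 n10276 = n10276 := d6_1 D10276 (iv D10276) F37975
theorem F47637 : act 2 n10276 = n8096 := d21_1 D10276 (iv D8096) (iv F37976)
theorem F47638 : act 3 n10276 = n10276 := d27_1 D10276 (iv D10276) F37977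
theorem F47639 : act 6 n10276 = n8071 := d39_1 D10276 (iv D8071) (iv D6388) (iv F30461) D8066
theorem F47640 : act 8 n10276 = n8074 := d42_2 (iv F37978) D10276 (iv D8074)
def n10277 : Q := act 3 n8067
theorem D10277 : act 3 n8067 = n10277 := rfl
theorem F47641 : act 0 n10277 = n10277 := d2_1 D10277 (iv D10277) F37979
theorem F47642 : act 4 n10277 = n10277 := d24_2 D8067 D10277 (iv D10277) (iv D8067) F30465
theorem F47643 : act 8 n10277 = n8191 := d28_2 (iv F37981) D10277 (iv D8191)
theorem F47644 : act 9 n10277 = n8069 := d29_2 (iv F37982) D10277 (iv D8069)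
def n10278 : Q := act 6 n8067
theorem D10278 : act 6 n8067 = n10278 := rfl
theorem F47645 : act 0 n10278 = n10278 := d5_1 D10278 (iv D10278) F37979
theorem F47646 : act 2 n10278 = n8098 := d20_1 D10278 (iv D8098) (iv F37980)
theorem F47647 : act 4 n10278 = n8068 := d31_1 D10278 (iv D8068) D8067
theorem F47648 : act 8 n10278 = n8192 := d40_2 (iv F37981) D10278 (iv D8192)
theorem F47649 : act 9 n10278 = n8070 := d41_2 (iv F37982) D10278 (iv D8070)
def n10279 : Q := act 7 n8068
theorem D10279 : act 7 n8068 = n10279 := rfl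
theorem F47650 : act 0 n10279 = n10279 := d6_1 D10279 (iv D10279) F37983
theorem F47651 : act 2 n10279 = n8099 := d21_1 D10279 (iv D8099) (iv F37984)
theorem F47652 : act 3 n10279 = n10279 := d27_1 D10279 (iv D10279) F37985
theorem F47653 : act 8 n10279 = n8193 := d42_2 (iv F37986) D10279 (iv D8193)
theorem F47654 : act 9 n10279 = n8071 := d43_2 (iv F37987) D10279 (iv D8071)
def n10280 : Q := act 2 n8069
theorem D10280 : act 2 n8069 = n10280 := rfl
theorem F47655 : act 0 n10280 = n10280 := d1_1 D10280 (iv D10280) F37988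
theorem F47656 : act 3 n10280 = n8100 := d17_2 D8069 D10280 (iv D8100) (iv D6407) (iv F30469)
theorem F47657 : act 4 n10280 = n10280 := d18_2 F37989 D10280 (iv D10280)
theorem F47658 : act 8 n10280 = n8075 := d22_2 (iv F37990) D10280 (iv D8075)
def n10281 : Q := act 6 n8069
theorem D10281 : act 6 n8069 = n10281 := rfl
theorem F47659 : act 0 n10281 = n10281 := d5_1 D10281 (iv D10281) F37988
theorem F47660 : act 3 n10281 = n8070 := d26_1 D10281 (iv D8070) D8069
theorem F47661 : act 4 n10281 = n10281 := d31_1 D10281 (iv D10281) F37989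
theorem F47662 : act 8 n10281 = n8076 := d40_2 (iv F37990) D10281 (iv D8076)
def n10282 : Q := act 5 n8070
theorem D10282 : act 5 n8070 = n10282 := rfl
theorem F47663 : act 0 n10282 = n10282 := d4_1 D10282 (iv D10282) F37991
theorem F47664 : act 2 n10282 = n8102 := d19_1 D10282 (iv D8102) (iv F37992)
def n10283 : Q := act 7 n8070
theorem D10283 : act 7 n8070 = n10283 := rfl
theorem F47665 : act 0 n10283 = n10283 := d6_1 D10283 (iv D10283) F37991
theorem F47666 : act 2 n10283 = n8103 := d21_1 D10283 (iv D8103) (iv F37992)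
theorem F47667 : act 4 n10283 = n8071 := d32_1 D10283 (iv D8071) (iv F37993)
theorem F47668 : act 8 n10283 = n8078 := d42_2 (iv F37994) D10283 (iv D8078)
def n10284 : Q := act 2 n8072
theorem D10284 : act 2 n8072 = n10284 := rfl
theorem F47670 : act 3 n10284 = n8104 := d17_2 D8072 D10284 (iv D8104) (iv D6410) (iv F30476)
theorem F47672 : act 5 n10284 = n8333 := d19_2 (iv F38001) D10284 (iv D8333)
theorem F47673 : act 7 n10284 = n8075 := d21_2 (iv F38002) D10284 (iv D8075)
theorem F47674 : act 9 n10284 = n8198 := d23_2 (iv F38003) D10284 (iv D8198)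
def n10285 : Q := act 6 n8072
theorem D10285 : act 6 n8072 = n10285 := rfl
theorem F47675 : act 0 n10285 = n10285 := d5_1 D10285 (iv D10285) F37999
theorem F47676 : act 3 n10285 = n8073 := d26_1 D10285 (iv D8073) D8072
theorem F47677 : act 4 n10285 = n10285 := d31_1 D10285 (iv D10285) F38000
theorem F47678 : act 9 n10285 = n8199 := d41_2 (iv F38003) D10285 (iv D8199)
def n10286 : Q := act 5 n8073
theorem D10286 : act 5 n8073 = n10286 := rfl
theorem F47679 : act 0 n10286 = n10286 := d4_1 D10286 (iv D10286) F38004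
theorem F47680 : act 2 n10286 = n8106 := d19_1 D10286 (iv D8106) (iv F38005)
theorem F47681 : act 4 n10286 = n10286 := d30_1 D10286 (iv D10286) F38006 F30483 (iv F38006)
theorem F47682 : act 6 n10286 = n8335 := d35_2 D8073 D10286 (iv D8335) (iv D6585) (iv F30477)
theorem F47683 : act 9 n10286 = n8200 := d38_2 (iv F38007) D10286 (iv D8200)
def n10287 : Q := act 7 n8073
theorem D10287 : act 7 n8073 = n10287 := rfl
theorem F47684 : act 0 n10287 = n10287 := d6_1 D10287 (iv D10287) F38004
theorem F47685 : act 2 n10287 = n8107 := d21_1 D10287 (iv D8107) (iv F38005)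
theorem F47686 : act 4 n10287 = n8074 := d32_1 D10287 (iv D8074) (iv F38006)
theorem F47687 : act 6 n10287 = n8078 := d39_1 D10287 (iv D8078) (iv D6392) (iv F30478) D8073
theorem F47688 : act 9 n10287 = n8201 := d43_2 (iv F38007) D10287 (iv D8201)
def n10288 : Q := act 1 n8075
theorem D10288 : act 1 n8075 = n10288 := rfl
theorem F47691 : act 5 n10288 = n8337 := d12_2 (iv F38017) D10288 (iv D8337)
theorem F47692 : act 9 n10288 = n8202 := d16_2 (iv F38018) D10288 (iv D8202)
def n10289 : Q := act 6 n8075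
theorem D10289 : act 6 n8075 = n10289 := rfl
theorem F47694 : act 2 n10289 = n8076 := d20_1 D10289 (iv D8076) D8075
theorem F47695 : act 3 n10289 = n8109 := d26_1 D10289 (iv D8109) (iv F38015)
theorem F47697 : act 9 n10289 = n8203 := d41_2 (iv F38018) D10289 (iv D8203)
def n10290 : Q := act 5 n8076
theorem D10290 : act 5 n8076 = n10290 := rfl
theorem F47699 : act 3 n10290 = n8077 := d25_1 D10290 (iv D8077) (iv F38020)
theorem F47700 : act 6 n10290 = n8339 := d35_2 D8076 D10290 (iv D8339) (iv D6588) (iv F30487)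
def n10291 : Q := act 7 n8076
theorem D10291 : act 7 n8076 = n10291 := rfl
theorem F47702 : act 0 n10291 = n10291 := d6_1 D10291 (iv D10291) F38019
theorem F47703 : act 3 n10291 = n8078 := d27_1 D10291 (iv D8078) (iv F38020)
theorem F47704 : act 4 n10291 = n10291 := d32_1 D10291 (iv D10291) F38021
theorem F47705 : act 9 n10291 = n8205 := d43_2 (iv F38022) D10291 (iv D8205)
def n10292 : Q := act 7 n8077
theorem D10292 : act 7 n8077 = n10292 := rfl
theorem F47706 : act 0 n10292 = n10292 := d6_1 D10292 (iv D10292) F38023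
theorem F47707 : act 2 n10292 = n8112 := d21_1 D10292 (iv D8112) (iv F38024)
theorem F47708 : act 4 n10292 = n8081 := d32_1 D10292 (iv D8081) (iv F38025)
theorem F47709 : act 5 n10292 = n8078 := d36_1 D10292 (iv D8078) D8077
theorem F47710 : act 9 n10292 = n8206 := d43_2 (iv F38027) D10292 (iv D8206)
def n10293 : Q := act 8 n8077
theorem D10293 : act 8 n8077 = n10293 := rfl
theorem F47711 : act 0 n10293 = n10293 := d7_1 D10293 (iv D10293) F38023
theorem F47712 : act 2 n10293 = n8113 := d22_1 D10293 (iv D8113) (iv F38024)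
theorem F47713 : act 4 n10293 = n8082 := d33_1 D10293 (iv D8082) (iv F38025)
def n10294 : Q := act 4 n8079
theorem D10294 : act 4 n8079 = n10294 := rfl
def n10295 : Q := act 7 n8079
theorem D10295 : act 7 n8079 = n10295 := rfl
theorem F47722 : act 3 n10295 = n8081 := d27_1 D10295 (iv D8081) (iv F38034)
theorem F47723 : act 5 n10295 = n8080 := d36_1 D10295 (iv D8080) D8079
def n10296 : Q := act 8 n8079
theorem D10296 : act 8 n8079 = n10296 := rfl
theorem F47727 : act 3 n10296 = n8082 := d28_1 D10296 (iv D8082) (iv F38034)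
theorem F47728 : act 6 n10296 = n8345 := d40_1 D10296 (iv D8345) (iv F38035)
def n10297 : Q := act 6 n8081
theorem D10297 : act 6 n8081 = n10297 := rfl
theorem F47730 : act 2 n10297 = n8114 := d20_1 D10297 (iv D8114) (iv F38044)
theorem F47732 : act 7 n10297 = n8346 := d39_2 D8081 D10297 (iv D8346) (iv D6593) (iv F30505)
def n10298 : Q := act 8 n8081
theorem D10298 : act 8 n8081 = n10298 := rfl
theorem F47734 : act 0 n10298 = n10298 := d7_1 D10298 (iv D10298) F38043
theorem F47735 : act 2 n10298 = n8115 := d22_1 D10298 (iv D8115) (iv F38044)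
theorem F47736 : act 7 n10298 = n8082 := d42_1 D10298 (iv D8082) D8081
def n10299 : Q := act 9 n8082
theorem D10299 : act 9 n8082 = n10299 := rfl
theorem F47737 : act 0 n10299 = n10299 := d8_1 D10299 (iv D10299) F38047
theorem F47738 : act 2 n10299 = n8116 := d23_1 D10299 (iv D8116) (iv F38048)
theorem F47740 : act 8 n10299 = n8213 := d44_1 D10299 (iv D8213) (iv D6488) (iv F30506) D8082
def n10300 : Q := act 3 n8083
theorem D10300 : act 3 n8083 = n10300 := rfl
theorem F47741 : act 0 n10300 = n10300 := d2_1 D10300 (iv D10300) F38050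
theorem F47742 : act 4 n10300 = n10300 := d24_2 D8083 D10300 (iv D10300) (iv D8083) F30513
theorem F47743 : act 5 n10300 = n8094 := d25_2 (iv F38051) D10300 (iv D8094)
theorem F47744 : act 7 n10300 = n8087 := d27_2 (iv F38052) D10300 (iv D8087)
theorem F47745 : act 8 n10300 = n8351 := d28_2 (iv F38053) D10300 (iv D8351)
def n10301 : Q := act 6 n8083
theorem D10301 : act 6 n8083 = n10301 := rfl
theorem F47746 : act 0 n10301 = n10301 := d5_1 D10301 (iv D10301) F38050
theorem F47747 : act 4 n10301 = n8084 := d31_1 D10301 (iv D8084) D8083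
theorem F47748 : act 8 n10301 = n8352 := d40_2 (iv F38053) D10301 (iv D8352)
def n10302 : Q := act 7 n8084
theorem D10302 : act 7 n8084 = n10302 := rfl
theorem F47749 : act 0 n10302 = n10302 := d6_1 D10302 (iv D10302) F38054
theorem F47750 : act 3 n10302 = n10302 := d27_1 D10302 (iv D10302) F38055
theorem F47751 : act 6 n10302 = n8089 := d39_1 D10302 (iv D8089) (iv D6400) (iv F30514) D8084
theorem F47752 : act 8 n10302 = n8353 := d42_2 (iv F38056) D10302 (iv D8353)
def n10303 : Q := act 3 n8085
theorem D10303 : act 3 n8085 = n10303 := rfl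
theorem F47753 : act 0 n10303 = n10303 := d2_1 D10303 (iv D10303) F38057
theorem F47754 : act 4 n10303 = n10303 := d24_2 D8085 D10303 (iv D10303) (iv D8085) F30517
theorem F47755 : act 5 n10303 = n8097 := d25_2 (iv F38058) D10303 (iv D8097)
theorem F47756 : act 8 n10303 = n10303 := d28_2 F38059 D10303 (iv D10303)
theorem F47757 : act 9 n10303 = n8087 := d29_2 (iv F38060) D10303 (iv D8087)
def n10304 : Q := act 6 n8085
theorem D10304 : act 6 n8085 = n10304 := rfl
theorem F47758 : act 0 n10304 = n10304 := d5_1 D10304 (iv D10304) F38057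
theorem F47759 : act 4 n10304 = n8086 := d31_1 D10304 (iv D8086) D8085
theorem F47760 : act 8 n10304 = n10304 := d40_2 F38059 D10304 (iv D10304)
theorem F47761 : act 9 n10304 = n8088 := d41_2 (iv F38060) D10304 (iv D8088)
def n10305 : Q := act 7 n8086
theorem D10305 : act 7 n8086 = n10305 := rfl
theorem F47762 : act 0 n10305 = n10305 := d6_1 D10305 (iv D10305) F38061
theorem F47763 : act 3 n10305 = n10305 := d27_1 D10305 (iv D10305) F38062
theorem F47764 : act 8 n10305 = n10305 := d42_2 F38063 D10305 (iv D10305)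
theorem F47765 : act 9 n10305 = n8089 := d43_2 (iv F38064) D10305 (iv D8089)
def n10306 : Q := act 2 n8087
theorem D10306 : act 2 n8087 = n10306 := rfl
theorem F47766 : act 0 n10306 = n10306 := d1_1 D10306 (iv D10306) F38065
theorem F47767 : act 4 n10306 = n10306 := d18_2 F38066 D10306 (iv D10306)
theorem F47768 : act 5 n10306 = n8100 := d19_2 (iv F38067) D10306 (iv D8100)
theorem F47769 : act 8 n10306 = n8354 := d22_2 (iv F38068) D10306 (iv D8354)
def n10307 : Q := act 6 n8087
theorem D10307 : act 6 n8087 = n10307 := rfl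
theorem F47770 : act 0 n10307 = n10307 := d5_1 D10307 (iv D10307) F38065
theorem F47771 : act 3 n10307 = n8088 := d26_1 D10307 (iv D8088) D8087
theorem F47772 : act 4 n10307 = n10307 := d31_1 D10307 (iv D10307) F38066
theorem F47773 : act 8 n10307 = n8355 := d40_2 (iv F38068) D10307 (iv D8355)
def n10308 : Q := act 5 n8088
theorem D10308 : act 5 n8088 = n10308 := rfl
theorem F47774 : act 0 n10308 = n10308 := d4_1 D10308 (iv D10308) F38069
theorem F47775 : act 6 n10308 = n8102 := d35_2 D8088 D10308 (iv D8102) (iv D6408) (iv F30521)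
def n10309 : Q := act 7 n8088
theorem D10309 : act 7 n8088 = n10309 := rfl
theorem F47776 : act 0 n10309 = n10309 := d6_1 D10309 (iv D10309) F38069
theorem F47777 : act 4 n10309 = n8089 := d32_1 D10309 (iv D8089) (iv F38070)
theorem F47778 : act 8 n10309 = n8357 := d42_2 (iv F38071) D10309 (iv D8357)
def n10310 : Q := act 3 n8090
theorem D10310 : act 3 n8090 = n10310 := rfl
theorem F47779 : act 0 n10310 = n10310 := d2_1 D10310 (iv D10310) F38075
theorem F47780 : act 4 n10310 = n8119 := d24_2 D8090 D10310 (iv D8119) (iv D6420) (iv F30527)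
theorem F47781 : act 8 n10310 = n10310 := d28_2 F38076 D10310 (iv D10310)
def n10311 : Q := act 6 n8090
theorem D10311 : act 6 n8090 = n10311 := rfl
theorem F47782 : act 0 n10311 = n10311 := d5_1 D10311 (iv D10311) F38075
theorem F47783 : act 4 n10311 = n8091 := d31_1 D10311 (iv D8091) D8090
theorem F47784 : act 8 n10311 = n10311 := d40_2 F38076 D10311 (iv D10311)
def n10312 : Q := act 7 n8091
theorem D10312 : act 7 n8091 = n10312 := rfl
theorem F47785 : act 0 n10312 = n10312 := d6_1 D10312 (iv D10312) F38077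
theorem F47786 : act 3 n10312 = n8121 := d27_1 D10312 (iv D8121) (iv F38078)
theorem F47787 : act 5 n10312 = n8096 := d36_1 D10312 (iv D8096) (iv F38079)
theorem F47788 : act 8 n10312 = n10312 := d42_2 F38080 D10312 (iv D10312)
def n10313 : Q := act 3 n8092
theorem D10313 : act 3 n8092 = n10313 := rfl
theorem F47789 : act 0 n10313 = n10313 := d2_1 D10313 (iv D10313) F38081
theorem F47790 : act 4 n10313 = n8122 := d24_2 D8092 D10313 (iv D8122) (iv D6422) (iv F30530)
theorem F47791 : act 7 n10313 = n8097 := d27_2 (iv F38082) D10313 (iv D8097)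
theorem F47792 : act 8 n10313 = n8214 := d28_2 (iv F38083) D10313 (iv D8214)
theorem F47793 : act 9 n10313 = n8094 := d29_2 (iv F38084) D10313 (iv D8094)
def n10314 : Q := act 6 n8092
theorem D10314 : act 6 n8092 = n10314 := rfl
theorem F47794 : act 0 n10314 = n10314 := d5_1 D10314 (iv D10314) F38081
theorem F47795 : act 4 n10314 = n8093 := d31_1 D10314 (iv D8093) D8092
theorem F47796 : act 8 n10314 = n8215 := d40_2 (iv F38083) D10314 (iv D8215)
theorem F47797 : act 9 n10314 = n8095 := d41_2 (iv F38084) D10314 (iv D8095)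
def n10315 : Q := act 7 n8093
theorem D10315 : act 7 n8093 = n10315 := rfl
theorem F47798 : act 0 n10315 = n10315 := d6_1 D10315 (iv D10315) F38085
theorem F47799 : act 3 n10315 = n8124 := d27_1 D10315 (iv D8124) (iv F38086)
theorem F47800 : act 6 n10315 = n8099 := d39_1 D10315 (iv D8099) (iv D6406) (iv F30531) D8093
theorem F47801 : act 8 n10315 = n8216 := d42_2 (iv F38087) D10315 (iv D8216)
theorem F47802 : act 9 n10315 = n8096 := d43_2 (iv F38088) D10315 (iv D8096)
def n10316 : Q := act 2 n8094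
theorem D10316 : act 2 n8094 = n10316 := rfl
theorem F47805 : act 7 n10316 = n8100 := d21_2 (iv F38091) D10316 (iv D8100)
theorem F47806 : act 8 n10316 = n8104 := d22_2 (iv F38092) D10316 (iv D8104)
def n10317 : Q := act 6 n8094
theorem D10317 : act 6 n8094 = n10317 := rfl
theorem F47808 : act 3 n10317 = n8095 := d26_1 D10317 (iv D8095) D8094
theorem F47810 : act 8 n10317 = n8105 := d40_2 (iv F38092) D10317 (iv D8105)
def n10318 : Q := act 5 n8095
theorem D10318 : act 5 n8095 = n10318 := rfl
theorem F47811 : act 0 n10318 = n10318 := d4_1 D10318 (iv D10318) F38093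
def n10319 : Q := act 7 n8095
theorem D10319 : act 7 n8095 = n10319 := rfl
theorem F47812 : act 0 n10319 = n10319 := d6_1 D10319 (iv D10319) F38093
theorem F47813 : act 4 n10319 = n8096 := d32_1 D10319 (iv D8096) (iv F38094)
theorem F47814 : act 6 n10319 = n8103 := d39_1 D10319 (iv D8103) (iv D6408) (iv F30535) D8095
theorem F47815 : act 8 n10319 = n8107 := d42_2 (iv F38095) D10319 (iv D8107)
def n10320 : Q := act 2 n8097
theorem D10320 : act 2 n8097 = n10320 := rfl
theorem F47816 : act 0 n10320 = n10320 := d1_1 D10320 (iv D10320) F38100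
theorem F47817 : act 4 n10320 = n8129 := d18_2 (iv F38101) D10320 (iv D8129)
theorem F47818 : act 8 n10320 = n8221 := d22_2 (iv F38102) D10320 (iv D8221)
theorem F47819 : act 9 n10320 = n8100 := d23_2 (iv F38103) D10320 (iv D8100)
def n10321 : Q := act 6 n8097
theorem D10321 : act 6 n8097 = n10321 := rfl
theorem F47820 : act 0 n10321 = n10321 := d5_1 D10321 (iv D10321) F38100
theorem F47821 : act 3 n10321 = n8098 := d26_1 D10321 (iv D8098) D8097
theorem F47822 : act 4 n10321 = n8130 := d31_1 D10321 (iv D8130) (iv F38101)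
theorem F47823 : act 8 n10321 = n8222 := d40_2 (iv F38102) D10321 (iv D8222)
theorem F47824 : act 9 n10321 = n8101 := d41_2 (iv F38103) D10321 (iv D8101)
def n10322 : Q := act 5 n8098
theorem D10322 : act 5 n8098 = n10322 := rfl
theorem F47825 : act 0 n10322 = n10322 := d4_1 D10322 (iv D10322) F38104
theorem F47826 : act 9 n10322 = n8102 := d38_2 (iv F38107) D10322 (iv D8102)
def n10323 : Q := act 7 n8098
theorem D10323 : act 7 n8098 = n10323 := rfl
theorem F47827 : act 0 n10323 = n10323 := d6_1 D10323 (iv D10323) F38104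
theorem F47828 : act 4 n10323 = n8099 := d32_1 D10323 (iv D8099) (iv F38105)
theorem F47829 : act 8 n10323 = n8224 := d42_2 (iv F38106) D10323 (iv D8224)
theorem F47830 : act 9 n10323 = n8103 := d43_2 (iv F38107) D10323 (iv D8103)
def n10324 : Q := act 1 n8100
theorem D10324 : act 1 n8100 = n10324 := rfl
theorem F47831 : act 4 n10324 = n8133 := d11_2 (iv F38113) D10324 (iv D8133)
theorem F47832 : act 8 n10324 = n8108 := d15_2 (iv F38114) D10324 (iv D8108)
def n10325 : Q := act 6 n8100
theorem D10325 : act 6 n8100 = n10325 := rfl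
theorem F47833 : act 0 n10325 = n10325 := d5_1 D10325 (iv D10325) F38112
theorem F47834 : act 2 n10325 = n8101 := d20_1 D10325 (iv D8101) D8100
theorem F47835 : act 4 n10325 = n8134 := d31_1 D10325 (iv D8134) (iv F38113)
theorem F47836 : act 8 n10325 = n8109 := d40_2 (iv F38114) D10325 (iv D8109)
def n10326 : Q := act 5 n8101
theorem D10326 : act 5 n8101 = n10326 := rfl
theorem F47837 : act 0 n10326 = n10326 := d4_1 D10326 (iv D10326) F38115
theorem F47838 : act 3 n10326 = n8102 := d25_1 D10326 (iv D8102) (iv F38116)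
def n10327 : Q := act 7 n8101
theorem D10327 : act 7 n8101 = n10327 := rfl
theorem F47839 : act 0 n10327 = n10327 := d6_1 D10327 (iv D10327) F38115
theorem F47840 : act 3 n10327 = n8103 := d27_1 D10327 (iv D8103) (iv F38116)
theorem F47841 : act 4 n10327 = n8136 := d32_1 D10327 (iv D8136) (iv F38117)
theorem F47842 : act 8 n10327 = n8111 := d42_2 (iv F38118) D10327 (iv D8111)
def n10328 : Q := act 7 n8102
theorem D10328 : act 7 n8102 = n10328 := rfl
theorem F47843 : act 0 n10328 = n10328 := d6_1 D10328 (iv D10328) F38119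
theorem F47844 : act 5 n10328 = n8103 := d36_1 D10328 (iv D8103) D8102
def n10329 : Q := act 8 n8102
theorem D10329 : act 8 n8102 = n10329 := rfl
theorem F47845 : act 0 n10329 = n10329 := d7_1 D10329 (iv D10329) F38119
theorem F47846 : act 5 n10329 = n8113 := d37_1 D10329 (iv D8113) (iv D6415) (iv F30552) D8102
def n10330 : Q := act 1 n8104
theorem D10330 : act 1 n8104 = n10330 := rfl
theorem F47848 : act 5 n10330 = n8371 := d12_2 (iv F38125) D10330 (iv D8371)
def n10331 : Q := act 6 n8104
theorem D10331 : act 6 n8104 = n10331 := rfl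
theorem F47852 : act 2 n10331 = n8105 := d20_1 D10331 (iv D8105) D8104
def n10332 : Q := act 5 n8105
theorem D10332 : act 5 n8105 = n10332 := rfl
theorem F47856 : act 3 n10332 = n8106 := d25_1 D10332 (iv D8106) (iv F38129)
theorem F47857 : act 6 n10332 = n8373 := d35_2 D8105 D10332 (iv D8373) (iv D6611) (iv F30558)
def n10333 : Q := act 7 n8105
theorem D10333 : act 7 n8105 = n10333 := rfl
theorem F47862 : act 6 n10333 = n8111 := d39_1 D10333 (iv D8111) (iv D6414) (iv F30559) D8105
def n10334 : Q := act 7 n8106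
theorem D10334 : act 7 n8106 = n10334 := rfl
def n10335 : Q := act 8 n8106
theorem D10335 : act 8 n8106 = n10335 := rfl
def n10337 : Q := act 6 n8108
theorem D10337 : act 6 n8108 = n10337 := rfl
theorem F47875 : act 1 n10337 = n8109 := d13_1 D10337 (iv D8109) D8108
theorem F47877 : act 9 n10337 = n8238 := d41_2 (iv F38142) D10337 (iv D8238)
def n10338 : Q := act 5 n8109
theorem D10338 : act 5 n8109 = n10338 := rfl
theorem F47879 : act 2 n10338 = n8110 := d19_1 D10338 (iv D8110) (iv F38144)
theorem F47882 : act 9 n10338 = n8239 := d38_2 (iv F38146) D10338 (iv D8239)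
def n10339 : Q := act 7 n8109
theorem D10339 : act 7 n8109 = n10339 := rfl
theorem F47883 : act 0 n10339 = n10339 := d6_1 D10339 (iv D10339) F38143
theorem F47884 : act 2 n10339 = n8111 := d21_1 D10339 (iv D8111) (iv F38144)
theorem F47886 : act 9 n10339 = n8240 := d43_2 (iv F38146) D10339 (iv D8240)
def n10340 : Q := act 7 n8110
theorem D10340 : act 7 n8110 = n10340 := rfl
theorem F47887 : act 0 n10340 = n10340 := d6_1 D10340 (iv D10340) F38147
theorem F47888 : act 3 n10340 = n8112 := d27_1 D10340 (iv D8112) (iv F38148)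
theorem F47889 : act 4 n10340 = n10340 := d32_1 D10340 (iv D10340) F38149
theorem F47890 : act 5 n10340 = n8111 := d36_1 D10340 (iv D8111) D8110
theorem F47891 : act 9 n10340 = n8241 := d43_2 (iv F38151) D10340 (iv D8241)
def n10341 : Q := act 8 n8110
theorem D10341 : act 8 n8110 = n10341 := rfl
theorem F47892 : act 0 n10341 = n10341 := d7_1 D10341 (iv D10341) F38147
theorem F47893 : act 3 n10341 = n8113 := d28_1 D10341 (iv D8113) (iv F38148)
theorem F47894 : act 4 n10341 = n10341 := d33_1 D10341 (iv D10341) F38149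
theorem F47895 : act 6 n10341 = n8382 := d40_1 D10341 (iv D8382) (iv F38150)
def n10342 : Q := act 6 n8112
theorem D10342 : act 6 n8112 = n10342 := rfl
theorem F47897 : act 4 n10342 = n8114 := d31_1 D10342 (iv D8114) (iv F38157)
theorem F47898 : act 7 n10342 = n8383 := d39_2 D8112 D10342 (iv D8383) (iv D6618) (iv F30579)
def n10343 : Q := act 8 n8112
theorem D10343 : act 8 n8112 = n10343 := rfl
theorem F47900 : act 0 n10343 = n10343 := d7_1 D10343 (iv D10343) F38156
theorem F47901 : act 4 n10343 = n8115 := d33_1 D10343 (iv D8115) (iv F38157)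
theorem F47902 : act 7 n10343 = n8113 := d42_1 D10343 (iv D8113) D8112
def n10344 : Q := act 9 n8113
theorem D10344 : act 9 n8113 = n10344 := rfl
theorem F47903 : act 0 n10344 = n10344 := d8_1 D10344 (iv D10344) F38160
theorem F47904 : act 4 n10344 = n8116 := d34_1 D10344 (iv D8116) (iv F38161)
theorem F47905 : act 6 n10344 = n8385 := d41_1 D10344 (iv D8385) (iv F38162)
theorem F47906 : act 8 n10344 = n8245 := d44_1 D10344 (iv D8245) (iv D6510) (iv F30580) D8113
def n10345 : Q := act 8 n8114
theorem D10345 : act 8 n8114 = n10345 := rfl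
theorem F47907 : act 0 n10345 = n10345 := d7_1 D10345 (iv D10345) F38163
theorem F47908 : act 3 n10345 = n10345 := d28_1 D10345 (iv D10345) F38164
theorem F47909 : act 6 n10345 = n8115 := d40_1 D10345 (iv D8115) D8114
def n10346 : Q := act 9 n8115
theorem D10346 : act 9 n8115 = n10346 := rfl
theorem F47911 : act 0 n10346 = n10346 := d8_1 D10346 (iv D10346) F38168
theorem F47912 : act 3 n10346 = n10346 := d29_1 D10346 (iv D10346) F38169
theorem F47913 : act 7 n10346 = n8116 := d43_1 D10346 (iv D8116) (iv F38170)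
theorem F47914 : act 8 n10346 = n8247 := d44_1 D10346 (iv D8247) (iv D6512) (iv F30587) D8115
def n10347 : Q := act 3 n8117
theorem D10347 : act 3 n8117 = n10347 := rfl
theorem F47915 : act 0 n10347 = n10347 := d2_1 D10347 (iv D10347) F38175
theorem F47916 : act 5 n10347 = n10347 := d25_2 F38177 D10347 (iv D10347)
theorem F47917 : act 9 n10347 = n8119 := d29_2 (iv F38178) D10347 (iv D8119)
def n10348 : Q := act 6 n8117
theorem D10348 : act 6 n8117 = n10348 := rfl
theorem F47918 : act 0 n10348 = n10348 := d5_1 D10348 (iv D10348) F38175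
theorem F47919 : act 2 n10348 = n10348 := d20_1 D10348 (iv D10348) F38176
theorem F47920 : act 4 n10348 = n8118 := d31_1 D10348 (iv D8118) D8117
theorem F47921 : act 9 n10348 = n8120 := d41_2 (iv F38178) D10348 (iv D8120)
def n10349 : Q := act 7 n8118
theorem D10349 : act 7 n8118 = n10349 := rfl
theorem F47922 : act 0 n10349 = n10349 := d6_1 D10349 (iv D10349) F38179
theorem F47923 : act 2 n10349 = n10349 := d21_1 D10349 (iv D10349) F38180
theorem F47924 : act 5 n10349 = n8124 := d36_1 D10349 (iv D8124) (iv F38181)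
theorem F47925 : act 9 n10349 = n8121 := d43_2 (iv F38182) D10349 (iv D8121)
def n10350 : Q := act 2 n8119
theorem D10350 : act 2 n8119 = n10350 := rfl
theorem F47926 : act 0 n10350 = n10350 := d1_1 D10350 (iv D10350) F38183
theorem F47927 : act 3 n10350 = n10350 := d17_2 D8119 D10350 (iv D10350) (iv D8119) F30595
theorem F47928 : act 5 n10350 = n10350 := d19_2 F38184 D10350 (iv D10350)
theorem F47929 : act 8 n10350 = n10350 := d22_2 F38185 D10350 (iv D10350)
def n10351 : Q := act 6 n8119
theorem D10351 : act 6 n8119 = n10351 := rfl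
theorem F47930 : act 0 n10351 = n10351 := d5_1 D10351 (iv D10351) F38183
theorem F47931 : act 3 n10351 = n8120 := d26_1 D10351 (iv D8120) D8119
theorem F47932 : act 8 n10351 = n10351 := d40_2 F38185 D10351 (iv D10351)
def n10352 : Q := act 5 n8120
theorem D10352 : act 5 n8120 = n10352 := rfl
theorem F47933 : act 0 n10352 = n10352 := d4_1 D10352 (iv D10352) F38186
theorem F47934 : act 2 n10352 = n10352 := d19_1 D10352 (iv D10352) F38187
theorem F47935 : act 4 n10352 = n8127 := d30_1 D10352 (iv D8127) F30618 (iv F30600) (iv F38188)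
theorem F47936 : act 6 n10352 = n10352 := d35_2 D8120 D10352 (iv D10352) (iv D8120) F30596
def n10353 : Q := act 7 n8120
theorem D10353 : act 7 n8120 = n10353 := rfl
theorem F47937 : act 0 n10353 = n10353 := d6_1 D10353 (iv D10353) F38186
theorem F47938 : act 2 n10353 = n10353 := d21_1 D10353 (iv D10353) F38187
theorem F47939 : act 4 n10353 = n8121 := d32_1 D10353 (iv D8121) (iv F38188)
theorem F47940 : act 8 n10353 = n10353 := d42_2 F38189 D10353 (iv D10353)
def n10355 : Q := act 6 n8122
theorem D10355 : act 6 n8122 = n10355 := rfl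
theorem F47949 : act 8 n10355 = n8249 := d40_2 (iv F38197) D10355 (iv D8249)
theorem F47950 : act 9 n10355 = n8126 := d41_2 (iv F38198) D10355 (iv D8126)
def n10356 : Q := act 5 n8123
theorem D10356 : act 5 n8123 = n10356 := rfl
theorem F47951 : act 0 n10356 = n10356 := d4_1 D10356 (iv D10356) F38199
theorem F47952 : act 2 n10356 = n10356 := d19_1 D10356 (iv D10356) F38200
theorem F47953 : act 6 n10356 = n10356 := d35_2 D8123 D10356 (iv D10356) (iv D8123) F30604
theorem F47954 : act 8 n10356 = n10356 := d37_2 (iv F38202) D10356 (iv D10356) F38202 F30977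
theorem F47955 : act 9 n10356 = n8127 := d38_2 (iv F38203) D10356 (iv D8127)
def n10357 : Q := act 7 n8123
theorem D10357 : act 7 n8123 = n10357 := rfl
theorem F47956 : act 0 n10357 = n10357 := d6_1 D10357 (iv D10357) F38199
theorem F47957 : act 2 n10357 = n10357 := d21_1 D10357 (iv D10357) F38200
theorem F47958 : act 4 n10357 = n8124 := d32_1 D10357 (iv D8124) (iv F38201)
theorem F47959 : act 6 n10357 = n8132 := d39_1 D10357 (iv D8132) (iv D6428) (iv F30605) D8123
theorem F47960 : act 8 n10357 = n8250 := d42_2 (iv F38202) D10357 (iv D8250)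
theorem F47961 : act 9 n10357 = n8128 := d43_2 (iv F38203) D10357 (iv D8128)
def n10360 : Q := act 5 n8126
theorem D10360 : act 5 n8126 = n10360 := rfl
theorem F47971 : act 3 n10360 = n8127 := d25_1 D10360 (iv D8127) (iv F38215)
def n10361 : Q := act 7 n8126
theorem D10361 : act 7 n8126 = n10361 := rfl
theorem F47975 : act 6 n10361 = n8136 := d39_1 D10361 (iv D8136) (iv D6431) (iv F30614) D8126
def n10362 : Q := act 7 n8127
theorem D10362 : act 7 n8127 = n10362 := rfl
theorem F47977 : act 0 n10362 = n10362 := d6_1 D10362 (iv D10362) F38217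
theorem F47978 : act 2 n10362 = n10362 := d21_1 D10362 (iv D10362) F38218
theorem F47979 : act 5 n10362 = n8128 := d36_1 D10362 (iv D8128) D8127
def n10363 : Q := act 8 n8127
theorem D10363 : act 8 n8127 = n10363 := rfl
theorem F47982 : act 5 n10363 = n8143 := d37_1 D10363 (iv D8143) (iv D6436) (iv F30619) D8127
def n10364 : Q := act 1 n8129
theorem D10364 : act 1 n8129 = n10364 := rfl
theorem F47987 : act 8 n10364 = n8254 := d15_2 (iv F38228) D10364 (iv D8254)
theorem F47988 : act 9 n10364 = n8133 := d16_2 (iv F38229) D10364 (iv D8133)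
def n10365 : Q := act 6 n8129
theorem D10365 : act 6 n8129 = n10365 := rfl
theorem F47989 : act 0 n10365 = n10365 := d5_1 D10365 (iv D10365) F38225
theorem F47990 : act 2 n10365 = n8130 := d20_1 D10365 (iv D8130) D8129
theorem F47991 : act 3 n10365 = n10365 := d26_1 D10365 (iv D10365) F38226
theorem F47992 : act 8 n10365 = n8255 := d40_2 (iv F38228) D10365 (iv D8255)
theorem F47993 : act 9 n10365 = n8134 := d41_2 (iv F38229) D10365 (iv D8134)
def n10366 : Q := act 5 n8130
theorem D10366 : act 5 n8130 = n10366 := rfl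
theorem F47994 : act 0 n10366 = n10366 := d4_1 D10366 (iv D10366) F38230
theorem F47995 : act 3 n10366 = n8131 := d25_1 D10366 (iv D8131) (iv F38231)
theorem F47996 : act 6 n10366 = n10366 := d35_2 D8130 D10366 (iv D10366) (iv D8130) F30625
theorem F47997 : act 9 n10366 = n8135 := d38_2 (iv F38233) D10366 (iv D8135)
def n10367 : Q := act 7 n8130
theorem D10367 : act 7 n8130 = n10367 := rfl
theorem F47998 : act 0 n10367 = n10367 := d6_1 D10367 (iv D10367) F38230
theorem F47999 : act 3 n10367 = n8132 := d27_1 D10367 (iv D8132) (iv F38231)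
theorem F48000 : act 8 n10367 = n8257 := d42_2 (iv F38232) D10367 (iv D8257)
theorem F48001 : act 9 n10367 = n8136 := d43_2 (iv F38233) D10367 (iv D8136)
def n10368 : Q := act 7 n8131
theorem D10368 : act 7 n8131 = n10368 := rfl
theorem F48002 : act 0 n10368 = n10368 := d6_1 D10368 (iv D10368) F38234
theorem F48003 : act 2 n10368 = n10368 := d21_1 D10368 (iv D10368) F38235
theorem F48004 : act 5 n10368 = n8132 := d36_1 D10368 (iv D8132) D8131
theorem F48005 : act 9 n10368 = n8137 := d43_2 (iv F38237) D10368 (iv D8137)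
def n10369 : Q := act 8 n8131
theorem D10369 : act 8 n8131 = n10369 := rfl
theorem F48006 : act 0 n10369 = n10369 := d7_1 D10369 (iv D10369) F38234
theorem F48007 : act 2 n10369 = n10369 := d22_1 D10369 (iv D10369) F38235
theorem F48008 : act 5 n10369 = n8259 := d37_1 D10369 (iv D8259) (iv D6522) (iv F30631) D8131
theorem F48009 : act 6 n10369 = n10369 := d40_1 D10369 (iv D10369) F38236
theorem F48010 : act 9 n10369 = n10369 := d44_2 (iv F38237) D10369 (iv D10369) F38237 F30647
def n10370 : Q := act 0 n8133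
theorem D10370 : act 0 n8133 = n10370 := rfl
def n10371 : Q := act 6 n8133
theorem D10371 : act 6 n8133 = n10371 := rfl
theorem F48015 : act 1 n10371 = n8134 := d13_1 D10371 (iv D8134) D8133
def n10372 : Q := act 5 n8134
theorem D10372 : act 5 n8134 = n10372 := rfl
theorem F48018 : act 0 n10372 = n10372 := d4_1 D10372 (iv D10372) F38246
theorem F48019 : act 2 n10372 = n8135 := d19_1 D10372 (iv D8135) (iv F38247)
theorem F48020 : act 3 n10372 = n10372 := d25_1 D10372 (iv D10372) F38248
theorem F48021 : act 6 n10372 = n10372 := d35_2 D8134 D10372 (iv D10372) (iv D8134) F30639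
theorem F48022 : act 8 n10372 = n10372 := d37_2 (iv F38249) D10372 (iv D10372) F38249 F30676
def n10373 : Q := act 7 n8134
theorem D10373 : act 7 n8134 = n10373 := rfl
theorem F48024 : act 2 n10373 = n8136 := d21_1 D10373 (iv D8136) (iv F38247)
def n10374 : Q := act 4 n8135
theorem D10374 : act 4 n8135 = n10374 := rfl
theorem F48027 : act 0 n10374 = n10374 := d3_1 D10374 (iv D10374) F38250
theorem F48028 : act 6 n10374 = n10374 := d31_2 F38252 D10374 (iv D10374)
theorem F48029 : act 8 n10374 = n10374 := d33_2 F38253 D10374 (iv D10374)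
def n10375 : Q := act 7 n8135
theorem D10375 : act 7 n8135 = n10375 := rfl
theorem F48030 : act 0 n10375 = n10375 := d6_1 D10375 (iv D10375) F38250
theorem F48031 : act 3 n10375 = n8137 := d27_1 D10375 (iv D8137) (iv F38251)
theorem F48032 : act 5 n10375 = n8136 := d36_1 D10375 (iv D8136) D8135
theorem F48033 : act 8 n10375 = n10375 := d42_2 F38253 D10375 (iv D10375)
def n10376 : Q := act 6 n8137
theorem D10376 : act 6 n8137 = n10376 := rfl
theorem F48034 : act 0 n10376 = n10376 := d5_1 D10376 (iv D10376) F38257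
theorem F48035 : act 2 n10376 = n10376 := d20_1 D10376 (iv D10376) F38258
theorem F48036 : act 7 n10376 = n10376 := d39_2 D8137 D10376 (iv D10376) (iv D8137) F30646
theorem F48037 : act 8 n10376 = n10376 := d40_2 F38260 D10376 (iv D10376)
def n10379 : Q := act 5 n8139
theorem D10379 : act 5 n8139 = n10379 := rfl
theorem F48049 : act 6 n10379 = n8149 := d35_2 D8139 D10379 (iv D8149) (iv D6442) (iv F30654)
def n10380 : Q := act 7 n8139
theorem D10380 : act 7 n8139 = n10380 := rfl
theorem F48054 : act 6 n10380 = n8146 := d39_1 D10380 (iv D8146) (iv D6439) (iv F30655) D8139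
def n10384 : Q := act 8 n8142
theorem D10384 : act 8 n8142 = n10384 := rfl
def n10389 : Q := act 4 n8149
theorem D10389 : act 4 n8149 = n10389 := rfl
theorem F48097 : act 5 n10389 = n8417 := d30_2 D8149 D10389 (iv D8417) (iv D6646) (iv F30690)
def n10392 : Q := act 5 n8152
theorem D10392 : act 5 n8152 = n10392 := rfl
theorem F48111 : act 0 n10392 = n8166 := d4_1 D10392 (iv D8166) (iv F38328)
theorem F48112 : act 1 n10392 = n10392 := d12_1 D10392 (iv D10392) F38329
theorem F48113 : act 3 n10392 = n10392 := d25_1 D10392 (iv D10392) F38330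
theorem F48114 : act 7 n10392 = n8154 := d36_2 (iv F38332) D10392 (iv D8154)
theorem F48115 : act 9 n10392 = n8153 := d38_2 (iv F38333) D10392 (iv D8153)
def n10393 : Q := act 4 n8153
theorem D10393 : act 4 n8153 = n10393 := rfl
theorem F48116 : act 0 n10393 = n8167 := d3_1 D10393 (iv D8167) (iv F38334)
theorem F48117 : act 1 n10393 = n10393 := d11_1 D10393 (iv D10393) F38335
theorem F48118 : act 5 n10393 = n10393 := d30_2 D8153 D10393 (iv D10393) (iv D8153) F30718
theorem F48119 : act 7 n10393 = n8155 := d32_2 (iv F38337) D10393 (iv D8155)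
theorem F48120 : act 8 n10393 = n8157 := d33_2 (iv F38338) D10393 (iv D8157)
def n10394 : Q := act 6 n8153
theorem D10394 : act 6 n8153 = n10394 := rfl
theorem F48121 : act 0 n10394 = n8168 := d5_1 D10394 (iv D8168) (iv F38334)
theorem F48122 : act 1 n10394 = n10394 := d13_1 D10394 (iv D10394) F38335
theorem F48123 : act 3 n10394 = n10394 := d26_1 D10394 (iv D10394) F38336
theorem F48124 : act 8 n10394 = n8158 := d40_2 (iv F38338) D10394 (iv D8158)
def n10395 : Q := act 4 n8154
theorem D10395 : act 4 n8154 = n10395 := rfl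
theorem F48125 : act 0 n10395 = n8169 := d3_1 D10395 (iv D8169) (iv F38339)
theorem F48126 : act 1 n10395 = n10395 := d11_1 D10395 (iv D10395) F38340
theorem F48127 : act 5 n10395 = n10395 := d30_2 D8154 D10395 (iv D10395) (iv D8154) F30723
theorem F48128 : act 9 n10395 = n8155 := d34_2 (iv F38342) D10395 (iv D8155)
def n10396 : Q := act 6 n8154
theorem D10396 : act 6 n8154 = n10396 := rfl
theorem F48129 : act 0 n10396 = n8170 := d5_1 D10396 (iv D8170) (iv F38339)
theorem F48130 : act 1 n10396 = n10396 := d13_1 D10396 (iv D10396) F38340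
theorem F48131 : act 3 n10396 = n10396 := d26_1 D10396 (iv D10396) F38341
theorem F48132 : act 5 n10396 = n10396 := d35_1 D10396 (iv D10396) (iv D8154) F30724 D8154
theorem F48133 : act 9 n10396 = n8156 := d41_2 (iv F38342) D10396 (iv D8156)
def n10397 : Q := act 3 n8155
theorem D10397 : act 3 n8155 = n10397 := rfl
theorem F48138 : act 8 n10397 = n8159 := d28_2 (iv F38346) D10397 (iv D8159)
def n10398 : Q := act 6 n8155
theorem D10398 : act 6 n8155 = n10398 := rfl
theorem F48139 : act 0 n10398 = n8172 := d5_1 D10398 (iv D8172) (iv F38343)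
theorem F48140 : act 1 n10398 = n10398 := d13_1 D10398 (iv D10398) F38344
theorem F48141 : act 4 n10398 = n8156 := d31_1 D10398 (iv D8156) D8155
theorem F48142 : act 8 n10398 = n8160 := d40_2 (iv F38346) D10398 (iv D8160)
def n10399 : Q := act 7 n8156
theorem D10399 : act 7 n8156 = n10399 := rfl
theorem F48143 : act 0 n10399 = n8173 := d6_1 D10399 (iv D8173) (iv F38347)
theorem F48144 : act 1 n10399 = n10399 := d14_1 D10399 (iv D10399) F38348
theorem F48145 : act 3 n10399 = n10399 := d27_1 D10399 (iv D10399) F38349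
theorem F48146 : act 5 n10399 = n10399 := d36_1 D10399 (iv D10399) F38350
theorem F48147 : act 8 n10399 = n8161 := d42_2 (iv F38351) D10399 (iv D8161)
def n10400 : Q := act 3 n8157
theorem D10400 : act 3 n8157 = n10400 := rfl
theorem F48148 : act 0 n10400 = n8174 := d2_1 D10400 (iv D8174) (iv F38352)
theorem F48151 : act 5 n10400 = n8421 := d25_2 (iv F38354) D10400 (iv D8421)
theorem F48152 : act 7 n10400 = n8159 := d27_2 (iv F38355) D10400 (iv D8159)
def n10401 : Q := act 6 n8157
theorem D10401 : act 6 n8157 = n10401 := rfl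
theorem F48153 : act 0 n10401 = n8175 := d5_1 D10401 (iv D8175) (iv F38352)
theorem F48154 : act 1 n10401 = n10401 := d13_1 D10401 (iv D10401) F38353
theorem F48155 : act 4 n10401 = n8158 := d31_1 D10401 (iv D8158) D8157
def n10402 : Q := act 7 n8158
theorem D10402 : act 7 n8158 = n10402 := rfl
theorem F48156 : act 0 n10402 = n8176 := d6_1 D10402 (iv D8176) (iv F38356)
theorem F48157 : act 1 n10402 = n10402 := d14_1 D10402 (iv D10402) F38357
theorem F48158 : act 3 n10402 = n10402 := d27_1 D10402 (iv D10402) F38358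
theorem F48159 : act 5 n10402 = n10402 := d36_1 D10402 (iv D10402) F38359
theorem F48160 : act 6 n10402 = n8161 := d39_1 D10402 (iv D8161) (iv D6452) (iv F30733) D8158
def n10403 : Q := act 2 n8159
theorem D10403 : act 2 n8159 = n10403 := rfl
theorem F48163 : act 5 n10403 = n8424 := d19_2 (iv F38363) D10403 (iv D8424)
def n10404 : Q := act 6 n8159
theorem D10404 : act 6 n8159 = n10404 := rfl
theorem F48166 : act 3 n10404 = n8160 := d26_1 D10404 (iv D8160) D8159
def n10405 : Q := act 5 n8160
theorem D10405 : act 5 n8160 = n10405 := rfl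
theorem F48171 : act 6 n10405 = n8426 := d35_2 D8160 D10405 (iv D8426) (iv D6653) (iv F30736)
def n10406 : Q := act 7 n8160
theorem D10406 : act 7 n8160 = n10406 := rfl
theorem F48172 : act 0 n10406 = n8180 := d6_1 D10406 (iv D8180) (iv F38364)
theorem F48173 : act 1 n10406 = n10406 := d14_1 D10406 (iv D10406) F38365
theorem F48174 : act 4 n10406 = n8161 := d32_1 D10406 (iv D8161) (iv F38366)
def n10410 : Q := act 7 n8163
theorem D10410 : act 7 n8163 = n10410 := rfl
theorem F48191 : act 3 n10410 = n8165 := d27_1 D10410 (iv D8165) (iv F38378)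
def n10411 : Q := act 7 n8164
theorem D10411 : act 7 n8164 = n10411 := rfl
theorem F48197 : act 5 n10411 = n8165 := d36_1 D10411 (iv D8165) D8164
def n10413 : Q := act 4 n8166
theorem D10413 : act 4 n8166 = n10413 := rfl
theorem F48202 : act 1 n10413 = n8186 := d11_1 D10413 (iv D8186) (iv F38389)
theorem F48203 : act 5 n10413 = n10413 := d30_2 D8166 D10413 (iv D10413) (iv D8166) F30758
theorem F48204 : act 7 n10413 = n8169 := d32_2 (iv F38391) D10413 (iv D8169)
theorem F48205 : act 9 n10413 = n8167 := d34_2 (iv F38392) D10413 (iv D8167)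
def n10414 : Q := act 6 n8166
theorem D10414 : act 6 n8166 = n10414 := rfl
theorem F48206 : act 1 n10414 = n8187 := d13_1 D10414 (iv D8187) (iv F38389)
theorem F48207 : act 3 n10414 = n10414 := d26_1 D10414 (iv D10414) F38390
theorem F48208 : act 9 n10414 = n8168 := d41_2 (iv F38392) D10414 (iv D8168)
def n10415 : Q := act 3 n8167
theorem D10415 : act 3 n8167 = n10415 := rfl
theorem F48209 : act 1 n10415 = n8188 := d10_1 D10415 (iv D8188) (iv F38393)
theorem F48212 : act 7 n10415 = n8171 := d27_2 (iv F38395) D10415 (iv D8171)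
theorem F48213 : act 8 n10415 = n8174 := d28_2 (iv F38396) D10415 (iv D8174)
def n10416 : Q := act 6 n8167
theorem D10416 : act 6 n8167 = n10416 := rfl
theorem F48214 : act 1 n10416 = n8189 := d13_1 D10416 (iv D8189) (iv F38393)
theorem F48215 : act 4 n10416 = n8168 := d31_1 D10416 (iv D8168) D8167
theorem F48216 : act 8 n10416 = n8175 := d40_2 (iv F38396) D10416 (iv D8175)
def n10417 : Q := act 7 n8168
theorem D10417 : act 7 n8168 = n10417 := rfl
theorem F48217 : act 1 n10417 = n8190 := d14_1 D10417 (iv D8190) (iv F38397)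
theorem F48218 : act 3 n10417 = n10417 := d27_1 D10417 (iv D10417) F38398
theorem F48219 : act 6 n10417 = n8173 := d39_1 D10417 (iv D8173) (iv D6460) (iv F30763) D8168
theorem F48220 : act 8 n10417 = n8176 := d42_2 (iv F38399) D10417 (iv D8176)
def n10418 : Q := act 3 n8169
theorem D10418 : act 3 n8169 = n10418 := rfl
theorem F48221 : act 1 n10418 = n8191 := d10_1 D10418 (iv D8191) (iv F38400)
theorem F48224 : act 9 n10418 = n8171 := d29_2 (iv F38402) D10418 (iv D8171)
def n10419 : Q := act 6 n8169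
theorem D10419 : act 6 n8169 = n10419 := rfl
theorem F48225 : act 1 n10419 = n8192 := d13_1 D10419 (iv D8192) (iv F38400)
theorem F48226 : act 4 n10419 = n8170 := d31_1 D10419 (iv D8170) D8169
theorem F48227 : act 9 n10419 = n8172 := d41_2 (iv F38402) D10419 (iv D8172)
def n10420 : Q := act 7 n8170
theorem D10420 : act 7 n8170 = n10420 := rfl
theorem F48228 : act 1 n10420 = n8193 := d14_1 D10420 (iv D8193) (iv F38403)
theorem F48229 : act 3 n10420 = n10420 := d27_1 D10420 (iv D10420) F38404
theorem F48230 : act 5 n10420 = n10420 := d36_1 D10420 (iv D10420) F38405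
theorem F48231 : act 9 n10420 = n8173 := d43_2 (iv F38406) D10420 (iv D8173)
def n10421 : Q := act 2 n8171
theorem D10421 : act 2 n8171 = n10421 := rfl
theorem F48234 : act 8 n10421 = n8177 := d22_2 (iv F38410) D10421 (iv D8177)
def n10422 : Q := act 6 n8171
theorem D10422 : act 6 n8171 = n10422 := rfl
theorem F48235 : act 1 n10422 = n8195 := d13_1 D10422 (iv D8195) (iv F38407)
theorem F48236 : act 3 n10422 = n8172 := d26_1 D10422 (iv D8172) D8171
theorem F48238 : act 8 n10422 = n8178 := d40_2 (iv F38410) D10422 (iv D8178)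
def n10423 : Q := act 5 n8172
theorem D10423 : act 5 n8172 = n10423 := rfl
theorem F48239 : act 1 n10423 = n8196 := d12_1 D10423 (iv D8196) (iv F38411)
theorem F48240 : act 4 n10423 = n10423 := d30_1 D10423 (iv D10423) F38412 F30773 (iv F38412)
theorem F48241 : act 6 n10423 = n10423 := d35_2 D8172 D10423 (iv D10423) (iv D8172) F30769
def n10424 : Q := act 7 n8172
theorem D10424 : act 7 n8172 = n10424 := rfl
theorem F48242 : act 1 n10424 = n8197 := d14_1 D10424 (iv D8197) (iv F38411)
theorem F48243 : act 4 n10424 = n8173 := d32_1 D10424 (iv D8173) (iv F38412)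
theorem F48244 : act 8 n10424 = n8180 := d42_2 (iv F38413) D10424 (iv D8180)
def n10425 : Q := act 2 n8174
theorem D10425 : act 2 n8174 = n10425 := rfl
theorem F48246 : act 5 n10425 = n8434 := d19_2 (iv F38420) D10425 (iv D8434)
theorem F48247 : act 7 n10425 = n8177 := d21_2 (iv F38421) D10425 (iv D8177)
def n10426 : Q := act 6 n8174
theorem D10426 : act 6 n8174 = n10426 := rfl
def n10427 : Q := act 5 n8175
theorem D10427 : act 5 n8175 = n10427 := rfl
theorem F48253 : act 6 n10427 = n8436 := d35_2 D8175 D10427 (iv D8436) (iv D6660) (iv F30776)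
def n10428 : Q := act 7 n8175
theorem D10428 : act 7 n8175 = n10428 := rfl
theorem F48254 : act 1 n10428 = n8201 := d14_1 D10428 (iv D8201) (iv F38422)
theorem F48255 : act 4 n10428 = n8176 := d32_1 D10428 (iv D8176) (iv F38423)
theorem F48256 : act 6 n10428 = n8180 := d39_1 D10428 (iv D8180) (iv D6464) (iv F30777) D8175
def n10429 : Q := act 1 n8177
theorem D10429 : act 1 n8177 = n10429 := rfl
theorem F48257 : act 2 n10429 = n8202 := d9_2 D8177 D10429 (iv D8202) (iv D6481) (iv F30781)
theorem F48259 : act 5 n10429 = n8438 := d12_2 (iv F38429) D10429 (iv D8438)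
def n10430 : Q := act 6 n8177
theorem D10430 : act 6 n8177 = n10430 := rfl
theorem F48260 : act 2 n10430 = n8178 := d20_1 D10430 (iv D8178) D8177
def n10431 : Q := act 5 n8178
theorem D10431 : act 5 n8178 = n10431 := rfl
theorem F48264 : act 6 n10431 = n8440 := d35_2 D8178 D10431 (iv D8440) (iv D6663) (iv F30783)
def n10432 : Q := act 7 n8178
theorem D10432 : act 7 n8178 = n10432 := rfl
theorem F48265 : act 1 n10432 = n8205 := d14_1 D10432 (iv D8205) (iv F38430)
theorem F48266 : act 3 n10432 = n8180 := d27_1 D10432 (iv D8180) (iv F38431)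
def n10433 : Q := act 7 n8179
theorem D10433 : act 7 n8179 = n10433 := rfl
theorem F48268 : act 1 n10433 = n8206 := d14_1 D10433 (iv D8206) (iv F38433)
theorem F48269 : act 4 n10433 = n8184 := d32_1 D10433 (iv D8184) (iv F38434)
theorem F48270 : act 5 n10433 = n8180 := d36_1 D10433 (iv D8180) D8179
def n10434 : Q := act 8 n8179
theorem D10434 : act 8 n8179 = n10434 := rfl
theorem F48271 : act 1 n10434 = n8207 := d15_1 D10434 (iv D8207) (iv F38433)
def n10435 : Q := act 5 n8181
theorem D10435 : act 5 n8181 = n10435 := rfl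
theorem F48275 : act 2 n10435 = n8182 := d19_1 D10435 (iv D8182) (iv F38439)
theorem F48276 : act 6 n10435 = n8444 := d35_2 D8181 D10435 (iv D8444) (iv D6666) (iv F30791)
def n10438 : Q := act 7 n8182
theorem D10438 : act 7 n8182 = n10438 := rfl
theorem F48286 : act 3 n10438 = n8184 := d27_1 D10438 (iv D8184) (iv F38443)
def n10440 : Q := act 6 n8184
theorem D10440 : act 6 n8184 = n10440 := rfl
def n10441 : Q := act 8 n8184
theorem D10441 : act 8 n8184 = n10441 := rfl
theorem F48295 : act 1 n10441 = n8212 := d15_1 D10441 (iv D8212) (iv F38450)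
def n10442 : Q := act 9 n8185
theorem D10442 : act 9 n8185 = n10442 := rfl
theorem F48298 : act 1 n10442 = n8213 := d16_1 D10442 (iv D8213) (iv F38452)
def n10443 : Q := act 3 n8186
theorem D10443 : act 3 n8186 = n10443 := rfl
theorem F48301 : act 0 n10443 = n10443 := d2_1 D10443 (iv D10443) F38455
theorem F48302 : act 4 n10443 = n10443 := d24_2 D8186 D10443 (iv D10443) (iv D8186) F30806
theorem F48303 : act 5 n10443 = n10443 := d25_2 F38457 D10443 (iv D10443)
theorem F48304 : act 7 n10443 = n8191 := d27_2 (iv F38458) D10443 (iv D8191)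
theorem F48305 : act 9 n10443 = n8188 := d29_2 (iv F38459) D10443 (iv D8188)
def n10444 : Q := act 6 n8186
theorem D10444 : act 6 n8186 = n10444 := rfl
theorem F48306 : act 0 n10444 = n10444 := d5_1 D10444 (iv D10444) F38455
theorem F48307 : act 2 n10444 = n8215 := d20_1 D10444 (iv D8215) (iv F38456)
theorem F48308 : act 4 n10444 = n8187 := d31_1 D10444 (iv D8187) D8186
theorem F48309 : act 9 n10444 = n8189 := d41_2 (iv F38459) D10444 (iv D8189)
def n10445 : Q := act 7 n8187
theorem D10445 : act 7 n8187 = n10445 := rfl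
theorem F48310 : act 0 n10445 = n10445 := d6_1 D10445 (iv D10445) F38460
theorem F48311 : act 2 n10445 = n8216 := d21_1 D10445 (iv D8216) (iv F38461)
theorem F48312 : act 3 n10445 = n10445 := d27_1 D10445 (iv D10445) F38462
theorem F48313 : act 6 n10445 = n8193 := d39_1 D10445 (iv D8193) (iv D6474) (iv F30807) D8187
theorem F48314 : act 9 n10445 = n8190 := d43_2 (iv F38463) D10445 (iv D8190)
def n10446 : Q := act 2 n8188
theorem D10446 : act 2 n8188 = n10446 := rfl
theorem F48316 : act 3 n10446 = n8217 := d17_2 D8188 D10446 (iv D8217) (iv D6491) (iv F30810)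
theorem F48319 : act 7 n10446 = n8194 := d21_2 (iv F38467) D10446 (iv D8194)
theorem F48320 : act 8 n10446 = n8198 := d22_2 (iv F38468) D10446 (iv D8198)
def n10447 : Q := act 6 n8188
theorem D10447 : act 6 n8188 = n10447 := rfl
theorem F48321 : act 0 n10447 = n10447 := d5_1 D10447 (iv D10447) F38464
theorem F48322 : act 3 n10447 = n8189 := d26_1 D10447 (iv D8189) D8188
theorem F48323 : act 4 n10447 = n10447 := d31_1 D10447 (iv D10447) F38465
theorem F48324 : act 8 n10447 = n8199 := d40_2 (iv F38468) D10447 (iv D8199)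
def n10448 : Q := act 5 n8189
theorem D10448 : act 5 n8189 = n10448 := rfl
theorem F48325 : act 0 n10448 = n10448 := d4_1 D10448 (iv D10448) F38469
theorem F48326 : act 2 n10448 = n8219 := d19_1 D10448 (iv D8219) (iv F38470)
theorem F48327 : act 6 n10448 = n10448 := d35_2 D8189 D10448 (iv D10448) (iv D8189) F30811
def n10449 : Q := act 7 n8189
theorem D10449 : act 7 n8189 = n10449 := rfl
theorem F48328 : act 0 n10449 = n10449 := d6_1 D10449 (iv D10449) F38469
theorem F48329 : act 2 n10449 = n8220 := d21_1 D10449 (iv D8220) (iv F38470)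
theorem F48330 : act 4 n10449 = n8190 := d32_1 D10449 (iv D8190) (iv F38471)
theorem F48331 : act 6 n10449 = n8197 := d39_1 D10449 (iv D8197) (iv D6476) (iv F30812) D8189
theorem F48332 : act 8 n10449 = n8201 := d42_2 (iv F38472) D10449 (iv D8201)
def n10450 : Q := act 2 n8191
theorem D10450 : act 2 n8191 = n10450 := rfl
theorem F48333 : act 0 n10450 = n10450 := d1_1 D10450 (iv D10450) F38478
theorem F48334 : act 3 n10450 = n8221 := d17_2 D8191 D10450 (iv D8221) (iv D6494) (iv F30819)
theorem F48335 : act 4 n10450 = n10450 := d18_2 F38479 D10450 (iv D10450)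
theorem F48336 : act 5 n10450 = n10450 := d19_2 F38480 D10450 (iv D10450)
theorem F48337 : act 9 n10450 = n8194 := d23_2 (iv F38481) D10450 (iv D8194)
def n10451 : Q := act 6 n8191
theorem D10451 : act 6 n8191 = n10451 := rfl
theorem F48338 : act 0 n10451 = n10451 := d5_1 D10451 (iv D10451) F38478
theorem F48339 : act 3 n10451 = n8192 := d26_1 D10451 (iv D8192) D8191
theorem F48340 : act 4 n10451 = n10451 := d31_1 D10451 (iv D10451) F38479
theorem F48341 : act 9 n10451 = n8195 := d41_2 (iv F38481) D10451 (iv D8195)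
def n10452 : Q := act 5 n8192
theorem D10452 : act 5 n8192 = n10452 := rfl
theorem F48342 : act 0 n10452 = n10452 := d4_1 D10452 (iv D10452) F38482
theorem F48343 : act 2 n10452 = n8223 := d19_1 D10452 (iv D8223) (iv F38483)
theorem F48344 : act 4 n10452 = n10452 := d30_1 D10452 (iv D10452) F38484 F30825 (iv F38484)
theorem F48345 : act 6 n10452 = n10452 := d35_2 D8192 D10452 (iv D10452) (iv D8192) F30820
theorem F48346 : act 9 n10452 = n8196 := d38_2 (iv F38485) D10452 (iv D8196)
def n10453 : Q := act 7 n8192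
theorem D10453 : act 7 n8192 = n10453 := rfl
theorem F48347 : act 0 n10453 = n10453 := d6_1 D10453 (iv D10453) F38482
theorem F48348 : act 2 n10453 = n8224 := d21_1 D10453 (iv D8224) (iv F38483)
theorem F48349 : act 4 n10453 = n8193 := d32_1 D10453 (iv D8193) (iv F38484)
theorem F48350 : act 9 n10453 = n8197 := d43_2 (iv F38485) D10453 (iv D8197)
def n10454 : Q := act 1 n8194
theorem D10454 : act 1 n8194 = n10454 := rfl
theorem F48354 : act 8 n10454 = n8202 := d15_2 (iv F38495) D10454 (iv D8202)
def n10455 : Q := act 6 n8194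
theorem D10455 : act 6 n8194 = n10455 := rfl
theorem F48355 : act 0 n10455 = n10455 := d5_1 D10455 (iv D10455) F38491
theorem F48356 : act 2 n10455 = n8195 := d20_1 D10455 (iv D8195) D8194
theorem F48357 : act 3 n10455 = n8226 := d26_1 D10455 (iv D8226) (iv F38492)
theorem F48358 : act 4 n10455 = n10455 := d31_1 D10455 (iv D10455) F38493
theorem F48359 : act 8 n10455 = n8203 := d40_2 (iv F38495) D10455 (iv D8203)
def n10456 : Q := act 5 n8195
theorem D10456 : act 5 n8195 = n10456 := rfl
theorem F48360 : act 0 n10456 = n10456 := d4_1 D10456 (iv D10456) F38496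
theorem F48361 : act 3 n10456 = n8196 := d25_1 D10456 (iv D8196) (iv F38497)
theorem F48362 : act 6 n10456 = n10456 := d35_2 D8195 D10456 (iv D10456) (iv D8195) F30829
def n10457 : Q := act 7 n8195
theorem D10457 : act 7 n8195 = n10457 := rfl
theorem F48363 : act 0 n10457 = n10457 := d6_1 D10457 (iv D10457) F38496
theorem F48364 : act 3 n10457 = n8197 := d27_1 D10457 (iv D8197) (iv F38497)
theorem F48365 : act 4 n10457 = n10457 := d32_1 D10457 (iv D10457) F38498
theorem F48366 : act 8 n10457 = n8205 := d42_2 (iv F38499) D10457 (iv D8205)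
def n10458 : Q := act 7 n8196
theorem D10458 : act 7 n8196 = n10458 := rfl
theorem F48367 : act 0 n10458 = n10458 := d6_1 D10458 (iv D10458) F38500
theorem F48368 : act 2 n10458 = n8229 := d21_1 D10458 (iv D8229) (iv F38501)
theorem F48369 : act 4 n10458 = n10458 := d32_1 D10458 (iv D10458) F38502
theorem F48370 : act 5 n10458 = n8197 := d36_1 D10458 (iv D8197) D8196
def n10459 : Q := act 8 n8196
theorem D10459 : act 8 n8196 = n10459 := rfl
theorem F48371 : act 0 n10459 = n10459 := d7_1 D10459 (iv D10459) F38500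
theorem F48372 : act 2 n10459 = n8230 := d22_1 D10459 (iv D8230) (iv F38501)
theorem F48373 : act 4 n10459 = n10459 := d33_1 D10459 (iv D10459) F38502
theorem F48374 : act 5 n10459 = n8207 := d37_1 D10459 (iv D8207) (iv D6483) (iv F30834) D8196
theorem F48375 : act 6 n10459 = n10459 := d40_1 D10459 (iv D10459) F38503
def n10460 : Q := act 1 n8198
theorem D10460 : act 1 n8198 = n10460 := rfl
theorem F48378 : act 5 n10460 = n8452 := d12_2 (iv F38511) D10460 (iv D8452)
theorem F48379 : act 7 n10460 = n8202 := d14_2 (iv F38512) D10460 (iv D8202)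
def n10461 : Q := act 6 n8198
theorem D10461 : act 6 n8198 = n10461 := rfl
theorem F48381 : act 2 n10461 = n8199 := d20_1 D10461 (iv D8199) D8198
def n10462 : Q := act 5 n8199
theorem D10462 : act 5 n8199 = n10462 := rfl
theorem F48386 : act 6 n10462 = n8454 := d35_2 D8199 D10462 (iv D8454) (iv D6672) (iv F30842)
def n10463 : Q := act 7 n8199
theorem D10463 : act 7 n8199 = n10463 := rfl
theorem F48387 : act 0 n10463 = n10463 := d6_1 D10463 (iv D10463) F38513
theorem F48388 : act 3 n10463 = n8201 := d27_1 D10463 (iv D8201) (iv F38514)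
theorem F48389 : act 4 n10463 = n10463 := d32_1 D10463 (iv D10463) F38515
theorem F48390 : act 6 n10463 = n8205 := d39_1 D10463 (iv D8205) (iv D6482) (iv F30843) D8199
def n10464 : Q := act 7 n8200
theorem D10464 : act 7 n8200 = n10464 := rfl
theorem F48391 : act 0 n10464 = n10464 := d6_1 D10464 (iv D10464) F38516
theorem F48393 : act 4 n10464 = n10464 := d32_1 D10464 (iv D10464) F38518
theorem F48394 : act 5 n10464 = n8201 := d36_1 D10464 (iv D8201) D8200
def n10465 : Q := act 8 n8200
theorem D10465 : act 8 n8200 = n10465 := rfl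
theorem F48396 : act 2 n10465 = n8236 := d22_1 D10465 (iv D8236) (iv F38517)
def n10466 : Q := act 0 n8202
theorem D10466 : act 0 n8202 = n10466 := rfl
theorem F48400 : act 3 n10466 = n8237 := d2_2 (iv F38524) D10466 (iv D8237)
theorem F48402 : act 5 n10466 = n8458 := d4_2 (iv F38526) D10466 (iv D8458)
def n10467 : Q := act 6 n8202
theorem D10467 : act 6 n8202 = n10467 := rfl
def n10468 : Q := act 5 n8203
theorem D10468 : act 5 n8203 = n10468 := rfl
theorem F48407 : act 2 n10468 = n8204 := d19_1 D10468 (iv D8204) (iv F38528)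
theorem F48408 : act 3 n10468 = n8239 := d25_1 D10468 (iv D8239) (iv F38529)
theorem F48409 : act 6 n10468 = n8460 := d35_2 D8203 D10468 (iv D8460) (iv D6676) (iv F30855)
def n10469 : Q := act 7 n8203
theorem D10469 : act 7 n8203 = n10469 := rfl
theorem F48411 : act 2 n10469 = n8205 := d21_1 D10469 (iv D8205) (iv F38528)
theorem F48412 : act 3 n10469 = n8240 := d27_1 D10469 (iv D8240) (iv F38529)
def n10471 : Q := act 7 n8204
theorem D10471 : act 7 n8204 = n10471 := rfl
theorem F48419 : act 3 n10471 = n8206 := d27_1 D10471 (iv D8206) (iv F38532)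
theorem F48420 : act 5 n10471 = n8205 := d36_1 D10471 (iv D8205) D8204
def n10472 : Q := act 8 n8204
theorem D10472 : act 8 n8204 = n10472 := rfl
theorem F48422 : act 3 n10472 = n8207 := d28_1 D10472 (iv D8207) (iv F38532)
def n10473 : Q := act 6 n8206
theorem D10473 : act 6 n8206 = n10473 := rfl
theorem F48427 : act 7 n10473 = n8465 := d39_2 D8206 D10473 (iv D8465) (iv D6679) (iv F30862)
def n10474 : Q := act 8 n8206
theorem D10474 : act 8 n8206 = n10474 := rfl
theorem F48428 : act 0 n10474 = n10474 := d7_1 D10474 (iv D10474) F38537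
theorem F48429 : act 2 n10474 = n8244 := d22_1 D10474 (iv D8244) (iv F38538)
theorem F48430 : act 4 n10474 = n8212 := d33_1 D10474 (iv D8212) (iv F38539)
theorem F48431 : act 7 n10474 = n8207 := d42_1 D10474 (iv D8207) D8206
def n10475 : Q := act 9 n8207
theorem D10475 : act 9 n8207 = n10475 := rfl
theorem F48432 : act 0 n10475 = n10475 := d8_1 D10475 (iv D10475) F38541
theorem F48433 : act 2 n10475 = n8245 := d23_1 D10475 (iv D8245) (iv F38542)
theorem F48434 : act 4 n10475 = n8213 := d34_1 D10475 (iv D8213) (iv F38543)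
def n10479 : Q := act 8 n8209
theorem D10479 : act 8 n8209 = n10479 := rfl
theorem F48451 : act 3 n10479 = n8212 := d28_1 D10479 (iv D8212) (iv F38551)
def n10480 : Q := act 9 n8210
theorem D10480 : act 9 n8210 = n10480 := rfl
theorem F48456 : act 3 n10480 = n8213 := d29_1 D10480 (iv D8213) (iv F38555)
def n10481 : Q := act 8 n8211
theorem D10481 : act 8 n8211 = n10481 := rfl
theorem F48460 : act 2 n10481 = n8246 := d22_1 D10481 (iv D8246) (iv F38559)
theorem F48461 : act 6 n10481 = n8212 := d40_1 D10481 (iv D8212) D8211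
def n10482 : Q := act 9 n8212
theorem D10482 : act 9 n8212 = n10482 := rfl
theorem F48463 : act 0 n10482 = n10482 := d8_1 D10482 (iv D10482) F38562
theorem F48464 : act 2 n10482 = n8247 := d23_1 D10482 (iv D8247) (iv F38563)
theorem F48465 : act 5 n10482 = n10482 := d38_1 D10482 (iv D10482) F38564
theorem F48466 : act 7 n10482 = n8213 := d43_1 D10482 (iv D8213) (iv F38565)
def n10484 : Q := act 6 n8214
theorem D10484 : act 6 n8214 = n10484 := rfl
theorem F48473 : act 3 n10484 = n8215 := d26_1 D10484 (iv D8215) D8214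
theorem F48475 : act 9 n10484 = n8218 := d41_2 (iv F38574) D10484 (iv D8218)
def n10485 : Q := act 5 n8215
theorem D10485 : act 5 n8215 = n10485 := rfl
theorem F48476 : act 0 n10485 = n10485 := d4_1 D10485 (iv D10485) F38575
theorem F48477 : act 6 n10485 = n10485 := d35_2 D8215 D10485 (iv D10485) (iv D8215) F30884
theorem F48478 : act 9 n10485 = n8219 := d38_2 (iv F38577) D10485 (iv D8219)
def n10486 : Q := act 7 n8215
theorem D10486 : act 7 n8215 = n10486 := rfl
theorem F48479 : act 0 n10486 = n10486 := d6_1 D10486 (iv D10486) F38575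
theorem F48480 : act 4 n10486 = n8216 := d32_1 D10486 (iv D8216) (iv F38576)
theorem F48481 : act 6 n10486 = n8224 := d39_1 D10486 (iv D8224) (iv D6495) (iv F30885) D8215
theorem F48482 : act 9 n10486 = n8220 := d43_2 (iv F38577) D10486 (iv D8220)
def n10488 : Q := act 6 n8217
theorem D10488 : act 6 n8217 = n10488 := rfl
theorem F48488 : act 2 n10488 = n8218 := d20_1 D10488 (iv D8218) D8217
theorem F48490 : act 8 n10488 = n8232 := d40_2 (iv F38586) D10488 (iv D8232)
def n10489 : Q := act 5 n8218
theorem D10489 : act 5 n8218 = n10489 := rfl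
def n10490 : Q := act 7 n8218
theorem D10490 : act 7 n8218 = n10490 := rfl
theorem F48498 : act 6 n10490 = n8228 := d39_1 D10490 (iv D8228) (iv D6498) (iv F30893) D8218
theorem F48499 : act 8 n10490 = n8234 := d42_2 (iv F38590) D10490 (iv D8234)
def n10491 : Q := act 7 n8219
theorem D10491 : act 7 n8219 = n10491 := rfl
theorem F48500 : act 0 n10491 = n10491 := d6_1 D10491 (iv D10491) F38591
theorem F48501 : act 5 n10491 = n8220 := d36_1 D10491 (iv D8220) D8219
def n10492 : Q := act 8 n8219
theorem D10492 : act 8 n8219 = n10492 := rfl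
theorem F48503 : act 5 n10492 = n8236 := d37_1 D10492 (iv D8236) (iv D6503) (iv F30897) D8219
def n10493 : Q := act 1 n8221
theorem D10493 : act 1 n8221 = n10493 := rfl
theorem F48505 : act 4 n10493 = n8254 := d11_2 (iv F38598) D10493 (iv D8254)
theorem F48507 : act 9 n10493 = n8225 := d16_2 (iv F38600) D10493 (iv D8225)
def n10494 : Q := act 6 n8221
theorem D10494 : act 6 n8221 = n10494 := rfl
theorem F48508 : act 0 n10494 = n10494 := d5_1 D10494 (iv D10494) F38597
theorem F48509 : act 2 n10494 = n8222 := d20_1 D10494 (iv D8222) D8221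
theorem F48510 : act 4 n10494 = n8255 := d31_1 D10494 (iv D8255) (iv F38598)
theorem F48511 : act 9 n10494 = n8226 := d41_2 (iv F38600) D10494 (iv D8226)
def n10495 : Q := act 5 n8222
theorem D10495 : act 5 n8222 = n10495 := rfl
theorem F48512 : act 0 n10495 = n10495 := d4_1 D10495 (iv D10495) F38601
theorem F48513 : act 3 n10495 = n8223 := d25_1 D10495 (iv D8223) (iv F38602)
theorem F48514 : act 6 n10495 = n10495 := d35_2 D8222 D10495 (iv D10495) (iv D8222) F30904
theorem F48515 : act 9 n10495 = n8227 := d38_2 (iv F38604) D10495 (iv D8227)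
def n10496 : Q := act 7 n8222
theorem D10496 : act 7 n8222 = n10496 := rfl
theorem F48516 : act 0 n10496 = n10496 := d6_1 D10496 (iv D10496) F38601
theorem F48517 : act 3 n10496 = n8224 := d27_1 D10496 (iv D8224) (iv F38602)
theorem F48518 : act 4 n10496 = n8257 := d32_1 D10496 (iv D8257) (iv F38603)
theorem F48519 : act 9 n10496 = n8228 := d43_2 (iv F38604) D10496 (iv D8228)
def n10497 : Q := act 7 n8223
theorem D10497 : act 7 n8223 = n10497 := rfl
theorem F48520 : act 0 n10497 = n10497 := d6_1 D10497 (iv D10497) F38605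
theorem F48521 : act 4 n10497 = n10497 := d32_1 D10497 (iv D10497) F38606
theorem F48522 : act 5 n10497 = n8224 := d36_1 D10497 (iv D8224) D8223
theorem F48523 : act 9 n10497 = n8229 := d43_2 (iv F38608) D10497 (iv D8229)
def n10498 : Q := act 8 n8223
theorem D10498 : act 8 n8223 = n10498 := rfl
theorem F48524 : act 0 n10498 = n10498 := d7_1 D10498 (iv D10498) F38605
theorem F48525 : act 4 n10498 = n10498 := d33_1 D10498 (iv D10498) F38606
theorem F48526 : act 6 n10498 = n10498 := d40_1 D10498 (iv D10498) F38607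
def n10499 : Q := act 0 n8225
theorem D10499 : act 0 n8225 = n10499 := rfl
theorem F48528 : act 4 n10499 = n8260 := d3_2 (iv F38612) D10499 (iv D8260)
theorem F48530 : act 8 n10499 = n8237 := d7_2 (iv F38614) D10499 (iv D8237)
def n10500 : Q := act 6 n8225
theorem D10500 : act 6 n8225 = n10500 := rfl
theorem F48531 : act 1 n10500 = n8226 := d13_1 D10500 (iv D8226) D8225
theorem F48532 : act 4 n10500 = n8261 := d31_1 D10500 (iv D8261) (iv F38612)
theorem F48533 : act 8 n10500 = n8238 := d40_2 (iv F38614) D10500 (iv D8238)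
def n10501 : Q := act 5 n8226
theorem D10501 : act 5 n8226 = n10501 := rfl
theorem F48534 : act 0 n10501 = n10501 := d4_1 D10501 (iv D10501) F38615
theorem F48535 : act 2 n10501 = n8227 := d19_1 D10501 (iv D8227) (iv F38616)
theorem F48536 : act 6 n10501 = n10501 := d35_2 D8226 D10501 (iv D10501) (iv D8226) F30915
def n10502 : Q := act 7 n8226
theorem D10502 : act 7 n8226 = n10502 := rfl
theorem F48537 : act 0 n10502 = n10502 := d6_1 D10502 (iv D10502) F38615
theorem F48538 : act 2 n10502 = n8228 := d21_1 D10502 (iv D8228) (iv F38616)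
theorem F48540 : act 8 n10502 = n8240 := d42_2 (iv F38618) D10502 (iv D8240)
def n10503 : Q := act 4 n8227
theorem D10503 : act 4 n8227 = n10503 := rfl
theorem F48541 : act 0 n10503 = n10503 := d3_1 D10503 (iv D10503) F38619
theorem F48542 : act 3 n10503 = n10503 := d24_1 D10503 (iv D10503) F38620 F30922 (iv F38620)
theorem F48543 : act 5 n10503 = n8264 := d30_2 D8227 D10503 (iv D8264) (iv D6526) (iv F30919)
theorem F48544 : act 6 n10503 = n10503 := d31_2 F38621 D10503 (iv D10503)
def n10504 : Q := act 7 n8227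
theorem D10504 : act 7 n8227 = n10504 := rfl
theorem F48545 : act 0 n10504 = n10504 := d6_1 D10504 (iv D10504) F38619
theorem F48546 : act 3 n10504 = n8229 := d27_1 D10504 (iv D8229) (iv F38620)
theorem F48547 : act 5 n10504 = n8228 := d36_1 D10504 (iv D8228) D8227
def n10505 : Q := act 8 n8227
theorem D10505 : act 8 n8227 = n10505 := rfl
theorem F48548 : act 0 n10505 = n10505 := d7_1 D10505 (iv D10505) F38619
theorem F48549 : act 3 n10505 = n8230 := d28_1 D10505 (iv D8230) (iv F38620)
theorem F48550 : act 5 n10505 = n8242 := d37_1 D10505 (iv D8242) (iv D6507) (iv F30920) D8227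
theorem F48551 : act 6 n10505 = n10505 := d40_1 D10505 (iv D10505) F38621
def n10506 : Q := act 6 n8229
theorem D10506 : act 6 n8229 = n10506 := rfl
theorem F48552 : act 0 n10506 = n10506 := d5_1 D10506 (iv D10506) F38626
theorem F48553 : act 4 n10506 = n10506 := d31_1 D10506 (iv D10506) F38627
theorem F48554 : act 7 n10506 = n10506 := d39_2 D8229 D10506 (iv D10506) (iv D8229) F30923
def n10507 : Q := act 8 n8229
theorem D10507 : act 8 n8229 = n10507 := rfl
theorem F48555 : act 0 n10507 = n10507 := d7_1 D10507 (iv D10507) F38626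
theorem F48556 : act 4 n10507 = n10507 := d33_1 D10507 (iv D10507) F38627
theorem F48557 : act 5 n10507 = n8244 := d37_1 D10507 (iv D8244) F30954 (iv F30926) (iv F38628)
theorem F48558 : act 7 n10507 = n8230 := d42_1 D10507 (iv D8230) D8229
def n10508 : Q := act 9 n8230
theorem D10508 : act 9 n8230 = n10508 := rfl
theorem F48559 : act 0 n10508 = n10508 := d8_1 D10508 (iv D10508) F38629
theorem F48560 : act 4 n10508 = n10508 := d34_1 D10508 (iv D10508) F38630
theorem F48561 : act 5 n10508 = n8245 := d38_1 D10508 (iv D8245) (iv F38631)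
theorem F48562 : act 6 n10508 = n10508 := d41_1 D10508 (iv D10508) F38632
def n10511 : Q := act 5 n8232
theorem D10511 : act 5 n8232 = n10511 := rfl
theorem F48571 : act 6 n10511 = n8477 := d35_2 D8232 D10511 (iv D8477) (iv D6688) (iv F30929)
def n10512 : Q := act 7 n8232
theorem D10512 : act 7 n8232 = n10512 := rfl
theorem F48573 : act 2 n10512 = n8234 := d21_1 D10512 (iv D8234) (iv F38637)
theorem F48575 : act 6 n10512 = n8240 := d39_1 D10512 (iv D8240) (iv D6506) (iv F30930) D8232
def n10514 : Q := act 7 n8233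
theorem D10514 : act 7 n8233 = n10514 := rfl
theorem F48582 : act 5 n10514 = n8234 := d36_1 D10514 (iv D8234) D8233
def n10515 : Q := act 8 n8233
theorem D10515 : act 8 n8233 = n10515 := rfl
theorem F48584 : act 3 n10515 = n8236 := d28_1 D10515 (iv D8236) (iv F38640)
theorem F48585 : act 6 n10515 = n8481 := d40_1 D10515 (iv D8481) (iv F38641)
def n10516 : Q := act 6 n8235
theorem D10516 : act 6 n8235 = n10516 := rfl
theorem F48589 : act 7 n10516 = n8482 := d39_2 D8235 D10516 (iv D8482) (iv D6691) (iv F30936)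
def n10519 : Q := act 6 n8237
theorem D10519 : act 6 n8237 = n10519 := rfl
def n10520 : Q := act 5 n8238
theorem D10520 : act 5 n8238 = n10520 := rfl
theorem F48601 : act 6 n10520 = n8486 := d35_2 D8238 D10520 (iv D8486) (iv D6694) (iv F30941)
def n10521 : Q := act 7 n8238
theorem D10521 : act 7 n8238 = n10521 := rfl
theorem F48602 : act 1 n10521 = n8240 := d14_1 D10521 (iv D8240) (iv F38655)
def n10522 : Q := act 7 n8239
theorem D10522 : act 7 n8239 = n10522 := rfl
theorem F48605 : act 2 n10522 = n8241 := d21_1 D10522 (iv D8241) (iv F38658)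
theorem F48607 : act 5 n10522 = n8240 := d36_1 D10522 (iv D8240) D8239
def n10523 : Q := act 8 n8239
theorem D10523 : act 8 n8239 = n10523 := rfl
theorem F48611 : act 6 n10523 = n8489 := d40_1 D10523 (iv D8489) (iv F38660)
def n10524 : Q := act 6 n8241
theorem D10524 : act 6 n8241 = n10524 := rfl
theorem F48615 : act 7 n10524 = n8490 := d39_2 D8241 D10524 (iv D8490) (iv D6697) (iv F30948)
def n10525 : Q := act 8 n8241
theorem D10525 : act 8 n8241 = n10525 := rfl
theorem F48616 : act 0 n10525 = n10525 := d7_1 D10525 (iv D10525) F38664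
theorem F48617 : act 3 n10525 = n8244 := d28_1 D10525 (iv D8244) (iv F38665)
theorem F48618 : act 4 n10525 = n10525 := d33_1 D10525 (iv D10525) F38666
theorem F48619 : act 7 n10525 = n8242 := d42_1 D10525 (iv D8242) D8241
def n10526 : Q := act 9 n8242
theorem D10526 : act 9 n8242 = n10526 := rfl
theorem F48620 : act 0 n10526 = n10526 := d8_1 D10526 (iv D10526) F38668
theorem F48621 : act 3 n10526 = n8245 := d29_1 D10526 (iv D8245) (iv F38669)
theorem F48622 : act 4 n10526 = n10526 := d34_1 D10526 (iv D10526) F38670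
theorem F48623 : act 6 n10526 = n8492 := d41_1 D10526 (iv D8492) (iv F38671)
def n10527 : Q := act 8 n8243
theorem D10527 : act 8 n8243 = n10527 := rfl
theorem F48625 : act 4 n10527 = n8246 := d33_1 D10527 (iv D8246) (iv F38673)
theorem F48626 : act 6 n10527 = n8244 := d40_1 D10527 (iv D8244) D8243
theorem F48627 : act 7 n10527 = n8493 := d42_1 D10527 (iv D8493) (iv F38674)
def n10528 : Q := act 9 n8244
theorem D10528 : act 9 n8244 = n10528 := rfl
theorem F48628 : act 0 n10528 = n10528 := d8_1 D10528 (iv D10528) F38675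
theorem F48629 : act 4 n10528 = n8247 := d34_1 D10528 (iv D8247) (iv F38676)
theorem F48630 : act 7 n10528 = n8245 := d43_1 D10528 (iv D8245) (iv F38677)
def n10529 : Q := act 5 n8246
theorem D10529 : act 5 n8246 = n10529 := rfl
theorem F48631 : act 0 n10529 = n10529 := d4_1 D10529 (iv D10529) F38681
theorem F48632 : act 3 n10529 = n10529 := d25_1 D10529 (iv D10529) F38682
theorem F48633 : act 6 n10529 = n10529 := d35_2 (iv F38683) D10529 (iv D10529) F38683 F30964
theorem F48635 : act 8 n10529 = n10529 := d37_2 D8246 D10529 (iv D10529) (iv D8246) F30960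
def n10530 : Q := act 9 n8246
theorem D10530 : act 9 n8246 = n10530 := rfl
theorem F48636 : act 0 n10530 = n10530 := d8_1 D10530 (iv D10530) F38681
theorem F48637 : act 3 n10530 = n10530 := d29_1 D10530 (iv D10530) F38682
theorem F48638 : act 6 n10530 = n8247 := d41_1 D10530 (iv D8247) (iv F38683)
def n10531 : Q := act 1 n8248
theorem D10531 : act 1 n8248 = n10531 := rfl
theorem F48643 : act 9 n10531 = n8251 := d16_2 (iv F38693) D10531 (iv D8251)
def n10536 : Q := act 7 n8252
theorem D10536 : act 7 n8252 = n10536 := rfl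
theorem F48667 : act 6 n10536 = n8263 := d39_1 D10536 (iv D8263) (iv D6525) (iv F30986) D8252
theorem F48668 : act 8 n10536 = n8269 := d42_2 (iv F38712) D10536 (iv D8269)
def n10537 : Q := act 0 n8254
theorem D10537 : act 0 n8254 = n10537 := rfl
theorem F48671 : act 5 n10537 = n8279 := d4_2 (iv F38719) D10537 (iv D8279)
theorem F48672 : act 9 n10537 = n8260 := d8_2 (iv F38720) D10537 (iv D8260)
def n10538 : Q := act 6 n8254
theorem D10538 : act 6 n8254 = n10538 := rfl
theorem F48673 : act 1 n10538 = n8255 := d13_1 D10538 (iv D8255) D8254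
theorem F48675 : act 9 n10538 = n8261 := d41_2 (iv F38720) D10538 (iv D8261)
def n10539 : Q := act 5 n8255
theorem D10539 : act 5 n8255 = n10539 := rfl
theorem F48676 : act 0 n10539 = n10539 := d4_1 D10539 (iv D10539) F38721
theorem F48677 : act 2 n10539 = n8256 := d19_1 D10539 (iv D8256) (iv F38722)
theorem F48678 : act 3 n10539 = n10539 := d25_1 D10539 (iv D10539) F38723
theorem F48679 : act 6 n10539 = n8281 := d35_2 D8255 D10539 (iv D8281) (iv D6544) (iv F31000)
theorem F48680 : act 9 n10539 = n8262 := d38_2 (iv F38724) D10539 (iv D8262)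
def n10540 : Q := act 7 n8255
theorem D10540 : act 7 n8255 = n10540 := rfl
theorem F48684 : act 9 n10540 = n8263 := d43_2 (iv F38724) D10540 (iv D8263)
def n10541 : Q := act 4 n8256
theorem D10541 : act 4 n8256 = n10541 := rfl
theorem F48685 : act 0 n10541 = n10541 := d3_1 D10541 (iv D10541) F38725
theorem F48686 : act 3 n10541 = n10541 := d24_1 D10541 (iv D10541) F38726 F31007 (iv F38726)
theorem F48687 : act 6 n10541 = n8282 := d31_2 (iv F38727) D10541 (iv D8282)
theorem F48688 : act 9 n10541 = n8264 := d34_2 (iv F38728) D10541 (iv D8264)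
def n10542 : Q := act 7 n8256
theorem D10542 : act 7 n8256 = n10542 := rfl
theorem F48689 : act 0 n10542 = n10542 := d6_1 D10542 (iv D10542) F38725
theorem F48690 : act 3 n10542 = n8258 := d27_1 D10542 (iv D8258) (iv F38726)
theorem F48691 : act 5 n10542 = n8257 := d36_1 D10542 (iv D8257) D8256
theorem F48692 : act 6 n10542 = n10542 := d39_1 D10542 (iv D10542) F38727 F31108 (iv F38727)
theorem F48693 : act 9 n10542 = n8265 := d43_2 (iv F38728) D10542 (iv D8265)
def n10543 : Q := act 8 n8256
theorem D10543 : act 8 n8256 = n10543 := rfl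
theorem F48694 : act 0 n10543 = n10543 := d7_1 D10543 (iv D10543) F38725
theorem F48695 : act 3 n10543 = n8259 := d28_1 D10543 (iv D8259) (iv F38726)
theorem F48696 : act 6 n10543 = n8283 := d40_1 D10543 (iv D8283) (iv F38727)
theorem F48697 : act 9 n10543 = n10543 := d44_2 (iv F38728) D10543 (iv D10543) F38728 F31024
def n10544 : Q := act 8 n8258
theorem D10544 : act 8 n8258 = n10544 := rfl
theorem F48698 : act 0 n10544 = n10544 := d7_1 D10544 (iv D10544) F38732
theorem F48699 : act 2 n10544 = n10544 := d22_1 D10544 (iv D10544) F38733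
theorem F48700 : act 4 n10544 = n10544 := d33_1 D10544 (iv D10544) F38734
theorem F48701 : act 6 n10544 = n10544 := d40_1 D10544 (iv D10544) F38736
theorem F48702 : act 7 n10544 = n8259 := d42_1 D10544 (iv D8259) D8258
theorem F48703 : act 9 n10544 = n10544 := d44_2 (iv F38737) D10544 (iv D10544) F38737 F31033
def n10545 : Q := act 6 n8260
theorem D10545 : act 6 n8260 = n10545 := rfl
def n10546 : Q := act 5 n8261
theorem D10546 : act 5 n8261 = n10546 := rfl
theorem F48710 : act 6 n10546 = n8285 := d35_2 D8261 D10546 (iv D8285) (iv D6548) (iv F31015)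
def n10547 : Q := act 7 n8261
theorem D10547 : act 7 n8261 = n10547 := rfl
theorem F48714 : act 8 n10547 = n8273 := d42_2 (iv F38749) D10547 (iv D8273)
def n10548 : Q := act 4 n8262
theorem D10548 : act 4 n8262 = n10548 := rfl
theorem F48715 : act 0 n10548 = n10548 := d3_1 D10548 (iv D10548) F38750
theorem F48716 : act 2 n10548 = n8264 := d18_1 D10548 (iv D8264) (iv F38751)
theorem F48717 : act 6 n10548 = n8286 := d31_2 (iv F38753) D10548 (iv D8286)
theorem F48718 : act 8 n10548 = n10548 := d33_2 F38754 D10548 (iv D10548)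
def n10549 : Q := act 7 n8262
theorem D10549 : act 7 n8262 = n10549 := rfl
theorem F48722 : act 5 n10549 = n8263 := d36_1 D10549 (iv D8263) D8262
def n10550 : Q := act 7 n8264
theorem D10550 : act 7 n8264 = n10550 := rfl
theorem F48725 : act 0 n10550 = n10550 := d6_1 D10550 (iv D10550) F38759
theorem F48726 : act 3 n10550 = n10550 := d27_1 D10550 (iv D10550) F38760
theorem F48727 : act 4 n10550 = n8265 := d32_1 D10550 (iv D8265) D8264
theorem F48728 : act 6 n10550 = n10550 := d39_1 D10550 (iv D10550) F38761 F31133 (iv F38761)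
theorem F48729 : act 8 n10550 = n10550 := d42_2 F38762 D10550 (iv D10550)
def n10552 : Q := act 5 n8267
theorem D10552 : act 5 n8267 = n10552 := rfl
theorem F48735 : act 6 n10552 = n8275 := d35_2 D8267 D10552 (iv D8275) (iv D6538) (iv F31035)
def n10553 : Q := act 7 n8267
theorem D10553 : act 7 n8267 = n10553 := rfl
theorem F48739 : act 6 n10553 = n8273 := d39_1 D10553 (iv D8273) (iv D6535) (iv F31036) D8267
def n10559 : Q := act 4 n8275
theorem D10559 : act 4 n8275 = n10559 := rfl
theorem F48765 : act 5 n10559 = n8510 := d30_2 D8275 D10559 (iv D8510) (iv D6716) (iv F31070)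
def n10562 : Q := act 6 n8279
theorem D10562 : act 6 n8279 = n10562 := rfl
theorem F48781 : act 0 n10562 = n8280 := d5_1 D10562 (iv D8280) D8279
theorem F48787 : act 9 n10562 = n8284 := d41_2 (iv F38830) D10562 (iv D8284)
def n10563 : Q := act 5 n8280
theorem D10563 : act 5 n8280 = n10563 := rfl
theorem F48788 : act 1 n10563 = n8281 := d12_1 D10563 (iv D8281) (iv F38831)
theorem F48791 : act 9 n10563 = n8285 := d38_2 (iv F38836) D10563 (iv D8285)
def n10564 : Q := act 4 n8281
theorem D10564 : act 4 n8281 = n10564 := rfl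
theorem F48793 : act 2 n10564 = n8282 := d18_1 D10564 (iv D8282) (iv F38838)
theorem F48796 : act 9 n10564 = n8286 := d34_2 (iv F38841) D10564 (iv D8286)
def n10565 : Q := act 8 n8281
theorem D10565 : act 8 n8281 = n10565 := rfl
theorem F48798 : act 2 n10565 = n8283 := d22_1 D10565 (iv D8283) (iv F38838)
def n10566 : Q := act 8 n8282
theorem D10566 : act 8 n8282 = n10566 := rfl
theorem F48805 : act 4 n10566 = n8283 := d33_1 D10566 (iv D8283) D8282
def n10567 : Q := act 5 n8284
theorem D10567 : act 5 n8284 = n10567 := rfl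
def n10568 : Q := act 4 n8285
theorem D10568 : act 4 n8285 = n10568 := rfl
theorem F48813 : act 1 n10568 = n8286 := d11_1 D10568 (iv D8286) (iv F38858)
def n10569 : Q := act 3 n8286
theorem D10569 : act 3 n8286 = n10569 := rfl
def n10570 : Q := act 3 n8287
theorem D10570 : act 3 n8287 = n10570 := rfl
theorem F48825 : act 4 n10570 = n8547 := d24_2 D8287 D10570 (iv D8547) (iv D6747) (iv F31158)
theorem F48826 : act 8 n10570 = n8291 := d28_2 (iv F38869) D10570 (iv D8291)
def n10571 : Q := act 6 n8287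
theorem D10571 : act 6 n8287 = n10571 := rfl
def n10572 : Q := act 7 n8288
theorem D10572 : act 7 n8288 = n10572 := rfl
theorem F48835 : act 3 n10572 = n8549 := d27_1 D10572 (iv D8549) (iv F38873)
def n10573 : Q := act 3 n8289
theorem D10573 : act 3 n8289 = n10573 := rfl
theorem F48839 : act 0 n10573 = n8305 := d2_1 D10573 (iv D8305) (iv F38877)
theorem F48842 : act 7 n10573 = n8291 := d27_2 (iv F38879) D10573 (iv D8291)
theorem F48843 : act 9 n10573 = n8421 := d29_2 (iv F38880) D10573 (iv D8421)
def n10574 : Q := act 6 n8289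
theorem D10574 : act 6 n8289 = n10574 := rfl
theorem F48844 : act 0 n10574 = n8306 := d5_1 D10574 (iv D8306) (iv F38877)
def n10576 : Q := act 2 n8291
theorem D10576 : act 2 n8291 = n10576 := rfl
theorem F48855 : act 4 n10576 = n8553 := d18_2 (iv F38888) D10576 (iv D8553)
theorem F48856 : act 9 n10576 = n8424 := d23_2 (iv F38889) D10576 (iv D8424)
def n10577 : Q := act 6 n8291
theorem D10577 : act 6 n8291 = n10577 := rfl
theorem F48859 : act 3 n10577 = n8292 := d26_1 D10577 (iv D8292) D8291
theorem F48860 : act 4 n10577 = n8554 := d31_1 D10577 (iv D8554) (iv F38888)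
def n10578 : Q := act 5 n8292
theorem D10578 : act 5 n8292 = n10578 := rfl
def n10579 : Q := act 7 n8292
theorem D10579 : act 7 n8292 = n10579 := rfl
def n10580 : Q := act 1 n8294
theorem D10580 : act 1 n8294 = n10580 := rfl
theorem F48872 : act 4 n10580 = n8557 := d11_2 (iv F38900) D10580 (iv D8557)
theorem F48875 : act 9 n10580 = n8428 := d16_2 (iv F38903) D10580 (iv D8428)
def n10581 : Q := act 6 n8294
theorem D10581 : act 6 n8294 = n10581 := rfl
theorem F48878 : act 4 n10581 = n8558 := d31_1 D10581 (iv D8558) (iv F38900)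
def n10583 : Q := act 7 n8295
theorem D10583 : act 7 n8295 = n10583 := rfl
theorem F48887 : act 3 n10583 = n8297 := d27_1 D10583 (iv D8297) (iv F38906)
theorem F48888 : act 4 n10583 = n8560 := d32_1 D10583 (iv D8560) (iv F38907)
def n10585 : Q := act 8 n8296
theorem D10585 : act 8 n8296 = n10585 := rfl
theorem F48896 : act 0 n10585 = n8316 := d7_1 D10585 (iv D8316) (iv F38910)
def n10586 : Q := act 3 n8298
theorem D10586 : act 3 n8298 = n10586 := rfl
theorem F48899 : act 1 n10586 = n8321 := d10_1 D10586 (iv D8321) (iv F38919)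
theorem F48900 : act 5 n10586 = n8302 := d25_2 (iv F38920) D10586 (iv D8302)
def n10587 : Q := act 6 n8298
theorem D10587 : act 6 n8298 = n10587 := rfl
theorem F48902 : act 1 n10587 = n8322 := d13_1 D10587 (iv D8322) (iv F38919)
theorem F48903 : act 4 n10587 = n8299 := d31_1 D10587 (iv D8299) D8298
theorem F48904 : act 9 n10587 = n10587 := d41_2 F38921 D10587 (iv D10587)
def n10588 : Q := act 7 n8299
theorem D10588 : act 7 n8299 = n10588 := rfl
theorem F48905 : act 1 n10588 = n8323 := d14_1 D10588 (iv D8323) (iv F38922)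
theorem F48906 : act 5 n10588 = n10588 := d36_1 D10588 (iv D10588) F38923
theorem F48907 : act 9 n10588 = n10588 := d43_2 F38924 D10588 (iv D10588)
def n10589 : Q := act 3 n8300
theorem D10589 : act 3 n8300 = n10589 := rfl
theorem F48908 : act 1 n10589 = n8326 := d10_1 D10589 (iv D8326) (iv F38925)
theorem F48909 : act 4 n10589 = n8565 := d24_2 D8300 D10589 (iv D8565) (iv D6760) (iv F31194)
theorem F48910 : act 7 n10589 = n8302 := d27_2 (iv F38926) D10589 (iv D8302)
theorem F48911 : act 8 n10589 = n8305 := d28_2 (iv F38927) D10589 (iv D8305)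
def n10590 : Q := act 6 n8300
theorem D10590 : act 6 n8300 = n10590 := rfl
theorem F48913 : act 1 n10590 = n8327 := d13_1 D10590 (iv D8327) (iv F38925)
theorem F48914 : act 4 n10590 = n8301 := d31_1 D10590 (iv D8301) D8300
theorem F48915 : act 8 n10590 = n8306 := d40_2 (iv F38927) D10590 (iv D8306)
def n10591 : Q := act 7 n8301
theorem D10591 : act 7 n8301 = n10591 := rfl
theorem F48918 : act 3 n10591 = n8567 := d27_1 D10591 (iv D8567) (iv F38930)
theorem F48919 : act 6 n10591 = n8304 := d39_1 D10591 (iv D8304) (iv D6564) (iv F31195) D8301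
def n10592 : Q := act 2 n8302
theorem D10592 : act 2 n8302 = n10592 := rfl
theorem F48922 : act 4 n10592 = n8568 := d18_2 (iv F38934) D10592 (iv D8568)
def n10593 : Q := act 6 n8302
theorem D10593 : act 6 n8302 = n10593 := rfl
theorem F48926 : act 3 n10593 = n8303 := d26_1 D10593 (iv D8303) D8302
theorem F48927 : act 4 n10593 = n8569 := d31_1 D10593 (iv D8569) (iv F38934)
def n10594 : Q := act 5 n8303
theorem D10594 : act 5 n8303 = n10594 := rfl
theorem F48930 : act 1 n10594 = n8331 := d12_1 D10594 (iv D8331) (iv F38937)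
def n10595 : Q := act 7 n8303
theorem D10595 : act 7 n8303 = n10595 := rfl
def n10596 : Q := act 2 n8305
theorem D10596 : act 2 n8305 = n10596 := rfl
theorem F48937 : act 4 n10596 = n8572 := d18_2 (iv F38947) D10596 (iv D8572)
theorem F48938 : act 7 n10596 = n8308 := d21_2 (iv F38948) D10596 (iv D8308)
theorem F48939 : act 9 n10596 = n8434 := d23_2 (iv F38949) D10596 (iv D8434)
def n10597 : Q := act 6 n8305
theorem D10597 : act 6 n8305 = n10597 := rfl
theorem F48941 : act 3 n10597 = n8306 := d26_1 D10597 (iv D8306) D8305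
def n10598 : Q := act 5 n8306
theorem D10598 : act 5 n8306 = n10598 := rfl
def n10599 : Q := act 7 n8306
theorem D10599 : act 7 n8306 = n10599 := rfl
theorem F48947 : act 1 n10599 = n8336 := d14_1 D10599 (iv D8336) (iv F38950)
theorem F48949 : act 6 n10599 = n8311 := d39_1 D10599 (iv D8311) (iv D6568) (iv F31207) D8306
def n10600 : Q := act 1 n8308
theorem D10600 : act 1 n8308 = n10600 := rfl
theorem F48952 : act 4 n10600 = n8576 := d11_2 (iv F38958) D10600 (iv D8576)
theorem F48953 : act 9 n10600 = n8438 := d16_2 (iv F38959) D10600 (iv D8438)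
def n10601 : Q := act 6 n8308
theorem D10601 : act 6 n8308 = n10601 := rfl
theorem F48955 : act 4 n10601 = n8577 := d31_1 D10601 (iv D8577) (iv F38958)
def n10602 : Q := act 5 n8309
theorem D10602 : act 5 n8309 = n10602 := rfl
theorem F48958 : act 3 n10602 = n8310 := d25_1 D10602 (iv D8310) (iv F38961)
def n10603 : Q := act 7 n8309
theorem D10603 : act 7 n8309 = n10603 := rfl
theorem F48961 : act 3 n10603 = n8311 := d27_1 D10603 (iv D8311) (iv F38961)
theorem F48962 : act 4 n10603 = n8579 := d32_1 D10603 (iv D8579) (iv F38962)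
def n10604 : Q := act 7 n8310
theorem D10604 : act 7 n8310 = n10604 := rfl
theorem F48966 : act 5 n10604 = n8311 := d36_1 D10604 (iv D8311) D8310
def n10606 : Q := act 5 n8312
theorem D10606 : act 5 n8312 = n10606 := rfl
def n10607 : Q := act 7 n8312
theorem D10607 : act 7 n8312 = n10607 := rfl
theorem F48975 : act 4 n10607 = n8583 := d32_1 D10607 (iv D8583) (iv F38972)
def n10608 : Q := act 4 n8313
theorem D10608 : act 4 n8313 = n10608 := rfl
theorem F48980 : act 5 n10608 = n8584 := d30_2 D8313 D10608 (iv D8584) (iv D6773) (iv F31230)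
def n10609 : Q := act 7 n8313
theorem D10609 : act 7 n8313 = n10609 := rfl
theorem F48983 : act 3 n10609 = n8315 := d27_1 D10609 (iv D8315) (iv F38976)
def n10611 : Q := act 6 n8315
theorem D10611 : act 6 n8315 = n10611 := rfl
theorem F48991 : act 9 n10611 = n8449 := d41_2 (iv F38986) D10611 (iv D8449)
def n10614 : Q := act 3 n8317
theorem D10614 : act 3 n8317 = n10614 := rfl
theorem F48998 : act 0 n10614 = n10614 := d2_1 D10614 (iv D10614) F38989
theorem F48999 : act 4 n10614 = n8321 := d24_2 D8317 D10614 (iv D8321) (iv D6576) (iv F31242)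
theorem F49000 : act 5 n10614 = n8590 := d25_2 (iv F38991) D10614 (iv D8590)
theorem F49001 : act 9 n10614 = n10614 := d29_2 F38992 D10614 (iv D10614)
def n10615 : Q := act 6 n8317
theorem D10615 : act 6 n8317 = n10615 := rfl
theorem F49002 : act 0 n10615 = n10615 := d5_1 D10615 (iv D10615) F38989
theorem F49003 : act 2 n10615 = n10615 := d20_1 D10615 (iv D10615) F38990
theorem F49004 : act 4 n10615 = n8318 := d31_1 D10615 (iv D8318) D8317
theorem F49005 : act 9 n10615 = n10615 := d41_2 F38992 D10615 (iv D10615)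
def n10616 : Q := act 7 n8318
theorem D10616 : act 7 n8318 = n10616 := rfl
theorem F49006 : act 0 n10616 = n10616 := d6_1 D10616 (iv D10616) F38993
theorem F49007 : act 2 n10616 = n10616 := d21_1 D10616 (iv D10616) F38994
theorem F49008 : act 3 n10616 = n8323 := d27_1 D10616 (iv D8323) (iv F38995)
theorem F49009 : act 5 n10616 = n10616 := d36_1 D10616 (iv D10616) F38996
theorem F49010 : act 9 n10616 = n10616 := d43_2 F38997 D10616 (iv D10616)
def n10617 : Q := act 3 n8319
theorem D10617 : act 3 n8319 = n10617 := rfl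
theorem F49011 : act 0 n10617 = n10617 := d2_1 D10617 (iv D10617) F38998
theorem F49012 : act 5 n10617 = n8326 := d25_2 (iv F39000) D10617 (iv D8326)
theorem F49013 : act 7 n10617 = n8321 := d27_2 (iv F39001) D10617 (iv D8321)
theorem F49014 : act 9 n10617 = n10617 := d29_2 F39002 D10617 (iv D10617)
def n10618 : Q := act 6 n8319
theorem D10618 : act 6 n8319 = n10618 := rfl
theorem F49015 : act 0 n10618 = n10618 := d5_1 D10618 (iv D10618) F38998
theorem F49016 : act 2 n10618 = n8352 := d20_1 D10618 (iv D8352) (iv F38999)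
theorem F49017 : act 4 n10618 = n8320 := d31_1 D10618 (iv D8320) D8319
theorem F49018 : act 9 n10618 = n10618 := d41_2 F39002 D10618 (iv D10618)
def n10619 : Q := act 7 n8320
theorem D10619 : act 7 n8320 = n10619 := rfl
theorem F49019 : act 0 n10619 = n10619 := d6_1 D10619 (iv D10619) F39003
theorem F49020 : act 2 n10619 = n8353 := d21_1 D10619 (iv D8353) (iv F39004)
theorem F49021 : act 6 n10619 = n8323 := d39_1 D10619 (iv D8323) (iv D6577) (iv F31246) D8320
theorem F49022 : act 9 n10619 = n10619 := d43_2 F39005 D10619 (iv D10619)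
def n10620 : Q := act 2 n8321
theorem D10620 : act 2 n8321 = n10620 := rfl
theorem F49023 : act 0 n10620 = n10620 := d1_1 D10620 (iv D10620) F39006
theorem F49024 : act 3 n10620 = n8354 := d17_2 D8321 D10620 (iv D8354) (iv D6598) (iv F31249)
theorem F49025 : act 5 n10620 = n8329 := d19_2 (iv F39007) D10620 (iv D8329)
theorem F49026 : act 9 n10620 = n10620 := d23_2 F39008 D10620 (iv D10620)
def n10621 : Q := act 6 n8321
theorem D10621 : act 6 n8321 = n10621 := rfl
theorem F49027 : act 0 n10621 = n10621 := d5_1 D10621 (iv D10621) F39006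
theorem F49028 : act 3 n10621 = n8322 := d26_1 D10621 (iv D8322) D8321
theorem F49029 : act 9 n10621 = n10621 := d41_2 F39008 D10621 (iv D10621)
def n10622 : Q := act 5 n8322
theorem D10622 : act 5 n8322 = n10622 := rfl
theorem F49030 : act 0 n10622 = n10622 := d4_1 D10622 (iv D10622) F39009
theorem F49031 : act 2 n10622 = n8356 := d19_1 D10622 (iv D8356) (iv F39010)
theorem F49032 : act 4 n10622 = n10622 := d30_1 D10622 (iv D10622) F39011 F31254 (iv F39011)
theorem F49033 : act 6 n10622 = n8331 := d35_2 D8322 D10622 (iv D8331) (iv D6582) (iv F31250)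
theorem F49034 : act 9 n10622 = n10622 := d38_2 F39012 D10622 (iv D10622)
def n10623 : Q := act 7 n8322
theorem D10623 : act 7 n8322 = n10623 := rfl
theorem F49035 : act 0 n10623 = n10623 := d6_1 D10623 (iv D10623) F39009
theorem F49036 : act 2 n10623 = n8357 := d21_1 D10623 (iv D8357) (iv F39010)
theorem F49037 : act 4 n10623 = n8323 := d32_1 D10623 (iv D8323) (iv F39011)
theorem F49038 : act 9 n10623 = n10623 := d43_2 F39012 D10623 (iv D10623)
def n10624 : Q := act 6 n8324
theorem D10624 : act 6 n8324 = n10624 := rfl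
theorem F49039 : act 0 n10624 = n10624 := d5_1 D10624 (iv D10624) F39017
theorem F49040 : act 2 n10624 = n8359 := d20_1 D10624 (iv D8359) (iv F39018)
theorem F49041 : act 3 n10624 = n10624 := d26_1 D10624 (iv D10624) F39019
theorem F49042 : act 4 n10624 = n8325 := d31_1 D10624 (iv D8325) D8324
theorem F49043 : act 8 n10624 = n10624 := d40_2 F39021 D10624 (iv D10624)
theorem F49044 : act 9 n10624 = n10624 := d41_2 F39022 D10624 (iv D10624)
def n10625 : Q := act 7 n8325
theorem D10625 : act 7 n8325 = n10625 := rfl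
theorem F49046 : act 2 n10625 = n8360 := d21_1 D10625 (iv D8360) (iv F39024)
theorem F49048 : act 5 n10625 = n8328 := d36_1 D10625 (iv D8328) (iv F39026)
def n10626 : Q := act 2 n8326
theorem D10626 : act 2 n8326 = n10626 := rfl
theorem F49053 : act 3 n10626 = n8361 := d17_2 D8326 D10626 (iv D8361) (iv D6603) (iv F31263)
theorem F49054 : act 4 n10626 = n8597 := d18_2 (iv F39030) D10626 (iv D8597)
theorem F49055 : act 7 n10626 = n8329 := d21_2 (iv F39031) D10626 (iv D8329)
theorem F49056 : act 8 n10626 = n8333 := d22_2 (iv F39032) D10626 (iv D8333)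
def n10627 : Q := act 6 n8326
theorem D10627 : act 6 n8326 = n10627 := rfl
theorem F49059 : act 3 n10627 = n8327 := d26_1 D10627 (iv D8327) D8326
theorem F49061 : act 8 n10627 = n8334 := d40_2 (iv F39032) D10627 (iv D8334)
def n10628 : Q := act 5 n8327
theorem D10628 : act 5 n8327 = n10628 := rfl
theorem F49064 : act 2 n10628 = n8363 := d19_1 D10628 (iv D8363) (iv F39035)
def n10629 : Q := act 7 n8327
theorem D10629 : act 7 n8327 = n10629 := rfl
theorem F49069 : act 6 n10629 = n8332 := d39_1 D10629 (iv D8332) (iv D6582) (iv F31264) D8327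
theorem F49070 : act 8 n10629 = n8336 := d42_2 (iv F39037) D10629 (iv D8336)
def n10630 : Q := act 1 n8329
theorem D10630 : act 1 n8329 = n10630 := rfl
theorem F49073 : act 4 n10630 = n8600 := d11_2 (iv F39047) D10630 (iv D8600)
theorem F49074 : act 8 n10630 = n8337 := d15_2 (iv F39048) D10630 (iv D8337)
def n10631 : Q := act 6 n8329
theorem D10631 : act 6 n8329 = n10631 := rfl
theorem F49077 : act 2 n10631 = n8330 := d20_1 D10631 (iv D8330) D8329
theorem F49078 : act 3 n10631 = n8366 := d26_1 D10631 (iv D8366) (iv F39046)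
theorem F49079 : act 4 n10631 = n8601 := d31_1 D10631 (iv D8601) (iv F39047)
theorem F49080 : act 8 n10631 = n8338 := d40_2 (iv F39048) D10631 (iv D8338)
def n10632 : Q := act 5 n8330
theorem D10632 : act 5 n8330 = n10632 := rfl
theorem F49083 : act 3 n10632 = n8331 := d25_1 D10632 (iv D8331) (iv F39051)
def n10633 : Q := act 7 n8330
theorem D10633 : act 7 n8330 = n10633 := rfl
theorem F49086 : act 3 n10633 = n8332 := d27_1 D10633 (iv D8332) (iv F39051)
theorem F49087 : act 4 n10633 = n8603 := d32_1 D10633 (iv D8603) (iv F39052)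
def n10634 : Q := act 7 n8331
theorem D10634 : act 7 n8331 = n10634 := rfl
theorem F49091 : act 2 n10634 = n8369 := d21_1 D10634 (iv D8369) (iv F39056)
theorem F49093 : act 5 n10634 = n8332 := d36_1 D10634 (iv D8332) D8331
def n10635 : Q := act 8 n8331
theorem D10635 : act 8 n8331 = n10635 := rfl
theorem F49096 : act 2 n10635 = n8370 := d22_1 D10635 (iv D8370) (iv F39056)
def n10636 : Q := act 1 n8333
theorem D10636 : act 1 n8333 = n10636 := rfl
theorem F49099 : act 3 n10636 = n8371 := d10_2 (iv F39065) D10636 (iv D8371)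
theorem F49101 : act 7 n10636 = n8337 := d14_2 (iv F39067) D10636 (iv D8337)
theorem F49102 : act 9 n10636 = n8452 := d16_2 (iv F39068) D10636 (iv D8452)
def n10637 : Q := act 6 n8333
theorem D10637 : act 6 n8333 = n10637 := rfl
theorem F49104 : act 2 n10637 = n8334 := d20_1 D10637 (iv D8334) D8333
theorem F49105 : act 3 n10637 = n8372 := d26_1 D10637 (iv D8372) (iv F39065)
theorem F49106 : act 4 n10637 = n8607 := d31_1 D10637 (iv D8607) (iv F39066)
theorem F49107 : act 9 n10637 = n8453 := d41_2 (iv F39068) D10637 (iv D8453)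
def n10638 : Q := act 5 n8334
theorem D10638 : act 5 n8334 = n10638 := rfl
theorem F49109 : act 3 n10638 = n8335 := d25_1 D10638 (iv D8335) (iv F39070)
theorem F49110 : act 9 n10638 = n8454 := d38_2 (iv F39072) D10638 (iv D8454)
def n10639 : Q := act 7 n8334
theorem D10639 : act 7 n8334 = n10639 := rfl
theorem F49114 : act 6 n10639 = n8340 := d39_1 D10639 (iv D8340) (iv D6588) (iv F31289) D8334
def n10640 : Q := act 7 n8335
theorem D10640 : act 7 n8335 = n10640 := rfl
theorem F49119 : act 5 n10640 = n8336 := d36_1 D10640 (iv D8336) D8335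
theorem F49120 : act 9 n10640 = n8456 := d43_2 (iv F39076) D10640 (iv D8456)
def n10642 : Q := act 0 n8337
theorem D10642 : act 0 n8337 = n10642 := rfl
theorem F49126 : act 4 n10642 = n8611 := d3_2 (iv F39083) D10642 (iv D8611)
def n10643 : Q := act 6 n8337
theorem D10643 : act 6 n8337 = n10643 := rfl
theorem F49128 : act 1 n10643 = n8338 := d13_1 D10643 (iv D8338) D8337
theorem F49130 : act 4 n10643 = n8612 := d31_1 D10643 (iv D8612) (iv F39083)
theorem F49131 : act 9 n10643 = n8459 := d41_2 (iv F39084) D10643 (iv D8459)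
def n10644 : Q := act 5 n8338
theorem D10644 : act 5 n8338 = n10644 := rfl
theorem F49134 : act 3 n10644 = n8379 := d25_1 D10644 (iv D8379) (iv F39087)
def n10645 : Q := act 7 n8338
theorem D10645 : act 7 n8338 = n10645 := rfl
theorem F49138 : act 3 n10645 = n8380 := d27_1 D10645 (iv D8380) (iv F39087)
theorem F49139 : act 4 n10645 = n8614 := d32_1 D10645 (iv D8614) (iv F39088)
def n10646 : Q := act 4 n8339
theorem D10646 : act 4 n8339 = n10646 := rfl
theorem F49143 : act 5 n10646 = n8615 := d30_2 D8339 D10646 (iv D8615) (iv D6796) (iv F31307)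
def n10647 : Q := act 7 n8339
theorem D10647 : act 7 n8339 = n10647 := rfl
theorem F49146 : act 3 n10647 = n8341 := d27_1 D10647 (iv D8341) (iv F39091)
theorem F49147 : act 5 n10647 = n8340 := d36_1 D10647 (iv D8340) D8339
def n10648 : Q := act 8 n8339
theorem D10648 : act 8 n8339 = n10648 := rfl
theorem F49150 : act 3 n10648 = n8342 := d28_1 D10648 (iv D8342) (iv F39091)
def n10649 : Q := act 6 n8341
theorem D10649 : act 6 n8341 = n10649 := rfl
theorem F49152 : act 2 n10649 = n8383 := d20_1 D10649 (iv D8383) (iv F39098)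
def n10650 : Q := act 8 n8341
theorem D10650 : act 8 n8341 = n10650 := rfl
theorem F49156 : act 2 n10650 = n8384 := d22_1 D10650 (iv D8384) (iv F39098)
def n10651 : Q := act 9 n8342
theorem D10651 : act 9 n8342 = n10651 := rfl
theorem F49160 : act 2 n10651 = n8385 := d23_1 D10651 (iv D8385) (iv F39103)
def n10652 : Q := act 7 n8343
theorem D10652 : act 7 n8343 = n10652 := rfl
theorem F49165 : act 4 n10652 = n8344 := d32_1 D10652 (iv D8344) D8343
theorem F49166 : act 5 n10652 = n8621 := d36_1 D10652 (iv D8621) (iv F39107)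
def n10655 : Q := act 8 n8344
theorem D10655 : act 8 n8344 = n10655 := rfl
theorem F49178 : act 3 n10655 = n8347 := d28_1 D10655 (iv D8347) (iv F39111)
def n10657 : Q := act 8 n8346
theorem D10657 : act 8 n8346 = n10657 := rfl
theorem F49187 : act 2 n10657 = n8386 := d22_1 D10657 (iv D8386) (iv F39119)
theorem F49188 : act 6 n10657 = n8347 := d40_1 D10657 (iv D8347) D8346
def n10658 : Q := act 9 n8347
theorem D10658 : act 9 n8347 = n10658 := rfl
theorem F49190 : act 2 n10658 = n8387 := d23_1 D10658 (iv D8387) (iv F39123)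
def n10659 : Q := act 3 n8349
theorem D10659 : act 3 n8349 = n10659 := rfl
theorem F49194 : act 0 n10659 = n10659 := d2_1 D10659 (iv D10659) F39130
theorem F49195 : act 2 n10659 = n10659 := d17_1 D10659 (iv D10659) (iv F41732) F41733 F41732
theorem F49196 : act 4 n10659 = n10659 := d24_2 D8349 D10659 (iv D10659) (iv D8349) F31336
theorem F49197 : act 5 n10659 = n8358 := d25_2 (iv F39131) D10659 (iv D8358)
theorem F49198 : act 7 n10659 = n10659 := d27_2 F39132 D10659 (iv D10659)
theorem F49199 : act 9 n10659 = n10659 := d29_2 F39133 D10659 (iv D10659)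
def n10660 : Q := act 6 n8349
theorem D10660 : act 6 n8349 = n10660 := rfl
theorem F49200 : act 0 n10660 = n10660 := d5_1 D10660 (iv D10660) F39130
theorem F49201 : act 4 n10660 = n8350 := d31_1 D10660 (iv D8350) D8349
theorem F49202 : act 9 n10660 = n10660 := d41_2 F39133 D10660 (iv D10660)
def n10661 : Q := act 7 n8350
theorem D10661 : act 7 n8350 = n10661 := rfl
theorem F49203 : act 0 n10661 = n10661 := d6_1 D10661 (iv D10661) F39134
theorem F49204 : act 3 n10661 = n10661 := d27_1 D10661 (iv D10661) F39135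
theorem F49205 : act 5 n10661 = n8353 := d36_1 D10661 (iv D8353) (iv F39136)
theorem F49206 : act 6 n10661 = n10661 := d39_1 D10661 (iv D10661) (iv D8350) F31337 D8350
theorem F49207 : act 9 n10661 = n10661 := d43_2 F39137 D10661 (iv D10661)
def n10662 : Q := act 2 n8351
theorem D10662 : act 2 n8351 = n10662 := rfl
theorem F49210 : act 5 n10662 = n8361 := d19_2 (iv F39140) D10662 (iv D8361)
theorem F49211 : act 7 n10662 = n8354 := d21_2 (iv F39141) D10662 (iv D8354)
def n10663 : Q := act 6 n8351
theorem D10663 : act 6 n8351 = n10663 := rfl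
def n10664 : Q := act 5 n8352
theorem D10664 : act 5 n8352 = n10664 := rfl
theorem F49218 : act 6 n10664 = n8363 := d35_2 D8352 D10664 (iv D8363) (iv D6604) (iv F31340)
def n10665 : Q := act 7 n8352
theorem D10665 : act 7 n8352 = n10665 := rfl
theorem F49220 : act 0 n10665 = n10665 := d6_1 D10665 (iv D10665) F39143
theorem F49221 : act 4 n10665 = n8353 := d32_1 D10665 (iv D8353) (iv F39144)
theorem F49222 : act 6 n10665 = n8357 := d39_1 D10665 (iv D8357) (iv D6599) (iv F31341) D8352
theorem F49223 : act 9 n10665 = n10665 := d43_2 F39145 D10665 (iv D10665)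
def n10666 : Q := act 1 n8354
theorem D10666 : act 1 n8354 = n10666 := rfl
def n10667 : Q := act 6 n8354
theorem D10667 : act 6 n8354 = n10667 := rfl
theorem F49227 : act 0 n10667 = n10667 := d5_1 D10667 (iv D10667) F39150
theorem F49228 : act 2 n10667 = n8355 := d20_1 D10667 (iv D8355) D8354
theorem F49229 : act 4 n10667 = n10667 := d31_1 D10667 (iv D10667) F39151
theorem F49230 : act 9 n10667 = n10667 := d41_2 F39153 D10667 (iv D10667)
def n10668 : Q := act 5 n8355
theorem D10668 : act 5 n8355 = n10668 := rfl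
theorem F49231 : act 0 n10668 = n10668 := d4_1 D10668 (iv D10668) F39154
theorem F49232 : act 3 n10668 = n8356 := d25_1 D10668 (iv D8356) (iv F39155)
theorem F49233 : act 6 n10668 = n8367 := d35_2 D8355 D10668 (iv D8367) (iv D6607) (iv F31348)
theorem F49234 : act 9 n10668 = n10668 := d38_2 F39157 D10668 (iv D10668)
def n10669 : Q := act 7 n8355
theorem D10669 : act 7 n8355 = n10669 := rfl
theorem F49235 : act 0 n10669 = n10669 := d6_1 D10669 (iv D10669) F39154
theorem F49236 : act 3 n10669 = n8357 := d27_1 D10669 (iv D8357) (iv F39155)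
theorem F49237 : act 4 n10669 = n10669 := d32_1 D10669 (iv D10669) F39156
theorem F49238 : act 9 n10669 = n10669 := d43_2 F39157 D10669 (iv D10669)
def n10670 : Q := act 7 n8356
theorem D10670 : act 7 n8356 = n10670 := rfl
theorem F49239 : act 0 n10670 = n10670 := d6_1 D10670 (iv D10670) F39158
theorem F49240 : act 4 n10670 = n10670 := d32_1 D10670 (iv D10670) F39159
theorem F49241 : act 5 n10670 = n8357 := d36_1 D10670 (iv D8357) D8356
theorem F49242 : act 9 n10670 = n10670 := d43_2 F39161 D10670 (iv D10670)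
def n10671 : Q := act 8 n8356
theorem D10671 : act 8 n8356 = n10671 := rfl
theorem F49243 : act 0 n10671 = n10671 := d7_1 D10671 (iv D10671) F39158
theorem F49244 : act 4 n10671 = n10671 := d33_1 D10671 (iv D10671) F39159
theorem F49245 : act 6 n10671 = n8370 := d40_1 D10671 (iv D8370) (iv F39160)
def n10672 : Q := act 6 n8358
theorem D10672 : act 6 n8358 = n10672 := rfl
theorem F49248 : act 3 n10672 = n8359 := d26_1 D10672 (iv D8359) D8358
theorem F49249 : act 4 n10672 = n8388 := d31_1 D10672 (iv D8388) (iv F39167)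
def n10673 : Q := act 5 n8359
theorem D10673 : act 5 n8359 = n10673 := rfl
theorem F49253 : act 4 n10673 = n8363 := d30_1 D10673 (iv D8363) F31372 (iv F31363) (iv F39172)
def n10674 : Q := act 7 n8359
theorem D10674 : act 7 n8359 = n10674 := rfl
theorem F49256 : act 4 n10674 = n8360 := d32_1 D10674 (iv D8360) (iv F39172)
def n10675 : Q := act 1 n8361
theorem D10675 : act 1 n8361 = n10675 := rfl
theorem F49260 : act 4 n10675 = n8391 := d11_2 (iv F39182) D10675 (iv D8391)
theorem F49261 : act 7 n10675 = n8365 := d14_2 (iv F39183) D10675 (iv D8365)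
def n10676 : Q := act 6 n8361
theorem D10676 : act 6 n8361 = n10676 := rfl
theorem F49266 : act 4 n10676 = n8392 := d31_1 D10676 (iv D8392) (iv F39182)
def n10677 : Q := act 5 n8362
theorem D10677 : act 5 n8362 = n10677 := rfl
theorem F49270 : act 3 n10677 = n8363 := d25_1 D10677 (iv D8363) (iv F39187)
def n10678 : Q := act 7 n8362
theorem D10678 : act 7 n8362 = n10678 := rfl
theorem F49273 : act 3 n10678 = n8364 := d27_1 D10678 (iv D8364) (iv F39187)
theorem F49274 : act 4 n10678 = n8394 := d32_1 D10678 (iv D8394) (iv F39188)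
theorem F49275 : act 6 n10678 = n8368 := d39_1 D10678 (iv D8368) (iv D6607) (iv F31368) D8362
theorem F49276 : act 8 n10678 = n8374 := d42_2 (iv F39189) D10678 (iv D8374)
def n10679 : Q := act 7 n8363
theorem D10679 : act 7 n8363 = n10679 := rfl
def n10680 : Q := act 8 n8363
theorem D10680 : act 8 n8363 = n10680 := rfl
def n10682 : Q := act 6 n8365
theorem D10682 : act 6 n8365 = n10682 := rfl
theorem F49287 : act 1 n10682 = n8366 := d13_1 D10682 (iv D8366) D8365
theorem F49288 : act 4 n10682 = n8398 := d31_1 D10682 (iv D8398) (iv F39198)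
def n10683 : Q := act 5 n8366
theorem D10683 : act 5 n8366 = n10683 := rfl
theorem F49292 : act 2 n10683 = n8367 := d19_1 D10683 (iv D8367) (iv F39202)
def n10684 : Q := act 7 n8366
theorem D10684 : act 7 n8366 = n10684 := rfl
theorem F49297 : act 8 n10684 = n8380 := d42_2 (iv F39204) D10684 (iv D8380)
def n10685 : Q := act 4 n8367
theorem D10685 : act 4 n8367 = n10685 := rfl
theorem F49299 : act 0 n10685 = n10685 := d3_1 D10685 (iv D10685) F39206
theorem F49300 : act 3 n10685 = n10685 := d24_1 D10685 (iv D10685) F39207 F31390 (iv F39207)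
theorem F49301 : act 5 n10685 = n8401 := d30_2 D8367 D10685 (iv D8401) (iv D6632) (iv F31386)
theorem F49302 : act 9 n10685 = n10685 := d34_2 F39208 D10685 (iv D10685)
def n10686 : Q := act 7 n8367
theorem D10686 : act 7 n8367 = n10686 := rfl
theorem F49305 : act 5 n10686 = n8368 := d36_1 D10686 (iv D8368) D8367
def n10687 : Q := act 8 n8367
theorem D10687 : act 8 n8367 = n10687 := rfl
theorem F49307 : act 0 n10687 = n10687 := d7_1 D10687 (iv D10687) F39206
theorem F49308 : act 3 n10687 = n8370 := d28_1 D10687 (iv D8370) (iv F39207)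
theorem F49309 : act 5 n10687 = n8382 := d37_1 D10687 (iv D8382) (iv D6616) (iv F31387) D8367
def n10688 : Q := act 6 n8369
theorem D10688 : act 6 n8369 = n10688 := rfl
def n10689 : Q := act 8 n8369
theorem D10689 : act 8 n8369 = n10689 := rfl
theorem F49316 : act 7 n10689 = n8370 := d42_1 D10689 (iv D8370) D8369
def n10690 : Q := act 9 n8370
theorem D10690 : act 9 n8370 = n10690 := rfl
theorem F49317 : act 0 n10690 = n10690 := d8_1 D10690 (iv D10690) F39218
theorem F49318 : act 4 n10690 = n10690 := d34_1 D10690 (iv D10690) F39219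
theorem F49319 : act 5 n10690 = n8385 := d38_1 D10690 (iv D8385) (iv F39220)
theorem F49320 : act 8 n10690 = n10690 := d44_1 D10690 (iv D10690) (iv D8370) F31391 D8370
def n10691 : Q := act 0 n8371
theorem D10691 : act 0 n8371 = n10691 := rfl
theorem F49322 : act 4 n10691 = n8404 := d3_2 (iv F39221) D10691 (iv D8404)
theorem F49324 : act 9 n10691 = n8475 := d8_2 (iv F39223) D10691 (iv D8475)
def n10692 : Q := act 6 n8371
theorem D10692 : act 6 n8371 = n10692 := rfl
theorem F49326 : act 4 n10692 = n8405 := d31_1 D10692 (iv D8405) (iv F39221)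
theorem F49327 : act 9 n10692 = n8476 := d41_2 (iv F39223) D10692 (iv D8476)
def n10693 : Q := act 5 n8372
theorem D10693 : act 5 n8372 = n10693 := rfl
theorem F49330 : act 9 n10693 = n8477 := d38_2 (iv F39227) D10693 (iv D8477)
def n10694 : Q := act 7 n8372
theorem D10694 : act 7 n8372 = n10694 := rfl
theorem F49333 : act 4 n10694 = n8407 := d32_1 D10694 (iv D8407) (iv F39226)
theorem F49334 : act 6 n10694 = n8380 := d39_1 D10694 (iv D8380) (iv D6615) (iv F31398) D8372
def n10695 : Q := act 4 n8373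
theorem D10695 : act 4 n8373 = n10695 := rfl
theorem F49338 : act 5 n10695 = n8408 := d30_2 D8373 D10695 (iv D8408) (iv D6637) (iv F31402)
def n10696 : Q := act 7 n8373
theorem D10696 : act 7 n8373 = n10696 := rfl
theorem F49341 : act 3 n10696 = n8375 := d27_1 D10696 (iv D8375) (iv F39229)
theorem F49342 : act 5 n10696 = n8374 := d36_1 D10696 (iv D8374) D8373
theorem F49343 : act 9 n10696 = n8480 := d43_2 (iv F39230) D10696 (iv D8480)
def n10697 : Q := act 8 n8373
theorem D10697 : act 8 n8373 = n10697 := rfl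
theorem F49345 : act 3 n10697 = n8376 := d28_1 D10697 (iv D8376) (iv F39229)
def n10698 : Q := act 6 n8375
theorem D10698 : act 6 n8375 = n10698 := rfl
def n10699 : Q := act 8 n8375
theorem D10699 : act 8 n8375 = n10699 := rfl
def n10702 : Q := act 5 n8378
theorem D10702 : act 5 n8378 = n10702 := rfl
def n10703 : Q := act 7 n8378
theorem D10703 : act 7 n8378 = n10703 := rfl
def n10704 : Q := act 7 n8379
theorem D10704 : act 7 n8379 = n10704 := rfl
theorem F49367 : act 2 n10704 = n8381 := d21_1 D10704 (iv D8381) (iv F39249)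
theorem F49369 : act 5 n10704 = n8380 := d36_1 D10704 (iv D8380) D8379
theorem F49370 : act 9 n10704 = n8488 := d43_2 (iv F39251) D10704 (iv D8488)
def n10705 : Q := act 8 n8379
theorem D10705 : act 8 n8379 = n10705 := rfl
theorem F49372 : act 2 n10705 = n8382 := d22_1 D10705 (iv D8382) (iv F39249)
def n10706 : Q := act 6 n8381
theorem D10706 : act 6 n8381 = n10706 := rfl
def n10707 : Q := act 8 n8381
theorem D10707 : act 8 n8381 = n10707 := rfl
theorem F49381 : act 7 n10707 = n8382 := d42_1 D10707 (iv D8382) D8381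
def n10708 : Q := act 9 n8382
theorem D10708 : act 9 n8382 = n10708 := rfl
theorem F49382 : act 0 n10708 = n10708 := d8_1 D10708 (iv D10708) F39261
theorem F49383 : act 3 n10708 = n8385 := d29_1 D10708 (iv D8385) (iv F39262)
theorem F49384 : act 4 n10708 = n10708 := d34_1 D10708 (iv D10708) F39263
theorem F49385 : act 8 n10708 = n8492 := d44_1 D10708 (iv D8492) (iv D6698) (iv F31420) D8382
def n10709 : Q := act 8 n8383
theorem D10709 : act 8 n8383 = n10709 := rfl
def n10710 : Q := act 9 n8384
theorem D10710 : act 9 n8384 = n10710 := rfl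
theorem F49391 : act 7 n10710 = n8385 := d43_1 D10710 (iv D8385) (iv F39269)
def n10713 : Q := act 5 n8388
theorem D10713 : act 5 n8388 = n10713 := rfl
theorem F49403 : act 3 n10713 = n8389 := d25_1 D10713 (iv D8389) (iv F39283)
def n10715 : Q := act 7 n8389
theorem D10715 : act 7 n8389 = n10715 := rfl
theorem F49415 : act 5 n10715 = n8390 := d36_1 D10715 (iv D8390) D8389
def n10716 : Q := act 8 n8389
theorem D10716 : act 8 n8389 = n10716 := rfl
theorem F49419 : act 4 n10716 = n8396 := d33_1 D10716 (iv D8396) (iv F39288)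
def n10717 : Q := act 0 n8391
theorem D10717 : act 0 n8391 = n10717 := rfl
theorem F49426 : act 8 n10717 = n8404 := d7_2 (iv F39300) D10717 (iv D8404)
def n10718 : Q := act 6 n8391
theorem D10718 : act 6 n8391 = n10718 := rfl
theorem F49430 : act 8 n10718 = n8405 := d40_2 (iv F39300) D10718 (iv D8405)
def n10719 : Q := act 5 n8392
theorem D10719 : act 5 n8392 = n10719 := rfl
def n10720 : Q := act 7 n8392
theorem D10720 : act 7 n8392 = n10720 := rfl
theorem F49440 : act 6 n10720 = n8400 := d39_1 D10720 (iv D8400) (iv D6631) (iv F31463) D8392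
def n10721 : Q := act 4 n8393
theorem D10721 : act 4 n8393 = n10721 := rfl
def n10722 : Q := act 7 n8393
theorem D10722 : act 7 n8393 = n10722 := rfl
theorem F49448 : act 5 n10722 = n8394 := d36_1 D10722 (iv D8394) D8393
def n10723 : Q := act 8 n8393
theorem D10723 : act 8 n8393 = n10723 := rfl
theorem F49452 : act 5 n10723 = n8410 := d37_1 D10723 (iv D8410) (iv D6637) (iv F31468) D8393
def n10724 : Q := act 6 n8395
theorem D10724 : act 6 n8395 = n10724 := rfl
theorem F49456 : act 5 n10724 = n8403 := d35_1 D10724 (iv D8403) F31501 (iv F31477) (iv F39318)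
def n10725 : Q := act 8 n8395
theorem D10725 : act 8 n8395 = n10725 := rfl
theorem F49462 : act 7 n10725 = n8396 := d42_1 D10725 (iv D8396) D8395
def n10726 : Q := act 9 n8396
theorem D10726 : act 9 n8396 = n10726 := rfl
theorem F49465 : act 5 n10726 = n8412 := d38_1 D10726 (iv D8412) (iv F39322)
def n10728 : Q := act 5 n8398
theorem D10728 : act 5 n8398 = n10728 := rfl
def n10729 : Q := act 7 n8398
theorem D10729 : act 7 n8398 = n10729 := rfl
def n10731 : Q := act 7 n8399
theorem D10731 : act 7 n8399 = n10731 := rfl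
theorem F49490 : act 5 n10731 = n8400 := d36_1 D10731 (iv D8400) D8399
def n10732 : Q := act 7 n8401
theorem D10732 : act 7 n8401 = n10732 := rfl
theorem F49495 : act 4 n10732 = n8402 := d32_1 D10732 (iv D8402) D8401
def n10733 : Q := act 6 n8402
theorem D10733 : act 6 n8402 = n10733 := rfl
def n10734 : Q := act 6 n8404
theorem D10734 : act 6 n8404 = n10734 := rfl
theorem F49506 : act 9 n10734 = n8497 := d41_2 (iv F39364) D10734 (iv D8497)
def n10735 : Q := act 5 n8405
theorem D10735 : act 5 n8405 = n10735 := rfl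
theorem F49509 : act 6 n10735 = n8416 := d35_2 D8405 D10735 (iv D8416) (iv D6645) (iv F31505)
theorem F49510 : act 9 n10735 = n8498 := d38_2 (iv F39367) D10735 (iv D8498)
def n10736 : Q := act 7 n8405
theorem D10736 : act 7 n8405 = n10736 := rfl
theorem F49513 : act 6 n10736 = n8414 := d39_1 D10736 (iv D8414) (iv D6642) (iv F31506) D8405
def n10737 : Q := act 4 n8406
theorem D10737 : act 4 n8406 = n10737 := rfl
theorem F49517 : act 6 n10737 = n8417 := d31_2 (iv F39371) D10737 (iv D8417)
def n10738 : Q := act 7 n8406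
theorem D10738 : act 7 n8406 = n10738 := rfl
theorem F49522 : act 5 n10738 = n8407 := d36_1 D10738 (iv D8407) D8406
def n10739 : Q := act 8 n8406
theorem D10739 : act 8 n8406 = n10739 := rfl
theorem F49528 : act 6 n10739 = n8418 := d40_1 D10739 (iv D8418) (iv F39371)
def n10740 : Q := act 7 n8408
theorem D10740 : act 7 n8408 = n10740 := rfl
theorem F49531 : act 4 n10740 = n8409 := d32_1 D10740 (iv D8409) D8408
def n10741 : Q := act 8 n8408
theorem D10741 : act 8 n8408 = n10741 := rfl
theorem F49537 : act 6 n10741 = n8419 := d40_1 D10741 (iv D8419) (iv F39380)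
def n10742 : Q := act 8 n8409
theorem D10742 : act 8 n8409 = n10742 := rfl
theorem F49541 : act 7 n10742 = n8410 := d42_1 D10742 (iv D8410) D8409
def n10743 : Q := act 9 n8410
theorem D10743 : act 9 n8410 = n10743 := rfl
theorem F49544 : act 6 n10743 = n8420 := d41_1 D10743 (iv D8420) (iv F39389)
def n10744 : Q := act 9 n8411
theorem D10744 : act 9 n8411 = n10744 := rfl
theorem F49550 : act 7 n10744 = n8412 := d43_1 D10744 (iv D8412) (iv F39394)
def n10746 : Q := act 5 n8415
theorem D10746 : act 5 n8415 = n10746 := rfl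
theorem F49559 : act 3 n10746 = n8694 := d25_1 D10746 (iv D8694) (iv F39411)
def n10747 : Q := act 4 n8416
theorem D10747 : act 4 n8416 = n10747 := rfl
def n10748 : Q := act 8 n8416
theorem D10748 : act 8 n8416 = n10748 := rfl
theorem F49566 : act 3 n10748 = n8696 := d28_1 D10748 (iv D8696) (iv F39416)
def n10749 : Q := act 3 n8417
theorem D10749 : act 3 n8417 = n10749 := rfl
theorem F49571 : act 4 n10749 = n8697 := d24_2 D8417 D10749 (iv D8697) (iv D6864) (iv F31555)
def n10750 : Q := act 8 n8417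
theorem D10750 : act 8 n8417 = n10750 := rfl
theorem F49575 : act 2 n10750 = n8419 := d22_1 D10750 (iv D8419) (iv F39420)
def n10751 : Q := act 9 n8418
theorem D10751 : act 9 n8418 = n10751 := rfl
theorem F49579 : act 2 n10751 = n8420 := d23_1 D10751 (iv D8420) (iv F39424)
theorem F49580 : act 3 n10751 = n8699 := d29_1 D10751 (iv D8699) (iv F39425)
def n10753 : Q := act 9 n8419
theorem D10753 : act 9 n8419 = n10753 := rfl
def n10754 : Q := act 2 n8421
theorem D10754 : act 2 n8421 = n10754 := rfl
theorem F49594 : act 4 n10754 = n8702 := d18_2 (iv F39439) D10754 (iv D8702)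
theorem F49595 : act 7 n10754 = n8424 := d21_2 (iv F39440) D10754 (iv D8424)
def n10755 : Q := act 6 n8421
theorem D10755 : act 6 n8421 = n10755 := rfl
theorem F49597 : act 0 n10755 = n8435 := d5_1 D10755 (iv D8435) (iv F39437)
def n10756 : Q := act 5 n8422
theorem D10756 : act 5 n8422 = n10756 := rfl
theorem F49602 : act 0 n10756 = n8436 := d4_1 D10756 (iv D8436) (iv F39442)
def n10757 : Q := act 7 n8422
theorem D10757 : act 7 n8422 = n10757 := rfl
theorem F49608 : act 6 n10757 = n8427 := d39_1 D10757 (iv D8427) (iv D6653) (iv F31574) D8422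
def n10758 : Q := act 1 n8424
theorem D10758 : act 1 n8424 = n10758 := rfl
theorem F49611 : act 4 n10758 = n8706 := d11_2 (iv F39453) D10758 (iv D8706)
def n10759 : Q := act 6 n8424
theorem D10759 : act 6 n8424 = n10759 := rfl
theorem F49615 : act 4 n10759 = n8707 := d31_1 D10759 (iv D8707) (iv F39453)
def n10760 : Q := act 5 n8425
theorem D10760 : act 5 n8425 = n10760 := rfl
theorem F49619 : act 3 n10760 = n8426 := d25_1 D10760 (iv D8426) (iv F39457)
def n10761 : Q := act 7 n8425
theorem D10761 : act 7 n8425 = n10761 := rfl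
theorem F49622 : act 3 n10761 = n8427 := d27_1 D10761 (iv D8427) (iv F39457)
theorem F49623 : act 4 n10761 = n8709 := d32_1 D10761 (iv D8709) (iv F39458)
def n10762 : Q := act 7 n8426
theorem D10762 : act 7 n8426 = n10762 := rfl
theorem F49628 : act 5 n10762 = n8427 := d36_1 D10762 (iv D8427) D8426
def n10763 : Q := act 8 n8426
theorem D10763 : act 8 n8426 = n10763 := rfl
def n10764 : Q := act 6 n8428
theorem D10764 : act 6 n8428 = n10764 := rfl
theorem F49636 : act 4 n10764 = n8712 := d31_1 D10764 (iv D8712) (iv F39469)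
def n10765 : Q := act 5 n8429
theorem D10765 : act 5 n8429 = n10765 := rfl
theorem F49639 : act 2 n10765 = n8430 := d19_1 D10765 (iv D8430) (iv F39473)
def n10767 : Q := act 4 n8430
theorem D10767 : act 4 n8430 = n10767 := rfl
theorem F49647 : act 5 n10767 = n8715 := d30_2 D8430 D10767 (iv D8715) (iv D6877) (iv F31601)
def n10768 : Q := act 7 n8430
theorem D10768 : act 7 n8430 = n10768 := rfl
theorem F49650 : act 3 n10768 = n8432 := d27_1 D10768 (iv D8432) (iv F39478)
def n10769 : Q := act 8 n8430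
theorem D10769 : act 8 n8430 = n10769 := rfl
theorem F49654 : act 3 n10769 = n8433 := d28_1 D10769 (iv D8433) (iv F39478)
theorem F49655 : act 5 n10769 = n8523 := d37_1 D10769 (iv D8523) (iv D6726) (iv F31602) D8430
def n10772 : Q := act 9 n8433
theorem D10772 : act 9 n8433 = n10772 := rfl
def n10773 : Q := act 1 n8434
theorem D10773 : act 1 n8434 = n10773 := rfl
theorem F49666 : act 2 n10773 = n8452 := d9_2 D8434 D10773 (iv D8452) (iv D6671) (iv F31610)
theorem F49667 : act 4 n10773 = n8721 := d11_2 (iv F39491) D10773 (iv D8721)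
theorem F49668 : act 7 n10773 = n8438 := d14_2 (iv F39492) D10773 (iv D8438)
def n10774 : Q := act 6 n8434
theorem D10774 : act 6 n8434 = n10774 := rfl
theorem F49670 : act 2 n10774 = n8435 := d20_1 D10774 (iv D8435) D8434
def n10775 : Q := act 5 n8435
theorem D10775 : act 5 n8435 = n10775 := rfl
theorem F49674 : act 3 n10775 = n8436 := d25_1 D10775 (iv D8436) (iv F39495)
def n10776 : Q := act 7 n8435
theorem D10776 : act 7 n8435 = n10776 := rfl
theorem F49678 : act 6 n10776 = n8441 := d39_1 D10776 (iv D8441) (iv D6663) (iv F31612) D8435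
def n10777 : Q := act 7 n8436
theorem D10777 : act 7 n8436 = n10777 := rfl
theorem F49682 : act 5 n10777 = n8437 := d36_1 D10777 (iv D8437) D8436
def n10778 : Q := act 8 n8436
theorem D10778 : act 8 n8436 = n10778 := rfl
def n10779 : Q := act 0 n8438
theorem D10779 : act 0 n8438 = n10779 := rfl
theorem F49686 : act 2 n10779 = n8458 := d1_2 (iv F39504) D10779 (iv D8458)
theorem F49687 : act 4 n10779 = n8727 := d3_2 (iv F39505) D10779 (iv D8727)
def n10780 : Q := act 6 n8438
theorem D10780 : act 6 n8438 = n10780 := rfl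
theorem F49691 : act 4 n10780 = n8728 := d31_1 D10780 (iv D8728) (iv F39505)
def n10781 : Q := act 5 n8439
theorem D10781 : act 5 n8439 = n10781 := rfl
def n10782 : Q := act 7 n8439
theorem D10782 : act 7 n8439 = n10782 := rfl
theorem F49695 : act 4 n10782 = n8730 := d32_1 D10782 (iv D8730) (iv F39508)
def n10783 : Q := act 4 n8440
theorem D10783 : act 4 n8440 = n10783 := rfl
theorem F49699 : act 5 n10783 = n8731 := d30_2 D8440 D10783 (iv D8731) (iv D6887) (iv F31626)
def n10784 : Q := act 7 n8440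
theorem D10784 : act 7 n8440 = n10784 := rfl
theorem F49701 : act 3 n10784 = n8442 := d27_1 D10784 (iv D8442) (iv F39511)
def n10786 : Q := act 6 n8442
theorem D10786 : act 6 n8442 = n10786 := rfl
def n10787 : Q := act 8 n8442
theorem D10787 : act 8 n8442 = n10787 := rfl
def n10789 : Q := act 4 n8444
theorem D10789 : act 4 n8444 = n10789 := rfl
theorem F49717 : act 5 n10789 = n8737 := d30_2 D8444 D10789 (iv D8737) (iv D6891) (iv F31635)
def n10790 : Q := act 7 n8444
theorem D10790 : act 7 n8444 = n10790 := rfl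
theorem F49720 : act 5 n10790 = n8445 := d36_1 D10790 (iv D8445) D8444
def n10791 : Q := act 8 n8444
theorem D10791 : act 8 n8444 = n10791 := rfl
theorem F49723 : act 5 n10791 = n8529 := d37_1 D10791 (iv D8529) (iv D6730) (iv F31636) D8444
def n10792 : Q := act 7 n8446
theorem D10792 : act 7 n8446 = n10792 := rfl
theorem F49725 : act 4 n10792 = n8447 := d32_1 D10792 (iv D8447) D8446
theorem F49726 : act 5 n10792 = n8740 := d36_1 D10792 (iv D8740) (iv F39530)
def n10795 : Q := act 8 n8447
theorem D10795 : act 8 n8447 = n10795 := rfl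
theorem F49733 : act 3 n10795 = n8450 := d28_1 D10795 (iv D8450) (iv F39532)
def n10797 : Q := act 8 n8449
theorem D10797 : act 8 n8449 = n10797 := rfl
theorem F49740 : act 6 n10797 = n8450 := d40_1 D10797 (iv D8450) D8449
def n10798 : Q := act 9 n8450
theorem D10798 : act 9 n8450 = n10798 := rfl
def n10799 : Q := act 0 n8452
theorem D10799 : act 0 n8452 = n10799 := rfl
theorem F49745 : act 3 n10799 = n8475 := d2_2 (iv F39544) D10799 (iv D8475)
theorem F49746 : act 4 n10799 = n8747 := d3_2 (iv F39545) D10799 (iv D8747)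
theorem F49747 : act 7 n10799 = n8458 := d6_2 (iv F39546) D10799 (iv D8458)
def n10800 : Q := act 6 n8452
theorem D10800 : act 6 n8452 = n10800 := rfl
theorem F49749 : act 1 n10800 = n8453 := d13_1 D10800 (iv D8453) D8452
theorem F49750 : act 3 n10800 = n8476 := d26_1 D10800 (iv D8476) (iv F39544)
def n10801 : Q := act 5 n8453
theorem D10801 : act 5 n8453 = n10801 := rfl
theorem F49754 : act 2 n10801 = n8454 := d19_1 D10801 (iv D8454) (iv F39549)
theorem F49755 : act 3 n10801 = n8477 := d25_1 D10801 (iv D8477) (iv F39550)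
def n10802 : Q := act 7 n8453
theorem D10802 : act 7 n8453 = n10802 := rfl
theorem F49759 : act 4 n10802 = n8750 := d32_1 D10802 (iv D8750) (iv F39551)
theorem F49760 : act 6 n10802 = n8461 := d39_1 D10802 (iv D8461) (iv D6676) (iv F31651) D8453
def n10803 : Q := act 4 n8454
theorem D10803 : act 4 n8454 = n10803 := rfl
theorem F49764 : act 5 n10803 = n8751 := d30_2 D8454 D10803 (iv D8751) (iv D6901) (iv F31655)
def n10804 : Q := act 7 n8454
theorem D10804 : act 7 n8454 = n10804 := rfl
theorem F49766 : act 3 n10804 = n8456 := d27_1 D10804 (iv D8456) (iv F39554)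
theorem F49767 : act 5 n10804 = n8455 := d36_1 D10804 (iv D8455) D8454
def n10805 : Q := act 8 n8454
theorem D10805 : act 8 n8454 = n10805 := rfl
def n10806 : Q := act 6 n8456
theorem D10806 : act 6 n8456 = n10806 := rfl
theorem F49774 : act 5 n10806 = n8465 := d35_1 D10806 (iv D8465) F31682 (iv F31663) (iv F39563)
def n10809 : Q := act 6 n8458
theorem D10809 : act 6 n8458 = n10809 := rfl
theorem F49784 : act 0 n10809 = n8459 := d5_1 D10809 (iv D8459) D8458
theorem F49786 : act 3 n10809 = n8485 := d26_1 D10809 (iv D8485) (iv F39569)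
theorem F49787 : act 4 n10809 = n8756 := d31_1 D10809 (iv D8756) (iv F39570)
def n10810 : Q := act 5 n8459
theorem D10810 : act 5 n8459 = n10810 := rfl
theorem F49789 : act 1 n10810 = n8460 := d12_1 D10810 (iv D8460) (iv F39572)
def n10811 : Q := act 7 n8459
theorem D10811 : act 7 n8459 = n10811 := rfl
theorem F49791 : act 1 n10811 = n8461 := d14_1 D10811 (iv D8461) (iv F39572)
theorem F49793 : act 4 n10811 = n8758 := d32_1 D10811 (iv D8758) (iv F39574)
def n10812 : Q := act 4 n8460
theorem D10812 : act 4 n8460 = n10812 := rfl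
theorem F49798 : act 5 n10812 = n8759 := d30_2 D8460 D10812 (iv D8759) (iv D6907) (iv F31671)
def n10813 : Q := act 7 n8460
theorem D10813 : act 7 n8460 = n10813 := rfl
theorem F49801 : act 3 n10813 = n8488 := d27_1 D10813 (iv D8488) (iv F39578)
theorem F49802 : act 5 n10813 = n8461 := d36_1 D10813 (iv D8461) D8460
def n10814 : Q := act 8 n8460
theorem D10814 : act 8 n8460 = n10814 := rfl
theorem F49805 : act 3 n10814 = n8489 := d28_1 D10814 (iv D8489) (iv F39578)
def n10815 : Q := act 7 n8462
theorem D10815 : act 7 n8462 = n10815 := rfl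
theorem F49809 : act 4 n10815 = n8463 := d32_1 D10815 (iv D8463) D8462
theorem F49810 : act 5 n10815 = n8762 := d36_1 D10815 (iv D8762) (iv F39586)
def n10816 : Q := act 8 n8462
theorem D10816 : act 8 n8462 = n10816 := rfl
theorem F49813 : act 4 n10816 = n8464 := d33_1 D10816 (iv D8464) D8462
def n10817 : Q := act 6 n8463
theorem D10817 : act 6 n8463 = n10817 := rfl
def n10818 : Q := act 8 n8463
theorem D10818 : act 8 n8463 = n10818 := rfl
theorem F49817 : act 3 n10818 = n8466 := d28_1 D10818 (iv D8466) (iv F39588)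
def n10820 : Q := act 8 n8465
theorem D10820 : act 8 n8465 = n10820 := rfl
theorem F49824 : act 2 n10820 = n8493 := d22_1 D10820 (iv D8493) (iv F39594)
theorem F49826 : act 6 n10820 = n8466 := d40_1 D10820 (iv D8466) D8465
def n10821 : Q := act 9 n8466
theorem D10821 : act 9 n8466 = n10821 := rfl
theorem F49828 : act 2 n10821 = n8494 := d23_1 D10821 (iv D8494) (iv F39597)
def n10823 : Q := act 8 n8468
theorem D10823 : act 8 n8468 = n10823 := rfl
theorem F49837 : act 4 n10823 = n8471 := d33_1 D10823 (iv D8471) (iv F39607)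
def n10827 : Q := act 9 n8471
theorem D10827 : act 9 n8471 = n10827 := rfl
theorem F49852 : act 3 n10827 = n8474 := d29_1 D10827 (iv D8474) (iv F39618)
def n10829 : Q := act 9 n8473
theorem D10829 : act 9 n8473 = n10829 := rfl
theorem F49860 : act 2 n10829 = n8496 := d23_1 D10829 (iv D8496) (iv F39626)
theorem F49861 : act 6 n10829 = n8474 := d41_1 D10829 (iv D8474) (iv F39627)
def n10830 : Q := act 6 n8475
theorem D10830 : act 6 n8475 = n10830 := rfl
theorem F49862 : act 0 n10830 = n8476 := d5_1 D10830 (iv D8476) D8475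
theorem F49864 : act 4 n10830 = n8497 := d31_1 D10830 (iv D8497) (iv F39633)
def n10831 : Q := act 5 n8476
theorem D10831 : act 5 n8476 = n10831 := rfl
theorem F49866 : act 1 n10831 = n8477 := d12_1 D10831 (iv D8477) (iv F39636)
def n10832 : Q := act 7 n8476
theorem D10832 : act 7 n8476 = n10832 := rfl
theorem F49868 : act 4 n10832 = n8499 := d32_1 D10832 (iv D8499) (iv F39637)
theorem F49869 : act 6 n10832 = n8487 := d39_1 D10832 (iv D8487) (iv D6694) (iv F31709) D8476
def n10833 : Q := act 4 n8477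
theorem D10833 : act 4 n8477 = n10833 := rfl
theorem F49873 : act 5 n10833 = n8500 := d30_2 D8477 D10833 (iv D8500) (iv D6706) (iv F31713)
def n10834 : Q := act 7 n8477
theorem D10834 : act 7 n8477 = n10834 := rfl
def n10835 : Q := act 8 n8477
theorem D10835 : act 8 n8477 = n10835 := rfl
def n10836 : Q := act 7 n8479
theorem D10836 : act 7 n8479 = n10836 := rfl
theorem F49882 : act 4 n10836 = n8480 := d32_1 D10836 (iv D8480) D8479
theorem F49883 : act 5 n10836 = n8503 := d36_1 D10836 (iv D8503) (iv F39648)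
def n10837 : Q := act 8 n8479
theorem D10837 : act 8 n8479 = n10837 := rfl
theorem F49886 : act 4 n10837 = n8481 := d33_1 D10837 (iv D8481) D8479
def n10838 : Q := act 6 n8480
theorem D10838 : act 6 n8480 = n10838 := rfl
theorem F49889 : act 5 n10838 = n8490 := d35_1 D10838 (iv D8490) F31744 (iv F31720) (iv F39651)
def n10839 : Q := act 8 n8480
theorem D10839 : act 8 n8480 = n10839 := rfl
theorem F49891 : act 3 n10839 = n8483 := d28_1 D10839 (iv D8483) (iv F39650)
def n10842 : Q := act 9 n8483
theorem D10842 : act 9 n8483 = n10842 := rfl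
def n10843 : Q := act 5 n8485
theorem D10843 : act 5 n8485 = n10843 := rfl
def n10844 : Q := act 7 n8485
theorem D10844 : act 7 n8485 = n10844 := rfl
def n10845 : Q := act 7 n8486
theorem D10845 : act 7 n8486 = n10845 := rfl
theorem F49913 : act 5 n10845 = n8487 := d36_1 D10845 (iv D8487) D8486
def n10846 : Q := act 8 n8486
theorem D10846 : act 8 n8486 = n10846 := rfl
def n10847 : Q := act 6 n8488
theorem D10847 : act 6 n8488 = n10847 := rfl
def n10848 : Q := act 8 n8488
theorem D10848 : act 8 n8488 = n10848 := rfl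
theorem F49921 : act 2 n10848 = n8491 := d22_1 D10848 (iv D8491) (iv F39675)
def n10849 : Q := act 9 n8489
theorem D10849 : act 9 n8489 = n10849 := rfl
def n10850 : Q := act 8 n8490
theorem D10850 : act 8 n8490 = n10850 := rfl
theorem F49932 : act 6 n10850 = n8491 := d40_1 D10850 (iv D8491) D8490
def n10851 : Q := act 9 n8491
theorem D10851 : act 9 n8491 = n10851 := rfl
theorem F49937 : act 7 n10851 = n8492 := d43_1 D10851 (iv D8492) (iv F39689)
def n10852 : Q := act 5 n8493
theorem D10852 : act 5 n8493 = n10852 := rfl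
def n10853 : Q := act 9 n8493
theorem D10853 : act 9 n8493 = n10853 := rfl
def n10854 : Q := act 4 n8495
theorem D10854 : act 4 n8495 = n10854 := rfl
def n10855 : Q := act 9 n8495
theorem D10855 : act 9 n8495 = n10855 := rfl
theorem F49948 : act 5 n10855 = n8496 := d38_1 D10855 (iv D8496) D8495
def n10856 : Q := act 5 n8497
theorem D10856 : act 5 n8497 = n10856 := rfl
theorem F49953 : act 6 n10856 = n8509 := d35_2 D8497 D10856 (iv D8509) (iv D6715) (iv F31767)
def n10857 : Q := act 7 n8497
theorem D10857 : act 7 n8497 = n10857 := rfl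
def n10858 : Q := act 4 n8498
theorem D10858 : act 4 n8498 = n10858 := rfl
theorem F49960 : act 6 n10858 = n8510 := d31_2 (iv F39714) D10858 (iv D8510)
def n10859 : Q := act 7 n8498
theorem D10859 : act 7 n8498 = n10859 := rfl
theorem F49963 : act 5 n10859 = n8499 := d36_1 D10859 (iv D8499) D8498
def n10860 : Q := act 8 n8498
theorem D10860 : act 8 n8498 = n10860 := rfl
theorem F49968 : act 6 n10860 = n8511 := d40_1 D10860 (iv D8511) (iv F39714)
def n10861 : Q := act 3 n8500
theorem D10861 : act 3 n8500 = n10861 := rfl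
theorem F49971 : act 4 n10861 = n8806 := d24_2 D8500 D10861 (iv D8806) (iv D6946) (iv F31775)
theorem F49972 : act 6 n10861 = n8512 := d26_2 (iv F39721) D10861 (iv D8512)
def n10862 : Q := act 7 n8500
theorem D10862 : act 7 n8500 = n10862 := rfl
theorem F49974 : act 2 n10862 = n8503 := d21_1 D10862 (iv D8503) (iv F39720)
def n10863 : Q := act 8 n8500
theorem D10863 : act 8 n8500 = n10863 := rfl
theorem F49980 : act 6 n10863 = n8513 := d40_1 D10863 (iv D8513) (iv F39721)
def n10864 : Q := act 8 n8501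
theorem D10864 : act 8 n8501 = n10864 := rfl
theorem F49986 : act 7 n10864 = n8502 := d42_1 D10864 (iv D8502) D8501
def n10865 : Q := act 9 n8502
theorem D10865 : act 9 n8502 = n10865 := rfl
theorem F49991 : act 6 n10865 = n8514 := d41_1 D10865 (iv D8514) (iv F39731)
def n10866 : Q := act 8 n8503
theorem D10866 : act 8 n8503 = n10866 := rfl
theorem F49996 : act 7 n10866 = n8504 := d42_1 D10866 (iv D8504) D8503
def n10867 : Q := act 5 n8504
theorem D10867 : act 5 n8504 = n10867 := rfl
def n10868 : Q := act 9 n8504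
theorem D10868 : act 9 n8504 = n10868 := rfl
theorem F50004 : act 6 n10868 = n8515 := d41_1 D10868 (iv D8515) (iv F39739)
def n10869 : Q := act 9 n8505
theorem D10869 : act 9 n8505 = n10869 := rfl
theorem F50009 : act 7 n10869 = n8506 := d43_1 D10869 (iv D8506) (iv F39744)
def n10870 : Q := act 4 n8509
theorem D10870 : act 4 n8509 = n10870 := rfl
def n10871 : Q := act 8 n8509
theorem D10871 : act 8 n8509 = n10871 := rfl
theorem F50015 : act 3 n10871 = n8816 := d28_1 D10871 (iv D8816) (iv F39762)
def n10872 : Q := act 3 n8510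
theorem D10872 : act 3 n8510 = n10872 := rfl
theorem F50019 : act 4 n10872 = n8817 := d24_2 D8510 D10872 (iv D8817) (iv D6956) (iv F31819)
def n10873 : Q := act 8 n8510
theorem D10873 : act 8 n8510 = n10873 := rfl
def n10874 : Q := act 9 n8511
theorem D10874 : act 9 n8511 = n10874 := rfl
theorem F50026 : act 3 n10874 = n8819 := d29_1 D10874 (iv D8819) (iv F39767)
def n10875 : Q := act 8 n8512
theorem D10875 : act 8 n8512 = n10875 := rfl
theorem F50031 : act 3 n10875 = n8513 := d28_1 D10875 (iv D8513) D8512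
theorem F50032 : act 4 n10875 = n8820 := d33_1 D10875 (iv D8820) (iv F39772)
def n10876 : Q := act 9 n8513
theorem D10876 : act 9 n8513 = n10876 := rfl
theorem F50036 : act 2 n10876 = n8515 := d23_1 D10876 (iv D8515) (iv F39775)
def n10877 : Q := act 9 n8516
theorem D10877 : act 9 n8516 = n10877 := rfl
theorem F50042 : act 3 n10877 = n8826 := d29_1 D10877 (iv D8826) (iv F39791)
def n10878 : Q := act 5 n8518
theorem D10878 : act 5 n8518 = n10878 := rfl
theorem F50048 : act 1 n10878 = n8519 := d12_1 D10878 (iv D8519) (iv F39802)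
def n10879 : Q := act 7 n8518
theorem D10879 : act 7 n8518 = n10879 := rfl
theorem F50055 : act 4 n10879 = n8837 := d32_1 D10879 (iv D8837) (iv F39804)
def n10880 : Q := act 4 n8519
theorem D10880 : act 4 n8519 = n10880 := rfl
theorem F50058 : act 0 n10880 = n8527 := d3_1 D10880 (iv D8527) (iv F39806)
theorem F50059 : act 2 n10880 = n8521 := d18_1 D10880 (iv D8521) (iv F39807)
theorem F50060 : act 5 n10880 = n8838 := d30_2 D8519 D10880 (iv D8838) (iv D6975) (iv F31865)
theorem F50061 : act 6 n10880 = n10880 := d31_2 F39808 D10880 (iv D10880)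
def n10881 : Q := act 7 n8519
theorem D10881 : act 7 n8519 = n10881 := rfl
def n10882 : Q := act 8 n8519
theorem D10882 : act 8 n8519 = n10882 := rfl
def n10883 : Q := act 7 n8521
theorem D10883 : act 7 n8521 = n10883 := rfl
theorem F50073 : act 4 n10883 = n8522 := d32_1 D10883 (iv D8522) D8521
theorem F50074 : act 5 n10883 = n8841 := d36_1 D10883 (iv D8841) (iv F39818)
def n10884 : Q := act 8 n8521
theorem D10884 : act 8 n8521 = n10884 := rfl
theorem F50079 : act 4 n10884 = n8523 := d33_1 D10884 (iv D8523) D8521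
def n10887 : Q := act 9 n8523
theorem D10887 : act 9 n8523 = n10887 := rfl
theorem F50093 : act 3 n10887 = n8526 := d29_1 D10887 (iv D8526) (iv F39828)
def n10890 : Q := act 3 n8527
theorem D10890 : act 3 n8527 = n10890 := rfl
theorem F50107 : act 2 n10890 = n10890 := d17_1 D10890 (iv D10890) F39846 F31897 (iv F39846)
theorem F50108 : act 5 n10890 = n8848 := d25_2 (iv F39847) D10890 (iv D8848)
def n10891 : Q := act 7 n8527
theorem D10891 : act 7 n8527 = n10891 := rfl
theorem F50113 : act 4 n10891 = n8528 := d32_1 D10891 (iv D8528) D8527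
theorem F50114 : act 5 n10891 = n8849 := d36_1 D10891 (iv D8849) (iv F39847)
def n10892 : Q := act 8 n8527
theorem D10892 : act 8 n8527 = n10892 := rfl
theorem F50118 : act 4 n10892 = n8529 := d33_1 D10892 (iv D8529) D8527
def n10894 : Q := act 8 n8528
theorem D10894 : act 8 n8528 = n10894 := rfl
def n10895 : Q := act 9 n8529
theorem D10895 : act 9 n8529 = n10895 := rfl
def n10897 : Q := act 8 n8530
theorem D10897 : act 8 n8530 = n10897 := rfl
theorem F50139 : act 4 n10897 = n8533 := d33_1 D10897 (iv D8533) (iv F39859)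
def n10901 : Q := act 9 n8533
theorem D10901 : act 9 n8533 = n10901 := rfl
theorem F50154 : act 3 n10901 = n8536 := d29_1 D10901 (iv D8536) (iv F39872)
def n10906 : Q := act 5 n8538
theorem D10906 : act 5 n8538 = n10906 := rfl
theorem F50185 : act 8 n10906 = n8864 := d37_2 D8538 D10906 (iv D8864) (iv D6994) (iv F31924)
def n10907 : Q := act 9 n8538
theorem D10907 : act 9 n8538 = n10907 := rfl
theorem F50189 : act 4 n10907 = n8542 := d34_1 D10907 (iv D8542) (iv F39895)
def n10917 : Q := act 2 n8547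
theorem D10917 : act 2 n8547 = n10917 := rfl
theorem F50241 : act 8 n10917 = n8553 := d22_2 (iv F39937) D10917 (iv D8553)
def n10918 : Q := act 6 n8547
theorem D10918 : act 6 n8547 = n10918 := rfl
theorem F50246 : act 8 n10918 = n8554 := d40_2 (iv F39937) D10918 (iv D8554)
def n10919 : Q := act 5 n8548
theorem D10919 : act 5 n8548 = n10919 := rfl
def n10920 : Q := act 7 n8548
theorem D10920 : act 7 n8548 = n10920 := rfl
theorem F50256 : act 4 n10920 = n8549 := d32_1 D10920 (iv D8549) (iv F39942)
theorem F50257 : act 8 n10920 = n8556 := d42_2 (iv F39943) D10920 (iv D8556)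
def n10921 : Q := act 2 n8550
theorem D10921 : act 2 n8550 = n10921 := rfl
theorem F50262 : act 7 n10921 = n8553 := d21_2 (iv F39954) D10921 (iv D8553)
theorem F50263 : act 9 n10921 = n8702 := d23_2 (iv F39955) D10921 (iv D8702)
def n10925 : Q := act 1 n8553
theorem D10925 : act 1 n8553 = n10925 := rfl
theorem F50284 : act 9 n10925 = n8706 := d16_2 (iv F39970) D10925 (iv D8706)
def n10926 : Q := act 6 n8553
theorem D10926 : act 6 n8553 = n10926 := rfl
theorem F50286 : act 2 n10926 = n8554 := d20_1 D10926 (iv D8554) D8553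
theorem F50288 : act 9 n10926 = n8707 := d41_2 (iv F39970) D10926 (iv D8707)
def n10927 : Q := act 5 n8554
theorem D10927 : act 5 n8554 = n10927 := rfl
theorem F50291 : act 3 n10927 = n8555 := d25_1 D10927 (iv D8555) (iv F39973)
theorem F50293 : act 9 n10927 = n8708 := d38_2 (iv F39974) D10927 (iv D8708)
def n10928 : Q := act 7 n8554
theorem D10928 : act 7 n8554 = n10928 := rfl
def n10929 : Q := act 7 n8555
theorem D10929 : act 7 n8555 = n10929 := rfl
theorem F50301 : act 4 n10929 = n8561 := d32_1 D10929 (iv D8561) (iv F39978)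
theorem F50302 : act 5 n10929 = n8556 := d36_1 D10929 (iv D8556) D8555
def n10931 : Q := act 6 n8557
theorem D10931 : act 6 n8557 = n10931 := rfl
theorem F50314 : act 9 n10931 = n8712 := d41_2 (iv F39992) D10931 (iv D8712)
def n10932 : Q := act 5 n8558
theorem D10932 : act 5 n8558 = n10932 := rfl
theorem F50319 : act 9 n10932 = n8713 := d38_2 (iv F39997) D10932 (iv D8713)
def n10935 : Q := act 7 n8559
theorem D10935 : act 7 n8559 = n10935 := rfl
theorem F50333 : act 5 n10935 = n8560 := d36_1 D10935 (iv D8560) D8559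
theorem F50334 : act 9 n10935 = n8716 := d43_2 (iv F40002) D10935 (iv D8716)
def n10936 : Q := act 8 n8559
theorem D10936 : act 8 n8559 = n10936 := rfl
def n10937 : Q := act 6 n8561
theorem D10937 : act 6 n8561 = n10937 := rfl
theorem F50345 : act 9 n10937 = n8718 := d41_2 (iv F40013) D10937 (iv D8718)
def n10938 : Q := act 8 n8561
theorem D10938 : act 8 n8561 = n10938 := rfl
theorem F50350 : act 7 n10938 = n8562 := d42_1 D10938 (iv D8562) D8561
def n10939 : Q := act 9 n8562
theorem D10939 : act 9 n8562 = n10939 := rfl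
def n10940 : Q := act 2 n8563
theorem D10940 : act 2 n8563 = n10940 := rfl
theorem F50358 : act 5 n10940 = n8568 := d19_2 (iv F40020) D10940 (iv D8568)
def n10941 : Q := act 6 n8563
theorem D10941 : act 6 n8563 = n10941 := rfl
def n10943 : Q := act 2 n8565
theorem D10943 : act 2 n8565 = n10943 := rfl
theorem F50373 : act 7 n10943 = n8568 := d21_2 (iv F40030) D10943 (iv D8568)
theorem F50374 : act 8 n10943 = n8572 := d22_2 (iv F40031) D10943 (iv D8572)
def n10946 : Q := act 1 n8568
theorem D10946 : act 1 n8568 = n10946 := rfl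
theorem F50390 : act 8 n10946 = n8576 := d15_2 (iv F40045) D10946 (iv D8576)
def n10947 : Q := act 6 n8568
theorem D10947 : act 6 n8568 = n10947 := rfl
theorem F50394 : act 8 n10947 = n8577 := d40_2 (iv F40045) D10947 (iv D8577)
def n10948 : Q := act 5 n8569
theorem D10948 : act 5 n8569 = n10948 := rfl
def n10949 : Q := act 7 n8569
theorem D10949 : act 7 n8569 = n10949 := rfl
theorem F50401 : act 8 n10949 = n8579 := d42_2 (iv F40049) D10949 (iv D8579)
def n10950 : Q := act 7 n8570
theorem D10950 : act 7 n8570 = n10950 := rfl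
theorem F50406 : act 5 n10950 = n8571 := d36_1 D10950 (iv D8571) D8570
def n10951 : Q := act 8 n8570
theorem D10951 : act 8 n8570 = n10951 := rfl
def n10952 : Q := act 1 n8572
theorem D10952 : act 1 n8572 = n10952 := rfl
theorem F50413 : act 2 n10952 = n8606 := d9_2 D8572 D10952 (iv D8606) (iv D6790) (iv F32058)
theorem F50416 : act 7 n10952 = n8576 := d14_2 (iv F40062) D10952 (iv D8576)
theorem F50417 : act 9 n10952 = n8721 := d16_2 (iv F40063) D10952 (iv D8721)
def n10953 : Q := act 6 n8572
theorem D10953 : act 6 n8572 = n10953 := rfl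
theorem F50420 : act 9 n10953 = n8722 := d41_2 (iv F40063) D10953 (iv D8722)
def n10956 : Q := act 7 n8574
theorem D10956 : act 7 n8574 = n10956 := rfl
theorem F50434 : act 8 n10956 = n10956 := d42_2 F40071 D10956 (iv D10956)
theorem F50435 : act 9 n10956 = n8725 := d43_2 (iv F40072) D10956 (iv D8725)
def n10957 : Q := act 0 n8576
theorem D10957 : act 0 n8576 = n10957 := rfl
theorem F50439 : act 9 n10957 = n8727 := d8_2 (iv F40081) D10957 (iv D8727)
def n10958 : Q := act 6 n8576
theorem D10958 : act 6 n8576 = n10958 := rfl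
theorem F50440 : act 1 n10958 = n8577 := d13_1 D10958 (iv D8577) D8576
theorem F50443 : act 9 n10958 = n8728 := d41_2 (iv F40081) D10958 (iv D8728)
def n10959 : Q := act 5 n8577
theorem D10959 : act 5 n8577 = n10959 := rfl
theorem F50444 : act 2 n10959 = n8578 := d19_1 D10959 (iv D8578) (iv F40082)
def n10960 : Q := act 7 n8577
theorem D10960 : act 7 n8577 = n10960 := rfl
def n10961 : Q := act 4 n8578
theorem D10961 : act 4 n8578 = n10961 := rfl
theorem F50452 : act 3 n10961 = n8584 := d24_1 D10961 (iv D8584) F32092 (iv F32079) (iv F40086)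
def n10962 : Q := act 7 n8578
theorem D10962 : act 7 n8578 = n10962 := rfl
theorem F50456 : act 3 n10962 = n8580 := d27_1 D10962 (iv D8580) (iv F40086)
theorem F50457 : act 5 n10962 = n8579 := d36_1 D10962 (iv D8579) D8578
def n10963 : Q := act 8 n8578
theorem D10963 : act 8 n8578 = n10963 := rfl
def n10964 : Q := act 6 n8580
theorem D10964 : act 6 n8580 = n10964 := rfl
theorem F50464 : act 4 n10964 = n8587 := d31_1 D10964 (iv D8587) (iv F40094)
def n10965 : Q := act 8 n8580
theorem D10965 : act 8 n8580 = n10965 := rfl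
def n10967 : Q := act 4 n8582
theorem D10967 : act 4 n8582 = n10967 := rfl
theorem F50479 : act 9 n10967 = n8737 := d34_2 (iv F40105) D10967 (iv D8737)
def n10968 : Q := act 7 n8582
theorem D10968 : act 7 n8582 = n10968 := rfl
theorem F50483 : act 5 n10968 = n8583 := d36_1 D10968 (iv D8583) D8582
theorem F50484 : act 9 n10968 = n8738 := d43_2 (iv F40105) D10968 (iv D8738)
def n10970 : Q := act 7 n8584
theorem D10970 : act 7 n8584 = n10970 := rfl
theorem F50491 : act 4 n10970 = n8585 := d32_1 D10970 (iv D8585) D8584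
def n10971 : Q := act 8 n8584
theorem D10971 : act 8 n8584 = n10971 := rfl
def n10972 : Q := act 6 n8585
theorem D10972 : act 6 n8585 = n10972 := rfl
theorem F50500 : act 9 n10972 = n8742 := d41_2 (iv F40118) D10972 (iv D8742)
def n10973 : Q := act 8 n8585
theorem D10973 : act 8 n8585 = n10973 := rfl
theorem F50504 : act 7 n10973 = n8586 := d42_1 D10973 (iv D8586) D8585
def n10974 : Q := act 9 n8586
theorem D10974 : act 9 n8586 = n10974 := rfl
def n10975 : Q := act 8 n8587
theorem D10975 : act 8 n8587 = n10975 := rfl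
theorem F50512 : act 6 n10975 = n8588 := d40_1 D10975 (iv D8588) D8587
def n10976 : Q := act 9 n8588
theorem D10976 : act 9 n8588 = n10976 := rfl
theorem F50517 : act 7 n10976 = n8589 := d43_1 D10976 (iv D8589) (iv F40131)
def n10977 : Q := act 2 n8590
theorem D10977 : act 2 n8590 = n10977 := rfl
theorem F50521 : act 4 n10977 = n8593 := d18_2 (iv F40138) D10977 (iv D8593)
def n10979 : Q := act 5 n8591
theorem D10979 : act 5 n8591 = n10979 := rfl
theorem F50533 : act 7 n10979 = n10979 := d36_2 F40144 D10979 (iv D10979)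
def n10980 : Q := act 2 n8592
theorem D10980 : act 2 n8592 = n10980 := rfl
theorem F50537 : act 5 n10980 = n8597 := d19_2 (iv F40148) D10980 (iv D8597)
def n10981 : Q := act 1 n8593
theorem D10981 : act 1 n8593 = n10981 := rfl
theorem F50543 : act 5 n10981 = n8600 := d12_2 (iv F40155) D10981 (iv D8600)
def n10982 : Q := act 6 n8593
theorem D10982 : act 6 n8593 = n10982 := rfl
def n10983 : Q := act 5 n8594
theorem D10983 : act 5 n8594 = n10983 := rfl
theorem F50554 : act 6 n10983 = n8602 := d35_2 D8594 D10983 (iv D8602) (iv D6787) (iv F32127)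
def n10984 : Q := act 8 n8595
theorem D10984 : act 8 n8595 = n10984 := rfl
theorem F50561 : act 6 n10984 = n8605 := d40_1 D10984 (iv D8605) (iv F40166)
def n10985 : Q := act 1 n8597
theorem D10985 : act 1 n8597 = n10985 := rfl
theorem F50563 : act 3 n10985 = n8633 := d10_2 (iv F40177) D10985 (iv D8633)
theorem F50564 : act 7 n10985 = n8600 := d14_2 (iv F40178) D10985 (iv D8600)
theorem F50565 : act 8 n10985 = n8606 := d15_2 (iv F40179) D10985 (iv D8606)
def n10986 : Q := act 6 n8597
theorem D10986 : act 6 n8597 = n10986 := rfl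
theorem F50569 : act 3 n10986 = n8634 := d26_1 D10986 (iv D8634) (iv F40177)
theorem F50571 : act 8 n10986 = n8607 := d40_2 (iv F40179) D10986 (iv D8607)
def n10987 : Q := act 7 n8598
theorem D10987 : act 7 n8598 = n10987 := rfl
theorem F50576 : act 6 n10987 = n8603 := d39_1 D10987 (iv D8603) (iv D6787) (iv F32143) D8598
def n10988 : Q := act 0 n8600
theorem D10988 : act 0 n8600 = n10988 := rfl
theorem F50581 : act 8 n10988 = n8611 := d7_2 (iv F40194) D10988 (iv D8611)
def n10989 : Q := act 6 n8600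
theorem D10989 : act 6 n8600 = n10989 := rfl
theorem F50585 : act 8 n10989 = n8612 := d40_2 (iv F40194) D10989 (iv D8612)
def n10990 : Q := act 5 n8601
theorem D10990 : act 5 n8601 = n10990 := rfl
def n10991 : Q := act 7 n8601
theorem D10991 : act 7 n8601 = n10991 := rfl
theorem F50594 : act 8 n10991 = n8614 := d42_2 (iv F40199) D10991 (iv D8614)
def n10992 : Q := act 4 n8602
theorem D10992 : act 4 n8602 = n10992 := rfl
def n10993 : Q := act 7 n8602
theorem D10993 : act 7 n8602 = n10993 := rfl
theorem F50601 : act 5 n10993 = n8603 := d36_1 D10993 (iv D8603) D8602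
def n10994 : Q := act 8 n8602
theorem D10994 : act 8 n8602 = n10994 := rfl
def n10995 : Q := act 8 n8604
theorem D10995 : act 8 n8604 = n10995 := rfl
theorem F50610 : act 5 n10995 = n8619 := d37_1 D10995 (iv D8619) F32210 (iv F32172) (iv F40211)
theorem F50612 : act 7 n10995 = n8605 := d42_1 D10995 (iv D8605) D8604
def n10996 : Q := act 9 n8605
theorem D10996 : act 9 n8605 = n10996 := rfl
def n10997 : Q := act 0 n8606
theorem D10997 : act 0 n8606 = n10997 := rfl
theorem F50619 : act 3 n10997 = n8645 := d2_2 (iv F40218) D10997 (iv D8645)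
theorem F50622 : act 9 n10997 = n8747 := d8_2 (iv F40221) D10997 (iv D8747)
def n10998 : Q := act 6 n8606
theorem D10998 : act 6 n8606 = n10998 := rfl
theorem F50624 : act 3 n10998 = n8646 := d26_1 D10998 (iv D8646) (iv F40218)
theorem F50625 : act 9 n10998 = n8748 := d41_2 (iv F40221) D10998 (iv D8748)
def n10999 : Q := act 5 n8607
theorem D10999 : act 5 n8607 = n10999 := rfl
theorem F50627 : act 2 n10999 = n8608 := d19_1 D10999 (iv D8608) (iv F40223)
theorem F50628 : act 3 n10999 = n8647 := d25_1 D10999 (iv D8647) (iv F40224)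
theorem F50631 : act 9 n10999 = n8749 := d38_2 (iv F40225) D10999 (iv D8749)
def n11000 : Q := act 7 n8607
theorem D11000 : act 7 n8607 = n11000 := rfl
theorem F50635 : act 6 n11000 = n8614 := d39_1 D11000 (iv D8614) (iv D6795) (iv F32177) D8607
def n11001 : Q := act 4 n8608
theorem D11001 : act 4 n8608 = n11001 := rfl
theorem F50641 : act 9 n11001 = n8751 := d34_2 (iv F40230) D11001 (iv D8751)
def n11002 : Q := act 7 n8608
theorem D11002 : act 7 n8608 = n11002 := rfl
theorem F50644 : act 5 n11002 = n8609 := d36_1 D11002 (iv D8609) D8608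
def n11004 : Q := act 6 n8611
theorem D11004 : act 6 n8611 = n11004 := rfl
theorem F50654 : act 0 n11004 = n8612 := d5_1 D11004 (iv D8612) D8611
theorem F50657 : act 9 n11004 = n8756 := d41_2 (iv F40244) D11004 (iv D8756)
def n11005 : Q := act 5 n8612
theorem D11005 : act 5 n8612 = n11005 := rfl
theorem F50658 : act 1 n11005 = n8613 := d12_1 D11005 (iv D8613) (iv F40245)
def n11006 : Q := act 7 n8612
theorem D11006 : act 7 n8612 = n11006 := rfl
theorem F50664 : act 9 n11006 = n8758 := d43_2 (iv F40247) D11006 (iv D8758)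
def n11007 : Q := act 4 n8613
theorem D11007 : act 4 n8613 = n11007 := rfl
theorem F50666 : act 2 n11007 = n8615 := d18_1 D11007 (iv D8615) (iv F40249)
def n11008 : Q := act 7 n8613
theorem D11008 : act 7 n8613 = n11008 := rfl
theorem F50671 : act 2 n11008 = n8616 := d21_1 D11008 (iv D8616) (iv F40249)
theorem F50673 : act 5 n11008 = n8614 := d36_1 D11008 (iv D8614) D8613
def n11009 : Q := act 8 n8613
theorem D11009 : act 8 n8613 = n11009 := rfl
def n11010 : Q := act 7 n8615
theorem D11010 : act 7 n8615 = n11010 := rfl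
theorem F50680 : act 3 n11010 = n8621 := d27_1 D11010 (iv D8621) (iv F40258)
theorem F50681 : act 4 n11010 = n8616 := d32_1 D11010 (iv D8616) D8615
def n11011 : Q := act 8 n8615
theorem D11011 : act 8 n8615 = n11011 := rfl
def n11012 : Q := act 6 n8616
theorem D11012 : act 6 n8616 = n11012 := rfl
theorem F50688 : act 3 n11012 = n8618 := d26_1 D11012 (iv D8618) (iv F40262)
def n11013 : Q := act 8 n8616
theorem D11013 : act 8 n8616 = n11013 := rfl
theorem F50693 : act 7 n11013 = n8617 := d42_1 D11013 (iv D8617) D8616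
def n11014 : Q := act 9 n8617
theorem D11014 : act 9 n8617 = n11014 := rfl
def n11015 : Q := act 8 n8618
theorem D11015 : act 8 n8618 = n11015 := rfl
theorem F50700 : act 4 n11015 = n8626 := d33_1 D11015 (iv D8626) (iv F40270)
theorem F50702 : act 6 n11015 = n8619 := d40_1 D11015 (iv D8619) D8618
def n11016 : Q := act 9 n8619
theorem D11016 : act 9 n8619 = n11016 := rfl
theorem F50707 : act 7 n11016 = n8620 := d43_1 D11016 (iv D8620) (iv F40276)
def n11017 : Q := act 6 n8621
theorem D11017 : act 6 n8621 = n11017 := rfl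
theorem F50711 : act 4 n11017 = n8623 := d31_1 D11017 (iv D8623) (iv F40284)
def n11018 : Q := act 8 n8621
theorem D11018 : act 8 n8621 = n11018 := rfl
theorem F50717 : act 7 n11018 = n8622 := d42_1 D11018 (iv D8622) D8621
def n11020 : Q := act 9 n8622
theorem D11020 : act 9 n8622 = n11020 := rfl
def n11021 : Q := act 8 n8623
theorem D11021 : act 8 n8623 = n11021 := rfl
theorem F50729 : act 6 n11021 = n8624 := d40_1 D11021 (iv D8624) D8623
def n11022 : Q := act 9 n8624
theorem D11022 : act 9 n8624 = n11022 := rfl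
theorem F50735 : act 7 n11022 = n8625 := d43_1 D11022 (iv D8625) (iv F40300)
def n11023 : Q := act 5 n8626
theorem D11023 : act 5 n8626 = n11023 := rfl
def n11024 : Q := act 9 n8626
theorem D11024 : act 9 n8626 = n11024 := rfl
theorem F50745 : act 6 n11024 = n8627 := d41_1 D11024 (iv D8627) (iv F40309)
theorem F50747 : act 8 n11024 = n8776 := d44_1 D11024 (iv D8776) (iv D6920) (iv F32234) D8626
def n11028 : Q := act 5 n8630
theorem D11028 : act 5 n8630 = n11028 := rfl
theorem F50769 : act 6 n11028 = n8638 := d35_2 D8630 D11028 (iv D8638) (iv D6815) (iv F32254)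
def n11031 : Q := act 9 n8632
theorem D11031 : act 9 n8632 = n11031 := rfl
theorem F50789 : act 6 n11031 = n8644 := d41_1 D11031 (iv D8644) (iv F40344)
def n11032 : Q := act 0 n8633
theorem D11032 : act 0 n8633 = n11032 := rfl
theorem F50794 : act 4 n11032 = n8666 := d3_2 (iv F40347) D11032 (iv D8666)
def n11033 : Q := act 6 n8633
theorem D11033 : act 6 n8633 = n11033 := rfl
theorem F50800 : act 4 n11033 = n8667 := d31_1 D11033 (iv D8667) (iv F40347)
def n11035 : Q := act 6 n8636
theorem D11035 : act 6 n8636 = n11035 := rfl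
theorem F50815 : act 8 n11035 = n8652 := d40_2 (iv F40368) D11035 (iv D8652)
def n11036 : Q := act 5 n8637
theorem D11036 : act 5 n8637 = n11036 := rfl
def n11037 : Q := act 7 n8637
theorem D11037 : act 7 n8637 = n11037 := rfl
theorem F50823 : act 8 n11037 = n8654 := d42_2 (iv F40373) D11037 (iv D8654)
def n11038 : Q := act 4 n8638
theorem D11038 : act 4 n8638 = n11038 := rfl
theorem F50827 : act 5 n11038 = n8678 := d30_2 D8638 D11038 (iv D8678) (iv D6846) (iv F32303)
def n11039 : Q := act 7 n8638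
theorem D11039 : act 7 n8638 = n11039 := rfl
theorem F50831 : act 5 n11039 = n8639 := d36_1 D11039 (iv D8639) D8638
def n11040 : Q := act 8 n8638
theorem D11040 : act 8 n8638 = n11040 := rfl
def n11041 : Q := act 7 n8640
theorem D11041 : act 7 n8640 = n11041 := rfl
theorem F50840 : act 4 n11041 = n8641 := d32_1 D11041 (iv D8641) D8640
theorem F50841 : act 5 n11041 = n8680 := d36_1 D11041 (iv D8680) (iv F40386)
def n11042 : Q := act 8 n8640
theorem D11042 : act 8 n8640 = n11042 := rfl
def n11043 : Q := act 8 n8641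
theorem D11043 : act 8 n8641 = n11043 := rfl
theorem F50852 : act 5 n11043 = n8658 := d37_1 D11043 (iv D8658) F32375 (iv F32314) (iv F40391)
theorem F50854 : act 7 n11043 = n8642 := d42_1 D11043 (iv D8642) D8641
def n11044 : Q := act 9 n8642
theorem D11044 : act 9 n8642 = n11044 := rfl
def n11045 : Q := act 9 n8643
theorem D11045 : act 9 n8643 = n11045 := rfl
theorem F50863 : act 5 n11045 = n8661 := d38_1 D11045 (iv D8661) (iv F40401)
theorem F50865 : act 7 n11045 = n8644 := d43_1 D11045 (iv D8644) (iv F40403)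
def n11046 : Q := act 6 n8645
theorem D11046 : act 6 n8645 = n11046 := rfl
theorem F50870 : act 4 n11046 = n8682 := d31_1 D11046 (iv D8682) (iv F40411)
theorem F50871 : act 9 n11046 = n8777 := d41_2 (iv F40414) D11046 (iv D8777)
def n11047 : Q := act 5 n8646
theorem D11047 : act 5 n8646 = n11047 := rfl
def n11049 : Q := act 4 n8647
theorem D11049 : act 4 n8647 = n11049 := rfl
theorem F50884 : act 5 n11049 = n8685 := d30_2 D8647 D11049 (iv D8685) (iv D6853) (iv F32333)
theorem F50887 : act 9 n11049 = n8780 := d34_2 (iv F40423) D11049 (iv D8780)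
def n11050 : Q := act 7 n8647
theorem D11050 : act 7 n8647 = n11050 := rfl
theorem F50890 : act 5 n11050 = n8648 := d36_1 D11050 (iv D8648) D8647
theorem F50892 : act 9 n11050 = n8781 := d43_2 (iv F40423) D11050 (iv D8781)
def n11051 : Q := act 7 n8649
theorem D11051 : act 7 n8649 = n11051 := rfl
theorem F50896 : act 4 n11051 = n8650 := d32_1 D11051 (iv D8650) D8649
theorem F50897 : act 5 n11051 = n8688 := d36_1 D11051 (iv D8688) (iv F40432)
def n11052 : Q := act 6 n8650
theorem D11052 : act 6 n8650 = n11052 := rfl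
theorem F50903 : act 5 n11052 = n8657 := d35_1 D11052 (iv D8657) F32375 (iv F32345) (iv F40439)
def n11053 : Q := act 5 n8652
theorem D11053 : act 5 n8652 = n11053 := rfl
theorem F50907 : act 0 n11053 = n8653 := d4_1 D11053 (iv D8653) (iv F40449)
def n11054 : Q := act 7 n8652
theorem D11054 : act 7 n8652 = n11054 := rfl
def n11055 : Q := act 7 n8653
theorem D11055 : act 7 n8653 = n11055 := rfl
theorem F50918 : act 1 n11055 = n8655 := d14_1 D11055 (iv D8655) (iv F40454)
theorem F50921 : act 5 n11055 = n8654 := d36_1 D11055 (iv D8654) D8653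
theorem F50922 : act 9 n11055 = n8790 := d43_2 (iv F40458) D11055 (iv D8790)
def n11056 : Q := act 8 n8653
theorem D11056 : act 8 n8653 = n11056 := rfl
def n11057 : Q := act 6 n8655
theorem D11057 : act 6 n8655 = n11057 := rfl
theorem F50928 : act 2 n11057 = n8657 := d20_1 D11057 (iv D8657) (iv F40464)
def n11058 : Q := act 8 n8655
theorem D11058 : act 8 n8655 = n11058 := rfl
theorem F50935 : act 7 n11058 = n8656 := d42_1 D11058 (iv D8656) D8655
def n11059 : Q := act 9 n8656
theorem D11059 : act 9 n8656 = n11059 := rfl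
def n11060 : Q := act 8 n8657
theorem D11060 : act 8 n8657 = n11060 := rfl
theorem F50943 : act 3 n11060 = n8660 := d28_1 D11060 (iv D8660) (iv F40474)
theorem F50946 : act 6 n11060 = n8658 := d40_1 D11060 (iv D8658) D8657
def n11061 : Q := act 9 n8658
theorem D11061 : act 9 n8658 = n11061 := rfl
theorem F50952 : act 7 n11061 = n8659 := d43_1 D11061 (iv D8659) (iv F40482)
def n11062 : Q := act 9 n8660
theorem D11062 : act 9 n8660 = n11062 := rfl
theorem F50956 : act 4 n11062 = n8663 := d34_1 D11062 (iv D8663) (iv F40491)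
theorem F50958 : act 6 n11062 = n8661 := d41_1 D11062 (iv D8661) (iv F40493)
def n11063 : Q := act 9 n8662
theorem D11063 : act 9 n8662 = n11063 := rfl
theorem F50965 : act 5 n11063 = n8663 := d38_1 D11063 (iv D8663) D8662
def n11065 : Q := act 8 n8664
theorem D11065 : act 8 n8664 = n11065 := rfl
theorem F50980 : act 7 n11065 = n8665 := d42_1 D11065 (iv D8665) D8664
def n11066 : Q := act 9 n8665
theorem D11066 : act 9 n8665 = n11066 := rfl
theorem F50984 : act 4 n11066 = n8674 := d34_1 D11066 (iv D8674) (iv F40522)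
def n11067 : Q := act 6 n8666
theorem D11067 : act 6 n8666 = n11067 := rfl
theorem F50991 : act 8 n11067 = n8682 := d40_2 (iv F40529) D11067 (iv D8682)
def n11068 : Q := act 5 n8667
theorem D11068 : act 5 n8667 = n11068 := rfl
def n11069 : Q := act 7 n8667
theorem D11069 : act 7 n8667 = n11069 := rfl
def n11070 : Q := act 7 n8668
theorem D11070 : act 7 n8668 = n11070 := rfl
theorem F51006 : act 5 n11070 = n8669 := d36_1 D11070 (iv D8669) D8668
def n11071 : Q := act 8 n8668
theorem D11071 : act 8 n8668 = n11071 := rfl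
theorem F51011 : act 5 n11071 = n8687 := d37_1 D11071 (iv D8687) (iv D6853) (iv F32427) D8668
def n11072 : Q := act 6 n8670
theorem D11072 : act 6 n8670 = n11072 := rfl
theorem F51017 : act 5 n11072 = n8681 := d35_1 D11072 (iv D8681) F32476 (iv F32438) (iv F40549)
def n11073 : Q := act 8 n8670
theorem D11073 : act 8 n8670 = n11073 := rfl
theorem F51025 : act 7 n11073 = n8671 := d42_1 D11073 (iv D8671) D8670
def n11074 : Q := act 9 n8671
theorem D11074 : act 9 n8671 = n11074 := rfl
theorem F51030 : act 5 n11074 = n8691 := d38_1 D11074 (iv D8691) (iv F40555)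
def n11076 : Q := act 9 n8673
theorem D11076 : act 9 n8673 = n11076 := rfl
theorem F51041 : act 7 n11076 = n8674 := d43_1 D11076 (iv D8674) (iv F40565)
def n11081 : Q := act 3 n8678
theorem D11081 : act 3 n8678 = n11081 := rfl
def n11082 : Q := act 7 n8678
theorem D11082 : act 7 n8678 = n11082 := rfl
theorem F51071 : act 4 n11082 = n8679 := d32_1 D11082 (iv D8679) D8678
def n11083 : Q := act 6 n8679
theorem D11083 : act 6 n8679 = n11083 := rfl
def n11084 : Q := act 6 n8680
theorem D11084 : act 6 n8680 = n11084 := rfl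
theorem F51082 : act 4 n11084 = n8681 := d31_1 D11084 (iv D8681) (iv F40598)
def n11085 : Q := act 5 n8682
theorem D11085 : act 5 n8682 = n11085 := rfl
theorem F51090 : act 6 n11085 = n8694 := d35_2 D8682 D11085 (iv D8694) (iv D6862) (iv F32487)
theorem F51091 : act 9 n11085 = n8801 := d38_2 (iv F40610) D11085 (iv D8801)
def n11087 : Q := act 4 n8683
theorem D11087 : act 4 n8683 = n11087 := rfl
theorem F51099 : act 6 n11087 = n8695 := d31_2 (iv F40613) D11087 (iv D8695)
theorem F51100 : act 9 n11087 = n8803 := d34_2 (iv F40614) D11087 (iv D8803)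
def n11089 : Q := act 8 n8683
theorem D11089 : act 8 n8683 = n11089 := rfl
theorem F51108 : act 6 n11089 = n8696 := d40_1 D11089 (iv D8696) (iv F40613)
def n11090 : Q := act 3 n8685
theorem D11090 : act 3 n8685 = n11090 := rfl
theorem F51111 : act 6 n11090 = n8697 := d26_2 (iv F40621) D11090 (iv D8697)
def n11091 : Q := act 7 n8685
theorem D11091 : act 7 n8685 = n11091 := rfl
def n11092 : Q := act 8 n8685
theorem D11092 : act 8 n8685 = n11092 := rfl
theorem F51122 : act 6 n11092 = n8698 := d40_1 D11092 (iv D8698) (iv F40621)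
def n11093 : Q := act 8 n8686
theorem D11093 : act 8 n8686 = n11093 := rfl
theorem F51126 : act 7 n11093 = n8687 := d42_1 D11093 (iv D8687) D8686
def n11094 : Q := act 9 n8687
theorem D11094 : act 9 n8687 = n11094 := rfl
theorem F51129 : act 6 n11094 = n8699 := d41_1 D11094 (iv D8699) (iv F40630)
def n11095 : Q := act 8 n8688
theorem D11095 : act 8 n8688 = n11095 := rfl
theorem F51137 : act 7 n11095 = n8689 := d42_1 D11095 (iv D8689) D8688
def n11096 : Q := act 9 n8689
theorem D11096 : act 9 n8689 = n11096 := rfl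
theorem F51143 : act 6 n11096 = n8701 := d41_1 D11096 (iv D8701) (iv F40642)
def n11097 : Q := act 9 n8690
theorem D11097 : act 9 n8690 = n11097 := rfl
theorem F51149 : act 7 n11097 = n8691 := d43_1 D11097 (iv D8691) (iv F40647)
def n11098 : Q := act 4 n8694
theorem D11098 : act 4 n8694 = n11098 := rfl
theorem F51156 : act 9 n11098 = n8815 := d34_2 (iv F40668) D11098 (iv D8815)
def n11099 : Q := act 8 n8694
theorem D11099 : act 8 n8694 = n11099 := rfl
def n11100 : Q := act 3 n8695
theorem D11100 : act 3 n8695 = n11100 := rfl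
theorem F51165 : act 9 n11100 = n8817 := d29_2 (iv F40673) D11100 (iv D8817)
def n11101 : Q := act 8 n8695
theorem D11101 : act 8 n8695 = n11101 := rfl
theorem F51168 : act 4 n11101 = n8696 := d33_1 D11101 (iv D8696) D8695
def n11102 : Q := act 9 n8696
theorem D11102 : act 9 n8696 = n11102 := rfl
def n11103 : Q := act 8 n8697
theorem D11103 : act 8 n8697 = n11103 := rfl
def n11104 : Q := act 5 n8698
theorem D11104 : act 5 n8698 = n11104 := rfl
def n11105 : Q := act 9 n8698
theorem D11105 : act 9 n8698 = n11105 := rfl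
theorem F51187 : act 4 n11105 = n8699 := d34_1 D11105 (iv D8699) (iv F40685)
theorem F51189 : act 8 n11105 = n8822 := d44_1 D11105 (iv D8822) (iv D6959) (iv F32550) D8698
def n11106 : Q := act 9 n8700
theorem D11106 : act 9 n8700 = n11106 := rfl
theorem F51194 : act 5 n11106 = n8701 := d38_1 D11106 (iv D8701) D8700
def n11107 : Q := act 1 n8702
theorem D11107 : act 1 n8702 = n11107 := rfl
theorem F51200 : act 7 n11107 = n8706 := d14_2 (iv F40708) D11107 (iv D8706)
def n11108 : Q := act 6 n8702
theorem D11108 : act 6 n8702 = n11108 := rfl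
theorem F51203 : act 2 n11108 = n8703 := d20_1 D11108 (iv D8703) D8702
def n11109 : Q := act 5 n8703
theorem D11109 : act 5 n8703 = n11109 := rfl
theorem F51206 : act 0 n11109 = n8723 := d4_1 D11109 (iv D8723) (iv F40710)
theorem F51208 : act 3 n11109 = n8704 := d25_1 D11109 (iv D8704) (iv F40712)
def n11110 : Q := act 7 n8703
theorem D11110 : act 7 n8703 = n11110 := rfl
theorem F51213 : act 6 n11110 = n8709 := d39_1 D11110 (iv D8709) (iv D6872) (iv F32569) D8703
def n11112 : Q := act 8 n8704
theorem D11112 : act 8 n8704 = n11112 := rfl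
theorem F51220 : act 0 n11112 = n8726 := d7_1 D11112 (iv D8726) (iv F40714)
theorem F51222 : act 2 n11112 = n11112 := d22_1 D11112 (iv D11112) F40716
def n11113 : Q := act 0 n8706
theorem D11113 : act 0 n8706 = n11113 := rfl
def n11114 : Q := act 6 n8706
theorem D11114 : act 6 n8706 = n11114 := rfl
theorem F51232 : act 1 n11114 = n8707 := d13_1 D11114 (iv D8707) D8706
def n11115 : Q := act 5 n8707
theorem D11115 : act 5 n8707 = n11115 := rfl
theorem F51237 : act 2 n11115 = n8708 := d19_1 D11115 (iv D8708) (iv F40730)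
def n11116 : Q := act 7 n8707
theorem D11116 : act 7 n8707 = n11116 := rfl
def n11117 : Q := act 4 n8708
theorem D11117 : act 4 n8708 = n11117 := rfl
theorem F51246 : act 3 n11117 = n8715 := d24_1 D11117 (iv D8715) F32612 (iv F32593) (iv F40735)
def n11118 : Q := act 7 n8708
theorem D11118 : act 7 n8708 = n11118 := rfl
theorem F51250 : act 3 n11118 = n8710 := d27_1 D11118 (iv D8710) (iv F40735)
theorem F51251 : act 5 n11118 = n8709 := d36_1 D11118 (iv D8709) D8708
def n11119 : Q := act 8 n8708
theorem D11119 : act 8 n8708 = n11119 := rfl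
def n11120 : Q := act 6 n8710
theorem D11120 : act 6 n8710 = n11120 := rfl
theorem F51260 : act 4 n11120 = n8718 := d31_1 D11120 (iv D8718) (iv F40744)
def n11121 : Q := act 8 n8710
theorem D11121 : act 8 n8710 = n11121 := rfl
theorem F51267 : act 7 n11121 = n8711 := d42_1 D11121 (iv D8711) D8710
def n11122 : Q := act 9 n8711
theorem D11122 : act 9 n8711 = n11122 := rfl
def n11123 : Q := act 5 n8712
theorem D11123 : act 5 n8712 = n11123 := rfl
theorem F51275 : act 1 n11123 = n8713 := d12_1 D11123 (iv D8713) (iv F40753)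
def n11124 : Q := act 7 n8712
theorem D11124 : act 7 n8712 = n11124 := rfl
theorem F51284 : act 8 n11124 = n8837 := d42_2 (iv F40756) D11124 (iv D8837)
def n11125 : Q := act 4 n8713
theorem D11125 : act 4 n8713 = n11125 := rfl
def n11126 : Q := act 7 n8713
theorem D11126 : act 7 n8713 = n11126 := rfl
theorem F51289 : act 2 n11126 = n8716 := d21_1 D11126 (iv D8716) (iv F40758)
def n11127 : Q := act 8 n8713
theorem D11127 : act 8 n8713 = n11127 := rfl
theorem F51295 : act 5 n11127 = n8840 := d37_1 D11127 (iv D8840) (iv D6975) (iv F32609) D8713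
def n11128 : Q := act 7 n8715
theorem D11128 : act 7 n8715 = n11128 := rfl
theorem F51299 : act 4 n11128 = n8716 := d32_1 D11128 (iv D8716) D8715
def n11129 : Q := act 8 n8715
theorem D11129 : act 8 n8715 = n11129 := rfl
def n11130 : Q := act 6 n8716
theorem D11130 : act 6 n8716 = n11130 := rfl
def n11131 : Q := act 8 n8716
theorem D11131 : act 8 n8716 = n11131 := rfl
theorem F51312 : act 5 n11131 = n8844 := d37_1 D11131 (iv D8844) F33072 (iv F32618) (iv F40772)
theorem F51313 : act 7 n11131 = n8717 := d42_1 D11131 (iv D8717) D8716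
def n11132 : Q := act 9 n8717
theorem D11132 : act 9 n8717 = n11132 := rfl
def n11133 : Q := act 8 n8718
theorem D11133 : act 8 n8718 = n11133 := rfl
theorem F51322 : act 6 n11133 = n8719 := d40_1 D11133 (iv D8719) D8718
def n11134 : Q := act 9 n8719
theorem D11134 : act 9 n8719 = n11134 := rfl
theorem F51328 : act 7 n11134 = n8720 := d43_1 D11134 (iv D8720) (iv F40787)
def n11135 : Q := act 0 n8721
theorem D11135 : act 0 n8721 = n11135 := rfl
theorem F51329 : act 2 n11135 = n8747 := d1_2 (iv F40793) D11135 (iv D8747)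
theorem F51332 : act 7 n11135 = n8727 := d6_2 (iv F40796) D11135 (iv D8727)
def n11136 : Q := act 6 n8721
theorem D11136 : act 6 n8721 = n11136 := rfl
theorem F51334 : act 1 n11136 = n8722 := d13_1 D11136 (iv D8722) D8721
theorem F51335 : act 2 n11136 = n8748 := d20_1 D11136 (iv D8748) (iv F40793)
def n11137 : Q := act 5 n8722
theorem D11137 : act 5 n8722 = n11137 := rfl
theorem F51338 : act 2 n11137 = n8723 := d19_1 D11137 (iv D8723) (iv F40798)
def n11138 : Q := act 7 n8722
theorem D11138 : act 7 n8722 = n11138 := rfl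
theorem F51343 : act 6 n11138 = n8730 := d39_1 D11138 (iv D8730) (iv D6886) (iv F32630) D8722
def n11139 : Q := act 4 n8723
theorem D11139 : act 4 n8723 = n11139 := rfl
def n11140 : Q := act 7 n8723
theorem D11140 : act 7 n8723 = n11140 := rfl
theorem F51350 : act 5 n11140 = n8724 := d36_1 D11140 (iv D8724) D8723
def n11141 : Q := act 8 n8723
theorem D11141 : act 8 n8723 = n11141 := rfl
theorem F51351 : act 1 n11141 = n8753 := d15_1 D11141 (iv D8753) (iv F40801)
theorem F51352 : act 3 n11141 = n8726 := d28_1 D11141 (iv D8726) (iv F40802)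
def n11142 : Q := act 6 n8725
theorem D11142 : act 6 n8725 = n11142 := rfl
theorem F51359 : act 5 n11142 = n8734 := d35_1 D11142 (iv D8734) F32660 (iv F32642) (iv F40811)
def n11144 : Q := act 6 n8727
theorem D11144 : act 6 n8727 = n11144 := rfl
theorem F51367 : act 0 n11144 = n8728 := d5_1 D11144 (iv D8728) D8727
def n11145 : Q := act 5 n8728
theorem D11145 : act 5 n8728 = n11145 := rfl
theorem F51371 : act 1 n11145 = n8729 := d12_1 D11145 (iv D8729) (iv F40822)
def n11146 : Q := act 7 n8728
theorem D11146 : act 7 n8728 = n11146 := rfl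
def n11147 : Q := act 4 n8729
theorem D11147 : act 4 n8729 = n11147 := rfl
theorem F51379 : act 2 n11147 = n8731 := d18_1 D11147 (iv D8731) (iv F40826)
def n11148 : Q := act 7 n8729
theorem D11148 : act 7 n8729 = n11148 := rfl
theorem F51381 : act 2 n11148 = n8732 := d21_1 D11148 (iv D8732) (iv F40826)
theorem F51383 : act 5 n11148 = n8730 := d36_1 D11148 (iv D8730) D8729
def n11149 : Q := act 8 n8729
theorem D11149 : act 8 n8729 = n11149 := rfl
def n11150 : Q := act 7 n8731
theorem D11150 : act 7 n8731 = n11150 := rfl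
theorem F51389 : act 3 n11150 = n8740 := d27_1 D11150 (iv D8740) (iv F40833)
theorem F51390 : act 4 n11150 = n8732 := d32_1 D11150 (iv D8732) D8731
def n11151 : Q := act 8 n8731
theorem D11151 : act 8 n8731 = n11151 := rfl
theorem F51392 : act 3 n11151 = n8741 := d28_1 D11151 (iv D8741) (iv F40833)
def n11152 : Q := act 6 n8732
theorem D11152 : act 6 n8732 = n11152 := rfl
theorem F51396 : act 3 n11152 = n8734 := d26_1 D11152 (iv D8734) (iv F40836)
def n11153 : Q := act 8 n8732
theorem D11153 : act 8 n8732 = n11153 := rfl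
theorem F51401 : act 7 n11153 = n8733 := d42_1 D11153 (iv D8733) D8732
def n11154 : Q := act 9 n8733
theorem D11154 : act 9 n8733 = n11154 := rfl
def n11155 : Q := act 8 n8734
theorem D11155 : act 8 n8734 = n11155 := rfl
theorem F51408 : act 4 n11155 = n8745 := d33_1 D11155 (iv D8745) (iv F40844)
theorem F51409 : act 6 n11155 = n8735 := d40_1 D11155 (iv D8735) D8734
def n11156 : Q := act 9 n8735
theorem D11156 : act 9 n8735 = n11156 := rfl
theorem F51415 : act 7 n11156 = n8736 := d43_1 D11156 (iv D8736) (iv F40850)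
def n11157 : Q := act 3 n8737
theorem D11157 : act 3 n8737 = n11157 := rfl
def n11158 : Q := act 7 n8737
theorem D11158 : act 7 n8737 = n11158 := rfl
theorem F51421 : act 4 n11158 = n8738 := d32_1 D11158 (iv D8738) D8737
def n11159 : Q := act 8 n8737
theorem D11159 : act 8 n8737 = n11159 := rfl
def n11160 : Q := act 6 n8738
theorem D11160 : act 6 n8738 = n11160 := rfl
theorem F51427 : act 2 n11160 = n8742 := d20_1 D11160 (iv D8742) (iv F40860)
theorem F51430 : act 7 n11160 = n11160 := d39_2 D8738 D11160 (iv D11160) (iv D8738) F32669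
def n11161 : Q := act 8 n8738
theorem D11161 : act 8 n8738 = n11161 := rfl
theorem F51434 : act 5 n11161 = n8852 := d37_1 D11161 (iv D8852) F33103 (iv F32674) (iv F40862)
def n11163 : Q := act 6 n8740
theorem D11163 : act 6 n8740 = n11163 := rfl
theorem F51442 : act 4 n11163 = n8742 := d31_1 D11163 (iv D8742) (iv F40869)
def n11164 : Q := act 8 n8740
theorem D11164 : act 8 n8740 = n11164 := rfl
theorem F51446 : act 7 n11164 = n8741 := d42_1 D11164 (iv D8741) D8740
def n11165 : Q := act 5 n8741
theorem D11165 : act 5 n8741 = n11165 := rfl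
theorem F51448 : act 4 n11165 = n8856 := d30_1 D11165 (iv D8856) F33115 (iv F32682) (iv F40871)
def n11166 : Q := act 9 n8741
theorem D11166 : act 9 n8741 = n11166 := rfl
def n11167 : Q := act 8 n8742
theorem D11167 : act 8 n8742 = n11167 := rfl
theorem F51453 : act 3 n11167 = n8745 := d28_1 D11167 (iv D8745) (iv F40874)
theorem F51454 : act 6 n11167 = n8743 := d40_1 D11167 (iv D8743) D8742
def n11168 : Q := act 9 n8743
theorem D11168 : act 9 n8743 = n11168 := rfl
theorem F51459 : act 7 n11168 = n8744 := d43_1 D11168 (iv D8744) (iv F40880)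
def n11169 : Q := act 5 n8745
theorem D11169 : act 5 n8745 = n11169 := rfl
theorem F51462 : act 6 n11169 = n8860 := d35_2 (iv F40887) D11169 (iv D8860) F33132 (iv F32690)
def n11170 : Q := act 9 n8745
theorem D11170 : act 9 n8745 = n11170 := rfl
theorem F51467 : act 6 n11170 = n8746 := d41_1 D11170 (iv D8746) (iv F40887)
def n11171 : Q := act 6 n8747
theorem D11171 : act 6 n8747 = n11171 := rfl
theorem F51469 : act 0 n11171 = n8748 := d5_1 D11171 (iv D8748) D8747
theorem F51471 : act 3 n11171 = n8777 := d26_1 D11171 (iv D8777) (iv F40894)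
def n11172 : Q := act 5 n8748
theorem D11172 : act 5 n8748 = n11172 := rfl
theorem F51473 : act 1 n11172 = n8749 := d12_1 D11172 (iv D8749) (iv F40898)
theorem F51474 : act 3 n11172 = n8778 := d25_1 D11172 (iv D8778) (iv F40899)
def n11173 : Q := act 7 n8748
theorem D11173 : act 7 n8748 = n11173 := rfl
theorem F51477 : act 3 n11173 = n8779 := d27_1 D11173 (iv D8779) (iv F40899)
theorem F51478 : act 6 n11173 = n8758 := d39_1 D11173 (iv D8758) (iv D6906) (iv F32698) D8748
def n11174 : Q := act 4 n8749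
theorem D11174 : act 4 n8749 = n11174 := rfl
theorem F51481 : act 2 n11174 = n8751 := d18_1 D11174 (iv D8751) (iv F40902)
def n11175 : Q := act 7 n8749
theorem D11175 : act 7 n8749 = n11175 := rfl
theorem F51485 : act 3 n11175 = n8781 := d27_1 D11175 (iv D8781) (iv F40903)
theorem F51486 : act 5 n11175 = n8750 := d36_1 D11175 (iv D8750) D8749
def n11176 : Q := act 8 n8749
theorem D11176 : act 8 n8749 = n11176 := rfl
theorem F51488 : act 2 n11176 = n8753 := d22_1 D11176 (iv D8753) (iv F40902)
theorem F51489 : act 3 n11176 = n8782 := d28_1 D11176 (iv D8782) (iv F40903)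
def n11177 : Q := act 7 n8751
theorem D11177 : act 7 n8751 = n11177 := rfl
theorem F51495 : act 4 n11177 = n8752 := d32_1 D11177 (iv D8752) D8751
def n11178 : Q := act 8 n8751
theorem D11178 : act 8 n8751 = n11178 := rfl
theorem F51498 : act 4 n11178 = n8753 := d33_1 D11178 (iv D8753) D8751
def n11179 : Q := act 6 n8752
theorem D11179 : act 6 n8752 = n11179 := rfl
theorem F51503 : act 5 n11179 = n8764 := d35_1 D11179 (iv D8764) F32741 (iv F32709) (iv F40915)
def n11180 : Q := act 8 n8752
theorem D11180 : act 8 n8752 = n11180 := rfl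
theorem F51508 : act 7 n11180 = n8753 := d42_1 D11180 (iv D8753) D8752
def n11182 : Q := act 5 n8756
theorem D11182 : act 5 n8756 = n11182 := rfl
theorem F51516 : act 0 n11182 = n8757 := d4_1 D11182 (iv D8757) (iv F40932)
def n11183 : Q := act 7 n8756
theorem D11183 : act 7 n8756 = n11183 := rfl
def n11184 : Q := act 4 n8757
theorem D11184 : act 4 n8757 = n11184 := rfl
theorem F51524 : act 1 n11184 = n8759 := d11_1 D11184 (iv D8759) (iv F40936)
def n11185 : Q := act 7 n8757
theorem D11185 : act 7 n8757 = n11185 := rfl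
theorem F51527 : act 1 n11185 = n8760 := d14_1 D11185 (iv D8760) (iv F40936)
theorem F51529 : act 5 n11185 = n8758 := d36_1 D11185 (iv D8758) D8757
def n11186 : Q := act 8 n8757
theorem D11186 : act 8 n8757 = n11186 := rfl
def n11187 : Q := act 7 n8759
theorem D11187 : act 7 n8759 = n11187 := rfl
theorem F51535 : act 2 n11187 = n8762 := d21_1 D11187 (iv D8762) (iv F40943)
theorem F51537 : act 4 n11187 = n8760 := d32_1 D11187 (iv D8760) D8759
def n11188 : Q := act 8 n8759
theorem D11188 : act 8 n8759 = n11188 := rfl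
theorem F51539 : act 2 n11188 = n8763 := d22_1 D11188 (iv D8763) (iv F40943)
def n11189 : Q := act 6 n8760
theorem D11189 : act 6 n8760 = n11189 := rfl
theorem F51544 : act 2 n11189 = n8764 := d20_1 D11189 (iv D8764) (iv F40947)
def n11190 : Q := act 8 n8760
theorem D11190 : act 8 n8760 = n11190 := rfl
theorem F51551 : act 7 n11190 = n8761 := d42_1 D11190 (iv D8761) D8760
def n11191 : Q := act 9 n8761
theorem D11191 : act 9 n8761 = n11191 := rfl
def n11192 : Q := act 6 n8762
theorem D11192 : act 6 n8762 = n11192 := rfl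
theorem F51558 : act 3 n11192 = n8769 := d26_1 D11192 (iv D8769) (iv F40956)
theorem F51559 : act 4 n11192 = n8764 := d31_1 D11192 (iv D8764) (iv F40957)
def n11193 : Q := act 8 n8762
theorem D11193 : act 8 n8762 = n11193 := rfl
theorem F51564 : act 7 n11193 = n8763 := d42_1 D11193 (iv D8763) D8762
def n11194 : Q := act 5 n8763
theorem D11194 : act 5 n8763 = n11194 := rfl
theorem F51566 : act 3 n11194 = n8771 := d25_1 D11194 (iv D8771) (iv F40959)
def n11195 : Q := act 9 n8763
theorem D11195 : act 9 n8763 = n11195 := rfl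
def n11196 : Q := act 8 n8764
theorem D11196 : act 8 n8764 = n11196 := rfl
theorem F51573 : act 3 n11196 = n8767 := d28_1 D11196 (iv D8767) (iv F40963)
theorem F51574 : act 6 n11196 = n8765 := d40_1 D11196 (iv D8765) D8764
def n11197 : Q := act 9 n8765
theorem D11197 : act 9 n8765 = n11197 := rfl
theorem F51579 : act 7 n11197 = n8766 := d43_1 D11197 (iv D8766) (iv F40968)
def n11198 : Q := act 5 n8767
theorem D11198 : act 5 n8767 = n11198 := rfl
def n11199 : Q := act 9 n8767
theorem D11199 : act 9 n8767 = n11199 := rfl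
theorem F51586 : act 4 n11199 = n8776 := d34_1 D11199 (iv D8776) (iv F40975)
theorem F51587 : act 6 n11199 = n8768 := d41_1 D11199 (iv D8768) (iv F40976)
def n11201 : Q := act 8 n8769
theorem D11201 : act 8 n8769 = n11201 := rfl
theorem F51595 : act 4 n11201 = n8773 := d33_1 D11201 (iv D8773) (iv F40985)
theorem F51596 : act 6 n11201 = n8770 := d40_1 D11201 (iv D8770) D8769
def n11202 : Q := act 5 n8770
theorem D11202 : act 5 n8770 = n11202 := rfl
def n11203 : Q := act 9 n8770
theorem D11203 : act 9 n8770 = n11203 := rfl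
theorem F51608 : act 7 n11203 = n8772 := d43_1 D11203 (iv D8772) (iv F40990)
def n11204 : Q := act 6 n8771
theorem D11204 : act 6 n8771 = n11204 := rfl
theorem F51611 : act 4 n11204 = n8866 := d31_1 D11204 (iv D8866) (iv F40993)
def n11205 : Q := act 9 n8771
theorem D11205 : act 9 n8771 = n11205 := rfl
theorem F51616 : act 4 n11205 = n8867 := d34_1 D11205 (iv D8867) (iv F40993)
def n11206 : Q := act 5 n8773
theorem D11206 : act 5 n8773 = n11206 := rfl
theorem F51622 : act 6 n11206 = n8868 := d35_2 (iv F41001) D11206 (iv D8868) F33162 (iv F32775)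
def n11207 : Q := act 9 n8773
theorem D11207 : act 9 n8773 = n11207 := rfl
theorem F51628 : act 6 n11207 = n8774 := d41_1 D11207 (iv D8774) (iv F41001)
def n11208 : Q := act 4 n8775
theorem D11208 : act 4 n8775 = n11208 := rfl
theorem F51633 : act 6 n11208 = n8870 := d31_2 (iv F41010) D11208 (iv D8870)
def n11209 : Q := act 9 n8775
theorem D11209 : act 9 n8775 = n11209 := rfl
theorem F51638 : act 5 n11209 = n8776 := d38_1 D11209 (iv D8776) D8775
theorem F51639 : act 6 n11209 = n8871 := d41_1 D11209 (iv D8871) (iv F41010)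
def n11210 : Q := act 5 n8777
theorem D11210 : act 5 n8777 = n11210 := rfl
theorem F51641 : act 0 n11210 = n8778 := d4_1 D11210 (iv D8778) (iv F41017)
def n11211 : Q := act 7 n8777
theorem D11211 : act 7 n8777 = n11211 := rfl
theorem F51648 : act 4 n11211 = n8802 := d32_1 D11211 (iv D8802) (iv F41020)
theorem F51649 : act 6 n11211 = n8789 := d39_1 D11211 (iv D8789) (iv D6931) (iv F32794) D8777
def n11212 : Q := act 4 n8778
theorem D11212 : act 4 n8778 = n11212 := rfl
theorem F51651 : act 1 n11212 = n8780 := d11_1 D11212 (iv D8780) (iv F41022)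
theorem F51653 : act 5 n11212 = n8803 := d30_2 D8778 D11212 (iv D8803) (iv D6944) (iv F32798)
def n11213 : Q := act 7 n8778
theorem D11213 : act 7 n8778 = n11213 := rfl
theorem F51657 : act 5 n11213 = n8779 := d36_1 D11213 (iv D8779) D8778
def n11214 : Q := act 8 n8778
theorem D11214 : act 8 n8778 = n11214 := rfl
def n11215 : Q := act 3 n8780
theorem D11215 : act 3 n8780 = n11215 := rfl
theorem F51665 : act 5 n11215 = n8806 := d25_2 (iv F41032) D11215 (iv D8806)
def n11216 : Q := act 7 n8780
theorem D11216 : act 7 n8780 = n11216 := rfl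
theorem F51669 : act 4 n11216 = n8781 := d32_1 D11216 (iv D8781) D8780
theorem F51670 : act 5 n11216 = n8807 := d36_1 D11216 (iv D8807) (iv F41032)
def n11217 : Q := act 8 n8780
theorem D11217 : act 8 n8780 = n11217 := rfl
theorem F51673 : act 4 n11217 = n8782 := d33_1 D11217 (iv D8782) D8780
def n11218 : Q := act 6 n8781
theorem D11218 : act 6 n8781 = n11218 := rfl
theorem F51678 : act 5 n11218 = n8792 := d35_1 D11218 (iv D8792) F32850 (iv F32806) (iv F41036)
def n11219 : Q := act 8 n8781
theorem D11219 : act 8 n8781 = n11219 := rfl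
def n11220 : Q := act 6 n8783
theorem D11220 : act 6 n8783 = n11220 := rfl
theorem F51688 : act 4 n11220 = n8785 := d31_1 D11220 (iv D8785) (iv F41045)
def n11221 : Q := act 8 n8783
theorem D11221 : act 8 n8783 = n11221 := rfl
theorem F51694 : act 4 n11221 = n8786 := d33_1 D11221 (iv D8786) (iv F41045)
def n11222 : Q := act 5 n8784
theorem D11222 : act 5 n8784 = n11222 := rfl
theorem F51701 : act 8 n11222 = n8812 := d37_2 D8784 D11222 (iv D8812) (iv D6950) (iv F32811)
def n11223 : Q := act 8 n8785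
theorem D11223 : act 8 n8785 = n11223 := rfl
theorem F51706 : act 6 n11223 = n8786 := d40_1 D11223 (iv D8786) D8785
def n11224 : Q := act 5 n8787
theorem D11224 : act 5 n8787 = n11224 := rfl
theorem F51713 : act 8 n11224 = n8797 := d37_2 D8787 D11224 (iv D8797) (iv D6939) (iv F32826)
def n11225 : Q := act 7 n8788
theorem D11225 : act 7 n8788 = n11225 := rfl
theorem F51715 : act 0 n11225 = n8790 := d6_1 D11225 (iv D8790) (iv F41070)
theorem F51719 : act 5 n11225 = n8789 := d36_1 D11225 (iv D8789) D8788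
def n11227 : Q := act 6 n8790
theorem D11227 : act 6 n8790 = n11227 := rfl
theorem F51726 : act 1 n11227 = n8792 := d13_1 D11227 (iv D8792) (iv F41080)
def n11228 : Q := act 8 n8790
theorem D11228 : act 8 n8790 = n11228 := rfl
def n11230 : Q := act 8 n8792
theorem D11230 : act 8 n8792 = n11230 := rfl
theorem F51741 : act 2 n11230 = n8795 := d22_1 D11230 (iv D8795) (iv F41090)
theorem F51743 : act 6 n11230 = n8793 := d40_1 D11230 (iv D8793) D8792
def n11231 : Q := act 9 n8793
theorem D11231 : act 9 n8793 = n11231 := rfl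
theorem F51749 : act 7 n11231 = n8794 := d43_1 D11231 (iv D8794) (iv F41097)
def n11232 : Q := act 5 n8795
theorem D11232 : act 5 n8795 = n11232 := rfl
theorem F51752 : act 3 n11232 = n8797 := d25_1 D11232 (iv D8797) (iv F41105)
def n11233 : Q := act 9 n8795
theorem D11233 : act 9 n8795 = n11233 := rfl
theorem F51757 : act 3 n11233 = n8798 := d29_1 D11233 (iv D8798) (iv F41105)
theorem F51759 : act 6 n11233 = n8796 := d41_1 D11233 (iv D8796) (iv F41107)
def n11234 : Q := act 4 n8797
theorem D11234 : act 4 n8797 = n11234 := rfl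
theorem F51763 : act 5 n11234 = n8799 := d30_2 D8797 D11234 (iv D8799) (iv D6941) (iv F32875)
def n11235 : Q := act 9 n8797
theorem D11235 : act 9 n8797 = n11235 := rfl
def n11236 : Q := act 3 n8799
theorem D11236 : act 3 n8799 = n11236 := rfl
theorem F51776 : act 6 n11236 = n8872 := d26_2 (iv F41126) D11236 (iv D8872)
def n11237 : Q := act 9 n8799
theorem D11237 : act 9 n8799 = n11237 := rfl
theorem F51782 : act 6 n11237 = n8873 := d41_1 D11237 (iv D8873) (iv F41126)
def n11238 : Q := act 8 n8800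
theorem D11238 : act 8 n8800 = n11238 := rfl
theorem F51787 : act 6 n11238 = n8874 := d40_1 D11238 (iv D8874) (iv F41133)
def n11239 : Q := act 4 n8801
theorem D11239 : act 4 n8801 = n11239 := rfl
theorem F51790 : act 0 n11239 = n8803 := d3_1 D11239 (iv D8803) (iv F41135)
theorem F51793 : act 6 n11239 = n8815 := d31_2 (iv F41138) D11239 (iv D8815)
def n11240 : Q := act 7 n8801
theorem D11240 : act 7 n8801 = n11240 := rfl
theorem F51797 : act 5 n11240 = n8802 := d36_1 D11240 (iv D8802) D8801
def n11241 : Q := act 8 n8801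
theorem D11241 : act 8 n8801 = n11241 := rfl
theorem F51803 : act 6 n11241 = n8816 := d40_1 D11241 (iv D8816) (iv F41138)
def n11242 : Q := act 3 n8803
theorem D11242 : act 3 n8803 = n11242 := rfl
theorem F51804 : act 1 n11242 = n8806 := d10_1 D11242 (iv D8806) (iv F41144)
theorem F51805 : act 6 n11242 = n8817 := d26_2 (iv F41146) D11242 (iv D8817)
def n11243 : Q := act 7 n8803
theorem D11243 : act 7 n8803 = n11243 := rfl
def n11244 : Q := act 8 n8803
theorem D11244 : act 8 n8803 = n11244 := rfl
theorem F51813 : act 6 n11244 = n8818 := d40_1 D11244 (iv D8818) (iv F41146)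
def n11245 : Q := act 8 n8804
theorem D11245 : act 8 n8804 = n11245 := rfl
theorem F51818 : act 7 n11245 = n8805 := d42_1 D11245 (iv D8805) D8804
def n11246 : Q := act 9 n8805
theorem D11246 : act 9 n8805 = n11246 := rfl
theorem F51822 : act 6 n11246 = n8819 := d41_1 D11246 (iv D8819) (iv F41154)
def n11247 : Q := act 7 n8806
theorem D11247 : act 7 n8806 = n11247 := rfl
theorem F51826 : act 6 n11247 = n11247 := d39_1 D11247 (iv D11247) F41157 F32963 (iv F41157)
def n11248 : Q := act 8 n8806
theorem D11248 : act 8 n8806 = n11248 := rfl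
theorem F51830 : act 6 n11248 = n8820 := d40_1 D11248 (iv D8820) (iv F41157)
def n11249 : Q := act 8 n8807
theorem D11249 : act 8 n8807 = n11249 := rfl
theorem F51835 : act 7 n11249 = n8808 := d42_1 D11249 (iv D8808) D8807
def n11250 : Q := act 5 n8808
theorem D11250 : act 5 n8808 = n11250 := rfl
theorem F51837 : act 2 n11250 = n8812 := d19_1 D11250 (iv D8812) (iv F41163)
def n11251 : Q := act 9 n8808
theorem D11251 : act 9 n8808 = n11251 := rfl
theorem F51842 : act 6 n11251 = n8822 := d41_1 D11251 (iv D8822) (iv F41165)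
def n11252 : Q := act 9 n8809
theorem D11252 : act 9 n8809 = n11252 := rfl
theorem F51847 : act 7 n11252 = n8810 := d43_1 D11252 (iv D8810) (iv F41170)
def n11253 : Q := act 5 n8811
theorem D11253 : act 5 n8811 = n11253 := rfl
theorem F51852 : act 7 n11253 = n8812 := d36_2 (iv F41180) D11253 (iv D8812)
def n11254 : Q := act 9 n8811
theorem D11254 : act 9 n8811 = n11254 := rfl
theorem F51858 : act 7 n11254 = n8813 := d43_1 D11254 (iv D8813) (iv F41180)
def n11255 : Q := act 6 n8812
theorem D11255 : act 6 n8812 = n11255 := rfl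
theorem F51863 : act 5 n11255 = n8823 := d35_1 D11255 (iv D8823) (iv D6961) (iv F32925) D8812
def n11256 : Q := act 9 n8812
theorem D11256 : act 9 n8812 = n11256 := rfl
def n11257 : Q := act 3 n8815
theorem D11257 : act 3 n8815 = n11257 := rfl
theorem F51870 : act 0 n11257 = n8817 := d2_1 D11257 (iv D8817) (iv F41196)
def n11258 : Q := act 8 n8815
theorem D11258 : act 8 n8815 = n11258 := rfl
theorem F51877 : act 4 n11258 = n8816 := d33_1 D11258 (iv D8816) D8815
def n11259 : Q := act 9 n8816
theorem D11259 : act 9 n8816 = n11259 := rfl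
def n11260 : Q := act 2 n8817
theorem D11260 : act 2 n8817 = n11260 := rfl
def n11261 : Q := act 8 n8817
theorem D11261 : act 8 n8817 = n11261 := rfl
theorem F51889 : act 3 n11261 = n8818 := d28_1 D11261 (iv D8818) D8817
def n11262 : Q := act 5 n8818
theorem D11262 : act 5 n8818 = n11262 := rfl
theorem F51891 : act 1 n11262 = n8821 := d12_1 D11262 (iv D8821) (iv F41209)
theorem F51893 : act 4 n11262 = n8827 := d30_1 D11262 (iv D8827) F32999 (iv F32958) (iv F41211)
def n11263 : Q := act 9 n8818
theorem D11263 : act 9 n8818 = n11263 := rfl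
theorem F51898 : act 4 n11263 = n8819 := d34_1 D11263 (iv D8819) (iv F41211)
def n11264 : Q := act 5 n8820
theorem D11264 : act 5 n8820 = n11264 := rfl
theorem F51902 : act 3 n11264 = n8821 := d25_1 D11264 (iv D8821) (iv F41219)
def n11265 : Q := act 9 n8820
theorem D11265 : act 9 n8820 = n11265 := rfl
def n11266 : Q := act 6 n8821
theorem D11266 : act 6 n8821 = n11266 := rfl
theorem F51912 : act 4 n11266 = n8829 := d31_1 D11266 (iv D8829) (iv F41223)
def n11267 : Q := act 9 n8821
theorem D11267 : act 9 n8821 = n11267 := rfl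
theorem F51917 : act 5 n11267 = n8822 := d38_1 D11267 (iv D8822) D8821
def n11268 : Q := act 7 n8823
theorem D11268 : act 7 n8823 = n11268 := rfl
def n11269 : Q := act 9 n8823
theorem D11269 : act 9 n8823 = n11269 := rfl
theorem F51928 : act 4 n11269 = n8832 := d34_1 D11269 (iv D8832) (iv F41233)
theorem F51929 : act 6 n11269 = n8824 := d41_1 D11269 (iv D8824) D8823
def n11270 : Q := act 8 n8824
theorem D11270 : act 8 n8824 = n11270 := rfl
def n11271 : Q := act 5 n8825
theorem D11271 : act 5 n8825 = n11271 := rfl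
theorem F51936 : act 0 n11271 = n8827 := d4_1 D11271 (iv D8827) (iv F41241)
theorem F51938 : act 2 n11271 = n11271 := d19_1 D11271 (iv D11271) F41243
theorem F51939 : act 3 n11271 = n11271 := d25_1 D11271 (iv D11271) F41244
def n11272 : Q := act 9 n8825
theorem D11272 : act 9 n8825 = n11272 := rfl
theorem F51946 : act 4 n11272 = n8826 := d34_1 D11272 (iv D8826) (iv F41245)
theorem F51949 : act 8 n11272 = n11272 := d44_1 D11272 (iv D11272) (iv D8825) F32990 D8825
def n11273 : Q := act 6 n8827
theorem D11273 : act 6 n8827 = n11273 := rfl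
theorem F51950 : act 1 n11273 = n8829 := d13_1 D11273 (iv D8829) (iv F41254)
def n11274 : Q := act 9 n8827
theorem D11274 : act 9 n8827 = n11274 := rfl
theorem F51958 : act 5 n11274 = n8828 := d38_1 D11274 (iv D8828) D8827
def n11276 : Q := act 9 n8829
theorem D11276 : act 9 n8829 = n11276 := rfl
theorem F51967 : act 2 n11276 = n8832 := d23_1 D11276 (iv D8832) (iv F41267)
theorem F51970 : act 6 n11276 = n8830 := d41_1 D11276 (iv D8830) D8829
def n11277 : Q := act 8 n8830
theorem D11277 : act 8 n8830 = n11277 := rfl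
def n11279 : Q := act 8 n8832
theorem D11279 : act 8 n8832 = n11279 := rfl
theorem F51985 : act 3 n11279 = n8835 := d28_1 D11279 (iv D8835) (iv F41284)
theorem F51986 : act 6 n11279 = n8833 := d40_1 D11279 (iv D8833) (iv F41286)
def n11282 : Q := act 4 n8836
theorem D11282 : act 4 n8836 = n11282 := rfl
theorem F52002 : act 1 n11282 = n8838 := d11_1 D11282 (iv D8838) (iv F41307)
theorem F52004 : act 6 n11282 = n8875 := d31_2 (iv F41310) D11282 (iv D8875)
def n11283 : Q := act 7 n8836
theorem D11283 : act 7 n8836 = n11283 := rfl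
theorem F52006 : act 0 n11283 = n11283 := d6_1 D11283 (iv D11283) F41306
theorem F52007 : act 1 n11283 = n8839 := d14_1 D11283 (iv D8839) (iv F41307)
theorem F52008 : act 2 n11283 = n11283 := d21_1 D11283 (iv D11283) F41308
theorem F52009 : act 3 n11283 = n11283 := d27_1 D11283 (iv D11283) F41309
theorem F52010 : act 5 n11283 = n8837 := d36_1 D11283 (iv D8837) D8836
def n11284 : Q := act 8 n8836
theorem D11284 : act 8 n8836 = n11284 := rfl
theorem F52016 : act 6 n11284 = n8877 := d40_1 D11284 (iv D8877) (iv F41310)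
def n11285 : Q := act 3 n8838
theorem D11285 : act 3 n8838 = n11285 := rfl
theorem F52019 : act 4 n11285 = n11285 := d24_2 D8838 D11285 (iv D11285) (iv D8838) F33056
theorem F52020 : act 6 n11285 = n8878 := d26_2 (iv F41320) D11285 (iv D8878)
def n11286 : Q := act 7 n8838
theorem D11286 : act 7 n8838 = n11286 := rfl
def n11287 : Q := act 8 n8838
theorem D11287 : act 8 n8838 = n11287 := rfl
theorem F52029 : act 6 n11287 = n8880 := d40_1 D11287 (iv D8880) (iv F41320)
def n11288 : Q := act 6 n8839
theorem D11288 : act 6 n8839 = n11288 := rfl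
theorem F52031 : act 2 n11288 = n8843 := d20_1 D11288 (iv D8843) (iv F41323)
def n11289 : Q := act 8 n8839
theorem D11289 : act 8 n8839 = n11289 := rfl
def n11290 : Q := act 9 n8840
theorem D11290 : act 9 n8840 = n11290 := rfl
theorem F52043 : act 6 n11290 = n8883 := d41_1 D11290 (iv D8883) (iv F41330)
def n11291 : Q := act 6 n8841
theorem D11291 : act 6 n8841 = n11291 := rfl
theorem F52048 : act 4 n11291 = n8843 := d31_1 D11291 (iv D8843) (iv F41334)
theorem F52049 : act 7 n11291 = n8884 := d39_2 D8841 D11291 (iv D8884) (iv D7008) (iv F33067)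
def n11292 : Q := act 8 n8841
theorem D11292 : act 8 n8841 = n11292 := rfl
theorem F52055 : act 7 n11292 = n8842 := d42_1 D11292 (iv D8842) D8841
def n11293 : Q := act 5 n8842
theorem D11293 : act 5 n8842 = n11293 := rfl
theorem F52056 : act 0 n11293 = n8856 := d4_1 D11293 (iv D8856) (iv F41336)
def n11294 : Q := act 9 n8842
theorem D11294 : act 9 n8842 = n11294 := rfl
theorem F52063 : act 6 n11294 = n8887 := d41_1 D11294 (iv D8887) (iv F41340)
def n11295 : Q := act 8 n8843
theorem D11295 : act 8 n8843 = n11295 := rfl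
theorem F52067 : act 3 n11295 = n8846 := d28_1 D11295 (iv D8846) (iv F41343)
theorem F52068 : act 6 n11295 = n8844 := d40_1 D11295 (iv D8844) D8843
def n11296 : Q := act 9 n8844
theorem D11296 : act 9 n8844 = n11296 := rfl
theorem F52073 : act 7 n11296 = n8845 := d43_1 D11296 (iv D8845) (iv F41350)
def n11297 : Q := act 5 n8846
theorem D11297 : act 5 n8846 = n11297 := rfl
theorem F52075 : act 0 n11297 = n8860 := d4_1 D11297 (iv D8860) (iv F41356)
theorem F52078 : act 7 n11297 = n8890 := d36_2 (iv F41361) D11297 (iv D8890)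
def n11298 : Q := act 9 n8846
theorem D11298 : act 9 n8846 = n11298 := rfl
theorem F52084 : act 6 n11298 = n8847 := d41_1 D11298 (iv D8847) (iv F41360)
def n11299 : Q := act 7 n8848
theorem D11299 : act 7 n8848 = n11299 := rfl
theorem F52088 : act 2 n11299 = n11299 := d21_1 D11299 (iv D11299) F41369
theorem F52089 : act 3 n11299 = n8849 := d27_1 D11299 (iv D8849) D8848
theorem F52091 : act 9 n11299 = n11299 := d43_2 F41372 D11299 (iv D11299)
def n11300 : Q := act 8 n8848
theorem D11300 : act 8 n8848 = n11300 := rfl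
theorem F52096 : act 6 n11300 = n8893 := d40_1 D11300 (iv D8893) (iv F41371)
def n11301 : Q := act 6 n8849
theorem D11301 : act 6 n8849 = n11301 := rfl
theorem F52099 : act 4 n11301 = n8851 := d31_1 D11301 (iv D8851) (iv F41375)
def n11302 : Q := act 8 n8849
theorem D11302 : act 8 n8849 = n11302 := rfl
theorem F52104 : act 4 n11302 = n8852 := d33_1 D11302 (iv D8852) (iv F41375)
theorem F52105 : act 7 n11302 = n8850 := d42_1 D11302 (iv D8850) D8849
def n11303 : Q := act 5 n8850
theorem D11303 : act 5 n8850 = n11303 := rfl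
def n11304 : Q := act 9 n8850
theorem D11304 : act 9 n8850 = n11304 := rfl
theorem F52111 : act 6 n11304 = n8897 := d41_1 D11304 (iv D8897) (iv F41380)
def n11305 : Q := act 8 n8851
theorem D11305 : act 8 n8851 = n11305 := rfl
theorem F52114 : act 2 n11305 = n8858 := d22_1 D11305 (iv D8858) (iv F41382)
theorem F52116 : act 6 n11305 = n8852 := d40_1 D11305 (iv D8852) D8851
def n11306 : Q := act 9 n8852
theorem D11306 : act 9 n8852 = n11306 := rfl
def n11308 : Q := act 8 n8854
theorem D11308 : act 8 n8854 = n11308 := rfl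
theorem F52131 : act 4 n11308 = n8858 := d33_1 D11308 (iv D8858) (iv F41398)
theorem F52133 : act 6 n11308 = n8855 := d40_1 D11308 (iv D8855) D8854
def n11309 : Q := act 5 n8855
theorem D11309 : act 5 n8855 = n11309 := rfl
def n11310 : Q := act 9 n8855
theorem D11310 : act 9 n8855 = n11310 := rfl
def n11311 : Q := act 6 n8856
theorem D11311 : act 6 n8856 = n11311 := rfl
theorem F52144 : act 1 n11311 = n8866 := d13_1 D11311 (iv D8866) (iv F41405)
theorem F52146 : act 5 n11311 = n8904 := d35_1 D11311 (iv D8904) (iv D7023) (iv F33116) D8856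
def n11313 : Q := act 5 n8858
theorem D11313 : act 5 n8858 = n11313 := rfl
theorem F52152 : act 3 n11313 = n8860 := d25_1 D11313 (iv D8860) (iv F41413)
def n11314 : Q := act 9 n8858
theorem D11314 : act 9 n8858 = n11314 := rfl
theorem F52158 : act 6 n11314 = n8859 := d41_1 D11314 (iv D8859) (iv F41414)
def n11315 : Q := act 4 n8860
theorem D11315 : act 4 n8860 = n11315 := rfl
theorem F52161 : act 1 n11315 = n8870 := d11_1 D11315 (iv D8870) (iv F41420)
theorem F52165 : act 7 n11315 = n8908 := d32_2 (iv F41422) D11315 (iv D8908)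
def n11316 : Q := act 9 n8860
theorem D11316 : act 9 n8860 = n11316 := rfl
theorem F52169 : act 5 n11316 = n8861 := d38_1 D11316 (iv D8861) D8860
def n11317 : Q := act 9 n8863
theorem D11317 : act 9 n8863 = n11317 := rfl
theorem F52174 : act 4 n11317 = n8869 := d34_1 D11317 (iv D8869) (iv F41440)
theorem F52176 : act 6 n11317 = n8865 := d41_1 D11317 (iv D8865) (iv F41442)
def n11318 : Q := act 9 n8864
theorem D11318 : act 9 n8864 = n11318 := rfl
theorem F52182 : act 5 n11318 = n8865 := d38_1 D11318 (iv D8865) D8864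
def n11319 : Q := act 9 n8866
theorem D11319 : act 9 n8866 = n11319 := rfl
theorem F52189 : act 6 n11319 = n8867 := d41_1 D11319 (iv D8867) D8866
def n11321 : Q := act 9 n8868
theorem D11321 : act 9 n8868 = n11321 := rfl
theorem F52197 : act 3 n11321 = n8871 := d29_1 D11321 (iv D8871) (iv F41466)
theorem F52199 : act 5 n11321 = n8869 := d38_1 D11321 (iv D8869) D8868
def n11322 : Q := act 9 n8870
theorem D11322 : act 9 n8870 = n11322 := rfl
theorem F52202 : act 2 n11322 = n8873 := d23_1 D11322 (iv D8873) (iv F41477)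
theorem F52204 : act 4 n11322 = n8871 := d34_1 D11322 (iv D8871) D8870
def n11323 : Q := act 8 n8871
theorem D11323 : act 8 n8871 = n11323 := rfl
def n11324 : Q := act 9 n8872
theorem D11324 : act 9 n8872 = n11324 := rfl
theorem F52215 : act 3 n11324 = n8873 := d29_1 D11324 (iv D8873) D8872
def n11325 : Q := act 8 n8873
theorem D11325 : act 8 n8873 = n11325 := rfl
theorem F52221 : act 4 n11325 = n8874 := d33_1 D11325 (iv D8874) (iv F41495)
def n11326 : Q := act 3 n8875
theorem D11326 : act 3 n8875 = n11326 := rfl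
theorem F52225 : act 1 n11326 = n8878 := d10_1 D11326 (iv D8878) (iv F41505)
def n11327 : Q := act 7 n8875
theorem D11327 : act 7 n8875 = n11327 := rfl
theorem F52232 : act 4 n11327 = n8876 := d32_1 D11327 (iv D8876) D8875
def n11328 : Q := act 8 n8875
theorem D11328 : act 8 n8875 = n11328 := rfl
theorem F52236 : act 1 n11328 = n8880 := d15_1 D11328 (iv D8880) (iv F41505)
theorem F52238 : act 4 n11328 = n8877 := d33_1 D11328 (iv D8877) D8875
def n11331 : Q := act 9 n8877
theorem D11331 : act 9 n8877 = n11331 := rfl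
def n11333 : Q := act 8 n8878
theorem D11333 : act 8 n8878 = n11333 := rfl
theorem F52265 : act 3 n11333 = n8880 := d28_1 D11333 (iv D8880) D8878
def n11336 : Q := act 5 n8880
theorem D11336 : act 5 n8880 = n11336 := rfl
theorem F52276 : act 2 n11336 = n8886 := d19_1 D11336 (iv D8886) (iv F41531)
def n11337 : Q := act 9 n8880
theorem D11337 : act 9 n8880 = n11337 := rfl
theorem F52281 : act 4 n11337 = n8883 := d34_1 D11337 (iv D8883) (iv F41532)
def n11340 : Q := act 5 n8884
theorem D11340 : act 5 n8884 = n11340 := rfl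
theorem F52293 : act 0 n11340 = n8900 := d4_1 D11340 (iv D8900) (iv F41548)
theorem F52299 : act 8 n11340 = n11340 := d7_0 F52293 F41630 (iv F52293)
def n11341 : Q := act 8 n8884
theorem D11341 : act 8 n8884 = n11341 := rfl
theorem F52303 : act 4 n11341 = n8888 := d33_1 D11341 (iv D8888) (iv F41551)
theorem F52304 : act 5 n11341 = n11341 := d37_1 D11341 (iv D11341) D11340 F52299 (iv D11340)
theorem F52305 : act 6 n11341 = n8885 := d40_1 D11341 (iv D8885) D8884
def n11342 : Q := act 5 n8885
theorem D11342 : act 5 n8885 = n11342 := rfl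
theorem F52310 : act 6 n11342 = n11342 := d35_2 F52305 D11342 (iv D11342) (iv F52305) F52304
theorem F52311 : act 7 n11342 = n8886 := d36_2 (iv F41557) D11342 (iv D8886)
def n11344 : Q := act 6 n8886
theorem D11344 : act 6 n8886 = n11344 := rfl
theorem F52323 : act 7 n11344 = n11344 := d39_2 F52311 D11344 (iv D11344) (iv F52311) F52310
def n11345 : Q := act 9 n8886
theorem D11345 : act 9 n8886 = n11345 := rfl
theorem F52329 : act 5 n11345 = n8887 := d38_1 D11345 (iv D8887) D8886
def n11346 : Q := act 5 n8888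
theorem D11346 : act 5 n8888 = n11346 := rfl
theorem F52332 : act 3 n11346 = n8890 := d25_1 D11346 (iv D8890) (iv F41570)
theorem F52333 : act 4 n11346 = n11346 := d30_1 D11346 (iv D11346) (iv F52303) F52304 F52303
def n11348 : Q := act 4 n8890
theorem D11348 : act 4 n8890 = n11348 := rfl
theorem F52343 : act 2 n11348 = n11348 := d18_1 D11348 (iv D11348) F41580
theorem F52344 : act 3 n11348 = n11348 := d24_1 D11348 (iv D11348) (iv F52332) F52333 F52332
def n11349 : Q := act 9 n8890
theorem D11349 : act 9 n8890 = n11349 := rfl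
theorem F52351 : act 5 n11349 = n8891 := d38_1 D11349 (iv D8891) D8890
def n11350 : Q := act 6 n8892
theorem D11350 : act 6 n8892 = n11350 := rfl
def n11351 : Q := act 8 n8892
theorem D11351 : act 8 n8892 = n11351 := rfl
theorem F52362 : act 7 n11351 = n8893 := d42_1 D11351 (iv D8893) D8892
def n11352 : Q := act 5 n8893
theorem D11352 : act 5 n8893 = n11352 := rfl
theorem F52365 : act 3 n11352 = n8896 := d25_1 D11352 (iv D8896) (iv F41597)
def n11353 : Q := act 9 n8893
theorem D11353 : act 9 n8893 = n11353 := rfl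
def n11358 : Q := act 6 n8896
theorem D11358 : act 6 n8896 = n11358 := rfl
theorem F52395 : act 2 n11358 = n8904 := d20_1 D11358 (iv D8904) (iv F41608)
def n11359 : Q := act 9 n8896
theorem D11359 : act 9 n8896 = n11359 := rfl
theorem F52400 : act 2 n11359 = n8905 := d23_1 D11359 (iv D8905) (iv F41608)
theorem F52402 : act 5 n11359 = n8897 := d38_1 D11359 (iv D8897) D8896
def n11364 : Q := act 9 n8904
theorem D11364 : act 9 n8904 = n11364 := rfl
theorem F52429 : act 6 n11364 = n8905 := d41_1 D11364 (iv D8905) D8904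
theorem F52430 : act 7 n11364 = n11364 := d43_1 D11364 (iv D11364) F41650
def n11367 : Q := act 9 n8908
theorem D11367 : act 9 n8908 = n11367 := rfl
theorem F52442 : act 2 n11367 = n11367 := d23_1 D11367 (iv D11367) F41666
theorem F52443 : act 3 n11367 = n11367 := d29_1 D11367 (iv D11367) F41667
theorem F52444 : act 4 n11367 = n8909 := d34_1 D11367 (iv D8909) D8908
def n11375 : Q := act 6 n8919
theorem D11375 : act 6 n8919 = n11375 := rfl
theorem F52492 : act 0 n11375 = n11375 := d5_1 D11375 (iv D11375) F41730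
theorem F52493 : act 1 n11375 = n8953 := d13_1 D11375 (iv D8953) (iv F41731)
theorem F52494 : act 2 n11375 = n10660 := d20_1 D11375 (iv D10660) (iv F41732)
theorem F52495 : act 3 n11375 = n11375 := d26_1 D11375 (iv D11375) F41733
theorem F52496 : act 4 n11375 = n8920 := d31_1 D11375 (iv D8920) D8919
theorem F52497 : act 8 n11375 = n8929 := d40_2 (iv F41736) D11375 (iv D8929)
theorem F52498 : act 9 n11375 = n11375 := d41_2 F41737 D11375 (iv D11375)
def n11376 : Q := act 7 n8920
theorem D11376 : act 7 n8920 = n11376 := rfl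
theorem F52499 : act 0 n11376 = n11376 := d6_1 D11376 (iv D11376) F41738
theorem F52500 : act 1 n11376 = n8954 := d14_1 D11376 (iv D8954) (iv F41739)
theorem F52501 : act 2 n11376 = n10661 := d21_1 D11376 (iv D10661) (iv F41740)
theorem F52502 : act 3 n11376 = n8923 := d27_1 D11376 (iv D8923) (iv F41741)
theorem F52503 : act 5 n11376 = n10619 := d36_1 D11376 (iv D10619) (iv F41742)
theorem F52504 : act 6 n11376 = n11376 := d39_1 D11376 (iv D11376) (iv D8920) F33393 D8920
theorem F52505 : act 8 n11376 = n8930 := d42_2 (iv F41743) D11376 (iv D8930)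
theorem F52506 : act 9 n11376 = n11376 := d43_2 F41744 D11376 (iv D11376)
def n11377 : Q := act 3 n8921
theorem D11377 : act 3 n8921 = n11377 := rfl
theorem F52507 : act 0 n11377 = n11377 := d2_1 D11377 (iv D11377) F41745
theorem F52508 : act 1 n11377 = n8960 := d10_1 D11377 (iv D8960) (iv F41746)
theorem F52509 : act 4 n11377 = n10617 := d24_2 D8921 D11377 (iv D10617) (iv D8319) (iv F33399)
theorem F52510 : act 5 n11377 = n8924 := d25_2 (iv F41748) D11377 (iv D8924)
theorem F52511 : act 7 n11377 = n10614 := d27_2 (iv F41749) D11377 (iv D10614)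
theorem F52512 : act 8 n11377 = n10347 := d28_2 (iv F41750) D11377 (iv D10347)
theorem F52513 : act 9 n11377 = n11377 := d29_2 F41751 D11377 (iv D11377)
def n11378 : Q := act 6 n8921
theorem D11378 : act 6 n8921 = n11378 := rfl
theorem F52514 : act 0 n11378 = n11378 := d5_1 D11378 (iv D11378) F41745
theorem F52515 : act 1 n11378 = n8961 := d13_1 D11378 (iv D8961) (iv F41746)
theorem F52516 : act 2 n11378 = n11378 := d20_1 D11378 (iv D11378) F41747
theorem F52517 : act 4 n11378 = n8922 := d31_1 D11378 (iv D8922) D8921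
theorem F52518 : act 5 n11378 = n11378 := d35_1 D11378 (iv D11378) F41748 F33412 (iv F41748)
theorem F52519 : act 8 n11378 = n10348 := d40_2 (iv F41750) D11378 (iv D10348)
theorem F52520 : act 9 n11378 = n11378 := d41_2 F41751 D11378 (iv D11378)
def n11379 : Q := act 7 n8922
theorem D11379 : act 7 n8922 = n11379 := rfl
theorem F52521 : act 0 n11379 = n11379 := d6_1 D11379 (iv D11379) F41752
theorem F52522 : act 1 n11379 = n8962 := d14_1 D11379 (iv D8962) (iv F41753)
theorem F52523 : act 2 n11379 = n11379 := d21_1 D11379 (iv D11379) F41754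
theorem F52524 : act 3 n11379 = n10619 := d27_1 D11379 (iv D10619) (iv F41755)
theorem F52525 : act 5 n11379 = n8923 := d36_1 D11379 (iv D8923) (iv F41756)
theorem F52526 : act 6 n11379 = n10616 := d39_1 D11379 (iv D10616) (iv D8318) (iv F33400) D8922
theorem F52527 : act 8 n11379 = n10349 := d42_2 (iv F41757) D11379 (iv D10349)
theorem F52528 : act 9 n11379 = n11379 := d43_2 F41758 D11379 (iv D11379)
def n11380 : Q := act 2 n8924
theorem D11380 : act 2 n8924 = n11380 := rfl
theorem F52531 : act 4 n11380 = n10980 := d18_2 (iv F41768) D11380 (iv D10980)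
theorem F52532 : act 6 n11380 = n11380 := d20_2 F41769 D11380 (iv D11380)
theorem F52533 : act 7 n11380 = n10977 := d21_2 (iv F41770) D11380 (iv D10977)
def n11381 : Q := act 5 n8925
theorem D11381 : act 5 n8925 = n11381 := rfl
theorem F52536 : act 0 n11381 = n8926 := d4_1 D11381 (iv D8926) (iv F41773)
theorem F52537 : act 1 n11381 = n11381 := d12_1 D11381 (iv D11381) F41774
theorem F52538 : act 2 n11381 = n8968 := d19_1 D11381 (iv D8968) (iv F41775)
theorem F52539 : act 3 n11381 = n11381 := d25_1 D11381 (iv D11381) F41776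
theorem F52540 : act 7 n11381 = n11381 := d36_2 F41779 D11381 (iv D11381)
theorem F52541 : act 8 n11381 = n9294 := d37_2 D8925 D11381 (iv D9294) (iv D7337) (iv F33421)
theorem F52542 : act 9 n11381 = n8931 := d38_2 (iv F41780) D11381 (iv D8931)
def n11382 : Q := act 4 n8926
theorem D11382 : act 4 n8926 = n11382 := rfl
theorem F52543 : act 1 n11382 = n8927 := d11_1 D11382 (iv D8927) (iv F41781)
theorem F52544 : act 2 n11382 = n8971 := d18_1 D11382 (iv D8971) (iv F41782)
theorem F52545 : act 5 n11382 = n11382 := d30_2 D8926 D11382 (iv D11382) (iv D8926) F33427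
theorem F52546 : act 7 n11382 = n11382 := d32_2 F41784 D11382 (iv D11382)
theorem F52547 : act 8 n11382 = n9931 := d33_2 (iv F41785) D11382 (iv D9931)
theorem F52548 : act 9 n11382 = n8932 := d34_2 (iv F41786) D11382 (iv D8932)
def n11383 : Q := act 6 n8926
theorem D11383 : act 6 n8926 = n11383 := rfl
theorem F52549 : act 1 n11383 = n8928 := d13_1 D11383 (iv D8928) (iv F41781)
theorem F52550 : act 2 n11383 = n8972 := d20_1 D11383 (iv D8972) (iv F41782)
theorem F52551 : act 3 n11383 = n11383 := d26_1 D11383 (iv D11383) F41783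
theorem F52552 : act 5 n11383 = n10414 := d35_1 D11383 (iv D10414) (iv D8166) (iv F33428) D8926
theorem F52553 : act 8 n11383 = n9932 := d40_2 (iv F41785) D11383 (iv D9932)
theorem F52554 : act 9 n11383 = n8933 := d41_2 (iv F41786) D11383 (iv D8933)
def n11384 : Q := act 3 n8927
theorem D11384 : act 3 n8927 = n11384 := rfl
theorem F52555 : act 0 n11384 = n11384 := d2_1 D11384 (iv D11384) F41787
theorem F52556 : act 2 n11384 = n11384 := d17_1 D11384 (iv D11384) F41788 F33439 (iv F41788)
theorem F52557 : act 4 n11384 = n11384 := d24_2 D8927 D11384 (iv D11384) (iv D8927) F33433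
theorem F52558 : act 5 n11384 = n11384 := d25_2 F41789 D11384 (iv D11384)
theorem F52559 : act 7 n11384 = n11384 := d27_2 F41790 D11384 (iv D11384)
theorem F52560 : act 8 n11384 = n10659 := d28_2 (iv F41791) D11384 (iv D10659)
theorem F52561 : act 9 n11384 = n8934 := d29_2 (iv F41792) D11384 (iv D8934)
def n11385 : Q := act 6 n8927
theorem D11385 : act 6 n8927 = n11385 := rfl
theorem F52562 : act 0 n11385 = n11385 := d5_1 D11385 (iv D11385) F41787
theorem F52563 : act 2 n11385 = n8929 := d20_1 D11385 (iv D8929) (iv F41788)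
theorem F52564 : act 4 n11385 = n8928 := d31_1 D11385 (iv D8928) D8927
theorem F52565 : act 8 n11385 = n10660 := d40_2 (iv F41791) D11385 (iv D10660)
theorem F52566 : act 9 n11385 = n8935 := d41_2 (iv F41792) D11385 (iv D8935)
def n11386 : Q := act 7 n8928
theorem D11386 : act 7 n8928 = n11386 := rfl
theorem F52567 : act 0 n11386 = n11386 := d6_1 D11386 (iv D11386) F41793
theorem F52568 : act 2 n11386 = n8930 := d21_1 D11386 (iv D8930) (iv F41794)
theorem F52569 : act 3 n11386 = n11386 := d27_1 D11386 (iv D11386) F41795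
theorem F52570 : act 5 n11386 = n10445 := d36_1 D11386 (iv D10445) (iv F41796)
theorem F52571 : act 6 n11386 = n11386 := d39_1 D11386 (iv D11386) (iv D8928) F33434 D8928
theorem F52572 : act 8 n11386 = n10661 := d42_2 (iv F41797) D11386 (iv D10661)
theorem F52573 : act 9 n11386 = n8936 := d43_2 (iv F41798) D11386 (iv D8936)
def n11387 : Q := act 5 n8929
theorem D11387 : act 5 n8929 = n11387 := rfl
theorem F52574 : act 0 n11387 = n11387 := d4_1 D11387 (iv D11387) F41799
theorem F52575 : act 1 n11387 = n8987 := d12_1 D11387 (iv D8987) (iv F41800)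
theorem F52576 : act 3 n11387 = n11387 := d25_1 D11387 (iv D11387) F41801
theorem F52577 : act 4 n11387 = n10485 := d30_1 D11387 (iv D10485) F38576 (iv F33446) (iv F41802)
theorem F52578 : act 6 n11387 = n11387 := d35_2 D8929 D11387 (iv D11387) (iv D8929) F33440
theorem F52579 : act 9 n11387 = n8937 := d38_2 (iv F41803) D11387 (iv D8937)
def n11388 : Q := act 7 n8929
theorem D11388 : act 7 n8929 = n11388 := rfl
theorem F52580 : act 0 n11388 = n11388 := d6_1 D11388 (iv D11388) F41799
theorem F52581 : act 1 n11388 = n8988 := d14_1 D11388 (iv D8988) (iv F41800)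
theorem F52582 : act 3 n11388 = n11388 := d27_1 D11388 (iv D11388) F41801
theorem F52583 : act 4 n11388 = n8930 := d32_1 D11388 (iv D8930) (iv F41802)
theorem F52584 : act 6 n11388 = n11388 := d39_1 D11388 (iv D11388) (iv D8929) F33441 D8929
theorem F52585 : act 9 n11388 = n8938 := d43_2 (iv F41803) D11388 (iv D8938)
def n11389 : Q := act 4 n8931
theorem D11389 : act 4 n8931 = n11389 := rfl
theorem F52586 : act 0 n11389 = n8932 := d3_1 D11389 (iv D8932) (iv F41810)
theorem F52587 : act 1 n11389 = n11389 := d11_1 D11389 (iv D11389) F41811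
theorem F52588 : act 2 n11389 = n8997 := d18_1 D11389 (iv D8997) (iv F41812)
theorem F52589 : act 5 n11389 = n11389 := d30_2 D8931 D11389 (iv D11389) (iv D8931) F33459
theorem F52590 : act 7 n11389 = n11389 := d32_2 F41814 D11389 (iv D11389)
theorem F52591 : act 8 n11389 = n11389 := d33_2 F41815 D11389 (iv D11389)
def n11390 : Q := act 6 n8931
theorem D11390 : act 6 n8931 = n11390 := rfl
theorem F52592 : act 0 n11390 = n8933 := d5_1 D11390 (iv D8933) (iv F41810)
theorem F52593 : act 1 n11390 = n11390 := d13_1 D11390 (iv D11390) F41811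
theorem F52594 : act 2 n11390 = n8998 := d20_1 D11390 (iv D8998) (iv F41812)
theorem F52595 : act 3 n11390 = n11390 := d26_1 D11390 (iv D11390) F41813
theorem F52596 : act 5 n11390 = n10394 := d35_1 D11390 (iv D10394) (iv D8153) (iv F33460) D8931
theorem F52597 : act 8 n11390 = n11390 := d40_2 F41815 D11390 (iv D11390)
def n11391 : Q := act 3 n8932
theorem D11391 : act 3 n8932 = n11391 := rfl
theorem F52598 : act 1 n11391 = n8934 := d10_1 D11391 (iv D8934) (iv F41816)
theorem F52599 : act 4 n11391 = n11391 := d24_2 D8932 D11391 (iv D11391) (iv D8932) F33464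
theorem F52600 : act 5 n11391 = n11391 := d25_2 F41818 D11391 (iv D11391)
theorem F52601 : act 7 n11391 = n11391 := d27_2 F41819 D11391 (iv D11391)
theorem F52602 : act 8 n11391 = n11391 := d28_2 F41820 D11391 (iv D11391)
def n11392 : Q := act 6 n8932
theorem D11392 : act 6 n8932 = n11392 := rfl
theorem F52603 : act 1 n11392 = n8935 := d13_1 D11392 (iv D8935) (iv F41816)
theorem F52604 : act 2 n11392 = n9002 := d20_1 D11392 (iv D9002) (iv F41817)
theorem F52605 : act 4 n11392 = n8933 := d31_1 D11392 (iv D8933) D8932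
theorem F52606 : act 8 n11392 = n11392 := d40_2 F41820 D11392 (iv D11392)
def n11393 : Q := act 7 n8933
theorem D11393 : act 7 n8933 = n11393 := rfl
theorem F52607 : act 1 n11393 = n8936 := d14_1 D11393 (iv D8936) (iv F41821)
theorem F52608 : act 2 n11393 = n9003 := d21_1 D11393 (iv D9003) (iv F41822)
theorem F52609 : act 3 n11393 = n11393 := d27_1 D11393 (iv D11393) F41823
theorem F52610 : act 5 n11393 = n10417 := d36_1 D11393 (iv D10417) (iv F41824)
theorem F52611 : act 6 n11393 = n11393 := d39_1 D11393 (iv D11393) (iv D8933) F33465 D8933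
theorem F52612 : act 8 n11393 = n11393 := d42_2 F41825 D11393 (iv D11393)
def n11394 : Q := act 6 n8934
theorem D11394 : act 6 n8934 = n11394 := rfl
theorem F52613 : act 0 n11394 = n11394 := d5_1 D11394 (iv D11394) F41826
theorem F52614 : act 2 n11394 = n11394 := d20_1 D11394 (iv D11394) F41827
theorem F52615 : act 3 n11394 = n8935 := d26_1 D11394 (iv D8935) D8934
theorem F52616 : act 4 n11394 = n11394 := d31_1 D11394 (iv D11394) F41828
theorem F52617 : act 8 n11394 = n11394 := d40_2 F41831 D11394 (iv D11394)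
def n11395 : Q := act 5 n8935
theorem D11395 : act 5 n8935 = n11395 := rfl
theorem F52618 : act 0 n11395 = n11395 := d4_1 D11395 (iv D11395) F41832
theorem F52619 : act 2 n11395 = n8937 := d19_1 D11395 (iv D8937) (iv F41833)
theorem F52620 : act 4 n11395 = n10448 := d30_1 D11395 (iv D10448) F38471 (iv F33475) (iv F41834)
theorem F52621 : act 6 n11395 = n11395 := d35_2 D8935 D11395 (iv D11395) (iv D8935) F33469
def n11396 : Q := act 7 n8935
theorem D11396 : act 7 n8935 = n11396 := rfl
theorem F52622 : act 0 n11396 = n11396 := d6_1 D11396 (iv D11396) F41832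
theorem F52623 : act 2 n11396 = n8938 := d21_1 D11396 (iv D8938) (iv F41833)
theorem F52624 : act 4 n11396 = n8936 := d32_1 D11396 (iv D8936) (iv F41834)
theorem F52625 : act 6 n11396 = n11396 := d39_1 D11396 (iv D11396) (iv D8935) F33470 D8935
theorem F52626 : act 8 n11396 = n11396 := d42_2 F41835 D11396 (iv D11396)
def n11397 : Q := act 7 n8937
theorem D11397 : act 7 n8937 = n11397 := rfl
theorem F52627 : act 0 n11397 = n11397 := d6_1 D11397 (iv D11397) F41842
theorem F52628 : act 1 n11397 = n9014 := d14_1 D11397 (iv D9014) (iv F41843)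
theorem F52629 : act 3 n11397 = n11397 := d27_1 D11397 (iv D11397) F41844
theorem F52630 : act 4 n11397 = n10491 := d32_1 D11397 (iv D10491) (iv F41845)
theorem F52631 : act 5 n11397 = n8938 := d36_1 D11397 (iv D8938) D8937
def n11398 : Q := act 8 n8937
theorem D11398 : act 8 n8937 = n11398 := rfl
theorem F52632 : act 0 n11398 = n11398 := d7_1 D11398 (iv D11398) F41842
theorem F52633 : act 1 n11398 = n9015 := d15_1 D11398 (iv D9015) (iv F41843)
theorem F52634 : act 3 n11398 = n11398 := d28_1 D11398 (iv D11398) F41844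
theorem F52635 : act 4 n11398 = n10492 := d33_1 D11398 (iv D10492) (iv F41845)
theorem F52636 : act 5 n11398 = n11398 := d37_1 D11398 (iv D11398) (iv D8937) F33481 D8937
theorem F52637 : act 6 n11398 = n11398 := d40_1 D11398 (iv D11398) F41846
def n11399 : Q := act 4 n8939
theorem D11399 : act 4 n8939 = n11399 := rfl
theorem F52638 : act 0 n11399 = n9448 := d3_1 D11399 (iv D9448) (iv F41853)
theorem F52639 : act 1 n11399 = n9906 := d11_1 D11399 (iv D9906) (iv F41854)
theorem F52640 : act 2 n11399 = n8940 := d18_1 D11399 (iv D8940) (iv F41855)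
theorem F52641 : act 5 n11399 = n8948 := d30_2 D8939 D11399 (iv D8948) (iv D7066) (iv F33492)
theorem F52642 : act 7 n11399 = n11399 := d32_2 F41857 D11399 (iv D11399)
theorem F52643 : act 8 n11399 = n11399 := d33_2 F41858 D11399 (iv D11399)
theorem F52644 : act 9 n11399 = n11399 := d34_2 F41859 D11399 (iv D11399)
def n11400 : Q := act 6 n8939
theorem D11400 : act 6 n8939 = n11400 := rfl
theorem F52645 : act 0 n11400 = n9449 := d5_1 D11400 (iv D9449) (iv F41853)
theorem F52646 : act 1 n11400 = n9907 := d13_1 D11400 (iv D9907) (iv F41854)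
theorem F52647 : act 2 n11400 = n8941 := d20_1 D11400 (iv D8941) (iv F41855)
theorem F52648 : act 3 n11400 = n11400 := d26_1 D11400 (iv D11400) F41856
theorem F52649 : act 5 n11400 = n9883 := d35_1 D11400 (iv D9883) (iv D7782) (iv F33493) D8939
theorem F52650 : act 8 n11400 = n11400 := d40_2 F41858 D11400 (iv D11400)
theorem F52651 : act 9 n11400 = n11400 := d41_2 F41859 D11400 (iv D11400)
def n11401 : Q := act 6 n8940
theorem D11401 : act 6 n8940 = n11401 := rfl
theorem F52652 : act 0 n11401 = n9452 := d5_1 D11401 (iv D9452) (iv F41860)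
theorem F52653 : act 1 n11401 = n10624 := d13_1 D11401 (iv D10624) (iv F41861)
theorem F52654 : act 3 n11401 = n11401 := d26_1 D11401 (iv D11401) F41862
theorem F52655 : act 4 n11401 = n8941 := d31_1 D11401 (iv D8941) D8940
theorem F52656 : act 8 n11401 = n11401 := d40_2 F41865 D11401 (iv D11401)
theorem F52657 : act 9 n11401 = n11401 := d41_2 F41866 D11401 (iv D11401)
def n11402 : Q := act 7 n8941
theorem D11402 : act 7 n8941 = n11402 := rfl
theorem F52661 : act 5 n11402 = n10591 := d36_1 D11402 (iv D10591) (iv F41870)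
def n11403 : Q := act 2 n8943
theorem D11403 : act 2 n8943 = n11403 := rfl
theorem F52665 : act 0 n11403 = n9459 := d1_1 D11403 (iv D9459) (iv F41881)
theorem F52666 : act 3 n11403 = n11403 := d17_2 D8943 D11403 (iv D11403) (iv D8943) F33511
theorem F52667 : act 4 n11403 = n8965 := d18_2 (iv F41883) D11403 (iv D8965)
theorem F52668 : act 5 n11403 = n10943 := d19_2 (iv F41884) D11403 (iv D10943)
theorem F52669 : act 6 n11403 = n11403 := d20_2 F41885 D11403 (iv D11403)
theorem F52670 : act 7 n11403 = n10940 := d21_2 (iv F41886) D11403 (iv D10940)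
theorem F52671 : act 8 n11403 = n11403 := d22_2 F41887 D11403 (iv D11403)
theorem F52672 : act 9 n11403 = n11403 := d23_2 F41888 D11403 (iv D11403)
def n11404 : Q := act 5 n8944
theorem D11404 : act 5 n8944 = n11404 := rfl
theorem F52673 : act 0 n11404 = n8945 := d4_1 D11404 (iv D8945) (iv F41889)
theorem F52674 : act 1 n11404 = n9460 := d12_1 D11404 (iv D9460) (iv F41890)
theorem F52675 : act 2 n11404 = n9294 := d19_1 D11404 (iv D9294) (iv F41891)
theorem F52676 : act 3 n11404 = n9022 := d25_1 D11404 (iv D9022) (iv F41892)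
theorem F52677 : act 7 n11404 = n11404 := d36_2 F41895 D11404 (iv D11404)
theorem F52678 : act 8 n11404 = n8968 := d37_2 D8944 D11404 (iv D8968) (iv D7082) (iv F33522)
theorem F52679 : act 9 n11404 = n11404 := d38_2 F41896 D11404 (iv D11404)
def n11405 : Q := act 4 n8945
theorem D11405 : act 4 n8945 = n11405 := rfl
theorem F52680 : act 1 n11405 = n8948 := d11_1 D11405 (iv D8948) (iv F41897)
theorem F52681 : act 2 n11405 = n9931 := d18_1 D11405 (iv D9931) (iv F41898)
theorem F52682 : act 5 n11405 = n9906 := d30_2 D8945 D11405 (iv D9906) (iv D7798) (iv F33528)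
theorem F52683 : act 7 n11405 = n11405 := d32_2 F41900 D11405 (iv D11405)
theorem F52684 : act 8 n11405 = n8971 := d33_2 (iv F41901) D11405 (iv D8971)
theorem F52685 : act 9 n11405 = n11405 := d34_2 F41902 D11405 (iv D11405)
def n11406 : Q := act 6 n8945
theorem D11406 : act 6 n8945 = n11406 := rfl
theorem F52686 : act 1 n11406 = n8949 := d13_1 D11406 (iv D8949) (iv F41897)
theorem F52687 : act 2 n11406 = n9932 := d20_1 D11406 (iv D9932) (iv F41898)
theorem F52688 : act 3 n11406 = n9027 := d26_1 D11406 (iv D9027) (iv F41899)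
theorem F52689 : act 5 n11406 = n9902 := d35_1 D11406 (iv D9902) (iv D7795) (iv F33529) D8945
theorem F52690 : act 8 n11406 = n8972 := d40_2 (iv F41901) D11406 (iv D8972)
theorem F52691 : act 9 n11406 = n11406 := d41_2 F41902 D11406 (iv D11406)
def n11407 : Q := act 5 n8946
theorem D11407 : act 5 n8946 = n11407 := rfl
theorem F52692 : act 0 n11407 = n9467 := d4_1 D11407 (iv D9467) (iv F41903)
theorem F52693 : act 1 n11407 = n9673 := d12_1 D11407 (iv D9673) (iv F41904)
theorem F52694 : act 2 n11407 = n8950 := d19_1 D11407 (iv D8950) (iv F41905)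
theorem F52695 : act 3 n11407 = n9036 := d25_1 D11407 (iv D9036) (iv F41906)
theorem F52696 : act 7 n11407 = n9657 := d36_2 (iv F41909) D11407 (iv D9657)
theorem F52697 : act 8 n11407 = n8947 := d37_2 D8946 D11407 (iv D8947) (iv D7065) (iv F33537)
theorem F52698 : act 9 n11407 = n9677 := d38_2 (iv F41910) D11407 (iv D9677)
def n11408 : Q := act 4 n8947
theorem D11408 : act 4 n8947 = n11408 := rfl
theorem F52699 : act 0 n11408 = n9469 := d3_1 D11408 (iv D9469) (iv F41911)
theorem F52700 : act 1 n11408 = n9901 := d11_1 D11408 (iv D9901) (iv F41912)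
theorem F52701 : act 2 n11408 = n8951 := d18_1 D11408 (iv D8951) (iv F41913)
theorem F52702 : act 5 n11408 = n9882 := d30_2 D8947 D11408 (iv D9882) (iv D7782) (iv F33544)
theorem F52703 : act 7 n11408 = n9880 := d32_2 (iv F41915) D11408 (iv D9880)
theorem F52704 : act 9 n11408 = n11408 := d34_2 F41916 D11408 (iv D11408)
def n11409 : Q := act 6 n8947
theorem D11409 : act 6 n8947 = n11409 := rfl
theorem F52705 : act 0 n11409 = n9470 := d5_1 D11409 (iv D9470) (iv F41911)
theorem F52706 : act 1 n11409 = n9902 := d13_1 D11409 (iv D9902) (iv F41912)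
theorem F52707 : act 2 n11409 = n8952 := d20_1 D11409 (iv D8952) (iv F41913)
theorem F52708 : act 3 n11409 = n9039 := d26_1 D11409 (iv D9039) (iv F41914)
theorem F52709 : act 5 n11409 = n8949 := d35_1 D11409 (iv D8949) (iv D7066) (iv F33545) D8947
theorem F52710 : act 9 n11409 = n11409 := d41_2 F41916 D11409 (iv D11409)
def n11410 : Q := act 3 n8948
theorem D11410 : act 3 n8948 = n11410 := rfl
theorem F52711 : act 0 n11410 = n9471 := d2_1 D11410 (iv D9471) (iv F41917)
theorem F52712 : act 2 n11410 = n11410 := d17_1 D11410 (iv D11410) F41918 F33567 (iv F41918)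
theorem F52713 : act 4 n11410 = n9040 := d24_2 D8948 D11410 (iv D9040) (iv D7142) (iv F33550)
theorem F52714 : act 7 n11410 = n11410 := d27_2 F41919 D11410 (iv D11410)
theorem F52715 : act 8 n11410 = n8978 := d28_2 (iv F41920) D11410 (iv D8978)
theorem F52716 : act 9 n11410 = n11410 := d29_2 F41921 D11410 (iv D11410)
def n11411 : Q := act 6 n8948
theorem D11411 : act 6 n8948 = n11411 := rfl
theorem F52717 : act 0 n11411 = n9472 := d5_1 D11411 (iv D9472) (iv F41917)
theorem F52718 : act 2 n11411 = n8953 := d20_1 D11411 (iv D8953) (iv F41918)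
theorem F52719 : act 4 n11411 = n8949 := d31_1 D11411 (iv D8949) D8948
theorem F52720 : act 8 n11411 = n8979 := d40_2 (iv F41920) D11411 (iv D8979)
theorem F52721 : act 9 n11411 = n11411 := d41_2 F41921 D11411 (iv D11411)
def n11412 : Q := act 7 n8949
theorem D11412 : act 7 n8949 = n11412 := rfl
theorem F52722 : act 0 n11412 = n9473 := d6_1 D11412 (iv D9473) (iv F41922)
theorem F52723 : act 2 n11412 = n8954 := d21_1 D11412 (iv D8954) (iv F41923)
theorem F52724 : act 3 n11412 = n9042 := d27_1 D11412 (iv D9042) (iv F41924)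
theorem F52725 : act 6 n11412 = n11412 := d39_1 D11412 (iv D11412) (iv D8949) F33551 D8949
theorem F52726 : act 8 n11412 = n8980 := d42_2 (iv F41925) D11412 (iv D8980)
theorem F52727 : act 9 n11412 = n11412 := d43_2 F41926 D11412 (iv D11412)
def n11413 : Q := act 4 n8950
theorem D11413 : act 4 n8950 = n11413 := rfl
theorem F52728 : act 0 n11413 = n9476 := d3_1 D11413 (iv D9476) (iv F41927)
theorem F52729 : act 1 n11413 = n10265 := d11_1 D11413 (iv D10265) (iv F41928)
theorem F52730 : act 5 n11413 = n10246 := d30_2 D8950 D11413 (iv D10246) (iv D8047) (iv F33557)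
theorem F52731 : act 7 n11413 = n10244 := d32_2 (iv F41930) D11413 (iv D10244)
theorem F52732 : act 8 n11413 = n8951 := d33_2 (iv F41931) D11413 (iv D8951)
theorem F52733 : act 9 n11413 = n9704 := d34_2 (iv F41932) D11413 (iv D9704)
def n11414 : Q := act 6 n8950
theorem D11414 : act 6 n8950 = n11414 := rfl
theorem F52734 : act 0 n11414 = n9477 := d5_1 D11414 (iv D9477) (iv F41927)
theorem F52735 : act 1 n11414 = n10266 := d13_1 D11414 (iv D10266) (iv F41928)
theorem F52736 : act 3 n11414 = n8957 := d26_1 D11414 (iv D8957) (iv F41929)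
theorem F52737 : act 5 n11414 = n8983 := d35_1 D11414 (iv D8983) (iv D7093) (iv F33558) D8950
theorem F52738 : act 8 n11414 = n8952 := d40_2 (iv F41931) D11414 (iv D8952)
theorem F52739 : act 9 n11414 = n9705 := d41_2 (iv F41932) D11414 (iv D9705)
def n11415 : Q := act 3 n8951
theorem D11415 : act 3 n8951 = n11415 := rfl
theorem F52740 : act 0 n11415 = n9480 := d2_1 D11415 (iv D9480) (iv F41933)
theorem F52741 : act 1 n11415 = n10617 := d10_1 D11415 (iv D10617) (iv F41934)
theorem F52742 : act 4 n11415 = n8960 := d24_2 D8951 D11415 (iv D8960) (iv D7074) (iv F33563)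
theorem F52743 : act 5 n11415 = n10589 := d25_2 (iv F41935) D11415 (iv D10589)
theorem F52744 : act 7 n11415 = n10586 := d27_2 (iv F41936) D11415 (iv D10586)
theorem F52745 : act 9 n11415 = n11415 := d29_2 F41937 D11415 (iv D11415)
def n11416 : Q := act 6 n8951
theorem D11416 : act 6 n8951 = n11416 := rfl
theorem F52746 : act 0 n11416 = n9481 := d5_1 D11416 (iv D9481) (iv F41933)
theorem F52747 : act 1 n11416 = n10618 := d13_1 D11416 (iv D10618) (iv F41934)
theorem F52748 : act 4 n11416 = n8952 := d31_1 D11416 (iv D8952) D8951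
theorem F52749 : act 9 n11416 = n11416 := d41_2 F41937 D11416 (iv D11416)
def n11417 : Q := act 7 n8952
theorem D11417 : act 7 n8952 = n11417 := rfl
theorem F52750 : act 0 n11417 = n9482 := d6_1 D11417 (iv D9482) (iv F41938)
theorem F52751 : act 1 n11417 = n10619 := d14_1 D11417 (iv D10619) (iv F41939)
theorem F52752 : act 3 n11417 = n8962 := d27_1 D11417 (iv D8962) (iv F41940)
theorem F52753 : act 5 n11417 = n8954 := d36_1 D11417 (iv D8954) (iv F41941)
theorem F52754 : act 6 n11417 = n10588 := d39_1 D11417 (iv D10588) (iv D8299) (iv F33564) D8952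
theorem F52755 : act 9 n11417 = n11417 := d43_2 F41942 D11417 (iv D11417)
def n11418 : Q := act 5 n8953
theorem D11418 : act 5 n8953 = n11418 := rfl
theorem F52756 : act 0 n11418 = n9483 := d4_1 D11418 (iv D9483) (iv F41943)
theorem F52757 : act 3 n11418 = n11418 := d25_1 D11418 (iv D11418) F41944
theorem F52758 : act 9 n11418 = n11418 := d38_2 F41947 D11418 (iv D11418)
def n11419 : Q := act 7 n8953
theorem D11419 : act 7 n8953 = n11419 := rfl
theorem F52759 : act 0 n11419 = n9484 := d6_1 D11419 (iv D9484) (iv F41943)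
theorem F52760 : act 3 n11419 = n11419 := d27_1 D11419 (iv D11419) F41944
theorem F52761 : act 4 n11419 = n8954 := d32_1 D11419 (iv D8954) (iv F41945)
theorem F52762 : act 6 n11419 = n11419 := d39_1 D11419 (iv D11419) (iv D8953) F33568 D8953
theorem F52763 : act 8 n11419 = n8988 := d42_2 (iv F41946) D11419 (iv D8988)
theorem F52764 : act 9 n11419 = n11419 := d43_2 F41947 D11419 (iv D11419)
def n11420 : Q := act 4 n8955
theorem D11420 : act 4 n8955 = n11420 := rfl
theorem F52765 : act 0 n11420 = n9485 := d3_1 D11420 (iv D9485) (iv F41953)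
theorem F52766 : act 1 n11420 = n10196 := d11_1 D11420 (iv D10196) (iv F41954)
theorem F52767 : act 2 n11420 = n9061 := d18_1 D11420 (iv D9061) (iv F41955)
theorem F52768 : act 5 n11420 = n11420 := d30_2 D8955 D11420 (iv D11420) (iv D8955) F33579
theorem F52769 : act 7 n11420 = n8956 := d32_2 (iv F41957) D11420 (iv D8956)
theorem F52770 : act 8 n11420 = n8958 := d33_2 (iv F41958) D11420 (iv D8958)
theorem F52771 : act 9 n11420 = n9623 := d34_2 (iv F41959) D11420 (iv D9623)
def n11421 : Q := act 6 n8955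
theorem D11421 : act 6 n8955 = n11421 := rfl
theorem F52772 : act 0 n11421 = n9486 := d5_1 D11421 (iv D9486) (iv F41953)
theorem F52773 : act 1 n11421 = n10197 := d13_1 D11421 (iv D10197) (iv F41954)
theorem F52774 : act 2 n11421 = n9062 := d20_1 D11421 (iv D9062) (iv F41955)
theorem F52775 : act 3 n11421 = n10245 := d26_1 D11421 (iv D10245) (iv F41956)
theorem F52776 : act 5 n11421 = n9626 := d35_1 D11421 (iv D9626) (iv D7589) (iv F33580) D8955
theorem F52777 : act 8 n11421 = n8959 := d40_2 (iv F41958) D11421 (iv D8959)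
theorem F52778 : act 9 n11421 = n9624 := d41_2 (iv F41959) D11421 (iv D9624)
def n11422 : Q := act 3 n8956
theorem D11422 : act 3 n8956 = n11422 := rfl
theorem F52779 : act 0 n11422 = n9487 := d2_1 D11422 (iv D9487) (iv F41960)
theorem F52780 : act 1 n11422 = n10347 := d10_1 D11422 (iv D10347) (iv F41961)
theorem F52781 : act 5 n11422 = n11422 := d25_2 F41963 D11422 (iv D11422)
theorem F52782 : act 8 n11422 = n8960 := d28_2 (iv F41964) D11422 (iv D8960)
theorem F52783 : act 9 n11422 = n9729 := d29_2 (iv F41965) D11422 (iv D9729)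
def n11423 : Q := act 6 n8956
theorem D11423 : act 6 n8956 = n11423 := rfl
theorem F52784 : act 0 n11423 = n9488 := d5_1 D11423 (iv D9488) (iv F41960)
theorem F52785 : act 1 n11423 = n10348 := d13_1 D11423 (iv D10348) (iv F41961)
theorem F52786 : act 2 n11423 = n9066 := d20_1 D11423 (iv D9066) (iv F41962)
theorem F52787 : act 4 n11423 = n8957 := d31_1 D11423 (iv D8957) D8956
theorem F52788 : act 8 n11423 = n8961 := d40_2 (iv F41964) D11423 (iv D8961)
theorem F52789 : act 9 n11423 = n9730 := d41_2 (iv F41965) D11423 (iv D9730)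
def n11424 : Q := act 7 n8957
theorem D11424 : act 7 n8957 = n11424 := rfl
theorem F52790 : act 0 n11424 = n9489 := d6_1 D11424 (iv D9489) (iv F41966)
theorem F52791 : act 1 n11424 = n10349 := d14_1 D11424 (iv D10349) (iv F41967)
theorem F52792 : act 2 n11424 = n9067 := d21_1 D11424 (iv D9067) (iv F41968)
theorem F52793 : act 5 n11424 = n8991 := d36_1 D11424 (iv D8991) (iv F41969)
theorem F52794 : act 8 n11424 = n8962 := d42_2 (iv F41970) D11424 (iv D8962)
theorem F52795 : act 9 n11424 = n9731 := d43_2 (iv F41971) D11424 (iv D9731)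
def n11425 : Q := act 3 n8958
theorem D11425 : act 3 n8958 = n11425 := rfl
theorem F52796 : act 0 n11425 = n9490 := d2_1 D11425 (iv D9490) (iv F41972)
theorem F52797 : act 1 n11425 = n10614 := d10_1 D11425 (iv D10614) (iv F41973)
theorem F52798 : act 4 n11425 = n10586 := d24_2 D8958 D11425 (iv D10586) (iv D8298) (iv F33591)
theorem F52799 : act 5 n11425 = n8963 := d25_2 (iv F41975) D11425 (iv D8963)
theorem F52800 : act 7 n11425 = n8960 := d27_2 (iv F41976) D11425 (iv D8960)
theorem F52801 : act 9 n11425 = n11425 := d29_2 F41977 D11425 (iv D11425)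
def n11426 : Q := act 6 n8958
theorem D11426 : act 6 n8958 = n11426 := rfl
theorem F52802 : act 0 n11426 = n9491 := d5_1 D11426 (iv D9491) (iv F41972)
theorem F52803 : act 1 n11426 = n10615 := d13_1 D11426 (iv D10615) (iv F41973)
theorem F52804 : act 2 n11426 = n9069 := d20_1 D11426 (iv D9069) (iv F41974)
theorem F52805 : act 4 n11426 = n8959 := d31_1 D11426 (iv D8959) D8958
theorem F52806 : act 9 n11426 = n11426 := d41_2 F41977 D11426 (iv D11426)
def n11427 : Q := act 7 n8959
theorem D11427 : act 7 n8959 = n11427 := rfl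
theorem F52807 : act 0 n11427 = n9492 := d6_1 D11427 (iv D9492) (iv F41978)
theorem F52808 : act 1 n11427 = n10616 := d14_1 D11427 (iv D10616) (iv F41979)
theorem F52809 : act 2 n11427 = n9070 := d21_1 D11427 (iv D9070) (iv F41980)
theorem F52810 : act 3 n11427 = n10588 := d27_1 D11427 (iv D10588) (iv F41981)
theorem F52811 : act 5 n11427 = n11427 := d36_1 D11427 (iv D11427) F41982
theorem F52812 : act 6 n11427 = n8962 := d39_1 D11427 (iv D8962) (iv D7075) (iv F33592) D8959
theorem F52813 : act 9 n11427 = n11427 := d43_2 F41983 D11427 (iv D11427)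
def n11428 : Q := act 2 n8960
theorem D11428 : act 2 n8960 = n11428 := rfl
theorem F52814 : act 0 n11428 = n9493 := d1_1 D11428 (iv D9493) (iv F41984)
theorem F52815 : act 3 n11428 = n9071 := d17_2 D8960 D11428 (iv D9071) (iv D7165) (iv F33595)
theorem F52816 : act 5 n11428 = n8965 := d19_2 (iv F41985) D11428 (iv D8965)
theorem F52817 : act 9 n11428 = n11428 := d23_2 F41986 D11428 (iv D11428)
def n11429 : Q := act 6 n8960
theorem D11429 : act 6 n8960 = n11429 := rfl
theorem F52818 : act 0 n11429 = n9494 := d5_1 D11429 (iv D9494) (iv F41984)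
theorem F52819 : act 3 n11429 = n8961 := d26_1 D11429 (iv D8961) D8960
theorem F52820 : act 5 n11429 = n11429 := d35_1 D11429 (iv D11429) F41985 F33623 (iv F41985)
theorem F52821 : act 9 n11429 = n11429 := d41_2 F41986 D11429 (iv D11429)
def n11430 : Q := act 7 n8961
theorem D11430 : act 7 n8961 = n11430 := rfl
theorem F52822 : act 0 n11430 = n9495 := d6_1 D11430 (iv D9495) (iv F41987)
theorem F52823 : act 2 n11430 = n9073 := d21_1 D11430 (iv D9073) (iv F41988)
theorem F52824 : act 4 n11430 = n8962 := d32_1 D11430 (iv D8962) (iv F41989)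
theorem F52825 : act 5 n11430 = n11430 := d36_1 D11430 (iv D11430) F41990
theorem F52826 : act 9 n11430 = n11430 := d43_2 F41991 D11430 (iv D11430)
def n11431 : Q := act 2 n8963
theorem D11431 : act 2 n8963 = n11431 := rfl
theorem F52827 : act 0 n11431 = n9496 := d1_1 D11431 (iv D9496) (iv F41996)
theorem F52828 : act 3 n11431 = n9074 := d17_2 D8963 D11431 (iv D9074) (iv D7168) (iv F33610)
theorem F52829 : act 4 n11431 = n10940 := d18_2 (iv F41998) D11431 (iv D10940)
theorem F52830 : act 7 n11431 = n8965 := d21_2 (iv F41999) D11431 (iv D8965)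
theorem F52831 : act 8 n11431 = n11431 := d22_2 F42000 D11431 (iv D11431)
theorem F52832 : act 9 n11431 = n11431 := d23_2 F42001 D11431 (iv D11431)
def n11432 : Q := act 6 n8963
theorem D11432 : act 6 n8963 = n11432 := rfl
theorem F52835 : act 3 n11432 = n8964 := d26_1 D11432 (iv D8964) D8963
theorem F52836 : act 4 n11432 = n10941 := d31_1 D11432 (iv D10941) (iv F41998)
def n11433 : Q := act 5 n8964
theorem D11433 : act 5 n8964 = n11433 := rfl
theorem F52840 : act 0 n11433 = n9498 := d4_1 D11433 (iv D9498) (iv F42002)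
theorem F52841 : act 1 n11433 = n10979 := d12_1 D11433 (iv D10979) (iv F42003)
theorem F52842 : act 2 n11433 = n9076 := d19_1 D11433 (iv D9076) (iv F42004)
theorem F52843 : act 4 n11433 = n11433 := d30_1 D11433 (iv D11433) F42005 F33618 (iv F42005)
theorem F52844 : act 7 n11433 = n11433 := d36_2 F42006 D11433 (iv D11433)
theorem F52845 : act 9 n11433 = n11433 := d38_2 F42008 D11433 (iv D11433)
def n11434 : Q := act 1 n8965
theorem D11434 : act 1 n8965 = n11434 := rfl
theorem F52846 : act 3 n11434 = n9077 := d10_2 (iv F42010) D11434 (iv D9077)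
theorem F52847 : act 6 n11434 = n11434 := d13_2 F42011 D11434 (iv D11434)
theorem F52848 : act 8 n11434 = n11434 := d15_2 F42012 D11434 (iv D11434)
theorem F52849 : act 9 n11434 = n11434 := d16_2 F42013 D11434 (iv D11434)
def n11435 : Q := act 8 n8966
theorem D11435 : act 8 n8966 = n11435 := rfl
theorem F52850 : act 0 n11435 = n8969 := d7_1 D11435 (iv D8969) (iv F42014)
theorem F52851 : act 1 n11435 = n9500 := d15_1 D11435 (iv D9500) (iv F42015)
theorem F52852 : act 2 n11435 = n9115 := d22_1 D11435 (iv D9115) (iv F42016)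
theorem F52853 : act 3 n11435 = n9081 := d28_1 D11435 (iv D9081) (iv F42017)
theorem F52854 : act 4 n11435 = n9102 := d33_1 D11435 (iv D9102) (iv F42018)
theorem F52855 : act 6 n11435 = n9099 := d40_1 D11435 (iv D9099) (iv F42020)
theorem F52856 : act 7 n11435 = n9649 := d42_1 D11435 (iv D9649) (iv F42021)
theorem F52857 : act 9 n11435 = n9465 := d44_2 D8966 D11435 (iv D9465) (iv D7468) (iv F33632)
def n11436 : Q := act 5 n8967
theorem D11436 : act 5 n8967 = n11436 := rfl
theorem F52858 : act 0 n11436 = n8970 := d4_1 D11436 (iv D8970) (iv F42022)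
theorem F52859 : act 1 n11436 = n9501 := d12_1 D11436 (iv D9501) (iv F42023)
theorem F52860 : act 2 n11436 = n10392 := d19_1 D11436 (iv D10392) (iv F42024)
theorem F52861 : act 3 n11436 = n9083 := d25_1 D11436 (iv D9083) (iv F42025)
theorem F52862 : act 7 n11436 = n9759 := d36_2 (iv F42028) D11436 (iv D9759)
theorem F52863 : act 9 n11436 = n8996 := d38_2 (iv F42029) D11436 (iv D8996)
def n11437 : Q := act 4 n8968
theorem D11437 : act 4 n8968 = n11437 := rfl
theorem F52864 : act 0 n11437 = n8971 := d3_1 D11437 (iv D8971) (iv F42030)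
theorem F52865 : act 1 n11437 = n9502 := d11_1 D11437 (iv D9502) (iv F42031)
theorem F52866 : act 5 n11437 = n11437 := d30_2 D8968 D11437 (iv D11437) (iv D8968) F33644
theorem F52867 : act 7 n11437 = n11437 := d32_2 F42033 D11437 (iv D11437)
theorem F52868 : act 9 n11437 = n8997 := d34_2 (iv F42034) D11437 (iv D8997)
def n11438 : Q := act 6 n8968
theorem D11438 : act 6 n8968 = n11438 := rfl
theorem F52869 : act 0 n11438 = n8972 := d5_1 D11438 (iv D8972) (iv F42030)
theorem F52870 : act 1 n11438 = n9503 := d13_1 D11438 (iv D9503) (iv F42031)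
theorem F52871 : act 3 n11438 = n9085 := d26_1 D11438 (iv D9085) (iv F42032)
theorem F52872 : act 9 n11438 = n8998 := d41_2 (iv F42034) D11438 (iv D8998)
def n11439 : Q := act 5 n8969
theorem D11439 : act 5 n8969 = n11439 := rfl
theorem F52873 : act 1 n11439 = n8975 := d12_1 D11439 (iv D8975) (iv F42035)
theorem F52874 : act 2 n11439 = n9696 := d19_1 D11439 (iv D9696) (iv F42036)
theorem F52875 : act 3 n11439 = n9091 := d25_1 D11439 (iv D9091) (iv F42037)
theorem F52876 : act 7 n11439 = n9659 := d36_2 (iv F42040) D11439 (iv D9659)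
theorem F52877 : act 8 n11439 = n8970 := d37_2 D8969 D11439 (iv D8970) (iv D7084) (iv F33651)
theorem F52878 : act 9 n11439 = n9658 := d38_2 (iv F42041) D11439 (iv D9658)
def n11440 : Q := act 4 n8970
theorem D11440 : act 4 n8970 = n11440 := rfl
theorem F52879 : act 1 n11440 = n8976 := d11_1 D11440 (iv D8976) (iv F42042)
theorem F52880 : act 2 n11440 = n10413 := d18_1 D11440 (iv D10413) (iv F42043)
theorem F52881 : act 5 n11440 = n11440 := d30_2 D8970 D11440 (iv D11440) (iv D8970) F33657
theorem F52882 : act 7 n11440 = n9771 := d32_2 (iv F42045) D11440 (iv D9771)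
theorem F52883 : act 9 n11440 = n8999 := d34_2 (iv F42046) D11440 (iv D8999)
def n11441 : Q := act 6 n8970
theorem D11441 : act 6 n8970 = n11441 := rfl
theorem F52884 : act 1 n11441 = n8977 := d13_1 D11441 (iv D8977) (iv F42042)
theorem F52885 : act 2 n11441 = n10414 := d20_1 D11441 (iv D10414) (iv F42043)
theorem F52886 : act 3 n11441 = n9094 := d26_1 D11441 (iv D9094) (iv F42044)
theorem F52887 : act 5 n11441 = n8972 := d35_1 D11441 (iv D8972) (iv D7085) (iv F33658) D8970
theorem F52888 : act 9 n11441 = n9000 := d41_2 (iv F42046) D11441 (iv D9000)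
def n11442 : Q := act 3 n8971
theorem D11442 : act 3 n8971 = n11442 := rfl
theorem F52889 : act 1 n11442 = n8978 := d10_1 D11442 (iv D8978) (iv F42047)
theorem F52890 : act 4 n11442 = n9095 := d24_2 D8971 D11442 (iv D9095) (iv D7186) (iv F33662)
theorem F52891 : act 5 n11442 = n11442 := d25_2 F42048 D11442 (iv D11442)
theorem F52892 : act 7 n11442 = n11442 := d27_2 F42049 D11442 (iv D11442)
theorem F52893 : act 9 n11442 = n9001 := d29_2 (iv F42050) D11442 (iv D9001)
def n11443 : Q := act 6 n8971
theorem D11443 : act 6 n8971 = n11443 := rfl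
theorem F52894 : act 1 n11443 = n8979 := d13_1 D11443 (iv D8979) (iv F42047)
theorem F52895 : act 4 n11443 = n8972 := d31_1 D11443 (iv D8972) D8971
theorem F52896 : act 9 n11443 = n9002 := d41_2 (iv F42050) D11443 (iv D9002)
def n11444 : Q := act 7 n8972
theorem D11444 : act 7 n8972 = n11444 := rfl
theorem F52897 : act 1 n11444 = n8980 := d14_1 D11444 (iv D8980) (iv F42051)
theorem F52898 : act 3 n11444 = n9097 := d27_1 D11444 (iv D9097) (iv F42052)
theorem F52899 : act 6 n11444 = n11444 := d39_1 D11444 (iv D11444) (iv D8972) F33663 D8972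
theorem F52900 : act 9 n11444 = n9003 := d43_2 (iv F42053) D11444 (iv D9003)
def n11445 : Q := act 8 n8973
theorem D11445 : act 8 n8973 = n11445 := rfl
theorem F52901 : act 0 n11445 = n9511 := d7_1 D11445 (iv D9511) (iv F42054)
theorem F52902 : act 1 n11445 = n9035 := d15_1 D11445 (iv D9035) (iv F42055)
theorem F52903 : act 2 n11445 = n11445 := d22_1 D11445 (iv D11445) F42056
theorem F52904 : act 3 n11445 = n8974 := d28_1 D11445 (iv D8974) (iv F42057)
theorem F52905 : act 4 n11445 = n9098 := d33_1 D11445 (iv D9098) (iv F42058)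
theorem F52906 : act 6 n11445 = n9090 := d40_1 D11445 (iv D9090) (iv F42060)
theorem F52907 : act 7 n11445 = n9671 := d42_1 D11445 (iv D9671) (iv F42061)
theorem F52908 : act 9 n11445 = n9024 := d44_2 D8973 D11445 (iv D9024) (iv D7128) (iv F33672)
def n11446 : Q := act 5 n8974
theorem D11446 : act 5 n8974 = n11446 := rfl
theorem F52909 : act 0 n11446 = n9512 := d4_1 D11446 (iv D9512) (iv F42062)
theorem F52910 : act 1 n11446 = n9677 := d12_1 D11446 (iv D9677) (iv F42063)
theorem F52911 : act 2 n11446 = n8981 := d19_1 D11446 (iv D8981) (iv F42064)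
theorem F52912 : act 7 n11446 = n9674 := d36_2 (iv F42067) D11446 (iv D9674)
theorem F52913 : act 8 n11446 = n11446 := d37_2 D8974 D11446 (iv D11446) (iv D8974) F33677
theorem F52914 : act 9 n11446 = n9673 := d38_2 (iv F42068) D11446 (iv D9673)
def n11447 : Q := act 4 n8975
theorem D11447 : act 4 n8975 = n11447 := rfl
theorem F52915 : act 0 n11447 = n9513 := d3_1 D11447 (iv D9513) (iv F42069)
theorem F52916 : act 2 n11447 = n8982 := d18_1 D11447 (iv D8982) (iv F42070)
theorem F52917 : act 7 n11447 = n9680 := d32_2 (iv F42072) D11447 (iv D9680)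
theorem F52918 : act 8 n11447 = n8976 := d33_2 (iv F42073) D11447 (iv D8976)
theorem F52919 : act 9 n11447 = n9678 := d34_2 (iv F42074) D11447 (iv D9678)
def n11448 : Q := act 6 n8975
theorem D11448 : act 6 n8975 = n11448 := rfl
theorem F52920 : act 0 n11448 = n9514 := d5_1 D11448 (iv D9514) (iv F42069)
theorem F52921 : act 2 n11448 = n8983 := d20_1 D11448 (iv D8983) (iv F42070)
theorem F52922 : act 3 n11448 = n9106 := d26_1 D11448 (iv D9106) (iv F42071)
theorem F52923 : act 8 n11448 = n8977 := d40_2 (iv F42073) D11448 (iv D8977)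
theorem F52924 : act 9 n11448 = n9679 := d41_2 (iv F42074) D11448 (iv D9679)
def n11449 : Q := act 3 n8976
theorem D11449 : act 3 n8976 = n11449 := rfl
theorem F52925 : act 0 n11449 = n9515 := d2_1 D11449 (iv D9515) (iv F42075)
theorem F52926 : act 4 n11449 = n9109 := d24_2 D8976 D11449 (iv D9109) (iv D7197) (iv F33687)
theorem F52927 : act 5 n11449 = n11449 := d25_2 F42077 D11449 (iv D11449)
theorem F52928 : act 7 n11449 = n9788 := d27_2 (iv F42078) D11449 (iv D9788)
theorem F52929 : act 9 n11449 = n9004 := d29_2 (iv F42079) D11449 (iv D9004)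
def n11450 : Q := act 6 n8976
theorem D11450 : act 6 n8976 = n11450 := rfl
theorem F52930 : act 0 n11450 = n9516 := d5_1 D11450 (iv D9516) (iv F42075)
theorem F52931 : act 2 n11450 = n8985 := d20_1 D11450 (iv D8985) (iv F42076)
theorem F52932 : act 4 n11450 = n8977 := d31_1 D11450 (iv D8977) D8976
theorem F52933 : act 9 n11450 = n9005 := d41_2 (iv F42079) D11450 (iv D9005)
def n11451 : Q := act 7 n8977
theorem D11451 : act 7 n8977 = n11451 := rfl
theorem F52934 : act 0 n11451 = n9517 := d6_1 D11451 (iv D9517) (iv F42080)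
theorem F52935 : act 2 n11451 = n8986 := d21_1 D11451 (iv D8986) (iv F42081)
theorem F52936 : act 3 n11451 = n9111 := d27_1 D11451 (iv D9111) (iv F42082)
theorem F52937 : act 5 n11451 = n8980 := d36_1 D11451 (iv D8980) (iv F42083)
theorem F52938 : act 6 n11451 = n9790 := d39_1 D11451 (iv D9790) (iv D7708) (iv F33688) D8977
theorem F52939 : act 9 n11451 = n9006 := d43_2 (iv F42084) D11451 (iv D9006)
def n11452 : Q := act 6 n8978
theorem D11452 : act 6 n8978 = n11452 := rfl
theorem F52940 : act 0 n11452 = n9518 := d5_1 D11452 (iv D9518) (iv F42085)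
theorem F52941 : act 2 n11452 = n11452 := d20_1 D11452 (iv D11452) F42086
theorem F52942 : act 3 n11452 = n8979 := d26_1 D11452 (iv D8979) D8978
theorem F52943 : act 4 n11452 = n9112 := d31_1 D11452 (iv D9112) (iv F42087)
theorem F52944 : act 9 n11452 = n9007 := d41_2 (iv F42090) D11452 (iv D9007)
def n11453 : Q := act 5 n8979
theorem D11453 : act 5 n8979 = n11453 := rfl
theorem F52945 : act 0 n11453 = n9519 := d4_1 D11453 (iv D9519) (iv F42091)
theorem F52946 : act 2 n11453 = n8987 := d19_1 D11453 (iv D8987) (iv F42092)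
theorem F52947 : act 6 n11453 = n11453 := d35_2 D8979 D11453 (iv D11453) (iv D8979) F33692
theorem F52948 : act 9 n11453 = n9008 := d38_2 (iv F42094) D11453 (iv D9008)
def n11454 : Q := act 7 n8979
theorem D11454 : act 7 n8979 = n11454 := rfl
theorem F52949 : act 0 n11454 = n9520 := d6_1 D11454 (iv D9520) (iv F42091)
theorem F52950 : act 2 n11454 = n8988 := d21_1 D11454 (iv D8988) (iv F42092)
theorem F52951 : act 4 n11454 = n8980 := d32_1 D11454 (iv D8980) (iv F42093)
theorem F52952 : act 6 n11454 = n11454 := d39_1 D11454 (iv D11454) (iv D8979) F33693 D8979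
theorem F52953 : act 9 n11454 = n9009 := d43_2 (iv F42094) D11454 (iv D9009)
def n11455 : Q := act 4 n8981
theorem D11455 : act 4 n8981 = n11455 := rfl
theorem F52954 : act 0 n11455 = n9521 := d3_1 D11455 (iv D9521) (iv F42100)
theorem F52955 : act 1 n11455 = n10270 := d11_1 D11455 (iv D10270) (iv F42101)
theorem F52956 : act 5 n11455 = n8982 := d30_2 D8981 D11455 (iv D8982) (iv D7093) (iv F33702)
theorem F52957 : act 7 n11455 = n9699 := d32_2 (iv F42103) D11455 (iv D9699)
theorem F52958 : act 8 n11455 = n11455 := d33_2 F42104 D11455 (iv D11455)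
theorem F52959 : act 9 n11455 = n9697 := d34_2 (iv F42105) D11455 (iv D9697)
def n11456 : Q := act 6 n8981
theorem D11456 : act 6 n8981 = n11456 := rfl
theorem F52960 : act 0 n11456 = n9522 := d5_1 D11456 (iv D9522) (iv F42100)
theorem F52961 : act 1 n11456 = n10271 := d13_1 D11456 (iv D10271) (iv F42101)
theorem F52962 : act 3 n11456 = n11456 := d26_1 D11456 (iv D11456) F42102
theorem F52963 : act 5 n11456 = n10247 := d35_1 D11456 (iv D10247) (iv D8047) (iv F33703) D8981
theorem F52964 : act 8 n11456 = n11456 := d40_2 F42104 D11456 (iv D11456)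
theorem F52965 : act 9 n11456 = n9698 := d41_2 (iv F42105) D11456 (iv D9698)
def n11457 : Q := act 3 n8982
theorem D11457 : act 3 n8982 = n11457 := rfl
theorem F52966 : act 0 n11457 = n9523 := d2_1 D11457 (iv D9523) (iv F42106)
theorem F52967 : act 1 n11457 = n10313 := d10_1 D11457 (iv D10313) (iv F42107)
theorem F52968 : act 4 n11457 = n8989 := d24_2 D8982 D11457 (iv D8989) (iv D7098) (iv F33708)
theorem F52969 : act 7 n11457 = n9709 := d27_2 (iv F42108) D11457 (iv D9709)
theorem F52970 : act 8 n11457 = n8984 := d28_2 (iv F42109) D11457 (iv D8984)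
theorem F52971 : act 9 n11457 = n9706 := d29_2 (iv F42110) D11457 (iv D9706)
def n11458 : Q := act 6 n8982
theorem D11458 : act 6 n8982 = n11458 := rfl
theorem F52972 : act 0 n11458 = n9524 := d5_1 D11458 (iv D9524) (iv F42106)
theorem F52973 : act 1 n11458 = n10314 := d13_1 D11458 (iv D10314) (iv F42107)
theorem F52974 : act 4 n11458 = n8983 := d31_1 D11458 (iv D8983) D8982
theorem F52975 : act 8 n11458 = n8985 := d40_2 (iv F42109) D11458 (iv D8985)
theorem F52976 : act 9 n11458 = n9707 := d41_2 (iv F42110) D11458 (iv D9707)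
def n11459 : Q := act 7 n8983
theorem D11459 : act 7 n8983 = n11459 := rfl
theorem F52977 : act 0 n11459 = n9525 := d6_1 D11459 (iv D9525) (iv F42111)
theorem F52978 : act 1 n11459 = n10315 := d14_1 D11459 (iv D10315) (iv F42112)
theorem F52979 : act 3 n11459 = n8991 := d27_1 D11459 (iv D8991) (iv F42113)
theorem F52980 : act 6 n11459 = n9711 := d39_1 D11459 (iv D9711) (iv D7650) (iv F33709) D8983
theorem F52981 : act 8 n11459 = n8986 := d42_2 (iv F42114) D11459 (iv D8986)
theorem F52982 : act 9 n11459 = n9708 := d43_2 (iv F42115) D11459 (iv D9708)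
def n11460 : Q := act 2 n8984
theorem D11460 : act 2 n8984 = n11460 := rfl
theorem F52983 : act 0 n11460 = n9526 := d1_1 D11460 (iv D9526) (iv F42116)
theorem F52984 : act 4 n11460 = n8992 := d18_2 (iv F42118) D11460 (iv D8992)
theorem F52985 : act 5 n11460 = n11460 := d19_2 F42119 D11460 (iv D11460)
theorem F52986 : act 7 n11460 = n9811 := d21_2 (iv F42120) D11460 (iv D9811)
theorem F52987 : act 9 n11460 = n9010 := d23_2 (iv F42121) D11460 (iv D9010)
def n11461 : Q := act 6 n8984
theorem D11461 : act 6 n8984 = n11461 := rfl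
theorem F52988 : act 0 n11461 = n9527 := d5_1 D11461 (iv D9527) (iv F42116)
theorem F52990 : act 3 n11461 = n8985 := d26_1 D11461 (iv D8985) D8984
theorem F52991 : act 4 n11461 = n8993 := d31_1 D11461 (iv D8993) (iv F42118)
theorem F52992 : act 9 n11461 = n9011 := d41_2 (iv F42121) D11461 (iv D9011)
def n11462 : Q := act 5 n8985
theorem D11462 : act 5 n8985 = n11462 := rfl
theorem F52993 : act 0 n11462 = n9528 := d4_1 D11462 (iv D9528) (iv F42122)
theorem F52994 : act 1 n11462 = n10485 := d12_1 D11462 (iv D10485) (iv F42123)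
theorem F52995 : act 4 n11462 = n8987 := d30_1 D11462 (iv D8987) F33724 (iv F33720) (iv F42124)
theorem F52996 : act 6 n11462 = n11462 := d35_2 D8985 D11462 (iv D11462) (iv D8985) F33714
theorem F52997 : act 9 n11462 = n9012 := d38_2 (iv F42125) D11462 (iv D9012)
def n11463 : Q := act 7 n8985
theorem D11463 : act 7 n8985 = n11463 := rfl
theorem F52998 : act 0 n11463 = n9529 := d6_1 D11463 (iv D9529) (iv F42122)
theorem F52999 : act 1 n11463 = n10486 := d14_1 D11463 (iv D10486) (iv F42123)
theorem F53000 : act 4 n11463 = n8986 := d32_1 D11463 (iv D8986) (iv F42124)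
theorem F53001 : act 6 n11463 = n9814 := d39_1 D11463 (iv D9814) (iv D7724) (iv F33715) D8985
theorem F53002 : act 9 n11463 = n9013 := d43_2 (iv F42125) D11463 (iv D9013)
def n11464 : Q := act 7 n8987
theorem D11464 : act 7 n8987 = n11464 := rfl
theorem F53003 : act 0 n11464 = n9530 := d6_1 D11464 (iv D9530) (iv F42132)
theorem F53004 : act 3 n11464 = n11464 := d27_1 D11464 (iv D11464) F42133
theorem F53005 : act 5 n11464 = n8988 := d36_1 D11464 (iv D8988) D8987
theorem F53006 : act 9 n11464 = n9014 := d43_2 (iv F42135) D11464 (iv D9014)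
def n11465 : Q := act 8 n8987
theorem D11465 : act 8 n8987 = n11465 := rfl
theorem F53007 : act 0 n11465 = n9531 := d7_1 D11465 (iv D9531) (iv F42132)
theorem F53008 : act 3 n11465 = n11465 := d28_1 D11465 (iv D11465) F42133
theorem F53009 : act 6 n11465 = n11465 := d40_1 D11465 (iv D11465) F42134
def n11466 : Q := act 2 n8989
theorem D11466 : act 2 n8989 = n11466 := rfl
theorem F53010 : act 0 n11466 = n9532 := d1_1 D11466 (iv D9532) (iv F42141)
theorem F53011 : act 3 n11466 = n9145 := d17_2 D8989 D11466 (iv D9145) (iv D7223) (iv F33732)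
theorem F53012 : act 5 n11466 = n11466 := d19_2 F42143 D11466 (iv D11466)
theorem F53013 : act 7 n11466 = n9736 := d21_2 (iv F42144) D11466 (iv D9736)
theorem F53014 : act 8 n11466 = n8992 := d22_2 (iv F42145) D11466 (iv D8992)
theorem F53015 : act 9 n11466 = n9732 := d23_2 (iv F42146) D11466 (iv D9732)
def n11467 : Q := act 6 n8989
theorem D11467 : act 6 n8989 = n11467 := rfl
theorem F53016 : act 0 n11467 = n9533 := d5_1 D11467 (iv D9533) (iv F42141)
theorem F53018 : act 3 n11467 = n8990 := d26_1 D11467 (iv D8990) D8989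
theorem F53019 : act 8 n11467 = n8993 := d40_2 (iv F42145) D11467 (iv D8993)
theorem F53020 : act 9 n11467 = n9733 := d41_2 (iv F42146) D11467 (iv D9733)
def n11468 : Q := act 5 n8990
theorem D11468 : act 5 n8990 = n11468 := rfl
theorem F53021 : act 0 n11468 = n9534 := d4_1 D11468 (iv D9534) (iv F42147)
theorem F53022 : act 1 n11468 = n10356 := d12_1 D11468 (iv D10356) (iv F42148)
theorem F53023 : act 2 n11468 = n9147 := d19_1 D11468 (iv D9147) (iv F42149)
theorem F53024 : act 6 n11468 = n11468 := d35_2 D8990 D11468 (iv D11468) (iv D8990) F33733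
theorem F53025 : act 8 n11468 = n11468 := d37_2 (iv F42151) D11468 (iv D11468) F42151 F33751
theorem F53026 : act 9 n11468 = n9734 := d38_2 (iv F42152) D11468 (iv D9734)
def n11469 : Q := act 7 n8990
theorem D11469 : act 7 n8990 = n11469 := rfl
theorem F53027 : act 0 n11469 = n9535 := d6_1 D11469 (iv D9535) (iv F42147)
theorem F53028 : act 1 n11469 = n10357 := d14_1 D11469 (iv D10357) (iv F42148)
theorem F53029 : act 2 n11469 = n9148 := d21_1 D11469 (iv D9148) (iv F42149)
theorem F53030 : act 4 n11469 = n8991 := d32_1 D11469 (iv D8991) (iv F42150)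
theorem F53031 : act 6 n11469 = n9739 := d39_1 D11469 (iv D9739) (iv D7669) (iv F33734) D8990
theorem F53032 : act 8 n11469 = n8994 := d42_2 (iv F42151) D11469 (iv D8994)
theorem F53033 : act 9 n11469 = n9735 := d43_2 (iv F42152) D11469 (iv D9735)
def n11470 : Q := act 1 n8992
theorem D11470 : act 1 n8992 = n11470 := rfl
theorem F53034 : act 2 n11470 = n10531 := d9_2 D8992 D11470 (iv D10531) (iv D8248) (iv F33743)
theorem F53035 : act 3 n11470 = n9153 := d10_2 (iv F42160) D11470 (iv D9153)
theorem F53038 : act 9 n11470 = n9016 := d16_2 (iv F42163) D11470 (iv D9016)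
def n11471 : Q := act 6 n8992
theorem D11471 : act 6 n8992 = n11471 := rfl
theorem F53039 : act 0 n11471 = n9537 := d5_1 D11471 (iv D9537) (iv F42159)
theorem F53040 : act 2 n11471 = n8993 := d20_1 D11471 (iv D8993) D8992
theorem F53041 : act 3 n11471 = n9154 := d26_1 D11471 (iv D9154) (iv F42160)
theorem F53042 : act 5 n11471 = n11471 := d35_1 D11471 (iv D11471) F42161 F33762 (iv F42161)
theorem F53043 : act 9 n11471 = n9017 := d41_2 (iv F42163) D11471 (iv D9017)
def n11472 : Q := act 7 n8993
theorem D11472 : act 7 n8993 = n11472 := rfl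
theorem F53044 : act 0 n11472 = n9538 := d6_1 D11472 (iv D9538) (iv F42164)
theorem F53046 : act 3 n11472 = n8994 := d27_1 D11472 (iv D8994) (iv F42166)
theorem F53047 : act 5 n11472 = n11472 := d36_1 D11472 (iv D11472) F42167
theorem F53048 : act 6 n11472 = n9841 := d39_1 D11472 (iv D9841) (iv D7744) (iv F33745) D8993
theorem F53049 : act 9 n11472 = n9018 := d43_2 (iv F42168) D11472 (iv D9018)
def n11473 : Q := act 0 n8995
theorem D11473 : act 0 n8995 = n11473 := rfl
theorem F53052 : act 3 n11473 = n9160 := d2_2 (iv F42177) D11473 (iv D9160)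
theorem F53057 : act 9 n11473 = n9019 := d8_2 (iv F42182) D11473 (iv D9019)
def n11474 : Q := act 4 n8996
theorem D11474 : act 4 n8996 = n11474 := rfl
theorem F53058 : act 0 n11474 = n8999 := d3_1 D11474 (iv D8999) (iv F42183)
theorem F53059 : act 1 n11474 = n9540 := d11_1 D11474 (iv D9540) (iv F42184)
theorem F53060 : act 2 n11474 = n10393 := d18_1 D11474 (iv D10393) (iv F42185)
theorem F53061 : act 5 n11474 = n11474 := d30_2 D8996 D11474 (iv D11474) (iv D8996) F33770
theorem F53062 : act 7 n11474 = n9760 := d32_2 (iv F42187) D11474 (iv D9760)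
theorem F53063 : act 8 n11474 = n9762 := d33_2 (iv F42188) D11474 (iv D9762)
def n11475 : Q := act 6 n8996
theorem D11475 : act 6 n8996 = n11475 := rfl
theorem F53064 : act 0 n11475 = n9000 := d5_1 D11475 (iv D9000) (iv F42183)
theorem F53065 : act 1 n11475 = n9541 := d13_1 D11475 (iv D9541) (iv F42184)
theorem F53066 : act 2 n11475 = n10394 := d20_1 D11475 (iv D10394) (iv F42185)
theorem F53067 : act 3 n11475 = n9165 := d26_1 D11475 (iv D9165) (iv F42186)
theorem F53068 : act 5 n11475 = n8998 := d35_1 D11475 (iv D8998) (iv D7105) (iv F33771) D8996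
theorem F53069 : act 8 n11475 = n9763 := d40_2 (iv F42188) D11475 (iv D9763)
def n11476 : Q := act 3 n8997
theorem D11476 : act 3 n8997 = n11476 := rfl
theorem F53070 : act 0 n11476 = n9001 := d2_1 D11476 (iv D9001) (iv F42189)
theorem F53071 : act 1 n11476 = n9542 := d10_1 D11476 (iv D9542) (iv F42190)
theorem F53072 : act 4 n11476 = n9166 := d24_2 D8997 D11476 (iv D9166) (iv D7240) (iv F33775)
theorem F53073 : act 5 n11476 = n11476 := d25_2 F42191 D11476 (iv D11476)
theorem F53074 : act 7 n11476 = n11476 := d27_2 F42192 D11476 (iv D11476)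
theorem F53075 : act 8 n11476 = n11476 := d28_2 F42193 D11476 (iv D11476)
def n11477 : Q := act 6 n8997
theorem D11477 : act 6 n8997 = n11477 := rfl
theorem F53076 : act 0 n11477 = n9002 := d5_1 D11477 (iv D9002) (iv F42189)
theorem F53077 : act 1 n11477 = n9543 := d13_1 D11477 (iv D9543) (iv F42190)
theorem F53078 : act 4 n11477 = n8998 := d31_1 D11477 (iv D8998) D8997
theorem F53079 : act 8 n11477 = n11477 := d40_2 F42193 D11477 (iv D11477)
def n11478 : Q := act 7 n8998
theorem D11478 : act 7 n8998 = n11478 := rfl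
theorem F53080 : act 0 n11478 = n9003 := d6_1 D11478 (iv D9003) (iv F42194)
theorem F53081 : act 1 n11478 = n9544 := d14_1 D11478 (iv D9544) (iv F42195)
theorem F53082 : act 3 n11478 = n9168 := d27_1 D11478 (iv D9168) (iv F42196)
theorem F53083 : act 6 n11478 = n11478 := d39_1 D11478 (iv D11478) (iv D8998) F33776 D8998
theorem F53084 : act 8 n11478 = n11478 := d42_2 F42197 D11478 (iv D11478)
def n11479 : Q := act 3 n8999
theorem D11479 : act 3 n8999 = n11479 := rfl
theorem F53085 : act 1 n11479 = n9004 := d10_1 D11479 (iv D9004) (iv F42198)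
theorem F53086 : act 4 n11479 = n9174 := d24_2 D8999 D11479 (iv D9174) (iv D7245) (iv F33780)
theorem F53087 : act 5 n11479 = n11479 := d25_2 F42200 D11479 (iv D11479)
theorem F53088 : act 7 n11479 = n9773 := d27_2 (iv F42201) D11479 (iv D9773)
theorem F53089 : act 8 n11479 = n9776 := d28_2 (iv F42202) D11479 (iv D9776)
def n11480 : Q := act 6 n8999
theorem D11480 : act 6 n8999 = n11480 := rfl
theorem F53090 : act 1 n11480 = n9005 := d13_1 D11480 (iv D9005) (iv F42198)
theorem F53091 : act 2 n11480 = n10416 := d20_1 D11480 (iv D10416) (iv F42199)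
theorem F53092 : act 4 n11480 = n9000 := d31_1 D11480 (iv D9000) D8999
theorem F53093 : act 8 n11480 = n9777 := d40_2 (iv F42202) D11480 (iv D9777)
def n11481 : Q := act 7 n9000
theorem D11481 : act 7 n9000 = n11481 := rfl
theorem F53094 : act 1 n11481 = n9006 := d14_1 D11481 (iv D9006) (iv F42203)
theorem F53095 : act 2 n11481 = n10417 := d21_1 D11481 (iv D10417) (iv F42204)
theorem F53096 : act 3 n11481 = n9176 := d27_1 D11481 (iv D9176) (iv F42205)
theorem F53097 : act 5 n11481 = n9003 := d36_1 D11481 (iv D9003) (iv F42206)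
theorem F53098 : act 6 n11481 = n9775 := d39_1 D11481 (iv D9775) (iv D7697) (iv F33781) D9000
theorem F53099 : act 8 n11481 = n9778 := d42_2 (iv F42207) D11481 (iv D9778)
def n11482 : Q := act 2 n9001
theorem D11482 : act 2 n9001 = n11482 := rfl
theorem F53100 : act 1 n11482 = n11482 := d9_1 D11482 (iv D11482) F42208 F33801 (iv F42208)
theorem F53101 : act 4 n11482 = n9177 := d18_2 (iv F42209) D11482 (iv D9177)
theorem F53102 : act 5 n11482 = n11482 := d19_2 F42210 D11482 (iv D11482)
theorem F53103 : act 7 n11482 = n11482 := d21_2 F42211 D11482 (iv D11482)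
theorem F53104 : act 8 n11482 = n11482 := d22_2 F42212 D11482 (iv D11482)
def n11483 : Q := act 6 n9001
theorem D11483 : act 6 n9001 = n11483 := rfl
theorem F53105 : act 1 n11483 = n9007 := d13_1 D11483 (iv D9007) (iv F42208)
theorem F53106 : act 3 n11483 = n9002 := d26_1 D11483 (iv D9002) D9001
theorem F53107 : act 4 n11483 = n9178 := d31_1 D11483 (iv D9178) (iv F42209)
theorem F53108 : act 8 n11483 = n11483 := d40_2 F42212 D11483 (iv D11483)
def n11484 : Q := act 5 n9002
theorem D11484 : act 5 n9002 = n11484 := rfl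
theorem F53109 : act 1 n11484 = n9008 := d12_1 D11484 (iv D9008) (iv F42213)
theorem F53110 : act 6 n11484 = n11484 := d35_2 D9002 D11484 (iv D11484) (iv D9002) F33784
def n11485 : Q := act 7 n9002
theorem D11485 : act 7 n9002 = n11485 := rfl
theorem F53111 : act 1 n11485 = n9009 := d14_1 D11485 (iv D9009) (iv F42213)
theorem F53112 : act 4 n11485 = n9003 := d32_1 D11485 (iv D9003) (iv F42214)
theorem F53113 : act 6 n11485 = n11485 := d39_1 D11485 (iv D11485) (iv D9002) F33785 D9002
theorem F53114 : act 8 n11485 = n11485 := d42_2 F42215 D11485 (iv D11485)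
def n11486 : Q := act 2 n9004
theorem D11486 : act 2 n9004 = n11486 := rfl
theorem F53115 : act 0 n11486 = n9552 := d1_1 D11486 (iv D9552) (iv F42220)
theorem F53116 : act 3 n11486 = n9010 := d17_2 D9004 D11486 (iv D9010) (iv D7114) (iv F33791)
theorem F53117 : act 4 n11486 = n9189 := d18_2 (iv F42221) D11486 (iv D9189)
theorem F53118 : act 5 n11486 = n11486 := d19_2 F42222 D11486 (iv D11486)
theorem F53119 : act 7 n11486 = n9791 := d21_2 (iv F42223) D11486 (iv D9791)
theorem F53120 : act 8 n11486 = n9795 := d22_2 (iv F42224) D11486 (iv D9795)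
def n11487 : Q := act 6 n9004
theorem D11487 : act 6 n9004 = n11487 := rfl
theorem F53121 : act 0 n11487 = n9553 := d5_1 D11487 (iv D9553) (iv F42220)
theorem F53122 : act 3 n11487 = n9005 := d26_1 D11487 (iv D9005) D9004
theorem F53123 : act 4 n11487 = n9190 := d31_1 D11487 (iv D9190) (iv F42221)
theorem F53124 : act 8 n11487 = n9796 := d40_2 (iv F42224) D11487 (iv D9796)
def n11488 : Q := act 5 n9005
theorem D11488 : act 5 n9005 = n11488 := rfl
theorem F53125 : act 0 n11488 = n9554 := d4_1 D11488 (iv D9554) (iv F42225)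
theorem F53126 : act 2 n11488 = n9012 := d19_1 D11488 (iv D9012) (iv F42226)
theorem F53127 : act 4 n11488 = n9008 := d30_1 D11488 (iv D9008) F33808 (iv F33798) (iv F42227)
theorem F53128 : act 6 n11488 = n11488 := d35_2 D9005 D11488 (iv D11488) (iv D9005) F33792
def n11489 : Q := act 7 n9005
theorem D11489 : act 7 n9005 = n11489 := rfl
theorem F53129 : act 0 n11489 = n9555 := d6_1 D11489 (iv D9555) (iv F42225)
theorem F53130 : act 2 n11489 = n9013 := d21_1 D11489 (iv D9013) (iv F42226)
theorem F53131 : act 4 n11489 = n9006 := d32_1 D11489 (iv D9006) (iv F42227)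
theorem F53132 : act 6 n11489 = n9794 := d39_1 D11489 (iv D9794) (iv D7710) (iv F33793) D9005
theorem F53133 : act 8 n11489 = n9798 := d42_2 (iv F42228) D11489 (iv D9798)
def n11490 : Q := act 5 n9007
theorem D11490 : act 5 n9007 = n11490 := rfl
theorem F53134 : act 0 n11490 = n9556 := d4_1 D11490 (iv D9556) (iv F42235)
theorem F53135 : act 2 n11490 = n11490 := d19_1 D11490 (iv D11490) F42236
theorem F53136 : act 3 n11490 = n9008 := d25_1 D11490 (iv D9008) (iv F42237)
theorem F53137 : act 6 n11490 = n11490 := d35_2 D9007 D11490 (iv D11490) (iv D9007) F33803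
def n11491 : Q := act 7 n9007
theorem D11491 : act 7 n9007 = n11491 := rfl
theorem F53138 : act 0 n11491 = n9557 := d6_1 D11491 (iv D9557) (iv F42235)
theorem F53139 : act 2 n11491 = n11491 := d21_1 D11491 (iv D11491) F42236
theorem F53140 : act 3 n11491 = n9009 := d27_1 D11491 (iv D9009) (iv F42237)
theorem F53141 : act 4 n11491 = n9194 := d32_1 D11491 (iv D9194) (iv F42238)
theorem F53142 : act 6 n11491 = n11491 := d39_1 D11491 (iv D11491) (iv D9007) F33804 D9007
theorem F53143 : act 8 n11491 = n11491 := d42_2 F42239 D11491 (iv D11491)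
def n11492 : Q := act 7 n9008
theorem D11492 : act 7 n9008 = n11492 := rfl
theorem F53144 : act 0 n11492 = n9558 := d6_1 D11492 (iv D9558) (iv F42240)
theorem F53145 : act 2 n11492 = n9014 := d21_1 D11492 (iv D9014) (iv F42241)
theorem F53146 : act 5 n11492 = n9009 := d36_1 D11492 (iv D9009) D9008
def n11493 : Q := act 8 n9008
theorem D11493 : act 8 n9008 = n11493 := rfl
theorem F53147 : act 0 n11493 = n9559 := d7_1 D11493 (iv D9559) (iv F42240)
theorem F53148 : act 2 n11493 = n9015 := d22_1 D11493 (iv D9015) (iv F42241)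
theorem F53149 : act 5 n11493 = n11493 := d37_1 D11493 (iv D11493) (iv D9008) F33809 D9008
theorem F53150 : act 6 n11493 = n11493 := d40_1 D11493 (iv D11493) F42242
def n11494 : Q := act 1 n9010
theorem D11494 : act 1 n9010 = n11494 := rfl
theorem F53154 : act 7 n11494 = n9815 := d14_2 (iv F42251) D11494 (iv D9815)
theorem F53155 : act 8 n11494 = n9821 := d15_2 (iv F42252) D11494 (iv D9821)
def n11495 : Q := act 6 n9010
theorem D11495 : act 6 n9010 = n11495 := rfl
theorem F53156 : act 0 n11495 = n9561 := d5_1 D11495 (iv D9561) (iv F42248)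
theorem F53157 : act 2 n11495 = n9011 := d20_1 D11495 (iv D9011) D9010
theorem F53158 : act 4 n11495 = n9017 := d31_1 D11495 (iv D9017) (iv F42249)
theorem F53159 : act 8 n11495 = n9822 := d40_2 (iv F42252) D11495 (iv D9822)
def n11496 : Q := act 5 n9011
theorem D11496 : act 5 n9011 = n11496 := rfl
theorem F53160 : act 0 n11496 = n9562 := d4_1 D11496 (iv D9562) (iv F42253)
theorem F53162 : act 3 n11496 = n9012 := d25_1 D11496 (iv D9012) (iv F42255)
theorem F53163 : act 4 n11496 = n11496 := d30_1 D11496 (iv D11496) F42256 F33847 (iv F42256)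
theorem F53164 : act 6 n11496 = n11496 := d35_2 D9011 D11496 (iv D11496) (iv D9011) F33818
def n11497 : Q := act 7 n9011
theorem D11497 : act 7 n9011 = n11497 := rfl
theorem F53165 : act 0 n11497 = n9563 := d6_1 D11497 (iv D9563) (iv F42253)
theorem F53167 : act 3 n11497 = n9013 := d27_1 D11497 (iv D9013) (iv F42255)
theorem F53168 : act 4 n11497 = n9018 := d32_1 D11497 (iv D9018) (iv F42256)
theorem F53169 : act 6 n11497 = n9818 := d39_1 D11497 (iv D9818) (iv D7727) (iv F33819) D9011
theorem F53170 : act 8 n11497 = n9824 := d42_2 (iv F42257) D11497 (iv D9824)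
def n11498 : Q := act 7 n9012
theorem D11498 : act 7 n9012 = n11498 := rfl
theorem F53171 : act 0 n11498 = n9564 := d6_1 D11498 (iv D9564) (iv F42258)
theorem F53172 : act 1 n11498 = n10491 := d14_1 D11498 (iv D10491) (iv F42259)
theorem F53173 : act 4 n11498 = n9014 := d32_1 D11498 (iv D9014) (iv F42260)
theorem F53174 : act 5 n11498 = n9013 := d36_1 D11498 (iv D9013) D9012
def n11499 : Q := act 8 n9012
theorem D11499 : act 8 n9012 = n11499 := rfl
theorem F53175 : act 0 n11499 = n9565 := d7_1 D11499 (iv D9565) (iv F42258)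
theorem F53177 : act 4 n11499 = n9015 := d33_1 D11499 (iv D9015) (iv F42260)
theorem F53178 : act 5 n11499 = n9826 := d37_1 D11499 (iv D9826) (iv D7732) (iv F33824) D9012
theorem F53179 : act 6 n11499 = n11499 := d40_1 D11499 (iv D11499) F42261
def n11500 : Q := act 6 n9014
theorem D11500 : act 6 n9014 = n11500 := rfl
theorem F53180 : act 0 n11500 = n9566 := d5_1 D11500 (iv D9566) (iv F42267)
theorem F53181 : act 3 n11500 = n11500 := d26_1 D11500 (iv D11500) F42268
theorem F53182 : act 5 n11500 = n11500 := d35_1 D11500 (iv D11500) F42269 F33837 (iv F42269)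
theorem F53183 : act 7 n11500 = n11500 := d39_2 D9014 D11500 (iv D11500) (iv D9014) F33833
def n11501 : Q := act 8 n9014
theorem D11501 : act 8 n9014 = n11501 := rfl
theorem F53184 : act 0 n11501 = n9567 := d7_1 D11501 (iv D9567) (iv F42267)
theorem F53185 : act 3 n11501 = n11501 := d28_1 D11501 (iv D11501) F42268
theorem F53186 : act 5 n11501 = n11501 := d37_1 D11501 (iv D11501) F42269 F33838 (iv F42269)
theorem F53187 : act 7 n11501 = n9015 := d42_1 D11501 (iv D9015) D9014
def n11502 : Q := act 9 n9015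
theorem D11502 : act 9 n9015 = n11502 := rfl
theorem F53188 : act 0 n11502 = n9568 := d8_1 D11502 (iv D9568) (iv F42270)
theorem F53189 : act 3 n11502 = n11502 := d29_1 D11502 (iv D11502) F42271
theorem F53190 : act 5 n11502 = n11502 := d38_1 D11502 (iv D11502) F42272
theorem F53191 : act 6 n11502 = n11502 := d41_1 D11502 (iv D11502) F42273
def n11503 : Q := act 0 n9016
theorem D11503 : act 0 n9016 = n11503 := rfl
theorem F53192 : act 1 n11503 = n9569 := d0_2 D9016 D11503 (iv D9569) (iv D7545) (iv F33839)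
theorem F53194 : act 3 n11503 = n9231 := d2_2 (iv F42275) D11503 (iv D9231)
theorem F53197 : act 8 n11503 = n9850 := d7_2 (iv F42278) D11503 (iv D9850)
def n11504 : Q := act 6 n9016
theorem D11504 : act 6 n9016 = n11504 := rfl
theorem F53202 : act 8 n11504 = n9851 := d40_2 (iv F42278) D11504 (iv D9851)
def n11505 : Q := act 7 n9017
theorem D11505 : act 7 n9017 = n11505 := rfl
theorem F53203 : act 0 n11505 = n9571 := d6_1 D11505 (iv D9571) (iv F42279)
theorem F53204 : act 2 n11505 = n9018 := d21_1 D11505 (iv D9018) (iv F42280)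
theorem F53205 : act 3 n11505 = n9233 := d27_1 D11505 (iv D9233) (iv F42281)
theorem F53206 : act 5 n11505 = n11505 := d36_1 D11505 (iv D11505) F42282
theorem F53207 : act 6 n11505 = n9847 := d39_1 D11505 (iv D9847) (iv D7748) (iv F33842) D9017
theorem F53208 : act 8 n11505 = n9853 := d42_2 (iv F42283) D11505 (iv D9853)
def n11506 : Q := act 8 n9020
theorem D11506 : act 8 n9020 = n11506 := rfl
theorem F53209 : act 0 n11506 = n9024 := d7_1 D11506 (iv D9024) (iv F42297)
theorem F53210 : act 1 n11506 = n9572 := d15_1 D11506 (iv D9572) (iv F42298)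
theorem F53211 : act 2 n11506 = n11506 := d22_1 D11506 (iv D11506) F42299
theorem F53212 : act 3 n11506 = n9099 := d28_1 D11506 (iv D9099) (iv F42300)
theorem F53213 : act 4 n11506 = n9671 := d33_1 D11506 (iv D9671) (iv F42301)
theorem F53214 : act 6 n11506 = n9081 := d40_1 D11506 (iv D9081) (iv F42303)
theorem F53215 : act 7 n11506 = n9098 := d42_1 D11506 (iv D9098) (iv F42304)
theorem F53216 : act 9 n11506 = n9511 := d44_2 D9020 D11506 (iv D9511) (iv D7502) (iv F33877)
def n11507 : Q := act 5 n9021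
theorem D11507 : act 5 n9021 = n11507 := rfl
theorem F53217 : act 0 n11507 = n9025 := d4_1 D11507 (iv D9025) (iv F42305)
theorem F53218 : act 1 n11507 = n9573 := d12_1 D11507 (iv D9573) (iv F42306)
theorem F53219 : act 2 n11507 = n11507 := d19_1 D11507 (iv D11507) F42307
theorem F53220 : act 3 n11507 = n9274 := d25_1 D11507 (iv D9274) (iv F42308)
theorem F53221 : act 7 n11507 = n9273 := d36_2 (iv F42311) D11507 (iv D9273)
theorem F53222 : act 9 n11507 = n11507 := d38_2 F42312 D11507 (iv D11507)
def n11508 : Q := act 4 n9022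
theorem D11508 : act 4 n9022 = n11508 := rfl
theorem F53223 : act 0 n11508 = n9026 := d3_1 D11508 (iv D9026) (iv F42313)
theorem F53224 : act 1 n11508 = n9574 := d11_1 D11508 (iv D9574) (iv F42314)
theorem F53225 : act 2 n11508 = n11508 := d18_1 D11508 (iv D11508) F42315
theorem F53226 : act 5 n11508 = n11508 := d30_2 D9022 D11508 (iv D11508) (iv D9022) F33888
theorem F53227 : act 7 n11508 = n11508 := d32_2 F42316 D11508 (iv D11508)
theorem F53228 : act 8 n11508 = n9084 := d33_2 (iv F42317) D11508 (iv D9084)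
theorem F53229 : act 9 n11508 = n11508 := d34_2 F42318 D11508 (iv D11508)
def n11509 : Q := act 6 n9022
theorem D11509 : act 6 n9022 = n11509 := rfl
theorem F53230 : act 0 n11509 = n9027 := d5_1 D11509 (iv D9027) (iv F42313)
theorem F53231 : act 1 n11509 = n9575 := d13_1 D11509 (iv D9575) (iv F42314)
theorem F53232 : act 2 n11509 = n11509 := d20_1 D11509 (iv D11509) F42315
theorem F53233 : act 8 n11509 = n9085 := d40_2 (iv F42317) D11509 (iv D9085)
theorem F53234 : act 9 n11509 = n11509 := d41_2 F42318 D11509 (iv D11509)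
def n11510 : Q := act 8 n9023
theorem D11510 : act 8 n9023 = n11510 := rfl
theorem F53235 : act 0 n11510 = n9671 := d7_1 D11510 (iv D9671) (iv F42319)
theorem F53236 : act 1 n11510 = n9031 := d15_1 D11510 (iv D9031) (iv F42320)
theorem F53237 : act 2 n11510 = n11510 := d22_1 D11510 (iv D11510) F42321
theorem F53238 : act 3 n11510 = n9100 := d28_1 D11510 (iv D9100) (iv F42322)
theorem F53239 : act 4 n11510 = n9024 := d33_1 D11510 (iv D9024) (iv F42323)
theorem F53240 : act 6 n11510 = n9087 := d40_1 D11510 (iv D9087) (iv F42325)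
theorem F53241 : act 7 n11510 = n9511 := d42_1 D11510 (iv D9511) (iv F42326)
theorem F53242 : act 9 n11510 = n9098 := d44_2 D9023 D11510 (iv D9098) (iv D7188) (iv F33898)
def n11511 : Q := act 5 n9024
theorem D11511 : act 5 n9024 = n11511 := rfl
theorem F53243 : act 1 n11511 = n9036 := d12_1 D11511 (iv D9036) (iv F42327)
theorem F53244 : act 2 n11511 = n11511 := d19_1 D11511 (iv D11511) F42328
theorem F53245 : act 3 n11511 = n9673 := d25_1 D11511 (iv D9673) (iv F42329)
theorem F53246 : act 7 n11511 = n9672 := d36_2 (iv F42331) D11511 (iv D9672)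
theorem F53247 : act 8 n11511 = n9025 := d37_2 D9024 D11511 (iv D9025) (iv D7129) (iv F33902)
def n11512 : Q := act 4 n9025
theorem D11512 : act 4 n9025 = n11512 := rfl
theorem F53248 : act 1 n11512 = n9038 := d11_1 D11512 (iv D9038) (iv F42332)
theorem F53249 : act 2 n11512 = n11512 := d18_1 D11512 (iv D11512) F42333
theorem F53250 : act 5 n11512 = n11512 := d30_2 D9025 D11512 (iv D11512) (iv D9025) F33908
theorem F53251 : act 7 n11512 = n9899 := d32_2 (iv F42335) D11512 (iv D9899)
theorem F53252 : act 9 n11512 = n11512 := d34_2 F42336 D11512 (iv D11512)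
def n11513 : Q := act 6 n9025
theorem D11513 : act 6 n9025 = n11513 := rfl
theorem F53253 : act 1 n11513 = n9039 := d13_1 D11513 (iv D9039) (iv F42332)
theorem F53254 : act 2 n11513 = n11513 := d20_1 D11513 (iv D11513) F42333
theorem F53255 : act 3 n11513 = n9902 := d26_1 D11513 (iv D9902) (iv F42334)
theorem F53256 : act 5 n11513 = n9027 := d35_1 D11513 (iv D9027) (iv D7130) (iv F33909) D9025
theorem F53257 : act 9 n11513 = n11513 := d41_2 F42336 D11513 (iv D11513)
def n11514 : Q := act 3 n9026
theorem D11514 : act 3 n9026 = n11514 := rfl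
theorem F53258 : act 1 n11514 = n9040 := d10_1 D11514 (iv D9040) (iv F42337)
theorem F53259 : act 5 n11514 = n11514 := d25_2 F42339 D11514 (iv D11514)
theorem F53260 : act 7 n11514 = n11514 := d27_2 F42340 D11514 (iv D11514)
theorem F53261 : act 8 n11514 = n9095 := d28_2 (iv F42341) D11514 (iv D9095)
theorem F53262 : act 9 n11514 = n11514 := d29_2 F42342 D11514 (iv D11514)
def n11515 : Q := act 6 n9026
theorem D11515 : act 6 n9026 = n11515 := rfl
theorem F53263 : act 1 n11515 = n9041 := d13_1 D11515 (iv D9041) (iv F42337)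
theorem F53264 : act 2 n11515 = n11515 := d20_1 D11515 (iv D11515) F42338
theorem F53265 : act 4 n11515 = n9027 := d31_1 D11515 (iv D9027) D9026
theorem F53266 : act 8 n11515 = n9096 := d40_2 (iv F42341) D11515 (iv D9096)
theorem F53267 : act 9 n11515 = n11515 := d41_2 F42342 D11515 (iv D11515)
def n11516 : Q := act 7 n9027
theorem D11516 : act 7 n9027 = n11516 := rfl
theorem F53268 : act 1 n11516 = n9042 := d14_1 D11516 (iv D9042) (iv F42343)
theorem F53269 : act 2 n11516 = n11516 := d21_1 D11516 (iv D11516) F42344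
theorem F53270 : act 6 n11516 = n11516 := d39_1 D11516 (iv D11516) (iv D9027) F33914 D9027
theorem F53271 : act 8 n11516 = n9097 := d42_2 (iv F42345) D11516 (iv D9097)
theorem F53272 : act 9 n11516 = n11516 := d43_2 F42346 D11516 (iv D11516)
def n11517 : Q := act 8 n9028
theorem D11517 : act 8 n9028 = n11517 := rfl
theorem F53273 : act 0 n11517 = n9586 := d7_1 D11517 (iv D9586) (iv F42347)
theorem F53274 : act 1 n11517 = n9100 := d15_1 D11517 (iv D9100) (iv F42348)
theorem F53275 : act 2 n11517 = n11517 := d22_1 D11517 (iv D11517) F42349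
theorem F53276 : act 3 n11517 = n9031 := d28_1 D11517 (iv D9031) (iv F42350)
theorem F53277 : act 4 n11517 = n9090 := d33_1 D11517 (iv D9090) (iv F42351)
theorem F53278 : act 6 n11517 = n9098 := d40_1 D11517 (iv D9098) (iv F42353)
theorem F53279 : act 7 n11517 = n9504 := d42_1 D11517 (iv D9504) (iv F42354)
theorem F53280 : act 9 n11517 = n9087 := d44_2 D9028 D11517 (iv D9087) (iv D7179) F33923
def n11518 : Q := act 8 n9029
theorem D11518 : act 8 n9029 = n11518 := rfl
theorem F53281 : act 0 n11518 = n9578 := d7_1 D11518 (iv D9578) (iv F42355)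
theorem F53282 : act 1 n11518 = n9511 := d15_1 D11518 (iv D9511) (iv F42356)
theorem F53283 : act 2 n11518 = n9043 := d22_1 D11518 (iv D9043) (iv F42357)
theorem F53284 : act 3 n11518 = n9504 := d28_1 D11518 (iv D9504) (iv F42358)
theorem F53285 : act 4 n11518 = n9034 := d33_1 D11518 (iv D9034) (iv F42359)
theorem F53286 : act 6 n11518 = n9649 := d40_1 D11518 (iv D9649) (iv F42361)
theorem F53287 : act 7 n11518 = n9031 := d42_1 D11518 (iv D9031) (iv F42362)
theorem F53288 : act 9 n11518 = n9572 := d44_2 D9029 D11518 (iv D9572) (iv D7549) (iv F33932)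
def n11519 : Q := act 8 n9030
theorem D11519 : act 8 n9030 = n11519 := rfl
theorem F53289 : act 0 n11519 = n9577 := d7_1 D11519 (iv D9577) (iv F42363)
theorem F53290 : act 1 n11519 = n9098 := d15_1 D11519 (iv D9098) (iv F42364)
theorem F53291 : act 2 n11519 = n9044 := d22_1 D11519 (iv D9044) (iv F42365)
theorem F53292 : act 3 n11519 = n9087 := d28_1 D11519 (iv D9087) (iv F42366)
theorem F53293 : act 4 n11519 = n9035 := d33_1 D11519 (iv D9035) (iv F42367)
theorem F53294 : act 6 n11519 = n9100 := d40_1 D11519 (iv D9100) (iv F42369)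
theorem F53295 : act 7 n11519 = n9572 := d42_1 D11519 (iv D9572) (iv F42370)
theorem F53296 : act 9 n11519 = n9031 := d44_2 D9030 D11519 (iv D9031) (iv D7134) D7133
def n11520 : Q := act 5 n9031
theorem D11520 : act 5 n9031 = n11520 := rfl
theorem F53297 : act 0 n11520 = n9587 := d4_1 D11520 (iv D9587) (iv F42371)
theorem F53298 : act 2 n11520 = n9045 := d19_1 D11520 (iv D9045) (iv F42372)
theorem F53299 : act 8 n11520 = n11520 := d37_2 D9031 D11520 (iv D11520) (iv D9031) F33944
def n11521 : Q := act 8 n9032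
theorem D11521 : act 8 n9032 = n11521 := rfl
theorem F53300 : act 0 n11521 = n9588 := d7_1 D11521 (iv D9588) (iv F42375)
theorem F53301 : act 1 n11521 = n9586 := d15_1 D11521 (iv D9586) (iv F42376)
theorem F53302 : act 2 n11521 = n9046 := d22_1 D11521 (iv D9046) (iv F42377)
theorem F53303 : act 3 n11521 = n9576 := d28_1 D11521 (iv D9576) (iv F42378)
theorem F53304 : act 4 n11521 = n9649 := d33_1 D11521 (iv D9649) (iv F42379)
theorem F53305 : act 6 n11521 = n9034 := d40_1 D11521 (iv D9034) (iv F42381)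
theorem F53306 : act 7 n11521 = n9102 := d42_1 D11521 (iv D9102) (iv F42382)
theorem F53307 : act 9 n11521 = n9466 := d44_2 D9032 D11521 (iv D9466) (iv D7469) F33953
def n11522 : Q := act 8 n9033
theorem D11522 : act 8 n9033 = n11522 := rfl
theorem F53308 : act 0 n11522 = n9576 := d7_1 D11522 (iv D9576) (iv F42383)
theorem F53309 : act 1 n11522 = n9671 := d15_1 D11522 (iv D9671) (iv F42384)
theorem F53310 : act 2 n11522 = n9047 := d22_1 D11522 (iv D9047) (iv F42385)
theorem F53311 : act 3 n11522 = n9588 := d28_1 D11522 (iv D9588) (iv F42386)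
theorem F53312 : act 4 n11522 = n9572 := d33_1 D11522 (iv D9572) (iv F42387)
theorem F53313 : act 6 n11522 = n9466 := d40_1 D11522 (iv D9466) (iv F42389)
theorem F53314 : act 7 n11522 = n9035 := d42_1 D11522 (iv D9035) (iv F42390)
theorem F53315 : act 9 n11522 = n9034 := d44_2 D9033 D11522 (iv D9034) (iv D7137) D7136
def n11523 : Q := act 5 n9034
theorem D11523 : act 5 n9034 = n11523 := rfl
theorem F53316 : act 0 n11523 = n9589 := d4_1 D11523 (iv D9589) (iv F42391)
theorem F53317 : act 1 n11523 = n9672 := d12_1 D11523 (iv D9672) (iv F42392)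
theorem F53318 : act 2 n11523 = n9048 := d19_1 D11523 (iv D9048) (iv F42393)
theorem F53319 : act 3 n11523 = n9657 := d25_1 D11523 (iv D9657) (iv F42394)
theorem F53320 : act 7 n11523 = n9036 := d36_2 (iv F42395) D11523 (iv D9036)
theorem F53321 : act 8 n11523 = n9037 := d37_2 D9034 D11523 (iv D9037) (iv D7140) (iv F33966)
def n11524 : Q := act 5 n9035
theorem D11524 : act 5 n9035 = n11524 := rfl
theorem F53322 : act 0 n11524 = n9590 := d4_1 D11524 (iv D9590) (iv F42396)
theorem F53323 : act 2 n11524 = n9049 := d19_1 D11524 (iv D9049) (iv F42397)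
theorem F53324 : act 3 n11524 = n9677 := d25_1 D11524 (iv D9677) (iv F42398)
theorem F53325 : act 8 n11524 = n11524 := d37_2 D9035 D11524 (iv D11524) (iv D9035) F33971
theorem F53326 : act 9 n11524 = n9036 := d38_2 (iv F42400) D11524 (iv D9036)
def n11525 : Q := act 4 n9036
theorem D11525 : act 4 n9036 = n11525 := rfl
theorem F53327 : act 0 n11525 = n9591 := d3_1 D11525 (iv D9591) (iv F42401)
theorem F53328 : act 2 n11525 = n9050 := d18_1 D11525 (iv D9050) (iv F42402)
theorem F53329 : act 8 n11525 = n9038 := d33_2 (iv F42403) D11525 (iv D9038)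
def n11526 : Q := act 6 n9036
theorem D11526 : act 6 n9036 = n11526 := rfl
theorem F53330 : act 0 n11526 = n9592 := d5_1 D11526 (iv D9592) (iv F42401)
theorem F53331 : act 2 n11526 = n9051 := d20_1 D11526 (iv D9051) (iv F42402)
theorem F53332 : act 5 n11526 = n9106 := d35_1 D11526 (iv D9106) (iv D7195) (iv F33975) D9036
theorem F53333 : act 8 n11526 = n9039 := d40_2 (iv F42403) D11526 (iv D9039)
def n11527 : Q := act 4 n9037
theorem D11527 : act 4 n9037 = n11527 := rfl
theorem F53334 : act 0 n11527 = n9593 := d3_1 D11527 (iv D9593) (iv F42404)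
theorem F53335 : act 1 n11527 = n9899 := d11_1 D11527 (iv D9899) (iv F42405)
theorem F53336 : act 2 n11527 = n9052 := d18_1 D11527 (iv D9052) (iv F42406)
theorem F53337 : act 5 n11527 = n11527 := d30_2 D9037 D11527 (iv D11527) (iv D9037) F33980
theorem F53338 : act 7 n11527 = n9038 := d32_2 (iv F42408) D11527 (iv D9038)
theorem F53339 : act 9 n11527 = n11527 := d34_2 F42409 D11527 (iv D11527)
def n11528 : Q := act 6 n9037
theorem D11528 : act 6 n9037 = n11528 := rfl
theorem F53340 : act 0 n11528 = n9594 := d5_1 D11528 (iv D9594) (iv F42404)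
theorem F53341 : act 1 n11528 = n9900 := d13_1 D11528 (iv D9900) (iv F42405)
theorem F53342 : act 2 n11528 = n9053 := d20_1 D11528 (iv D9053) (iv F42406)
theorem F53343 : act 3 n11528 = n9881 := d26_1 D11528 (iv D9881) (iv F42407)
theorem F53344 : act 5 n11528 = n11528 := d35_1 D11528 (iv D11528) (iv D9037) F33981 D9037
theorem F53345 : act 9 n11528 = n11528 := d41_2 F42409 D11528 (iv D11528)
def n11529 : Q := act 3 n9038
theorem D11529 : act 3 n9038 = n11529 := rfl
theorem F53346 : act 0 n11529 = n9595 := d2_1 D11529 (iv D9595) (iv F42410)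
theorem F53347 : act 5 n11529 = n11529 := d25_2 F42412 D11529 (iv D11529)
theorem F53348 : act 9 n11529 = n11529 := d29_2 F42413 D11529 (iv D11529)
def n11530 : Q := act 6 n9038
theorem D11530 : act 6 n9038 = n11530 := rfl
theorem F53349 : act 0 n11530 = n9596 := d5_1 D11530 (iv D9596) (iv F42410)
theorem F53350 : act 2 n11530 = n9055 := d20_1 D11530 (iv D9055) (iv F42411)
theorem F53351 : act 4 n11530 = n9039 := d31_1 D11530 (iv D9039) D9038
theorem F53352 : act 9 n11530 = n11530 := d41_2 F42413 D11530 (iv D11530)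
def n11531 : Q := act 7 n9039
theorem D11531 : act 7 n9039 = n11531 := rfl
theorem F53353 : act 0 n11531 = n9597 := d6_1 D11531 (iv D9597) (iv F42414)
theorem F53354 : act 2 n11531 = n9056 := d21_1 D11531 (iv D9056) (iv F42415)
theorem F53355 : act 5 n11531 = n9042 := d36_1 D11531 (iv D9042) (iv F42416)
theorem F53356 : act 9 n11531 = n11531 := d43_2 F42417 D11531 (iv D11531)
def n11532 : Q := act 6 n9040
theorem D11532 : act 6 n9040 = n11532 := rfl
theorem F53357 : act 0 n11532 = n9598 := d5_1 D11532 (iv D9598) (iv F42418)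
theorem F53358 : act 2 n11532 = n11532 := d20_1 D11532 (iv D11532) F42419
theorem F53359 : act 3 n11532 = n9041 := d26_1 D11532 (iv D9041) D9040
theorem F53360 : act 8 n11532 = n9112 := d40_2 (iv F42422) D11532 (iv D9112)
theorem F53361 : act 9 n11532 = n11532 := d41_2 F42423 D11532 (iv D11532)
def n11533 : Q := act 5 n9041
theorem D11533 : act 5 n9041 = n11533 := rfl
theorem F53362 : act 0 n11533 = n9599 := d4_1 D11533 (iv D9599) (iv F42424)
theorem F53363 : act 2 n11533 = n9057 := d19_1 D11533 (iv D9057) (iv F42425)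
theorem F53364 : act 6 n11533 = n11533 := d35_2 D9041 D11533 (iv D11533) (iv D9041) F33989
theorem F53365 : act 9 n11533 = n11533 := d38_2 F42428 D11533 (iv D11533)
def n11534 : Q := act 7 n9041
theorem D11534 : act 7 n9041 = n11534 := rfl
theorem F53366 : act 0 n11534 = n9600 := d6_1 D11534 (iv D9600) (iv F42424)
theorem F53367 : act 2 n11534 = n9058 := d21_1 D11534 (iv D9058) (iv F42425)
theorem F53368 : act 4 n11534 = n9042 := d32_1 D11534 (iv D9042) (iv F42426)
theorem F53369 : act 6 n11534 = n11534 := d39_1 D11534 (iv D11534) (iv D9041) F33990 D9041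
theorem F53370 : act 8 n11534 = n9114 := d42_2 (iv F42427) D11534 (iv D9114)
theorem F53371 : act 9 n11534 = n11534 := d43_2 F42428 D11534 (iv D11534)
def n11535 : Q := act 5 n9043
theorem D11535 : act 5 n9043 = n11535 := rfl
theorem F53372 : act 0 n11535 = n9601 := d4_1 D11535 (iv D9601) (iv F42434)
theorem F53373 : act 1 n11535 = n11535 := d12_1 D11535 (iv D11535) F42435
theorem F53374 : act 3 n11535 = n11535 := d25_1 D11535 (iv D11535) F42436
theorem F53375 : act 7 n11535 = n9045 := d36_2 (iv F42439) D11535 (iv D9045)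
theorem F53376 : act 8 n11535 = n11535 := d37_2 D9043 D11535 (iv D11535) (iv D9043) F34001
theorem F53377 : act 9 n11535 = n10130 := d38_2 (iv F42440) D11535 (iv D10130)
def n11536 : Q := act 5 n9044
theorem D11536 : act 5 n9044 = n11536 := rfl
theorem F53378 : act 0 n11536 = n9602 := d4_1 D11536 (iv D9602) (iv F42441)
theorem F53379 : act 1 n11536 = n11536 := d12_1 D11536 (iv D11536) F42442
theorem F53380 : act 3 n11536 = n11536 := d25_1 D11536 (iv D11536) F42443
theorem F53381 : act 7 n11536 = n10130 := d36_2 (iv F42446) D11536 (iv D10130)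
theorem F53382 : act 8 n11536 = n10131 := d37_2 D9044 D11536 (iv D10131) (iv D7968) (iv F34008)
theorem F53383 : act 9 n11536 = n9045 := d38_2 (iv F42447) D11536 (iv D9045)
def n11537 : Q := act 4 n9045
theorem D11537 : act 4 n9045 = n11537 := rfl
theorem F53384 : act 0 n11537 = n9603 := d3_1 D11537 (iv D9603) (iv F42448)
theorem F53385 : act 1 n11537 = n11537 := d11_1 D11537 (iv D11537) F42449
theorem F53386 : act 5 n11537 = n9050 := d30_2 D9045 D11537 (iv D9050) (iv D7151) (iv F34014)
theorem F53387 : act 8 n11537 = n11537 := d33_2 F42451 D11537 (iv D11537)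
def n11538 : Q := act 6 n9045
theorem D11538 : act 6 n9045 = n11538 := rfl
theorem F53388 : act 0 n11538 = n9604 := d5_1 D11538 (iv D9604) (iv F42448)
theorem F53389 : act 1 n11538 = n11538 := d13_1 D11538 (iv D11538) F42449
theorem F53390 : act 3 n11538 = n11538 := d26_1 D11538 (iv D11538) F42450
theorem F53391 : act 5 n11538 = n9119 := d35_1 D11538 (iv D9119) (iv D7205) (iv F34015) D9045
theorem F53392 : act 8 n11538 = n11538 := d40_2 F42451 D11538 (iv D11538)
def n11539 : Q := act 5 n9046
theorem D11539 : act 5 n9046 = n11539 := rfl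
theorem F53393 : act 0 n11539 = n9605 := d4_1 D11539 (iv D9605) (iv F42452)
theorem F53394 : act 1 n11539 = n11539 := d12_1 D11539 (iv D11539) F42453
theorem F53395 : act 3 n11539 = n9059 := d25_1 D11539 (iv D9059) (iv F42454)
theorem F53396 : act 7 n11539 = n9120 := d36_2 (iv F42457) D11539 (iv D9120)
theorem F53397 : act 8 n11539 = n11539 := d37_2 D9046 D11539 (iv D11539) (iv D9046) F34020
theorem F53398 : act 9 n11539 = n9475 := d38_2 (iv F42458) D11539 (iv D9475)
def n11540 : Q := act 5 n9047
theorem D11540 : act 5 n9047 = n11540 := rfl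
theorem F53399 : act 0 n11540 = n9606 := d4_1 D11540 (iv D9606) (iv F42459)
theorem F53400 : act 1 n11540 = n11540 := d12_1 D11540 (iv D11540) F42460
theorem F53401 : act 3 n11540 = n9060 := d25_1 D11540 (iv D9060) (iv F42461)
theorem F53402 : act 7 n11540 = n9049 := d36_2 (iv F42464) D11540 (iv D9049)
theorem F53403 : act 8 n11540 = n11540 := d37_2 D9047 D11540 (iv D11540) (iv D9047) F34027
theorem F53404 : act 9 n11540 = n9048 := d38_2 (iv F42465) D11540 (iv D9048)
def n11541 : Q := act 4 n9048
theorem D11541 : act 4 n9048 = n11541 := rfl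
theorem F53405 : act 0 n11541 = n9607 := d3_1 D11541 (iv D9607) (iv F42466)
theorem F53406 : act 1 n11541 = n11541 := d11_1 D11541 (iv D11541) F42467
theorem F53407 : act 7 n11541 = n9050 := d32_2 (iv F42469) D11541 (iv D9050)
theorem F53408 : act 8 n11541 = n9052 := d33_2 (iv F42470) D11541 (iv D9052)
def n11542 : Q := act 6 n9048
theorem D11542 : act 6 n9048 = n11542 := rfl
theorem F53409 : act 0 n11542 = n9608 := d5_1 D11542 (iv D9608) (iv F42466)
theorem F53410 : act 1 n11542 = n11542 := d13_1 D11542 (iv D11542) F42467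
theorem F53411 : act 3 n11542 = n9062 := d26_1 D11542 (iv D9062) (iv F42468)
theorem F53412 : act 8 n11542 = n9053 := d40_2 (iv F42470) D11542 (iv D9053)
def n11543 : Q := act 4 n9049
theorem D11543 : act 4 n9049 = n11543 := rfl
theorem F53413 : act 0 n11543 = n9609 := d3_1 D11543 (iv D9609) (iv F42471)
theorem F53414 : act 1 n11543 = n11543 := d11_1 D11543 (iv D11543) F42472
theorem F53415 : act 8 n11543 = n11543 := d33_2 F42474 D11543 (iv D11543)
theorem F53416 : act 9 n11543 = n9050 := d34_2 (iv F42475) D11543 (iv D9050)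
def n11544 : Q := act 6 n9049
theorem D11544 : act 6 n9049 = n11544 := rfl
theorem F53417 : act 0 n11544 = n9610 := d5_1 D11544 (iv D9610) (iv F42471)
theorem F53418 : act 1 n11544 = n11544 := d13_1 D11544 (iv D11544) F42472
theorem F53419 : act 3 n11544 = n9064 := d26_1 D11544 (iv D9064) (iv F42473)
theorem F53420 : act 5 n11544 = n9124 := d35_1 D11544 (iv D9124) (iv D7208) (iv F34037) D9049
theorem F53421 : act 8 n11544 = n11544 := d40_2 F42474 D11544 (iv D11544)
theorem F53422 : act 9 n11544 = n9051 := d41_2 (iv F42475) D11544 (iv D9051)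
def n11545 : Q := act 3 n9050
theorem D11545 : act 3 n9050 = n11545 := rfl
theorem F53423 : act 0 n11545 = n9611 := d2_1 D11545 (iv D9611) (iv F42476)
theorem F53424 : act 1 n11545 = n11545 := d10_1 D11545 (iv D11545) F42477
theorem F53425 : act 4 n11545 = n9065 := d24_2 D9050 D11545 (iv D9065) (iv D7161) (iv F34041)
theorem F53426 : act 8 n11545 = n9054 := d28_2 (iv F42478) D11545 (iv D9054)
def n11546 : Q := act 6 n9050
theorem D11546 : act 6 n9050 = n11546 := rfl
theorem F53427 : act 0 n11546 = n9612 := d5_1 D11546 (iv D9612) (iv F42476)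
theorem F53428 : act 1 n11546 = n11546 := d13_1 D11546 (iv D11546) F42477
theorem F53429 : act 4 n11546 = n9051 := d31_1 D11546 (iv D9051) D9050
theorem F53430 : act 8 n11546 = n9055 := d40_2 (iv F42478) D11546 (iv D9055)
def n11547 : Q := act 7 n9051
theorem D11547 : act 7 n9051 = n11547 := rfl
theorem F53431 : act 0 n11547 = n9613 := d6_1 D11547 (iv D9613) (iv F42479)
theorem F53432 : act 1 n11547 = n11547 := d14_1 D11547 (iv D11547) F42480
theorem F53433 : act 3 n11547 = n9067 := d27_1 D11547 (iv D9067) (iv F42481)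
theorem F53434 : act 5 n11547 = n9127 := d36_1 D11547 (iv D9127) (iv F42482)
theorem F53435 : act 8 n11547 = n9056 := d42_2 (iv F42483) D11547 (iv D9056)
def n11548 : Q := act 3 n9052
theorem D11548 : act 3 n9052 = n11548 := rfl
theorem F53436 : act 0 n11548 = n9614 := d2_1 D11548 (iv D9614) (iv F42484)
theorem F53437 : act 1 n11548 = n11548 := d10_1 D11548 (iv D11548) F42485
theorem F53438 : act 4 n11548 = n9068 := d24_2 D9052 D11548 (iv D9068) (iv D7163) (iv F34045)
theorem F53439 : act 5 n11548 = n11548 := d25_2 F42486 D11548 (iv D11548)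
theorem F53440 : act 7 n11548 = n9054 := d27_2 (iv F42487) D11548 (iv D9054)
theorem F53441 : act 9 n11548 = n11548 := d29_2 F42488 D11548 (iv D11548)
def n11549 : Q := act 6 n9052
theorem D11549 : act 6 n9052 = n11549 := rfl
theorem F53442 : act 0 n11549 = n9615 := d5_1 D11549 (iv D9615) (iv F42484)
theorem F53443 : act 1 n11549 = n11549 := d13_1 D11549 (iv D11549) F42485
theorem F53444 : act 4 n11549 = n9053 := d31_1 D11549 (iv D9053) D9052
theorem F53445 : act 9 n11549 = n11549 := d41_2 F42488 D11549 (iv D11549)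
def n11550 : Q := act 7 n9053
theorem D11550 : act 7 n9053 = n11550 := rfl
theorem F53446 : act 0 n11550 = n9616 := d6_1 D11550 (iv D9616) (iv F42489)
theorem F53447 : act 1 n11550 = n11550 := d14_1 D11550 (iv D11550) F42490
theorem F53448 : act 3 n11550 = n9070 := d27_1 D11550 (iv D9070) (iv F42491)
theorem F53449 : act 5 n11550 = n11550 := d36_1 D11550 (iv D11550) F42492
theorem F53450 : act 6 n11550 = n9056 := d39_1 D11550 (iv D9056) (iv D7154) (iv F34046) D9053
theorem F53451 : act 9 n11550 = n11550 := d43_2 F42493 D11550 (iv D11550)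
def n11551 : Q := act 2 n9054
theorem D11551 : act 2 n9054 = n11551 := rfl
theorem F53452 : act 0 n11551 = n9617 := d1_1 D11551 (iv D9617) (iv F42494)
theorem F53453 : act 4 n11551 = n9071 := d18_2 (iv F42496) D11551 (iv D9071)
theorem F53454 : act 5 n11551 = n11551 := d19_2 F42497 D11551 (iv D11551)
theorem F53455 : act 9 n11551 = n11551 := d23_2 F42498 D11551 (iv D11551)
def n11552 : Q := act 6 n9054
theorem D11552 : act 6 n9054 = n11552 := rfl
theorem F53456 : act 0 n11552 = n9618 := d5_1 D11552 (iv D9618) (iv F42494)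
theorem F53457 : act 1 n11552 = n11552 := d13_1 D11552 (iv D11552) F42495
theorem F53458 : act 3 n11552 = n9055 := d26_1 D11552 (iv D9055) D9054
theorem F53459 : act 4 n11552 = n9072 := d31_1 D11552 (iv D9072) (iv F42496)
theorem F53460 : act 9 n11552 = n11552 := d41_2 F42498 D11552 (iv D11552)
def n11553 : Q := act 5 n9055
theorem D11553 : act 5 n9055 = n11553 := rfl
theorem F53461 : act 0 n11553 = n9619 := d4_1 D11553 (iv D9619) (iv F42499)
theorem F53462 : act 1 n11553 = n11553 := d12_1 D11553 (iv D11553) F42500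
theorem F53463 : act 4 n11553 = n9057 := d30_1 D11553 (iv D9057) F34060 (iv F34055) (iv F42501)
theorem F53464 : act 6 n11553 = n11553 := d35_2 D9055 D11553 (iv D11553) (iv D9055) F34050
theorem F53465 : act 9 n11553 = n11553 := d38_2 F42502 D11553 (iv D11553)
def n11554 : Q := act 7 n9055
theorem D11554 : act 7 n9055 = n11554 := rfl
theorem F53466 : act 0 n11554 = n9620 := d6_1 D11554 (iv D9620) (iv F42499)
theorem F53467 : act 1 n11554 = n11554 := d14_1 D11554 (iv D11554) F42500
theorem F53468 : act 4 n11554 = n9056 := d32_1 D11554 (iv D9056) (iv F42501)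
theorem F53469 : act 9 n11554 = n11554 := d43_2 F42502 D11554 (iv D11554)
def n11555 : Q := act 7 n9057
theorem D11555 : act 7 n9057 = n11555 := rfl
theorem F53470 : act 0 n11555 = n9621 := d6_1 D11555 (iv D9621) (iv F42508)
theorem F53471 : act 1 n11555 = n11555 := d14_1 D11555 (iv D11555) F42509
theorem F53472 : act 3 n11555 = n11555 := d27_1 D11555 (iv D11555) F42510
theorem F53473 : act 5 n11555 = n9058 := d36_1 D11555 (iv D9058) D9057
theorem F53474 : act 9 n11555 = n11555 := d43_2 F42512 D11555 (iv D11555)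
def n11556 : Q := act 8 n9057
theorem D11556 : act 8 n9057 = n11556 := rfl
theorem F53475 : act 0 n11556 = n9622 := d7_1 D11556 (iv D9622) (iv F42508)
theorem F53476 : act 1 n11556 = n11556 := d15_1 D11556 (iv D11556) F42509
theorem F53477 : act 3 n11556 = n11556 := d28_1 D11556 (iv D11556) F42510
theorem F53478 : act 5 n11556 = n9136 := d37_1 D11556 (iv D9136) (iv D7216) (iv F34061) D9057
theorem F53479 : act 6 n11556 = n11556 := d40_1 D11556 (iv D11556) F42511
def n11557 : Q := act 4 n9059
theorem D11557 : act 4 n9059 = n11557 := rfl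
theorem F53480 : act 0 n11557 = n9623 := d3_1 D11557 (iv D9623) (iv F42520)
theorem F53481 : act 1 n11557 = n11557 := d11_1 D11557 (iv D11557) F42521
theorem F53482 : act 2 n11557 = n9625 := d18_1 D11557 (iv D9625) (iv F42522)
theorem F53483 : act 5 n11557 = n11557 := d30_2 D9059 D11557 (iv D11557) (iv D9059) F34072
theorem F53484 : act 7 n11557 = n9137 := d32_2 (iv F42523) D11557 (iv D9137)
theorem F53485 : act 8 n11557 = n11557 := d33_2 F42524 D11557 (iv D11557)
theorem F53486 : act 9 n11557 = n9485 := d34_2 (iv F42525) D11557 (iv D9485)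
def n11558 : Q := act 6 n9059
theorem D11558 : act 6 n9059 = n11558 := rfl
theorem F53487 : act 0 n11558 = n9624 := d5_1 D11558 (iv D9624) (iv F42520)
theorem F53488 : act 1 n11558 = n11558 := d13_1 D11558 (iv D11558) F42521
theorem F53489 : act 2 n11558 = n9626 := d20_1 D11558 (iv D9626) (iv F42522)
theorem F53490 : act 5 n11558 = n9062 := d35_1 D11558 (iv D9062) (iv D7159) (iv F34073) D9059
theorem F53491 : act 8 n11558 = n11558 := d40_2 F42524 D11558 (iv D11558)
theorem F53492 : act 9 n11558 = n9486 := d41_2 (iv F42525) D11558 (iv D9486)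
def n11559 : Q := act 4 n9060
theorem D11559 : act 4 n9060 = n11559 := rfl
theorem F53493 : act 0 n11559 = n9625 := d3_1 D11559 (iv D9625) (iv F42526)
theorem F53494 : act 1 n11559 = n11559 := d11_1 D11559 (iv D11559) F42527
theorem F53495 : act 2 n11559 = n9623 := d18_1 D11559 (iv D9623) (iv F42528)
theorem F53496 : act 5 n11559 = n11559 := d30_2 D9060 D11559 (iv D11559) (iv D9060) F34079
theorem F53497 : act 7 n11559 = n9063 := d32_2 (iv F42529) D11559 (iv D9063)
theorem F53498 : act 8 n11559 = n11559 := d33_2 F42530 D11559 (iv D11559)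
theorem F53499 : act 9 n11559 = n9061 := d34_2 (iv F42531) D11559 (iv D9061)
def n11560 : Q := act 6 n9060
theorem D11560 : act 6 n9060 = n11560 := rfl
theorem F53500 : act 0 n11560 = n9626 := d5_1 D11560 (iv D9626) (iv F42526)
theorem F53501 : act 1 n11560 = n11560 := d13_1 D11560 (iv D11560) F42527
theorem F53502 : act 2 n11560 = n9624 := d20_1 D11560 (iv D9624) (iv F42528)
theorem F53503 : act 5 n11560 = n9486 := d35_1 D11560 (iv D9486) (iv D7483) (iv F34080) D9060
theorem F53504 : act 8 n11560 = n11560 := d40_2 F42530 D11560 (iv D11560)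
theorem F53505 : act 9 n11560 = n9062 := d41_2 (iv F42531) D11560 (iv D9062)
def n11561 : Q := act 3 n9061
theorem D11561 : act 3 n9061 = n11561 := rfl
theorem F53506 : act 0 n11561 = n9627 := d2_1 D11561 (iv D9627) (iv F42532)
theorem F53507 : act 1 n11561 = n11561 := d10_1 D11561 (iv D11561) F42533
theorem F53508 : act 5 n11561 = n11561 := d25_2 F42534 D11561 (iv D11561)
theorem F53509 : act 7 n11561 = n9065 := d27_2 (iv F42535) D11561 (iv D9065)
theorem F53510 : act 8 n11561 = n9068 := d28_2 (iv F42536) D11561 (iv D9068)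
def n11562 : Q := act 6 n9061
theorem D11562 : act 6 n9061 = n11562 := rfl
theorem F53511 : act 0 n11562 = n9628 := d5_1 D11562 (iv D9628) (iv F42532)
theorem F53512 : act 1 n11562 = n11562 := d13_1 D11562 (iv D11562) F42533
theorem F53513 : act 4 n11562 = n9062 := d31_1 D11562 (iv D9062) D9061
theorem F53514 : act 8 n11562 = n9069 := d40_2 (iv F42536) D11562 (iv D9069)
def n11563 : Q := act 7 n9062
theorem D11563 : act 7 n9062 = n11563 := rfl
theorem F53515 : act 0 n11563 = n9629 := d6_1 D11563 (iv D9629) (iv F42537)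
theorem F53516 : act 1 n11563 = n11563 := d14_1 D11563 (iv D11563) F42538
theorem F53517 : act 6 n11563 = n9067 := d39_1 D11563 (iv D9067) (iv D7162) (iv F34085) D9062
theorem F53518 : act 8 n11563 = n9070 := d42_2 (iv F42539) D11563 (iv D9070)
def n11564 : Q := act 3 n9063
theorem D11564 : act 3 n9063 = n11564 := rfl
theorem F53519 : act 0 n11564 = n9630 := d2_1 D11564 (iv D9630) (iv F42540)
theorem F53520 : act 1 n11564 = n11564 := d10_1 D11564 (iv D11564) F42541
theorem F53521 : act 5 n11564 = n11564 := d25_2 F42543 D11564 (iv D11564)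
theorem F53522 : act 8 n11564 = n11564 := d28_2 F42544 D11564 (iv D11564)
theorem F53523 : act 9 n11564 = n9065 := d29_2 (iv F42545) D11564 (iv D9065)
def n11565 : Q := act 6 n9063
theorem D11565 : act 6 n9063 = n11565 := rfl
theorem F53524 : act 0 n11565 = n9631 := d5_1 D11565 (iv D9631) (iv F42540)
theorem F53525 : act 1 n11565 = n11565 := d13_1 D11565 (iv D11565) F42541
theorem F53526 : act 2 n11565 = n9730 := d20_1 D11565 (iv D9730) (iv F42542)
theorem F53527 : act 4 n11565 = n9064 := d31_1 D11565 (iv D9064) D9063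
theorem F53528 : act 8 n11565 = n11565 := d40_2 F42544 D11565 (iv D11565)
theorem F53529 : act 9 n11565 = n9066 := d41_2 (iv F42545) D11565 (iv D9066)
def n11566 : Q := act 7 n9064
theorem D11566 : act 7 n9064 = n11566 := rfl
theorem F53530 : act 0 n11566 = n9632 := d6_1 D11566 (iv D9632) (iv F42546)
theorem F53531 : act 1 n11566 = n11566 := d14_1 D11566 (iv D11566) F42547
theorem F53532 : act 2 n11566 = n9731 := d21_1 D11566 (iv D9731) (iv F42548)
theorem F53533 : act 5 n11566 = n9144 := d36_1 D11566 (iv D9144) (iv F42549)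
theorem F53534 : act 8 n11566 = n11566 := d42_2 F42550 D11566 (iv D11566)
theorem F53535 : act 9 n11566 = n9067 := d43_2 (iv F42551) D11566 (iv D9067)
def n11567 : Q := act 2 n9065
theorem D11567 : act 2 n9065 = n11567 := rfl
theorem F53536 : act 0 n11567 = n9633 := d1_1 D11567 (iv D9633) (iv F42552)
theorem F53537 : act 5 n11567 = n11567 := d19_2 F42554 D11567 (iv D11567)
theorem F53538 : act 8 n11567 = n9071 := d22_2 (iv F42555) D11567 (iv D9071)
def n11568 : Q := act 6 n9065
theorem D11568 : act 6 n9065 = n11568 := rfl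
theorem F53539 : act 0 n11568 = n9634 := d5_1 D11568 (iv D9634) (iv F42552)
theorem F53540 : act 1 n11568 = n11568 := d13_1 D11568 (iv D11568) F42553
theorem F53541 : act 3 n11568 = n9066 := d26_1 D11568 (iv D9066) D9065
theorem F53542 : act 8 n11568 = n9072 := d40_2 (iv F42555) D11568 (iv D9072)
def n11569 : Q := act 5 n9066
theorem D11569 : act 5 n9066 = n11569 := rfl
theorem F53543 : act 0 n11569 = n9635 := d4_1 D11569 (iv D9635) (iv F42556)
theorem F53544 : act 1 n11569 = n11569 := d12_1 D11569 (iv D11569) F42557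
theorem F53545 : act 4 n11569 = n9147 := d30_1 D11569 (iv D9147) F34413 (iv F34098) (iv F42558)
theorem F53546 : act 6 n11569 = n11569 := d35_2 D9066 D11569 (iv D11569) (iv D9066) F34094
theorem F53547 : act 8 n11569 = n11569 := d37_2 (iv F42559) D11569 (iv D11569) F42559 F34116
def n11570 : Q := act 7 n9066
theorem D11570 : act 7 n9066 = n11570 := rfl
theorem F53548 : act 0 n11570 = n9636 := d6_1 D11570 (iv D9636) (iv F42556)
theorem F53549 : act 1 n11570 = n11570 := d14_1 D11570 (iv D11570) F42557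
theorem F53550 : act 4 n11570 = n9067 := d32_1 D11570 (iv D9067) (iv F42558)
theorem F53551 : act 8 n11570 = n9073 := d42_2 (iv F42559) D11570 (iv D9073)
def n11571 : Q := act 2 n9068
theorem D11571 : act 2 n9068 = n11571 := rfl
theorem F53552 : act 0 n11571 = n9637 := d1_1 D11571 (iv D9637) (iv F42564)
theorem F53553 : act 5 n11571 = n9074 := d19_2 (iv F42566) D11571 (iv D9074)
theorem F53554 : act 7 n11571 = n9071 := d21_2 (iv F42567) D11571 (iv D9071)
theorem F53555 : act 9 n11571 = n11571 := d23_2 F42568 D11571 (iv D11571)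
def n11572 : Q := act 6 n9068
theorem D11572 : act 6 n9068 = n11572 := rfl
theorem F53556 : act 0 n11572 = n9638 := d5_1 D11572 (iv D9638) (iv F42564)
theorem F53557 : act 1 n11572 = n11572 := d13_1 D11572 (iv D11572) F42565
theorem F53558 : act 3 n11572 = n9069 := d26_1 D11572 (iv D9069) D9068
theorem F53559 : act 9 n11572 = n11572 := d41_2 F42568 D11572 (iv D11572)
def n11573 : Q := act 5 n9069
theorem D11573 : act 5 n9069 = n11573 := rfl
theorem F53560 : act 0 n11573 = n9639 := d4_1 D11573 (iv D9639) (iv F42569)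
theorem F53561 : act 1 n11573 = n11573 := d12_1 D11573 (iv D11573) F42570
theorem F53562 : act 4 n11573 = n11573 := d30_1 D11573 (iv D11573) F42571 F34107 (iv F42571)
theorem F53563 : act 6 n11573 = n9076 := d35_2 D9069 D11573 (iv D9076) (iv D7169) (iv F34102)
theorem F53564 : act 9 n11573 = n11573 := d38_2 F42572 D11573 (iv D11573)
def n11574 : Q := act 7 n9069
theorem D11574 : act 7 n9069 = n11574 := rfl
theorem F53565 : act 0 n11574 = n9640 := d6_1 D11574 (iv D9640) (iv F42569)
theorem F53566 : act 1 n11574 = n11574 := d14_1 D11574 (iv D11574) F42570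
theorem F53567 : act 4 n11574 = n9070 := d32_1 D11574 (iv D9070) (iv F42571)
theorem F53568 : act 6 n11574 = n9073 := d39_1 D11574 (iv D9073) (iv D7166) (iv F34103) D9069
theorem F53569 : act 9 n11574 = n11574 := d43_2 F42572 D11574 (iv D11574)
def n11575 : Q := act 1 n9071
theorem D11575 : act 1 n9071 = n11575 := rfl
theorem F53570 : act 2 n11575 = n11575 := d9_2 D9071 D11575 (iv D11575) (iv D9071) F34110
theorem F53571 : act 5 n11575 = n9077 := d12_2 (iv F42579) D11575 (iv D9077)
theorem F53572 : act 9 n11575 = n11575 := d16_2 F42580 D11575 (iv D11575)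
def n11576 : Q := act 6 n9071
theorem D11576 : act 6 n9071 = n11576 := rfl
theorem F53573 : act 0 n11576 = n9642 := d5_1 D11576 (iv D9642) (iv F42578)
theorem F53574 : act 2 n11576 = n9072 := d20_1 D11576 (iv D9072) D9071
theorem F53575 : act 5 n11576 = n11576 := d35_1 D11576 (iv D11576) F42579 F34136 (iv F42579)
theorem F53576 : act 9 n11576 = n11576 := d41_2 F42580 D11576 (iv D11576)
def n11577 : Q := act 7 n9072
theorem D11577 : act 7 n9072 = n11577 := rfl
theorem F53577 : act 0 n11577 = n9643 := d6_1 D11577 (iv D9643) (iv F42581)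
theorem F53578 : act 1 n11577 = n11577 := d14_1 D11577 (iv D11577) F42582
theorem F53579 : act 3 n11577 = n9073 := d27_1 D11577 (iv D9073) (iv F42583)
theorem F53580 : act 5 n11577 = n11577 := d36_1 D11577 (iv D11577) F42584
theorem F53581 : act 9 n11577 = n11577 := d43_2 F42585 D11577 (iv D11577)
def n11578 : Q := act 1 n9074
theorem D11578 : act 1 n9074 = n11578 := rfl
theorem F53582 : act 2 n11578 = n11578 := d9_2 D9074 D11578 (iv D11578) (iv D9074) F34123
theorem F53583 : act 4 n11578 = n11578 := d11_2 F42592 D11578 (iv D11578)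
theorem F53584 : act 7 n11578 = n9077 := d14_2 (iv F42593) D11578 (iv D9077)
theorem F53585 : act 8 n11578 = n11578 := d15_2 F42594 D11578 (iv D11578)
theorem F53586 : act 9 n11578 = n11578 := d16_2 F42595 D11578 (iv D11578)
def n11579 : Q := act 6 n9074
theorem D11579 : act 6 n9074 = n11579 := rfl
theorem F53587 : act 0 n11579 = n9645 := d5_1 D11579 (iv D9645) (iv F42591)
theorem F53588 : act 2 n11579 = n9075 := d20_1 D11579 (iv D9075) D9074
theorem F53589 : act 4 n11579 = n11579 := d31_1 D11579 (iv D11579) F42592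
theorem F53590 : act 7 n11579 = n11579 := d39_2 (iv F42593) D11579 (iv D11579) F42593 F34136
theorem F53591 : act 8 n11579 = n11579 := d40_2 F42594 D11579 (iv D11579)
theorem F53592 : act 9 n11579 = n11579 := d41_2 F42595 D11579 (iv D11579)
def n11580 : Q := act 5 n9075
theorem D11580 : act 5 n9075 = n11580 := rfl
theorem F53593 : act 0 n11580 = n9646 := d4_1 D11580 (iv D9646) (iv F42596)
theorem F53594 : act 1 n11580 = n11580 := d12_1 D11580 (iv D11580) F42597
theorem F53595 : act 3 n11580 = n9076 := d25_1 D11580 (iv D9076) (iv F42598)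
theorem F53596 : act 7 n11580 = n11580 := d36_2 F42600 D11580 (iv D11580)
theorem F53597 : act 9 n11580 = n11580 := d38_2 F42602 D11580 (iv D11580)
def n11581 : Q := act 8 n9076
theorem D11581 : act 8 n9076 = n11581 := rfl
theorem F53598 : act 0 n11581 = n9647 := d7_1 D11581 (iv D9647) (iv F42603)
theorem F53599 : act 1 n11581 = n11581 := d15_1 D11581 (iv D11581) F42604
theorem F53600 : act 4 n11581 = n11581 := d33_1 D11581 (iv D11581) F42605
theorem F53601 : act 5 n11581 = n11581 := d37_1 D11581 (iv D11581) (iv D9076) F34132 D9076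
theorem F53602 : act 7 n11581 = n11581 := d42_1 D11581 (iv D11581) F42606
def n11582 : Q := act 0 n9077
theorem D11582 : act 0 n9077 = n11582 := rfl
theorem F53603 : act 1 n11582 = n9648 := d0_2 D9077 D11582 (iv D9648) (iv D7606) (iv F34134)
theorem F53604 : act 2 n11582 = n11582 := d1_2 F42608 D11582 (iv D11582)
theorem F53605 : act 4 n11582 = n11582 := d3_2 F42609 D11582 (iv D11582)
theorem F53606 : act 6 n11582 = n11582 := d5_2 F42610 D11582 (iv D11582)
theorem F53607 : act 8 n11582 = n11582 := d7_2 F42611 D11582 (iv D11582)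
theorem F53608 : act 9 n11582 = n11582 := d8_2 F42612 D11582 (iv D11582)
def n11583 : Q := act 8 n9078
theorem D11583 : act 8 n9078 = n11583 := rfl
theorem F53609 : act 0 n11583 = n9087 := d7_1 D11583 (iv D9087) (iv F42613)
theorem F53610 : act 1 n11583 = n9466 := d15_1 D11583 (iv D9466) (iv F42614)
theorem F53611 : act 2 n11583 = n11583 := d22_1 D11583 (iv D11583) F42615
theorem F53612 : act 3 n11583 = n9577 := d28_1 D11583 (iv D9577) (iv F42616)
theorem F53613 : act 4 n11583 = n9081 := d33_1 D11583 (iv D9081) (iv F42617)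
theorem F53614 : act 6 n11583 = n9671 := d40_1 D11583 (iv D9671) (iv F42619)
theorem F53615 : act 7 n11583 = n9461 := d42_1 D11583 (iv D9461) (iv F42620)
theorem F53616 : act 9 n11583 = n9586 := d44_2 D9078 D11583 (iv D9586) (iv D7560) F34146
def n11584 : Q := act 8 n9079
theorem D11584 : act 8 n9079 = n11584 := rfl
theorem F53617 : act 0 n11584 = n9089 := d7_1 D11584 (iv D9089) (iv F42621)
theorem F53618 : act 1 n11584 = n9465 := d15_1 D11584 (iv D9465) (iv F42622)
theorem F53619 : act 2 n11584 = n11584 := d22_1 D11584 (iv D11584) F42623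
theorem F53620 : act 3 n11584 = n9649 := d28_1 D11584 (iv D9649) (iv F42624)
theorem F53621 : act 4 n11584 = n9461 := d33_1 D11584 (iv D9461) (iv F42625)
theorem F53622 : act 6 n11584 = n9504 := d40_1 D11584 (iv D9504) (iv F42627)
theorem F53623 : act 7 n11584 = n9081 := d42_1 D11584 (iv D9081) (iv F42628)
theorem F53624 : act 9 n11584 = n9500 := d44_2 D9079 D11584 (iv D9500) (iv D7494) (iv F34154)
def n11585 : Q := act 8 n9080
theorem D11585 : act 8 n9080 = n11585 := rfl
theorem F53625 : act 0 n11585 = n9090 := d7_1 D11585 (iv D9090) (iv F42629)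
theorem F53626 : act 1 n11585 = n9649 := d15_1 D11585 (iv D9649) (iv F42630)
theorem F53627 : act 2 n11585 = n11585 := d22_1 D11585 (iv D11585) F42631
theorem F53628 : act 3 n11585 = n9465 := d28_1 D11585 (iv D9465) (iv F42632)
theorem F53629 : act 4 n11585 = n9586 := d33_1 D11585 (iv D9586) (iv F42633)
theorem F53630 : act 6 n11585 = n9511 := d40_1 D11585 (iv D9511) (iv F42635)
theorem F53631 : act 7 n11585 = n9500 := d42_1 D11585 (iv D9500) (iv F42636)
theorem F53632 : act 9 n11585 = n9081 := d44_2 D9080 D11585 (iv D9081) (iv D7174) D7173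
def n11586 : Q := act 5 n9081
theorem D11586 : act 5 n9081 = n11586 := rfl
theorem F53633 : act 0 n11586 = n9091 := d4_1 D11586 (iv D9091) (iv F42637)
theorem F53634 : act 1 n11586 = n9650 := d12_1 D11586 (iv D9650) (iv F42638)
theorem F53635 : act 2 n11586 = n11586 := d19_1 D11586 (iv D11586) F42639
theorem F53636 : act 8 n11586 = n9083 := d37_2 D9081 D11586 (iv D9083) (iv D7176) (iv F34166)
def n11587 : Q := act 5 n9082
theorem D11587 : act 5 n9082 = n11587 := rfl
theorem F53637 : act 0 n11587 = n9092 := d4_1 D11587 (iv D9092) (iv F42640)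
theorem F53638 : act 1 n11587 = n9651 := d12_1 D11587 (iv D9651) (iv F42641)
theorem F53639 : act 2 n11587 = n11587 := d19_1 D11587 (iv D11587) F42642
theorem F53640 : act 3 n11587 = n9759 := d25_1 D11587 (iv D9759) (iv F42643)
theorem F53641 : act 7 n11587 = n9083 := d36_2 (iv F42646) D11587 (iv D9083)
theorem F53642 : act 9 n11587 = n9163 := d38_2 (iv F42647) D11587 (iv D9163)
def n11588 : Q := act 4 n9083
theorem D11588 : act 4 n9083 = n11588 := rfl
theorem F53643 : act 0 n11588 = n9093 := d3_1 D11588 (iv D9093) (iv F42648)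
theorem F53644 : act 1 n11588 = n9652 := d11_1 D11588 (iv D9652) (iv F42649)
theorem F53645 : act 2 n11588 = n11588 := d18_1 D11588 (iv D11588) F42650
theorem F53646 : act 5 n11588 = n9252 := d30_2 D9083 D11588 (iv D9252) (iv D7307) (iv F34177)
theorem F53647 : act 9 n11588 = n9164 := d34_2 (iv F42651) D11588 (iv D9164)
def n11589 : Q := act 6 n9083
theorem D11589 : act 6 n9083 = n11589 := rfl
theorem F53648 : act 0 n11589 = n9094 := d5_1 D11589 (iv D9094) (iv F42648)
theorem F53649 : act 1 n11589 = n9653 := d13_1 D11589 (iv D9653) (iv F42649)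
theorem F53650 : act 2 n11589 = n11589 := d20_1 D11589 (iv D11589) F42650
theorem F53651 : act 5 n11589 = n9085 := d35_1 D11589 (iv D9085) (iv D7177) (iv F34178) D9083
theorem F53652 : act 9 n11589 = n9165 := d41_2 (iv F42651) D11589 (iv D9165)
def n11590 : Q := act 3 n9084
theorem D11590 : act 3 n9084 = n11590 := rfl
theorem F53653 : act 0 n11590 = n9095 := d2_1 D11590 (iv D9095) (iv F42652)
theorem F53654 : act 1 n11590 = n9654 := d10_1 D11590 (iv D9654) (iv F42653)
theorem F53655 : act 5 n11590 = n9254 := d25_2 (iv F42655) D11590 (iv D9254)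
theorem F53656 : act 7 n11590 = n11590 := d27_2 F42656 D11590 (iv D11590)
theorem F53657 : act 9 n11590 = n9166 := d29_2 (iv F42657) D11590 (iv D9166)
def n11591 : Q := act 6 n9084
theorem D11591 : act 6 n9084 = n11591 := rfl
theorem F53658 : act 0 n11591 = n9096 := d5_1 D11591 (iv D9096) (iv F42652)
theorem F53659 : act 1 n11591 = n9655 := d13_1 D11591 (iv D9655) (iv F42653)
theorem F53660 : act 2 n11591 = n11591 := d20_1 D11591 (iv D11591) F42654
theorem F53661 : act 4 n11591 = n9085 := d31_1 D11591 (iv D9085) D9084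
theorem F53662 : act 9 n11591 = n9167 := d41_2 (iv F42657) D11591 (iv D9167)
def n11592 : Q := act 7 n9085
theorem D11592 : act 7 n9085 = n11592 := rfl
theorem F53663 : act 0 n11592 = n9097 := d6_1 D11592 (iv D9097) (iv F42658)
theorem F53664 : act 1 n11592 = n9656 := d14_1 D11592 (iv D9656) (iv F42659)
theorem F53665 : act 2 n11592 = n11592 := d21_1 D11592 (iv D11592) F42660
theorem F53666 : act 6 n11592 = n11592 := d39_1 D11592 (iv D11592) (iv D9085) F34183 D9085
theorem F53667 : act 9 n11592 = n9168 := d43_2 (iv F42661) D11592 (iv D9168)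
def n11593 : Q := act 8 n9086
theorem D11593 : act 8 n9086 = n11593 := rfl
theorem F53668 : act 0 n11593 = n9461 := d7_1 D11593 (iv D9461) (iv F42662)
theorem F53669 : act 1 n11593 = n9099 := d15_1 D11593 (iv D9099) (iv F42663)
theorem F53670 : act 2 n11593 = n11593 := d22_1 D11593 (iv D11593) F42664
theorem F53671 : act 3 n11593 = n9572 := d28_1 D11593 (iv D9572) (iv F42665)
theorem F53672 : act 4 n11593 = n9089 := d33_1 D11593 (iv D9089) (iv F42666)
theorem F53673 : act 6 n11593 = n9500 := d40_1 D11593 (iv D9500) (iv F42668)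
theorem F53674 : act 7 n11593 = n9087 := d42_1 D11593 (iv D9087) (iv F42669)
theorem F53675 : act 9 n11593 = n9504 := d44_2 D9086 D11593 (iv D9504) (iv D7497) (iv F34192)
def n11594 : Q := act 5 n9087
theorem D11594 : act 5 n9087 = n11594 := rfl
theorem F53676 : act 1 n11594 = n9101 := d12_1 D11594 (iv D9101) (iv F42670)
theorem F53677 : act 2 n11594 = n11594 := d19_1 D11594 (iv D11594) F42671
theorem F53678 : act 8 n11594 = n9259 := d37_2 D9087 D11594 (iv D9259) (iv D7312) (iv F34196)
def n11595 : Q := act 8 n9088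
theorem D11595 : act 8 n9088 = n11595 := rfl
theorem F53679 : act 0 n11595 = n9504 := d7_1 D11595 (iv D9504) (iv F42673)
theorem F53680 : act 1 n11595 = n9102 := d15_1 D11595 (iv D9102) (iv F42674)
theorem F53681 : act 2 n11595 = n11595 := d22_1 D11595 (iv D11595) F42675
theorem F53682 : act 3 n11595 = n9578 := d28_1 D11595 (iv D9578) (iv F42676)
theorem F53683 : act 4 n11595 = n9500 := d33_1 D11595 (iv D9500) (iv F42677)
theorem F53684 : act 6 n11595 = n9089 := d40_1 D11595 (iv D9089) (iv F42679)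
theorem F53685 : act 7 n11595 = n9586 := d42_1 D11595 (iv D9586) (iv F42680)
theorem F53686 : act 9 n11595 = n9461 := d44_2 D9088 D11595 (iv D9461) (iv D7465) (iv F34204)
def n11596 : Q := act 5 n9089
theorem D11596 : act 5 n9089 = n11596 := rfl
theorem F53687 : act 1 n11596 = n9103 := d12_1 D11596 (iv D9103) (iv F42681)
theorem F53688 : act 2 n11596 = n11596 := d19_1 D11596 (iv D11596) F42682
theorem F53689 : act 3 n11596 = n9659 := d25_1 D11596 (iv D9659) (iv F42683)
theorem F53690 : act 7 n11596 = n9091 := d36_2 (iv F42684) D11596 (iv D9091)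
theorem F53691 : act 8 n11596 = n9092 := d37_2 D9089 D11596 (iv D9092) (iv D7184) (iv F34208)
theorem F53692 : act 9 n11596 = n9505 := d38_2 (iv F42685) D11596 (iv D9505)
def n11597 : Q := act 5 n9090
theorem D11597 : act 5 n9090 = n11597 := rfl
theorem F53693 : act 1 n11597 = n9104 := d12_1 D11597 (iv D9104) (iv F42686)
theorem F53694 : act 2 n11597 = n11597 := d19_1 D11597 (iv D11597) F42687
theorem F53695 : act 3 n11597 = n9658 := d25_1 D11597 (iv D9658) (iv F42688)
theorem F53696 : act 7 n11597 = n9505 := d36_2 (iv F42689) D11597 (iv D9505)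
theorem F53697 : act 8 n11597 = n9169 := d37_2 D9090 D11597 (iv D9169) (iv D7242) (iv F34213)
theorem F53698 : act 9 n11597 = n9091 := d38_2 (iv F42690) D11597 (iv D9091)
def n11598 : Q := act 4 n9091
theorem D11598 : act 4 n9091 = n11598 := rfl
theorem F53699 : act 1 n11598 = n9105 := d11_1 D11598 (iv D9105) (iv F42691)
theorem F53700 : act 2 n11598 = n11598 := d18_1 D11598 (iv D11598) F42692
theorem F53701 : act 8 n11598 = n9093 := d33_2 (iv F42693) D11598 (iv D9093)
def n11599 : Q := act 6 n9091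
theorem D11599 : act 6 n9091 = n11599 := rfl
theorem F53702 : act 1 n11599 = n9106 := d13_1 D11599 (iv D9106) (iv F42691)
theorem F53703 : act 2 n11599 = n11599 := d20_1 D11599 (iv D11599) F42692
theorem F53704 : act 8 n11599 = n9094 := d40_2 (iv F42693) D11599 (iv D9094)
def n11600 : Q := act 4 n9092
theorem D11600 : act 4 n9092 = n11600 := rfl
theorem F53705 : act 1 n11600 = n9107 := d11_1 D11600 (iv D9107) (iv F42694)
theorem F53706 : act 2 n11600 = n11600 := d18_1 D11600 (iv D11600) F42695
theorem F53707 : act 5 n11600 = n9264 := d30_2 D9092 D11600 (iv D9264) (iv D7316) (iv F34220)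
theorem F53708 : act 7 n11600 = n9093 := d32_2 (iv F42697) D11600 (iv D9093)
theorem F53709 : act 9 n11600 = n9172 := d34_2 (iv F42698) D11600 (iv D9172)
def n11601 : Q := act 6 n9092
theorem D11601 : act 6 n9092 = n11601 := rfl
theorem F53710 : act 1 n11601 = n9108 := d13_1 D11601 (iv D9108) (iv F42694)
theorem F53711 : act 2 n11601 = n11601 := d20_1 D11601 (iv D11601) F42695
theorem F53712 : act 3 n11601 = n9772 := d26_1 D11601 (iv D9772) (iv F42696)
theorem F53713 : act 5 n11601 = n11601 := d35_1 D11601 (iv D11601) (iv D9092) F34221 D9092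
theorem F53714 : act 9 n11601 = n9173 := d41_2 (iv F42698) D11601 (iv D9173)
def n11602 : Q := act 3 n9093
theorem D11602 : act 3 n9093 = n11602 := rfl
theorem F53715 : act 1 n11602 = n9109 := d10_1 D11602 (iv D9109) (iv F42699)
theorem F53716 : act 5 n11602 = n9266 := d25_2 (iv F42701) D11602 (iv D9266)
theorem F53717 : act 9 n11602 = n9174 := d29_2 (iv F42702) D11602 (iv D9174)
def n11603 : Q := act 6 n9093
theorem D11603 : act 6 n9093 = n11603 := rfl
theorem F53718 : act 1 n11603 = n9110 := d13_1 D11603 (iv D9110) (iv F42699)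
theorem F53719 : act 2 n11603 = n11603 := d20_1 D11603 (iv D11603) F42700
theorem F53720 : act 4 n11603 = n9094 := d31_1 D11603 (iv D9094) D9093
theorem F53721 : act 9 n11603 = n9175 := d41_2 (iv F42702) D11603 (iv D9175)
def n11604 : Q := act 7 n9094
theorem D11604 : act 7 n9094 = n11604 := rfl
theorem F53722 : act 1 n11604 = n9111 := d14_1 D11604 (iv D9111) (iv F42703)
theorem F53723 : act 2 n11604 = n11604 := d21_1 D11604 (iv D11604) F42704
theorem F53724 : act 5 n11604 = n9097 := d36_1 D11604 (iv D9097) (iv F42705)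
theorem F53725 : act 9 n11604 = n9176 := d43_2 (iv F42706) D11604 (iv D9176)
def n11605 : Q := act 2 n9095
theorem D11605 : act 2 n9095 = n11605 := rfl
theorem F53726 : act 1 n11605 = n11605 := d9_1 D11605 (iv D11605) F42707 F34284 (iv F42707)
theorem F53727 : act 3 n11605 = n11605 := d17_2 D9095 D11605 (iv D11605) (iv D9095) F34228
theorem F53728 : act 5 n11605 = n9269 := d19_2 (iv F42708) D11605 (iv D9269)
theorem F53729 : act 7 n11605 = n11605 := d21_2 F42709 D11605 (iv D11605)
theorem F53730 : act 9 n11605 = n9177 := d23_2 (iv F42710) D11605 (iv D9177)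
def n11606 : Q := act 6 n9095
theorem D11606 : act 6 n9095 = n11606 := rfl
theorem F53731 : act 1 n11606 = n9112 := d13_1 D11606 (iv D9112) (iv F42707)
theorem F53732 : act 3 n11606 = n9096 := d26_1 D11606 (iv D9096) D9095
theorem F53733 : act 9 n11606 = n9178 := d41_2 (iv F42710) D11606 (iv D9178)
def n11607 : Q := act 5 n9096
theorem D11607 : act 5 n9096 = n11607 := rfl
theorem F53734 : act 1 n11607 = n9113 := d12_1 D11607 (iv D9113) (iv F42711)
theorem F53735 : act 2 n11607 = n11607 := d19_1 D11607 (iv D11607) F42712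
theorem F53736 : act 6 n11607 = n9271 := d35_2 D9096 D11607 (iv D9271) (iv D7320) (iv F34229)
theorem F53737 : act 9 n11607 = n9179 := d38_2 (iv F42714) D11607 (iv D9179)
def n11608 : Q := act 7 n9096
theorem D11608 : act 7 n9096 = n11608 := rfl
theorem F53738 : act 1 n11608 = n9114 := d14_1 D11608 (iv D9114) (iv F42711)
theorem F53739 : act 2 n11608 = n11608 := d21_1 D11608 (iv D11608) F42712
theorem F53740 : act 4 n11608 = n9097 := d32_1 D11608 (iv D9097) (iv F42713)
theorem F53741 : act 6 n11608 = n11608 := d39_1 D11608 (iv D11608) (iv D9096) F34230 D9096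
theorem F53742 : act 9 n11608 = n9180 := d43_2 (iv F42714) D11608 (iv D9180)
def n11609 : Q := act 5 n9098
theorem D11609 : act 5 n9098 = n11609 := rfl
theorem F53743 : act 0 n11609 = n9672 := d4_1 D11609 (iv D9672) (iv F42719)
theorem F53744 : act 2 n11609 = n11609 := d19_1 D11609 (iv D11609) F42720
theorem F53745 : act 3 n11609 = n9101 := d25_1 D11609 (iv D9101) (iv F42721)
theorem F53746 : act 8 n11609 = n9273 := d37_2 D9098 D11609 (iv D9273) (iv D7322) (iv F34238)
def n11610 : Q := act 5 n9099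
theorem D11610 : act 5 n9099 = n11610 := rfl
theorem F53747 : act 0 n11610 = n9673 := d4_1 D11610 (iv D9673) (iv F42722)
theorem F53748 : act 2 n11610 = n9116 := d19_1 D11610 (iv D9116) (iv F42723)
theorem F53749 : act 7 n11610 = n9101 := d36_2 (iv F42725) D11610 (iv D9101)
theorem F53750 : act 8 n11610 = n9274 := d37_2 D9099 D11610 (iv D9274) (iv D7323) (iv F34242)
theorem F53751 : act 9 n11610 = n9512 := d38_2 (iv F42726) D11610 (iv D9512)
def n11611 : Q := act 5 n9100
theorem D11611 : act 5 n9100 = n11611 := rfl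
theorem F53752 : act 0 n11611 = n9674 := d4_1 D11611 (iv D9674) (iv F42727)
theorem F53753 : act 2 n11611 = n9117 := d19_1 D11611 (iv D9117) (iv F42728)
theorem F53754 : act 7 n11611 = n9512 := d36_2 (iv F42730) D11611 (iv D9512)
theorem F53755 : act 8 n11611 = n11611 := d37_2 D9100 D11611 (iv D11611) (iv D9100) F34247
theorem F53756 : act 9 n11611 = n9101 := d38_2 (iv F42731) D11611 (iv D9101)
def n11612 : Q := act 4 n9101
theorem D11612 : act 4 n9101 = n11612 := rfl
theorem F53757 : act 0 n11612 = n9675 := d3_1 D11612 (iv D9675) (iv F42732)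
theorem F53758 : act 2 n11612 = n9118 := d18_1 D11612 (iv D9118) (iv F42733)
theorem F53759 : act 5 n11612 = n9105 := d30_2 D9101 D11612 (iv D9105) (iv D7195) (iv F34251)
theorem F53760 : act 8 n11612 = n9275 := d33_2 (iv F42734) D11612 (iv D9275)
def n11613 : Q := act 6 n9101
theorem D11613 : act 6 n9101 = n11613 := rfl
theorem F53761 : act 0 n11613 = n9676 := d5_1 D11613 (iv D9676) (iv F42732)
theorem F53762 : act 2 n11613 = n9119 := d20_1 D11613 (iv D9119) (iv F42733)
theorem F53763 : act 8 n11613 = n9276 := d40_2 (iv F42734) D11613 (iv D9276)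
def n11614 : Q := act 5 n9102
theorem D11614 : act 5 n9102 = n11614 := rfl
theorem F53764 : act 0 n11614 = n9677 := d4_1 D11614 (iv D9677) (iv F42735)
theorem F53765 : act 2 n11614 = n9120 := d19_1 D11614 (iv D9120) (iv F42736)
theorem F53766 : act 3 n11614 = n9590 := d25_1 D11614 (iv D9590) (iv F42737)
theorem F53767 : act 8 n11614 = n11614 := d37_2 D9102 D11614 (iv D11614) (iv D9102) F34255
theorem F53768 : act 9 n11614 = n9467 := d38_2 (iv F42739) D11614 (iv D9467)
def n11615 : Q := act 4 n9103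
theorem D11615 : act 4 n9103 = n11615 := rfl
theorem F53769 : act 0 n11615 = n9678 := d3_1 D11615 (iv D9678) (iv F42740)
theorem F53770 : act 2 n11615 = n9121 := d18_1 D11615 (iv D9121) (iv F42741)
theorem F53771 : act 7 n11615 = n9105 := d32_2 (iv F42743) D11615 (iv D9105)
theorem F53772 : act 8 n11615 = n9107 := d33_2 (iv F42744) D11615 (iv D9107)
theorem F53773 : act 9 n11615 = n9513 := d34_2 (iv F42745) D11615 (iv D9513)
def n11616 : Q := act 6 n9103
theorem D11616 : act 6 n9103 = n11616 := rfl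
theorem F53774 : act 0 n11616 = n9679 := d5_1 D11616 (iv D9679) (iv F42740)
theorem F53775 : act 2 n11616 = n9122 := d20_1 D11616 (iv D9122) (iv F42741)
theorem F53776 : act 3 n11616 = n9681 := d26_1 D11616 (iv D9681) (iv F42742)
theorem F53777 : act 8 n11616 = n9108 := d40_2 (iv F42744) D11616 (iv D9108)
theorem F53778 : act 9 n11616 = n9514 := d41_2 (iv F42745) D11616 (iv D9514)
def n11617 : Q := act 4 n9104
theorem D11617 : act 4 n9104 = n11617 := rfl
theorem F53779 : act 0 n11617 = n9680 := d3_1 D11617 (iv D9680) (iv F42746)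
theorem F53780 : act 2 n11617 = n9123 := d18_1 D11617 (iv D9123) (iv F42747)
theorem F53781 : act 7 n11617 = n9513 := d32_2 (iv F42749) D11617 (iv D9513)
theorem F53782 : act 8 n11617 = n9181 := d33_2 (iv F42750) D11617 (iv D9181)
theorem F53783 : act 9 n11617 = n9105 := d34_2 (iv F42751) D11617 (iv D9105)
def n11618 : Q := act 6 n9104
theorem D11618 : act 6 n9104 = n11618 := rfl
theorem F53784 : act 0 n11618 = n9681 := d5_1 D11618 (iv D9681) (iv F42746)
theorem F53785 : act 2 n11618 = n9124 := d20_1 D11618 (iv D9124) (iv F42747)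
theorem F53786 : act 3 n11618 = n9679 := d26_1 D11618 (iv D9679) (iv F42748)
theorem F53787 : act 8 n11618 = n9182 := d40_2 (iv F42750) D11618 (iv D9182)
theorem F53788 : act 9 n11618 = n9106 := d41_2 (iv F42751) D11618 (iv D9106)
def n11619 : Q := act 3 n9105
theorem D11619 : act 3 n9105 = n11619 := rfl
theorem F53789 : act 0 n11619 = n9682 := d2_1 D11619 (iv D9682) (iv F42752)
theorem F53790 : act 8 n11619 = n9109 := d28_2 (iv F42754) D11619 (iv D9109)
def n11620 : Q := act 6 n9105
theorem D11620 : act 6 n9105 = n11620 := rfl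
theorem F53791 : act 0 n11620 = n9683 := d5_1 D11620 (iv D9683) (iv F42752)
theorem F53792 : act 2 n11620 = n9126 := d20_1 D11620 (iv D9126) (iv F42753)
theorem F53793 : act 4 n11620 = n9106 := d31_1 D11620 (iv D9106) D9105
theorem F53794 : act 8 n11620 = n9110 := d40_2 (iv F42754) D11620 (iv D9110)
def n11621 : Q := act 7 n9106
theorem D11621 : act 7 n9106 = n11621 := rfl
theorem F53795 : act 0 n11621 = n9684 := d6_1 D11621 (iv D9684) (iv F42755)
theorem F53796 : act 2 n11621 = n9127 := d21_1 D11621 (iv D9127) (iv F42756)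
theorem F53797 : act 8 n11621 = n9111 := d42_2 (iv F42757) D11621 (iv D9111)
def n11622 : Q := act 3 n9107
theorem D11622 : act 3 n9107 = n11622 := rfl
theorem F53798 : act 0 n11622 = n9685 := d2_1 D11622 (iv D9685) (iv F42758)
theorem F53799 : act 4 n11622 = n9788 := d24_2 D9107 D11622 (iv D9788) (iv D7707) (iv F34272)
theorem F53800 : act 5 n11622 = n9283 := d25_2 (iv F42760) D11622 (iv D9283)
theorem F53801 : act 7 n11622 = n9109 := d27_2 (iv F42761) D11622 (iv D9109)
theorem F53802 : act 9 n11622 = n9186 := d29_2 (iv F42762) D11622 (iv D9186)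
def n11623 : Q := act 6 n9107
theorem D11623 : act 6 n9107 = n11623 := rfl
theorem F53803 : act 0 n11623 = n9686 := d5_1 D11623 (iv D9686) (iv F42758)
theorem F53804 : act 2 n11623 = n9129 := d20_1 D11623 (iv D9129) (iv F42759)
theorem F53805 : act 4 n11623 = n9108 := d31_1 D11623 (iv D9108) D9107
theorem F53806 : act 9 n11623 = n9187 := d41_2 (iv F42762) D11623 (iv D9187)
def n11624 : Q := act 7 n9108
theorem D11624 : act 7 n9108 = n11624 := rfl
theorem F53807 : act 0 n11624 = n9687 := d6_1 D11624 (iv D9687) (iv F42763)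
theorem F53808 : act 2 n11624 = n9130 := d21_1 D11624 (iv D9130) (iv F42764)
theorem F53809 : act 3 n11624 = n9790 := d27_1 D11624 (iv D9790) (iv F42765)
theorem F53810 : act 5 n11624 = n11624 := d36_1 D11624 (iv D11624) F42766
theorem F53811 : act 6 n11624 = n9111 := d39_1 D11624 (iv D9111) (iv D7198) (iv F34273) D9108
theorem F53812 : act 9 n11624 = n9188 := d43_2 (iv F42767) D11624 (iv D9188)
def n11625 : Q := act 2 n9109
theorem D11625 : act 2 n9109 = n11625 := rfl
theorem F53813 : act 0 n11625 = n9688 := d1_1 D11625 (iv D9688) (iv F42768)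
theorem F53814 : act 3 n11625 = n9131 := d17_2 D9109 D11625 (iv D9131) (iv D7213) (iv F34276)
theorem F53815 : act 5 n11625 = n9286 := d19_2 (iv F42769) D11625 (iv D9286)
theorem F53816 : act 9 n11625 = n9189 := d23_2 (iv F42770) D11625 (iv D9189)
def n11626 : Q := act 6 n9109
theorem D11626 : act 6 n9109 = n11626 := rfl
theorem F53817 : act 0 n11626 = n9689 := d5_1 D11626 (iv D9689) (iv F42768)
theorem F53818 : act 3 n11626 = n9110 := d26_1 D11626 (iv D9110) D9109
theorem F53819 : act 9 n11626 = n9190 := d41_2 (iv F42770) D11626 (iv D9190)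
def n11627 : Q := act 5 n9110
theorem D11627 : act 5 n9110 = n11627 := rfl
theorem F53820 : act 0 n11627 = n9690 := d4_1 D11627 (iv D9690) (iv F42771)
theorem F53821 : act 2 n11627 = n9133 := d19_1 D11627 (iv D9133) (iv F42772)
theorem F53822 : act 4 n11627 = n9113 := d30_1 D11627 (iv D9113) F34290 (iv F34281) (iv F42773)
theorem F53823 : act 6 n11627 = n9288 := d35_2 D9110 D11627 (iv D9288) (iv D7332) (iv F34277)
theorem F53824 : act 9 n11627 = n9191 := d38_2 (iv F42774) D11627 (iv D9191)
def n11628 : Q := act 7 n9110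
theorem D11628 : act 7 n9110 = n11628 := rfl
theorem F53825 : act 0 n11628 = n9691 := d6_1 D11628 (iv D9691) (iv F42771)
theorem F53826 : act 2 n11628 = n9134 := d21_1 D11628 (iv D9134) (iv F42772)
theorem F53827 : act 4 n11628 = n9111 := d32_1 D11628 (iv D9111) (iv F42773)
theorem F53828 : act 9 n11628 = n9192 := d43_2 (iv F42774) D11628 (iv D9192)
def n11629 : Q := act 5 n9112
theorem D11629 : act 5 n9112 = n11629 := rfl
theorem F53829 : act 0 n11629 = n9692 := d4_1 D11629 (iv D9692) (iv F42779)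
theorem F53830 : act 2 n11629 = n11629 := d19_1 D11629 (iv D11629) F42780
theorem F53831 : act 3 n11629 = n9113 := d25_1 D11629 (iv D9113) (iv F42781)
theorem F53832 : act 6 n11629 = n9290 := d35_2 D9112 D11629 (iv D9290) (iv D7334) (iv F34285)
theorem F53833 : act 9 n11629 = n9193 := d38_2 (iv F42782) D11629 (iv D9193)
def n11630 : Q := act 7 n9112
theorem D11630 : act 7 n9112 = n11630 := rfl
theorem F53834 : act 0 n11630 = n9693 := d6_1 D11630 (iv D9693) (iv F42779)
theorem F53835 : act 2 n11630 = n11630 := d21_1 D11630 (iv D11630) F42780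
theorem F53836 : act 3 n11630 = n9114 := d27_1 D11630 (iv D9114) (iv F42781)
theorem F53837 : act 6 n11630 = n11630 := d39_1 D11630 (iv D11630) (iv D9112) F34286 D9112
theorem F53838 : act 9 n11630 = n9194 := d43_2 (iv F42782) D11630 (iv D9194)
def n11631 : Q := act 7 n9113
theorem D11631 : act 7 n9113 = n11631 := rfl
theorem F53839 : act 0 n11631 = n9694 := d6_1 D11631 (iv D9694) (iv F42783)
theorem F53840 : act 2 n11631 = n9135 := d21_1 D11631 (iv D9135) (iv F42784)
theorem F53841 : act 5 n11631 = n9114 := d36_1 D11631 (iv D9114) D9113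
theorem F53842 : act 9 n11631 = n9195 := d43_2 (iv F42786) D11631 (iv D9195)
def n11632 : Q := act 8 n9113
theorem D11632 : act 8 n9113 = n11632 := rfl
theorem F53843 : act 0 n11632 = n9695 := d7_1 D11632 (iv D9695) (iv F42783)
theorem F53844 : act 2 n11632 = n9136 := d22_1 D11632 (iv D9136) (iv F42784)
theorem F53845 : act 6 n11632 = n9293 := d40_1 D11632 (iv D9293) (iv F42785)
def n11633 : Q := act 5 n9115
theorem D11633 : act 5 n9115 = n11633 := rfl
theorem F53846 : act 0 n11633 = n9696 := d4_1 D11633 (iv D9696) (iv F42792)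
theorem F53847 : act 1 n11633 = n11633 := d12_1 D11633 (iv D11633) F42793
theorem F53848 : act 3 n11633 = n11633 := d25_1 D11633 (iv D11633) F42794
theorem F53849 : act 7 n11633 = n10232 := d36_2 (iv F42797) D11633 (iv D10232)
theorem F53850 : act 8 n11633 = n10392 := d37_2 D9115 D11633 (iv D10392) (iv D8152) (iv F34300)
theorem F53851 : act 9 n11633 = n9474 := d38_2 (iv F42798) D11633 (iv D9474)
def n11634 : Q := act 4 n9116
theorem D11634 : act 4 n9116 = n11634 := rfl
theorem F53852 : act 0 n11634 = n9697 := d3_1 D11634 (iv D9697) (iv F42799)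
theorem F53853 : act 1 n11634 = n11634 := d11_1 D11634 (iv D11634) F42800
theorem F53854 : act 5 n11634 = n9121 := d30_2 D9116 D11634 (iv D9121) (iv D7207) (iv F34306)
theorem F53855 : act 7 n11634 = n9118 := d32_2 (iv F42802) D11634 (iv D9118)
theorem F53856 : act 8 n11634 = n9295 := d33_2 (iv F42803) D11634 (iv D9295)
theorem F53857 : act 9 n11634 = n9521 := d34_2 (iv F42804) D11634 (iv D9521)
def n11635 : Q := act 6 n9116
theorem D11635 : act 6 n9116 = n11635 := rfl
theorem F53858 : act 0 n11635 = n9698 := d5_1 D11635 (iv D9698) (iv F42799)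
theorem F53859 : act 1 n11635 = n11635 := d13_1 D11635 (iv D11635) F42800
theorem F53860 : act 3 n11635 = n11635 := d26_1 D11635 (iv D11635) F42801
theorem F53861 : act 8 n11635 = n9296 := d40_2 (iv F42803) D11635 (iv D9296)
theorem F53862 : act 9 n11635 = n9522 := d41_2 (iv F42804) D11635 (iv D9522)
def n11636 : Q := act 4 n9117
theorem D11636 : act 4 n9117 = n11636 := rfl
theorem F53863 : act 0 n11636 = n9699 := d3_1 D11636 (iv D9699) (iv F42805)
theorem F53864 : act 1 n11636 = n11636 := d11_1 D11636 (iv D11636) F42806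
theorem F53865 : act 5 n11636 = n9123 := d30_2 D9117 D11636 (iv D9123) (iv D7208) (iv F34312)
theorem F53866 : act 7 n11636 = n9521 := d32_2 (iv F42808) D11636 (iv D9521)
theorem F53867 : act 8 n11636 = n11636 := d33_2 F42809 D11636 (iv D11636)
theorem F53868 : act 9 n11636 = n9118 := d34_2 (iv F42810) D11636 (iv D9118)
def n11637 : Q := act 6 n9117
theorem D11637 : act 6 n9117 = n11637 := rfl
theorem F53869 : act 0 n11637 = n9700 := d5_1 D11637 (iv D9700) (iv F42805)
theorem F53870 : act 1 n11637 = n11637 := d13_1 D11637 (iv D11637) F42806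
theorem F53871 : act 3 n11637 = n11637 := d26_1 D11637 (iv D11637) F42807
theorem F53872 : act 8 n11637 = n11637 := d40_2 F42809 D11637 (iv D11637)
theorem F53873 : act 9 n11637 = n9119 := d41_2 (iv F42810) D11637 (iv D9119)
def n11638 : Q := act 3 n9118
theorem D11638 : act 3 n9118 = n11638 := rfl
theorem F53874 : act 0 n11638 = n9701 := d2_1 D11638 (iv D9701) (iv F42811)
theorem F53875 : act 1 n11638 = n11638 := d10_1 D11638 (iv D11638) F42812
theorem F53876 : act 4 n11638 = n11638 := d24_2 D9118 D11638 (iv D11638) (iv D9118) F34317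
theorem F53877 : act 5 n11638 = n9125 := d25_2 (iv F42813) D11638 (iv D9125)
theorem F53878 : act 8 n11638 = n9297 := d28_2 (iv F42814) D11638 (iv D9297)
def n11639 : Q := act 6 n9118
theorem D11639 : act 6 n9118 = n11639 := rfl
theorem F53879 : act 0 n11639 = n9702 := d5_1 D11639 (iv D9702) (iv F42811)
theorem F53880 : act 1 n11639 = n11639 := d13_1 D11639 (iv D11639) F42812
theorem F53881 : act 4 n11639 = n9119 := d31_1 D11639 (iv D9119) D9118
theorem F53882 : act 8 n11639 = n9298 := d40_2 (iv F42814) D11639 (iv D9298)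
def n11640 : Q := act 7 n9119
theorem D11640 : act 7 n9119 = n11640 := rfl
theorem F53883 : act 0 n11640 = n9703 := d6_1 D11640 (iv D9703) (iv F42815)
theorem F53884 : act 1 n11640 = n11640 := d14_1 D11640 (iv D11640) F42816
theorem F53885 : act 3 n11640 = n11640 := d27_1 D11640 (iv D11640) F42817
theorem F53886 : act 8 n11640 = n9299 := d42_2 (iv F42818) D11640 (iv D9299)
def n11641 : Q := act 4 n9120
theorem D11641 : act 4 n9120 = n11641 := rfl
theorem F53887 : act 0 n11641 = n9704 := d3_1 D11641 (iv D9704) (iv F42819)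
theorem F53888 : act 1 n11641 = n11641 := d11_1 D11641 (iv D11641) F42820
theorem F53889 : act 8 n11641 = n11641 := d33_2 F42822 D11641 (iv D11641)
theorem F53890 : act 9 n11641 = n9476 := d34_2 (iv F42823) D11641 (iv D9476)
def n11642 : Q := act 6 n9120
theorem D11642 : act 6 n9120 = n11642 := rfl
theorem F53891 : act 0 n11642 = n9705 := d5_1 D11642 (iv D9705) (iv F42819)
theorem F53892 : act 1 n11642 = n11642 := d13_1 D11642 (iv D11642) F42820
theorem F53893 : act 3 n11642 = n9138 := d26_1 D11642 (iv D9138) (iv F42821)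
theorem F53894 : act 5 n11642 = n9122 := d35_1 D11642 (iv D9122) (iv D7207) (iv F34322) D9120
theorem F53895 : act 8 n11642 = n11642 := d40_2 F42822 D11642 (iv D11642)
theorem F53896 : act 9 n11642 = n9477 := d41_2 (iv F42823) D11642 (iv D9477)
def n11643 : Q := act 3 n9121
theorem D11643 : act 3 n9121 = n11643 := rfl
theorem F53897 : act 0 n11643 = n9706 := d2_1 D11643 (iv D9706) (iv F42824)
theorem F53898 : act 1 n11643 = n11643 := d10_1 D11643 (iv D11643) F42825
theorem F53899 : act 4 n11643 = n9139 := d24_2 D9121 D11643 (iv D9139) (iv D7219) (iv F34326)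
theorem F53900 : act 7 n11643 = n9125 := d27_2 (iv F42826) D11643 (iv D9125)
theorem F53901 : act 8 n11643 = n9128 := d28_2 (iv F42827) D11643 (iv D9128)
theorem F53902 : act 9 n11643 = n9523 := d29_2 (iv F42828) D11643 (iv D9523)
def n11644 : Q := act 6 n9121
theorem D11644 : act 6 n9121 = n11644 := rfl
theorem F53903 : act 0 n11644 = n9707 := d5_1 D11644 (iv D9707) (iv F42824)
theorem F53904 : act 1 n11644 = n11644 := d13_1 D11644 (iv D11644) F42825
theorem F53905 : act 4 n11644 = n9122 := d31_1 D11644 (iv D9122) D9121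
theorem F53906 : act 8 n11644 = n9129 := d40_2 (iv F42827) D11644 (iv D9129)
theorem F53907 : act 9 n11644 = n9524 := d41_2 (iv F42828) D11644 (iv D9524)
def n11645 : Q := act 7 n9122
theorem D11645 : act 7 n9122 = n11645 := rfl
theorem F53908 : act 0 n11645 = n9708 := d6_1 D11645 (iv D9708) (iv F42829)
theorem F53909 : act 1 n11645 = n11645 := d14_1 D11645 (iv D11645) F42830
theorem F53910 : act 3 n11645 = n9141 := d27_1 D11645 (iv D9141) (iv F42831)
theorem F53911 : act 6 n11645 = n9127 := d39_1 D11645 (iv D9127) (iv D7210) (iv F34327) D9122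
theorem F53912 : act 8 n11645 = n9130 := d42_2 (iv F42832) D11645 (iv D9130)
theorem F53913 : act 9 n11645 = n9525 := d43_2 (iv F42833) D11645 (iv D9525)
def n11646 : Q := act 3 n9123
theorem D11646 : act 3 n9123 = n11646 := rfl
theorem F53914 : act 0 n11646 = n9709 := d2_1 D11646 (iv D9709) (iv F42834)
theorem F53915 : act 1 n11646 = n11646 := d10_1 D11646 (iv D11646) F42835
theorem F53916 : act 4 n11646 = n9142 := d24_2 D9123 D11646 (iv D9142) (iv D7221) (iv F34332)
theorem F53917 : act 7 n11646 = n9523 := d27_2 (iv F42836) D11646 (iv D9523)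
theorem F53918 : act 8 n11646 = n9197 := d28_2 (iv F42837) D11646 (iv D9197)
theorem F53919 : act 9 n11646 = n9125 := d29_2 (iv F42838) D11646 (iv D9125)
def n11647 : Q := act 6 n9123
theorem D11647 : act 6 n9123 = n11647 := rfl
theorem F53920 : act 0 n11647 = n9710 := d5_1 D11647 (iv D9710) (iv F42834)
theorem F53921 : act 1 n11647 = n11647 := d13_1 D11647 (iv D11647) F42835
theorem F53922 : act 4 n11647 = n9124 := d31_1 D11647 (iv D9124) D9123
theorem F53923 : act 8 n11647 = n9198 := d40_2 (iv F42837) D11647 (iv D9198)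
theorem F53924 : act 9 n11647 = n9126 := d41_2 (iv F42838) D11647 (iv D9126)
def n11648 : Q := act 7 n9124
theorem D11648 : act 7 n9124 = n11648 := rfl
theorem F53925 : act 0 n11648 = n9711 := d6_1 D11648 (iv D9711) (iv F42839)
theorem F53926 : act 1 n11648 = n11648 := d14_1 D11648 (iv D11648) F42840
theorem F53927 : act 3 n11648 = n9144 := d27_1 D11648 (iv D9144) (iv F42841)
theorem F53928 : act 6 n11648 = n9525 := d39_1 D11648 (iv D9525) (iv D7512) (iv F34333) D9124
theorem F53929 : act 8 n11648 = n9199 := d42_2 (iv F42842) D11648 (iv D9199)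
theorem F53930 : act 9 n11648 = n9127 := d43_2 (iv F42843) D11648 (iv D9127)
def n11649 : Q := act 2 n9125
theorem D11649 : act 2 n9125 = n11649 := rfl
theorem F53931 : act 0 n11649 = n9712 := d1_1 D11649 (iv D9712) (iv F42844)
theorem F53932 : act 4 n11649 = n9145 := d18_2 (iv F42846) D11649 (iv D9145)
theorem F53933 : act 8 n11649 = n9131 := d22_2 (iv F42847) D11649 (iv D9131)
def n11650 : Q := act 6 n9125
theorem D11650 : act 6 n9125 = n11650 := rfl
theorem F53934 : act 0 n11650 = n9713 := d5_1 D11650 (iv D9713) (iv F42844)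
theorem F53935 : act 1 n11650 = n11650 := d13_1 D11650 (iv D11650) F42845
theorem F53936 : act 3 n11650 = n9126 := d26_1 D11650 (iv D9126) D9125
theorem F53937 : act 4 n11650 = n9146 := d31_1 D11650 (iv D9146) (iv F42846)
theorem F53938 : act 8 n11650 = n9132 := d40_2 (iv F42847) D11650 (iv D9132)
def n11651 : Q := act 5 n9126
theorem D11651 : act 5 n9126 = n11651 := rfl
theorem F53939 : act 0 n11651 = n9714 := d4_1 D11651 (iv D9714) (iv F42848)
theorem F53940 : act 1 n11651 = n11651 := d12_1 D11651 (iv D11651) F42849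
def n11652 : Q := act 7 n9126
theorem D11652 : act 7 n9126 = n11652 := rfl
theorem F53941 : act 0 n11652 = n9715 := d6_1 D11652 (iv D9715) (iv F42848)
theorem F53942 : act 1 n11652 = n11652 := d14_1 D11652 (iv D11652) F42849
theorem F53943 : act 4 n11652 = n9127 := d32_1 D11652 (iv D9127) (iv F42850)
theorem F53944 : act 8 n11652 = n9134 := d42_2 (iv F42851) D11652 (iv D9134)
def n11653 : Q := act 2 n9128
theorem D11653 : act 2 n9128 = n11653 := rfl
theorem F53945 : act 0 n11653 = n9716 := d1_1 D11653 (iv D9716) (iv F42856)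
theorem F53946 : act 4 n11653 = n9149 := d18_2 (iv F42858) D11653 (iv D9149)
theorem F53947 : act 5 n11653 = n9309 := d19_2 (iv F42859) D11653 (iv D9309)
theorem F53948 : act 7 n11653 = n9131 := d21_2 (iv F42860) D11653 (iv D9131)
theorem F53949 : act 9 n11653 = n9204 := d23_2 (iv F42861) D11653 (iv D9204)
def n11654 : Q := act 6 n9128
theorem D11654 : act 6 n9128 = n11654 := rfl
theorem F53950 : act 0 n11654 = n9717 := d5_1 D11654 (iv D9717) (iv F42856)
theorem F53951 : act 1 n11654 = n11654 := d13_1 D11654 (iv D11654) F42857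
theorem F53952 : act 3 n11654 = n9129 := d26_1 D11654 (iv D9129) D9128
theorem F53953 : act 4 n11654 = n9150 := d31_1 D11654 (iv D9150) (iv F42858)
theorem F53954 : act 9 n11654 = n9205 := d41_2 (iv F42861) D11654 (iv D9205)
def n11655 : Q := act 5 n9129
theorem D11655 : act 5 n9129 = n11655 := rfl
theorem F53955 : act 0 n11655 = n9718 := d4_1 D11655 (iv D9718) (iv F42862)
theorem F53956 : act 1 n11655 = n11655 := d12_1 D11655 (iv D11655) F42863
theorem F53957 : act 4 n11655 = n11655 := d30_1 D11655 (iv D11655) F42864 F34351 (iv F42864)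
theorem F53958 : act 6 n11655 = n9311 := d35_2 D9129 D11655 (iv D9311) (iv D7348) (iv F34345)
theorem F53959 : act 9 n11655 = n9206 := d38_2 (iv F42865) D11655 (iv D9206)
def n11656 : Q := act 7 n9129
theorem D11656 : act 7 n9129 = n11656 := rfl
theorem F53960 : act 0 n11656 = n9719 := d6_1 D11656 (iv D9719) (iv F42862)
theorem F53961 : act 1 n11656 = n11656 := d14_1 D11656 (iv D11656) F42863
theorem F53962 : act 4 n11656 = n9130 := d32_1 D11656 (iv D9130) (iv F42864)
theorem F53963 : act 6 n11656 = n9134 := d39_1 D11656 (iv D9134) (iv D7214) (iv F34346) D9129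
theorem F53964 : act 9 n11656 = n9207 := d43_2 (iv F42865) D11656 (iv D9207)
def n11657 : Q := act 1 n9131
theorem D11657 : act 1 n9131 = n11657 := rfl
theorem F53965 : act 2 n11657 = n11657 := d9_2 D9131 D11657 (iv D11657) (iv D9131) F34354
theorem F53966 : act 4 n11657 = n9153 := d11_2 (iv F42873) D11657 (iv D9153)
theorem F53967 : act 5 n11657 = n9313 := d12_2 (iv F42874) D11657 (iv D9313)
theorem F53968 : act 9 n11657 = n9208 := d16_2 (iv F42875) D11657 (iv D9208)
def n11658 : Q := act 6 n9131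
theorem D11658 : act 6 n9131 = n11658 := rfl
theorem F53969 : act 0 n11658 = n9721 := d5_1 D11658 (iv D9721) (iv F42872)
theorem F53970 : act 2 n11658 = n9132 := d20_1 D11658 (iv D9132) D9131
theorem F53971 : act 4 n11658 = n9154 := d31_1 D11658 (iv D9154) (iv F42873)
theorem F53972 : act 9 n11658 = n9209 := d41_2 (iv F42875) D11658 (iv D9209)
def n11659 : Q := act 5 n9132
theorem D11659 : act 5 n9132 = n11659 := rfl
theorem F53973 : act 0 n11659 = n9722 := d4_1 D11659 (iv D9722) (iv F42876)
theorem F53974 : act 1 n11659 = n11659 := d12_1 D11659 (iv D11659) F42877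
theorem F53975 : act 3 n11659 = n9133 := d25_1 D11659 (iv D9133) (iv F42878)
theorem F53976 : act 4 n11659 = n11659 := d30_1 D11659 (iv D11659) F42879 F34440 (iv F42879)
theorem F53977 : act 6 n11659 = n9315 := d35_2 D9132 D11659 (iv D9315) (iv D7351) (iv F34356)
theorem F53978 : act 9 n11659 = n9210 := d38_2 (iv F42880) D11659 (iv D9210)
def n11660 : Q := act 7 n9132
theorem D11660 : act 7 n9132 = n11660 := rfl
theorem F53979 : act 0 n11660 = n9723 := d6_1 D11660 (iv D9723) (iv F42876)
theorem F53980 : act 1 n11660 = n11660 := d14_1 D11660 (iv D11660) F42877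
theorem F53981 : act 3 n11660 = n9134 := d27_1 D11660 (iv D9134) (iv F42878)
theorem F53982 : act 4 n11660 = n9155 := d32_1 D11660 (iv D9155) (iv F42879)
theorem F53983 : act 9 n11660 = n9211 := d43_2 (iv F42880) D11660 (iv D9211)
def n11661 : Q := act 7 n9133
theorem D11661 : act 7 n9133 = n11661 := rfl
theorem F53984 : act 0 n11661 = n9724 := d6_1 D11661 (iv D9724) (iv F42881)
theorem F53985 : act 1 n11661 = n11661 := d14_1 D11661 (iv D11661) F42882
theorem F53986 : act 4 n11661 = n9135 := d32_1 D11661 (iv D9135) (iv F42883)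
theorem F53987 : act 5 n11661 = n9134 := d36_1 D11661 (iv D9134) D9133
theorem F53988 : act 9 n11661 = n9212 := d43_2 (iv F42885) D11661 (iv D9212)
def n11662 : Q := act 8 n9133
theorem D11662 : act 8 n9133 = n11662 := rfl
theorem F53989 : act 0 n11662 = n9725 := d7_1 D11662 (iv D9725) (iv F42881)
theorem F53990 : act 1 n11662 = n11662 := d15_1 D11662 (iv D11662) F42882
theorem F53991 : act 4 n11662 = n9136 := d33_1 D11662 (iv D9136) (iv F42883)
theorem F53992 : act 6 n11662 = n9318 := d40_1 D11662 (iv D9318) (iv F42884)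
def n11663 : Q := act 6 n9135
theorem D11663 : act 6 n9135 = n11663 := rfl
theorem F53993 : act 0 n11663 = n9726 := d5_1 D11663 (iv D9726) (iv F42890)
theorem F53994 : act 1 n11663 = n11663 := d13_1 D11663 (iv D11663) F42891
theorem F53995 : act 3 n11663 = n11663 := d26_1 D11663 (iv D11663) F42892
theorem F53996 : act 5 n11663 = n11663 := d35_1 D11663 (iv D11663) F42893 F34376 (iv F42893)
theorem F53997 : act 7 n11663 = n9319 := d39_2 D9135 D11663 (iv D9319) (iv D7354) (iv F34370)
theorem F53998 : act 9 n11663 = n9214 := d41_2 (iv F42894) D11663 (iv D9214)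
def n11664 : Q := act 8 n9135
theorem D11664 : act 8 n9135 = n11664 := rfl
theorem F53999 : act 0 n11664 = n9727 := d7_1 D11664 (iv D9727) (iv F42890)
theorem F54000 : act 1 n11664 = n11664 := d15_1 D11664 (iv D11664) F42891
theorem F54001 : act 3 n11664 = n11664 := d28_1 D11664 (iv D11664) F42892
theorem F54002 : act 7 n11664 = n9136 := d42_1 D11664 (iv D9136) D9135
def n11665 : Q := act 9 n9136
theorem D11665 : act 9 n9136 = n11665 := rfl
theorem F54003 : act 0 n11665 = n9728 := d8_1 D11665 (iv D9728) (iv F42895)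
theorem F54004 : act 1 n11665 = n11665 := d16_1 D11665 (iv D11665) F42896
theorem F54005 : act 3 n11665 = n11665 := d29_1 D11665 (iv D11665) F42897
theorem F54006 : act 6 n11665 = n9321 := d41_1 D11665 (iv D9321) (iv F42898)
theorem F54007 : act 8 n11665 = n9216 := d44_1 D11665 (iv D9216) (iv D7274) (iv F34371) D9136
def n11666 : Q := act 3 n9137
theorem D11666 : act 3 n9137 = n11666 := rfl
theorem F54008 : act 0 n11666 = n9729 := d2_1 D11666 (iv D9729) (iv F42899)
theorem F54009 : act 1 n11666 = n11666 := d10_1 D11666 (iv D11666) F42900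
theorem F54010 : act 5 n11666 = n11666 := d25_2 F42902 D11666 (iv D11666)
theorem F54011 : act 8 n11666 = n11666 := d28_2 F42903 D11666 (iv D11666)
theorem F54012 : act 9 n11666 = n9487 := d29_2 (iv F42904) D11666 (iv D9487)
def n11667 : Q := act 6 n9137
theorem D11667 : act 6 n9137 = n11667 := rfl
theorem F54013 : act 0 n11667 = n9730 := d5_1 D11667 (iv D9730) (iv F42899)
theorem F54014 : act 1 n11667 = n11667 := d13_1 D11667 (iv D11667) F42900
theorem F54015 : act 2 n11667 = n9631 := d20_1 D11667 (iv D9631) (iv F42901)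
theorem F54016 : act 4 n11667 = n9138 := d31_1 D11667 (iv D9138) D9137
theorem F54017 : act 8 n11667 = n11667 := d40_2 F42903 D11667 (iv D11667)
theorem F54018 : act 9 n11667 = n9488 := d41_2 (iv F42904) D11667 (iv D9488)
def n11668 : Q := act 7 n9138
theorem D11668 : act 7 n9138 = n11668 := rfl
theorem F54019 : act 0 n11668 = n9731 := d6_1 D11668 (iv D9731) (iv F42905)
theorem F54020 : act 1 n11668 = n11668 := d14_1 D11668 (iv D11668) F42906
theorem F54021 : act 2 n11668 = n9632 := d21_1 D11668 (iv D9632) (iv F42907)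
theorem F54022 : act 5 n11668 = n9141 := d36_1 D11668 (iv D9141) (iv F42908)
theorem F54023 : act 8 n11668 = n11668 := d42_2 F42909 D11668 (iv D11668)
theorem F54024 : act 9 n11668 = n9489 := d43_2 (iv F42910) D11668 (iv D9489)
def n11669 : Q := act 2 n9139
theorem D11669 : act 2 n9139 = n11669 := rfl
theorem F54025 : act 0 n11669 = n9732 := d1_1 D11669 (iv D9732) (iv F42911)
theorem F54026 : act 3 n11669 = n9736 := d17_2 D9139 D11669 (iv D9736) (iv D7668) (iv F34385)
theorem F54027 : act 5 n11669 = n11669 := d19_2 F42913 D11669 (iv D11669)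
theorem F54028 : act 7 n11669 = n9145 := d21_2 (iv F42914) D11669 (iv D9145)
theorem F54029 : act 8 n11669 = n9149 := d22_2 (iv F42915) D11669 (iv D9149)
theorem F54030 : act 9 n11669 = n9532 := d23_2 (iv F42916) D11669 (iv D9532)
def n11670 : Q := act 6 n9139
theorem D11670 : act 6 n9139 = n11670 := rfl
theorem F54031 : act 0 n11670 = n9733 := d5_1 D11670 (iv D9733) (iv F42911)
theorem F54032 : act 1 n11670 = n11670 := d13_1 D11670 (iv D11670) F42912
theorem F54033 : act 3 n11670 = n9140 := d26_1 D11670 (iv D9140) D9139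
theorem F54034 : act 8 n11670 = n9150 := d40_2 (iv F42915) D11670 (iv D9150)
theorem F54035 : act 9 n11670 = n9533 := d41_2 (iv F42916) D11670 (iv D9533)
def n11671 : Q := act 5 n9140
theorem D11671 : act 5 n9140 = n11671 := rfl
theorem F54036 : act 0 n11671 = n9734 := d4_1 D11671 (iv D9734) (iv F42917)
theorem F54037 : act 1 n11671 = n11671 := d12_1 D11671 (iv D11671) F42918
theorem F54038 : act 2 n11671 = n9738 := d19_1 D11671 (iv D9738) (iv F42919)
theorem F54039 : act 6 n11671 = n11671 := d35_2 D9140 D11671 (iv D11671) (iv D9140) F34386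
theorem F54040 : act 9 n11671 = n9534 := d38_2 (iv F42922) D11671 (iv D9534)
def n11672 : Q := act 7 n9140
theorem D11672 : act 7 n9140 = n11672 := rfl
theorem F54041 : act 0 n11672 = n9735 := d6_1 D11672 (iv D9735) (iv F42917)
theorem F54042 : act 1 n11672 = n11672 := d14_1 D11672 (iv D11672) F42918
theorem F54043 : act 2 n11672 = n9739 := d21_1 D11672 (iv D9739) (iv F42919)
theorem F54044 : act 4 n11672 = n9141 := d32_1 D11672 (iv D9141) (iv F42920)
theorem F54045 : act 6 n11672 = n9148 := d39_1 D11672 (iv D9148) (iv D7224) (iv F34387) D9140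
theorem F54046 : act 8 n11672 = n9152 := d42_2 (iv F42921) D11672 (iv D9152)
theorem F54047 : act 9 n11672 = n9535 := d43_2 (iv F42922) D11672 (iv D9535)
def n11673 : Q := act 2 n9142
theorem D11673 : act 2 n9142 = n11673 := rfl
theorem F54048 : act 0 n11673 = n9736 := d1_1 D11673 (iv D9736) (iv F42929)
theorem F54049 : act 3 n11673 = n9732 := d17_2 D9142 D11673 (iv D9732) (iv D7665) (iv F34397)
theorem F54050 : act 5 n11673 = n11673 := d19_2 F42931 D11673 (iv D11673)
theorem F54051 : act 7 n11673 = n9532 := d21_2 (iv F42932) D11673 (iv D9532)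
theorem F54052 : act 8 n11673 = n9217 := d22_2 (iv F42933) D11673 (iv D9217)
theorem F54053 : act 9 n11673 = n9145 := d23_2 (iv F42934) D11673 (iv D9145)
def n11674 : Q := act 6 n9142
theorem D11674 : act 6 n9142 = n11674 := rfl
theorem F54054 : act 0 n11674 = n9737 := d5_1 D11674 (iv D9737) (iv F42929)
theorem F54055 : act 1 n11674 = n11674 := d13_1 D11674 (iv D11674) F42930
theorem F54056 : act 3 n11674 = n9143 := d26_1 D11674 (iv D9143) D9142
theorem F54057 : act 8 n11674 = n9218 := d40_2 (iv F42933) D11674 (iv D9218)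
theorem F54058 : act 9 n11674 = n9146 := d41_2 (iv F42934) D11674 (iv D9146)
def n11675 : Q := act 5 n9143
theorem D11675 : act 5 n9143 = n11675 := rfl
theorem F54059 : act 0 n11675 = n9738 := d4_1 D11675 (iv D9738) (iv F42935)
theorem F54060 : act 1 n11675 = n11675 := d12_1 D11675 (iv D11675) F42936
theorem F54061 : act 2 n11675 = n9734 := d19_1 D11675 (iv D9734) (iv F42937)
theorem F54062 : act 6 n11675 = n11675 := d35_2 D9143 D11675 (iv D11675) (iv D9143) F34398
theorem F54063 : act 9 n11675 = n9147 := d38_2 (iv F42940) D11675 (iv D9147)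
def n11676 : Q := act 7 n9143
theorem D11676 : act 7 n9143 = n11676 := rfl
theorem F54064 : act 0 n11676 = n9739 := d6_1 D11676 (iv D9739) (iv F42935)
theorem F54065 : act 1 n11676 = n11676 := d14_1 D11676 (iv D11676) F42936
theorem F54066 : act 2 n11676 = n9735 := d21_1 D11676 (iv D9735) (iv F42937)
theorem F54067 : act 4 n11676 = n9144 := d32_1 D11676 (iv D9144) (iv F42938)
theorem F54068 : act 6 n11676 = n9535 := d39_1 D11676 (iv D9535) (iv D7519) (iv F34399) D9143
theorem F54069 : act 8 n11676 = n9220 := d42_2 (iv F42939) D11676 (iv D9220)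
theorem F54070 : act 9 n11676 = n9148 := d43_2 (iv F42940) D11676 (iv D9148)
def n11677 : Q := act 1 n9145
theorem D11677 : act 1 n9145 = n11677 := rfl
theorem F54071 : act 2 n11677 = n11677 := d9_2 D9145 D11677 (iv D11677) (iv D9145) F34408
theorem F54072 : act 5 n11677 = n11677 := d12_2 F42948 D11677 (iv D11677)
theorem F54073 : act 8 n11677 = n9153 := d15_2 (iv F42949) D11677 (iv D9153)
def n11678 : Q := act 6 n9145
theorem D11678 : act 6 n9145 = n11678 := rfl
theorem F54074 : act 0 n11678 = n9741 := d5_1 D11678 (iv D9741) (iv F42947)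
theorem F54075 : act 2 n11678 = n9146 := d20_1 D11678 (iv D9146) D9145
theorem F54076 : act 8 n11678 = n9154 := d40_2 (iv F42949) D11678 (iv D9154)
def n11679 : Q := act 5 n9146
theorem D11679 : act 5 n9146 = n11679 := rfl
theorem F54077 : act 0 n11679 = n9742 := d4_1 D11679 (iv D9742) (iv F42950)
theorem F54078 : act 1 n11679 = n11679 := d12_1 D11679 (iv D11679) F42951
theorem F54079 : act 3 n11679 = n9147 := d25_1 D11679 (iv D9147) (iv F42952)
theorem F54080 : act 6 n11679 = n11679 := d35_2 D9146 D11679 (iv D11679) (iv D9146) F34409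
theorem F54081 : act 8 n11679 = n11679 := d37_2 (iv F42953) D11679 (iv D11679) F42953 F34440
def n11680 : Q := act 7 n9146
theorem D11680 : act 7 n9146 = n11680 := rfl
theorem F54082 : act 0 n11680 = n9743 := d6_1 D11680 (iv D9743) (iv F42950)
theorem F54083 : act 1 n11680 = n11680 := d14_1 D11680 (iv D11680) F42951
theorem F54084 : act 3 n11680 = n9148 := d27_1 D11680 (iv D9148) (iv F42952)
theorem F54085 : act 8 n11680 = n9155 := d42_2 (iv F42953) D11680 (iv D9155)
def n11681 : Q := act 7 n9147
theorem D11681 : act 7 n9147 = n11681 := rfl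
theorem F54086 : act 0 n11681 = n9744 := d6_1 D11681 (iv D9744) (iv F42954)
theorem F54087 : act 1 n11681 = n11681 := d14_1 D11681 (iv D11681) F42955
theorem F54088 : act 5 n11681 = n9148 := d36_1 D11681 (iv D9148) D9147
theorem F54089 : act 8 n11681 = n11681 := d42_2 F42957 D11681 (iv D11681)
def n11682 : Q := act 1 n9149
theorem D11682 : act 1 n9149 = n11682 := rfl
theorem F54090 : act 2 n11682 = n11682 := d9_2 D9149 D11682 (iv D11682) (iv D9149) F34419
theorem F54091 : act 3 n11682 = n9838 := d10_2 (iv F42963) D11682 (iv D9838)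
theorem F54092 : act 5 n11682 = n9156 := d12_2 (iv F42964) D11682 (iv D9156)
theorem F54093 : act 7 n11682 = n9153 := d14_2 (iv F42965) D11682 (iv D9153)
theorem F54094 : act 9 n11682 = n9226 := d16_2 (iv F42966) D11682 (iv D9226)
def n11683 : Q := act 6 n9149
theorem D11683 : act 6 n9149 = n11683 := rfl
theorem F54096 : act 2 n11683 = n9150 := d20_1 D11683 (iv D9150) D9149
theorem F54097 : act 3 n11683 = n9839 := d26_1 D11683 (iv D9839) (iv F42963)
theorem F54098 : act 9 n11683 = n9227 := d41_2 (iv F42966) D11683 (iv D9227)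
def n11685 : Q := act 7 n9150
theorem D11685 : act 7 n9150 = n11685 := rfl
theorem F54104 : act 0 n11685 = n9748 := d6_1 D11685 (iv D9748) (iv F42967)
theorem F54105 : act 1 n11685 = n11685 := d14_1 D11685 (iv D11685) F42968
theorem F54106 : act 3 n11685 = n9152 := d27_1 D11685 (iv D9152) (iv F42969)
theorem F54107 : act 6 n11685 = n9155 := d39_1 D11685 (iv D9155) (iv D7230) (iv F34421) D9150
theorem F54108 : act 9 n11685 = n9229 := d43_2 (iv F42970) D11685 (iv D9229)
def n11686 : Q := act 7 n9151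
theorem D11686 : act 7 n9151 = n11686 := rfl
theorem F54109 : act 0 n11686 = n9749 := d6_1 D11686 (iv D9749) (iv F42971)
theorem F54110 : act 1 n11686 = n11686 := d14_1 D11686 (iv D11686) F42972
theorem F54111 : act 2 n11686 = n9842 := d21_1 D11686 (iv D9842) (iv F42973)
theorem F54112 : act 4 n11686 = n11686 := d32_1 D11686 (iv D11686) F42974
theorem F54113 : act 5 n11686 = n9152 := d36_1 D11686 (iv D9152) D9151
theorem F54114 : act 6 n11686 = n11686 := d39_1 D11686 (iv D11686) F42975 F34464 (iv F42975)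
theorem F54115 : act 9 n11686 = n9230 := d43_2 (iv F42976) D11686 (iv D9230)
def n11687 : Q := act 8 n9151
theorem D11687 : act 8 n9151 = n11687 := rfl
theorem F54116 : act 0 n11687 = n9750 := d7_1 D11687 (iv D9750) (iv F42971)
theorem F54117 : act 1 n11687 = n11687 := d15_1 D11687 (iv D11687) F42972
theorem F54118 : act 2 n11687 = n9843 := d22_1 D11687 (iv D9843) (iv F42973)
theorem F54119 : act 4 n11687 = n11687 := d33_1 D11687 (iv D11687) F42974
theorem F54120 : act 6 n11687 = n9159 := d40_1 D11687 (iv D9159) (iv F42975)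
theorem F54121 : act 9 n11687 = n11687 := d44_2 (iv F42976) D11687 (iv D11687) F42976 F34701
def n11688 : Q := act 0 n9153
theorem D11688 : act 0 n9153 = n11688 := rfl
theorem F54122 : act 1 n11688 = n9751 := d0_2 D9153 D11688 (iv D9751) (iv D7679) (iv F34434)
theorem F54123 : act 2 n11688 = n11688 := d1_2 F42983 D11688 (iv D11688)
theorem F54124 : act 5 n11688 = n9160 := d4_2 (iv F42984) D11688 (iv D9160)
theorem F54125 : act 9 n11688 = n9231 := d8_2 (iv F42985) D11688 (iv D9231)
def n11689 : Q := act 6 n9153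
theorem D11689 : act 6 n9153 = n11689 := rfl
theorem F54126 : act 1 n11689 = n9154 := d13_1 D11689 (iv D9154) D9153
theorem F54127 : act 2 n11689 = n11689 := d20_1 D11689 (iv D11689) F42983
theorem F54128 : act 5 n11689 = n11689 := d35_1 D11689 (iv D11689) F42984 F34468 (iv F42984)
theorem F54129 : act 9 n11689 = n9232 := d41_2 (iv F42985) D11689 (iv D9232)
def n11690 : Q := act 7 n9154
theorem D11690 : act 7 n9154 = n11690 := rfl
theorem F54130 : act 0 n11690 = n9753 := d6_1 D11690 (iv D9753) (iv F42986)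
theorem F54131 : act 2 n11690 = n9155 := d21_1 D11690 (iv D9155) (iv F42987)
theorem F54132 : act 5 n11690 = n11690 := d36_1 D11690 (iv D11690) F42988
theorem F54133 : act 9 n11690 = n9233 := d43_2 (iv F42989) D11690 (iv D9233)
def n11691 : Q := act 0 n9156
theorem D11691 : act 0 n9156 = n11691 := rfl
theorem F54136 : act 3 n11691 = n9861 := d2_2 (iv F42996) D11691 (iv D9861)
theorem F54137 : act 4 n11691 = n9343 := d3_2 (iv F42997) D11691 (iv D9343)
theorem F54138 : act 7 n11691 = n9160 := d6_2 (iv F42998) D11691 (iv D9160)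
def n11692 : Q := act 6 n9156
theorem D11692 : act 6 n9156 = n11692 := rfl
theorem F54141 : act 1 n11692 = n9157 := d13_1 D11692 (iv D9157) D9156
theorem F54143 : act 3 n11692 = n9862 := d26_1 D11692 (iv D9862) (iv F42996)
theorem F54144 : act 4 n11692 = n9344 := d31_1 D11692 (iv D9344) (iv F42997)
def n11693 : Q := act 5 n9157
theorem D11693 : act 5 n9157 = n11693 := rfl
theorem F54150 : act 3 n11693 = n9863 := d25_1 D11693 (iv D9863) (iv F43003)
theorem F54152 : act 9 n11693 = n9236 := d38_2 (iv F43007) D11693 (iv D9236)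
def n11694 : Q := act 4 n9158
theorem D11694 : act 4 n9158 = n11694 := rfl
theorem F54156 : act 5 n11694 = n9346 := d30_2 D9158 D11694 (iv D9346) (iv D7374) (iv F34456)
def n11696 : Q := act 5 n9161
theorem D11696 : act 5 n9161 = n11696 := rfl
theorem F54165 : act 0 n11696 = n9169 := d4_1 D11696 (iv D9169) (iv F43026)
theorem F54166 : act 1 n11696 = n9759 := d12_1 D11696 (iv D9759) (iv F43027)
theorem F54167 : act 2 n11696 = n11696 := d19_1 D11696 (iv D11696) F43028
theorem F54168 : act 3 n11696 = n9651 := d25_1 D11696 (iv D9651) (iv F43029)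
theorem F54169 : act 7 n11696 = n9501 := d36_2 (iv F43032) D11696 (iv D9501)
theorem F54170 : act 9 n11696 = n9162 := d38_2 (iv F43033) D11696 (iv D9162)
def n11697 : Q := act 4 n9162
theorem D11697 : act 4 n9162 = n11697 := rfl
theorem F54171 : act 0 n11697 = n9170 := d3_1 D11697 (iv D9170) (iv F43034)
theorem F54172 : act 1 n11697 = n9760 := d11_1 D11697 (iv D9760) (iv F43035)
theorem F54173 : act 2 n11697 = n11697 := d18_1 D11697 (iv D11697) F43036
theorem F54174 : act 5 n11697 = n11697 := d30_2 D9162 D11697 (iv D11697) (iv D9162) F34482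
theorem F54175 : act 7 n11697 = n9540 := d32_2 (iv F43038) D11697 (iv D9540)
theorem F54176 : act 8 n11697 = n9164 := d33_2 (iv F43039) D11697 (iv D9164)
def n11698 : Q := act 6 n9162
theorem D11698 : act 6 n9162 = n11698 := rfl
theorem F54177 : act 0 n11698 = n9171 := d5_1 D11698 (iv D9171) (iv F43034)
theorem F54178 : act 1 n11698 = n9761 := d13_1 D11698 (iv D9761) (iv F43035)
theorem F54179 : act 2 n11698 = n11698 := d20_1 D11698 (iv D11698) F43036
theorem F54180 : act 3 n11698 = n9763 := d26_1 D11698 (iv D9763) (iv F43037)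
theorem F54181 : act 5 n11698 = n11698 := d35_1 D11698 (iv D11698) (iv D9162) F34483 D9162
theorem F54182 : act 8 n11698 = n9165 := d40_2 (iv F43039) D11698 (iv D9165)
def n11699 : Q := act 4 n9163
theorem D11699 : act 4 n9163 = n11699 := rfl
theorem F54183 : act 0 n11699 = n9172 := d3_1 D11699 (iv D9172) (iv F43040)
theorem F54184 : act 1 n11699 = n9762 := d11_1 D11699 (iv D9762) (iv F43041)
theorem F54185 : act 2 n11699 = n11699 := d18_1 D11699 (iv D11699) F43042
theorem F54186 : act 5 n11699 = n9349 := d30_2 D9163 D11699 (iv D9349) (iv D7377) (iv F34489)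
theorem F54187 : act 7 n11699 = n9164 := d32_2 (iv F43044) D11699 (iv D9164)
theorem F54188 : act 8 n11699 = n9540 := d33_2 (iv F43045) D11699 (iv D9540)
def n11700 : Q := act 6 n9163
theorem D11700 : act 6 n9163 = n11700 := rfl
theorem F54189 : act 0 n11700 = n9173 := d5_1 D11700 (iv D9173) (iv F43040)
theorem F54190 : act 1 n11700 = n9763 := d13_1 D11700 (iv D9763) (iv F43041)
theorem F54191 : act 2 n11700 = n11700 := d20_1 D11700 (iv D11700) F43042
theorem F54192 : act 3 n11700 = n9761 := d26_1 D11700 (iv D9761) (iv F43043)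
theorem F54193 : act 5 n11700 = n11700 := d35_1 D11700 (iv D11700) (iv D9163) F34490 D9163
theorem F54194 : act 8 n11700 = n9541 := d40_2 (iv F43045) D11700 (iv D9541)
def n11701 : Q := act 3 n9164
theorem D11701 : act 3 n9164 = n11701 := rfl
theorem F54195 : act 0 n11701 = n9174 := d2_1 D11701 (iv D9174) (iv F43046)
theorem F54196 : act 1 n11701 = n9764 := d10_1 D11701 (iv D9764) (iv F43047)
theorem F54197 : act 5 n11701 = n9351 := d25_2 (iv F43049) D11701 (iv D9351)
def n11702 : Q := act 6 n9164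
theorem D11702 : act 6 n9164 = n11702 := rfl
theorem F54198 : act 0 n11702 = n9175 := d5_1 D11702 (iv D9175) (iv F43046)
theorem F54199 : act 1 n11702 = n9765 := d13_1 D11702 (iv D9765) (iv F43047)
theorem F54200 : act 2 n11702 = n11702 := d20_1 D11702 (iv D11702) F43048
theorem F54201 : act 4 n11702 = n9165 := d31_1 D11702 (iv D9165) D9164
def n11703 : Q := act 7 n9165
theorem D11703 : act 7 n9165 = n11703 := rfl
theorem F54202 : act 0 n11703 = n9176 := d6_1 D11703 (iv D9176) (iv F43050)
theorem F54203 : act 1 n11703 = n9766 := d14_1 D11703 (iv D9766) (iv F43051)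
theorem F54204 : act 2 n11703 = n11703 := d21_1 D11703 (iv D11703) F43052
theorem F54205 : act 5 n11703 = n9168 := d36_1 D11703 (iv D9168) (iv F43053)
def n11704 : Q := act 2 n9166
theorem D11704 : act 2 n9166 = n11704 := rfl
theorem F54206 : act 0 n11704 = n9177 := d1_1 D11704 (iv D9177) (iv F43054)
theorem F54208 : act 5 n11704 = n9354 := d19_2 (iv F43056) D11704 (iv D9354)
def n11705 : Q := act 6 n9166
theorem D11705 : act 6 n9166 = n11705 := rfl
theorem F54211 : act 0 n11705 = n9178 := d5_1 D11705 (iv D9178) (iv F43054)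
theorem F54212 : act 1 n11705 = n9768 := d13_1 D11705 (iv D9768) (iv F43055)
theorem F54213 : act 3 n11705 = n9167 := d26_1 D11705 (iv D9167) D9166
theorem F54214 : act 8 n11705 = n11705 := d40_2 F43058 D11705 (iv D11705)
def n11706 : Q := act 5 n9167
theorem D11706 : act 5 n9167 = n11706 := rfl
theorem F54215 : act 0 n11706 = n9179 := d4_1 D11706 (iv D9179) (iv F43059)
theorem F54216 : act 1 n11706 = n9769 := d12_1 D11706 (iv D9769) (iv F43060)
theorem F54217 : act 2 n11706 = n11706 := d19_1 D11706 (iv D11706) F43061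
theorem F54218 : act 6 n11706 = n9356 := d35_2 D9167 D11706 (iv D9356) (iv D7381) (iv F34498)
def n11707 : Q := act 7 n9167
theorem D11707 : act 7 n9167 = n11707 := rfl
theorem F54219 : act 0 n11707 = n9180 := d6_1 D11707 (iv D9180) (iv F43059)
theorem F54220 : act 1 n11707 = n9770 := d14_1 D11707 (iv D9770) (iv F43060)
theorem F54221 : act 2 n11707 = n11707 := d21_1 D11707 (iv D11707) F43061
theorem F54222 : act 4 n11707 = n9168 := d32_1 D11707 (iv D9168) (iv F43062)
theorem F54223 : act 6 n11707 = n11707 := d39_1 D11707 (iv D11707) (iv D9167) F34499 D9167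
theorem F54224 : act 8 n11707 = n11707 := d42_2 F43063 D11707 (iv D11707)
def n11708 : Q := act 4 n9169
theorem D11708 : act 4 n9169 = n11708 := rfl
theorem F54225 : act 1 n11708 = n9181 := d11_1 D11708 (iv D9181) (iv F43069)
theorem F54226 : act 2 n11708 = n11708 := d18_1 D11708 (iv D11708) F43070
theorem F54227 : act 5 n11708 = n11708 := d30_2 D9169 D11708 (iv D11708) (iv D9169) F34508
theorem F54228 : act 7 n11708 = n9506 := d32_2 (iv F43072) D11708 (iv D9506)
theorem F54229 : act 9 n11708 = n9170 := d34_2 (iv F43073) D11708 (iv D9170)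
def n11709 : Q := act 6 n9169
theorem D11709 : act 6 n9169 = n11709 := rfl
theorem F54230 : act 1 n11709 = n9182 := d13_1 D11709 (iv D9182) (iv F43069)
theorem F54231 : act 2 n11709 = n11709 := d20_1 D11709 (iv D11709) F43070
theorem F54232 : act 3 n11709 = n9663 := d26_1 D11709 (iv D9663) (iv F43071)
theorem F54233 : act 5 n11709 = n11709 := d35_1 D11709 (iv D11709) (iv D9169) F34509 D9169
theorem F54234 : act 9 n11709 = n9171 := d41_2 (iv F43073) D11709 (iv D9171)
def n11710 : Q := act 3 n9170
theorem D11710 : act 3 n9170 = n11710 := rfl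
theorem F54235 : act 1 n11710 = n9183 := d10_1 D11710 (iv D9183) (iv F43074)
theorem F54236 : act 4 n11710 = n9776 := d24_2 D9170 D11710 (iv D9776) (iv D7698) (iv F34514)
theorem F54237 : act 5 n11710 = n11710 := d25_2 F43076 D11710 (iv D11710)
theorem F54238 : act 7 n11710 = n9545 := d27_2 (iv F43077) D11710 (iv D9545)
theorem F54239 : act 8 n11710 = n9174 := d28_2 (iv F43078) D11710 (iv D9174)
def n11711 : Q := act 6 n9170
theorem D11711 : act 6 n9170 = n11711 := rfl
theorem F54240 : act 1 n11711 = n9184 := d13_1 D11711 (iv D9184) (iv F43074)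
theorem F54241 : act 2 n11711 = n11711 := d20_1 D11711 (iv D11711) F43075
theorem F54242 : act 4 n11711 = n9171 := d31_1 D11711 (iv D9171) D9170
theorem F54243 : act 8 n11711 = n9175 := d40_2 (iv F43078) D11711 (iv D9175)
def n11712 : Q := act 7 n9171
theorem D11712 : act 7 n9171 = n11712 := rfl
theorem F54244 : act 1 n11712 = n9185 := d14_1 D11712 (iv D9185) (iv F43079)
theorem F54245 : act 2 n11712 = n11712 := d21_1 D11712 (iv D11712) F43080
theorem F54246 : act 3 n11712 = n9778 := d27_1 D11712 (iv D9778) (iv F43081)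
theorem F54247 : act 5 n11712 = n11712 := d36_1 D11712 (iv D11712) F43082
theorem F54248 : act 6 n11712 = n9547 := d39_1 D11712 (iv D9547) (iv D7529) (iv F34515) D9171
theorem F54249 : act 8 n11712 = n9176 := d42_2 (iv F43083) D11712 (iv D9176)
def n11713 : Q := act 3 n9172
theorem D11713 : act 3 n9172 = n11713 := rfl
theorem F54250 : act 1 n11713 = n9186 := d10_1 D11713 (iv D9186) (iv F43084)
theorem F54251 : act 4 n11713 = n9773 := d24_2 D9172 D11713 (iv D9773) (iv D7696) (iv F34519)
theorem F54252 : act 5 n11713 = n9358 := d25_2 (iv F43086) D11713 (iv D9358)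
theorem F54253 : act 7 n11713 = n9174 := d27_2 (iv F43087) D11713 (iv D9174)
theorem F54254 : act 8 n11713 = n9545 := d28_2 (iv F43088) D11713 (iv D9545)
def n11714 : Q := act 6 n9172
theorem D11714 : act 6 n9172 = n11714 := rfl
theorem F54255 : act 1 n11714 = n9187 := d13_1 D11714 (iv D9187) (iv F43084)
theorem F54256 : act 2 n11714 = n11714 := d20_1 D11714 (iv D11714) F43085
theorem F54257 : act 4 n11714 = n9173 := d31_1 D11714 (iv D9173) D9172
theorem F54258 : act 8 n11714 = n9546 := d40_2 (iv F43088) D11714 (iv D9546)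
def n11715 : Q := act 7 n9173
theorem D11715 : act 7 n9173 = n11715 := rfl
theorem F54259 : act 1 n11715 = n9188 := d14_1 D11715 (iv D9188) (iv F43089)
theorem F54260 : act 2 n11715 = n11715 := d21_1 D11715 (iv D11715) F43090
theorem F54261 : act 3 n11715 = n9775 := d27_1 D11715 (iv D9775) (iv F43091)
theorem F54262 : act 5 n11715 = n11715 := d36_1 D11715 (iv D11715) F43092
theorem F54263 : act 6 n11715 = n9176 := d39_1 D11715 (iv D9176) (iv D7246) (iv F34520) D9173
theorem F54264 : act 8 n11715 = n9547 := d42_2 (iv F43093) D11715 (iv D9547)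
def n11716 : Q := act 2 n9174
theorem D11716 : act 2 n9174 = n11716 := rfl
theorem F54265 : act 3 n11716 = n11716 := d17_2 D9174 D11716 (iv D11716) (iv D9174) F34523
theorem F54266 : act 5 n11716 = n9361 := d19_2 (iv F43095) D11716 (iv D9361)
def n11717 : Q := act 6 n9174
theorem D11717 : act 6 n9174 = n11717 := rfl
theorem F54267 : act 1 n11717 = n9190 := d13_1 D11717 (iv D9190) (iv F43094)
theorem F54268 : act 3 n11717 = n9175 := d26_1 D11717 (iv D9175) D9174
def n11718 : Q := act 5 n9175
theorem D11718 : act 5 n9175 = n11718 := rfl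
theorem F54269 : act 1 n11718 = n9191 := d12_1 D11718 (iv D9191) (iv F43096)
theorem F54270 : act 2 n11718 = n11718 := d19_1 D11718 (iv D11718) F43097
theorem F54271 : act 4 n11718 = n9179 := d30_1 D11718 (iv D9179) F34534 (iv F34527) (iv F43098)
theorem F54272 : act 6 n11718 = n9363 := d35_2 D9175 D11718 (iv D9363) (iv D7386) (iv F34524)
def n11719 : Q := act 7 n9175
theorem D11719 : act 7 n9175 = n11719 := rfl
theorem F54273 : act 1 n11719 = n9192 := d14_1 D11719 (iv D9192) (iv F43096)
theorem F54274 : act 2 n11719 = n11719 := d21_1 D11719 (iv D11719) F43097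
theorem F54275 : act 4 n11719 = n9176 := d32_1 D11719 (iv D9176) (iv F43098)
def n11720 : Q := act 6 n9177
theorem D11720 : act 6 n9177 = n11720 := rfl
theorem F54276 : act 1 n11720 = n11720 := d13_1 D11720 (iv D11720) F43102
theorem F54277 : act 2 n11720 = n9178 := d20_1 D11720 (iv D9178) D9177
theorem F54278 : act 3 n11720 = n11720 := d26_1 D11720 (iv D11720) F43103
theorem F54279 : act 8 n11720 = n11720 := d40_2 F43106 D11720 (iv D11720)
def n11721 : Q := act 5 n9178
theorem D11721 : act 5 n9178 = n11721 := rfl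
theorem F54280 : act 1 n11721 = n9193 := d12_1 D11721 (iv D9193) (iv F43107)
theorem F54281 : act 3 n11721 = n9179 := d25_1 D11721 (iv D9179) (iv F43108)
theorem F54282 : act 6 n11721 = n9366 := d35_2 D9178 D11721 (iv D9366) (iv D7389) (iv F34529)
def n11722 : Q := act 7 n9178
theorem D11722 : act 7 n9178 = n11722 := rfl
theorem F54283 : act 1 n11722 = n9194 := d14_1 D11722 (iv D9194) (iv F43107)
theorem F54284 : act 3 n11722 = n9180 := d27_1 D11722 (iv D9180) (iv F43108)
theorem F54285 : act 6 n11722 = n11722 := d39_1 D11722 (iv D11722) (iv D9178) F34530 D9178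
theorem F54286 : act 8 n11722 = n11722 := d42_2 F43109 D11722 (iv D11722)
def n11723 : Q := act 7 n9179
theorem D11723 : act 7 n9179 = n11723 := rfl
theorem F54287 : act 1 n11723 = n9195 := d14_1 D11723 (iv D9195) (iv F43110)
theorem F54288 : act 2 n11723 = n11723 := d21_1 D11723 (iv D11723) F43111
theorem F54289 : act 5 n11723 = n9180 := d36_1 D11723 (iv D9180) D9179
def n11724 : Q := act 8 n9179
theorem D11724 : act 8 n9179 = n11724 := rfl
theorem F54290 : act 1 n11724 = n9196 := d15_1 D11724 (iv D9196) (iv F43110)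
theorem F54291 : act 2 n11724 = n11724 := d22_1 D11724 (iv D11724) F43111
theorem F54292 : act 5 n11724 = n11724 := d37_1 D11724 (iv D11724) (iv D9179) F34535 D9179
theorem F54293 : act 6 n11724 = n9369 := d40_1 D11724 (iv D9369) (iv F43112)
def n11725 : Q := act 3 n9181
theorem D11725 : act 3 n9181 = n11725 := rfl
theorem F54294 : act 0 n11725 = n9788 := d2_1 D11725 (iv D9788) (iv F43118)
theorem F54295 : act 4 n11725 = n9685 := d24_2 D9181 D11725 (iv D9685) (iv D7633) (iv F34542)
theorem F54296 : act 5 n11725 = n11725 := d25_2 F43120 D11725 (iv D11725)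
theorem F54297 : act 7 n11725 = n9515 := d27_2 (iv F43121) D11725 (iv D9515)
theorem F54298 : act 9 n11725 = n9183 := d29_2 (iv F43122) D11725 (iv D9183)
def n11726 : Q := act 6 n9181
theorem D11726 : act 6 n9181 = n11726 := rfl
theorem F54299 : act 0 n11726 = n9789 := d5_1 D11726 (iv D9789) (iv F43118)
theorem F54300 : act 2 n11726 = n9198 := d20_1 D11726 (iv D9198) (iv F43119)
theorem F54301 : act 4 n11726 = n9182 := d31_1 D11726 (iv D9182) D9181
theorem F54302 : act 9 n11726 = n9184 := d41_2 (iv F43122) D11726 (iv D9184)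
def n11727 : Q := act 7 n9182
theorem D11727 : act 7 n9182 = n11727 := rfl
theorem F54303 : act 0 n11727 = n9790 := d6_1 D11727 (iv D9790) (iv F43123)
theorem F54304 : act 2 n11727 = n9199 := d21_1 D11727 (iv D9199) (iv F43124)
theorem F54305 : act 3 n11727 = n9687 := d27_1 D11727 (iv D9687) (iv F43125)
theorem F54306 : act 5 n11727 = n11727 := d36_1 D11727 (iv D11727) F43126
theorem F54307 : act 6 n11727 = n9517 := d39_1 D11727 (iv D9517) (iv D7506) (iv F34543) D9182
theorem F54308 : act 9 n11727 = n9185 := d43_2 (iv F43127) D11727 (iv D9185)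
def n11728 : Q := act 2 n9183
theorem D11728 : act 2 n9183 = n11728 := rfl
theorem F54309 : act 0 n11728 = n9791 := d1_1 D11728 (iv D9791) (iv F43128)
theorem F54310 : act 3 n11728 = n9200 := d17_2 D9183 D11728 (iv D9200) (iv D7263) (iv F34546)
theorem F54311 : act 4 n11728 = n9795 := d18_2 (iv F43129) D11728 (iv D9795)
theorem F54312 : act 5 n11728 = n11728 := d19_2 F43130 D11728 (iv D11728)
theorem F54313 : act 7 n11728 = n9552 := d21_2 (iv F43131) D11728 (iv D9552)
theorem F54314 : act 8 n11728 = n9189 := d22_2 (iv F43132) D11728 (iv D9189)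
def n11729 : Q := act 6 n9183
theorem D11729 : act 6 n9183 = n11729 := rfl
theorem F54315 : act 0 n11729 = n9792 := d5_1 D11729 (iv D9792) (iv F43128)
theorem F54316 : act 3 n11729 = n9184 := d26_1 D11729 (iv D9184) D9183
theorem F54317 : act 4 n11729 = n9796 := d31_1 D11729 (iv D9796) (iv F43129)
theorem F54318 : act 8 n11729 = n9190 := d40_2 (iv F43132) D11729 (iv D9190)
def n11730 : Q := act 5 n9184
theorem D11730 : act 5 n9184 = n11730 := rfl
theorem F54319 : act 0 n11730 = n9793 := d4_1 D11730 (iv D9793) (iv F43133)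
theorem F54320 : act 2 n11730 = n9202 := d19_1 D11730 (iv D9202) (iv F43134)
theorem F54321 : act 4 n11730 = n11730 := d30_1 D11730 (iv D11730) F43135 F34553 (iv F43135)
theorem F54322 : act 6 n11730 = n11730 := d35_2 D9184 D11730 (iv D11730) (iv D9184) F34547
def n11731 : Q := act 7 n9184
theorem D11731 : act 7 n9184 = n11731 := rfl
theorem F54323 : act 0 n11731 = n9794 := d6_1 D11731 (iv D9794) (iv F43133)
theorem F54324 : act 2 n11731 = n9203 := d21_1 D11731 (iv D9203) (iv F43134)
theorem F54325 : act 4 n11731 = n9185 := d32_1 D11731 (iv D9185) (iv F43135)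
theorem F54326 : act 6 n11731 = n9555 := d39_1 D11731 (iv D9555) (iv D7534) (iv F34548) D9184
theorem F54327 : act 8 n11731 = n9192 := d42_2 (iv F43136) D11731 (iv D9192)
def n11732 : Q := act 2 n9186
theorem D11732 : act 2 n9186 = n11732 := rfl
theorem F54328 : act 0 n11732 = n9795 := d1_1 D11732 (iv D9795) (iv F43143)
theorem F54329 : act 3 n11732 = n9204 := d17_2 D9186 D11732 (iv D9204) (iv D7266) (iv F34556)
theorem F54330 : act 4 n11732 = n9791 := d18_2 (iv F43144) D11732 (iv D9791)
theorem F54331 : act 5 n11732 = n9370 := d19_2 (iv F43145) D11732 (iv D9370)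
theorem F54332 : act 7 n11732 = n9189 := d21_2 (iv F43146) D11732 (iv D9189)
theorem F54333 : act 8 n11732 = n9552 := d22_2 (iv F43147) D11732 (iv D9552)
def n11733 : Q := act 6 n9186
theorem D11733 : act 6 n9186 = n11733 := rfl
theorem F54334 : act 0 n11733 = n9796 := d5_1 D11733 (iv D9796) (iv F43143)
theorem F54335 : act 3 n11733 = n9187 := d26_1 D11733 (iv D9187) D9186
theorem F54336 : act 4 n11733 = n9792 := d31_1 D11733 (iv D9792) (iv F43144)
theorem F54337 : act 8 n11733 = n9553 := d40_2 (iv F43147) D11733 (iv D9553)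
def n11734 : Q := act 5 n9187
theorem D11734 : act 5 n9187 = n11734 := rfl
theorem F54338 : act 0 n11734 = n9797 := d4_1 D11734 (iv D9797) (iv F43148)
theorem F54339 : act 2 n11734 = n9206 := d19_1 D11734 (iv D9206) (iv F43149)
theorem F54340 : act 4 n11734 = n11734 := d30_1 D11734 (iv D11734) F43150 F34563 (iv F43150)
theorem F54341 : act 6 n11734 = n9372 := d35_2 D9187 D11734 (iv D9372) (iv D7393) (iv F34557)
def n11735 : Q := act 7 n9187
theorem D11735 : act 7 n9187 = n11735 := rfl
theorem F54342 : act 0 n11735 = n9798 := d6_1 D11735 (iv D9798) (iv F43148)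
theorem F54343 : act 2 n11735 = n9207 := d21_1 D11735 (iv D9207) (iv F43149)
theorem F54344 : act 4 n11735 = n9188 := d32_1 D11735 (iv D9188) (iv F43150)
theorem F54345 : act 6 n11735 = n9192 := d39_1 D11735 (iv D9192) (iv D7256) (iv F34558) D9187
theorem F54346 : act 8 n11735 = n9555 := d42_2 (iv F43151) D11735 (iv D9555)
def n11736 : Q := act 1 n9189
theorem D11736 : act 1 n9189 = n11736 := rfl
theorem F54347 : act 3 n11736 = n9208 := d10_2 (iv F43159) D11736 (iv D9208)
theorem F54348 : act 5 n11736 = n9374 := d12_2 (iv F43160) D11736 (iv D9374)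
def n11737 : Q := act 6 n9189
theorem D11737 : act 6 n9189 = n11737 := rfl
theorem F54349 : act 0 n11737 = n9800 := d5_1 D11737 (iv D9800) (iv F43158)
theorem F54350 : act 2 n11737 = n9190 := d20_1 D11737 (iv D9190) D9189
theorem F54351 : act 3 n11737 = n9209 := d26_1 D11737 (iv D9209) (iv F43159)
def n11738 : Q := act 5 n9190
theorem D11738 : act 5 n9190 = n11738 := rfl
theorem F54352 : act 0 n11738 = n9801 := d4_1 D11738 (iv D9801) (iv F43161)
theorem F54353 : act 3 n11738 = n9191 := d25_1 D11738 (iv D9191) (iv F43162)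
theorem F54354 : act 6 n11738 = n9376 := d35_2 D9190 D11738 (iv D9376) (iv D7396) (iv F34566)
def n11739 : Q := act 7 n9190
theorem D11739 : act 7 n9190 = n11739 := rfl
theorem F54355 : act 0 n11739 = n9802 := d6_1 D11739 (iv D9802) (iv F43161)
theorem F54356 : act 3 n11739 = n9192 := d27_1 D11739 (iv D9192) (iv F43162)
def n11740 : Q := act 7 n9191
theorem D11740 : act 7 n9191 = n11740 := rfl
theorem F54357 : act 0 n11740 = n9803 := d6_1 D11740 (iv D9803) (iv F43163)
theorem F54358 : act 2 n11740 = n9212 := d21_1 D11740 (iv D9212) (iv F43164)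
theorem F54359 : act 4 n11740 = n9195 := d32_1 D11740 (iv D9195) (iv F43165)
theorem F54360 : act 5 n11740 = n9192 := d36_1 D11740 (iv D9192) D9191
def n11741 : Q := act 8 n9191
theorem D11741 : act 8 n9191 = n11741 := rfl
theorem F54361 : act 0 n11741 = n9804 := d7_1 D11741 (iv D9804) (iv F43163)
theorem F54362 : act 2 n11741 = n9213 := d22_1 D11741 (iv D9213) (iv F43164)
theorem F54363 : act 4 n11741 = n9196 := d33_1 D11741 (iv D9196) (iv F43165)
theorem F54364 : act 6 n11741 = n9379 := d40_1 D11741 (iv D9379) (iv F43166)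
def n11742 : Q := act 4 n9193
theorem D11742 : act 4 n9193 = n11742 := rfl
theorem F54365 : act 0 n11742 = n9805 := d3_1 D11742 (iv D9805) (iv F43170)
theorem F54366 : act 2 n11742 = n11742 := d18_1 D11742 (iv D11742) F43171
theorem F54367 : act 6 n11742 = n9380 := d31_2 (iv F43173) D11742 (iv D9380)
def n11743 : Q := act 7 n9193
theorem D11743 : act 7 n9193 = n11743 := rfl
theorem F54368 : act 0 n11743 = n9806 := d6_1 D11743 (iv D9806) (iv F43170)
theorem F54369 : act 2 n11743 = n11743 := d21_1 D11743 (iv D11743) F43171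
theorem F54370 : act 3 n11743 = n9195 := d27_1 D11743 (iv D9195) (iv F43172)
theorem F54371 : act 5 n11743 = n9194 := d36_1 D11743 (iv D9194) D9193
def n11744 : Q := act 8 n9193
theorem D11744 : act 8 n9193 = n11744 := rfl
theorem F54372 : act 0 n11744 = n9807 := d7_1 D11744 (iv D9807) (iv F43170)
theorem F54373 : act 2 n11744 = n11744 := d22_1 D11744 (iv D11744) F43171
theorem F54374 : act 3 n11744 = n9196 := d28_1 D11744 (iv D9196) (iv F43172)
theorem F54375 : act 5 n11744 = n11744 := d37_1 D11744 (iv D11744) (iv D9193) F34576 D9193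
theorem F54376 : act 6 n11744 = n9382 := d40_1 D11744 (iv D9382) (iv F43173)
def n11745 : Q := act 6 n9195
theorem D11745 : act 6 n9195 = n11745 := rfl
theorem F54377 : act 0 n11745 = n9808 := d5_1 D11745 (iv D9808) (iv F43179)
theorem F54378 : act 2 n11745 = n9214 := d20_1 D11745 (iv D9214) (iv F43180)
theorem F54379 : act 5 n11745 = n11745 := d35_1 D11745 (iv D11745) F43181 F34583 (iv F43181)
theorem F54380 : act 7 n11745 = n9383 := d39_2 D9195 D11745 (iv D9383) (iv D7401) (iv F34579)
def n11746 : Q := act 8 n9195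
theorem D11746 : act 8 n9195 = n11746 := rfl
theorem F54381 : act 0 n11746 = n9809 := d7_1 D11746 (iv D9809) (iv F43179)
theorem F54382 : act 2 n11746 = n9215 := d22_1 D11746 (iv D9215) (iv F43180)
theorem F54383 : act 5 n11746 = n11746 := d37_1 D11746 (iv D11746) F43181 F34584 (iv F43181)
theorem F54384 : act 7 n11746 = n9196 := d42_1 D11746 (iv D9196) D9195
def n11747 : Q := act 9 n9196
theorem D11747 : act 9 n9196 = n11747 := rfl
theorem F54385 : act 0 n11747 = n9810 := d8_1 D11747 (iv D9810) (iv F43182)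
theorem F54386 : act 2 n11747 = n9216 := d23_1 D11747 (iv D9216) (iv F43183)
theorem F54387 : act 5 n11747 = n11747 := d38_1 D11747 (iv D11747) F43184
theorem F54388 : act 6 n11747 = n9385 := d41_1 D11747 (iv D9385) (iv F43185)
def n11748 : Q := act 2 n9197
theorem D11748 : act 2 n9197 = n11748 := rfl
theorem F54389 : act 0 n11748 = n9811 := d1_1 D11748 (iv D9811) (iv F43186)
theorem F54390 : act 4 n11748 = n9217 := d18_2 (iv F43188) D11748 (iv D9217)
theorem F54391 : act 5 n11748 = n11748 := d19_2 F43189 D11748 (iv D11748)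
theorem F54392 : act 7 n11748 = n9526 := d21_2 (iv F43190) D11748 (iv D9526)
theorem F54393 : act 9 n11748 = n9200 := d23_2 (iv F43191) D11748 (iv D9200)
def n11749 : Q := act 6 n9197
theorem D11749 : act 6 n9197 = n11749 := rfl
theorem F54394 : act 0 n11749 = n9812 := d5_1 D11749 (iv D9812) (iv F43186)
theorem F54395 : act 1 n11749 = n11749 := d13_1 D11749 (iv D11749) F43187
theorem F54396 : act 3 n11749 = n9198 := d26_1 D11749 (iv D9198) D9197
theorem F54397 : act 4 n11749 = n9218 := d31_1 D11749 (iv D9218) (iv F43188)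
theorem F54398 : act 9 n11749 = n9201 := d41_2 (iv F43191) D11749 (iv D9201)
def n11750 : Q := act 5 n9198
theorem D11750 : act 5 n9198 = n11750 := rfl
theorem F54399 : act 0 n11750 = n9813 := d4_1 D11750 (iv D9813) (iv F43192)
theorem F54400 : act 1 n11750 = n11750 := d12_1 D11750 (iv D11750) F43193
theorem F54401 : act 4 n11750 = n11750 := d30_1 D11750 (iv D11750) F43194 F34593 (iv F43194)
theorem F54402 : act 6 n11750 = n11750 := d35_2 D9198 D11750 (iv D11750) (iv D9198) F34587
theorem F54403 : act 9 n11750 = n9202 := d38_2 (iv F43195) D11750 (iv D9202)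
def n11751 : Q := act 7 n9198
theorem D11751 : act 7 n9198 = n11751 := rfl
theorem F54404 : act 0 n11751 = n9814 := d6_1 D11751 (iv D9814) (iv F43192)
theorem F54405 : act 1 n11751 = n11751 := d14_1 D11751 (iv D11751) F43193
theorem F54406 : act 4 n11751 = n9199 := d32_1 D11751 (iv D9199) (iv F43194)
theorem F54407 : act 6 n11751 = n9529 := d39_1 D11751 (iv D9529) (iv D7514) (iv F34588) D9198
theorem F54408 : act 9 n11751 = n9203 := d43_2 (iv F43195) D11751 (iv D9203)
def n11752 : Q := act 1 n9200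
theorem D11752 : act 1 n9200 = n11752 := rfl
theorem F54410 : act 4 n11752 = n9221 := d11_2 (iv F43203) D11752 (iv D9221)
theorem F54413 : act 8 n11752 = n9208 := d15_2 (iv F43206) D11752 (iv D9208)
def n11753 : Q := act 6 n9200
theorem D11753 : act 6 n9200 = n11753 := rfl
theorem F54414 : act 0 n11753 = n9816 := d5_1 D11753 (iv D9816) (iv F43202)
theorem F54415 : act 2 n11753 = n9201 := d20_1 D11753 (iv D9201) D9200
theorem F54416 : act 4 n11753 = n9222 := d31_1 D11753 (iv D9222) (iv F43203)
theorem F54417 : act 8 n11753 = n9209 := d40_2 (iv F43206) D11753 (iv D9209)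
def n11754 : Q := act 5 n9201
theorem D11754 : act 5 n9201 = n11754 := rfl
theorem F54418 : act 0 n11754 = n9817 := d4_1 D11754 (iv D9817) (iv F43207)
theorem F54419 : act 1 n11754 = n11754 := d12_1 D11754 (iv D11754) F43208
theorem F54420 : act 3 n11754 = n9202 := d25_1 D11754 (iv D9202) (iv F43209)
theorem F54421 : act 6 n11754 = n11754 := d35_2 D9201 D11754 (iv D11754) (iv D9201) F34598
def n11755 : Q := act 7 n9201
theorem D11755 : act 7 n9201 = n11755 := rfl
theorem F54422 : act 0 n11755 = n9818 := d6_1 D11755 (iv D9818) (iv F43207)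
theorem F54423 : act 1 n11755 = n11755 := d14_1 D11755 (iv D11755) F43208
theorem F54424 : act 3 n11755 = n9203 := d27_1 D11755 (iv D9203) (iv F43209)
theorem F54425 : act 4 n11755 = n9224 := d32_1 D11755 (iv D9224) (iv F43210)
theorem F54426 : act 6 n11755 = n9563 := d39_1 D11755 (iv D9563) (iv D7540) (iv F34599) D9201
theorem F54427 : act 8 n11755 = n9211 := d42_2 (iv F43211) D11755 (iv D9211)
def n11756 : Q := act 7 n9202
theorem D11756 : act 7 n9202 = n11756 := rfl
theorem F54428 : act 0 n11756 = n9819 := d6_1 D11756 (iv D9819) (iv F43212)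
theorem F54429 : act 1 n11756 = n11756 := d14_1 D11756 (iv D11756) F43213
theorem F54430 : act 4 n11756 = n11756 := d32_1 D11756 (iv D11756) F43214
theorem F54431 : act 5 n11756 = n9203 := d36_1 D11756 (iv D9203) D9202
def n11757 : Q := act 8 n9202
theorem D11757 : act 8 n9202 = n11757 := rfl
theorem F54432 : act 0 n11757 = n9820 := d7_1 D11757 (iv D9820) (iv F43212)
theorem F54433 : act 1 n11757 = n11757 := d15_1 D11757 (iv D11757) F43213
theorem F54434 : act 4 n11757 = n11757 := d33_1 D11757 (iv D11757) F43214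
theorem F54435 : act 5 n11757 = n9213 := d37_1 D11757 (iv D9213) (iv D7271) (iv F34604) D9202
theorem F54436 : act 6 n11757 = n11757 := d40_1 D11757 (iv D11757) F43215
def n11758 : Q := act 1 n9204
theorem D11758 : act 1 n9204 = n11758 := rfl
theorem F54437 : act 2 n11758 = n11758 := d9_2 D9204 D11758 (iv D11758) (iv D9204) F34612
theorem F54438 : act 4 n11758 = n9226 := d11_2 (iv F43222) D11758 (iv D9226)
theorem F54439 : act 5 n11758 = n9386 := d12_2 (iv F43223) D11758 (iv D9386)
theorem F54440 : act 7 n11758 = n9208 := d14_2 (iv F43224) D11758 (iv D9208)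
theorem F54441 : act 8 n11758 = n9560 := d15_2 (iv F43225) D11758 (iv D9560)
def n11759 : Q := act 6 n9204
theorem D11759 : act 6 n9204 = n11759 := rfl
theorem F54442 : act 0 n11759 = n9822 := d5_1 D11759 (iv D9822) (iv F43221)
theorem F54443 : act 2 n11759 = n9205 := d20_1 D11759 (iv D9205) D9204
theorem F54444 : act 4 n11759 = n9227 := d31_1 D11759 (iv D9227) (iv F43222)
theorem F54445 : act 8 n11759 = n9561 := d40_2 (iv F43225) D11759 (iv D9561)
def n11760 : Q := act 5 n9205
theorem D11760 : act 5 n9205 = n11760 := rfl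
theorem F54449 : act 6 n11760 = n9388 := d35_2 D9205 D11760 (iv D9388) (iv D7404) (iv F34614)
def n11761 : Q := act 7 n9205
theorem D11761 : act 7 n9205 = n11761 := rfl
theorem F54450 : act 0 n11761 = n9824 := d6_1 D11761 (iv D9824) (iv F43226)
theorem F54451 : act 1 n11761 = n11761 := d14_1 D11761 (iv D11761) F43227
theorem F54452 : act 3 n11761 = n9207 := d27_1 D11761 (iv D9207) (iv F43228)
theorem F54453 : act 4 n11761 = n9229 := d32_1 D11761 (iv D9229) (iv F43229)
theorem F54454 : act 6 n11761 = n9211 := d39_1 D11761 (iv D9211) (iv D7270) (iv F34615) D9205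
theorem F54455 : act 8 n11761 = n9563 := d42_2 (iv F43230) D11761 (iv D9563)
def n11762 : Q := act 7 n9206
theorem D11762 : act 7 n9206 = n11762 := rfl
theorem F54456 : act 0 n11762 = n9825 := d6_1 D11762 (iv D9825) (iv F43231)
theorem F54457 : act 1 n11762 = n11762 := d14_1 D11762 (iv D11762) F43232
theorem F54458 : act 4 n11762 = n11762 := d32_1 D11762 (iv D11762) F43233
theorem F54459 : act 5 n11762 = n9207 := d36_1 D11762 (iv D9207) D9206
def n11763 : Q := act 8 n9206
theorem D11763 : act 8 n9206 = n11763 := rfl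
theorem F54460 : act 0 n11763 = n9826 := d7_1 D11763 (iv D9826) (iv F43231)
theorem F54461 : act 1 n11763 = n11763 := d15_1 D11763 (iv D11763) F43232
theorem F54462 : act 4 n11763 = n11763 := d33_1 D11763 (iv D11763) F43233
theorem F54463 : act 5 n11763 = n9565 := d37_1 D11763 (iv D9565) (iv D7541) (iv F34620) D9206
theorem F54464 : act 6 n11763 = n9391 := d40_1 D11763 (iv D9391) (iv F43234)
def n11764 : Q := act 0 n9208
theorem D11764 : act 0 n9208 = n11764 := rfl
theorem F54465 : act 1 n11764 = n9827 := d0_2 D9208 D11764 (iv D9827) (iv D7734) (iv F34627)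
theorem F54466 : act 2 n11764 = n11764 := d1_2 F43240 D11764 (iv D11764)
theorem F54467 : act 4 n11764 = n9231 := d3_2 (iv F43241) D11764 (iv D9231)
def n11765 : Q := act 6 n9208
theorem D11765 : act 6 n9208 = n11765 := rfl
theorem F54469 : act 1 n11765 = n9209 := d13_1 D11765 (iv D9209) D9208
theorem F54470 : act 2 n11765 = n11765 := d20_1 D11765 (iv D11765) F43240
theorem F54471 : act 4 n11765 = n9232 := d31_1 D11765 (iv D9232) (iv F43241)
def n11766 : Q := act 5 n9209
theorem D11766 : act 5 n9209 = n11766 := rfl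
theorem F54472 : act 0 n11766 = n9829 := d4_1 D11766 (iv D9829) (iv F43243)
theorem F54473 : act 2 n11766 = n9210 := d19_1 D11766 (iv D9210) (iv F43244)
theorem F54474 : act 4 n11766 = n11766 := d30_1 D11766 (iv D11766) F43245 F34712 (iv F43245)
theorem F54475 : act 6 n11766 = n9394 := d35_2 D9209 D11766 (iv D9394) (iv D7408) (iv F34629)
def n11767 : Q := act 7 n9209
theorem D11767 : act 7 n9209 = n11767 := rfl
theorem F54476 : act 0 n11767 = n9830 := d6_1 D11767 (iv D9830) (iv F43243)
theorem F54477 : act 2 n11767 = n9211 := d21_1 D11767 (iv D9211) (iv F43244)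
theorem F54478 : act 4 n11767 = n9233 := d32_1 D11767 (iv D9233) (iv F43245)
def n11768 : Q := act 7 n9210
theorem D11768 : act 7 n9210 = n11768 := rfl
theorem F54479 : act 0 n11768 = n9831 := d6_1 D11768 (iv D9831) (iv F43246)
theorem F54480 : act 1 n11768 = n11768 := d14_1 D11768 (iv D11768) F43247
theorem F54481 : act 3 n11768 = n9212 := d27_1 D11768 (iv D9212) (iv F43248)
theorem F54482 : act 4 n11768 = n11768 := d32_1 D11768 (iv D11768) F43249
theorem F54483 : act 5 n11768 = n9211 := d36_1 D11768 (iv D9211) D9210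
def n11769 : Q := act 8 n9210
theorem D11769 : act 8 n9210 = n11769 := rfl
theorem F54484 : act 0 n11769 = n9832 := d7_1 D11769 (iv D9832) (iv F43246)
theorem F54485 : act 1 n11769 = n11769 := d15_1 D11769 (iv D11769) F43247
theorem F54486 : act 3 n11769 = n9213 := d28_1 D11769 (iv D9213) (iv F43248)
theorem F54487 : act 4 n11769 = n11769 := d33_1 D11769 (iv D11769) F43249
theorem F54488 : act 6 n11769 = n9397 := d40_1 D11769 (iv D9397) (iv F43250)
def n11770 : Q := act 6 n9212
theorem D11770 : act 6 n9212 = n11770 := rfl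
theorem F54489 : act 0 n11770 = n9833 := d5_1 D11770 (iv D9833) (iv F43255)
theorem F54490 : act 1 n11770 = n11770 := d13_1 D11770 (iv D11770) F43256
theorem F54491 : act 4 n11770 = n9214 := d31_1 D11770 (iv D9214) (iv F43257)
theorem F54492 : act 7 n11770 = n9398 := d39_2 D9212 D11770 (iv D9398) (iv D7411) (iv F34637)
def n11771 : Q := act 8 n9212
theorem D11771 : act 8 n9212 = n11771 := rfl
theorem F54493 : act 0 n11771 = n9834 := d7_1 D11771 (iv D9834) (iv F43255)
theorem F54494 : act 1 n11771 = n11771 := d15_1 D11771 (iv D11771) F43256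
theorem F54495 : act 4 n11771 = n9215 := d33_1 D11771 (iv D9215) (iv F43257)
theorem F54496 : act 7 n11771 = n9213 := d42_1 D11771 (iv D9213) D9212
def n11772 : Q := act 9 n9213
theorem D11772 : act 9 n9213 = n11772 := rfl
theorem F54497 : act 0 n11772 = n9835 := d8_1 D11772 (iv D9835) (iv F43259)
theorem F54498 : act 1 n11772 = n11772 := d16_1 D11772 (iv D11772) F43260
theorem F54499 : act 4 n11772 = n9216 := d34_1 D11772 (iv D9216) (iv F43261)
theorem F54500 : act 6 n11772 = n9400 := d41_1 D11772 (iv D9400) (iv F43262)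
def n11773 : Q := act 8 n9214
theorem D11773 : act 8 n9214 = n11773 := rfl
theorem F54501 : act 0 n11773 = n9836 := d7_1 D11773 (iv D9836) (iv F43263)
theorem F54502 : act 1 n11773 = n11773 := d15_1 D11773 (iv D11773) F43264
theorem F54503 : act 3 n11773 = n11773 := d28_1 D11773 (iv D11773) F43265
theorem F54504 : act 6 n11773 = n9215 := d40_1 D11773 (iv D9215) D9214
theorem F54505 : act 7 n11773 = n9401 := d42_1 D11773 (iv D9401) (iv F43267)
def n11774 : Q := act 9 n9215
theorem D11774 : act 9 n9215 = n11774 := rfl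
theorem F54506 : act 0 n11774 = n9837 := d8_1 D11774 (iv D9837) (iv F43268)
theorem F54507 : act 1 n11774 = n11774 := d16_1 D11774 (iv D11774) F43269
theorem F54508 : act 3 n11774 = n11774 := d29_1 D11774 (iv D11774) F43270
theorem F54509 : act 5 n11774 = n11774 := d38_1 D11774 (iv D11774) F43271
theorem F54510 : act 7 n11774 = n9216 := d43_1 D11774 (iv D9216) (iv F43272)
def n11775 : Q := act 1 n9217
theorem D11775 : act 1 n9217 = n11775 := rfl
theorem F54512 : act 3 n11775 = n9745 := d10_2 (iv F43279) D11775 (iv D9745)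
theorem F54513 : act 5 n11775 = n9238 := d12_2 (iv F43280) D11775 (iv D9238)
theorem F54514 : act 7 n11775 = n9536 := d14_2 (iv F43281) D11775 (iv D9536)
theorem F54515 : act 9 n11775 = n9221 := d16_2 (iv F43282) D11775 (iv D9221)
def n11776 : Q := act 6 n9217
theorem D11776 : act 6 n9217 = n11776 := rfl
theorem F54516 : act 0 n11776 = n9839 := d5_1 D11776 (iv D9839) (iv F43278)
theorem F54517 : act 2 n11776 = n9218 := d20_1 D11776 (iv D9218) D9217
theorem F54519 : act 9 n11776 = n9222 := d41_2 (iv F43282) D11776 (iv D9222)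
def n11777 : Q := act 5 n9218
theorem D11777 : act 5 n9218 = n11777 := rfl
theorem F54520 : act 0 n11777 = n9840 := d4_1 D11777 (iv D9840) (iv F43283)
theorem F54521 : act 1 n11777 = n11777 := d12_1 D11777 (iv D11777) F43284
theorem F54522 : act 3 n11777 = n9219 := d25_1 D11777 (iv D9219) (iv F43285)
theorem F54523 : act 6 n11777 = n9240 := d35_2 D9218 D11777 (iv D9240) (iv D7294) (iv F34652)
theorem F54524 : act 9 n11777 = n9223 := d38_2 (iv F43286) D11777 (iv D9223)
def n11778 : Q := act 7 n9218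
theorem D11778 : act 7 n9218 = n11778 := rfl
theorem F54525 : act 0 n11778 = n9841 := d6_1 D11778 (iv D9841) (iv F43283)
theorem F54526 : act 1 n11778 = n11778 := d14_1 D11778 (iv D11778) F43284
theorem F54527 : act 3 n11778 = n9220 := d27_1 D11778 (iv D9220) (iv F43285)
theorem F54528 : act 6 n11778 = n9538 := d39_1 D11778 (iv D9538) (iv D7522) (iv F34653) D9218
theorem F54529 : act 9 n11778 = n9224 := d43_2 (iv F43286) D11778 (iv D9224)
def n11779 : Q := act 7 n9219
theorem D11779 : act 7 n9219 = n11779 := rfl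
theorem F54530 : act 0 n11779 = n9842 := d6_1 D11779 (iv D9842) (iv F43287)
theorem F54531 : act 1 n11779 = n11779 := d14_1 D11779 (iv D11779) F43288
theorem F54532 : act 2 n11779 = n9749 := d21_1 D11779 (iv D9749) (iv F43289)
theorem F54533 : act 4 n11779 = n11779 := d32_1 D11779 (iv D11779) F43290
theorem F54534 : act 5 n11779 = n9220 := d36_1 D11779 (iv D9220) D9219
theorem F54535 : act 6 n11779 = n11779 := d39_1 D11779 (iv D11779) F43291 F34755 (iv F43291)
theorem F54536 : act 9 n11779 = n9225 := d43_2 (iv F43292) D11779 (iv D9225)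
def n11780 : Q := act 8 n9219
theorem D11780 : act 8 n9219 = n11780 := rfl
theorem F54537 : act 0 n11780 = n9843 := d7_1 D11780 (iv D9843) (iv F43287)
theorem F54538 : act 1 n11780 = n11780 := d15_1 D11780 (iv D11780) F43288
theorem F54539 : act 2 n11780 = n9750 := d22_1 D11780 (iv D9750) (iv F43289)
theorem F54540 : act 4 n11780 = n11780 := d33_1 D11780 (iv D11780) F43290
theorem F54541 : act 6 n11780 = n9241 := d40_1 D11780 (iv D9241) (iv F43291)
theorem F54542 : act 9 n11780 = n11780 := d44_2 (iv F43292) D11780 (iv D11780) F43292 F34680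
def n11781 : Q := act 0 n9221
theorem D11781 : act 0 n9221 = n11781 := rfl
theorem F54546 : act 5 n11781 = n9242 := d4_2 (iv F43301) D11781 (iv D9242)
theorem F54547 : act 7 n11781 = n9569 := d6_2 (iv F43302) D11781 (iv D9569)
theorem F54548 : act 8 n11781 = n9231 := d7_2 (iv F43303) D11781 (iv D9231)
def n11782 : Q := act 6 n9221
theorem D11782 : act 6 n9221 = n11782 := rfl
theorem F54552 : act 8 n11782 = n9232 := d40_2 (iv F43303) D11782 (iv D9232)
def n11783 : Q := act 5 n9222
theorem D11783 : act 5 n9222 = n11783 := rfl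
theorem F54554 : act 2 n11783 = n9223 := d19_1 D11783 (iv D9223) (iv F43305)
theorem F54555 : act 3 n11783 = n9852 := d25_1 D11783 (iv D9852) (iv F43306)
def n11784 : Q := act 7 n9222
theorem D11784 : act 7 n9222 = n11784 := rfl
theorem F54558 : act 0 n11784 = n9847 := d6_1 D11784 (iv D9847) (iv F43304)
theorem F54559 : act 2 n11784 = n9224 := d21_1 D11784 (iv D9224) (iv F43305)
theorem F54561 : act 6 n11784 = n9571 := d39_1 D11784 (iv D9571) (iv D7546) (iv F34669) D9222
theorem F54562 : act 8 n11784 = n9233 := d42_2 (iv F43307) D11784 (iv D9233)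
def n11785 : Q := act 4 n9223
theorem D11785 : act 4 n9223 = n11785 := rfl
theorem F54563 : act 0 n11785 = n9848 := d3_1 D11785 (iv D9848) (iv F43308)
theorem F54564 : act 1 n11785 = n11785 := d11_1 D11785 (iv D11785) F43309
theorem F54565 : act 3 n11785 = n11785 := d24_1 D11785 (iv D11785) F43310 F34678 (iv F43310)
theorem F54566 : act 6 n11785 = n9245 := d31_2 (iv F43311) D11785 (iv D9245)
theorem F54567 : act 8 n11785 = n11785 := d33_2 F43312 D11785 (iv D11785)
def n11786 : Q := act 7 n9223
theorem D11786 : act 7 n9223 = n11786 := rfl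
theorem F54568 : act 0 n11786 = n9849 := d6_1 D11786 (iv D9849) (iv F43308)
theorem F54569 : act 1 n11786 = n11786 := d14_1 D11786 (iv D11786) F43309
theorem F54570 : act 3 n11786 = n9225 := d27_1 D11786 (iv D9225) (iv F43310)
theorem F54571 : act 5 n11786 = n9224 := d36_1 D11786 (iv D9224) D9223
theorem F54572 : act 6 n11786 = n11786 := d39_1 D11786 (iv D11786) F43311 F34771 (iv F43311)
theorem F54573 : act 8 n11786 = n11786 := d42_2 F43312 D11786 (iv D11786)
def n11787 : Q := act 0 n9226
theorem D11787 : act 0 n9226 = n11787 := rfl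
theorem F54576 : act 3 n11787 = n9844 := d2_2 (iv F43326) D11787 (iv D9844)
theorem F54577 : act 5 n11787 = n9234 := d4_2 (iv F43327) D11787 (iv D9234)
theorem F54578 : act 7 n11787 = n9231 := d6_2 (iv F43328) D11787 (iv D9231)
theorem F54579 : act 8 n11787 = n9569 := d7_2 (iv F43329) D11787 (iv D9569)
def n11788 : Q := act 6 n9226
theorem D11788 : act 6 n9226 = n11788 := rfl
theorem F54580 : act 1 n11788 = n9227 := d13_1 D11788 (iv D9227) D9226
theorem F54582 : act 3 n11788 = n9845 := d26_1 D11788 (iv D9845) (iv F43326)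
def n11789 : Q := act 5 n9227
theorem D11789 : act 5 n9227 = n11789 := rfl
theorem F54586 : act 3 n11789 = n9846 := d25_1 D11789 (iv D9846) (iv F43332)
theorem F54587 : act 6 n11789 = n9236 := d35_2 D9227 D11789 (iv D9236) (iv D7290) (iv F34689)
def n11790 : Q := act 7 n9227
theorem D11790 : act 7 n9227 = n11790 := rfl
theorem F54590 : act 2 n11790 = n9229 := d21_1 D11790 (iv D9229) (iv F43331)
theorem F54591 : act 3 n11790 = n9847 := d27_1 D11790 (iv D9847) (iv F43332)
theorem F54592 : act 6 n11790 = n9233 := d39_1 D11790 (iv D9233) (iv D7287) (iv F34690) D9227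
theorem F54593 : act 8 n11790 = n9571 := d42_2 (iv F43333) D11790 (iv D9571)
def n11793 : Q := act 6 n9231
theorem D11793 : act 6 n9231 = n11793 := rfl
theorem F54605 : act 0 n11793 = n9232 := d5_1 D11793 (iv D9232) D9231
def n11794 : Q := act 7 n9232
theorem D11794 : act 7 n9232 = n11794 := rfl
theorem F54609 : act 1 n11794 = n9233 := d14_1 D11794 (iv D9233) (iv F43354)
theorem F54610 : act 2 n11794 = n11794 := d21_1 D11794 (iv D11794) F43355
theorem F54611 : act 5 n11794 = n11794 := d36_1 D11794 (iv D11794) F43356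
def n11795 : Q := act 6 n9234
theorem D11795 : act 6 n9234 = n11795 := rfl
theorem F54615 : act 3 n11795 = n9866 := d26_1 D11795 (iv D9866) (iv F43362)
theorem F54616 : act 4 n11795 = n9414 := d31_1 D11795 (iv D9414) (iv F43363)
def n11796 : Q := act 5 n9235
theorem D11796 : act 5 n9235 = n11796 := rfl
theorem F54621 : act 3 n11796 = n9867 := d25_1 D11796 (iv D9867) (iv F43368)
def n11797 : Q := act 4 n9236
theorem D11797 : act 4 n9236 = n11797 := rfl
theorem F54626 : act 5 n11797 = n9416 := d30_2 D9236 D11797 (iv D9416) (iv D7427) (iv F34725)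
def n11798 : Q := act 0 n9238
theorem D11798 : act 0 n9238 = n11798 := rfl
theorem F54631 : act 3 n11798 = n9754 := d2_2 (iv F43384) D11798 (iv D9754)
theorem F54633 : act 7 n11798 = n9539 := d6_2 (iv F43386) D11798 (iv D9539)
def n11799 : Q := act 6 n9238
theorem D11799 : act 6 n9238 = n11799 := rfl
theorem F54636 : act 1 n11799 = n9239 := d13_1 D11799 (iv D9239) D9238
theorem F54638 : act 3 n11799 = n9755 := d26_1 D11799 (iv D9755) (iv F43384)
def n11800 : Q := act 5 n9239
theorem D11800 : act 5 n9239 = n11800 := rfl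
theorem F54644 : act 2 n11800 = n9240 := d19_1 D11800 (iv D9240) (iv F43390)
theorem F54645 : act 3 n11800 = n9756 := d25_1 D11800 (iv D9756) (iv F43391)
def n11801 : Q := act 4 n9240
theorem D11801 : act 4 n9240 = n11801 := rfl
theorem F54648 : act 0 n11801 = n9864 := d3_1 D11801 (iv D9864) (iv F43396)
theorem F54649 : act 1 n11801 = n11801 := d11_1 D11801 (iv D11801) F43397
theorem F54650 : act 3 n11801 = n11801 := d24_1 D11801 (iv D11801) F43398 F34754 (iv F43398)
theorem F54651 : act 5 n11801 = n11801 := d30_2 D9240 D11801 (iv D11801) (iv D9240) F34747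
theorem F54652 : act 7 n11801 = n11801 := d32_2 F43399 D11801 (iv D11801)
theorem F54653 : act 9 n11801 = n9245 := d34_2 (iv F43400) D11801 (iv D9245)
def n11802 : Q := act 8 n9240
theorem D11802 : act 8 n9240 = n11802 := rfl
theorem F54654 : act 0 n11802 = n9865 := d7_1 D11802 (iv D9865) (iv F43396)
theorem F54655 : act 1 n11802 = n11802 := d15_1 D11802 (iv D11802) F43397
theorem F54656 : act 3 n11802 = n9241 := d28_1 D11802 (iv D9241) (iv F43398)
theorem F54657 : act 5 n11802 = n11802 := d37_1 D11802 (iv D11802) (iv D9240) F34749 D9240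
theorem F54658 : act 7 n11802 = n11802 := d42_1 D11802 (iv D11802) F43399
theorem F54659 : act 9 n11802 = n11802 := d44_2 (iv F43400) D11802 (iv D11802) F43400 F34772
def n11803 : Q := act 6 n9242
theorem D11803 : act 6 n9242 = n11803 := rfl
theorem F54663 : act 3 n11803 = n9858 := d26_1 D11803 (iv D9858) (iv F43410)
def n11804 : Q := act 5 n9243
theorem D11804 : act 5 n9243 = n11804 := rfl
theorem F54667 : act 1 n11804 = n9244 := d12_1 D11804 (iv D9244) (iv F43414)
theorem F54669 : act 3 n11804 = n9859 := d25_1 D11804 (iv D9859) (iv F43416)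
def n11805 : Q := act 4 n9244
theorem D11805 : act 4 n9244 = n11805 := rfl
theorem F54673 : act 2 n11805 = n9245 := d18_1 D11805 (iv D9245) (iv F43421)
def n11806 : Q := act 5 n9248
theorem D11806 : act 5 n9248 = n11806 := rfl
theorem F54677 : act 0 n11806 = n9259 := d4_1 D11806 (iv D9259) (iv F43447)
theorem F54678 : act 1 n11806 = n9468 := d12_1 D11806 (iv D9468) (iv F43448)
theorem F54679 : act 2 n11806 = n11806 := d19_1 D11806 (iv D11806) F43449
theorem F54680 : act 3 n11806 = n9580 := d25_1 D11806 (iv D9580) (iv F43450)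
theorem F54681 : act 7 n11806 = n9462 := d36_2 (iv F43453) D11806 (iv D9462)
theorem F54682 : act 9 n11806 = n11806 := d38_2 F43454 D11806 (iv D11806)
def n11807 : Q := act 5 n9249
theorem D11807 : act 5 n9249 = n11807 := rfl
theorem F54683 : act 0 n11807 = n9261 := d4_1 D11807 (iv D9261) (iv F43455)
theorem F54684 : act 1 n11807 = n9447 := d12_1 D11807 (iv D9447) (iv F43456)
theorem F54685 : act 2 n11807 = n11807 := d19_1 D11807 (iv D11807) F43457
theorem F54686 : act 3 n11807 = n11807 := d25_1 D11807 (iv D11807) F43458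
theorem F54687 : act 7 n11807 = n9250 := d36_2 (iv F43461) D11807 (iv D9250)
theorem F54688 : act 8 n11807 = n9251 := d37_2 D9249 D11807 (iv D9251) (iv D7306) (iv F34813)
theorem F54689 : act 9 n11807 = n11807 := d38_2 F43462 D11807 (iv D11807)
def n11808 : Q := act 4 n9250
theorem D11808 : act 4 n9250 = n11808 := rfl
theorem F54690 : act 0 n11808 = n9262 := d3_1 D11808 (iv D9262) (iv F43463)
theorem F54691 : act 1 n11808 = n9869 := d11_1 D11808 (iv D9869) (iv F43464)
theorem F54692 : act 2 n11808 = n11808 := d18_1 D11808 (iv D11808) F43465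
theorem F54693 : act 8 n11808 = n9252 := d33_2 (iv F43467) D11808 (iv D9252)
theorem F54694 : act 9 n11808 = n11808 := d34_2 F43468 D11808 (iv D11808)
def n11809 : Q := act 6 n9250
theorem D11809 : act 6 n9250 = n11809 := rfl
theorem F54695 : act 0 n11809 = n9263 := d5_1 D11809 (iv D9263) (iv F43463)
theorem F54696 : act 1 n11809 = n9870 := d13_1 D11809 (iv D9870) (iv F43464)
theorem F54697 : act 2 n11809 = n11809 := d20_1 D11809 (iv D11809) F43465
theorem F54698 : act 3 n11809 = n11809 := d26_1 D11809 (iv D11809) F43466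
theorem F54699 : act 5 n11809 = n11809 := d35_1 D11809 (iv D11809) (iv D9250) F34820 D9250
theorem F54700 : act 8 n11809 = n9253 := d40_2 (iv F43467) D11809 (iv D9253)
theorem F54701 : act 9 n11809 = n11809 := d41_2 F43468 D11809 (iv D11809)
def n11810 : Q := act 4 n9251
theorem D11810 : act 4 n9251 = n11810 := rfl
theorem F54702 : act 0 n11810 = n9264 := d3_1 D11810 (iv D9264) (iv F43469)
theorem F54703 : act 1 n11810 = n9871 := d11_1 D11810 (iv D9871) (iv F43470)
theorem F54704 : act 2 n11810 = n11810 := d18_1 D11810 (iv D11810) F43471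
theorem F54705 : act 7 n11810 = n9252 := d32_2 (iv F43473) D11810 (iv D9252)
theorem F54706 : act 9 n11810 = n9349 := d34_2 (iv F43474) D11810 (iv D9349)
def n11811 : Q := act 6 n9251
theorem D11811 : act 6 n9251 = n11811 := rfl
theorem F54707 : act 0 n11811 = n9265 := d5_1 D11811 (iv D9265) (iv F43469)
theorem F54708 : act 1 n11811 = n9872 := d13_1 D11811 (iv D9872) (iv F43470)
theorem F54709 : act 2 n11811 = n11811 := d20_1 D11811 (iv D11811) F43471
theorem F54710 : act 3 n11811 = n11811 := d26_1 D11811 (iv D11811) F43472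
theorem F54711 : act 5 n11811 = n11811 := d35_1 D11811 (iv D11811) (iv D9251) F34826 D9251
theorem F54712 : act 9 n11811 = n9350 := d41_2 (iv F43474) D11811 (iv D9350)
def n11812 : Q := act 3 n9252
theorem D11812 : act 3 n9252 = n11812 := rfl
theorem F54713 : act 0 n11812 = n9266 := d2_1 D11812 (iv D9266) (iv F43475)
theorem F54714 : act 1 n11812 = n9873 := d10_1 D11812 (iv D9873) (iv F43476)
theorem F54715 : act 4 n11812 = n11812 := d24_2 D9252 D11812 (iv D11812) (iv D9252) F34832
theorem F54716 : act 9 n11812 = n9351 := d29_2 (iv F43478) D11812 (iv D9351)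
def n11813 : Q := act 6 n9252
theorem D11813 : act 6 n9252 = n11813 := rfl
theorem F54717 : act 0 n11813 = n9267 := d5_1 D11813 (iv D9267) (iv F43475)
theorem F54718 : act 1 n11813 = n9874 := d13_1 D11813 (iv D9874) (iv F43476)
theorem F54719 : act 2 n11813 = n11813 := d20_1 D11813 (iv D11813) F43477
theorem F54720 : act 4 n11813 = n9253 := d31_1 D11813 (iv D9253) D9252
theorem F54721 : act 9 n11813 = n9352 := d41_2 (iv F43478) D11813 (iv D9352)
def n11814 : Q := act 7 n9253
theorem D11814 : act 7 n9253 = n11814 := rfl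
theorem F54722 : act 0 n11814 = n9268 := d6_1 D11814 (iv D9268) (iv F43479)
theorem F54723 : act 1 n11814 = n9875 := d14_1 D11814 (iv D9875) (iv F43480)
def n11815 : Q := act 2 n9254
theorem D11815 : act 2 n9254 = n11815 := rfl
theorem F54728 : act 0 n11815 = n9269 := d1_1 D11815 (iv D9269) (iv F43485)
theorem F54733 : act 9 n11815 = n9354 := d23_2 (iv F43490) D11815 (iv D9354)
def n11816 : Q := act 6 n9254
theorem D11816 : act 6 n9254 = n11816 := rfl
theorem F54734 : act 0 n11816 = n9270 := d5_1 D11816 (iv D9270) (iv F43485)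
theorem F54735 : act 1 n11816 = n9877 := d13_1 D11816 (iv D9877) (iv F43486)
theorem F54739 : act 9 n11816 = n9355 := d41_2 (iv F43490) D11816 (iv D9355)
def n11817 : Q := act 5 n9255
theorem D11817 : act 5 n9255 = n11817 := rfl
theorem F54740 : act 0 n11817 = n9271 := d4_1 D11817 (iv D9271) (iv F43491)
theorem F54741 : act 1 n11817 = n9878 := d12_1 D11817 (iv D9878) (iv F43492)
theorem F54743 : act 9 n11817 = n9356 := d38_2 (iv F43496) D11817 (iv D9356)
def n11818 : Q := act 7 n9255
theorem D11818 : act 7 n9255 = n11818 := rfl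
theorem F54744 : act 0 n11818 = n9272 := d6_1 D11818 (iv D9272) (iv F43491)
theorem F54745 : act 1 n11818 = n9879 := d14_1 D11818 (iv D9879) (iv F43492)
def n11819 : Q := act 5 n9257
theorem D11819 : act 5 n9257 = n11819 := rfl
theorem F54751 : act 0 n11819 = n9580 := d4_1 D11819 (iv D9580) (iv F43504)
theorem F54752 : act 1 n11819 = n9273 := d12_1 D11819 (iv D9273) (iv F43505)
theorem F54753 : act 2 n11819 = n10131 := d19_1 D11819 (iv D10131) (iv F43506)
theorem F54754 : act 3 n11819 = n9259 := d25_1 D11819 (iv D9259) (iv F43507)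
theorem F54755 : act 7 n11819 = n9573 := d36_2 (iv F43510) D11819 (iv D9573)
theorem F54756 : act 9 n11819 = n11819 := d38_2 F43511 D11819 (iv D11819)
def n11820 : Q := act 5 n9258
theorem D11820 : act 5 n9258 = n11820 := rfl
theorem F54757 : act 0 n11820 = n9462 := d4_1 D11820 (iv D9462) (iv F43512)
theorem F54758 : act 1 n11820 = n9274 := d12_1 D11820 (iv D9274) (iv F43513)
theorem F54759 : act 2 n11820 = n11820 := d19_1 D11820 (iv D11820) F43514
theorem F54760 : act 3 n11820 = n9573 := d25_1 D11820 (iv D9573) (iv F43515)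
theorem F54761 : act 7 n11820 = n9259 := d36_2 (iv F43518) D11820 (iv D9259)
theorem F54762 : act 9 n11820 = n11820 := d38_2 F43519 D11820 (iv D11820)
def n11821 : Q := act 4 n9259
theorem D11821 : act 4 n9259 = n11821 := rfl
theorem F54763 : act 1 n11821 = n9275 := d11_1 D11821 (iv D9275) (iv F43520)
theorem F54764 : act 2 n11821 = n11821 := d18_1 D11821 (iv D11821) F43521
theorem F54765 : act 5 n11821 = n9262 := d30_2 D9259 D11821 (iv D9262) (iv D7315) (iv F34862)
theorem F54766 : act 9 n11821 = n11821 := d34_2 F43522 D11821 (iv D11821)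
def n11822 : Q := act 6 n9259
theorem D11822 : act 6 n9259 = n11822 := rfl
theorem F54767 : act 1 n11822 = n9276 := d13_1 D11822 (iv D9276) (iv F43520)
theorem F54768 : act 2 n11822 = n11822 := d20_1 D11822 (iv D11822) F43521
theorem F54769 : act 5 n11822 = n11822 := d35_1 D11822 (iv D11822) (iv D9259) F34863 D9259
theorem F54770 : act 9 n11822 = n11822 := d41_2 F43522 D11822 (iv D11822)
def n11823 : Q := act 5 n9260
theorem D11823 : act 5 n9260 = n11823 := rfl
theorem F54771 : act 0 n11823 = n9446 := d4_1 D11823 (iv D9446) (iv F43523)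
theorem F54772 : act 1 n11823 = n9277 := d12_1 D11823 (iv D9277) (iv F43524)
theorem F54773 : act 2 n11823 = n11823 := d19_1 D11823 (iv D11823) F43525
theorem F54774 : act 3 n11823 = n11823 := d25_1 D11823 (iv D11823) F43526
theorem F54775 : act 7 n11823 = n11823 := d36_2 F43529 D11823 (iv D11823)
theorem F54776 : act 8 n11823 = n11823 := d37_2 D9260 D11823 (iv D11823) (iv D9260) F34870
theorem F54777 : act 9 n11823 = n11823 := d38_2 F43530 D11823 (iv D11823)
def n11824 : Q := act 4 n9261
theorem D11824 : act 4 n9261 = n11824 := rfl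
theorem F54778 : act 1 n11824 = n9278 := d11_1 D11824 (iv D9278) (iv F43531)
theorem F54779 : act 2 n11824 = n11824 := d18_1 D11824 (iv D11824) F43532
theorem F54780 : act 7 n11824 = n9262 := d32_2 (iv F43534) D11824 (iv D9262)
theorem F54781 : act 8 n11824 = n9264 := d33_2 (iv F43535) D11824 (iv D9264)
theorem F54782 : act 9 n11824 = n11824 := d34_2 F43536 D11824 (iv D11824)
def n11825 : Q := act 6 n9261
theorem D11825 : act 6 n9261 = n11825 := rfl
theorem F54783 : act 1 n11825 = n9279 := d13_1 D11825 (iv D9279) (iv F43531)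
theorem F54784 : act 2 n11825 = n11825 := d20_1 D11825 (iv D11825) F43532
theorem F54785 : act 3 n11825 = n11825 := d26_1 D11825 (iv D11825) F43533
theorem F54786 : act 8 n11825 = n9265 := d40_2 (iv F43535) D11825 (iv D9265)
theorem F54787 : act 9 n11825 = n11825 := d41_2 F43536 D11825 (iv D11825)
def n11826 : Q := act 3 n9262
theorem D11826 : act 3 n9262 = n11826 := rfl
theorem F54788 : act 1 n11826 = n9280 := d10_1 D11826 (iv D9280) (iv F43537)
theorem F54789 : act 4 n11826 = n11826 := d24_2 D9262 D11826 (iv D11826) (iv D9262) F34880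
theorem F54790 : act 8 n11826 = n9266 := d28_2 (iv F43539) D11826 (iv D9266)
theorem F54791 : act 9 n11826 = n11826 := d29_2 F43540 D11826 (iv D11826)
def n11827 : Q := act 6 n9262
theorem D11827 : act 6 n9262 = n11827 := rfl
theorem F54792 : act 1 n11827 = n9281 := d13_1 D11827 (iv D9281) (iv F43537)
theorem F54793 : act 2 n11827 = n11827 := d20_1 D11827 (iv D11827) F43538
theorem F54794 : act 4 n11827 = n9263 := d31_1 D11827 (iv D9263) D9262
theorem F54795 : act 8 n11827 = n9267 := d40_2 (iv F43539) D11827 (iv D9267)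
theorem F54796 : act 9 n11827 = n11827 := d41_2 F43540 D11827 (iv D11827)
def n11828 : Q := act 7 n9263
theorem D11828 : act 7 n9263 = n11828 := rfl
theorem F54797 : act 1 n11828 = n9282 := d14_1 D11828 (iv D9282) (iv F43541)
theorem F54798 : act 2 n11828 = n11828 := d21_1 D11828 (iv D11828) F43542
theorem F54799 : act 3 n11828 = n11828 := d27_1 D11828 (iv D11828) F43543
theorem F54800 : act 5 n11828 = n11828 := d36_1 D11828 (iv D11828) F43544
theorem F54801 : act 8 n11828 = n9268 := d42_2 (iv F43545) D11828 (iv D9268)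
theorem F54802 : act 9 n11828 = n11828 := d43_2 F43546 D11828 (iv D11828)
def n11829 : Q := act 3 n9264
theorem D11829 : act 3 n9264 = n11829 := rfl
theorem F54803 : act 1 n11829 = n9283 := d10_1 D11829 (iv D9283) (iv F43547)
theorem F54804 : act 4 n11829 = n11829 := d24_2 D9264 D11829 (iv D11829) (iv D9264) F34885
theorem F54805 : act 7 n11829 = n9266 := d27_2 (iv F43549) D11829 (iv D9266)
theorem F54806 : act 9 n11829 = n9358 := d29_2 (iv F43550) D11829 (iv D9358)
def n11830 : Q := act 6 n9264
theorem D11830 : act 6 n9264 = n11830 := rfl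
theorem F54807 : act 1 n11830 = n9284 := d13_1 D11830 (iv D9284) (iv F43547)
theorem F54808 : act 2 n11830 = n11830 := d20_1 D11830 (iv D11830) F43548
theorem F54809 : act 4 n11830 = n9265 := d31_1 D11830 (iv D9265) D9264
theorem F54810 : act 9 n11830 = n9359 := d41_2 (iv F43550) D11830 (iv D9359)
def n11831 : Q := act 7 n9265
theorem D11831 : act 7 n9265 = n11831 := rfl
theorem F54811 : act 1 n11831 = n9285 := d14_1 D11831 (iv D9285) (iv F43551)
theorem F54812 : act 2 n11831 = n11831 := d21_1 D11831 (iv D11831) F43552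
theorem F54813 : act 3 n11831 = n11831 := d27_1 D11831 (iv D11831) F43553
theorem F54814 : act 5 n11831 = n11831 := d36_1 D11831 (iv D11831) F43554
theorem F54815 : act 6 n11831 = n9268 := d39_1 D11831 (iv D9268) (iv D7318) (iv F34886) D9265
theorem F54816 : act 9 n11831 = n9360 := d43_2 (iv F43555) D11831 (iv D9360)
def n11832 : Q := act 2 n9266
theorem D11832 : act 2 n9266 = n11832 := rfl
theorem F54817 : act 3 n11832 = n11832 := d17_2 D9266 D11832 (iv D11832) (iv D9266) F34889
theorem F54818 : act 4 n11832 = n11832 := d18_2 F43557 D11832 (iv D11832)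
theorem F54819 : act 9 n11832 = n9361 := d23_2 (iv F43558) D11832 (iv D9361)
def n11833 : Q := act 6 n9266
theorem D11833 : act 6 n9266 = n11833 := rfl
theorem F54820 : act 1 n11833 = n9287 := d13_1 D11833 (iv D9287) (iv F43556)
theorem F54821 : act 3 n11833 = n9267 := d26_1 D11833 (iv D9267) D9266
theorem F54822 : act 4 n11833 = n11833 := d31_1 D11833 (iv D11833) F43557
theorem F54823 : act 9 n11833 = n9362 := d41_2 (iv F43558) D11833 (iv D9362)
def n11834 : Q := act 5 n9267
theorem D11834 : act 5 n9267 = n11834 := rfl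
theorem F54824 : act 1 n11834 = n9288 := d12_1 D11834 (iv D9288) (iv F43559)
theorem F54825 : act 2 n11834 = n11834 := d19_1 D11834 (iv D11834) F43560
theorem F54826 : act 4 n11834 = n9271 := d30_1 D11834 (iv D9271) F34903 (iv F34894) (iv F43561)
theorem F54827 : act 9 n11834 = n9363 := d38_2 (iv F43562) D11834 (iv D9363)
def n11835 : Q := act 7 n9267
theorem D11835 : act 7 n9267 = n11835 := rfl
theorem F54828 : act 1 n11835 = n9289 := d14_1 D11835 (iv D9289) (iv F43559)
theorem F54829 : act 2 n11835 = n11835 := d21_1 D11835 (iv D11835) F43560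
theorem F54830 : act 4 n11835 = n9268 := d32_1 D11835 (iv D9268) (iv F43561)
theorem F54831 : act 9 n11835 = n9364 := d43_2 (iv F43562) D11835 (iv D9364)
def n11837 : Q := act 5 n9270
theorem D11837 : act 5 n9270 = n11837 := rfl
theorem F54838 : act 1 n11837 = n9290 := d12_1 D11837 (iv D9290) (iv F43574)
theorem F54839 : act 3 n11837 = n9271 := d25_1 D11837 (iv D9271) (iv F43575)
theorem F54840 : act 9 n11837 = n9366 := d38_2 (iv F43578) D11837 (iv D9366)
def n11839 : Q := act 7 n9271
theorem D11839 : act 7 n9271 = n11839 := rfl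
theorem F54847 : act 1 n11839 = n9292 := d14_1 D11839 (iv D9292) (iv F43579)
theorem F54850 : act 9 n11839 = n9368 := d43_2 (iv F43581) D11839 (iv D9368)
def n11840 : Q := act 8 n9271
theorem D11840 : act 8 n9271 = n11840 := rfl
theorem F54851 : act 1 n11840 = n9293 := d15_1 D11840 (iv D9293) (iv F43579)
theorem F54852 : act 2 n11840 = n11840 := d22_1 D11840 (iv D11840) F43580
theorem F54853 : act 5 n11840 = n11840 := d37_1 D11840 (iv D11840) (iv D9271) F34904 D9271
def n11841 : Q := act 4 n9273
theorem D11841 : act 4 n9273 = n11841 := rfl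
theorem F54854 : act 0 n11841 = n9899 := d3_1 D11841 (iv D9899) (iv F43588)
theorem F54855 : act 2 n11841 = n11841 := d18_1 D11841 (iv D11841) F43589
theorem F54856 : act 5 n11841 = n11841 := d30_2 D9273 D11841 (iv D11841) (iv D9273) F34915
theorem F54857 : act 9 n11841 = n11841 := d34_2 F43591 D11841 (iv D11841)
def n11842 : Q := act 6 n9273
theorem D11842 : act 6 n9273 = n11842 := rfl
theorem F54858 : act 0 n11842 = n9900 := d5_1 D11842 (iv D9900) (iv F43588)
theorem F54859 : act 2 n11842 = n11842 := d20_1 D11842 (iv D11842) F43589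
theorem F54860 : act 3 n11842 = n9276 := d26_1 D11842 (iv D9276) (iv F43590)
theorem F54861 : act 5 n11842 = n11842 := d35_1 D11842 (iv D11842) (iv D9273) F34916 D9273
theorem F54862 : act 9 n11842 = n11842 := d41_2 F43591 D11842 (iv D11842)
def n11843 : Q := act 4 n9274
theorem D11843 : act 4 n9274 = n11843 := rfl
theorem F54863 : act 0 n11843 = n9901 := d3_1 D11843 (iv D9901) (iv F43592)
theorem F54864 : act 2 n11843 = n9295 := d18_1 D11843 (iv D9295) (iv F43593)
theorem F54865 : act 5 n11843 = n9278 := d30_2 D9274 D11843 (iv D9278) (iv D7326) (iv F34920)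
theorem F54866 : act 7 n11843 = n9275 := d32_2 (iv F43594) D11843 (iv D9275)
theorem F54867 : act 9 n11843 = n11843 := d34_2 F43595 D11843 (iv D11843)
def n11844 : Q := act 6 n9274
theorem D11844 : act 6 n9274 = n11844 := rfl
theorem F54868 : act 0 n11844 = n9902 := d5_1 D11844 (iv D9902) (iv F43592)
theorem F54869 : act 2 n11844 = n9296 := d20_1 D11844 (iv D9296) (iv F43593)
theorem F54870 : act 9 n11844 = n11844 := d41_2 F43595 D11844 (iv D11844)
def n11845 : Q := act 3 n9275
theorem D11845 : act 3 n9275 = n11845 := rfl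
theorem F54871 : act 0 n11845 = n9903 := d2_1 D11845 (iv D9903) (iv F43596)
theorem F54872 : act 5 n11845 = n9280 := d25_2 (iv F43598) D11845 (iv D9280)
theorem F54873 : act 9 n11845 = n11845 := d29_2 F43599 D11845 (iv D11845)
def n11846 : Q := act 6 n9275
theorem D11846 : act 6 n9275 = n11846 := rfl
theorem F54874 : act 0 n11846 = n9904 := d5_1 D11846 (iv D9904) (iv F43596)
theorem F54875 : act 2 n11846 = n9298 := d20_1 D11846 (iv D9298) (iv F43597)
theorem F54876 : act 4 n11846 = n9276 := d31_1 D11846 (iv D9276) D9275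
theorem F54877 : act 9 n11846 = n11846 := d41_2 F43599 D11846 (iv D11846)
def n11847 : Q := act 7 n9276
theorem D11847 : act 7 n9276 = n11847 := rfl
theorem F54878 : act 0 n11847 = n9905 := d6_1 D11847 (iv D9905) (iv F43600)
theorem F54879 : act 2 n11847 = n9299 := d21_1 D11847 (iv D9299) (iv F43601)
theorem F54880 : act 5 n11847 = n11847 := d36_1 D11847 (iv D11847) F43602
theorem F54881 : act 9 n11847 = n11847 := d43_2 F43603 D11847 (iv D11847)
def n11848 : Q := act 4 n9277
theorem D11848 : act 4 n9277 = n11848 := rfl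
theorem F54882 : act 0 n11848 = n9906 := d3_1 D11848 (iv D9906) (iv F43604)
theorem F54883 : act 2 n11848 = n9300 := d18_1 D11848 (iv D9300) (iv F43605)
theorem F54884 : act 7 n11848 = n11848 := d32_2 F43607 D11848 (iv D11848)
theorem F54885 : act 8 n11848 = n11848 := d33_2 F43608 D11848 (iv D11848)
theorem F54886 : act 9 n11848 = n11848 := d34_2 F43609 D11848 (iv D11848)
def n11849 : Q := act 6 n9277
theorem D11849 : act 6 n9277 = n11849 := rfl
theorem F54887 : act 0 n11849 = n9907 := d5_1 D11849 (iv D9907) (iv F43604)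
theorem F54888 : act 2 n11849 = n9301 := d20_1 D11849 (iv D9301) (iv F43605)
theorem F54889 : act 3 n11849 = n11849 := d26_1 D11849 (iv D11849) F43606
theorem F54890 : act 5 n11849 = n9279 := d35_1 D11849 (iv D9279) (iv D7326) (iv F34929) D9277
theorem F54891 : act 8 n11849 = n11849 := d40_2 F43608 D11849 (iv D11849)
theorem F54892 : act 9 n11849 = n11849 := d41_2 F43609 D11849 (iv D11849)
def n11850 : Q := act 3 n9278
theorem D11850 : act 3 n9278 = n11850 := rfl
theorem F54893 : act 0 n11850 = n9908 := d2_1 D11850 (iv D9908) (iv F43610)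
theorem F54894 : act 4 n11850 = n11850 := d24_2 D9278 D11850 (iv D11850) (iv D9278) F34934
theorem F54895 : act 7 n11850 = n9280 := d27_2 (iv F43612) D11850 (iv D9280)
theorem F54896 : act 8 n11850 = n9283 := d28_2 (iv F43613) D11850 (iv D9283)
theorem F54897 : act 9 n11850 = n11850 := d29_2 F43614 D11850 (iv D11850)
def n11851 : Q := act 6 n9278
theorem D11851 : act 6 n9278 = n11851 := rfl
theorem F54898 : act 0 n11851 = n9909 := d5_1 D11851 (iv D9909) (iv F43610)
theorem F54899 : act 2 n11851 = n9303 := d20_1 D11851 (iv D9303) (iv F43611)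
theorem F54900 : act 4 n11851 = n9279 := d31_1 D11851 (iv D9279) D9278
theorem F54901 : act 8 n11851 = n9284 := d40_2 (iv F43613) D11851 (iv D9284)
theorem F54902 : act 9 n11851 = n11851 := d41_2 F43614 D11851 (iv D11851)
def n11852 : Q := act 7 n9279
theorem D11852 : act 7 n9279 = n11852 := rfl
theorem F54903 : act 0 n11852 = n9910 := d6_1 D11852 (iv D9910) (iv F43615)
theorem F54904 : act 2 n11852 = n9304 := d21_1 D11852 (iv D9304) (iv F43616)
theorem F54905 : act 3 n11852 = n11852 := d27_1 D11852 (iv D11852) F43617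
theorem F54906 : act 6 n11852 = n9282 := d39_1 D11852 (iv D9282) (iv D7328) (iv F34935) D9279
theorem F54907 : act 8 n11852 = n9285 := d42_2 (iv F43618) D11852 (iv D9285)
theorem F54908 : act 9 n11852 = n11852 := d43_2 F43619 D11852 (iv D11852)
def n11853 : Q := act 2 n9280
theorem D11853 : act 2 n9280 = n11853 := rfl
theorem F54909 : act 0 n11853 = n9911 := d1_1 D11853 (iv D9911) (iv F43620)
theorem F54910 : act 3 n11853 = n9305 := d17_2 D9280 D11853 (iv D9305) (iv D7344) (iv F34939)
theorem F54911 : act 4 n11853 = n11853 := d18_2 F43621 D11853 (iv D11853)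
theorem F54912 : act 8 n11853 = n9286 := d22_2 (iv F43622) D11853 (iv D9286)
theorem F54913 : act 9 n11853 = n11853 := d23_2 F43623 D11853 (iv D11853)
def n11854 : Q := act 6 n9280
theorem D11854 : act 6 n9280 = n11854 := rfl
theorem F54914 : act 0 n11854 = n9912 := d5_1 D11854 (iv D9912) (iv F43620)
theorem F54915 : act 3 n11854 = n9281 := d26_1 D11854 (iv D9281) D9280
theorem F54916 : act 4 n11854 = n11854 := d31_1 D11854 (iv D11854) F43621
theorem F54917 : act 8 n11854 = n9287 := d40_2 (iv F43622) D11854 (iv D9287)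
theorem F54918 : act 9 n11854 = n11854 := d41_2 F43623 D11854 (iv D11854)
def n11855 : Q := act 5 n9281
theorem D11855 : act 5 n9281 = n11855 := rfl
theorem F54919 : act 0 n11855 = n9913 := d4_1 D11855 (iv D9913) (iv F43624)
theorem F54920 : act 2 n11855 = n9307 := d19_1 D11855 (iv D9307) (iv F43625)
theorem F54921 : act 4 n11855 = n11855 := d30_1 D11855 (iv D11855) F43626 F34945 (iv F43626)
theorem F54922 : act 9 n11855 = n11855 := d38_2 F43628 D11855 (iv D11855)
def n11856 : Q := act 7 n9281
theorem D11856 : act 7 n9281 = n11856 := rfl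
theorem F54923 : act 0 n11856 = n9914 := d6_1 D11856 (iv D9914) (iv F43624)
theorem F54924 : act 2 n11856 = n9308 := d21_1 D11856 (iv D9308) (iv F43625)
theorem F54925 : act 4 n11856 = n9282 := d32_1 D11856 (iv D9282) (iv F43626)
theorem F54926 : act 8 n11856 = n9289 := d42_2 (iv F43627) D11856 (iv D9289)
theorem F54927 : act 9 n11856 = n11856 := d43_2 F43628 D11856 (iv D11856)
def n11857 : Q := act 2 n9283
theorem D11857 : act 2 n9283 = n11857 := rfl
theorem F54928 : act 0 n11857 = n9915 := d1_1 D11857 (iv D9915) (iv F43635)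
theorem F54929 : act 3 n11857 = n9309 := d17_2 D9283 D11857 (iv D9309) (iv D7347) (iv F34949)
theorem F54930 : act 4 n11857 = n11857 := d18_2 F43636 D11857 (iv D11857)
theorem F54931 : act 7 n11857 = n9286 := d21_2 (iv F43637) D11857 (iv D9286)
theorem F54932 : act 9 n11857 = n9370 := d23_2 (iv F43638) D11857 (iv D9370)
def n11858 : Q := act 6 n9283
theorem D11858 : act 6 n9283 = n11858 := rfl
theorem F54933 : act 0 n11858 = n9916 := d5_1 D11858 (iv D9916) (iv F43635)
theorem F54934 : act 3 n11858 = n9284 := d26_1 D11858 (iv D9284) D9283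
theorem F54935 : act 4 n11858 = n11858 := d31_1 D11858 (iv D11858) F43636
theorem F54936 : act 9 n11858 = n9371 := d41_2 (iv F43638) D11858 (iv D9371)
def n11859 : Q := act 5 n9284
theorem D11859 : act 5 n9284 = n11859 := rfl
theorem F54937 : act 0 n11859 = n9917 := d4_1 D11859 (iv D9917) (iv F43639)
theorem F54938 : act 2 n11859 = n9311 := d19_1 D11859 (iv D9311) (iv F43640)
theorem F54939 : act 4 n11859 = n11859 := d30_1 D11859 (iv D11859) F43641 F34955 (iv F43641)
theorem F54940 : act 9 n11859 = n9372 := d38_2 (iv F43642) D11859 (iv D9372)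
def n11860 : Q := act 7 n9284
theorem D11860 : act 7 n9284 = n11860 := rfl
theorem F54941 : act 0 n11860 = n9918 := d6_1 D11860 (iv D9918) (iv F43639)
theorem F54942 : act 2 n11860 = n9312 := d21_1 D11860 (iv D9312) (iv F43640)
theorem F54943 : act 4 n11860 = n9285 := d32_1 D11860 (iv D9285) (iv F43641)
theorem F54944 : act 6 n11860 = n9289 := d39_1 D11860 (iv D9289) (iv D7332) (iv F34950) D9284
theorem F54945 : act 9 n11860 = n9373 := d43_2 (iv F43642) D11860 (iv D9373)
def n11861 : Q := act 1 n9286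
theorem D11861 : act 1 n9286 = n11861 := rfl
theorem F54946 : act 3 n11861 = n9313 := d10_2 (iv F43650) D11861 (iv D9313)
theorem F54947 : act 4 n11861 = n11861 := d11_2 F43651 D11861 (iv D11861)
theorem F54948 : act 9 n11861 = n9374 := d16_2 (iv F43652) D11861 (iv D9374)
def n11862 : Q := act 6 n9286
theorem D11862 : act 6 n9286 = n11862 := rfl
theorem F54949 : act 0 n11862 = n9920 := d5_1 D11862 (iv D9920) (iv F43649)
theorem F54950 : act 2 n11862 = n9287 := d20_1 D11862 (iv D9287) D9286
theorem F54951 : act 3 n11862 = n9314 := d26_1 D11862 (iv D9314) (iv F43650)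
theorem F54952 : act 4 n11862 = n11862 := d31_1 D11862 (iv D11862) F43651
theorem F54953 : act 9 n11862 = n9375 := d41_2 (iv F43652) D11862 (iv D9375)
def n11863 : Q := act 5 n9287
theorem D11863 : act 5 n9287 = n11863 := rfl
theorem F54954 : act 0 n11863 = n9921 := d4_1 D11863 (iv D9921) (iv F43653)
theorem F54955 : act 3 n11863 = n9288 := d25_1 D11863 (iv D9288) (iv F43654)
theorem F54956 : act 9 n11863 = n9376 := d38_2 (iv F43656) D11863 (iv D9376)
def n11864 : Q := act 7 n9287
theorem D11864 : act 7 n9287 = n11864 := rfl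
theorem F54957 : act 0 n11864 = n9922 := d6_1 D11864 (iv D9922) (iv F43653)
theorem F54958 : act 3 n11864 = n9289 := d27_1 D11864 (iv D9289) (iv F43654)
theorem F54959 : act 4 n11864 = n11864 := d32_1 D11864 (iv D11864) F43655
theorem F54960 : act 9 n11864 = n9377 := d43_2 (iv F43656) D11864 (iv D9377)
def n11865 : Q := act 7 n9288
theorem D11865 : act 7 n9288 = n11865 := rfl
theorem F54961 : act 0 n11865 = n9923 := d6_1 D11865 (iv D9923) (iv F43657)
theorem F54962 : act 2 n11865 = n9317 := d21_1 D11865 (iv D9317) (iv F43658)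
theorem F54963 : act 4 n11865 = n9292 := d32_1 D11865 (iv D9292) (iv F43659)
theorem F54964 : act 5 n11865 = n9289 := d36_1 D11865 (iv D9289) D9288
theorem F54965 : act 9 n11865 = n9378 := d43_2 (iv F43660) D11865 (iv D9378)
def n11866 : Q := act 8 n9288
theorem D11866 : act 8 n9288 = n11866 := rfl
theorem F54966 : act 0 n11866 = n9924 := d7_1 D11866 (iv D9924) (iv F43657)
theorem F54967 : act 2 n11866 = n9318 := d22_1 D11866 (iv D9318) (iv F43658)
theorem F54968 : act 4 n11866 = n9293 := d33_1 D11866 (iv D9293) (iv F43659)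
def n11867 : Q := act 4 n9290
theorem D11867 : act 4 n9290 = n11867 := rfl
theorem F54969 : act 0 n11867 = n9925 := d3_1 D11867 (iv D9925) (iv F43665)
theorem F54970 : act 2 n11867 = n11867 := d18_1 D11867 (iv D11867) F43666
theorem F54971 : act 5 n11867 = n11867 := d30_2 D9290 D11867 (iv D11867) (iv D9290) F34972
theorem F54972 : act 9 n11867 = n9380 := d34_2 (iv F43668) D11867 (iv D9380)
def n11868 : Q := act 7 n9290
theorem D11868 : act 7 n9290 = n11868 := rfl
theorem F54973 : act 0 n11868 = n9926 := d6_1 D11868 (iv D9926) (iv F43665)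
theorem F54974 : act 2 n11868 = n11868 := d21_1 D11868 (iv D11868) F43666
theorem F54975 : act 3 n11868 = n9292 := d27_1 D11868 (iv D9292) (iv F43667)
theorem F54976 : act 5 n11868 = n9291 := d36_1 D11868 (iv D9291) D9290
theorem F54977 : act 9 n11868 = n9381 := d43_2 (iv F43668) D11868 (iv D9381)
def n11869 : Q := act 8 n9290
theorem D11869 : act 8 n9290 = n11869 := rfl
theorem F54978 : act 0 n11869 = n9927 := d7_1 D11869 (iv D9927) (iv F43665)
theorem F54979 : act 2 n11869 = n11869 := d22_1 D11869 (iv D11869) F43666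
theorem F54980 : act 3 n11869 = n9293 := d28_1 D11869 (iv D9293) (iv F43667)
theorem F54981 : act 5 n11869 = n11869 := d37_1 D11869 (iv D11869) (iv D9290) F34973 D9290
def n11870 : Q := act 6 n9292
theorem D11870 : act 6 n9292 = n11870 := rfl
theorem F54982 : act 0 n11870 = n9928 := d5_1 D11870 (iv D9928) (iv F43676)
theorem F54983 : act 2 n11870 = n9319 := d20_1 D11870 (iv D9319) (iv F43677)
theorem F54984 : act 5 n11870 = n11870 := d35_1 D11870 (iv D11870) F43678 F34981 (iv F43678)
theorem F54985 : act 9 n11870 = n9383 := d41_2 (iv F43679) D11870 (iv D9383)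
def n11871 : Q := act 8 n9292
theorem D11871 : act 8 n9292 = n11871 := rfl
theorem F54986 : act 0 n11871 = n9929 := d7_1 D11871 (iv D9929) (iv F43676)
theorem F54987 : act 2 n11871 = n9320 := d22_1 D11871 (iv D9320) (iv F43677)
theorem F54988 : act 5 n11871 = n11871 := d37_1 D11871 (iv D11871) F43678 F34982 (iv F43678)
theorem F54989 : act 7 n11871 = n9293 := d42_1 D11871 (iv D9293) D9292
def n11872 : Q := act 9 n9293
theorem D11872 : act 9 n9293 = n11872 := rfl
theorem F54990 : act 0 n11872 = n9930 := d8_1 D11872 (iv D9930) (iv F43680)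
theorem F54991 : act 2 n11872 = n9321 := d23_1 D11872 (iv D9321) (iv F43681)
theorem F54992 : act 5 n11872 = n11872 := d38_1 D11872 (iv D11872) F43682
theorem F54993 : act 8 n11872 = n9385 := d44_1 D11872 (iv D9385) (iv D7402) (iv F34977) D9293
def n11873 : Q := act 4 n9294
theorem D11873 : act 4 n9294 = n11873 := rfl
theorem F54994 : act 0 n11873 = n9931 := d3_1 D11873 (iv D9931) (iv F43683)
theorem F54995 : act 1 n11873 = n11873 := d11_1 D11873 (iv D11873) F43684
theorem F54996 : act 5 n11873 = n9300 := d30_2 D9294 D11873 (iv D9300) (iv D7341) (iv F34987)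
theorem F54997 : act 7 n11873 = n11873 := d32_2 F43686 D11873 (iv D11873)
theorem F54998 : act 9 n11873 = n11873 := d34_2 F43687 D11873 (iv D11873)
def n11874 : Q := act 6 n9294
theorem D11874 : act 6 n9294 = n11874 := rfl
theorem F54999 : act 0 n11874 = n9932 := d5_1 D11874 (iv D9932) (iv F43683)
theorem F55000 : act 1 n11874 = n11874 := d13_1 D11874 (iv D11874) F43684
theorem F55001 : act 3 n11874 = n11874 := d26_1 D11874 (iv D11874) F43685
theorem F55002 : act 5 n11874 = n9296 := d35_1 D11874 (iv D9296) (iv D7338) (iv F34988) D9294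
theorem F55003 : act 9 n11874 = n11874 := d41_2 F43687 D11874 (iv D11874)
def n11875 : Q := act 3 n9295
theorem D11875 : act 3 n9295 = n11875 := rfl
theorem F55004 : act 0 n11875 = n9933 := d2_1 D11875 (iv D9933) (iv F43688)
theorem F55005 : act 1 n11875 = n11875 := d10_1 D11875 (iv D11875) F43689
theorem F55006 : act 4 n11875 = n11875 := d24_2 D9295 D11875 (iv D11875) (iv D9295) F34993
theorem F55007 : act 5 n11875 = n9302 := d25_2 (iv F43690) D11875 (iv D9302)
theorem F55008 : act 7 n11875 = n9297 := d27_2 (iv F43691) D11875 (iv D9297)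
theorem F55009 : act 9 n11875 = n11875 := d29_2 F43692 D11875 (iv D11875)
def n11876 : Q := act 6 n9295
theorem D11876 : act 6 n9295 = n11876 := rfl
theorem F55010 : act 0 n11876 = n9934 := d5_1 D11876 (iv D9934) (iv F43688)
theorem F55011 : act 1 n11876 = n11876 := d13_1 D11876 (iv D11876) F43689
theorem F55012 : act 4 n11876 = n9296 := d31_1 D11876 (iv D9296) D9295
theorem F55013 : act 9 n11876 = n11876 := d41_2 F43692 D11876 (iv D11876)
def n11877 : Q := act 7 n9296
theorem D11877 : act 7 n9296 = n11877 := rfl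
theorem F55014 : act 0 n11877 = n9935 := d6_1 D11877 (iv D9935) (iv F43693)
theorem F55015 : act 1 n11877 = n11877 := d14_1 D11877 (iv D11877) F43694
theorem F55016 : act 3 n11877 = n11877 := d27_1 D11877 (iv D11877) F43695
theorem F55017 : act 6 n11877 = n9299 := d39_1 D11877 (iv D9299) (iv D7340) (iv F34994) D9296
theorem F55018 : act 9 n11877 = n11877 := d43_2 F43696 D11877 (iv D11877)
def n11878 : Q := act 2 n9297
theorem D11878 : act 2 n9297 = n11878 := rfl
theorem F55019 : act 0 n11878 = n9936 := d1_1 D11878 (iv D9936) (iv F43697)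
theorem F55020 : act 4 n11878 = n11878 := d18_2 F43699 D11878 (iv D11878)
theorem F55021 : act 5 n11878 = n9305 := d19_2 (iv F43700) D11878 (iv D9305)
theorem F55022 : act 9 n11878 = n11878 := d23_2 F43701 D11878 (iv D11878)
def n11879 : Q := act 6 n9297
theorem D11879 : act 6 n9297 = n11879 := rfl
theorem F55023 : act 0 n11879 = n9937 := d5_1 D11879 (iv D9937) (iv F43697)
theorem F55024 : act 1 n11879 = n11879 := d13_1 D11879 (iv D11879) F43698
theorem F55025 : act 3 n11879 = n9298 := d26_1 D11879 (iv D9298) D9297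
theorem F55026 : act 4 n11879 = n11879 := d31_1 D11879 (iv D11879) F43699
theorem F55027 : act 9 n11879 = n11879 := d41_2 F43701 D11879 (iv D11879)
def n11880 : Q := act 5 n9298
theorem D11880 : act 5 n9298 = n11880 := rfl
theorem F55028 : act 0 n11880 = n9938 := d4_1 D11880 (iv D9938) (iv F43702)
theorem F55029 : act 1 n11880 = n11880 := d12_1 D11880 (iv D11880) F43703
theorem F55030 : act 4 n11880 = n11880 := d30_1 D11880 (iv D11880) F43704 F35003 (iv F43704)
theorem F55031 : act 6 n11880 = n9307 := d35_2 D9298 D11880 (iv D9307) (iv D7345) (iv F34998)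

end Cfsg.Agent.Helper17.SP6TC
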