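import Cfsg.Agent.Helper17.SP6TC.Facts4

set_option autoImplicit false
set_option linter.all false

noncomputable section

namespace Cfsg.Agent.Helper17.SP6TC

theorem F55032 : act 9 n11880 = n11880 := d38_2 F43705 D11880 (iv D11880)
def n11881 : Q := act 7 n9298
theorem D11881 : act 7 n9298 = n11881 := rfl
theorem F55033 : act 0 n11881 = n9939 := d6_1 D11881 (iv D9939) (iv F43702)
theorem F55034 : act 1 n11881 = n11881 := d14_1 D11881 (iv D11881) F43703
theorem F55035 : act 4 n11881 = n9299 := d32_1 D11881 (iv D9299) (iv F43704)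
theorem F55036 : act 9 n11881 = n11881 := d43_2 F43705 D11881 (iv D11881)
def n11882 : Q := act 3 n9300
theorem D11882 : act 3 n9300 = n11882 := rfl
theorem F55039 : act 4 n11882 = n9322 := d24_2 D9300 D11882 (iv D9322) (iv D7356) (iv F35007)
def n11883 : Q := act 6 n9300
theorem D11883 : act 6 n9300 = n11883 := rfl
theorem F55045 : act 4 n11883 = n9301 := d31_1 D11883 (iv D9301) D9300
def n11884 : Q := act 7 n9301
theorem D11884 : act 7 n9301 = n11884 := rfl
theorem F55051 : act 5 n11884 = n9304 := d36_1 D11884 (iv D9304) (iv F43719)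
def n11885 : Q := act 2 n9302
theorem D11885 : act 2 n9302 = n11885 := rfl
theorem F55056 : act 4 n11885 = n9325 := d18_2 (iv F43724) D11885 (iv D9325)
theorem F55057 : act 7 n11885 = n9305 := d21_2 (iv F43725) D11885 (iv D9305)
theorem F55058 : act 8 n11885 = n9309 := d22_2 (iv F43726) D11885 (iv D9309)
theorem F55059 : act 9 n11885 = n11885 := d23_2 F43727 D11885 (iv D11885)
def n11886 : Q := act 6 n9302
theorem D11886 : act 6 n9302 = n11886 := rfl
theorem F55062 : act 3 n11886 = n9303 := d26_1 D11886 (iv D9303) D9302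
theorem F55063 : act 4 n11886 = n9326 := d31_1 D11886 (iv D9326) (iv F43724)
def n11887 : Q := act 5 n9303
theorem D11887 : act 5 n9303 = n11887 := rfl
theorem F55066 : act 0 n11887 = n9945 := d4_1 D11887 (iv D9945) (iv F43728)
theorem F55067 : act 1 n11887 = n11887 := d12_1 D11887 (iv D11887) F43729
theorem F55068 : act 9 n11887 = n11887 := d38_2 F43732 D11887 (iv D11887)
def n11888 : Q := act 7 n9303
theorem D11888 : act 7 n9303 = n11888 := rfl
theorem F55069 : act 0 n11888 = n9946 := d6_1 D11888 (iv D9946) (iv F43728)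
theorem F55070 : act 1 n11888 = n11888 := d14_1 D11888 (iv D11888) F43729
theorem F55071 : act 4 n11888 = n9304 := d32_1 D11888 (iv D9304) (iv F43730)
theorem F55072 : act 6 n11888 = n9308 := d39_1 D11888 (iv D9308) (iv D7345) (iv F35013) D9303
theorem F55073 : act 8 n11888 = n9312 := d42_2 (iv F43731) D11888 (iv D9312)
theorem F55074 : act 9 n11888 = n11888 := d43_2 F43732 D11888 (iv D11888)
def n11889 : Q := act 1 n9305
theorem D11889 : act 1 n9305 = n11889 := rfl
theorem F55075 : act 2 n11889 = n11889 := d9_2 D9305 D11889 (iv D11889) (iv D9305) F35022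
theorem F55076 : act 4 n11889 = n9329 := d11_2 (iv F43740) D11889 (iv D9329)
theorem F55077 : act 8 n11889 = n9313 := d15_2 (iv F43741) D11889 (iv D9313)
theorem F55078 : act 9 n11889 = n11889 := d16_2 F43742 D11889 (iv D11889)
def n11890 : Q := act 6 n9305
theorem D11890 : act 6 n9305 = n11890 := rfl
theorem F55079 : act 0 n11890 = n9948 := d5_1 D11890 (iv D9948) (iv F43739)
theorem F55080 : act 2 n11890 = n9306 := d20_1 D11890 (iv D9306) D9305
theorem F55081 : act 4 n11890 = n9330 := d31_1 D11890 (iv D9330) (iv F43740)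
theorem F55082 : act 8 n11890 = n9314 := d40_2 (iv F43741) D11890 (iv D9314)
theorem F55083 : act 9 n11890 = n11890 := d41_2 F43742 D11890 (iv D11890)
def n11891 : Q := act 5 n9306
theorem D11891 : act 5 n9306 = n11891 := rfl
theorem F55084 : act 0 n11891 = n9949 := d4_1 D11891 (iv D9949) (iv F43743)
theorem F55085 : act 1 n11891 = n11891 := d12_1 D11891 (iv D11891) F43744
theorem F55086 : act 3 n11891 = n9307 := d25_1 D11891 (iv D9307) (iv F43745)
theorem F55087 : act 9 n11891 = n11891 := d38_2 F43748 D11891 (iv D11891)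
def n11892 : Q := act 7 n9306
theorem D11892 : act 7 n9306 = n11892 := rfl
theorem F55088 : act 0 n11892 = n9950 := d6_1 D11892 (iv D9950) (iv F43743)
theorem F55089 : act 1 n11892 = n11892 := d14_1 D11892 (iv D11892) F43744
theorem F55090 : act 3 n11892 = n9308 := d27_1 D11892 (iv D9308) (iv F43745)
theorem F55091 : act 4 n11892 = n9332 := d32_1 D11892 (iv D9332) (iv F43746)
theorem F55092 : act 8 n11892 = n9316 := d42_2 (iv F43747) D11892 (iv D9316)
theorem F55093 : act 9 n11892 = n11892 := d43_2 F43748 D11892 (iv D11892)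
def n11893 : Q := act 7 n9307
theorem D11893 : act 7 n9307 = n11893 := rfl
theorem F55094 : act 0 n11893 = n9951 := d6_1 D11893 (iv D9951) (iv F43749)
theorem F55095 : act 1 n11893 = n11893 := d14_1 D11893 (iv D11893) F43750
theorem F55096 : act 4 n11893 = n11893 := d32_1 D11893 (iv D11893) F43751
theorem F55097 : act 5 n11893 = n9308 := d36_1 D11893 (iv D9308) D9307
theorem F55098 : act 9 n11893 = n11893 := d43_2 F43752 D11893 (iv D11893)
def n11894 : Q := act 8 n9307
theorem D11894 : act 8 n9307 = n11894 := rfl
theorem F55099 : act 0 n11894 = n9952 := d7_1 D11894 (iv D9952) (iv F43749)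
theorem F55100 : act 1 n11894 = n11894 := d15_1 D11894 (iv D11894) F43750
theorem F55101 : act 4 n11894 = n11894 := d33_1 D11894 (iv D11894) F43751
theorem F55102 : act 5 n11894 = n9318 := d37_1 D11894 (iv D9318) (iv D7352) (iv F35029) D9307
def n11895 : Q := act 1 n9309
theorem D11895 : act 1 n9309 = n11895 := rfl
theorem F55104 : act 4 n11895 = n9334 := d11_2 (iv F43759) D11895 (iv D9334)
theorem F55105 : act 7 n11895 = n9313 := d14_2 (iv F43760) D11895 (iv D9313)
def n11896 : Q := act 6 n9309
theorem D11896 : act 6 n9309 = n11896 := rfl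
theorem F55107 : act 0 n11896 = n9954 := d5_1 D11896 (iv D9954) (iv F43758)
theorem F55109 : act 4 n11896 = n9335 := d31_1 D11896 (iv D9335) (iv F43759)
def n11897 : Q := act 5 n9310
theorem D11897 : act 5 n9310 = n11897 := rfl
theorem F55111 : act 0 n11897 = n9955 := d4_1 D11897 (iv D9955) (iv F43762)
theorem F55113 : act 3 n11897 = n9311 := d25_1 D11897 (iv D9311) (iv F43764)
def n11898 : Q := act 7 n9310
theorem D11898 : act 7 n9310 = n11898 := rfl
theorem F55117 : act 3 n11898 = n9312 := d27_1 D11898 (iv D9312) (iv F43764)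
theorem F55118 : act 4 n11898 = n9337 := d32_1 D11898 (iv D9337) (iv F43765)
theorem F55119 : act 6 n11898 = n9316 := d39_1 D11898 (iv D9316) (iv D7351) (iv F35040) D9310
def n11899 : Q := act 7 n9311
theorem D11899 : act 7 n9311 = n11899 := rfl
theorem F55121 : act 0 n11899 = n9957 := d6_1 D11899 (iv D9957) (iv F43767)
theorem F55122 : act 1 n11899 = n11899 := d14_1 D11899 (iv D11899) F43768
theorem F55123 : act 4 n11899 = n11899 := d32_1 D11899 (iv D11899) F43769
theorem F55124 : act 5 n11899 = n9312 := d36_1 D11899 (iv D9312) D9311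
theorem F55125 : act 9 n11899 = n9390 := d43_2 (iv F43770) D11899 (iv D9390)
def n11900 : Q := act 8 n9311
theorem D11900 : act 8 n9311 = n11900 := rfl
theorem F55126 : act 0 n11900 = n9958 := d7_1 D11900 (iv D9958) (iv F43767)
theorem F55127 : act 1 n11900 = n11900 := d15_1 D11900 (iv D11900) F43768
theorem F55128 : act 4 n11900 = n11900 := d33_1 D11900 (iv D11900) F43769
def n11901 : Q := act 0 n9313
theorem D11901 : act 0 n9313 = n11901 := rfl
def n11902 : Q := act 6 n9313
theorem D11902 : act 6 n9313 = n11902 := rfl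
theorem F55133 : act 1 n11902 = n9314 := d13_1 D11902 (iv D9314) D9313
theorem F55134 : act 2 n11902 = n11902 := d20_1 D11902 (iv D11902) F43776
theorem F55135 : act 4 n11902 = n9341 := d31_1 D11902 (iv D9341) (iv F43777)
theorem F55136 : act 9 n11902 = n9393 := d41_2 (iv F43778) D11902 (iv D9393)
def n11903 : Q := act 5 n9314
theorem D11903 : act 5 n9314 = n11903 := rfl
theorem F55137 : act 0 n11903 = n9961 := d4_1 D11903 (iv D9961) (iv F43779)
theorem F55138 : act 2 n11903 = n9315 := d19_1 D11903 (iv D9315) (iv F43780)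
theorem F55139 : act 4 n11903 = n11903 := d30_1 D11903 (iv D11903) F43781 F35159 (iv F43781)
theorem F55140 : act 9 n11903 = n9394 := d38_2 (iv F43782) D11903 (iv D9394)
def n11904 : Q := act 7 n9314
theorem D11904 : act 7 n9314 = n11904 := rfl
theorem F55142 : act 2 n11904 = n9316 := d21_1 D11904 (iv D9316) (iv F43780)
theorem F55143 : act 4 n11904 = n9342 := d32_1 D11904 (iv D9342) (iv F43781)
theorem F55144 : act 9 n11904 = n9395 := d43_2 (iv F43782) D11904 (iv D9395)
def n11905 : Q := act 7 n9315
theorem D11905 : act 7 n9315 = n11905 := rfl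
theorem F55145 : act 0 n11905 = n9963 := d6_1 D11905 (iv D9963) (iv F43783)
theorem F55146 : act 1 n11905 = n11905 := d14_1 D11905 (iv D11905) F43784
theorem F55147 : act 3 n11905 = n9317 := d27_1 D11905 (iv D9317) (iv F43785)
theorem F55148 : act 4 n11905 = n11905 := d32_1 D11905 (iv D11905) F43786
theorem F55149 : act 5 n11905 = n9316 := d36_1 D11905 (iv D9316) D9315
theorem F55150 : act 9 n11905 = n9396 := d43_2 (iv F43787) D11905 (iv D9396)
def n11906 : Q := act 8 n9315
theorem D11906 : act 8 n9315 = n11906 := rfl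
theorem F55151 : act 0 n11906 = n9964 := d7_1 D11906 (iv D9964) (iv F43783)
theorem F55152 : act 1 n11906 = n11906 := d15_1 D11906 (iv D11906) F43784
theorem F55153 : act 3 n11906 = n9318 := d28_1 D11906 (iv D9318) (iv F43785)
theorem F55154 : act 4 n11906 = n11906 := d33_1 D11906 (iv D11906) F43786
def n11907 : Q := act 6 n9317
theorem D11907 : act 6 n9317 = n11907 := rfl
theorem F55155 : act 0 n11907 = n9965 := d5_1 D11907 (iv D9965) (iv F43793)
theorem F55156 : act 1 n11907 = n11907 := d13_1 D11907 (iv D11907) F43794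
theorem F55157 : act 4 n11907 = n9319 := d31_1 D11907 (iv D9319) (iv F43795)
theorem F55158 : act 9 n11907 = n9398 := d41_2 (iv F43797) D11907 (iv D9398)
def n11908 : Q := act 8 n9317
theorem D11908 : act 8 n9317 = n11908 := rfl
theorem F55159 : act 0 n11908 = n9966 := d7_1 D11908 (iv D9966) (iv F43793)
theorem F55160 : act 1 n11908 = n11908 := d15_1 D11908 (iv D11908) F43794
theorem F55161 : act 4 n11908 = n9320 := d33_1 D11908 (iv D9320) (iv F43795)
theorem F55162 : act 7 n11908 = n9318 := d42_1 D11908 (iv D9318) D9317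
def n11909 : Q := act 9 n9318
theorem D11909 : act 9 n9318 = n11909 := rfl
theorem F55163 : act 0 n11909 = n9967 := d8_1 D11909 (iv D9967) (iv F43798)
theorem F55164 : act 1 n11909 = n11909 := d16_1 D11909 (iv D11909) F43799
theorem F55165 : act 4 n11909 = n9321 := d34_1 D11909 (iv D9321) (iv F43800)
theorem F55166 : act 8 n11909 = n9400 := d44_1 D11909 (iv D9400) (iv D7412) (iv F35063) D9318
def n11910 : Q := act 8 n9319
theorem D11910 : act 8 n9319 = n11910 := rfl
theorem F55167 : act 0 n11910 = n9968 := d7_1 D11910 (iv D9968) (iv F43801)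
theorem F55168 : act 1 n11910 = n11910 := d15_1 D11910 (iv D11910) F43802
theorem F55169 : act 3 n11910 = n11910 := d28_1 D11910 (iv D11910) F43803
theorem F55170 : act 6 n11910 = n9320 := d40_1 D11910 (iv D9320) D9319
def n11911 : Q := act 9 n9320
theorem D11911 : act 9 n9320 = n11911 := rfl
theorem F55171 : act 0 n11911 = n9969 := d8_1 D11911 (iv D9969) (iv F43806)
theorem F55172 : act 1 n11911 = n11911 := d16_1 D11911 (iv D11911) F43807
theorem F55173 : act 3 n11911 = n11911 := d29_1 D11911 (iv D11911) F43808
theorem F55174 : act 5 n11911 = n11911 := d38_1 D11911 (iv D11911) F43809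
theorem F55175 : act 7 n11911 = n9321 := d43_1 D11911 (iv D9321) (iv F43810)
theorem F55176 : act 8 n11911 = n9402 := d44_1 D11911 (iv D9402) (iv D7414) (iv F35072) D9320
def n11913 : Q := act 6 n9322
theorem D11913 : act 6 n9322 = n11913 := rfl
theorem F55185 : act 3 n11913 = n9323 := d26_1 D11913 (iv D9323) D9322
def n11914 : Q := act 5 n9323
theorem D11914 : act 5 n9323 = n11914 := rfl
theorem F55191 : act 4 n11914 = n9327 := d30_1 D11914 (iv D9327) F35099 (iv F35087) (iv F43825)
def n11916 : Q := act 1 n9325
theorem D11916 : act 1 n9325 = n11916 := rfl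
theorem F55204 : act 7 n11916 = n9329 := d14_2 (iv F43838) D11916 (iv D9329)
theorem F55205 : act 8 n11916 = n9334 := d15_2 (iv F43839) D11916 (iv D9334)
def n11917 : Q := act 6 n9325
theorem D11917 : act 6 n9325 = n11917 := rfl
theorem F55207 : act 0 n11917 = n9975 := d5_1 D11917 (iv D9975) (iv F43835)
theorem F55210 : act 8 n11917 = n9335 := d40_2 (iv F43839) D11917 (iv D9335)
def n11918 : Q := act 5 n9326
theorem D11918 : act 5 n9326 = n11918 := rfl
theorem F55212 : act 0 n11918 = n9976 := d4_1 D11918 (iv D9976) (iv F43841)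
theorem F55214 : act 3 n11918 = n9327 := d25_1 D11918 (iv D9327) (iv F43843)
def n11919 : Q := act 7 n9326
theorem D11919 : act 7 n9326 = n11919 := rfl
theorem F55220 : act 6 n11919 = n9332 := d39_1 D11919 (iv D9332) (iv D7362) (iv F35093) D9326
theorem F55221 : act 8 n11919 = n9337 := d42_2 (iv F43844) D11919 (iv D9337)
def n11920 : Q := act 7 n9327
theorem D11920 : act 7 n9327 = n11920 := rfl
theorem F55226 : act 5 n11920 = n9328 := d36_1 D11920 (iv D9328) D9327
def n11921 : Q := act 8 n9327
theorem D11921 : act 8 n9327 = n11921 := rfl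
theorem F55231 : act 5 n11921 = n9339 := d37_1 D11921 (iv D9339) (iv D7367) (iv F35100) D9327
def n11922 : Q := act 0 n9329
theorem D11922 : act 0 n9329 = n11922 := rfl
def n11923 : Q := act 6 n9329
theorem D11923 : act 6 n9329 = n11923 := rfl
theorem F55239 : act 1 n11923 = n9330 := d13_1 D11923 (iv D9330) D9329
theorem F55240 : act 2 n11923 = n11923 := d20_1 D11923 (iv D11923) F43858
theorem F55241 : act 3 n11923 = n11923 := d26_1 D11923 (iv D11923) F43859
theorem F55242 : act 8 n11923 = n9341 := d40_2 (iv F43861) D11923 (iv D9341)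
theorem F55243 : act 9 n11923 = n11923 := d41_2 F43862 D11923 (iv D11923)
def n11924 : Q := act 5 n9330
theorem D11924 : act 5 n9330 = n11924 := rfl
theorem F55244 : act 0 n11924 = n9982 := d4_1 D11924 (iv D9982) (iv F43863)
theorem F55245 : act 2 n11924 = n9331 := d19_1 D11924 (iv D9331) (iv F43864)
theorem F55246 : act 3 n11924 = n11924 := d25_1 D11924 (iv D11924) F43865
theorem F55247 : act 6 n11924 = n11924 := d35_2 D9330 D11924 (iv D11924) (iv D9330) F35110
theorem F55248 : act 8 n11924 = n11924 := d37_2 (iv F43866) D11924 (iv D11924) F43866 F35159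
theorem F55249 : act 9 n11924 = n11924 := d38_2 F43867 D11924 (iv D11924)
def n11925 : Q := act 7 n9330
theorem D11925 : act 7 n9330 = n11925 := rfl
theorem F55251 : act 2 n11925 = n9332 := d21_1 D11925 (iv D9332) (iv F43864)
theorem F55252 : act 3 n11925 = n11925 := d27_1 D11925 (iv D11925) F43865
theorem F55253 : act 8 n11925 = n9342 := d42_2 (iv F43866) D11925 (iv D9342)
theorem F55254 : act 9 n11925 = n11925 := d43_2 F43867 D11925 (iv D11925)
def n11926 : Q := act 4 n9331
theorem D11926 : act 4 n9331 = n11926 := rfl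
theorem F55255 : act 0 n11926 = n9984 := d3_1 D11926 (iv D9984) (iv F43868)
theorem F55256 : act 1 n11926 = n11926 := d11_1 D11926 (iv D11926) F43869
theorem F55257 : act 3 n11926 = n11926 := d24_1 D11926 (iv D11926) F43870 F35121 (iv F43870)
theorem F55258 : act 6 n11926 = n11926 := d31_2 F43871 D11926 (iv D11926)
theorem F55259 : act 8 n11926 = n11926 := d33_2 F43872 D11926 (iv D11926)
theorem F55260 : act 9 n11926 = n11926 := d34_2 F43873 D11926 (iv D11926)
def n11927 : Q := act 7 n9331
theorem D11927 : act 7 n9331 = n11927 := rfl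
theorem F55264 : act 5 n11927 = n9332 := d36_1 D11927 (iv D9332) D9331
def n11929 : Q := act 0 n9334
theorem D11929 : act 0 n9334 = n11929 := rfl
theorem F55274 : act 1 n11929 = n9987 := d0_2 D9334 D11929 (iv D9987) (iv D7855) (iv F35131)
theorem F55278 : act 7 n11929 = n9340 := d6_2 (iv F43889) D11929 (iv D9340)
def n11930 : Q := act 6 n9334
theorem D11930 : act 6 n9334 = n11930 := rfl
def n11931 : Q := act 5 n9335
theorem D11931 : act 5 n9335 = n11931 := rfl
theorem F55284 : act 0 n11931 = n9989 := d4_1 D11931 (iv D9989) (iv F43891)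
def n11932 : Q := act 7 n9335
theorem D11932 : act 7 n9335 = n11932 := rfl
theorem F55292 : act 6 n11932 = n9342 := d39_1 D11932 (iv D9342) (iv D7370) (iv F35134) D9335
def n11933 : Q := act 4 n9336
theorem D11933 : act 4 n9336 = n11933 := rfl
theorem F55294 : act 0 n11933 = n9991 := d3_1 D11933 (iv D9991) (iv F43895)
def n11934 : Q := act 7 n9336
theorem D11934 : act 7 n9336 = n11934 := rfl
theorem F55302 : act 5 n11934 = n9337 := d36_1 D11934 (iv D9337) D9336
def n11935 : Q := act 8 n9336
theorem D11935 : act 8 n9336 = n11935 := rfl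
theorem F55305 : act 0 n11935 = n9993 := d7_1 D11935 (iv D9993) (iv F43895)
def n11936 : Q := act 8 n9338
theorem D11936 : act 8 n9338 = n11936 := rfl
theorem F55314 : act 7 n11936 = n9339 := d42_1 D11936 (iv D9339) D9338
def n11937 : Q := act 9 n9339
theorem D11937 : act 9 n9339 = n11937 := rfl
theorem F55319 : act 6 n11937 = n9348 := d41_1 D11937 (iv D9348) (iv F43916)
def n11938 : Q := act 6 n9340
theorem D11938 : act 6 n9340 = n11938 := rfl
theorem F55321 : act 0 n11938 = n9341 := d5_1 D11938 (iv D9341) D9340
def n11939 : Q := act 7 n9341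
theorem D11939 : act 7 n9341 = n11939 := rfl
def n11940 : Q := act 6 n9343
theorem D11940 : act 6 n9343 = n11940 := rfl
theorem F55332 : act 0 n11940 = n9344 := d5_1 D11940 (iv D9344) D9343
theorem F55333 : act 1 n11940 = n9998 := d13_1 D11940 (iv D9998) (iv F43932)
def n11941 : Q := act 5 n9344
theorem D11941 : act 5 n9344 = n11941 := rfl
theorem F55339 : act 1 n11941 = n9345 := d12_1 D11941 (iv D9345) (iv F43938)
def n11942 : Q := act 4 n9345
theorem D11942 : act 4 n9345 = n11942 := rfl
theorem F55345 : act 2 n11942 = n9346 := d18_1 D11942 (iv D9346) (iv F43945)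
def n11946 : Q := act 3 n9349
theorem D11946 : act 3 n9349 = n11946 := rfl
theorem F55364 : act 0 n11946 = n9358 := d2_1 D11946 (iv D9358) (iv F43966)
theorem F55365 : act 1 n11946 = n10004 := d10_1 D11946 (iv D10004) (iv F43967)
theorem F55366 : act 4 n11946 = n11946 := d24_2 D9349 D11946 (iv D11946) (iv D9349) F35197
theorem F55367 : act 7 n11946 = n9351 := d27_2 (iv F43969) D11946 (iv D9351)
theorem F55368 : act 8 n11946 = n11946 := d28_2 F43970 D11946 (iv D11946)
def n11947 : Q := act 6 n9349
theorem D11947 : act 6 n9349 = n11947 := rfl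
theorem F55369 : act 0 n11947 = n9359 := d5_1 D11947 (iv D9359) (iv F43966)
theorem F55370 : act 1 n11947 = n10005 := d13_1 D11947 (iv D10005) (iv F43967)
theorem F55371 : act 2 n11947 = n11947 := d20_1 D11947 (iv D11947) F43968
theorem F55372 : act 4 n11947 = n9350 := d31_1 D11947 (iv D9350) D9349
theorem F55373 : act 8 n11947 = n11947 := d40_2 F43970 D11947 (iv D11947)
def n11948 : Q := act 7 n9350
theorem D11948 : act 7 n9350 = n11948 := rfl
theorem F55374 : act 0 n11948 = n9360 := d6_1 D11948 (iv D9360) (iv F43971)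
theorem F55379 : act 6 n11948 = n9353 := d39_1 D11948 (iv D9353) (iv D7379) (iv F35198) D9350
def n11949 : Q := act 2 n9351
theorem D11949 : act 2 n9351 = n11949 := rfl
theorem F55381 : act 0 n11949 = n9361 := d1_1 D11949 (iv D9361) (iv F43977)
theorem F55382 : act 3 n11949 = n11949 := d17_2 D9351 D11949 (iv D11949) (iv D9351) F35202
theorem F55383 : act 4 n11949 = n11949 := d18_2 F43979 D11949 (iv D11949)
theorem F55384 : act 8 n11949 = n11949 := d22_2 F43980 D11949 (iv D11949)
def n11950 : Q := act 6 n9351
theorem D11950 : act 6 n9351 = n11950 := rfl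
theorem F55385 : act 0 n11950 = n9362 := d5_1 D11950 (iv D9362) (iv F43977)
theorem F55386 : act 1 n11950 = n10008 := d13_1 D11950 (iv D10008) (iv F43978)
theorem F55387 : act 3 n11950 = n9352 := d26_1 D11950 (iv D9352) D9351
theorem F55388 : act 4 n11950 = n11950 := d31_1 D11950 (iv D11950) F43979
theorem F55389 : act 8 n11950 = n11950 := d40_2 F43980 D11950 (iv D11950)
def n11951 : Q := act 5 n9352
theorem D11951 : act 5 n9352 = n11951 := rfl
theorem F55390 : act 0 n11951 = n9363 := d4_1 D11951 (iv D9363) (iv F43981)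
theorem F55391 : act 1 n11951 = n10009 := d12_1 D11951 (iv D10009) (iv F43982)
theorem F55393 : act 4 n11951 = n9356 := d30_1 D11951 (iv D9356) F35218 (iv F35208) (iv F43984)
def n11952 : Q := act 7 n9352
theorem D11952 : act 7 n9352 = n11952 := rfl
theorem F55394 : act 0 n11952 = n9364 := d6_1 D11952 (iv D9364) (iv F43981)
def n11953 : Q := act 1 n9354
theorem D11953 : act 1 n9354 = n11953 := rfl
theorem F55400 : act 2 n11953 = n10011 := d9_2 D9354 D11953 (iv D10011) (iv D7875) (iv F35211)
theorem F55404 : act 8 n11953 = n9423 := d15_2 (iv F43996) D11953 (iv D9423)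
def n11954 : Q := act 6 n9354
theorem D11954 : act 6 n9354 = n11954 := rfl
theorem F55405 : act 0 n11954 = n9365 := d5_1 D11954 (iv D9365) (iv F43992)
theorem F55406 : act 2 n11954 = n9355 := d20_1 D11954 (iv D9355) D9354
theorem F55409 : act 8 n11954 = n9424 := d40_2 (iv F43996) D11954 (iv D9424)
def n11955 : Q := act 5 n9355
theorem D11955 : act 5 n9355 = n11955 := rfl
theorem F55410 : act 0 n11955 = n9366 := d4_1 D11955 (iv D9366) (iv F43997)
theorem F55411 : act 1 n11955 = n10013 := d12_1 D11955 (iv D10013) (iv F43998)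
theorem F55412 : act 3 n11955 = n9356 := d25_1 D11955 (iv D9356) (iv F43999)
def n11956 : Q := act 7 n9355
theorem D11956 : act 7 n9355 = n11956 := rfl
theorem F55418 : act 8 n11956 = n9426 := d42_2 (iv F44001) D11956 (iv D9426)
def n11957 : Q := act 7 n9356
theorem D11957 : act 7 n9356 = n11957 := rfl
theorem F55419 : act 0 n11957 = n9368 := d6_1 D11957 (iv D9368) (iv F44002)
theorem F55420 : act 1 n11957 = n10015 := d14_1 D11957 (iv D10015) (iv F44003)
theorem F55422 : act 5 n11957 = n9357 := d36_1 D11957 (iv D9357) D9356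
def n11958 : Q := act 8 n9356
theorem D11958 : act 8 n9356 = n11958 := rfl
theorem F55423 : act 0 n11958 = n9369 := d7_1 D11958 (iv D9369) (iv F44002)
theorem F55424 : act 1 n11958 = n10016 := d15_1 D11958 (iv D10016) (iv F44003)
theorem F55426 : act 5 n11958 = n9428 := d37_1 D11958 (iv D9428) (iv D7437) (iv F35219) D9356
def n11959 : Q := act 2 n9358
theorem D11959 : act 2 n9358 = n11959 := rfl
theorem F55427 : act 3 n11959 = n11959 := d17_2 D9358 D11959 (iv D11959) (iv D9358) F35227
theorem F55428 : act 4 n11959 = n11959 := d18_2 F44012 D11959 (iv D11959)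
theorem F55429 : act 7 n11959 = n9361 := d21_2 (iv F44013) D11959 (iv D9361)
theorem F55430 : act 8 n11959 = n11959 := d22_2 F44014 D11959 (iv D11959)
def n11960 : Q := act 6 n9358
theorem D11960 : act 6 n9358 = n11960 := rfl
theorem F55431 : act 1 n11960 = n9371 := d13_1 D11960 (iv D9371) (iv F44011)
theorem F55432 : act 3 n11960 = n9359 := d26_1 D11960 (iv D9359) D9358
theorem F55433 : act 4 n11960 = n11960 := d31_1 D11960 (iv D11960) F44012
theorem F55434 : act 8 n11960 = n11960 := d40_2 F44014 D11960 (iv D11960)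
def n11961 : Q := act 5 n9359
theorem D11961 : act 5 n9359 = n11961 := rfl
theorem F55435 : act 1 n11961 = n9372 := d12_1 D11961 (iv D9372) (iv F44015)
theorem F55436 : act 2 n11961 = n11961 := d19_1 D11961 (iv D11961) F44016
theorem F55437 : act 4 n11961 = n11961 := d30_1 D11961 (iv D11961) F44017 F35233 (iv F44017)
def n11962 : Q := act 7 n9359
theorem D11962 : act 7 n9359 = n11962 := rfl
theorem F55438 : act 1 n11962 = n9373 := d14_1 D11962 (iv D9373) (iv F44015)
theorem F55439 : act 2 n11962 = n11962 := d21_1 D11962 (iv D11962) F44016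
theorem F55440 : act 4 n11962 = n9360 := d32_1 D11962 (iv D9360) (iv F44017)
theorem F55441 : act 6 n11962 = n9364 := d39_1 D11962 (iv D9364) (iv D7386) (iv F35228) D9359
theorem F55442 : act 8 n11962 = n11962 := d42_2 F44018 D11962 (iv D11962)
def n11963 : Q := act 1 n9361
theorem D11963 : act 1 n9361 = n11963 := rfl
theorem F55443 : act 2 n11963 = n9374 := d9_2 D9361 D11963 (iv D9374) (iv D7395) (iv F35235)
theorem F55444 : act 3 n11963 = n11963 := d10_2 F44025 D11963 (iv D11963)
theorem F55445 : act 4 n11963 = n11963 := d11_2 F44026 D11963 (iv D11963)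
theorem F55446 : act 8 n11963 = n11963 := d15_2 F44027 D11963 (iv D11963)
def n11964 : Q := act 6 n9361
theorem D11964 : act 6 n9361 = n11964 := rfl
theorem F55447 : act 2 n11964 = n9362 := d20_1 D11964 (iv D9362) D9361
theorem F55448 : act 3 n11964 = n11964 := d26_1 D11964 (iv D11964) F44025
theorem F55449 : act 4 n11964 = n11964 := d31_1 D11964 (iv D11964) F44026
theorem F55450 : act 8 n11964 = n11964 := d40_2 F44027 D11964 (iv D11964)
def n11965 : Q := act 5 n9362
theorem D11965 : act 5 n9362 = n11965 := rfl
theorem F55451 : act 1 n11965 = n9376 := d12_1 D11965 (iv D9376) (iv F44028)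
theorem F55452 : act 3 n11965 = n9363 := d25_1 D11965 (iv D9363) (iv F44029)
def n11966 : Q := act 7 n9362
theorem D11966 : act 7 n9362 = n11966 := rfl
theorem F55453 : act 1 n11966 = n9377 := d14_1 D11966 (iv D9377) (iv F44028)
theorem F55454 : act 3 n11966 = n9364 := d27_1 D11966 (iv D9364) (iv F44029)
theorem F55455 : act 4 n11966 = n11966 := d32_1 D11966 (iv D11966) F44030
theorem F55456 : act 8 n11966 = n11966 := d42_2 F44031 D11966 (iv D11966)
def n11967 : Q := act 7 n9363
theorem D11967 : act 7 n9363 = n11967 := rfl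
theorem F55457 : act 1 n11967 = n9378 := d14_1 D11967 (iv D9378) (iv F44032)
theorem F55459 : act 4 n11967 = n9368 := d32_1 D11967 (iv D9368) (iv F44034)
theorem F55460 : act 5 n11967 = n9364 := d36_1 D11967 (iv D9364) D9363
def n11968 : Q := act 8 n9363
theorem D11968 : act 8 n9363 = n11968 := rfl
theorem F55461 : act 1 n11968 = n9379 := d15_1 D11968 (iv D9379) (iv F44032)
theorem F55462 : act 2 n11968 = n11968 := d22_1 D11968 (iv D11968) F44033
theorem F55463 : act 4 n11968 = n9369 := d33_1 D11968 (iv D9369) (iv F44034)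
theorem F55464 : act 5 n11968 = n11968 := d37_1 D11968 (iv D11968) (iv D9363) F35241 D9363
def n11969 : Q := act 5 n9365
theorem D11969 : act 5 n9365 = n11969 := rfl
theorem F55466 : act 2 n11969 = n9366 := d19_1 D11969 (iv D9366) (iv F44040)
def n11971 : Q := act 4 n9366
theorem D11971 : act 4 n9366 = n11971 := rfl
theorem F55474 : act 1 n11971 = n9380 := d11_1 D11971 (iv D9380) (iv F44044)
theorem F55475 : act 5 n11971 = n11971 := d30_2 D9366 D11971 (iv D11971) (iv D9366) F35254
def n11972 : Q := act 7 n9366
theorem D11972 : act 7 n9366 = n11972 := rfl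
theorem F55478 : act 5 n11972 = n9367 := d36_1 D11972 (iv D9367) D9366
def n11973 : Q := act 8 n9366
theorem D11973 : act 8 n9366 = n11973 := rfl
theorem F55481 : act 5 n11973 = n9433 := d37_1 D11973 (iv D9433) (iv D7440) (iv F35255) D9366
def n11974 : Q := act 6 n9368
theorem D11974 : act 6 n9368 = n11974 := rfl
theorem F55482 : act 1 n11974 = n9383 := d13_1 D11974 (iv D9383) (iv F44051)
def n11975 : Q := act 8 n9368
theorem D11975 : act 8 n9368 = n11975 := rfl
theorem F55487 : act 5 n11975 = n9435 := d37_1 D11975 (iv D9435) F35501 (iv F35262) (iv F44053)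
theorem F55488 : act 7 n11975 = n9369 := d42_1 D11975 (iv D9369) D9368
def n11976 : Q := act 9 n9369
theorem D11976 : act 9 n9369 = n11976 := rfl
theorem F55489 : act 1 n11976 = n9385 := d16_1 D11976 (iv D9385) (iv F44054)
def n11977 : Q := act 1 n9370
theorem D11977 : act 1 n9370 = n11977 := rfl
theorem F55492 : act 3 n11977 = n9386 := d10_2 (iv F44058) D11977 (iv D9386)
theorem F55494 : act 7 n11977 = n9374 := d14_2 (iv F44060) D11977 (iv D9374)
def n11978 : Q := act 6 n9370
theorem D11978 : act 6 n9370 = n11978 := rfl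
theorem F55496 : act 0 n11978 = n10036 := d5_1 D11978 (iv D10036) (iv F44057)
theorem F55497 : act 2 n11978 = n9371 := d20_1 D11978 (iv D9371) D9370
theorem F55498 : act 3 n11978 = n9387 := d26_1 D11978 (iv D9387) (iv F44058)
def n11979 : Q := act 5 n9371
theorem D11979 : act 5 n9371 = n11979 := rfl
theorem F55501 : act 0 n11979 = n10037 := d4_1 D11979 (iv D10037) (iv F44062)
theorem F55502 : act 3 n11979 = n9372 := d25_1 D11979 (iv D9372) (iv F44063)
def n11980 : Q := act 7 n9371
theorem D11980 : act 7 n9371 = n11980 := rfl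
theorem F55504 : act 3 n11980 = n9373 := d27_1 D11980 (iv D9373) (iv F44063)
theorem F55505 : act 4 n11980 = n11980 := d32_1 D11980 (iv D11980) F44064
theorem F55506 : act 6 n11980 = n9377 := d39_1 D11980 (iv D9377) (iv D7396) (iv F35265) D9371
theorem F55507 : act 8 n11980 = n11980 := d42_2 F44065 D11980 (iv D11980)
def n11981 : Q := act 7 n9372
theorem D11981 : act 7 n9372 = n11981 := rfl
theorem F55508 : act 0 n11981 = n10039 := d6_1 D11981 (iv D10039) (iv F44066)
theorem F55509 : act 2 n11981 = n9390 := d21_1 D11981 (iv D9390) (iv F44067)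
theorem F55510 : act 4 n11981 = n11981 := d32_1 D11981 (iv D11981) F44068
theorem F55511 : act 5 n11981 = n9373 := d36_1 D11981 (iv D9373) D9372
def n11982 : Q := act 8 n9372
theorem D11982 : act 8 n9372 = n11982 := rfl
theorem F55512 : act 0 n11982 = n10040 := d7_1 D11982 (iv D10040) (iv F44066)
theorem F55513 : act 2 n11982 = n9391 := d22_1 D11982 (iv D9391) (iv F44067)
theorem F55514 : act 4 n11982 = n11982 := d33_1 D11982 (iv D11982) F44068
theorem F55515 : act 5 n11982 = n11982 := d37_1 D11982 (iv D11982) (iv D9372) F35270 D9372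
def n11983 : Q := act 0 n9374
theorem D11983 : act 0 n9374 = n11983 := rfl
theorem F55516 : act 1 n11983 = n10041 := d0_2 D9374 D11983 (iv D10041) (iv D7895) (iv F35277)
def n11984 : Q := act 6 n9374
theorem D11984 : act 6 n9374 = n11984 := rfl
theorem F55520 : act 1 n11984 = n9375 := d13_1 D11984 (iv D9375) D9374
theorem F55521 : act 3 n11984 = n9393 := d26_1 D11984 (iv D9393) (iv F44074)
theorem F55522 : act 4 n11984 = n11984 := d31_1 D11984 (iv D11984) F44075
theorem F55523 : act 8 n11984 = n11984 := d40_2 F44076 D11984 (iv D11984)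
def n11985 : Q := act 5 n9375
theorem D11985 : act 5 n9375 = n11985 := rfl
theorem F55524 : act 0 n11985 = n10043 := d4_1 D11985 (iv D10043) (iv F44077)
theorem F55525 : act 2 n11985 = n9376 := d19_1 D11985 (iv D9376) (iv F44078)
theorem F55526 : act 3 n11985 = n9394 := d25_1 D11985 (iv D9394) (iv F44079)
def n11986 : Q := act 7 n9375
theorem D11986 : act 7 n9375 = n11986 := rfl
theorem F55528 : act 2 n11986 = n9377 := d21_1 D11986 (iv D9377) (iv F44078)
theorem F55529 : act 3 n11986 = n9395 := d27_1 D11986 (iv D9395) (iv F44079)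
theorem F55530 : act 4 n11986 = n11986 := d32_1 D11986 (iv D11986) F44080
theorem F55531 : act 8 n11986 = n11986 := d42_2 F44081 D11986 (iv D11986)
def n11987 : Q := act 4 n9376
theorem D11987 : act 4 n9376 = n11987 := rfl
theorem F55532 : act 0 n11987 = n10045 := d3_1 D11987 (iv D10045) (iv F44082)
theorem F55533 : act 3 n11987 = n9380 := d24_1 D11987 (iv D9380) F35294 (iv F35287) (iv F44083)
theorem F55534 : act 5 n11987 = n11987 := d30_2 D9376 D11987 (iv D11987) (iv D9376) F35283
def n11988 : Q := act 7 n9376
theorem D11988 : act 7 n9376 = n11988 := rfl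
theorem F55535 : act 0 n11988 = n10046 := d6_1 D11988 (iv D10046) (iv F44082)
theorem F55536 : act 3 n11988 = n9378 := d27_1 D11988 (iv D9378) (iv F44083)
theorem F55537 : act 5 n11988 = n9377 := d36_1 D11988 (iv D9377) D9376
def n11989 : Q := act 8 n9376
theorem D11989 : act 8 n9376 = n11989 := rfl
theorem F55538 : act 0 n11989 = n10047 := d7_1 D11989 (iv D10047) (iv F44082)
theorem F55539 : act 3 n11989 = n9379 := d28_1 D11989 (iv D9379) (iv F44083)
theorem F55540 : act 5 n11989 = n11989 := d37_1 D11989 (iv D11989) (iv D9376) F35284 D9376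
def n11990 : Q := act 6 n9378
theorem D11990 : act 6 n9378 = n11990 := rfl
theorem F55541 : act 0 n11990 = n10048 := d5_1 D11990 (iv D10048) (iv F44088)
theorem F55542 : act 2 n11990 = n9398 := d20_1 D11990 (iv D9398) (iv F44089)
theorem F55543 : act 4 n11990 = n9383 := d31_1 D11990 (iv D9383) (iv F44090)
def n11991 : Q := act 8 n9378
theorem D11991 : act 8 n9378 = n11991 := rfl
theorem F55546 : act 4 n11991 = n9384 := d33_1 D11991 (iv D9384) (iv F44090)
theorem F55548 : act 7 n11991 = n9379 := d42_1 D11991 (iv D9379) D9378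
def n11992 : Q := act 9 n9379
theorem D11992 : act 9 n9379 = n11992 := rfl
theorem F55549 : act 0 n11992 = n10050 := d8_1 D11992 (iv D10050) (iv F44092)
theorem F55550 : act 2 n11992 = n9400 := d23_1 D11992 (iv D9400) (iv F44093)
theorem F55551 : act 4 n11992 = n9385 := d34_1 D11992 (iv D9385) (iv F44094)
theorem F55552 : act 5 n11992 = n11992 := d38_1 D11992 (iv D11992) F44095
def n11993 : Q := act 7 n9380
theorem D11993 : act 7 n9380 = n11993 := rfl
theorem F55553 : act 0 n11993 = n10051 := d6_1 D11993 (iv D10051) (iv F44096)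
def n11994 : Q := act 8 n9380
theorem D11994 : act 8 n9380 = n11994 := rfl
theorem F55557 : act 0 n11994 = n10052 := d7_1 D11994 (iv D10052) (iv F44096)
theorem F55559 : act 4 n11994 = n9382 := d33_1 D11994 (iv D9382) D9380
def n11995 : Q := act 6 n9381
theorem D11995 : act 6 n9381 = n11995 := rfl
theorem F55562 : act 3 n11995 = n9383 := d26_1 D11995 (iv D9383) (iv F44101)
def n11996 : Q := act 8 n9381
theorem D11996 : act 8 n9381 = n11996 := rfl
theorem F55566 : act 3 n11996 = n9384 := d28_1 D11996 (iv D9384) (iv F44101)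
theorem F55567 : act 5 n11996 = n9440 := d37_1 D11996 (iv D9440) F35516 (iv F35300) (iv F44102)
def n11998 : Q := act 8 n9383
theorem D11998 : act 8 n9383 = n11998 := rfl
theorem F55574 : act 2 n11998 = n9401 := d22_1 D11998 (iv D9401) (iv F44108)
theorem F55575 : act 6 n11998 = n9384 := d40_1 D11998 (iv D9384) D9383
def n11999 : Q := act 9 n9384
theorem D11999 : act 9 n9384 = n11999 := rfl
theorem F55577 : act 2 n11999 = n9402 := d23_1 D11999 (iv D9402) (iv F44111)
theorem F55579 : act 7 n11999 = n9385 := d43_1 D11999 (iv D9385) (iv F44113)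
def n12000 : Q := act 0 n9386
theorem D12000 : act 0 n9386 = n12000 := rfl
theorem F55582 : act 4 n12000 = n9403 := d3_2 (iv F44118) D12000 (iv D9403)
theorem F55583 : act 7 n12000 = n9392 := d6_2 (iv F44119) D12000 (iv D9392)
def n12001 : Q := act 6 n9386
theorem D12001 : act 6 n9386 = n12001 := rfl
theorem F55585 : act 1 n12001 = n9387 := d13_1 D12001 (iv D9387) D9386
theorem F55587 : act 4 n12001 = n9404 := d31_1 D12001 (iv D9404) (iv F44118)
def n12002 : Q := act 5 n9387
theorem D12002 : act 5 n9387 = n12002 := rfl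
theorem F55589 : act 0 n12002 = n10060 := d4_1 D12002 (iv D10060) (iv F44121)
def n12003 : Q := act 7 n9387
theorem D12003 : act 7 n9387 = n12003 := rfl
theorem F55593 : act 4 n12003 = n9406 := d32_1 D12003 (iv D9406) (iv F44123)
theorem F55594 : act 6 n12003 = n9395 := d39_1 D12003 (iv D9395) (iv D7408) (iv F35309) D9387
def n12004 : Q := act 4 n9388
theorem D12004 : act 4 n9388 = n12004 := rfl
theorem F55596 : act 0 n12004 = n10062 := d3_1 D12004 (iv D10062) (iv F44125)
theorem F55599 : act 5 n12004 = n9407 := d30_2 D9388 D12004 (iv D9407) (iv D7418) (iv F35314)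
def n12005 : Q := act 7 n9388
theorem D12005 : act 7 n9388 = n12005 := rfl
theorem F55602 : act 3 n12005 = n9390 := d27_1 D12005 (iv D9390) (iv F44127)
theorem F55603 : act 5 n12005 = n9389 := d36_1 D12005 (iv D9389) D9388
def n12006 : Q := act 8 n9388
theorem D12006 : act 8 n9388 = n12006 := rfl
theorem F55606 : act 3 n12006 = n9391 := d28_1 D12006 (iv D9391) (iv F44127)
def n12007 : Q := act 6 n9390
theorem D12007 : act 6 n9390 = n12007 := rfl
theorem F55608 : act 0 n12007 = n10065 := d5_1 D12007 (iv D10065) (iv F44134)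
theorem F55609 : act 1 n12007 = n12007 := d13_1 D12007 (iv D12007) F44135
theorem F55610 : act 4 n12007 = n12007 := d31_1 D12007 (iv D12007) F44136
theorem F55611 : act 5 n12007 = n9398 := d35_1 D12007 (iv D9398) F35343 (iv F35322) (iv F44137)
def n12008 : Q := act 8 n9390
theorem D12008 : act 8 n9390 = n12008 := rfl
theorem F55612 : act 0 n12008 = n10066 := d7_1 D12008 (iv D10066) (iv F44134)
theorem F55613 : act 1 n12008 = n12008 := d15_1 D12008 (iv D12008) F44135
theorem F55614 : act 4 n12008 = n12008 := d33_1 D12008 (iv D12008) F44136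
theorem F55615 : act 5 n12008 = n12008 := d37_1 D12008 (iv D12008) F44137 F35323 (iv F44137)
theorem F55616 : act 7 n12008 = n9391 := d42_1 D12008 (iv D9391) D9390
def n12009 : Q := act 9 n9391
theorem D12009 : act 9 n9391 = n12009 := rfl
theorem F55617 : act 0 n12009 = n10067 := d8_1 D12009 (iv D10067) (iv F44138)
theorem F55618 : act 1 n12009 = n12009 := d16_1 D12009 (iv D12009) F44139
theorem F55619 : act 4 n12009 = n12009 := d34_1 D12009 (iv D12009) F44140
theorem F55620 : act 5 n12009 = n12009 := d38_1 D12009 (iv D12009) F44141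
def n12010 : Q := act 6 n9392
theorem D12010 : act 6 n9392 = n12010 := rfl
theorem F55621 : act 0 n12010 = n9393 := d5_1 D12010 (iv D9393) D9392
def n12011 : Q := act 5 n9393
theorem D12011 : act 5 n9393 = n12011 := rfl
theorem F55626 : act 1 n12011 = n9394 := d12_1 D12011 (iv D9394) (iv F44146)
theorem F55627 : act 2 n12011 = n12011 := d19_1 D12011 (iv D12011) F44147
theorem F55628 : act 4 n12011 = n12011 := d30_1 D12011 (iv D12011) F44148 F35399 (iv F44148)
def n12012 : Q := act 7 n9393
theorem D12012 : act 7 n9393 = n12012 := rfl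
def n12013 : Q := act 7 n9394
theorem D12013 : act 7 n9394 = n12013 := rfl
theorem F55633 : act 0 n12013 = n10071 := d6_1 D12013 (iv D10071) (iv F44150)
theorem F55634 : act 2 n12013 = n9396 := d21_1 D12013 (iv D9396) (iv F44151)
theorem F55635 : act 4 n12013 = n12013 := d32_1 D12013 (iv D12013) F44152
theorem F55636 : act 5 n12013 = n9395 := d36_1 D12013 (iv D9395) D9394
def n12014 : Q := act 8 n9394
theorem D12014 : act 8 n9394 = n12014 := rfl
theorem F55637 : act 0 n12014 = n10072 := d7_1 D12014 (iv D10072) (iv F44150)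
theorem F55638 : act 2 n12014 = n9397 := d22_1 D12014 (iv D9397) (iv F44151)
theorem F55639 : act 4 n12014 = n12014 := d33_1 D12014 (iv D12014) F44152
theorem F55640 : act 5 n12014 = n12014 := d37_1 D12014 (iv D12014) (iv D9394) F35330 D9394
def n12015 : Q := act 6 n9396
theorem D12015 : act 6 n9396 = n12015 := rfl
theorem F55641 : act 0 n12015 = n10073 := d5_1 D12015 (iv D10073) (iv F44157)
theorem F55642 : act 1 n12015 = n12015 := d13_1 D12015 (iv D12015) F44158
theorem F55643 : act 3 n12015 = n9398 := d26_1 D12015 (iv D9398) (iv F44159)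
theorem F55644 : act 4 n12015 = n12015 := d31_1 D12015 (iv D12015) F44160
def n12016 : Q := act 8 n9396
theorem D12016 : act 8 n9396 = n12016 := rfl
theorem F55645 : act 0 n12016 = n10074 := d7_1 D12016 (iv D10074) (iv F44157)
theorem F55646 : act 1 n12016 = n12016 := d15_1 D12016 (iv D12016) F44158
theorem F55647 : act 3 n12016 = n9399 := d28_1 D12016 (iv D9399) (iv F44159)
theorem F55648 : act 4 n12016 = n12016 := d33_1 D12016 (iv D12016) F44160
theorem F55649 : act 5 n12016 = n12016 := d37_1 D12016 (iv D12016) F44161 F35339 (iv F44161)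
theorem F55650 : act 7 n12016 = n9397 := d42_1 D12016 (iv D9397) D9396
def n12017 : Q := act 9 n9397
theorem D12017 : act 9 n9397 = n12017 := rfl
theorem F55651 : act 0 n12017 = n10075 := d8_1 D12017 (iv D10075) (iv F44162)
theorem F55652 : act 1 n12017 = n12017 := d16_1 D12017 (iv D12017) F44163
theorem F55653 : act 3 n12017 = n9400 := d29_1 D12017 (iv D9400) (iv F44164)
theorem F55654 : act 4 n12017 = n12017 := d34_1 D12017 (iv D12017) F44165
theorem F55655 : act 5 n12017 = n12017 := d38_1 D12017 (iv D12017) F44166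
def n12018 : Q := act 8 n9398
theorem D12018 : act 8 n9398 = n12018 := rfl
theorem F55656 : act 0 n12018 = n10076 := d7_1 D12018 (iv D10076) (iv F44167)
theorem F55657 : act 1 n12018 = n12018 := d15_1 D12018 (iv D12018) F44168
theorem F55658 : act 4 n12018 = n9401 := d33_1 D12018 (iv D9401) (iv F44169)
theorem F55659 : act 6 n12018 = n9399 := d40_1 D12018 (iv D9399) D9398
def n12019 : Q := act 9 n9399
theorem D12019 : act 9 n9399 = n12019 := rfl
theorem F55660 : act 0 n12019 = n10077 := d8_1 D12019 (iv D10077) (iv F44170)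
theorem F55661 : act 1 n12019 = n12019 := d16_1 D12019 (iv D12019) F44171
theorem F55662 : act 4 n12019 = n9402 := d34_1 D12019 (iv D9402) (iv F44172)
theorem F55663 : act 5 n12019 = n12019 := d38_1 D12019 (iv D12019) F44173
theorem F55664 : act 7 n12019 = n9400 := d43_1 D12019 (iv D9400) (iv F44174)
def n12020 : Q := act 5 n9401
theorem D12020 : act 5 n9401 = n12020 := rfl
theorem F55668 : act 6 n12020 = n9444 := d35_2 (iv F44182) D12020 (iv D9444) F35541 (iv F35355)
def n12021 : Q := act 9 n9401
theorem D12021 : act 9 n9401 = n12021 := rfl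
theorem F55670 : act 0 n12021 = n10079 := d8_1 D12021 (iv D10079) (iv F44179)
theorem F55671 : act 1 n12021 = n12021 := d16_1 D12021 (iv D12021) F44180
theorem F55672 : act 3 n12021 = n12021 := d29_1 D12021 (iv D12021) F44181
theorem F55673 : act 6 n12021 = n9402 := d41_1 D12021 (iv D9402) (iv F44182)
def n12022 : Q := act 6 n9403
theorem D12022 : act 6 n9403 = n12022 := rfl
theorem F55674 : act 0 n12022 = n9404 := d5_1 D12022 (iv D9404) D9403
theorem F55675 : act 1 n12022 = n10080 := d13_1 D12022 (iv D10080) (iv F44188)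
def n12023 : Q := act 5 n9404
theorem D12023 : act 5 n9404 = n12023 := rfl
def n12024 : Q := act 7 n9404
theorem D12024 : act 7 n9404 = n12024 := rfl
theorem F55683 : act 1 n12024 = n9406 := d14_1 D12024 (iv D9406) (iv F44194)
theorem F55686 : act 6 n12024 = n9413 := d39_1 D12024 (iv D9413) (iv D7423) (iv F35364) D9404
def n12025 : Q := act 4 n9405
theorem D12025 : act 4 n9405 = n12025 := rfl
theorem F55688 : act 0 n12025 = n10083 := d3_1 D12025 (iv D10083) (iv F44198)
theorem F55689 : act 2 n12025 = n9407 := d18_1 D12025 (iv D9407) (iv F44199)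
theorem F55690 : act 6 n12025 = n9416 := d31_2 (iv F44201) D12025 (iv D9416)
def n12026 : Q := act 7 n9405
theorem D12026 : act 7 n9405 = n12026 := rfl
theorem F55694 : act 5 n12026 = n9406 := d36_1 D12026 (iv D9406) D9405
def n12027 : Q := act 8 n9405
theorem D12027 : act 8 n9405 = n12027 := rfl
theorem F55696 : act 0 n12027 = n10085 := d7_1 D12027 (iv D10085) (iv F44198)
theorem F55699 : act 5 n12027 = n12027 := d37_1 D12027 (iv D12027) (iv D9405) F35369 D9405
def n12028 : Q := act 7 n9407
theorem D12028 : act 7 n9407 = n12028 := rfl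
theorem F55701 : act 0 n12028 = n10086 := d6_1 D12028 (iv D10086) (iv F44207)
def n12029 : Q := act 8 n9407
theorem D12029 : act 8 n9407 = n12029 := rfl
theorem F55706 : act 0 n12029 = n10087 := d7_1 D12029 (iv D10087) (iv F44207)
def n12030 : Q := act 8 n9408
theorem D12030 : act 8 n9408 = n12030 := rfl
theorem F55716 : act 7 n12030 = n9409 := d42_1 D12030 (iv D9409) D9408
def n12031 : Q := act 9 n9409
theorem D12031 : act 9 n9409 = n12031 := rfl
theorem F55717 : act 0 n12031 = n10089 := d8_1 D12031 (iv D10089) (iv F44216)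
def n12033 : Q := act 7 n9412
theorem D12033 : act 7 n9412 = n12033 := rfl
def n12034 : Q := act 5 n9414
theorem D12034 : act 5 n9414 = n12034 := rfl
theorem F55735 : act 0 n12034 = n9415 := d4_1 D12034 (iv D9415) (iv F44245)
theorem F55736 : act 1 n12034 = n10092 := d12_1 D12034 (iv D10092) (iv F44246)
def n12035 : Q := act 4 n9415
theorem D12035 : act 4 n9415 = n12035 := rfl
def n12036 : Q := act 8 n9415
theorem D12036 : act 8 n9415 = n12036 := rfl
def n12038 : Q := act 8 n9416
theorem D12038 : act 8 n9416 = n12038 := rfl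
theorem F55756 : act 7 n12038 = n12038 := d42_1 D12038 (iv D12038) F44257
def n12041 : Q := act 8 n9420
theorem D12041 : act 8 n9420 = n12041 := rfl
theorem F55768 : act 0 n12041 = n9421 := d7_1 D12041 (iv D9421) (iv F44274)
theorem F55769 : act 1 n12041 = n10099 := d15_1 D12041 (iv D10099) (iv F44275)
def n12043 : Q := act 6 n9423
theorem D12043 : act 6 n9423 = n12043 := rfl
theorem F55784 : act 2 n12043 = n10101 := d20_1 D12043 (iv D10101) (iv F44296)
def n12044 : Q := act 5 n9424
theorem D12044 : act 5 n9424 = n12044 := rfl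
def n12045 : Q := act 7 n9424
theorem D12045 : act 7 n9424 = n12045 := rfl
def n12046 : Q := act 4 n9425
theorem D12046 : act 4 n9425 = n12046 := rfl
theorem F55800 : act 1 n12046 = n10104 := d11_1 D12046 (iv D10104) (iv F44308)
def n12047 : Q := act 7 n9425
theorem D12047 : act 7 n9425 = n12047 := rfl
theorem F55807 : act 3 n12047 = n9427 := d27_1 D12047 (iv D9427) (iv F44309)
theorem F55808 : act 5 n12047 = n9426 := d36_1 D12047 (iv D9426) D9425
def n12048 : Q := act 8 n9425
theorem D12048 : act 8 n9425 = n12048 := rfl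
theorem F55810 : act 0 n12048 = n9433 := d7_1 D12048 (iv D9433) (iv F44307)
theorem F55811 : act 1 n12048 = n10106 := d15_1 D12048 (iv D10106) (iv F44308)
def n12049 : Q := act 6 n9427
theorem D12049 : act 6 n9427 = n12049 := rfl
theorem F55815 : act 1 n12049 = n10107 := d13_1 D12049 (iv D10107) (iv F44319)
def n12050 : Q := act 8 n9427
theorem D12050 : act 8 n9427 = n12050 := rfl
def n12051 : Q := act 9 n9428
theorem D12051 : act 9 n9428 = n12051 := rfl
theorem F55827 : act 1 n12051 = n10109 := d16_1 D12051 (iv D10109) (iv F44325)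
def n12052 : Q := act 4 n9429
theorem D12052 : act 4 n9429 = n12052 := rfl
theorem F55833 : act 2 n12052 = n9431 := d18_1 D12052 (iv D9431) (iv F44330)
def n12053 : Q := act 7 n9429
theorem D12053 : act 7 n9429 = n12053 := rfl
theorem F55840 : act 5 n12053 = n9430 := d36_1 D12053 (iv D9430) D9429
def n12054 : Q := act 8 n9429
theorem D12054 : act 8 n9429 = n12054 := rfl
theorem F55843 : act 2 n12054 = n9433 := d22_1 D12054 (iv D9433) (iv F44330)
def n12055 : Q := act 7 n9431
theorem D12055 : act 7 n9431 = n12055 := rfl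
theorem F55846 : act 1 n12055 = n9437 := d14_1 D12055 (iv D9437) (iv F44340)
theorem F55848 : act 4 n12055 = n9432 := d32_1 D12055 (iv D9432) D9431
def n12056 : Q := act 8 n9431
theorem D12056 : act 8 n9431 = n12056 := rfl
theorem F55853 : act 4 n12056 = n9433 := d33_1 D12056 (iv D9433) D9431
def n12057 : Q := act 6 n9432
theorem D12057 : act 6 n9432 = n12057 := rfl
theorem F55856 : act 3 n12057 = n9434 := d26_1 D12057 (iv D9434) (iv F44346)
def n12058 : Q := act 8 n9432
theorem D12058 : act 8 n9432 = n12058 := rfl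
def n12060 : Q := act 8 n9434
theorem D12060 : act 8 n9434 = n12060 := rfl
theorem F55870 : act 6 n12060 = n9435 := d40_1 D12060 (iv D9435) D9434
def n12061 : Q := act 9 n9435
theorem D12061 : act 9 n9435 = n12061 := rfl
theorem F55875 : act 7 n12061 = n9436 := d43_1 D12061 (iv D9436) (iv F44361)
def n12062 : Q := act 6 n9437
theorem D12062 : act 6 n9437 = n12062 := rfl
theorem F55877 : act 0 n12062 = n10120 := d5_1 D12062 (iv D10120) (iv F44367)
theorem F55880 : act 4 n12062 = n9439 := d31_1 D12062 (iv D9439) (iv F44370)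
def n12063 : Q := act 8 n9437
theorem D12063 : act 8 n9437 = n12063 := rfl
theorem F55887 : act 7 n12063 = n9438 := d42_1 D12063 (iv D9438) D9437
def n12064 : Q := act 5 n9438
theorem D12064 : act 5 n9438 = n12064 := rfl
theorem F55888 : act 0 n12064 = n10122 := d4_1 D12064 (iv D10122) (iv F44373)
def n12065 : Q := act 9 n9438
theorem D12065 : act 9 n9438 = n12065 := rfl
theorem F55892 : act 0 n12065 = n10123 := d8_1 D12065 (iv D10123) (iv F44373)
def n12066 : Q := act 8 n9439
theorem D12066 : act 8 n9439 = n12066 := rfl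
theorem F55900 : act 3 n12066 = n9442 := d28_1 D12066 (iv D9442) (iv F44380)
theorem F55901 : act 6 n12066 = n9440 := d40_1 D12066 (iv D9440) D9439
def n12067 : Q := act 9 n9440
theorem D12067 : act 9 n9440 = n12067 := rfl
def n12068 : Q := act 5 n9442
theorem D12068 : act 5 n9442 = n12068 := rfl
theorem F55909 : act 2 n12068 = n9444 := d19_1 D12068 (iv D9444) (iv F44394)
def n12069 : Q := act 9 n9442
theorem D12069 : act 9 n9442 = n12069 := rfl
theorem F55913 : act 2 n12069 = n9445 := d23_1 D12069 (iv D9445) (iv F44394)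
theorem F55915 : act 6 n12069 = n9443 := d41_1 D12069 (iv D9443) (iv F44396)
def n12070 : Q := act 4 n9444
theorem D12070 : act 4 n9444 = n12070 := rfl
def n12071 : Q := act 9 n9444
theorem D12071 : act 9 n9444 = n12071 := rfl
def n12072 : Q := act 4 n9446
theorem D12072 : act 4 n9446 = n12072 := rfl
theorem F55928 : act 1 n12072 = n9448 := d11_1 D12072 (iv D9448) (iv F44415)
theorem F55929 : act 2 n12072 = n12072 := d18_1 D12072 (iv D12072) F44416
theorem F55930 : act 5 n12072 = n9463 := d30_2 D9446 D12072 (iv D9463) (iv D7467) (iv F35552)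
theorem F55931 : act 7 n12072 = n12072 := d32_2 F44418 D12072 (iv D12072)
theorem F55932 : act 8 n12072 = n12072 := d33_2 F44419 D12072 (iv D12072)
theorem F55933 : act 9 n12072 = n12072 := d34_2 F44420 D12072 (iv D12072)
def n12073 : Q := act 6 n9446
theorem D12073 : act 6 n9446 = n12073 := rfl
theorem F55934 : act 1 n12073 = n9449 := d13_1 D12073 (iv D9449) (iv F44415)
theorem F55935 : act 2 n12073 = n12073 := d20_1 D12073 (iv D12073) F44416
theorem F55936 : act 3 n12073 = n12073 := d26_1 D12073 (iv D12073) F44417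
theorem F55937 : act 8 n12073 = n12073 := d40_2 F44419 D12073 (iv D12073)
theorem F55938 : act 9 n12073 = n12073 := d41_2 F44420 D12073 (iv D12073)
def n12074 : Q := act 4 n9447
theorem D12074 : act 4 n9447 = n12074 := rfl
theorem F55939 : act 0 n12074 = n9882 := d3_1 D12074 (iv D9882) (iv F44421)
theorem F55940 : act 2 n12074 = n9450 := d18_1 D12074 (iv D9450) (iv F44422)
theorem F55941 : act 5 n12074 = n9469 := d30_2 D9447 D12074 (iv D9469) (iv D7472) (iv F35558)
theorem F55942 : act 7 n12074 = n9869 := d32_2 (iv F44424) D12074 (iv D9869)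
theorem F55943 : act 8 n12074 = n9871 := d33_2 (iv F44425) D12074 (iv D9871)
theorem F55944 : act 9 n12074 = n12074 := d34_2 F44426 D12074 (iv D12074)
def n12075 : Q := act 6 n9447
theorem D12075 : act 6 n9447 = n12075 := rfl
theorem F55945 : act 0 n12075 = n9883 := d5_1 D12075 (iv D9883) (iv F44421)
theorem F55948 : act 5 n12075 = n9449 := d35_1 D12075 (iv D9449) (iv D7454) (iv F35559) D9447
def n12076 : Q := act 3 n9448
theorem D12076 : act 3 n9448 = n12076 := rfl
theorem F55951 : act 2 n12076 = n12076 := d17_1 D12076 (iv D12076) F44427 F35574 (iv F44427)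
theorem F55952 : act 4 n12076 = n12076 := d24_2 D9448 D12076 (iv D12076) (iv D9448) F35563
theorem F55953 : act 5 n12076 = n9471 := d25_2 (iv F44428) D12076 (iv D9471)
theorem F55954 : act 7 n12076 = n12076 := d27_2 F44429 D12076 (iv D12076)
theorem F55955 : act 8 n12076 = n12076 := d28_2 F44430 D12076 (iv D12076)
theorem F55956 : act 9 n12076 = n12076 := d29_2 F44431 D12076 (iv D12076)
def n12077 : Q := act 6 n9448
theorem D12077 : act 6 n9448 = n12077 := rfl
theorem F55957 : act 2 n12077 = n9452 := d20_1 D12077 (iv D9452) (iv F44427)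
theorem F55958 : act 4 n12077 = n9449 := d31_1 D12077 (iv D9449) D9448
theorem F55959 : act 8 n12077 = n12077 := d40_2 F44430 D12077 (iv D12077)
theorem F55960 : act 9 n12077 = n12077 := d41_2 F44431 D12077 (iv D12077)
def n12078 : Q := act 7 n9449
theorem D12078 : act 7 n9449 = n12078 := rfl
def n12079 : Q := act 3 n9450
theorem D12079 : act 3 n9450 = n12079 := rfl
theorem F55969 : act 5 n12079 = n9480 := d25_2 (iv F44438) D12079 (iv D9480)
theorem F55970 : act 7 n12079 = n10570 := d27_2 (iv F44439) D12079 (iv D10570)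
theorem F55971 : act 8 n12079 = n10573 := d28_2 (iv F44440) D12079 (iv D10573)
def n12080 : Q := act 6 n9450
theorem D12080 : act 6 n9450 = n12080 := rfl
theorem F55973 : act 0 n12080 = n10590 := d5_1 D12080 (iv D10590) (iv F44436)
theorem F55975 : act 4 n12080 = n9451 := d31_1 D12080 (iv D9451) D9450
def n12081 : Q := act 7 n9451
theorem D12081 : act 7 n9451 = n12081 := rfl
theorem F55980 : act 3 n12081 = n9456 := d27_1 D12081 (iv D9456) (iv F44444)
theorem F55981 : act 5 n12081 = n9453 := d36_1 D12081 (iv D9453) (iv F44445)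
def n12082 : Q := act 5 n9452
theorem D12082 : act 5 n9452 = n12082 := rfl
theorem F55985 : act 1 n12082 = n12082 := d12_1 D12082 (iv D12082) F44448
theorem F55986 : act 3 n12082 = n12082 := d25_1 D12082 (iv D12082) F44449
theorem F55987 : act 6 n12082 = n9483 := d35_2 D9452 D12082 (iv D9483) (iv D7481) (iv F35575)
theorem F55988 : act 9 n12082 = n12082 := d38_2 F44452 D12082 (iv D12082)
def n12083 : Q := act 7 n9452
theorem D12083 : act 7 n9452 = n12083 := rfl
def n12084 : Q := act 2 n9454
theorem D12084 : act 2 n9454 = n12084 := rfl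
theorem F55997 : act 5 n12084 = n9459 := d19_2 (iv F44460) D12084 (iv D9459)
theorem F55998 : act 7 n12084 = n10917 := d21_2 (iv F44461) D12084 (iv D10917)
theorem F55999 : act 8 n12084 = n10921 := d22_2 (iv F44462) D12084 (iv D10921)
def n12087 : Q := act 2 n9457
theorem D12087 : act 2 n9457 = n12087 := rfl
theorem F56017 : act 4 n12087 = n9496 := d18_2 (iv F44480) D12087 (iv D9496)
theorem F56018 : act 5 n12087 = n10917 := d19_2 (iv F44481) D12087 (iv D10917)
theorem F56019 : act 7 n12087 = n9459 := d21_2 (iv F44482) D12087 (iv D9459)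
def n12090 : Q := act 1 n9459
theorem D12090 : act 1 n9459 = n12090 := rfl
theorem F56036 : act 2 n12090 = n12090 := d9_2 D9459 D12090 (iv D12090) (iv D9459) F35617
theorem F56037 : act 3 n12090 = n12090 := d10_2 F44492 D12090 (iv D12090)
theorem F56038 : act 4 n12090 = n9499 := d11_2 (iv F44493) D12090 (iv D9499)
theorem F56039 : act 6 n12090 = n12090 := d13_2 F44494 D12090 (iv D12090)
theorem F56040 : act 8 n12090 = n12090 := d15_2 F44495 D12090 (iv D12090)
theorem F56041 : act 9 n12090 = n12090 := d16_2 F44496 D12090 (iv D12090)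
def n12091 : Q := act 4 n9460
theorem D12091 : act 4 n9460 = n12091 := rfl
theorem F56042 : act 0 n12091 = n9463 := d3_1 D12091 (iv D9463) (iv F44497)
theorem F56043 : act 2 n12091 = n12091 := d18_1 D12091 (iv D12091) F44498
theorem F56044 : act 7 n12091 = n12091 := d32_2 F44500 D12091 (iv D12091)
theorem F56045 : act 8 n12091 = n9502 := d33_2 (iv F44501) D12091 (iv D9502)
theorem F56046 : act 9 n12091 = n12091 := d34_2 F44502 D12091 (iv D12091)
def n12092 : Q := act 6 n9460
theorem D12092 : act 6 n9460 = n12092 := rfl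
theorem F56047 : act 0 n12092 = n9464 := d5_1 D12092 (iv D9464) (iv F44497)
theorem F56048 : act 2 n12092 = n12092 := d20_1 D12092 (iv D12092) F44498
theorem F56049 : act 3 n12092 = n9575 := d26_1 D12092 (iv D9575) (iv F44499)
theorem F56050 : act 8 n12092 = n9503 := d40_2 (iv F44501) D12092 (iv D9503)
theorem F56051 : act 9 n12092 = n12092 := d41_2 F44502 D12092 (iv D12092)
def n12093 : Q := act 5 n9461
theorem D12093 : act 5 n9461 = n12093 := rfl
theorem F56052 : act 1 n12093 = n9467 := d12_1 D12093 (iv D9467) (iv F44503)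
theorem F56053 : act 2 n12093 = n12093 := d19_1 D12093 (iv D12093) F44504
theorem F56054 : act 3 n12093 = n9579 := d25_1 D12093 (iv D9579) (iv F44505)
theorem F56055 : act 8 n12093 = n9462 := d37_2 D9461 D12093 (iv D9462) (iv D7466) (iv F35630)
def n12094 : Q := act 4 n9462
theorem D12094 : act 4 n9462 = n12094 := rfl
theorem F56056 : act 1 n12094 = n9469 := d11_1 D12094 (iv D9469) (iv F44507)
theorem F56057 : act 2 n12094 = n12094 := d18_1 D12094 (iv D12094) F44508
theorem F56058 : act 9 n12094 = n12094 := d34_2 F44510 D12094 (iv D12094)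
def n12095 : Q := act 6 n9462
theorem D12095 : act 6 n9462 = n12095 := rfl
theorem F56059 : act 1 n12095 = n9470 := d13_1 D12095 (iv D9470) (iv F44507)
theorem F56060 : act 2 n12095 = n12095 := d20_1 D12095 (iv D12095) F44508
theorem F56061 : act 3 n12095 = n9582 := d26_1 D12095 (iv D9582) (iv F44509)
theorem F56062 : act 5 n12095 = n9464 := d35_1 D12095 (iv D9464) (iv D7467) (iv F35635) D9462
theorem F56063 : act 9 n12095 = n12095 := d41_2 F44510 D12095 (iv D12095)
def n12096 : Q := act 3 n9463
theorem D12096 : act 3 n9463 = n12096 := rfl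
theorem F56064 : act 1 n12096 = n9471 := d10_1 D12096 (iv D9471) (iv F44511)
theorem F56065 : act 4 n12096 = n9583 := d24_2 D9463 D12096 (iv D9583) (iv D7558) (iv F35639)
theorem F56066 : act 7 n12096 = n12096 := d27_2 F44513 D12096 (iv D12096)
theorem F56067 : act 8 n12096 = n9508 := d28_2 (iv F44514) D12096 (iv D9508)
theorem F56068 : act 9 n12096 = n12096 := d29_2 F44515 D12096 (iv D12096)
def n12097 : Q := act 6 n9463
theorem D12097 : act 6 n9463 = n12097 := rfl
theorem F56069 : act 1 n12097 = n9472 := d13_1 D12097 (iv D9472) (iv F44511)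
theorem F56070 : act 2 n12097 = n12097 := d20_1 D12097 (iv D12097) F44512
theorem F56071 : act 4 n12097 = n9464 := d31_1 D12097 (iv D9464) D9463
theorem F56072 : act 8 n12097 = n9509 := d40_2 (iv F44514) D12097 (iv D9509)
theorem F56073 : act 9 n12097 = n12097 := d41_2 F44515 D12097 (iv D12097)
def n12098 : Q := act 7 n9464
theorem D12098 : act 7 n9464 = n12098 := rfl
theorem F56074 : act 1 n12098 = n9473 := d14_1 D12098 (iv D9473) (iv F44516)
theorem F56075 : act 2 n12098 = n12098 := d21_1 D12098 (iv D12098) F44517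
theorem F56076 : act 3 n12098 = n9585 := d27_1 D12098 (iv D9585) (iv F44518)
theorem F56077 : act 6 n12098 = n12098 := d39_1 D12098 (iv D12098) (iv D9464) F35640 D9464
theorem F56078 : act 8 n12098 = n9510 := d42_2 (iv F44519) D12098 (iv D9510)
theorem F56079 : act 9 n12098 = n12098 := d43_2 F44520 D12098 (iv D12098)
def n12099 : Q := act 5 n9465
theorem D12099 : act 5 n9465 = n12099 := rfl
theorem F56080 : act 0 n12099 = n9658 := d4_1 D12099 (iv D9658) (iv F44521)
theorem F56081 : act 2 n12099 = n9474 := d19_1 D12099 (iv D9474) (iv F44522)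
theorem F56082 : act 7 n12099 = n9650 := d36_2 (iv F44525) D12099 (iv D9650)
theorem F56083 : act 8 n12099 = n9651 := d37_2 D9465 D12099 (iv D9651) (iv D7609) (iv F35646)
def n12100 : Q := act 5 n9466
theorem D12100 : act 5 n9466 = n12100 := rfl
theorem F56084 : act 0 n12100 = n9657 := d4_1 D12100 (iv D9657) (iv F44526)
theorem F56085 : act 2 n12100 = n9475 := d19_1 D12100 (iv D9475) (iv F44527)
theorem F56086 : act 3 n12100 = n9589 := d25_1 D12100 (iv D9589) (iv F44528)
theorem F56087 : act 7 n12100 = n9467 := d36_2 (iv F44530) D12100 (iv D9467)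
theorem F56088 : act 8 n12100 = n9468 := d37_2 D9466 D12100 (iv D9468) (iv D7471) (iv F35653)
def n12101 : Q := act 4 n9467
theorem D12101 : act 4 n9467 = n12101 := rfl
theorem F56089 : act 2 n12101 = n9476 := d18_1 D12101 (iv D9476) (iv F44531)
theorem F56090 : act 8 n12101 = n9469 := d33_2 (iv F44533) D12101 (iv D9469)
def n12102 : Q := act 6 n9467
theorem D12102 : act 6 n9467 = n12102 := rfl
theorem F56091 : act 2 n12102 = n9477 := d20_1 D12102 (iv D9477) (iv F44531)
theorem F56092 : act 3 n12102 = n9592 := d26_1 D12102 (iv D9592) (iv F44532)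
theorem F56093 : act 5 n12102 = n9514 := d35_1 D12102 (iv D9514) (iv D7504) (iv F35657) D9467
theorem F56094 : act 8 n12102 = n9470 := d40_2 (iv F44533) D12102 (iv D9470)
def n12103 : Q := act 4 n9468
theorem D12103 : act 4 n9468 = n12103 := rfl
theorem F56095 : act 0 n12103 = n9880 := d3_1 D12103 (iv D9880) (iv F44534)
theorem F56096 : act 2 n12103 = n9478 := d18_1 D12103 (iv D9478) (iv F44535)
theorem F56097 : act 5 n12103 = n9869 := d30_2 D9468 D12103 (iv D9869) (iv D7774) (iv F35661)
theorem F56098 : act 7 n12103 = n9469 := d32_2 (iv F44537) D12103 (iv D9469)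
theorem F56099 : act 9 n12103 = n12103 := d34_2 F44538 D12103 (iv D12103)
def n12104 : Q := act 6 n9468
theorem D12104 : act 6 n9468 = n12104 := rfl
theorem F56100 : act 0 n12104 = n9881 := d5_1 D12104 (iv D9881) (iv F44534)
theorem F56101 : act 2 n12104 = n9479 := d20_1 D12104 (iv D9479) (iv F44535)
theorem F56102 : act 3 n12104 = n9594 := d26_1 D12104 (iv D9594) (iv F44536)
theorem F56103 : act 5 n12104 = n12104 := d35_1 D12104 (iv D12104) (iv D9468) F35662 D9468
theorem F56104 : act 9 n12104 = n12104 := d41_2 F44538 D12104 (iv D12104)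
def n12105 : Q := act 3 n9469
theorem D12105 : act 3 n9469 = n12105 := rfl
theorem F56105 : act 4 n12105 = n9595 := d24_2 D9469 D12105 (iv D9595) (iv D7567) (iv F35666)
theorem F56106 : act 9 n12105 = n12105 := d29_2 F44540 D12105 (iv D12105)
def n12106 : Q := act 6 n9469
theorem D12106 : act 6 n9469 = n12106 := rfl
theorem F56107 : act 2 n12106 = n9481 := d20_1 D12106 (iv D9481) (iv F44539)
theorem F56108 : act 4 n12106 = n9470 := d31_1 D12106 (iv D9470) D9469
theorem F56109 : act 9 n12106 = n12106 := d41_2 F44540 D12106 (iv D12106)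
def n12107 : Q := act 7 n9470
theorem D12107 : act 7 n9470 = n12107 := rfl
theorem F56110 : act 2 n12107 = n9482 := d21_1 D12107 (iv D9482) (iv F44541)
theorem F56111 : act 3 n12107 = n9597 := d27_1 D12107 (iv D9597) (iv F44542)
theorem F56112 : act 5 n12107 = n9473 := d36_1 D12107 (iv D9473) (iv F44543)
theorem F56113 : act 9 n12107 = n12107 := d43_2 F44544 D12107 (iv D12107)
def n12108 : Q := act 6 n9471
theorem D12108 : act 6 n9471 = n12108 := rfl
theorem F56114 : act 2 n12108 = n12108 := d20_1 D12108 (iv D12108) F44545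
theorem F56115 : act 3 n12108 = n9472 := d26_1 D12108 (iv D9472) D9471
theorem F56116 : act 4 n12108 = n9598 := d31_1 D12108 (iv D9598) (iv F44546)
theorem F56117 : act 8 n12108 = n9518 := d40_2 (iv F44548) D12108 (iv D9518)
theorem F56118 : act 9 n12108 = n12108 := d41_2 F44549 D12108 (iv D12108)
def n12109 : Q := act 5 n9472
theorem D12109 : act 5 n9472 = n12109 := rfl
theorem F56119 : act 2 n12109 = n9483 := d19_1 D12109 (iv D9483) (iv F44550)
theorem F56120 : act 9 n12109 = n12109 := d38_2 F44553 D12109 (iv D12109)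
def n12110 : Q := act 7 n9472
theorem D12110 : act 7 n9472 = n12110 := rfl
theorem F56121 : act 2 n12110 = n9484 := d21_1 D12110 (iv D9484) (iv F44550)
theorem F56122 : act 4 n12110 = n9473 := d32_1 D12110 (iv D9473) (iv F44551)
theorem F56123 : act 6 n12110 = n12110 := d39_1 D12110 (iv D12110) (iv D9472) F35669 D9472
theorem F56124 : act 8 n12110 = n9520 := d42_2 (iv F44552) D12110 (iv D9520)
theorem F56125 : act 9 n12110 = n12110 := d43_2 F44553 D12110 (iv D12110)
def n12111 : Q := act 4 n9474
theorem D12111 : act 4 n9474 = n12111 := rfl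
theorem F56126 : act 0 n12111 = n10246 := d3_1 D12111 (iv D10246) (iv F44559)
theorem F56127 : act 1 n12111 = n12111 := d11_1 D12111 (iv D12111) F44560
theorem F56128 : act 5 n12111 = n9476 := d30_2 D9474 D12111 (iv D9476) (iv D7477) (iv F35679)
theorem F56129 : act 7 n12111 = n10233 := d32_2 (iv F44562) D12111 (iv D10233)
theorem F56130 : act 8 n12111 = n10235 := d33_2 (iv F44563) D12111 (iv D10235)
def n12112 : Q := act 6 n9474
theorem D12112 : act 6 n9474 = n12112 := rfl
theorem F56131 : act 0 n12112 = n10247 := d5_1 D12112 (iv D10247) (iv F44559)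
theorem F56132 : act 1 n12112 = n12112 := d13_1 D12112 (iv D12112) F44560
theorem F56133 : act 3 n12112 = n12112 := d26_1 D12112 (iv D12112) F44561
theorem F56134 : act 5 n12112 = n9522 := d35_1 D12112 (iv D9522) (iv D7510) (iv F35680) D9474
theorem F56135 : act 8 n12112 = n10236 := d40_2 (iv F44563) D12112 (iv D10236)
def n12113 : Q := act 4 n9475
theorem D12113 : act 4 n9475 = n12113 := rfl
theorem F56136 : act 0 n12113 = n10244 := d3_1 D12113 (iv D10244) (iv F44564)
theorem F56137 : act 1 n12113 = n12113 := d11_1 D12113 (iv D12113) F44565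
theorem F56138 : act 5 n12113 = n10233 := d30_2 D9475 D12113 (iv D10233) (iv D8039) (iv F35685)
theorem F56139 : act 7 n12113 = n9476 := d32_2 (iv F44567) D12113 (iv D9476)
theorem F56140 : act 8 n12113 = n9478 := d33_2 (iv F44568) D12113 (iv D9478)
def n12114 : Q := act 6 n9475
theorem D12114 : act 6 n9475 = n12114 := rfl
theorem F56141 : act 0 n12114 = n10245 := d5_1 D12114 (iv D10245) (iv F44564)
theorem F56142 : act 1 n12114 = n12114 := d13_1 D12114 (iv D12114) F44565
theorem F56143 : act 3 n12114 = n9486 := d26_1 D12114 (iv D9486) (iv F44566)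
theorem F56144 : act 8 n12114 = n9479 := d40_2 (iv F44568) D12114 (iv D9479)
def n12115 : Q := act 3 n9476
theorem D12115 : act 3 n9476 = n12115 := rfl
theorem F56145 : act 1 n12115 = n12115 := d10_1 D12115 (iv D12115) F44569
theorem F56146 : act 4 n12115 = n9487 := d24_2 D9476 D12115 (iv D9487) (iv D7484) (iv F35688)
theorem F56147 : act 8 n12115 = n9480 := d28_2 (iv F44570) D12115 (iv D9480)
def n12116 : Q := act 6 n9476
theorem D12116 : act 6 n9476 = n12116 := rfl
theorem F56148 : act 1 n12116 = n12116 := d13_1 D12116 (iv D12116) F44569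
theorem F56149 : act 4 n12116 = n9477 := d31_1 D12116 (iv D9477) D9476
theorem F56150 : act 8 n12116 = n9481 := d40_2 (iv F44570) D12116 (iv D9481)
def n12117 : Q := act 7 n9477
theorem D12117 : act 7 n9477 = n12117 := rfl
theorem F56151 : act 1 n12117 = n12117 := d14_1 D12117 (iv D12117) F44571
theorem F56152 : act 3 n12117 = n9489 := d27_1 D12117 (iv D9489) (iv F44572)
theorem F56153 : act 5 n12117 = n9525 := d36_1 D12117 (iv D9525) (iv F44573)
theorem F56154 : act 8 n12117 = n9482 := d42_2 (iv F44574) D12117 (iv D9482)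
def n12118 : Q := act 3 n9478
theorem D12118 : act 3 n9478 = n12118 := rfl
theorem F56157 : act 4 n12118 = n9490 := d24_2 D9478 D12118 (iv D9490) (iv D7486) (iv F35692)
theorem F56158 : act 5 n12118 = n10570 := d25_2 (iv F44577) D12118 (iv D10570)
theorem F56159 : act 7 n12118 = n9480 := d27_2 (iv F44578) D12118 (iv D9480)
def n12119 : Q := act 6 n9478
theorem D12119 : act 6 n9478 = n12119 := rfl
theorem F56161 : act 0 n12119 = n10587 := d5_1 D12119 (iv D10587) (iv F44575)
theorem F56162 : act 1 n12119 = n12119 := d13_1 D12119 (iv D12119) F44576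
theorem F56163 : act 4 n12119 = n9479 := d31_1 D12119 (iv D9479) D9478
theorem F56164 : act 9 n12119 = n12119 := d41_2 F44579 D12119 (iv D12119)
def n12120 : Q := act 7 n9479
theorem D12120 : act 7 n9479 = n12120 := rfl
theorem F56165 : act 0 n12120 = n10588 := d6_1 D12120 (iv D10588) (iv F44580)
theorem F56166 : act 1 n12120 = n12120 := d14_1 D12120 (iv D12120) F44581
theorem F56167 : act 3 n12120 = n9492 := d27_1 D12120 (iv D9492) (iv F44582)
theorem F56168 : act 5 n12120 = n12120 := d36_1 D12120 (iv D12120) F44583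
theorem F56169 : act 6 n12120 = n9482 := d39_1 D12120 (iv D9482) (iv D7480) (iv F35693) D9479
theorem F56170 : act 9 n12120 = n12120 := d43_2 F44584 D12120 (iv D12120)
def n12121 : Q := act 2 n9480
theorem D12121 : act 2 n9480 = n12121 := rfl
theorem F56171 : act 4 n12121 = n9493 := d18_2 (iv F44586) D12121 (iv D9493)
theorem F56172 : act 9 n12121 = n12121 := d23_2 F44587 D12121 (iv D12121)
def n12122 : Q := act 6 n9480
theorem D12122 : act 6 n9480 = n12122 := rfl
theorem F56173 : act 1 n12122 = n12122 := d13_1 D12122 (iv D12122) F44585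
theorem F56174 : act 3 n12122 = n9481 := d26_1 D12122 (iv D9481) D9480
theorem F56175 : act 4 n12122 = n9494 := d31_1 D12122 (iv D9494) (iv F44586)
theorem F56176 : act 9 n12122 = n12122 := d41_2 F44587 D12122 (iv D12122)
def n12123 : Q := act 5 n9481
theorem D12123 : act 5 n9481 = n12123 := rfl
theorem F56177 : act 1 n12123 = n12123 := d12_1 D12123 (iv D12123) F44588
theorem F56178 : act 4 n12123 = n9483 := d30_1 D12123 (iv D9483) F35703 (iv F35699) (iv F44589)
theorem F56179 : act 9 n12123 = n12123 := d38_2 F44590 D12123 (iv D12123)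
def n12124 : Q := act 7 n9481
theorem D12124 : act 7 n9481 = n12124 := rfl
theorem F56180 : act 1 n12124 = n12124 := d14_1 D12124 (iv D12124) F44588
theorem F56181 : act 4 n12124 = n9482 := d32_1 D12124 (iv D9482) (iv F44589)
theorem F56182 : act 9 n12124 = n12124 := d43_2 F44590 D12124 (iv D12124)
def n12125 : Q := act 7 n9483
theorem D12125 : act 7 n9483 = n12125 := rfl
theorem F56183 : act 1 n12125 = n12125 := d14_1 D12125 (iv D12125) F44595
theorem F56184 : act 3 n12125 = n12125 := d27_1 D12125 (iv D12125) F44596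
theorem F56185 : act 5 n12125 = n9484 := d36_1 D12125 (iv D9484) D9483
theorem F56186 : act 9 n12125 = n12125 := d43_2 F44597 D12125 (iv D12125)
def n12126 : Q := act 8 n9483
theorem D12126 : act 8 n9483 = n12126 := rfl
theorem F56187 : act 1 n12126 = n12126 := d15_1 D12126 (iv D12126) F44595
theorem F56188 : act 3 n12126 = n12126 := d28_1 D12126 (iv D12126) F44596
theorem F56189 : act 5 n12126 = n9531 := d37_1 D12126 (iv D9531) (iv D7516) (iv F35704) D9483
def n12127 : Q := act 3 n9485
theorem D12127 : act 3 n9485 = n12127 := rfl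
theorem F56190 : act 1 n12127 = n12127 := d10_1 D12127 (iv D12127) F44604
theorem F56191 : act 5 n12127 = n12127 := d25_2 F44606 D12127 (iv D12127)
theorem F56192 : act 7 n12127 = n9487 := d27_2 (iv F44607) D12127 (iv D9487)
theorem F56193 : act 8 n12127 = n9490 := d28_2 (iv F44608) D12127 (iv D9490)
def n12128 : Q := act 6 n9485
theorem D12128 : act 6 n9485 = n12128 := rfl
theorem F56194 : act 1 n12128 = n12128 := d13_1 D12128 (iv D12128) F44604
theorem F56195 : act 2 n12128 = n9628 := d20_1 D12128 (iv D9628) (iv F44605)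
theorem F56196 : act 4 n12128 = n9486 := d31_1 D12128 (iv D9486) D9485
theorem F56197 : act 8 n12128 = n9491 := d40_2 (iv F44608) D12128 (iv D9491)
def n12129 : Q := act 7 n9486
theorem D12129 : act 7 n9486 = n12129 := rfl
theorem F56198 : act 1 n12129 = n12129 := d14_1 D12129 (iv D12129) F44609
theorem F56199 : act 2 n12129 = n9629 := d21_1 D12129 (iv D9629) (iv F44610)
theorem F56200 : act 6 n12129 = n9489 := d39_1 D12129 (iv D9489) (iv D7485) (iv F35713) D9486
theorem F56201 : act 8 n12129 = n9492 := d42_2 (iv F44611) D12129 (iv D9492)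
def n12130 : Q := act 2 n9487
theorem D12130 : act 2 n9487 = n12130 := rfl
theorem F56202 : act 3 n12130 = n9633 := d17_2 D9487 D12130 (iv D9633) (iv D7594) (iv F35716)
theorem F56203 : act 5 n12130 = n12130 := d19_2 F44613 D12130 (iv D12130)
theorem F56204 : act 8 n12130 = n9493 := d22_2 (iv F44614) D12130 (iv D9493)
def n12131 : Q := act 6 n9487
theorem D12131 : act 6 n9487 = n12131 := rfl
theorem F56205 : act 1 n12131 = n12131 := d13_1 D12131 (iv D12131) F44612
theorem F56206 : act 3 n12131 = n9488 := d26_1 D12131 (iv D9488) D9487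
theorem F56207 : act 8 n12131 = n9494 := d40_2 (iv F44614) D12131 (iv D9494)
def n12132 : Q := act 5 n9488
theorem D12132 : act 5 n9488 = n12132 := rfl
theorem F56208 : act 1 n12132 = n12132 := d12_1 D12132 (iv D12132) F44615
theorem F56209 : act 2 n12132 = n9635 := d19_1 D12132 (iv D9635) (iv F44616)
theorem F56210 : act 4 n12132 = n9534 := d30_1 D12132 (iv D9534) F35854 (iv F35721) (iv F44617)
theorem F56211 : act 6 n12132 = n12132 := d35_2 D9488 D12132 (iv D12132) (iv D9488) F35717
theorem F56212 : act 8 n12132 = n12132 := d37_2 (iv F44618) D12132 (iv D12132) F44618 F35738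
def n12133 : Q := act 7 n9488
theorem D12133 : act 7 n9488 = n12133 := rfl
theorem F56213 : act 1 n12133 = n12133 := d14_1 D12133 (iv D12133) F44615
theorem F56214 : act 2 n12133 = n9636 := d21_1 D12133 (iv D9636) (iv F44616)
theorem F56215 : act 4 n12133 = n9489 := d32_1 D12133 (iv D9489) (iv F44617)
theorem F56216 : act 8 n12133 = n9495 := d42_2 (iv F44618) D12133 (iv D9495)
def n12134 : Q := act 2 n9490
theorem D12134 : act 2 n9490 = n12134 := rfl
theorem F56217 : act 3 n12134 = n9637 := d17_2 D9490 D12134 (iv D9637) (iv D7597) (iv F35724)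
theorem F56218 : act 5 n12134 = n9496 := d19_2 (iv F44624) D12134 (iv D9496)
theorem F56219 : act 7 n12134 = n9493 := d21_2 (iv F44625) D12134 (iv D9493)
theorem F56220 : act 9 n12134 = n12134 := d23_2 F44626 D12134 (iv D12134)
def n12135 : Q := act 6 n9490
theorem D12135 : act 6 n9490 = n12135 := rfl
theorem F56221 : act 1 n12135 = n12135 := d13_1 D12135 (iv D12135) F44623
theorem F56222 : act 3 n12135 = n9491 := d26_1 D12135 (iv D9491) D9490
theorem F56223 : act 9 n12135 = n12135 := d41_2 F44626 D12135 (iv D12135)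
def n12136 : Q := act 5 n9491
theorem D12136 : act 5 n9491 = n12136 := rfl
theorem F56224 : act 1 n12136 = n12136 := d12_1 D12136 (iv D12136) F44627
theorem F56225 : act 2 n12136 = n9639 := d19_1 D12136 (iv D9639) (iv F44628)
theorem F56226 : act 4 n12136 = n12136 := d30_1 D12136 (iv D12136) F44629 F35730 (iv F44629)
theorem F56227 : act 6 n12136 = n9498 := d35_2 D9491 D12136 (iv D9498) (iv D7492) (iv F35725)
theorem F56228 : act 9 n12136 = n12136 := d38_2 F44630 D12136 (iv D12136)
def n12137 : Q := act 7 n9491
theorem D12137 : act 7 n9491 = n12137 := rfl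
theorem F56229 : act 1 n12137 = n12137 := d14_1 D12137 (iv D12137) F44627
theorem F56230 : act 2 n12137 = n9640 := d21_1 D12137 (iv D9640) (iv F44628)
theorem F56231 : act 4 n12137 = n9492 := d32_1 D12137 (iv D9492) (iv F44629)
theorem F56232 : act 6 n12137 = n9495 := d39_1 D12137 (iv D9495) (iv D7489) (iv F35726) D9491
theorem F56233 : act 9 n12137 = n12137 := d43_2 F44630 D12137 (iv D12137)
def n12138 : Q := act 1 n9493
theorem D12138 : act 1 n9493 = n12138 := rfl
theorem F56234 : act 2 n12138 = n12138 := d9_2 D9493 D12138 (iv D12138) (iv D9493) F35732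
theorem F56235 : act 3 n12138 = n9641 := d10_2 (iv F44636) D12138 (iv D9641)
theorem F56236 : act 5 n12138 = n9499 := d12_2 (iv F44637) D12138 (iv D9499)
theorem F56237 : act 9 n12138 = n12138 := d16_2 F44638 D12138 (iv D12138)
def n12139 : Q := act 6 n9493
theorem D12139 : act 6 n9493 = n12139 := rfl
theorem F56238 : act 2 n12139 = n9494 := d20_1 D12139 (iv D9494) D9493
theorem F56239 : act 3 n12139 = n9642 := d26_1 D12139 (iv D9642) (iv F44636)
theorem F56240 : act 5 n12139 = n12139 := d35_1 D12139 (iv D12139) F44637 F35755 (iv F44637)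
theorem F56241 : act 9 n12139 = n12139 := d41_2 F44638 D12139 (iv D12139)
def n12140 : Q := act 7 n9494
theorem D12140 : act 7 n9494 = n12140 := rfl
theorem F56242 : act 1 n12140 = n12140 := d14_1 D12140 (iv D12140) F44639
theorem F56243 : act 3 n12140 = n9495 := d27_1 D12140 (iv D9495) (iv F44640)
theorem F56244 : act 5 n12140 = n12140 := d36_1 D12140 (iv D12140) F44641
theorem F56245 : act 9 n12140 = n12140 := d43_2 F44642 D12140 (iv D12140)
def n12141 : Q := act 1 n9496
theorem D12141 : act 1 n9496 = n12141 := rfl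
theorem F56246 : act 2 n12141 = n12141 := d9_2 D9496 D12141 (iv D12141) (iv D9496) F35744
theorem F56247 : act 3 n12141 = n9644 := d10_2 (iv F44648) D12141 (iv D9644)
theorem F56248 : act 7 n12141 = n9499 := d14_2 (iv F44649) D12141 (iv D9499)
theorem F56249 : act 8 n12141 = n12141 := d15_2 F44650 D12141 (iv D12141)
theorem F56250 : act 9 n12141 = n12141 := d16_2 F44651 D12141 (iv D12141)
def n12142 : Q := act 6 n9496
theorem D12142 : act 6 n9496 = n12142 := rfl
theorem F56251 : act 2 n12142 = n9497 := d20_1 D12142 (iv D9497) D9496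
theorem F56252 : act 3 n12142 = n9645 := d26_1 D12142 (iv D9645) (iv F44648)
def n12143 : Q := act 5 n9497
theorem D12143 : act 5 n9497 = n12143 := rfl
theorem F56257 : act 3 n12143 = n9498 := d25_1 D12143 (iv D9498) (iv F44653)
def n12144 : Q := act 8 n9498
theorem D12144 : act 8 n9498 = n12144 := rfl
theorem F56260 : act 1 n12144 = n12144 := d15_1 D12144 (iv D12144) F44657
theorem F56261 : act 2 n12144 = n9647 := d22_1 D12144 (iv D9647) (iv F44658)
theorem F56262 : act 4 n12144 = n12144 := d33_1 D12144 (iv D12144) F44659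
theorem F56263 : act 5 n12144 = n12144 := d37_1 D12144 (iv D12144) (iv D9498) F35752 D9498
theorem F56264 : act 7 n12144 = n12144 := d42_1 D12144 (iv D12144) F44660
def n12145 : Q := act 0 n9499
theorem D12145 : act 0 n9499 = n12145 := rfl
theorem F56265 : act 2 n12145 = n12145 := d1_2 F44662 D12145 (iv D12145)
theorem F56266 : act 3 n12145 = n9648 := d2_2 (iv F44663) D12145 (iv D9648)
theorem F56267 : act 6 n12145 = n12145 := d5_2 F44664 D12145 (iv D12145)
theorem F56268 : act 8 n12145 = n12145 := d7_2 F44665 D12145 (iv D12145)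
theorem F56269 : act 9 n12145 = n12145 := d8_2 F44666 D12145 (iv D12145)
def n12146 : Q := act 5 n9500
theorem D12146 : act 5 n9500 = n12146 := rfl
theorem F56270 : act 0 n12146 = n9505 := d4_1 D12146 (iv D9505) (iv F44667)
theorem F56271 : act 2 n12146 = n12146 := d19_1 D12146 (iv D12146) F44668
theorem F56272 : act 3 n12146 = n9650 := d25_1 D12146 (iv D9650) (iv F44669)
theorem F56273 : act 8 n12146 = n9501 := d37_2 D9500 D12146 (iv D9501) (iv D7495) (iv F35761)
def n12147 : Q := act 4 n9501
theorem D12147 : act 4 n9501 = n12147 := rfl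
theorem F56274 : act 0 n12147 = n9506 := d3_1 D12147 (iv D9506) (iv F44670)
theorem F56275 : act 2 n12147 = n12147 := d18_1 D12147 (iv D12147) F44671
theorem F56276 : act 5 n12147 = n12147 := d30_2 D9501 D12147 (iv D12147) (iv D9501) F35765
theorem F56277 : act 9 n12147 = n9540 := d34_2 (iv F44673) D12147 (iv D9540)
def n12148 : Q := act 6 n9501
theorem D12148 : act 6 n9501 = n12148 := rfl
theorem F56278 : act 0 n12148 = n9507 := d5_1 D12148 (iv D9507) (iv F44670)
theorem F56279 : act 2 n12148 = n12148 := d20_1 D12148 (iv D12148) F44671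
theorem F56280 : act 3 n12148 = n9653 := d26_1 D12148 (iv D9653) (iv F44672)
theorem F56281 : act 5 n12148 = n9503 := d35_1 D12148 (iv D9503) (iv D7496) (iv F35766) D9501
theorem F56282 : act 9 n12148 = n9541 := d41_2 (iv F44673) D12148 (iv D9541)
def n12149 : Q := act 3 n9502
theorem D12149 : act 3 n9502 = n12149 := rfl
theorem F56283 : act 0 n12149 = n9508 := d2_1 D12149 (iv D9508) (iv F44674)
theorem F56284 : act 4 n12149 = n9654 := d24_2 D9502 D12149 (iv D9654) (iv D7611) (iv F35770)
theorem F56285 : act 5 n12149 = n12149 := d25_2 F44676 D12149 (iv D12149)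
theorem F56286 : act 7 n12149 = n12149 := d27_2 F44677 D12149 (iv D12149)
theorem F56287 : act 9 n12149 = n9542 := d29_2 (iv F44678) D12149 (iv D9542)
def n12150 : Q := act 6 n9502
theorem D12150 : act 6 n9502 = n12150 := rfl
theorem F56288 : act 0 n12150 = n9509 := d5_1 D12150 (iv D9509) (iv F44674)
theorem F56289 : act 2 n12150 = n12150 := d20_1 D12150 (iv D12150) F44675
theorem F56290 : act 4 n12150 = n9503 := d31_1 D12150 (iv D9503) D9502
theorem F56291 : act 9 n12150 = n9543 := d41_2 (iv F44678) D12150 (iv D9543)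
def n12151 : Q := act 7 n9503
theorem D12151 : act 7 n9503 = n12151 := rfl
theorem F56292 : act 0 n12151 = n9510 := d6_1 D12151 (iv D9510) (iv F44679)
theorem F56293 : act 2 n12151 = n12151 := d21_1 D12151 (iv D12151) F44680
theorem F56294 : act 3 n12151 = n9656 := d27_1 D12151 (iv D9656) (iv F44681)
theorem F56295 : act 6 n12151 = n12151 := d39_1 D12151 (iv D12151) (iv D9503) F35771 D9503
theorem F56296 : act 9 n12151 = n9544 := d43_2 (iv F44682) D12151 (iv D9544)
def n12152 : Q := act 5 n9504
theorem D12152 : act 5 n9504 = n12152 := rfl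
theorem F56297 : act 1 n12152 = n9512 := d12_1 D12152 (iv D9512) (iv F44683)
theorem F56298 : act 2 n12152 = n12152 := d19_1 D12152 (iv D12152) F44684
theorem F56299 : act 8 n12152 = n12152 := d37_2 D9504 D12152 (iv D12152) (iv D9504) F35776
def n12153 : Q := act 4 n9505
theorem D12153 : act 4 n9505 = n12153 := rfl
theorem F56300 : act 1 n12153 = n9513 := d11_1 D12153 (iv D9513) (iv F44686)
theorem F56301 : act 2 n12153 = n12153 := d18_1 D12153 (iv D12153) F44687
theorem F56302 : act 8 n12153 = n9506 := d33_2 (iv F44689) D12153 (iv D9506)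
def n12154 : Q := act 6 n9505
theorem D12154 : act 6 n9505 = n12154 := rfl
theorem F56303 : act 1 n12154 = n9514 := d13_1 D12154 (iv D9514) (iv F44686)
theorem F56304 : act 2 n12154 = n12154 := d20_1 D12154 (iv D12154) F44687
theorem F56305 : act 3 n12154 = n9661 := d26_1 D12154 (iv D9661) (iv F44688)
theorem F56306 : act 8 n12154 = n9507 := d40_2 (iv F44689) D12154 (iv D9507)
def n12155 : Q := act 3 n9506
theorem D12155 : act 3 n9506 = n12155 := rfl
theorem F56307 : act 1 n12155 = n9515 := d10_1 D12155 (iv D9515) (iv F44690)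
theorem F56308 : act 4 n12155 = n9664 := d24_2 D9506 D12155 (iv D9664) (iv D7618) (iv F35782)
theorem F56309 : act 5 n12155 = n12155 := d25_2 F44692 D12155 (iv D12155)
theorem F56310 : act 9 n12155 = n9545 := d29_2 (iv F44693) D12155 (iv D9545)
def n12156 : Q := act 6 n9506
theorem D12156 : act 6 n9506 = n12156 := rfl
theorem F56311 : act 1 n12156 = n9516 := d13_1 D12156 (iv D9516) (iv F44690)
theorem F56312 : act 2 n12156 = n12156 := d20_1 D12156 (iv D12156) F44691
theorem F56313 : act 4 n12156 = n9507 := d31_1 D12156 (iv D9507) D9506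
theorem F56314 : act 9 n12156 = n9546 := d41_2 (iv F44693) D12156 (iv D9546)
def n12157 : Q := act 7 n9507
theorem D12157 : act 7 n9507 = n12157 := rfl
theorem F56315 : act 1 n12157 = n9517 := d14_1 D12157 (iv D9517) (iv F44694)
theorem F56316 : act 2 n12157 = n12157 := d21_1 D12157 (iv D12157) F44695
theorem F56317 : act 3 n12157 = n9666 := d27_1 D12157 (iv D9666) (iv F44696)
theorem F56318 : act 5 n12157 = n9510 := d36_1 D12157 (iv D9510) (iv F44697)
theorem F56319 : act 9 n12157 = n9547 := d43_2 (iv F44698) D12157 (iv D9547)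
def n12158 : Q := act 2 n9508
theorem D12158 : act 2 n9508 = n12158 := rfl
theorem F56322 : act 4 n12158 = n9667 := d18_2 (iv F44700) D12158 (iv D9667)
theorem F56325 : act 9 n12158 = n9548 := d23_2 (iv F44703) D12158 (iv D9548)
def n12159 : Q := act 6 n9508
theorem D12159 : act 6 n9508 = n12159 := rfl
theorem F56326 : act 1 n12159 = n9518 := d13_1 D12159 (iv D9518) (iv F44699)
theorem F56327 : act 3 n12159 = n9509 := d26_1 D12159 (iv D9509) D9508
theorem F56328 : act 4 n12159 = n9668 := d31_1 D12159 (iv D9668) (iv F44700)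
theorem F56329 : act 9 n12159 = n9549 := d41_2 (iv F44703) D12159 (iv D9549)
def n12160 : Q := act 5 n9509
theorem D12160 : act 5 n9509 = n12160 := rfl
theorem F56330 : act 1 n12160 = n9519 := d12_1 D12160 (iv D9519) (iv F44704)
theorem F56331 : act 2 n12160 = n12160 := d19_1 D12160 (iv D12160) F44705
theorem F56332 : act 6 n12160 = n12160 := d35_2 D9509 D12160 (iv D12160) (iv D9509) F35786
theorem F56333 : act 9 n12160 = n9550 := d38_2 (iv F44707) D12160 (iv D9550)
def n12161 : Q := act 7 n9509
theorem D12161 : act 7 n9509 = n12161 := rfl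
theorem F56334 : act 1 n12161 = n9520 := d14_1 D12161 (iv D9520) (iv F44704)
theorem F56335 : act 2 n12161 = n12161 := d21_1 D12161 (iv D12161) F44705
theorem F56336 : act 4 n12161 = n9510 := d32_1 D12161 (iv D9510) (iv F44706)
theorem F56337 : act 6 n12161 = n12161 := d39_1 D12161 (iv D12161) (iv D9509) F35787 D9509
theorem F56338 : act 9 n12161 = n9551 := d43_2 (iv F44707) D12161 (iv D9551)
def n12162 : Q := act 5 n9511
theorem D12162 : act 5 n9511 = n12162 := rfl
theorem F56339 : act 2 n12162 = n12162 := d19_1 D12162 (iv D12162) F44713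
theorem F56340 : act 3 n12162 = n9512 := d25_1 D12162 (iv D9512) (iv F44714)
theorem F56341 : act 8 n12162 = n12162 := d37_2 D9511 D12162 (iv D12162) (iv D9511) F35796
def n12163 : Q := act 4 n9512
theorem D12163 : act 4 n9512 = n12163 := rfl
theorem F56342 : act 2 n12163 = n9521 := d18_1 D12163 (iv D9521) (iv F44716)
theorem F56343 : act 5 n12163 = n9513 := d30_2 D9512 D12163 (iv D9513) (iv D7504) (iv F35798)
theorem F56344 : act 8 n12163 = n12163 := d33_2 F44717 D12163 (iv D12163)
def n12164 : Q := act 6 n9512
theorem D12164 : act 6 n9512 = n12164 := rfl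
theorem F56345 : act 2 n12164 = n9522 := d20_1 D12164 (iv D9522) (iv F44716)
theorem F56346 : act 8 n12164 = n12164 := d40_2 F44717 D12164 (iv D12164)
def n12165 : Q := act 3 n9513
theorem D12165 : act 3 n9513 = n12165 := rfl
theorem F56347 : act 4 n12165 = n9682 := d24_2 D9513 D12165 (iv D9682) (iv D7631) (iv F35800)
theorem F56348 : act 8 n12165 = n9515 := d28_2 (iv F44719) D12165 (iv D9515)
def n12166 : Q := act 6 n9513
theorem D12166 : act 6 n9513 = n12166 := rfl
theorem F56349 : act 2 n12166 = n9524 := d20_1 D12166 (iv D9524) (iv F44718)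
theorem F56350 : act 4 n12166 = n9514 := d31_1 D12166 (iv D9514) D9513
theorem F56351 : act 8 n12166 = n9516 := d40_2 (iv F44719) D12166 (iv D9516)
def n12167 : Q := act 7 n9514
theorem D12167 : act 7 n9514 = n12167 := rfl
theorem F56352 : act 2 n12167 = n9525 := d21_1 D12167 (iv D9525) (iv F44720)
theorem F56353 : act 3 n12167 = n9684 := d27_1 D12167 (iv D9684) (iv F44721)
theorem F56354 : act 8 n12167 = n9517 := d42_2 (iv F44722) D12167 (iv D9517)
def n12168 : Q := act 2 n9515
theorem D12168 : act 2 n9515 = n12168 := rfl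
theorem F56355 : act 3 n12168 = n9526 := d17_2 D9515 D12168 (iv D9526) (iv D7513) (iv F35802)
theorem F56356 : act 4 n12168 = n9688 := d18_2 (iv F44723) D12168 (iv D9688)
theorem F56357 : act 5 n12168 = n12168 := d19_2 F44724 D12168 (iv D12168)
theorem F56358 : act 9 n12168 = n9552 := d23_2 (iv F44725) D12168 (iv D9552)
def n12169 : Q := act 6 n9515
theorem D12169 : act 6 n9515 = n12169 := rfl
theorem F56359 : act 3 n12169 = n9516 := d26_1 D12169 (iv D9516) D9515
theorem F56360 : act 4 n12169 = n9689 := d31_1 D12169 (iv D9689) (iv F44723)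
theorem F56361 : act 9 n12169 = n9553 := d41_2 (iv F44725) D12169 (iv D9553)
def n12170 : Q := act 5 n9516
theorem D12170 : act 5 n9516 = n12170 := rfl
theorem F56362 : act 2 n12170 = n9528 := d19_1 D12170 (iv D9528) (iv F44726)
theorem F56363 : act 4 n12170 = n9519 := d30_1 D12170 (iv D9519) F35815 (iv F35807) (iv F44727)
theorem F56364 : act 6 n12170 = n12170 := d35_2 D9516 D12170 (iv D12170) (iv D9516) F35803
theorem F56365 : act 9 n12170 = n9554 := d38_2 (iv F44728) D12170 (iv D9554)
def n12171 : Q := act 7 n9516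
theorem D12171 : act 7 n9516 = n12171 := rfl
theorem F56366 : act 2 n12171 = n9529 := d21_1 D12171 (iv D9529) (iv F44726)
theorem F56367 : act 4 n12171 = n9517 := d32_1 D12171 (iv D9517) (iv F44727)
theorem F56368 : act 9 n12171 = n9555 := d43_2 (iv F44728) D12171 (iv D9555)
def n12172 : Q := act 5 n9518
theorem D12172 : act 5 n9518 = n12172 := rfl
theorem F56369 : act 2 n12172 = n12172 := d19_1 D12172 (iv D12172) F44733
theorem F56370 : act 3 n12172 = n9519 := d25_1 D12172 (iv D9519) (iv F44734)
theorem F56371 : act 6 n12172 = n12172 := d35_2 D9518 D12172 (iv D12172) (iv D9518) F35811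
theorem F56372 : act 9 n12172 = n9556 := d38_2 (iv F44736) D12172 (iv D9556)
def n12173 : Q := act 7 n9518
theorem D12173 : act 7 n9518 = n12173 := rfl
theorem F56373 : act 2 n12173 = n12173 := d21_1 D12173 (iv D12173) F44733
theorem F56374 : act 3 n12173 = n9520 := d27_1 D12173 (iv D9520) (iv F44734)
theorem F56375 : act 4 n12173 = n9693 := d32_1 D12173 (iv D9693) (iv F44735)
theorem F56376 : act 6 n12173 = n12173 := d39_1 D12173 (iv D12173) (iv D9518) F35812 D9518
theorem F56377 : act 9 n12173 = n9557 := d43_2 (iv F44736) D12173 (iv D9557)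
def n12174 : Q := act 7 n9519
theorem D12174 : act 7 n9519 = n12174 := rfl
theorem F56378 : act 2 n12174 = n9530 := d21_1 D12174 (iv D9530) (iv F44737)
theorem F56379 : act 5 n12174 = n9520 := d36_1 D12174 (iv D9520) D9519
theorem F56380 : act 9 n12174 = n9558 := d43_2 (iv F44739) D12174 (iv D9558)
def n12175 : Q := act 8 n9519
theorem D12175 : act 8 n9519 = n12175 := rfl
theorem F56381 : act 2 n12175 = n9531 := d22_1 D12175 (iv D9531) (iv F44737)
theorem F56382 : act 6 n12175 = n12175 := d40_1 D12175 (iv D12175) F44738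
def n12176 : Q := act 3 n9521
theorem D12176 : act 3 n9521 = n12176 := rfl
theorem F56383 : act 1 n12176 = n12176 := d10_1 D12176 (iv D12176) F44744
theorem F56384 : act 4 n12176 = n12176 := d24_2 D9521 D12176 (iv D12176) (iv D9521) F35822
theorem F56385 : act 5 n12176 = n9523 := d25_2 (iv F44745) D12176 (iv D9523)
theorem F56386 : act 8 n12176 = n12176 := d28_2 F44746 D12176 (iv D12176)
def n12177 : Q := act 6 n9521
theorem D12177 : act 6 n9521 = n12177 := rfl
theorem F56387 : act 1 n12177 = n12177 := d13_1 D12177 (iv D12177) F44744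
theorem F56388 : act 4 n12177 = n9522 := d31_1 D12177 (iv D9522) D9521
theorem F56389 : act 8 n12177 = n12177 := d40_2 F44746 D12177 (iv D12177)
def n12178 : Q := act 7 n9522
theorem D12178 : act 7 n9522 = n12178 := rfl
theorem F56390 : act 1 n12178 = n12178 := d14_1 D12178 (iv D12178) F44747
theorem F56391 : act 3 n12178 = n12178 := d27_1 D12178 (iv D12178) F44748
theorem F56392 : act 8 n12178 = n12178 := d42_2 F44749 D12178 (iv D12178)
def n12179 : Q := act 2 n9523
theorem D12179 : act 2 n9523 = n12179 := rfl
theorem F56393 : act 4 n12179 = n9532 := d18_2 (iv F44751) D12179 (iv D9532)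
theorem F56394 : act 8 n12179 = n9526 := d22_2 (iv F44752) D12179 (iv D9526)
def n12180 : Q := act 6 n9523
theorem D12180 : act 6 n9523 = n12180 := rfl
theorem F56395 : act 1 n12180 = n12180 := d13_1 D12180 (iv D12180) F44750
theorem F56396 : act 3 n12180 = n9524 := d26_1 D12180 (iv D9524) D9523
theorem F56397 : act 4 n12180 = n9533 := d31_1 D12180 (iv D9533) (iv F44751)
theorem F56398 : act 8 n12180 = n9527 := d40_2 (iv F44752) D12180 (iv D9527)
def n12181 : Q := act 5 n9524
theorem D12181 : act 5 n9524 = n12181 := rfl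
theorem F56399 : act 1 n12181 = n12181 := d12_1 D12181 (iv D12181) F44753
def n12182 : Q := act 7 n9524
theorem D12182 : act 7 n9524 = n12182 := rfl
theorem F56400 : act 1 n12182 = n12182 := d14_1 D12182 (iv D12182) F44753
theorem F56401 : act 4 n12182 = n9525 := d32_1 D12182 (iv D9525) (iv F44754)
theorem F56402 : act 8 n12182 = n9529 := d42_2 (iv F44755) D12182 (iv D9529)
def n12183 : Q := act 1 n9526
theorem D12183 : act 1 n9526 = n12183 := rfl
theorem F56403 : act 2 n12183 = n12183 := d9_2 D9526 D12183 (iv D12183) (iv D9526) F35829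
theorem F56404 : act 4 n12183 = n9536 := d11_2 (iv F44759) D12183 (iv D9536)
theorem F56405 : act 5 n12183 = n12183 := d12_2 F44760 D12183 (iv D12183)
theorem F56406 : act 9 n12183 = n9560 := d16_2 (iv F44761) D12183 (iv D9560)
def n12184 : Q := act 6 n9526
theorem D12184 : act 6 n9526 = n12184 := rfl
theorem F56407 : act 2 n12184 = n9527 := d20_1 D12184 (iv D9527) D9526
theorem F56408 : act 4 n12184 = n9537 := d31_1 D12184 (iv D9537) (iv F44759)
theorem F56409 : act 9 n12184 = n9561 := d41_2 (iv F44761) D12184 (iv D9561)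
def n12185 : Q := act 5 n9527
theorem D12185 : act 5 n9527 = n12185 := rfl
theorem F56410 : act 1 n12185 = n12185 := d12_1 D12185 (iv D12185) F44762
theorem F56411 : act 3 n12185 = n9528 := d25_1 D12185 (iv D9528) (iv F44763)
theorem F56412 : act 4 n12185 = n12185 := d30_1 D12185 (iv D12185) F44764 F35864 (iv F44764)
theorem F56413 : act 6 n12185 = n12185 := d35_2 D9527 D12185 (iv D12185) (iv D9527) F35831
theorem F56414 : act 9 n12185 = n9562 := d38_2 (iv F44765) D12185 (iv D9562)
def n12186 : Q := act 7 n9527
theorem D12186 : act 7 n9527 = n12186 := rfl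
theorem F56415 : act 1 n12186 = n12186 := d14_1 D12186 (iv D12186) F44762
theorem F56416 : act 3 n12186 = n9529 := d27_1 D12186 (iv D9529) (iv F44763)
theorem F56417 : act 4 n12186 = n9538 := d32_1 D12186 (iv D9538) (iv F44764)
theorem F56418 : act 9 n12186 = n9563 := d43_2 (iv F44765) D12186 (iv D9563)
def n12187 : Q := act 7 n9528
theorem D12187 : act 7 n9528 = n12187 := rfl
theorem F56419 : act 1 n12187 = n12187 := d14_1 D12187 (iv D12187) F44766
theorem F56420 : act 4 n12187 = n9530 := d32_1 D12187 (iv D9530) (iv F44767)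
theorem F56421 : act 5 n12187 = n9529 := d36_1 D12187 (iv D9529) D9528
theorem F56422 : act 9 n12187 = n9564 := d43_2 (iv F44769) D12187 (iv D9564)
def n12188 : Q := act 8 n9528
theorem D12188 : act 8 n9528 = n12188 := rfl
theorem F56423 : act 1 n12188 = n12188 := d15_1 D12188 (iv D12188) F44766
theorem F56424 : act 4 n12188 = n9531 := d33_1 D12188 (iv D9531) (iv F44767)
theorem F56425 : act 6 n12188 = n12188 := d40_1 D12188 (iv D12188) F44768
def n12189 : Q := act 6 n9530
theorem D12189 : act 6 n9530 = n12189 := rfl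
theorem F56426 : act 1 n12189 = n12189 := d13_1 D12189 (iv D12189) F44773
theorem F56427 : act 3 n12189 = n12189 := d26_1 D12189 (iv D12189) F44774
theorem F56428 : act 5 n12189 = n12189 := d35_1 D12189 (iv D12189) F44775 F35847 (iv F44775)
theorem F56429 : act 7 n12189 = n12189 := d39_2 D9530 D12189 (iv D12189) (iv D9530) F35842
theorem F56430 : act 9 n12189 = n9566 := d41_2 (iv F44776) D12189 (iv D9566)
def n12190 : Q := act 8 n9530
theorem D12190 : act 8 n9530 = n12190 := rfl
theorem F56431 : act 1 n12190 = n12190 := d15_1 D12190 (iv D12190) F44773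
theorem F56432 : act 3 n12190 = n12190 := d28_1 D12190 (iv D12190) F44774
theorem F56433 : act 7 n12190 = n9531 := d42_1 D12190 (iv D9531) D9530
def n12191 : Q := act 9 n9531
theorem D12191 : act 9 n9531 = n12191 := rfl
theorem F56434 : act 1 n12191 = n12191 := d16_1 D12191 (iv D12191) F44777
theorem F56435 : act 3 n12191 = n12191 := d29_1 D12191 (iv D12191) F44778
theorem F56436 : act 6 n12191 = n12191 := d41_1 D12191 (iv D12191) F44779
theorem F56437 : act 8 n12191 = n9568 := d44_1 D12191 (iv D9568) (iv D7544) (iv F35843) D9531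
def n12192 : Q := act 1 n9532
theorem D12192 : act 1 n9532 = n12192 := rfl
theorem F56438 : act 2 n12192 = n12192 := d9_2 D9532 D12192 (iv D12192) (iv D9532) F35849
theorem F56439 : act 3 n12192 = n9740 := d10_2 (iv F44780) D12192 (iv D9740)
theorem F56440 : act 5 n12192 = n12192 := d12_2 F44781 D12192 (iv D12192)
theorem F56441 : act 8 n12192 = n9536 := d15_2 (iv F44782) D12192 (iv D9536)
def n12193 : Q := act 6 n9532
theorem D12193 : act 6 n9532 = n12193 := rfl
theorem F56442 : act 2 n12193 = n9533 := d20_1 D12193 (iv D9533) D9532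
theorem F56443 : act 3 n12193 = n9741 := d26_1 D12193 (iv D9741) (iv F44780)
theorem F56444 : act 8 n12193 = n9537 := d40_2 (iv F44782) D12193 (iv D9537)
def n12194 : Q := act 5 n9533
theorem D12194 : act 5 n9533 = n12194 := rfl
theorem F56445 : act 1 n12194 = n12194 := d12_1 D12194 (iv D12194) F44783
theorem F56446 : act 3 n12194 = n9534 := d25_1 D12194 (iv D9534) (iv F44784)
theorem F56447 : act 6 n12194 = n12194 := d35_2 D9533 D12194 (iv D12194) (iv D9533) F35850
theorem F56448 : act 8 n12194 = n12194 := d37_2 (iv F44785) D12194 (iv D12194) F44785 F35864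
def n12195 : Q := act 7 n9533
theorem D12195 : act 7 n9533 = n12195 := rfl
theorem F56449 : act 1 n12195 = n12195 := d14_1 D12195 (iv D12195) F44783
theorem F56450 : act 3 n12195 = n9535 := d27_1 D12195 (iv D9535) (iv F44784)
theorem F56451 : act 8 n12195 = n9538 := d42_2 (iv F44785) D12195 (iv D9538)
def n12196 : Q := act 7 n9534
theorem D12196 : act 7 n9534 = n12196 := rfl
theorem F56452 : act 1 n12196 = n12196 := d14_1 D12196 (iv D12196) F44786
theorem F56453 : act 2 n12196 = n9744 := d21_1 D12196 (iv D9744) (iv F44787)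
theorem F56454 : act 5 n12196 = n9535 := d36_1 D12196 (iv D9535) D9534
theorem F56455 : act 8 n12196 = n12196 := d42_2 F44789 D12196 (iv D12196)
def n12197 : Q := act 0 n9536
theorem D12197 : act 0 n9536 = n12197 := rfl
theorem F56458 : act 5 n12197 = n9539 := d4_2 (iv F44796) D12197 (iv D9539)
theorem F56459 : act 9 n12197 = n9569 := d8_2 (iv F44797) D12197 (iv D9569)
def n12198 : Q := act 6 n9536
theorem D12198 : act 6 n9536 = n12198 := rfl
theorem F56460 : act 1 n12198 = n9537 := d13_1 D12198 (iv D9537) D9536
theorem F56461 : act 2 n12198 = n12198 := d20_1 D12198 (iv D12198) F44794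
theorem F56462 : act 3 n12198 = n9752 := d26_1 D12198 (iv D9752) (iv F44795)
theorem F56463 : act 5 n12198 = n12198 := d35_1 D12198 (iv D12198) F44796 F35874 (iv F44796)
theorem F56464 : act 9 n12198 = n9570 := d41_2 (iv F44797) D12198 (iv D9570)
def n12199 : Q := act 7 n9537
theorem D12199 : act 7 n9537 = n12199 := rfl
theorem F56465 : act 2 n12199 = n9538 := d21_1 D12199 (iv D9538) (iv F44798)
theorem F56466 : act 3 n12199 = n9753 := d27_1 D12199 (iv D9753) (iv F44799)
theorem F56467 : act 5 n12199 = n12199 := d36_1 D12199 (iv D12199) F44800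
theorem F56468 : act 9 n12199 = n9571 := d43_2 (iv F44801) D12199 (iv D9571)
def n12200 : Q := act 3 n9540
theorem D12200 : act 3 n9540 = n12200 := rfl
theorem F56469 : act 0 n12200 = n9545 := d2_1 D12200 (iv D9545) (iv F44812)
theorem F56470 : act 4 n12200 = n9764 := d24_2 D9540 D12200 (iv D9764) (iv D7690) (iv F35879)
theorem F56471 : act 5 n12200 = n12200 := d25_2 F44814 D12200 (iv D12200)
def n12201 : Q := act 6 n9540
theorem D12201 : act 6 n9540 = n12201 := rfl
theorem F56472 : act 0 n12201 = n9546 := d5_1 D12201 (iv D9546) (iv F44812)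
theorem F56473 : act 2 n12201 = n12201 := d20_1 D12201 (iv D12201) F44813
theorem F56474 : act 4 n12201 = n9541 := d31_1 D12201 (iv D9541) D9540
def n12202 : Q := act 7 n9541
theorem D12202 : act 7 n9541 = n12202 := rfl
theorem F56475 : act 0 n12202 = n9547 := d6_1 D12202 (iv D9547) (iv F44815)
theorem F56476 : act 2 n12202 = n12202 := d21_1 D12202 (iv D12202) F44816
theorem F56477 : act 3 n12202 = n9766 := d27_1 D12202 (iv D9766) (iv F44817)
theorem F56478 : act 5 n12202 = n9544 := d36_1 D12202 (iv D9544) (iv F44818)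
def n12203 : Q := act 2 n9542
theorem D12203 : act 2 n9542 = n12203 := rfl
theorem F56481 : act 4 n12203 = n9767 := d18_2 (iv F44820) D12203 (iv D9767)
def n12204 : Q := act 6 n9542
theorem D12204 : act 6 n9542 = n12204 := rfl
theorem F56485 : act 0 n12204 = n9549 := d5_1 D12204 (iv D9549) (iv F44819)
theorem F56486 : act 3 n12204 = n9543 := d26_1 D12204 (iv D9543) D9542
theorem F56487 : act 4 n12204 = n9768 := d31_1 D12204 (iv D9768) (iv F44820)
theorem F56488 : act 8 n12204 = n12204 := d40_2 F44823 D12204 (iv D12204)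
def n12205 : Q := act 5 n9543
theorem D12205 : act 5 n9543 = n12205 := rfl
theorem F56489 : act 0 n12205 = n9550 := d4_1 D12205 (iv D9550) (iv F44824)
theorem F56490 : act 2 n12205 = n12205 := d19_1 D12205 (iv D12205) F44825
theorem F56491 : act 6 n12205 = n12205 := d35_2 D9543 D12205 (iv D12205) (iv D9543) F35882
def n12206 : Q := act 7 n9543
theorem D12206 : act 7 n9543 = n12206 := rfl
theorem F56492 : act 0 n12206 = n9551 := d6_1 D12206 (iv D9551) (iv F44824)
theorem F56493 : act 2 n12206 = n12206 := d21_1 D12206 (iv D12206) F44825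
theorem F56494 : act 4 n12206 = n9544 := d32_1 D12206 (iv D9544) (iv F44826)
theorem F56495 : act 6 n12206 = n12206 := d39_1 D12206 (iv D12206) (iv D9543) F35883 D9543
theorem F56496 : act 8 n12206 = n12206 := d42_2 F44827 D12206 (iv D12206)
def n12207 : Q := act 2 n9545
theorem D12207 : act 2 n9545 = n12207 := rfl
theorem F56497 : act 3 n12207 = n12207 := d17_2 D9545 D12207 (iv D12207) (iv D9545) F35890
theorem F56498 : act 4 n12207 = n9779 := d18_2 (iv F44834) D12207 (iv D9779)
theorem F56499 : act 5 n12207 = n12207 := d19_2 F44835 D12207 (iv D12207)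
def n12208 : Q := act 6 n9545
theorem D12208 : act 6 n9545 = n12208 := rfl
theorem F56500 : act 1 n12208 = n9553 := d13_1 D12208 (iv D9553) (iv F44833)
theorem F56501 : act 3 n12208 = n9546 := d26_1 D12208 (iv D9546) D9545
theorem F56502 : act 4 n12208 = n9780 := d31_1 D12208 (iv D9780) (iv F44834)
def n12209 : Q := act 5 n9546
theorem D12209 : act 5 n9546 = n12209 := rfl
theorem F56503 : act 1 n12209 = n9554 := d12_1 D12209 (iv D9554) (iv F44836)
theorem F56504 : act 2 n12209 = n12209 := d19_1 D12209 (iv D12209) F44837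
theorem F56505 : act 4 n12209 = n9550 := d30_1 D12209 (iv D9550) F35903 (iv F35895) (iv F44838)
theorem F56506 : act 6 n12209 = n12209 := d35_2 D9546 D12209 (iv D12209) (iv D9546) F35891
def n12210 : Q := act 7 n9546
theorem D12210 : act 7 n9546 = n12210 := rfl
theorem F56507 : act 1 n12210 = n9555 := d14_1 D12210 (iv D9555) (iv F44836)
theorem F56508 : act 2 n12210 = n12210 := d21_1 D12210 (iv D12210) F44837
theorem F56509 : act 4 n12210 = n9547 := d32_1 D12210 (iv D9547) (iv F44838)
def n12211 : Q := act 6 n9548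
theorem D12211 : act 6 n9548 = n12211 := rfl
theorem F56511 : act 2 n12211 = n9549 := d20_1 D12211 (iv D9549) D9548
theorem F56513 : act 4 n12211 = n9783 := d31_1 D12211 (iv D9783) (iv F44845)
def n12212 : Q := act 5 n9549
theorem D12212 : act 5 n9549 = n12212 := rfl
theorem F56515 : act 1 n12212 = n9556 := d12_1 D12212 (iv D9556) (iv F44849)
theorem F56516 : act 3 n12212 = n9550 := d25_1 D12212 (iv D9550) (iv F44850)
theorem F56517 : act 6 n12212 = n12212 := d35_2 D9549 D12212 (iv D12212) (iv D9549) F35898
def n12213 : Q := act 7 n9549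
theorem D12213 : act 7 n9549 = n12213 := rfl
theorem F56518 : act 1 n12213 = n9557 := d14_1 D12213 (iv D9557) (iv F44849)
theorem F56519 : act 3 n12213 = n9551 := d27_1 D12213 (iv D9551) (iv F44850)
theorem F56520 : act 4 n12213 = n9785 := d32_1 D12213 (iv D9785) (iv F44851)
theorem F56521 : act 6 n12213 = n12213 := d39_1 D12213 (iv D12213) (iv D9549) F35899 D9549
theorem F56522 : act 8 n12213 = n12213 := d42_2 F44852 D12213 (iv D12213)
def n12214 : Q := act 7 n9550
theorem D12214 : act 7 n9550 = n12214 := rfl
theorem F56523 : act 1 n12214 = n9558 := d14_1 D12214 (iv D9558) (iv F44853)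
theorem F56524 : act 2 n12214 = n12214 := d21_1 D12214 (iv D12214) F44854
theorem F56525 : act 5 n12214 = n9551 := d36_1 D12214 (iv D9551) D9550
def n12215 : Q := act 8 n9550
theorem D12215 : act 8 n9550 = n12215 := rfl
theorem F56526 : act 1 n12215 = n9559 := d15_1 D12215 (iv D9559) (iv F44853)
theorem F56527 : act 2 n12215 = n12215 := d22_1 D12215 (iv D12215) F44854
theorem F56528 : act 5 n12215 = n12215 := d37_1 D12215 (iv D12215) (iv D9550) F35904 D9550
theorem F56529 : act 6 n12215 = n12215 := d40_1 D12215 (iv D12215) F44855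
def n12216 : Q := act 1 n9552
theorem D12216 : act 1 n9552 = n12216 := rfl
theorem F56530 : act 3 n12216 = n9560 := d10_2 (iv F44861) D12216 (iv D9560)
theorem F56531 : act 4 n12216 = n9799 := d11_2 (iv F44862) D12216 (iv D9799)
theorem F56532 : act 5 n12216 = n12216 := d12_2 F44863 D12216 (iv D12216)
def n12217 : Q := act 6 n9552
theorem D12217 : act 6 n9552 = n12217 := rfl
theorem F56533 : act 2 n12217 = n9553 := d20_1 D12217 (iv D9553) D9552
theorem F56534 : act 3 n12217 = n9561 := d26_1 D12217 (iv D9561) (iv F44861)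
theorem F56535 : act 4 n12217 = n9800 := d31_1 D12217 (iv D9800) (iv F44862)
def n12218 : Q := act 5 n9553
theorem D12218 : act 5 n9553 = n12218 := rfl
theorem F56536 : act 3 n12218 = n9554 := d25_1 D12218 (iv D9554) (iv F44864)
theorem F56537 : act 6 n12218 = n12218 := d35_2 D9553 D12218 (iv D12218) (iv D9553) F35911
def n12219 : Q := act 7 n9553
theorem D12219 : act 7 n9553 = n12219 := rfl
theorem F56538 : act 3 n12219 = n9555 := d27_1 D12219 (iv D9555) (iv F44864)
theorem F56539 : act 4 n12219 = n9802 := d32_1 D12219 (iv D9802) (iv F44865)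
def n12220 : Q := act 7 n9554
theorem D12220 : act 7 n9554 = n12220 := rfl
theorem F56540 : act 2 n12220 = n9564 := d21_1 D12220 (iv D9564) (iv F44866)
theorem F56541 : act 4 n12220 = n9558 := d32_1 D12220 (iv D9558) (iv F44867)
theorem F56542 : act 5 n12220 = n9555 := d36_1 D12220 (iv D9555) D9554
def n12221 : Q := act 8 n9554
theorem D12221 : act 8 n9554 = n12221 := rfl
theorem F56543 : act 2 n12221 = n9565 := d22_1 D12221 (iv D9565) (iv F44866)
theorem F56544 : act 4 n12221 = n9559 := d33_1 D12221 (iv D9559) (iv F44867)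
theorem F56545 : act 6 n12221 = n12221 := d40_1 D12221 (iv D12221) F44868
def n12222 : Q := act 4 n9556
theorem D12222 : act 4 n9556 = n12222 := rfl
theorem F56546 : act 2 n12222 = n12222 := d18_1 D12222 (iv D12222) F44871
theorem F56547 : act 5 n12222 = n9805 := d30_2 D9556 D12222 (iv D9805) (iv D7719) (iv F35919)
theorem F56548 : act 6 n12222 = n12222 := d31_2 F44873 D12222 (iv D12222)
def n12223 : Q := act 7 n9556
theorem D12223 : act 7 n9556 = n12223 := rfl
theorem F56549 : act 2 n12223 = n12223 := d21_1 D12223 (iv D12223) F44871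
theorem F56550 : act 3 n12223 = n9558 := d27_1 D12223 (iv D9558) (iv F44872)
theorem F56551 : act 5 n12223 = n9557 := d36_1 D12223 (iv D9557) D9556
def n12224 : Q := act 8 n9556
theorem D12224 : act 8 n9556 = n12224 := rfl
theorem F56552 : act 2 n12224 = n12224 := d22_1 D12224 (iv D12224) F44871
theorem F56553 : act 3 n12224 = n9559 := d28_1 D12224 (iv D9559) (iv F44872)
theorem F56554 : act 5 n12224 = n12224 := d37_1 D12224 (iv D12224) (iv D9556) F35920 D9556
theorem F56555 : act 6 n12224 = n12224 := d40_1 D12224 (iv D12224) F44873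
def n12225 : Q := act 6 n9558
theorem D12225 : act 6 n9558 = n12225 := rfl
theorem F56556 : act 2 n12225 = n9566 := d20_1 D12225 (iv D9566) (iv F44879)
theorem F56557 : act 5 n12225 = n12225 := d35_1 D12225 (iv D12225) F44880 F35925 (iv F44880)
theorem F56558 : act 7 n12225 = n12225 := d39_2 D9558 D12225 (iv D12225) (iv D9558) F35922
def n12226 : Q := act 8 n9558
theorem D12226 : act 8 n9558 = n12226 := rfl
theorem F56559 : act 2 n12226 = n9567 := d22_1 D12226 (iv D9567) (iv F44879)
theorem F56560 : act 5 n12226 = n12226 := d37_1 D12226 (iv D12226) F44880 F35926 (iv F44880)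
theorem F56561 : act 7 n12226 = n9559 := d42_1 D12226 (iv D9559) D9558
def n12227 : Q := act 9 n9559
theorem D12227 : act 9 n9559 = n12227 := rfl
theorem F56562 : act 2 n12227 = n9568 := d23_1 D12227 (iv D9568) (iv F44881)
theorem F56563 : act 5 n12227 = n12227 := d38_1 D12227 (iv D12227) F44882
theorem F56564 : act 6 n12227 = n12227 := d41_1 D12227 (iv D12227) F44883
def n12228 : Q := act 0 n9560
theorem D12228 : act 0 n9560 = n12228 := rfl
theorem F56566 : act 4 n12228 = n9569 := d3_2 (iv F44885) D12228 (iv D9569)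
def n12229 : Q := act 6 n9560
theorem D12229 : act 6 n9560 = n12229 := rfl
theorem F56568 : act 1 n12229 = n9561 := d13_1 D12229 (iv D9561) D9560
theorem F56569 : act 2 n12229 = n12229 := d20_1 D12229 (iv D12229) F44884
theorem F56570 : act 4 n12229 = n9570 := d31_1 D12229 (iv D9570) (iv F44885)
def n12230 : Q := act 5 n9561
theorem D12230 : act 5 n9561 = n12230 := rfl
theorem F56571 : act 2 n12230 = n9562 := d19_1 D12230 (iv D9562) (iv F44887)
theorem F56572 : act 4 n12230 = n12230 := d30_1 D12230 (iv D12230) F44888 F35949 (iv F44888)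
theorem F56573 : act 6 n12230 = n12230 := d35_2 D9561 D12230 (iv D12230) (iv D9561) F35928
def n12231 : Q := act 7 n9561
theorem D12231 : act 7 n9561 = n12231 := rfl
theorem F56574 : act 2 n12231 = n9563 := d21_1 D12231 (iv D9563) (iv F44887)
theorem F56575 : act 4 n12231 = n9571 := d32_1 D12231 (iv D9571) (iv F44888)
def n12232 : Q := act 7 n9562
theorem D12232 : act 7 n9562 = n12232 := rfl
theorem F56576 : act 1 n12232 = n12232 := d14_1 D12232 (iv D12232) F44889
theorem F56577 : act 3 n12232 = n9564 := d27_1 D12232 (iv D9564) (iv F44890)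
theorem F56578 : act 4 n12232 = n12232 := d32_1 D12232 (iv D12232) F44891
theorem F56579 : act 5 n12232 = n9563 := d36_1 D12232 (iv D9563) D9562
def n12233 : Q := act 8 n9562
theorem D12233 : act 8 n9562 = n12233 := rfl
theorem F56580 : act 1 n12233 = n12233 := d15_1 D12233 (iv D12233) F44889
theorem F56581 : act 3 n12233 = n9565 := d28_1 D12233 (iv D9565) (iv F44890)
theorem F56582 : act 4 n12233 = n12233 := d33_1 D12233 (iv D12233) F44891
theorem F56583 : act 6 n12233 = n12233 := d40_1 D12233 (iv D12233) F44892
def n12234 : Q := act 6 n9564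
theorem D12234 : act 6 n9564 = n12234 := rfl
theorem F56584 : act 1 n12234 = n12234 := d13_1 D12234 (iv D12234) F44896
theorem F56585 : act 4 n12234 = n9566 := d31_1 D12234 (iv D9566) (iv F44897)
theorem F56586 : act 7 n12234 = n12234 := d39_2 D9564 D12234 (iv D12234) (iv D9564) F35934
def n12235 : Q := act 8 n9564
theorem D12235 : act 8 n9564 = n12235 := rfl
theorem F56587 : act 1 n12235 = n12235 := d15_1 D12235 (iv D12235) F44896
theorem F56588 : act 4 n12235 = n9567 := d33_1 D12235 (iv D9567) (iv F44897)
theorem F56589 : act 7 n12235 = n9565 := d42_1 D12235 (iv D9565) D9564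
def n12236 : Q := act 9 n9565
theorem D12236 : act 9 n9565 = n12236 := rfl
theorem F56590 : act 1 n12236 = n12236 := d16_1 D12236 (iv D12236) F44899
theorem F56591 : act 4 n12236 = n9568 := d34_1 D12236 (iv D9568) (iv F44900)
theorem F56592 : act 6 n12236 = n12236 := d41_1 D12236 (iv D12236) F44901
def n12237 : Q := act 8 n9566
theorem D12237 : act 8 n9566 = n12237 := rfl
theorem F56593 : act 1 n12237 = n12237 := d15_1 D12237 (iv D12237) F44902
theorem F56594 : act 3 n12237 = n12237 := d28_1 D12237 (iv D12237) F44903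
theorem F56595 : act 6 n12237 = n9567 := d40_1 D12237 (iv D9567) D9566
theorem F56596 : act 7 n12237 = n12237 := d42_1 D12237 (iv D12237) F44905
def n12238 : Q := act 9 n9567
theorem D12238 : act 9 n9567 = n12238 := rfl
theorem F56597 : act 1 n12238 = n12238 := d16_1 D12238 (iv D12238) F44906
theorem F56598 : act 3 n12238 = n12238 := d29_1 D12238 (iv D12238) F44907
theorem F56599 : act 5 n12238 = n12238 := d38_1 D12238 (iv D12238) F44908
theorem F56600 : act 7 n12238 = n9568 := d43_1 D12238 (iv D9568) (iv F44909)
def n12239 : Q := act 6 n9569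
theorem D12239 : act 6 n9569 = n12239 := rfl
def n12240 : Q := act 7 n9570
theorem D12240 : act 7 n9570 = n12240 := rfl
theorem F56605 : act 1 n12240 = n9571 := d14_1 D12240 (iv D9571) (iv F44917)
theorem F56606 : act 2 n12240 = n12240 := d21_1 D12240 (iv D12240) F44918
theorem F56608 : act 5 n12240 = n12240 := d36_1 D12240 (iv D12240) F44920
def n12241 : Q := act 5 n9572
theorem D12241 : act 5 n9572 = n12241 := rfl
theorem F56609 : act 0 n12241 = n9579 := d4_1 D12241 (iv D9579) (iv F44924)
theorem F56610 : act 2 n12241 = n10130 := d19_1 D12241 (iv D10130) (iv F44925)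
theorem F56611 : act 8 n12241 = n9573 := d37_2 D9572 D12241 (iv D9573) (iv D7550) (iv F35960)
def n12242 : Q := act 4 n9573
theorem D12242 : act 4 n9573 = n12242 := rfl
theorem F56612 : act 0 n12242 = n9581 := d3_1 D12242 (iv D9581) (iv F44927)
theorem F56613 : act 2 n12242 = n10132 := d18_1 D12242 (iv D10132) (iv F44928)
theorem F56614 : act 5 n12242 = n12242 := d30_2 D9573 D12242 (iv D12242) (iv D9573) F35964
theorem F56615 : act 9 n12242 = n12242 := d34_2 F44929 D12242 (iv D12242)
def n12243 : Q := act 6 n9573
theorem D12243 : act 6 n9573 = n12243 := rfl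
theorem F56616 : act 0 n12243 = n9582 := d5_1 D12243 (iv D9582) (iv F44927)
theorem F56617 : act 2 n12243 = n10133 := d20_1 D12243 (iv D10133) (iv F44928)
theorem F56618 : act 5 n12243 = n9575 := d35_1 D12243 (iv D9575) (iv D7551) (iv F35965) D9573
theorem F56619 : act 9 n12243 = n12243 := d41_2 F44929 D12243 (iv D12243)
def n12244 : Q := act 3 n9574
theorem D12244 : act 3 n9574 = n12244 := rfl
theorem F56620 : act 0 n12244 = n9583 := d2_1 D12244 (iv D9583) (iv F44930)
theorem F56621 : act 5 n12244 = n12244 := d25_2 F44932 D12244 (iv D12244)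
theorem F56622 : act 7 n12244 = n12244 := d27_2 F44933 D12244 (iv D12244)
theorem F56623 : act 8 n12244 = n9654 := d28_2 (iv F44934) D12244 (iv D9654)
theorem F56624 : act 9 n12244 = n12244 := d29_2 F44935 D12244 (iv D12244)
def n12245 : Q := act 6 n9574
theorem D12245 : act 6 n9574 = n12245 := rfl
theorem F56625 : act 0 n12245 = n9584 := d5_1 D12245 (iv D9584) (iv F44930)
theorem F56626 : act 2 n12245 = n10135 := d20_1 D12245 (iv D10135) (iv F44931)
theorem F56627 : act 4 n12245 = n9575 := d31_1 D12245 (iv D9575) D9574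
theorem F56628 : act 8 n12245 = n9655 := d40_2 (iv F44934) D12245 (iv D9655)
theorem F56629 : act 9 n12245 = n12245 := d41_2 F44935 D12245 (iv D12245)
def n12246 : Q := act 7 n9575
theorem D12246 : act 7 n9575 = n12246 := rfl
theorem F56630 : act 0 n12246 = n9585 := d6_1 D12246 (iv D9585) (iv F44936)
theorem F56631 : act 2 n12246 = n10136 := d21_1 D12246 (iv D10136) (iv F44937)
theorem F56632 : act 6 n12246 = n12246 := d39_1 D12246 (iv D12246) (iv D9575) F35969 D9575
theorem F56633 : act 8 n12246 = n9656 := d42_2 (iv F44938) D12246 (iv D9656)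
theorem F56634 : act 9 n12246 = n12246 := d43_2 F44939 D12246 (iv D12246)
def n12247 : Q := act 5 n9576
theorem D12247 : act 5 n9576 = n12247 := rfl
theorem F56635 : act 1 n12247 = n9587 := d12_1 D12247 (iv D9587) (iv F44940)
theorem F56636 : act 2 n12247 = n9606 := d19_1 D12247 (iv D9606) (iv F44941)
theorem F56637 : act 7 n12247 = n9590 := d36_2 (iv F44944) D12247 (iv D9590)
theorem F56638 : act 8 n12247 = n12247 := d37_2 D9576 D12247 (iv D12247) (iv D9576) F35975
theorem F56639 : act 9 n12247 = n9589 := d38_2 (iv F44945) D12247 (iv D9589)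
def n12248 : Q := act 5 n9577
theorem D12248 : act 5 n9577 = n12248 := rfl
theorem F56640 : act 1 n12248 = n9589 := d12_1 D12248 (iv D9589) (iv F44946)
theorem F56641 : act 2 n12248 = n9602 := d19_1 D12248 (iv D9602) (iv F44947)
theorem F56642 : act 7 n12248 = n9579 := d36_2 (iv F44950) D12248 (iv D9579)
theorem F56643 : act 8 n12248 = n9580 := d37_2 D9577 D12248 (iv D9580) (iv D7556) (iv F35981)
theorem F56644 : act 9 n12248 = n9587 := d38_2 (iv F44951) D12248 (iv D9587)
def n12249 : Q := act 5 n9578
theorem D12249 : act 5 n9578 = n12249 := rfl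
theorem F56645 : act 1 n12249 = n9590 := d12_1 D12249 (iv D9590) (iv F44952)
theorem F56646 : act 2 n12249 = n9601 := d19_1 D12249 (iv D9601) (iv F44953)
theorem F56647 : act 7 n12249 = n9587 := d36_2 (iv F44956) D12249 (iv D9587)
theorem F56648 : act 8 n12249 = n12249 := d37_2 D9578 D12249 (iv D12249) (iv D9578) F35987
theorem F56649 : act 9 n12249 = n9579 := d38_2 (iv F44957) D12249 (iv D9579)
def n12250 : Q := act 4 n9579
theorem D12250 : act 4 n9579 = n12250 := rfl
theorem F56650 : act 1 n12250 = n9591 := d11_1 D12250 (iv D9591) (iv F44958)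
theorem F56651 : act 2 n12250 = n10137 := d18_1 D12250 (iv D10137) (iv F44959)
theorem F56652 : act 8 n12250 = n9581 := d33_2 (iv F44960) D12250 (iv D9581)
def n12251 : Q := act 6 n9579
theorem D12251 : act 6 n9579 = n12251 := rfl
theorem F56653 : act 1 n12251 = n9592 := d13_1 D12251 (iv D9592) (iv F44958)
theorem F56654 : act 2 n12251 = n10138 := d20_1 D12251 (iv D10138) (iv F44959)
theorem F56655 : act 5 n12251 = n9661 := d35_1 D12251 (iv D9661) (iv D7616) (iv F35992) D9579
theorem F56656 : act 8 n12251 = n9582 := d40_2 (iv F44960) D12251 (iv D9582)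
def n12252 : Q := act 4 n9580
theorem D12252 : act 4 n9580 = n12252 := rfl
theorem F56657 : act 1 n12252 = n9593 := d11_1 D12252 (iv D9593) (iv F44961)
theorem F56658 : act 2 n12252 = n10139 := d18_1 D12252 (iv D10139) (iv F44962)
theorem F56659 : act 5 n12252 = n12252 := d30_2 D9580 D12252 (iv D12252) (iv D9580) F35995
theorem F56660 : act 7 n12252 = n9581 := d32_2 (iv F44963) D12252 (iv D9581)
theorem F56661 : act 9 n12252 = n12252 := d34_2 F44964 D12252 (iv D12252)
def n12253 : Q := act 6 n9580
theorem D12253 : act 6 n9580 = n12253 := rfl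
theorem F56662 : act 1 n12253 = n9594 := d13_1 D12253 (iv D9594) (iv F44961)
theorem F56663 : act 2 n12253 = n10140 := d20_1 D12253 (iv D10140) (iv F44962)
theorem F56664 : act 5 n12253 = n12253 := d35_1 D12253 (iv D12253) (iv D9580) F35996 D9580
theorem F56665 : act 9 n12253 = n12253 := d41_2 F44964 D12253 (iv D12253)
def n12254 : Q := act 3 n9581
theorem D12254 : act 3 n9581 = n12254 := rfl
theorem F56666 : act 1 n12254 = n9595 := d10_1 D12254 (iv D9595) (iv F44965)
theorem F56667 : act 5 n12254 = n12254 := d25_2 F44967 D12254 (iv D12254)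
theorem F56668 : act 9 n12254 = n12254 := d29_2 F44968 D12254 (iv D12254)
def n12255 : Q := act 6 n9581
theorem D12255 : act 6 n9581 = n12255 := rfl
theorem F56669 : act 1 n12255 = n9596 := d13_1 D12255 (iv D9596) (iv F44965)
theorem F56670 : act 2 n12255 = n10142 := d20_1 D12255 (iv D10142) (iv F44966)
theorem F56671 : act 4 n12255 = n9582 := d31_1 D12255 (iv D9582) D9581
theorem F56672 : act 9 n12255 = n12255 := d41_2 F44968 D12255 (iv D12255)
def n12256 : Q := act 7 n9582
theorem D12256 : act 7 n9582 = n12256 := rfl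
theorem F56673 : act 1 n12256 = n9597 := d14_1 D12256 (iv D9597) (iv F44969)
theorem F56674 : act 2 n12256 = n10143 := d21_1 D12256 (iv D10143) (iv F44970)
theorem F56675 : act 5 n12256 = n9585 := d36_1 D12256 (iv D9585) (iv F44971)
theorem F56676 : act 9 n12256 = n12256 := d43_2 F44972 D12256 (iv D12256)
def n12257 : Q := act 2 n9583
theorem D12257 : act 2 n9583 = n12257 := rfl
theorem F56681 : act 8 n12257 = n9667 := d22_2 (iv F44976) D12257 (iv D9667)
def n12258 : Q := act 6 n9583
theorem D12258 : act 6 n9583 = n12258 := rfl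
theorem F56683 : act 1 n12258 = n9598 := d13_1 D12258 (iv D9598) (iv F44973)
theorem F56684 : act 3 n12258 = n9584 := d26_1 D12258 (iv D9584) D9583
theorem F56685 : act 8 n12258 = n9668 := d40_2 (iv F44976) D12258 (iv D9668)
theorem F56686 : act 9 n12258 = n12258 := d41_2 F44977 D12258 (iv D12258)
def n12259 : Q := act 5 n9584
theorem D12259 : act 5 n9584 = n12259 := rfl
theorem F56687 : act 1 n12259 = n9599 := d12_1 D12259 (iv D9599) (iv F44978)
theorem F56688 : act 2 n12259 = n10146 := d19_1 D12259 (iv D10146) (iv F44979)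
theorem F56689 : act 6 n12259 = n12259 := d35_2 D9584 D12259 (iv D12259) (iv D9584) F36004
theorem F56690 : act 9 n12259 = n12259 := d38_2 F44982 D12259 (iv D12259)
def n12260 : Q := act 7 n9584
theorem D12260 : act 7 n9584 = n12260 := rfl
theorem F56691 : act 1 n12260 = n9600 := d14_1 D12260 (iv D9600) (iv F44978)
theorem F56692 : act 2 n12260 = n10147 := d21_1 D12260 (iv D10147) (iv F44979)
theorem F56693 : act 4 n12260 = n9585 := d32_1 D12260 (iv D9585) (iv F44980)
theorem F56694 : act 6 n12260 = n12260 := d39_1 D12260 (iv D12260) (iv D9584) F36005 D9584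
theorem F56695 : act 8 n12260 = n9670 := d42_2 (iv F44981) D12260 (iv D9670)
theorem F56696 : act 9 n12260 = n12260 := d43_2 F44982 D12260 (iv D12260)
def n12261 : Q := act 5 n9586
theorem D12261 : act 5 n9586 = n12261 := rfl
theorem F56697 : act 2 n12261 = n12261 := d19_1 D12261 (iv D12261) F44988
theorem F56698 : act 3 n12261 = n9587 := d25_1 D12261 (iv D9587) (iv F44989)
theorem F56699 : act 8 n12261 = n12261 := d37_2 D9586 D12261 (iv D12261) (iv D9586) F36014
def n12262 : Q := act 4 n9587
theorem D12262 : act 4 n9587 = n12262 := rfl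
theorem F56700 : act 2 n12262 = n9603 := d18_1 D12262 (iv D9603) (iv F44991)
theorem F56701 : act 5 n12262 = n9591 := d30_2 D9587 D12262 (iv D9591) (iv D7565) (iv F36017)
theorem F56702 : act 8 n12262 = n12262 := d33_2 F44992 D12262 (iv D12262)
def n12263 : Q := act 6 n9587
theorem D12263 : act 6 n9587 = n12263 := rfl
theorem F56703 : act 2 n12263 = n9604 := d20_1 D12263 (iv D9604) (iv F44991)
theorem F56704 : act 5 n12263 = n9676 := d35_1 D12263 (iv D9676) (iv D7627) (iv F36018) D9587
theorem F56705 : act 8 n12263 = n12263 := d40_2 F44992 D12263 (iv D12263)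
def n12264 : Q := act 5 n9588
theorem D12264 : act 5 n9588 = n12264 := rfl
theorem F56706 : act 1 n12264 = n9674 := d12_1 D12264 (iv D9674) (iv F44993)
theorem F56707 : act 2 n12264 = n9605 := d19_1 D12264 (iv D9605) (iv F44994)
theorem F56708 : act 7 n12264 = n9677 := d36_2 (iv F44997) D12264 (iv D9677)
theorem F56709 : act 8 n12264 = n12264 := d37_2 D9588 D12264 (iv D12264) (iv D9588) F36022
theorem F56710 : act 9 n12264 = n9657 := d38_2 (iv F44998) D12264 (iv D9657)
def n12265 : Q := act 4 n9589
theorem D12265 : act 4 n9589 = n12265 := rfl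
theorem F56711 : act 2 n12265 = n9607 := d18_1 D12265 (iv D9607) (iv F44999)
theorem F56712 : act 7 n12265 = n9591 := d32_2 (iv F45000) D12265 (iv D9591)
theorem F56713 : act 8 n12265 = n9593 := d33_2 (iv F45001) D12265 (iv D9593)
def n12266 : Q := act 6 n9589
theorem D12266 : act 6 n9589 = n12266 := rfl
theorem F56714 : act 2 n12266 = n9608 := d20_1 D12266 (iv D9608) (iv F44999)
theorem F56715 : act 8 n12266 = n9594 := d40_2 (iv F45001) D12266 (iv D9594)
def n12267 : Q := act 4 n9590
theorem D12267 : act 4 n9590 = n12267 := rfl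
theorem F56716 : act 2 n12267 = n9609 := d18_1 D12267 (iv D9609) (iv F45002)
theorem F56717 : act 8 n12267 = n12267 := d33_2 F45003 D12267 (iv D12267)
theorem F56718 : act 9 n12267 = n9591 := d34_2 (iv F45004) D12267 (iv D9591)
def n12268 : Q := act 6 n9590
theorem D12268 : act 6 n9590 = n12268 := rfl
theorem F56719 : act 2 n12268 = n9610 := d20_1 D12268 (iv D9610) (iv F45002)
theorem F56720 : act 5 n12268 = n9681 := d35_1 D12268 (iv D9681) (iv D7630) (iv F36028) D9590
theorem F56721 : act 8 n12268 = n12268 := d40_2 F45003 D12268 (iv D12268)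
theorem F56722 : act 9 n12268 = n9592 := d41_2 (iv F45004) D12268 (iv D9592)
def n12269 : Q := act 3 n9591
theorem D12269 : act 3 n9591 = n12269 := rfl
theorem F56723 : act 8 n12269 = n9595 := d28_2 (iv F45006) D12269 (iv D9595)
def n12270 : Q := act 6 n9591
theorem D12270 : act 6 n9591 = n12270 := rfl
theorem F56724 : act 2 n12270 = n9612 := d20_1 D12270 (iv D9612) (iv F45005)
theorem F56725 : act 4 n12270 = n9592 := d31_1 D12270 (iv D9592) D9591
theorem F56726 : act 8 n12270 = n9596 := d40_2 (iv F45006) D12270 (iv D9596)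
def n12271 : Q := act 7 n9592
theorem D12271 : act 7 n9592 = n12271 := rfl
theorem F56727 : act 2 n12271 = n9613 := d21_1 D12271 (iv D9613) (iv F45007)
theorem F56728 : act 5 n12271 = n9684 := d36_1 D12271 (iv D9684) (iv F45008)
theorem F56729 : act 8 n12271 = n9597 := d42_2 (iv F45009) D12271 (iv D9597)
def n12272 : Q := act 3 n9593
theorem D12272 : act 3 n9593 = n12272 := rfl
theorem F56730 : act 5 n12272 = n12272 := d25_2 F45011 D12272 (iv D12272)
theorem F56731 : act 7 n12272 = n9595 := d27_2 (iv F45012) D12272 (iv D9595)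
theorem F56732 : act 9 n12272 = n12272 := d29_2 F45013 D12272 (iv D12272)
def n12273 : Q := act 6 n9593
theorem D12273 : act 6 n9593 = n12273 := rfl
theorem F56733 : act 2 n12273 = n9615 := d20_1 D12273 (iv D9615) (iv F45010)
theorem F56734 : act 4 n12273 = n9594 := d31_1 D12273 (iv D9594) D9593
theorem F56735 : act 9 n12273 = n12273 := d41_2 F45013 D12273 (iv D12273)
def n12274 : Q := act 7 n9594
theorem D12274 : act 7 n9594 = n12274 := rfl
theorem F56736 : act 2 n12274 = n9616 := d21_1 D12274 (iv D9616) (iv F45014)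
theorem F56737 : act 5 n12274 = n12274 := d36_1 D12274 (iv D12274) F45015
theorem F56738 : act 6 n12274 = n9597 := d39_1 D12274 (iv D9597) (iv D7568) (iv F36033) D9594
theorem F56739 : act 9 n12274 = n12274 := d43_2 F45016 D12274 (iv D12274)
def n12275 : Q := act 2 n9595
theorem D12275 : act 2 n9595 = n12275 := rfl
theorem F56740 : act 3 n12275 = n9617 := d17_2 D9595 D12275 (iv D9617) (iv D7583) (iv F36035)
theorem F56741 : act 5 n12275 = n12275 := d19_2 F45017 D12275 (iv D12275)
theorem F56742 : act 9 n12275 = n12275 := d23_2 F45018 D12275 (iv D12275)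
def n12276 : Q := act 6 n9595
theorem D12276 : act 6 n9595 = n12276 := rfl
theorem F56743 : act 3 n12276 = n9596 := d26_1 D12276 (iv D9596) D9595
theorem F56744 : act 9 n12276 = n12276 := d41_2 F45018 D12276 (iv D12276)
def n12277 : Q := act 5 n9596
theorem D12277 : act 5 n9596 = n12277 := rfl
theorem F56745 : act 2 n12277 = n9619 := d19_1 D12277 (iv D9619) (iv F45019)
theorem F56746 : act 4 n12277 = n9599 := d30_1 D12277 (iv D9599) F36047 (iv F36039) (iv F45020)
theorem F56747 : act 6 n12277 = n12277 := d35_2 D9596 D12277 (iv D12277) (iv D9596) F36036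
theorem F56748 : act 9 n12277 = n12277 := d38_2 F45021 D12277 (iv D12277)
def n12278 : Q := act 7 n9596
theorem D12278 : act 7 n9596 = n12278 := rfl
theorem F56749 : act 2 n12278 = n9620 := d21_1 D12278 (iv D9620) (iv F45019)
theorem F56750 : act 4 n12278 = n9597 := d32_1 D12278 (iv D9597) (iv F45020)
theorem F56751 : act 9 n12278 = n12278 := d43_2 F45021 D12278 (iv D12278)
def n12279 : Q := act 5 n9598
theorem D12279 : act 5 n9598 = n12279 := rfl
theorem F56752 : act 2 n12279 = n12279 := d19_1 D12279 (iv D12279) F45025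
theorem F56753 : act 3 n12279 = n9599 := d25_1 D12279 (iv D9599) (iv F45026)
theorem F56754 : act 6 n12279 = n12279 := d35_2 D9598 D12279 (iv D12279) (iv D9598) F36042
theorem F56755 : act 9 n12279 = n12279 := d38_2 F45028 D12279 (iv D12279)
def n12280 : Q := act 7 n9598
theorem D12280 : act 7 n9598 = n12280 := rfl
theorem F56756 : act 2 n12280 = n12280 := d21_1 D12280 (iv D12280) F45025
theorem F56757 : act 3 n12280 = n9600 := d27_1 D12280 (iv D9600) (iv F45026)
theorem F56758 : act 6 n12280 = n12280 := d39_1 D12280 (iv D12280) (iv D9598) F36043 D9598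
theorem F56759 : act 8 n12280 = n9693 := d42_2 (iv F45027) D12280 (iv D9693)
theorem F56760 : act 9 n12280 = n12280 := d43_2 F45028 D12280 (iv D12280)
def n12281 : Q := act 7 n9599
theorem D12281 : act 7 n9599 = n12281 := rfl
theorem F56761 : act 2 n12281 = n9621 := d21_1 D12281 (iv D9621) (iv F45029)
theorem F56762 : act 5 n12281 = n9600 := d36_1 D12281 (iv D9600) D9599
theorem F56763 : act 9 n12281 = n12281 := d43_2 F45031 D12281 (iv D12281)
def n12282 : Q := act 8 n9599
theorem D12282 : act 8 n9599 = n12282 := rfl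
theorem F56764 : act 2 n12282 = n9622 := d22_1 D12282 (iv D9622) (iv F45029)
theorem F56765 : act 5 n12282 = n9695 := d37_1 D12282 (iv D9695) (iv D7639) (iv F36048) D9599
theorem F56766 : act 6 n12282 = n12282 := d40_1 D12282 (iv D12282) F45030
def n12283 : Q := act 4 n9601
theorem D12283 : act 4 n9601 = n12283 := rfl
theorem F56767 : act 1 n12283 = n10152 := d11_1 D12283 (iv D10152) (iv F45037)
theorem F56768 : act 5 n12283 = n9607 := d30_2 D9601 D12283 (iv D9607) (iv D7577) (iv F36056)
theorem F56769 : act 7 n12283 = n9603 := d32_2 (iv F45039) D12283 (iv D9603)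
theorem F56770 : act 8 n12283 = n12283 := d33_2 F45040 D12283 (iv D12283)
theorem F56771 : act 9 n12283 = n10137 := d34_2 (iv F45041) D12283 (iv D10137)
def n12284 : Q := act 6 n9601
theorem D12284 : act 6 n9601 = n12284 := rfl
theorem F56772 : act 1 n12284 = n10153 := d13_1 D12284 (iv D10153) (iv F45037)
theorem F56773 : act 3 n12284 = n12284 := d26_1 D12284 (iv D12284) F45038
theorem F56774 : act 5 n12284 = n10249 := d35_1 D12284 (iv D10249) (iv D8048) (iv F36057) D9601
theorem F56775 : act 8 n12284 = n12284 := d40_2 F45040 D12284 (iv D12284)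
theorem F56776 : act 9 n12284 = n10138 := d41_2 (iv F45041) D12284 (iv D10138)
def n12285 : Q := act 4 n9602
theorem D12285 : act 4 n9602 = n12285 := rfl
theorem F56777 : act 1 n12285 = n10150 := d11_1 D12285 (iv D10150) (iv F45042)
theorem F56778 : act 5 n12285 = n9609 := d30_2 D9602 D12285 (iv D9609) (iv D7578) (iv F36062)
theorem F56779 : act 7 n12285 = n10137 := d32_2 (iv F45044) D12285 (iv D10137)
theorem F56780 : act 8 n12285 = n10139 := d33_2 (iv F45045) D12285 (iv D10139)
theorem F56781 : act 9 n12285 = n9603 := d34_2 (iv F45046) D12285 (iv D9603)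
def n12286 : Q := act 6 n9602
theorem D12286 : act 6 n9602 = n12286 := rfl
theorem F56782 : act 1 n12286 = n10151 := d13_1 D12286 (iv D10151) (iv F45042)
theorem F56783 : act 3 n12286 = n12286 := d26_1 D12286 (iv D12286) F45043
theorem F56784 : act 5 n12286 = n9700 := d35_1 D12286 (iv D9700) (iv D7643) (iv F36063) D9602
theorem F56785 : act 8 n12286 = n10140 := d40_2 (iv F45045) D12286 (iv D10140)
theorem F56786 : act 9 n12286 = n9604 := d41_2 (iv F45046) D12286 (iv D9604)
def n12287 : Q := act 3 n9603
theorem D12287 : act 3 n9603 = n12287 := rfl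
theorem F56787 : act 1 n12287 = n10168 := d10_1 D12287 (iv D10168) (iv F45047)
theorem F56788 : act 4 n12287 = n12287 := d24_2 D9603 D12287 (iv D12287) (iv D9603) F36067
theorem F56789 : act 5 n12287 = n9611 := d25_2 (iv F45048) D12287 (iv D9611)
theorem F56790 : act 8 n12287 = n12287 := d28_2 F45049 D12287 (iv D12287)
def n12288 : Q := act 6 n9603
theorem D12288 : act 6 n9603 = n12288 := rfl
theorem F56791 : act 1 n12288 = n10169 := d13_1 D12288 (iv D10169) (iv F45047)
theorem F56792 : act 4 n12288 = n9604 := d31_1 D12288 (iv D9604) D9603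
theorem F56793 : act 8 n12288 = n12288 := d40_2 F45049 D12288 (iv D12288)
def n12289 : Q := act 7 n9604
theorem D12289 : act 7 n9604 = n12289 := rfl
theorem F56794 : act 1 n12289 = n10170 := d14_1 D12289 (iv D10170) (iv F45050)
theorem F56795 : act 3 n12289 = n12289 := d27_1 D12289 (iv D12289) F45051
theorem F56796 : act 5 n12289 = n9703 := d36_1 D12289 (iv D9703) (iv F45052)
theorem F56797 : act 8 n12289 = n12289 := d42_2 F45053 D12289 (iv D12289)
def n12290 : Q := act 4 n9605
theorem D12290 : act 4 n9605 = n12290 := rfl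
theorem F56798 : act 1 n12290 = n10171 := d11_1 D12290 (iv D10171) (iv F45054)
theorem F56799 : act 5 n12290 = n10248 := d30_2 D9605 D12290 (iv D10248) (iv D8048) (iv F36071)
theorem F56800 : act 7 n12290 = n9704 := d32_2 (iv F45056) D12290 (iv D9704)
theorem F56801 : act 8 n12290 = n12290 := d33_2 F45057 D12290 (iv D12290)
theorem F56802 : act 9 n12290 = n10244 := d34_2 (iv F45058) D12290 (iv D10244)
def n12291 : Q := act 6 n9605
theorem D12291 : act 6 n9605 = n12291 := rfl
theorem F56803 : act 1 n12291 = n10172 := d13_1 D12291 (iv D10172) (iv F45054)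
theorem F56804 : act 3 n12291 = n9624 := d26_1 D12291 (iv D9624) (iv F45055)
theorem F56805 : act 5 n12291 = n9608 := d35_1 D12291 (iv D9608) (iv D7577) (iv F36072) D9605
theorem F56806 : act 8 n12291 = n12291 := d40_2 F45057 D12291 (iv D12291)
theorem F56807 : act 9 n12291 = n10245 := d41_2 (iv F45058) D12291 (iv D10245)
def n12292 : Q := act 4 n9606
theorem D12292 : act 4 n9606 = n12292 := rfl
theorem F56808 : act 1 n12292 = n10148 := d11_1 D12292 (iv D10148) (iv F45059)
theorem F56809 : act 5 n12292 = n10137 := d30_2 D9606 D12292 (iv D10137) (iv D7972) (iv F36077)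
theorem F56810 : act 7 n12292 = n9609 := d32_2 (iv F45061) D12292 (iv D9609)
theorem F56811 : act 8 n12292 = n12292 := d33_2 F45062 D12292 (iv D12292)
theorem F56812 : act 9 n12292 = n9607 := d34_2 (iv F45063) D12292 (iv D9607)
def n12293 : Q := act 6 n9606
theorem D12293 : act 6 n9606 = n12293 := rfl
theorem F56813 : act 1 n12293 = n10149 := d13_1 D12293 (iv D10149) (iv F45059)
theorem F56814 : act 3 n12293 = n9626 := d26_1 D12293 (iv D9626) (iv F45060)
theorem F56815 : act 5 n12293 = n10245 := d35_1 D12293 (iv D10245) (iv D8046) (iv F36078) D9606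
theorem F56816 : act 8 n12293 = n12293 := d40_2 F45062 D12293 (iv D12293)
theorem F56817 : act 9 n12293 = n9608 := d41_2 (iv F45063) D12293 (iv D9608)
def n12294 : Q := act 3 n9607
theorem D12294 : act 3 n9607 = n12294 := rfl
theorem F56818 : act 1 n12294 = n10173 := d10_1 D12294 (iv D10173) (iv F45064)
theorem F56819 : act 4 n12294 = n9627 := d24_2 D9607 D12294 (iv D9627) (iv D7590) (iv F36082)
theorem F56820 : act 7 n12294 = n9611 := d27_2 (iv F45065) D12294 (iv D9611)
theorem F56821 : act 8 n12294 = n9614 := d28_2 (iv F45066) D12294 (iv D9614)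
def n12295 : Q := act 6 n9607
theorem D12295 : act 6 n9607 = n12295 := rfl
theorem F56822 : act 1 n12295 = n10174 := d13_1 D12295 (iv D10174) (iv F45064)
theorem F56823 : act 4 n12295 = n9608 := d31_1 D12295 (iv D9608) D9607
theorem F56824 : act 8 n12295 = n9615 := d40_2 (iv F45066) D12295 (iv D9615)
def n12296 : Q := act 7 n9608
theorem D12296 : act 7 n9608 = n12296 := rfl
theorem F56825 : act 1 n12296 = n10175 := d14_1 D12296 (iv D10175) (iv F45067)
theorem F56826 : act 3 n12296 = n9629 := d27_1 D12296 (iv D9629) (iv F45068)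
theorem F56827 : act 6 n12296 = n9613 := d39_1 D12296 (iv D9613) (iv D7580) (iv F36083) D9608
theorem F56828 : act 8 n12296 = n9616 := d42_2 (iv F45069) D12296 (iv D9616)
def n12297 : Q := act 3 n9609
theorem D12297 : act 3 n9609 = n12297 := rfl
theorem F56829 : act 1 n12297 = n10176 := d10_1 D12297 (iv D10176) (iv F45070)
theorem F56830 : act 4 n12297 = n9630 := d24_2 D9609 D12297 (iv D9630) (iv D7592) (iv F36086)
theorem F56831 : act 8 n12297 = n12297 := d28_2 F45071 D12297 (iv D12297)
theorem F56832 : act 9 n12297 = n9611 := d29_2 (iv F45072) D12297 (iv D9611)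
def n12298 : Q := act 6 n9609
theorem D12298 : act 6 n9609 = n12298 := rfl
theorem F56833 : act 1 n12298 = n10177 := d13_1 D12298 (iv D10177) (iv F45070)
theorem F56834 : act 4 n12298 = n9610 := d31_1 D12298 (iv D9610) D9609
theorem F56835 : act 8 n12298 = n12298 := d40_2 F45071 D12298 (iv D12298)
theorem F56836 : act 9 n12298 = n9612 := d41_2 (iv F45072) D12298 (iv D9612)
def n12299 : Q := act 7 n9610
theorem D12299 : act 7 n9610 = n12299 := rfl
theorem F56837 : act 1 n12299 = n10178 := d14_1 D12299 (iv D10178) (iv F45073)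
theorem F56838 : act 3 n12299 = n9632 := d27_1 D12299 (iv D9632) (iv F45074)
theorem F56839 : act 5 n12299 = n9711 := d36_1 D12299 (iv D9711) (iv F45075)
theorem F56840 : act 8 n12299 = n12299 := d42_2 F45076 D12299 (iv D12299)
theorem F56841 : act 9 n12299 = n9613 := d43_2 (iv F45077) D12299 (iv D9613)
def n12300 : Q := act 2 n9611
theorem D12300 : act 2 n9611 = n12300 := rfl
theorem F56842 : act 4 n12300 = n9633 := d18_2 (iv F45079) D12300 (iv D9633)
theorem F56843 : act 8 n12300 = n9617 := d22_2 (iv F45080) D12300 (iv D9617)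
def n12301 : Q := act 6 n9611
theorem D12301 : act 6 n9611 = n12301 := rfl
theorem F56844 : act 1 n12301 = n10180 := d13_1 D12301 (iv D10180) (iv F45078)
theorem F56845 : act 3 n12301 = n9612 := d26_1 D12301 (iv D9612) D9611
theorem F56846 : act 4 n12301 = n9634 := d31_1 D12301 (iv D9634) (iv F45079)
theorem F56847 : act 8 n12301 = n9618 := d40_2 (iv F45080) D12301 (iv D9618)
def n12302 : Q := act 5 n9612
theorem D12302 : act 5 n9612 = n12302 := rfl
theorem F56848 : act 1 n12302 = n10181 := d12_1 D12302 (iv D10181) (iv F45081)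
theorem F56849 : act 4 n12302 = n9714 := d30_1 D12302 (iv D9714) F36342 (iv F36093) (iv F45082)
def n12303 : Q := act 7 n9612
theorem D12303 : act 7 n9612 = n12303 := rfl
theorem F56850 : act 1 n12303 = n10182 := d14_1 D12303 (iv D10182) (iv F45081)
theorem F56851 : act 4 n12303 = n9613 := d32_1 D12303 (iv D9613) (iv F45082)
theorem F56852 : act 8 n12303 = n9620 := d42_2 (iv F45083) D12303 (iv D9620)
def n12304 : Q := act 2 n9614
theorem D12304 : act 2 n9614 = n12304 := rfl
theorem F56853 : act 4 n12304 = n9637 := d18_2 (iv F45089) D12304 (iv D9637)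
theorem F56854 : act 5 n12304 = n12304 := d19_2 F45090 D12304 (iv D12304)
theorem F56855 : act 7 n12304 = n9617 := d21_2 (iv F45091) D12304 (iv D9617)
theorem F56856 : act 9 n12304 = n12304 := d23_2 F45092 D12304 (iv D12304)
def n12305 : Q := act 6 n9614
theorem D12305 : act 6 n9614 = n12305 := rfl
theorem F56857 : act 1 n12305 = n10184 := d13_1 D12305 (iv D10184) (iv F45088)
theorem F56858 : act 3 n12305 = n9615 := d26_1 D12305 (iv D9615) D9614
theorem F56859 : act 4 n12305 = n9638 := d31_1 D12305 (iv D9638) (iv F45089)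
theorem F56860 : act 9 n12305 = n12305 := d41_2 F45092 D12305 (iv D12305)
def n12306 : Q := act 5 n9615
theorem D12306 : act 5 n9615 = n12306 := rfl
theorem F56861 : act 1 n12306 = n10185 := d12_1 D12306 (iv D10185) (iv F45093)
theorem F56862 : act 4 n12306 = n12306 := d30_1 D12306 (iv D12306) F45094 F36101 (iv F45094)
theorem F56863 : act 6 n12306 = n12306 := d35_2 D9615 D12306 (iv D12306) (iv D9615) F36096
theorem F56864 : act 9 n12306 = n12306 := d38_2 F45095 D12306 (iv D12306)
def n12307 : Q := act 7 n9615
theorem D12307 : act 7 n9615 = n12307 := rfl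
theorem F56865 : act 1 n12307 = n10186 := d14_1 D12307 (iv D10186) (iv F45093)
theorem F56866 : act 4 n12307 = n9616 := d32_1 D12307 (iv D9616) (iv F45094)
theorem F56867 : act 6 n12307 = n9620 := d39_1 D12307 (iv D9620) (iv D7584) (iv F36097) D9615
theorem F56868 : act 9 n12307 = n12307 := d43_2 F45095 D12307 (iv D12307)
def n12308 : Q := act 1 n9617
theorem D12308 : act 1 n9617 = n12308 := rfl
theorem F56869 : act 2 n12308 = n10187 := d9_2 D9617 D12308 (iv D10187) (iv D8005) (iv F36103)
theorem F56870 : act 4 n12308 = n9641 := d11_2 (iv F45101) D12308 (iv D9641)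
theorem F56871 : act 5 n12308 = n12308 := d12_2 F45102 D12308 (iv D12308)
theorem F56872 : act 9 n12308 = n12308 := d16_2 F45103 D12308 (iv D12308)
def n12309 : Q := act 6 n9617
theorem D12309 : act 6 n9617 = n12309 := rfl
theorem F56873 : act 2 n12309 = n9618 := d20_1 D12309 (iv D9618) D9617
theorem F56874 : act 4 n12309 = n9642 := d31_1 D12309 (iv D9642) (iv F45101)
theorem F56875 : act 9 n12309 = n12309 := d41_2 F45103 D12309 (iv D12309)
def n12310 : Q := act 5 n9618
theorem D12310 : act 5 n9618 = n12310 := rfl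
theorem F56876 : act 1 n12310 = n10189 := d12_1 D12310 (iv D10189) (iv F45104)
theorem F56877 : act 3 n12310 = n9619 := d25_1 D12310 (iv D9619) (iv F45105)
theorem F56878 : act 4 n12310 = n12310 := d30_1 D12310 (iv D12310) F45106 F36169 (iv F45106)
theorem F56879 : act 6 n12310 = n12310 := d35_2 D9618 D12310 (iv D12310) (iv D9618) F36105
theorem F56880 : act 9 n12310 = n12310 := d38_2 F45107 D12310 (iv D12310)
def n12311 : Q := act 7 n9618
theorem D12311 : act 7 n9618 = n12311 := rfl
theorem F56881 : act 1 n12311 = n10190 := d14_1 D12311 (iv D10190) (iv F45104)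
theorem F56882 : act 3 n12311 = n9620 := d27_1 D12311 (iv D9620) (iv F45105)
theorem F56883 : act 4 n12311 = n9643 := d32_1 D12311 (iv D9643) (iv F45106)
theorem F56884 : act 9 n12311 = n12311 := d43_2 F45107 D12311 (iv D12311)
def n12312 : Q := act 7 n9619
theorem D12312 : act 7 n9619 = n12312 := rfl
theorem F56885 : act 1 n12312 = n10191 := d14_1 D12312 (iv D10191) (iv F45108)
theorem F56886 : act 4 n12312 = n9621 := d32_1 D12312 (iv D9621) (iv F45109)
theorem F56887 : act 5 n12312 = n9620 := d36_1 D12312 (iv D9620) D9619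
theorem F56888 : act 9 n12312 = n12312 := d43_2 F45111 D12312 (iv D12312)
def n12313 : Q := act 8 n9619
theorem D12313 : act 8 n9619 = n12313 := rfl
theorem F56889 : act 1 n12313 = n10192 := d15_1 D12313 (iv D10192) (iv F45108)
theorem F56890 : act 4 n12313 = n9622 := d33_1 D12313 (iv D9622) (iv F45109)
theorem F56891 : act 6 n12313 = n12313 := d40_1 D12313 (iv D12313) F45110
def n12314 : Q := act 6 n9621
theorem D12314 : act 6 n9621 = n12314 := rfl
theorem F56892 : act 1 n12314 = n10193 := d13_1 D12314 (iv D10193) (iv F45115)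
theorem F56893 : act 3 n12314 = n12314 := d26_1 D12314 (iv D12314) F45116
theorem F56894 : act 5 n12314 = n12314 := d35_1 D12314 (iv D12314) F45117 F36121 (iv F45117)
theorem F56895 : act 7 n12314 = n12314 := d39_2 D9621 D12314 (iv D12314) (iv D9621) F36116
theorem F56896 : act 9 n12314 = n12314 := d41_2 F45118 D12314 (iv D12314)
def n12315 : Q := act 8 n9621
theorem D12315 : act 8 n9621 = n12315 := rfl
theorem F56897 : act 1 n12315 = n10194 := d15_1 D12315 (iv D10194) (iv F45115)
theorem F56898 : act 3 n12315 = n12315 := d28_1 D12315 (iv D12315) F45116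
theorem F56899 : act 5 n12315 = n9727 := d37_1 D12315 (iv D9727) F36376 (iv F36122) (iv F45117)
theorem F56900 : act 7 n12315 = n9622 := d42_1 D12315 (iv D9622) D9621
def n12316 : Q := act 9 n9622
theorem D12316 : act 9 n9622 = n12316 := rfl
theorem F56901 : act 1 n12316 = n10195 := d16_1 D12316 (iv D10195) (iv F45119)
theorem F56902 : act 3 n12316 = n12316 := d29_1 D12316 (iv D12316) F45120
theorem F56903 : act 5 n12316 = n9728 := d38_1 D12316 (iv D9728) (iv F45121)
theorem F56904 : act 6 n12316 = n12316 := d41_1 D12316 (iv D12316) F45122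
theorem F56905 : act 8 n12316 = n12316 := d44_1 D12316 (iv D12316) (iv D9622) F36117 D9622
def n12317 : Q := act 3 n9623
theorem D12317 : act 3 n9623 = n12317 := rfl
theorem F56906 : act 1 n12317 = n10198 := d10_1 D12317 (iv D10198) (iv F45123)
theorem F56907 : act 5 n12317 = n12317 := d25_2 F45124 D12317 (iv D12317)
theorem F56908 : act 7 n12317 = n9729 := d27_2 (iv F45125) D12317 (iv D9729)
theorem F56909 : act 8 n12317 = n12317 := d28_2 F45126 D12317 (iv D12317)
def n12318 : Q := act 6 n9623
theorem D12318 : act 6 n9623 = n12318 := rfl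
theorem F56910 : act 1 n12318 = n10199 := d13_1 D12318 (iv D10199) (iv F45123)
theorem F56911 : act 4 n12318 = n9624 := d31_1 D12318 (iv D9624) D9623
theorem F56912 : act 8 n12318 = n12318 := d40_2 F45126 D12318 (iv D12318)
def n12319 : Q := act 7 n9624
theorem D12319 : act 7 n9624 = n12319 := rfl
theorem F56913 : act 1 n12319 = n10200 := d14_1 D12319 (iv D10200) (iv F45127)
theorem F56914 : act 5 n12319 = n9629 := d36_1 D12319 (iv D9629) (iv F45128)
theorem F56915 : act 6 n12319 = n9731 := d39_1 D12319 (iv D9731) (iv D7664) (iv F36125) D9624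
theorem F56916 : act 8 n12319 = n12319 := d42_2 F45129 D12319 (iv D12319)
def n12320 : Q := act 3 n9625
theorem D12320 : act 3 n9625 = n12320 := rfl
theorem F56917 : act 1 n12320 = n10201 := d10_1 D12320 (iv D10201) (iv F45130)
theorem F56918 : act 5 n12320 = n12320 := d25_2 F45131 D12320 (iv D12320)
theorem F56919 : act 7 n12320 = n9630 := d27_2 (iv F45132) D12320 (iv D9630)
theorem F56920 : act 8 n12320 = n12320 := d28_2 F45133 D12320 (iv D12320)
theorem F56921 : act 9 n12320 = n9627 := d29_2 (iv F45134) D12320 (iv D9627)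
def n12321 : Q := act 6 n9625
theorem D12321 : act 6 n9625 = n12321 := rfl
theorem F56922 : act 1 n12321 = n10202 := d13_1 D12321 (iv D10202) (iv F45130)
theorem F56923 : act 4 n12321 = n9626 := d31_1 D12321 (iv D9626) D9625
theorem F56924 : act 8 n12321 = n12321 := d40_2 F45133 D12321 (iv D12321)
theorem F56925 : act 9 n12321 = n9628 := d41_2 (iv F45134) D12321 (iv D9628)
def n12322 : Q := act 7 n9626
theorem D12322 : act 7 n9626 = n12322 := rfl
theorem F56926 : act 1 n12322 = n10203 := d14_1 D12322 (iv D10203) (iv F45135)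
theorem F56927 : act 6 n12322 = n9632 := d39_1 D12322 (iv D9632) (iv D7593) (iv F36128) D9626
theorem F56928 : act 8 n12322 = n12322 := d42_2 F45136 D12322 (iv D12322)
theorem F56929 : act 9 n12322 = n9629 := d43_2 (iv F45137) D12322 (iv D9629)
def n12323 : Q := act 2 n9627
theorem D12323 : act 2 n9627 = n12323 := rfl
theorem F56930 : act 5 n12323 = n12323 := d19_2 F45139 D12323 (iv D12323)
theorem F56931 : act 7 n12323 = n9633 := d21_2 (iv F45140) D12323 (iv D9633)
theorem F56932 : act 8 n12323 = n9637 := d22_2 (iv F45141) D12323 (iv D9637)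
def n12324 : Q := act 6 n9627
theorem D12324 : act 6 n9627 = n12324 := rfl
theorem F56933 : act 1 n12324 = n10205 := d13_1 D12324 (iv D10205) (iv F45138)
theorem F56934 : act 3 n12324 = n9628 := d26_1 D12324 (iv D9628) D9627
theorem F56935 : act 8 n12324 = n9638 := d40_2 (iv F45141) D12324 (iv D9638)
def n12325 : Q := act 5 n9628
theorem D12325 : act 5 n9628 = n12325 := rfl
theorem F56936 : act 1 n12325 = n10206 := d12_1 D12325 (iv D10206) (iv F45142)
theorem F56937 : act 6 n12325 = n12325 := d35_2 D9628 D12325 (iv D12325) (iv D9628) F36132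
def n12326 : Q := act 7 n9628
theorem D12326 : act 7 n9628 = n12326 := rfl
theorem F56938 : act 1 n12326 = n10207 := d14_1 D12326 (iv D10207) (iv F45142)
theorem F56939 : act 4 n12326 = n9629 := d32_1 D12326 (iv D9629) (iv F45143)
theorem F56940 : act 6 n12326 = n9636 := d39_1 D12326 (iv D9636) (iv D7595) (iv F36133) D9628
theorem F56941 : act 8 n12326 = n9640 := d42_2 (iv F45144) D12326 (iv D9640)
def n12327 : Q := act 2 n9630
theorem D12327 : act 2 n9630 = n12327 := rfl
theorem F56942 : act 5 n12327 = n12327 := d19_2 F45149 D12327 (iv D12327)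
theorem F56943 : act 8 n12327 = n12327 := d22_2 F45150 D12327 (iv D12327)
theorem F56944 : act 9 n12327 = n9633 := d23_2 (iv F45151) D12327 (iv D9633)
def n12328 : Q := act 6 n9630
theorem D12328 : act 6 n9630 = n12328 := rfl
theorem F56945 : act 1 n12328 = n10209 := d13_1 D12328 (iv D10209) (iv F45148)
theorem F56946 : act 3 n12328 = n9631 := d26_1 D12328 (iv D9631) D9630
theorem F56947 : act 8 n12328 = n12328 := d40_2 F45150 D12328 (iv D12328)
theorem F56948 : act 9 n12328 = n9634 := d41_2 (iv F45151) D12328 (iv D9634)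
def n12329 : Q := act 5 n9631
theorem D12329 : act 5 n9631 = n12329 := rfl
theorem F56949 : act 1 n12329 = n10210 := d12_1 D12329 (iv D10210) (iv F45152)
theorem F56950 : act 4 n12329 = n9738 := d30_1 D12329 (iv D9738) F36402 (iv F36142) (iv F45153)
theorem F56951 : act 6 n12329 = n12329 := d35_2 D9631 D12329 (iv D12329) (iv D9631) F36138
theorem F56952 : act 9 n12329 = n9635 := d38_2 (iv F45155) D12329 (iv D9635)
def n12330 : Q := act 7 n9631
theorem D12330 : act 7 n9631 = n12330 := rfl
theorem F56953 : act 1 n12330 = n10211 := d14_1 D12330 (iv D10211) (iv F45152)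
theorem F56954 : act 4 n12330 = n9632 := d32_1 D12330 (iv D9632) (iv F45153)
theorem F56955 : act 8 n12330 = n12330 := d42_2 F45154 D12330 (iv D12330)
theorem F56956 : act 9 n12330 = n9636 := d43_2 (iv F45155) D12330 (iv D9636)
def n12331 : Q := act 1 n9633
theorem D12331 : act 1 n9633 = n12331 := rfl
theorem F56957 : act 2 n12331 = n10212 := d9_2 D9633 D12331 (iv D10212) (iv D8022) (iv F36145)
theorem F56958 : act 5 n12331 = n12331 := d12_2 F45160 D12331 (iv D12331)
theorem F56959 : act 8 n12331 = n9641 := d15_2 (iv F45161) D12331 (iv D9641)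
def n12332 : Q := act 6 n9633
theorem D12332 : act 6 n9633 = n12332 := rfl
theorem F56960 : act 2 n12332 = n9634 := d20_1 D12332 (iv D9634) D9633
theorem F56961 : act 8 n12332 = n9642 := d40_2 (iv F45161) D12332 (iv D9642)
def n12333 : Q := act 5 n9634
theorem D12333 : act 5 n9634 = n12333 := rfl
theorem F56962 : act 1 n12333 = n10214 := d12_1 D12333 (iv D10214) (iv F45162)
theorem F56963 : act 3 n12333 = n9635 := d25_1 D12333 (iv D9635) (iv F45163)
theorem F56964 : act 6 n12333 = n12333 := d35_2 D9634 D12333 (iv D12333) (iv D9634) F36146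
theorem F56965 : act 8 n12333 = n12333 := d37_2 (iv F45164) D12333 (iv D12333) F45164 F36169
def n12334 : Q := act 7 n9634
theorem D12334 : act 7 n9634 = n12334 := rfl
theorem F56966 : act 1 n12334 = n10215 := d14_1 D12334 (iv D10215) (iv F45162)
theorem F56967 : act 3 n12334 = n9636 := d27_1 D12334 (iv D9636) (iv F45163)
theorem F56968 : act 8 n12334 = n9643 := d42_2 (iv F45164) D12334 (iv D9643)
def n12335 : Q := act 7 n9635
theorem D12335 : act 7 n9635 = n12335 := rfl
theorem F56969 : act 1 n12335 = n10216 := d14_1 D12335 (iv D10216) (iv F45165)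
theorem F56970 : act 4 n12335 = n9744 := d32_1 D12335 (iv D9744) (iv F45166)
theorem F56971 : act 5 n12335 = n9636 := d36_1 D12335 (iv D9636) D9635
theorem F56972 : act 8 n12335 = n12335 := d42_2 F45168 D12335 (iv D12335)
def n12336 : Q := act 1 n9637
theorem D12336 : act 1 n9637 = n12336 := rfl
theorem F56973 : act 2 n12336 = n10217 := d9_2 D9637 D12336 (iv D10217) (iv D8026) (iv F36154)
theorem F56974 : act 5 n12336 = n9644 := d12_2 (iv F45172) D12336 (iv D9644)
theorem F56975 : act 7 n12336 = n9641 := d14_2 (iv F45173) D12336 (iv D9641)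
theorem F56976 : act 9 n12336 = n12336 := d16_2 F45174 D12336 (iv D12336)
def n12337 : Q := act 6 n9637
theorem D12337 : act 6 n9637 = n12337 := rfl
theorem F56977 : act 2 n12337 = n9638 := d20_1 D12337 (iv D9638) D9637
theorem F56978 : act 9 n12337 = n12337 := d41_2 F45174 D12337 (iv D12337)
def n12338 : Q := act 5 n9638
theorem D12338 : act 5 n9638 = n12338 := rfl
theorem F56979 : act 1 n12338 = n10219 := d12_1 D12338 (iv D10219) (iv F45175)
theorem F56980 : act 3 n12338 = n9639 := d25_1 D12338 (iv D9639) (iv F45176)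
theorem F56981 : act 6 n12338 = n9646 := d35_2 D9638 D12338 (iv D9646) (iv D7604) (iv F36155)
theorem F56982 : act 9 n12338 = n12338 := d38_2 F45177 D12338 (iv D12338)
def n12339 : Q := act 7 n9638
theorem D12339 : act 7 n9638 = n12339 := rfl
theorem F56983 : act 1 n12339 = n10220 := d14_1 D12339 (iv D10220) (iv F45175)
theorem F56984 : act 3 n12339 = n9640 := d27_1 D12339 (iv D9640) (iv F45176)
theorem F56985 : act 6 n12339 = n9643 := d39_1 D12339 (iv D9643) (iv D7601) (iv F36156) D9638
theorem F56986 : act 9 n12339 = n12339 := d43_2 F45177 D12339 (iv D12339)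
def n12340 : Q := act 7 n9639
theorem D12340 : act 7 n9639 = n12340 := rfl
theorem F56987 : act 1 n12340 = n10221 := d14_1 D12340 (iv D10221) (iv F45178)
theorem F56988 : act 4 n12340 = n12340 := d32_1 D12340 (iv D12340) F45179
theorem F56989 : act 5 n12340 = n9640 := d36_1 D12340 (iv D9640) D9639
theorem F56990 : act 6 n12340 = n12340 := d39_1 D12340 (iv D12340) F45180 F36187 (iv F45180)
theorem F56991 : act 9 n12340 = n12340 := d43_2 F45181 D12340 (iv D12340)
def n12341 : Q := act 8 n9639
theorem D12341 : act 8 n9639 = n12341 := rfl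
theorem F56992 : act 1 n12341 = n10222 := d15_1 D12341 (iv D10222) (iv F45178)
theorem F56993 : act 4 n12341 = n12341 := d33_1 D12341 (iv D12341) F45179
theorem F56994 : act 6 n12341 = n9647 := d40_1 D12341 (iv D9647) (iv F45180)
def n12342 : Q := act 0 n9641
theorem D12342 : act 0 n9641 = n12342 := rfl
theorem F56995 : act 2 n12342 = n10223 := d1_2 (iv F45186) D12342 (iv D10223)
theorem F56996 : act 5 n12342 = n9648 := d4_2 (iv F45187) D12342 (iv D9648)
theorem F56997 : act 9 n12342 = n12342 := d8_2 F45188 D12342 (iv D12342)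
def n12343 : Q := act 6 n9641
theorem D12343 : act 6 n9641 = n12343 := rfl
theorem F56998 : act 1 n12343 = n9642 := d13_1 D12343 (iv D9642) D9641
theorem F56999 : act 2 n12343 = n10224 := d20_1 D12343 (iv D10224) (iv F45186)
theorem F57000 : act 5 n12343 = n12343 := d35_1 D12343 (iv D12343) F45187 F36191 (iv F45187)
theorem F57001 : act 9 n12343 = n12343 := d41_2 F45188 D12343 (iv D12343)
def n12344 : Q := act 7 n9642
theorem D12344 : act 7 n9642 = n12344 := rfl
theorem F57002 : act 2 n12344 = n9643 := d21_1 D12344 (iv D9643) (iv F45189)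
theorem F57003 : act 5 n12344 = n12344 := d36_1 D12344 (iv D12344) F45190
theorem F57004 : act 9 n12344 = n12344 := d43_2 F45191 D12344 (iv D12344)
def n12345 : Q := act 0 n9644
theorem D12345 : act 0 n9644 = n12345 := rfl
theorem F57005 : act 2 n12345 = n10226 := d1_2 (iv F45196) D12345 (iv D10226)
theorem F57006 : act 4 n12345 = n12345 := d3_2 F45197 D12345 (iv D12345)
theorem F57007 : act 7 n12345 = n9648 := d6_2 (iv F45198) D12345 (iv D9648)
theorem F57008 : act 8 n12345 = n12345 := d7_2 F45199 D12345 (iv D12345)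
theorem F57009 : act 9 n12345 = n12345 := d8_2 F45200 D12345 (iv D12345)
def n12346 : Q := act 6 n9644
theorem D12346 : act 6 n9644 = n12346 := rfl
theorem F57010 : act 1 n12346 = n9645 := d13_1 D12346 (iv D9645) D9644
theorem F57011 : act 2 n12346 = n10227 := d20_1 D12346 (iv D10227) (iv F45196)
theorem F57012 : act 4 n12346 = n12346 := d31_1 D12346 (iv D12346) F45197
theorem F57013 : act 7 n12346 = n12346 := d39_2 (iv F45198) D12346 (iv D12346) F45198 F36191
theorem F57014 : act 8 n12346 = n12346 := d40_2 F45199 D12346 (iv D12346)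
theorem F57015 : act 9 n12346 = n12346 := d41_2 F45200 D12346 (iv D12346)
def n12347 : Q := act 5 n9645
theorem D12347 : act 5 n9645 = n12347 := rfl
theorem F57016 : act 2 n12347 = n9646 := d19_1 D12347 (iv D9646) (iv F45201)
theorem F57017 : act 7 n12347 = n12347 := d36_2 F45203 D12347 (iv D12347)
theorem F57018 : act 9 n12347 = n12347 := d38_2 F45205 D12347 (iv D12347)
def n12348 : Q := act 4 n9646
theorem D12348 : act 4 n9646 = n12348 := rfl
theorem F57019 : act 1 n12348 = n10229 := d11_1 D12348 (iv D10229) (iv F45206)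
theorem F57020 : act 3 n12348 = n12348 := d24_1 D12348 (iv D12348) F45207 F36186 (iv F45207)
theorem F57021 : act 5 n12348 = n12348 := d30_2 D9646 D12348 (iv D12348) (iv D9646) F36181
theorem F57022 : act 7 n12348 = n12348 := d32_2 F45208 D12348 (iv D12348)
theorem F57023 : act 9 n12348 = n12348 := d34_2 F45209 D12348 (iv D12348)
def n12349 : Q := act 8 n9646
theorem D12349 : act 8 n9646 = n12349 := rfl
theorem F57024 : act 1 n12349 = n10230 := d15_1 D12349 (iv D10230) (iv F45206)
theorem F57025 : act 3 n12349 = n9647 := d28_1 D12349 (iv D9647) (iv F45207)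
theorem F57026 : act 5 n12349 = n12349 := d37_1 D12349 (iv D12349) (iv D9646) F36183 D9646
theorem F57027 : act 7 n12349 = n12349 := d42_1 D12349 (iv D12349) F45208
def n12350 : Q := act 9 n9647
theorem D12350 : act 9 n9647 = n12350 := rfl
theorem F57028 : act 1 n12350 = n10231 := d16_1 D12350 (iv D10231) (iv F45210)
theorem F57029 : act 4 n12350 = n12350 := d34_1 D12350 (iv D12350) F45211
theorem F57030 : act 5 n12350 = n12350 := d38_1 D12350 (iv D12350) F45212
theorem F57031 : act 7 n12350 = n12350 := d43_1 D12350 (iv D12350) F45213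
theorem F57032 : act 8 n12350 = n12350 := d44_1 D12350 (iv D12350) (iv D9647) F36188 D9647
def n12351 : Q := act 5 n9649
theorem D12351 : act 5 n9649 = n12351 := rfl
theorem F57033 : act 0 n12351 = n9659 := d4_1 D12351 (iv D9659) (iv F45219)
theorem F57034 : act 2 n12351 = n10232 := d19_1 D12351 (iv D10232) (iv F45220)
theorem F57035 : act 8 n12351 = n9759 := d37_2 D9649 D12351 (iv D9759) (iv D7687) (iv F36196)
theorem F57036 : act 9 n12351 = n9650 := d38_2 (iv F45221) D12351 (iv D9650)
def n12352 : Q := act 4 n9650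
theorem D12352 : act 4 n9650 = n12352 := rfl
theorem F57037 : act 0 n12352 = n9660 := d3_1 D12352 (iv D9660) (iv F45222)
theorem F57038 : act 2 n12352 = n10233 := d18_1 D12352 (iv D10233) (iv F45223)
theorem F57039 : act 8 n12352 = n9652 := d33_2 (iv F45224) D12352 (iv D9652)
def n12353 : Q := act 6 n9650
theorem D12353 : act 6 n9650 = n12353 := rfl
theorem F57040 : act 0 n12353 = n9661 := d5_1 D12353 (iv D9661) (iv F45222)
theorem F57041 : act 2 n12353 = n10234 := d20_1 D12353 (iv D10234) (iv F45223)
theorem F57042 : act 8 n12353 = n9653 := d40_2 (iv F45224) D12353 (iv D9653)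
def n12354 : Q := act 4 n9651
theorem D12354 : act 4 n9651 = n12354 := rfl
theorem F57043 : act 0 n12354 = n9662 := d3_1 D12354 (iv D9662) (iv F45225)
theorem F57044 : act 2 n12354 = n10235 := d18_1 D12354 (iv D10235) (iv F45226)
theorem F57045 : act 5 n12354 = n9871 := d30_2 D9651 D12354 (iv D9871) (iv D7775) (iv F36201)
theorem F57046 : act 7 n12354 = n9652 := d32_2 (iv F45227) D12354 (iv D9652)
theorem F57047 : act 9 n12354 = n9762 := d34_2 (iv F45228) D12354 (iv D9762)
def n12355 : Q := act 6 n9651
theorem D12355 : act 6 n9651 = n12355 := rfl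
theorem F57048 : act 0 n12355 = n9663 := d5_1 D12355 (iv D9663) (iv F45225)
theorem F57049 : act 2 n12355 = n10236 := d20_1 D12355 (iv D10236) (iv F45226)
theorem F57050 : act 5 n12355 = n12355 := d35_1 D12355 (iv D12355) (iv D9651) F36202 D9651
theorem F57051 : act 9 n12355 = n9763 := d41_2 (iv F45228) D12355 (iv D9763)
def n12356 : Q := act 3 n9652
theorem D12356 : act 3 n9652 = n12356 := rfl
theorem F57052 : act 0 n12356 = n9664 := d2_1 D12356 (iv D9664) (iv F45229)
theorem F57053 : act 5 n12356 = n9873 := d25_2 (iv F45231) D12356 (iv D9873)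
theorem F57054 : act 9 n12356 = n9764 := d29_2 (iv F45232) D12356 (iv D9764)
def n12357 : Q := act 6 n9652
theorem D12357 : act 6 n9652 = n12357 := rfl
theorem F57055 : act 0 n12357 = n9665 := d5_1 D12357 (iv D9665) (iv F45229)
theorem F57056 : act 2 n12357 = n10238 := d20_1 D12357 (iv D10238) (iv F45230)
theorem F57057 : act 4 n12357 = n9653 := d31_1 D12357 (iv D9653) D9652
theorem F57058 : act 9 n12357 = n9765 := d41_2 (iv F45232) D12357 (iv D9765)
def n12358 : Q := act 7 n9653
theorem D12358 : act 7 n9653 = n12358 := rfl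
theorem F57059 : act 0 n12358 = n9666 := d6_1 D12358 (iv D9666) (iv F45233)
theorem F57060 : act 2 n12358 = n10239 := d21_1 D12358 (iv D10239) (iv F45234)
theorem F57061 : act 5 n12358 = n9656 := d36_1 D12358 (iv D9656) (iv F45235)
theorem F57062 : act 9 n12358 = n9766 := d43_2 (iv F45236) D12358 (iv D9766)
def n12359 : Q := act 2 n9654
theorem D12359 : act 2 n9654 = n12359 := rfl
theorem F57065 : act 5 n12359 = n9876 := d19_2 (iv F45238) D12359 (iv D9876)
theorem F57067 : act 9 n12359 = n9767 := d23_2 (iv F45240) D12359 (iv D9767)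
def n12360 : Q := act 6 n9654
theorem D12360 : act 6 n9654 = n12360 := rfl
theorem F57068 : act 0 n12360 = n9668 := d5_1 D12360 (iv D9668) (iv F45237)
theorem F57069 : act 3 n12360 = n9655 := d26_1 D12360 (iv D9655) D9654
theorem F57070 : act 9 n12360 = n9768 := d41_2 (iv F45240) D12360 (iv D9768)
def n12361 : Q := act 5 n9655
theorem D12361 : act 5 n9655 = n12361 := rfl
theorem F57071 : act 0 n12361 = n9669 := d4_1 D12361 (iv D9669) (iv F45241)
theorem F57073 : act 6 n12361 = n9878 := d35_2 D9655 D12361 (iv D9878) (iv D7779) (iv F36210)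
theorem F57074 : act 9 n12361 = n9769 := d38_2 (iv F45244) D12361 (iv D9769)
def n12362 : Q := act 7 n9655
theorem D12362 : act 7 n9655 = n12362 := rfl
theorem F57075 : act 0 n12362 = n9670 := d6_1 D12362 (iv D9670) (iv F45241)
theorem F57076 : act 2 n12362 = n10243 := d21_1 D12362 (iv D10243) (iv F45242)
theorem F57077 : act 4 n12362 = n9656 := d32_1 D12362 (iv D9656) (iv F45243)
theorem F57078 : act 6 n12362 = n12362 := d39_1 D12362 (iv D12362) (iv D9655) F36211 D9655
theorem F57079 : act 9 n12362 = n9770 := d43_2 (iv F45244) D12362 (iv D9770)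
def n12363 : Q := act 4 n9657
theorem D12363 : act 4 n9657 = n12363 := rfl
theorem F57080 : act 1 n12363 = n9675 := d11_1 D12363 (iv D9675) (iv F45249)
theorem F57081 : act 2 n12363 = n10244 := d18_1 D12363 (iv D10244) (iv F45250)
theorem F57082 : act 5 n12363 = n9660 := d30_2 D9657 D12363 (iv D9660) (iv D7616) (iv F36218)
theorem F57083 : act 8 n12363 = n9880 := d33_2 (iv F45251) D12363 (iv D9880)
def n12364 : Q := act 6 n9657
theorem D12364 : act 6 n9657 = n12364 := rfl
theorem F57084 : act 1 n12364 = n9676 := d13_1 D12364 (iv D9676) (iv F45249)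
theorem F57085 : act 2 n12364 = n10245 := d20_1 D12364 (iv D10245) (iv F45250)
theorem F57086 : act 8 n12364 = n9881 := d40_2 (iv F45251) D12364 (iv D9881)
def n12365 : Q := act 4 n9658
theorem D12365 : act 4 n9658 = n12365 := rfl
theorem F57087 : act 1 n12365 = n9678 := d11_1 D12365 (iv D9678) (iv F45252)
theorem F57088 : act 2 n12365 = n10246 := d18_1 D12365 (iv D10246) (iv F45253)
theorem F57089 : act 7 n12365 = n9660 := d32_2 (iv F45254) D12365 (iv D9660)
theorem F57090 : act 8 n12365 = n9662 := d33_2 (iv F45255) D12365 (iv D9662)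
def n12366 : Q := act 6 n9658
theorem D12366 : act 6 n9658 = n12366 := rfl
theorem F57091 : act 1 n12366 = n9679 := d13_1 D12366 (iv D9679) (iv F45252)
theorem F57092 : act 2 n12366 = n10247 := d20_1 D12366 (iv D10247) (iv F45253)
theorem F57093 : act 8 n12366 = n9663 := d40_2 (iv F45255) D12366 (iv D9663)
def n12367 : Q := act 4 n9659
theorem D12367 : act 4 n9659 = n12367 := rfl
theorem F57094 : act 1 n12367 = n9680 := d11_1 D12367 (iv D9680) (iv F45256)
theorem F57095 : act 2 n12367 = n10248 := d18_1 D12367 (iv D10248) (iv F45257)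
theorem F57096 : act 8 n12367 = n9771 := d33_2 (iv F45258) D12367 (iv D9771)
theorem F57097 : act 9 n12367 = n9660 := d34_2 (iv F45259) D12367 (iv D9660)
def n12368 : Q := act 6 n9659
theorem D12368 : act 6 n9659 = n12368 := rfl
theorem F57098 : act 1 n12368 = n9681 := d13_1 D12368 (iv D9681) (iv F45256)
theorem F57099 : act 2 n12368 = n10249 := d20_1 D12368 (iv D10249) (iv F45257)
theorem F57100 : act 8 n12368 = n9772 := d40_2 (iv F45258) D12368 (iv D9772)
theorem F57101 : act 9 n12368 = n9661 := d41_2 (iv F45259) D12368 (iv D9661)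
def n12369 : Q := act 3 n9660
theorem D12369 : act 3 n9660 = n12369 := rfl
theorem F57102 : act 1 n12369 = n9682 := d10_1 D12369 (iv D9682) (iv F45260)
theorem F57103 : act 8 n12369 = n9664 := d28_2 (iv F45262) D12369 (iv D9664)
def n12370 : Q := act 6 n9660
theorem D12370 : act 6 n9660 = n12370 := rfl
theorem F57104 : act 1 n12370 = n9683 := d13_1 D12370 (iv D9683) (iv F45260)
theorem F57105 : act 2 n12370 = n10251 := d20_1 D12370 (iv D10251) (iv F45261)
theorem F57106 : act 4 n12370 = n9661 := d31_1 D12370 (iv D9661) D9660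
theorem F57107 : act 8 n12370 = n9665 := d40_2 (iv F45262) D12370 (iv D9665)
def n12371 : Q := act 7 n9661
theorem D12371 : act 7 n9661 = n12371 := rfl
theorem F57108 : act 1 n12371 = n9684 := d14_1 D12371 (iv D9684) (iv F45263)
theorem F57109 : act 2 n12371 = n10252 := d21_1 D12371 (iv D10252) (iv F45264)
theorem F57110 : act 8 n12371 = n9666 := d42_2 (iv F45265) D12371 (iv D9666)
def n12372 : Q := act 3 n9662
theorem D12372 : act 3 n9662 = n12372 := rfl
theorem F57111 : act 1 n12372 = n9685 := d10_1 D12372 (iv D9685) (iv F45266)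
theorem F57112 : act 5 n12372 = n9887 := d25_2 (iv F45268) D12372 (iv D9887)
theorem F57113 : act 7 n12372 = n9664 := d27_2 (iv F45269) D12372 (iv D9664)
theorem F57114 : act 9 n12372 = n9776 := d29_2 (iv F45270) D12372 (iv D9776)
def n12373 : Q := act 6 n9662
theorem D12373 : act 6 n9662 = n12373 := rfl
theorem F57115 : act 1 n12373 = n9686 := d13_1 D12373 (iv D9686) (iv F45266)
theorem F57116 : act 2 n12373 = n10254 := d20_1 D12373 (iv D10254) (iv F45267)
theorem F57117 : act 4 n12373 = n9663 := d31_1 D12373 (iv D9663) D9662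
theorem F57118 : act 9 n12373 = n9777 := d41_2 (iv F45270) D12373 (iv D9777)
def n12374 : Q := act 7 n9663
theorem D12374 : act 7 n9663 = n12374 := rfl
theorem F57119 : act 1 n12374 = n9687 := d14_1 D12374 (iv D9687) (iv F45271)
theorem F57120 : act 2 n12374 = n10255 := d21_1 D12374 (iv D10255) (iv F45272)
theorem F57121 : act 5 n12374 = n12374 := d36_1 D12374 (iv D12374) F45273
theorem F57122 : act 6 n12374 = n9666 := d39_1 D12374 (iv D9666) (iv D7619) (iv F36230) D9663
theorem F57123 : act 9 n12374 = n9778 := d43_2 (iv F45274) D12374 (iv D9778)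
def n12375 : Q := act 2 n9664
theorem D12375 : act 2 n9664 = n12375 := rfl
theorem F57124 : act 3 n12375 = n10256 := d17_2 D9664 D12375 (iv D10256) (iv D8053) (iv F36233)
theorem F57125 : act 5 n12375 = n9890 := d19_2 (iv F45276) D12375 (iv D9890)
theorem F57126 : act 9 n12375 = n9779 := d23_2 (iv F45277) D12375 (iv D9779)
def n12376 : Q := act 6 n9664
theorem D12376 : act 6 n9664 = n12376 := rfl
theorem F57127 : act 1 n12376 = n9689 := d13_1 D12376 (iv D9689) (iv F45275)
theorem F57128 : act 3 n12376 = n9665 := d26_1 D12376 (iv D9665) D9664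
theorem F57129 : act 9 n12376 = n9780 := d41_2 (iv F45277) D12376 (iv D9780)
def n12377 : Q := act 5 n9665
theorem D12377 : act 5 n9665 = n12377 := rfl
theorem F57130 : act 1 n12377 = n9690 := d12_1 D12377 (iv D9690) (iv F45278)
theorem F57131 : act 2 n12377 = n10258 := d19_1 D12377 (iv D10258) (iv F45279)
theorem F57132 : act 4 n12377 = n9669 := d30_1 D12377 (iv D9669) F36246 (iv F36238) (iv F45280)
theorem F57133 : act 6 n12377 = n9892 := d35_2 D9665 D12377 (iv D9892) (iv D7788) (iv F36234)
theorem F57134 : act 9 n12377 = n9781 := d38_2 (iv F45281) D12377 (iv D9781)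
def n12378 : Q := act 7 n9665
theorem D12378 : act 7 n9665 = n12378 := rfl
theorem F57135 : act 1 n12378 = n9691 := d14_1 D12378 (iv D9691) (iv F45278)
theorem F57136 : act 2 n12378 = n10259 := d21_1 D12378 (iv D10259) (iv F45279)
theorem F57137 : act 4 n12378 = n9666 := d32_1 D12378 (iv D9666) (iv F45280)
theorem F57138 : act 9 n12378 = n9782 := d43_2 (iv F45281) D12378 (iv D9782)
def n12379 : Q := act 6 n9667
theorem D12379 : act 6 n9667 = n12379 := rfl
theorem F57140 : act 2 n12379 = n9668 := d20_1 D12379 (iv D9668) D9667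
theorem F57142 : act 9 n12379 = n9783 := d41_2 (iv F45290) D12379 (iv D9783)
def n12380 : Q := act 5 n9668
theorem D12380 : act 5 n9668 = n12380 := rfl
theorem F57143 : act 1 n12380 = n9692 := d12_1 D12380 (iv D9692) (iv F45291)
theorem F57144 : act 3 n12380 = n9669 := d25_1 D12380 (iv D9669) (iv F45292)
theorem F57145 : act 6 n12380 = n9895 := d35_2 D9668 D12380 (iv D9895) (iv D7791) (iv F36241)
theorem F57146 : act 9 n12380 = n9784 := d38_2 (iv F45293) D12380 (iv D9784)
def n12381 : Q := act 7 n9668
theorem D12381 : act 7 n9668 = n12381 := rfl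
theorem F57147 : act 1 n12381 = n9693 := d14_1 D12381 (iv D9693) (iv F45291)
theorem F57148 : act 3 n12381 = n9670 := d27_1 D12381 (iv D9670) (iv F45292)
theorem F57149 : act 6 n12381 = n12381 := d39_1 D12381 (iv D12381) (iv D9668) F36242 D9668
theorem F57150 : act 9 n12381 = n9785 := d43_2 (iv F45293) D12381 (iv D9785)
def n12382 : Q := act 7 n9669
theorem D12382 : act 7 n9669 = n12382 := rfl
theorem F57151 : act 1 n12382 = n9694 := d14_1 D12382 (iv D9694) (iv F45294)
theorem F57152 : act 2 n12382 = n10263 := d21_1 D12382 (iv D10263) (iv F45295)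
theorem F57153 : act 5 n12382 = n9670 := d36_1 D12382 (iv D9670) D9669
theorem F57154 : act 9 n12382 = n9786 := d43_2 (iv F45297) D12382 (iv D9786)
def n12383 : Q := act 8 n9669
theorem D12383 : act 8 n9669 = n12383 := rfl
theorem F57155 : act 1 n12383 = n9695 := d15_1 D12383 (iv D9695) (iv F45294)
theorem F57156 : act 2 n12383 = n10264 := d22_1 D12383 (iv D10264) (iv F45295)
theorem F57157 : act 6 n12383 = n9898 := d40_1 D12383 (iv D9898) (iv F45296)
def n12384 : Q := act 5 n9671
theorem D12384 : act 5 n9671 = n12384 := rfl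
theorem F57158 : act 2 n12384 = n12384 := d19_1 D12384 (iv D12384) F45303
theorem F57159 : act 3 n12384 = n9674 := d25_1 D12384 (iv D9674) (iv F45304)
theorem F57160 : act 8 n12384 = n12384 := d37_2 D9671 D12384 (iv D12384) (iv D9671) F36254
theorem F57161 : act 9 n12384 = n9672 := d38_2 (iv F45305) D12384 (iv D9672)
def n12385 : Q := act 4 n9672
theorem D12385 : act 4 n9672 = n12385 := rfl
theorem F57162 : act 2 n12385 = n12385 := d18_1 D12385 (iv D12385) F45306
theorem F57163 : act 8 n12385 = n9899 := d33_2 (iv F45308) D12385 (iv D9899)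
def n12386 : Q := act 6 n9672
theorem D12386 : act 6 n9672 = n12386 := rfl
theorem F57164 : act 2 n12386 = n12386 := d20_1 D12386 (iv D12386) F45306
theorem F57165 : act 3 n12386 = n9676 := d26_1 D12386 (iv D9676) (iv F45307)
theorem F57166 : act 8 n12386 = n9900 := d40_2 (iv F45308) D12386 (iv D9900)
def n12387 : Q := act 4 n9673
theorem D12387 : act 4 n9673 = n12387 := rfl
theorem F57167 : act 2 n12387 = n9697 := d18_1 D12387 (iv D9697) (iv F45309)
theorem F57168 : act 5 n12387 = n9678 := d30_2 D9673 D12387 (iv D9678) (iv D7629) (iv F36258)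
theorem F57169 : act 7 n12387 = n9675 := d32_2 (iv F45310) D12387 (iv D9675)
theorem F57170 : act 8 n12387 = n9901 := d33_2 (iv F45311) D12387 (iv D9901)
def n12388 : Q := act 6 n9673
theorem D12388 : act 6 n9673 = n12388 := rfl
theorem F57171 : act 2 n12388 = n9698 := d20_1 D12388 (iv D9698) (iv F45309)
theorem F57172 : act 8 n12388 = n9902 := d40_2 (iv F45311) D12388 (iv D9902)
def n12389 : Q := act 4 n9674
theorem D12389 : act 4 n9674 = n12389 := rfl
theorem F57173 : act 2 n12389 = n9699 := d18_1 D12389 (iv D9699) (iv F45312)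
theorem F57174 : act 5 n12389 = n9680 := d30_2 D9674 D12389 (iv D9680) (iv D7630) (iv F36261)
theorem F57175 : act 8 n12389 = n12389 := d33_2 F45313 D12389 (iv D12389)
theorem F57176 : act 9 n12389 = n9675 := d34_2 (iv F45314) D12389 (iv D9675)
def n12390 : Q := act 6 n9674
theorem D12390 : act 6 n9674 = n12390 := rfl
theorem F57177 : act 2 n12390 = n9700 := d20_1 D12390 (iv D9700) (iv F45312)
theorem F57178 : act 8 n12390 = n12390 := d40_2 F45313 D12390 (iv D12390)
theorem F57179 : act 9 n12390 = n9676 := d41_2 (iv F45314) D12390 (iv D9676)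
def n12391 : Q := act 3 n9675
theorem D12391 : act 3 n9675 = n12391 := rfl
theorem F57180 : act 5 n12391 = n9682 := d25_2 (iv F45316) D12391 (iv D9682)
theorem F57181 : act 8 n12391 = n9903 := d28_2 (iv F45317) D12391 (iv D9903)
def n12392 : Q := act 6 n9675
theorem D12392 : act 6 n9675 = n12392 := rfl
theorem F57182 : act 2 n12392 = n9702 := d20_1 D12392 (iv D9702) (iv F45315)
theorem F57183 : act 4 n12392 = n9676 := d31_1 D12392 (iv D9676) D9675
theorem F57184 : act 8 n12392 = n9904 := d40_2 (iv F45317) D12392 (iv D9904)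
def n12393 : Q := act 7 n9676
theorem D12393 : act 7 n9676 = n12393 := rfl
theorem F57185 : act 2 n12393 = n9703 := d21_1 D12393 (iv D9703) (iv F45318)
theorem F57186 : act 8 n12393 = n9905 := d42_2 (iv F45319) D12393 (iv D9905)
def n12394 : Q := act 4 n9677
theorem D12394 : act 4 n9677 = n12394 := rfl
theorem F57187 : act 2 n12394 = n9704 := d18_1 D12394 (iv D9704) (iv F45320)
theorem F57188 : act 8 n12394 = n12394 := d33_2 F45321 D12394 (iv D12394)
def n12395 : Q := act 6 n9677
theorem D12395 : act 6 n9677 = n12395 := rfl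
theorem F57189 : act 2 n12395 = n9705 := d20_1 D12395 (iv D9705) (iv F45320)
theorem F57190 : act 5 n12395 = n9679 := d35_1 D12395 (iv D9679) (iv D7629) (iv F36266) D9677
theorem F57191 : act 8 n12395 = n12395 := d40_2 F45321 D12395 (iv D12395)
def n12396 : Q := act 3 n9678
theorem D12396 : act 3 n9678 = n12396 := rfl
theorem F57192 : act 7 n12396 = n9682 := d27_2 (iv F45323) D12396 (iv D9682)
theorem F57193 : act 8 n12396 = n9685 := d28_2 (iv F45324) D12396 (iv D9685)
def n12397 : Q := act 6 n9678
theorem D12397 : act 6 n9678 = n12397 := rfl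
theorem F57194 : act 2 n12397 = n9707 := d20_1 D12397 (iv D9707) (iv F45322)
theorem F57195 : act 4 n12397 = n9679 := d31_1 D12397 (iv D9679) D9678
theorem F57196 : act 8 n12397 = n9686 := d40_2 (iv F45324) D12397 (iv D9686)
def n12398 : Q := act 7 n9679
theorem D12398 : act 7 n9679 = n12398 := rfl
theorem F57197 : act 2 n12398 = n9708 := d21_1 D12398 (iv D9708) (iv F45325)
theorem F57198 : act 6 n12398 = n9684 := d39_1 D12398 (iv D9684) (iv D7632) (iv F36268) D9679
theorem F57199 : act 8 n12398 = n9687 := d42_2 (iv F45326) D12398 (iv D9687)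
def n12399 : Q := act 3 n9680
theorem D12399 : act 3 n9680 = n12399 := rfl
theorem F57200 : act 8 n12399 = n9788 := d28_2 (iv F45328) D12399 (iv D9788)
theorem F57201 : act 9 n12399 = n9682 := d29_2 (iv F45329) D12399 (iv D9682)
def n12400 : Q := act 6 n9680
theorem D12400 : act 6 n9680 = n12400 := rfl
theorem F57202 : act 2 n12400 = n9710 := d20_1 D12400 (iv D9710) (iv F45327)
theorem F57203 : act 4 n12400 = n9681 := d31_1 D12400 (iv D9681) D9680
theorem F57204 : act 8 n12400 = n9789 := d40_2 (iv F45328) D12400 (iv D9789)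
theorem F57205 : act 9 n12400 = n9683 := d41_2 (iv F45329) D12400 (iv D9683)
def n12401 : Q := act 7 n9681
theorem D12401 : act 7 n9681 = n12401 := rfl
theorem F57206 : act 2 n12401 = n9711 := d21_1 D12401 (iv D9711) (iv F45330)
theorem F57207 : act 8 n12401 = n9790 := d42_2 (iv F45331) D12401 (iv D9790)
theorem F57208 : act 9 n12401 = n9684 := d43_2 (iv F45332) D12401 (iv D9684)
def n12402 : Q := act 2 n9682
theorem D12402 : act 2 n9682 = n12402 := rfl
theorem F57209 : act 3 n12402 = n9712 := d17_2 D9682 D12402 (iv D9712) (iv D7651) (iv F36273)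
theorem F57210 : act 8 n12402 = n9688 := d22_2 (iv F45333) D12402 (iv D9688)
def n12403 : Q := act 6 n9682
theorem D12403 : act 6 n9682 = n12403 := rfl
theorem F57211 : act 3 n12403 = n9683 := d26_1 D12403 (iv D9683) D9682
theorem F57212 : act 8 n12403 = n9689 := d40_2 (iv F45333) D12403 (iv D9689)
def n12404 : Q := act 5 n9683
theorem D12404 : act 5 n9683 = n12404 := rfl
theorem F57213 : act 2 n12404 = n9714 := d19_1 D12404 (iv D9714) (iv F45334)
def n12405 : Q := act 7 n9683
theorem D12405 : act 7 n9683 = n12405 := rfl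
theorem F57214 : act 2 n12405 = n9715 := d21_1 D12405 (iv D9715) (iv F45334)
theorem F57215 : act 4 n12405 = n9684 := d32_1 D12405 (iv D9684) (iv F45335)
theorem F57216 : act 8 n12405 = n9691 := d42_2 (iv F45336) D12405 (iv D9691)
def n12406 : Q := act 2 n9685
theorem D12406 : act 2 n9685 = n12406 := rfl
theorem F57217 : act 3 n12406 = n9716 := d17_2 D9685 D12406 (iv D9716) (iv D7654) (iv F36277)
theorem F57218 : act 5 n12406 = n9915 := d19_2 (iv F45339) D12406 (iv D9915)
theorem F57219 : act 7 n12406 = n9688 := d21_2 (iv F45340) D12406 (iv D9688)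
theorem F57220 : act 9 n12406 = n9795 := d23_2 (iv F45341) D12406 (iv D9795)
def n12407 : Q := act 6 n9685
theorem D12407 : act 6 n9685 = n12407 := rfl
theorem F57221 : act 3 n12407 = n9686 := d26_1 D12407 (iv D9686) D9685
theorem F57222 : act 9 n12407 = n9796 := d41_2 (iv F45341) D12407 (iv D9796)
def n12408 : Q := act 5 n9686
theorem D12408 : act 5 n9686 = n12408 := rfl
theorem F57223 : act 2 n12408 = n9718 := d19_1 D12408 (iv D9718) (iv F45342)
theorem F57224 : act 4 n12408 = n12408 := d30_1 D12408 (iv D12408) F45343 F36282 (iv F45343)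
theorem F57225 : act 6 n12408 = n9917 := d35_2 D9686 D12408 (iv D9917) (iv D7805) (iv F36278)
theorem F57226 : act 9 n12408 = n9797 := d38_2 (iv F45344) D12408 (iv D9797)
def n12409 : Q := act 7 n9686
theorem D12409 : act 7 n9686 = n12409 := rfl
theorem F57227 : act 2 n12409 = n9719 := d21_1 D12409 (iv D9719) (iv F45342)
theorem F57228 : act 4 n12409 = n9687 := d32_1 D12409 (iv D9687) (iv F45343)
theorem F57229 : act 6 n12409 = n9691 := d39_1 D12409 (iv D9691) (iv D7636) (iv F36279) D9686
theorem F57230 : act 9 n12409 = n9798 := d43_2 (iv F45344) D12409 (iv D9798)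
def n12410 : Q := act 1 n9688
theorem D12410 : act 1 n9688 = n12410 := rfl
theorem F57231 : act 3 n12410 = n9720 := d10_2 (iv F45349) D12410 (iv D9720)
theorem F57232 : act 5 n12410 = n9919 := d12_2 (iv F45350) D12410 (iv D9919)
theorem F57233 : act 9 n12410 = n9799 := d16_2 (iv F45351) D12410 (iv D9799)
def n12411 : Q := act 6 n9688
theorem D12411 : act 6 n9688 = n12411 := rfl
theorem F57234 : act 2 n12411 = n9689 := d20_1 D12411 (iv D9689) D9688
theorem F57235 : act 3 n12411 = n9721 := d26_1 D12411 (iv D9721) (iv F45349)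
theorem F57236 : act 9 n12411 = n9800 := d41_2 (iv F45351) D12411 (iv D9800)
def n12412 : Q := act 5 n9689
theorem D12412 : act 5 n9689 = n12412 := rfl
theorem F57237 : act 3 n12412 = n9690 := d25_1 D12412 (iv D9690) (iv F45352)
theorem F57238 : act 6 n12412 = n9921 := d35_2 D9689 D12412 (iv D9921) (iv D7808) (iv F36284)
theorem F57239 : act 9 n12412 = n9801 := d38_2 (iv F45353) D12412 (iv D9801)
def n12413 : Q := act 7 n9689
theorem D12413 : act 7 n9689 = n12413 := rfl
theorem F57240 : act 3 n12413 = n9691 := d27_1 D12413 (iv D9691) (iv F45352)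
theorem F57241 : act 9 n12413 = n9802 := d43_2 (iv F45353) D12413 (iv D9802)
def n12414 : Q := act 7 n9690
theorem D12414 : act 7 n9690 = n12414 := rfl
theorem F57242 : act 2 n12414 = n9724 := d21_1 D12414 (iv D9724) (iv F45354)
theorem F57243 : act 4 n12414 = n9694 := d32_1 D12414 (iv D9694) (iv F45355)
theorem F57244 : act 5 n12414 = n9691 := d36_1 D12414 (iv D9691) D9690
theorem F57245 : act 9 n12414 = n9803 := d43_2 (iv F45357) D12414 (iv D9803)
def n12415 : Q := act 8 n9690
theorem D12415 : act 8 n9690 = n12415 := rfl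
theorem F57246 : act 2 n12415 = n9725 := d22_1 D12415 (iv D9725) (iv F45354)
theorem F57247 : act 4 n12415 = n9695 := d33_1 D12415 (iv D9695) (iv F45355)
theorem F57248 : act 6 n12415 = n9924 := d40_1 D12415 (iv D9924) (iv F45356)
def n12416 : Q := act 4 n9692
theorem D12416 : act 4 n9692 = n12416 := rfl
theorem F57249 : act 2 n12416 = n12416 := d18_1 D12416 (iv D12416) F45361
theorem F57250 : act 6 n12416 = n9925 := d31_2 (iv F45363) D12416 (iv D9925)
theorem F57251 : act 9 n12416 = n9805 := d34_2 (iv F45364) D12416 (iv D9805)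
def n12417 : Q := act 7 n9692
theorem D12417 : act 7 n9692 = n12417 := rfl
theorem F57252 : act 2 n12417 = n12417 := d21_1 D12417 (iv D12417) F45361
theorem F57253 : act 3 n12417 = n9694 := d27_1 D12417 (iv D9694) (iv F45362)
theorem F57254 : act 5 n12417 = n9693 := d36_1 D12417 (iv D9693) D9692
theorem F57255 : act 9 n12417 = n9806 := d43_2 (iv F45364) D12417 (iv D9806)
def n12418 : Q := act 8 n9692
theorem D12418 : act 8 n9692 = n12418 := rfl
theorem F57256 : act 2 n12418 = n12418 := d22_1 D12418 (iv D12418) F45361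
theorem F57257 : act 3 n12418 = n9695 := d28_1 D12418 (iv D9695) (iv F45362)
theorem F57258 : act 6 n12418 = n9927 := d40_1 D12418 (iv D9927) (iv F45363)
def n12419 : Q := act 6 n9694
theorem D12419 : act 6 n9694 = n12419 := rfl
theorem F57259 : act 2 n12419 = n9726 := d20_1 D12419 (iv D9726) (iv F45369)
theorem F57260 : act 5 n12419 = n12419 := d35_1 D12419 (iv D12419) F45370 F36300 (iv F45370)
theorem F57261 : act 7 n12419 = n9928 := d39_2 D9694 D12419 (iv D9928) (iv D7813) (iv F36296)
theorem F57262 : act 9 n12419 = n9808 := d41_2 (iv F45371) D12419 (iv D9808)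
def n12420 : Q := act 8 n9694
theorem D12420 : act 8 n9694 = n12420 := rfl
theorem F57263 : act 2 n12420 = n9727 := d22_1 D12420 (iv D9727) (iv F45369)
theorem F57264 : act 7 n12420 = n9695 := d42_1 D12420 (iv D9695) D9694
def n12421 : Q := act 9 n9695
theorem D12421 : act 9 n9695 = n12421 := rfl
theorem F57265 : act 2 n12421 = n9728 := d23_1 D12421 (iv D9728) (iv F45372)
theorem F57266 : act 6 n12421 = n9930 := d41_1 D12421 (iv D9930) (iv F45373)
theorem F57267 : act 8 n12421 = n9810 := d44_1 D12421 (iv D9810) (iv D7722) (iv F36297) D9695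
def n12422 : Q := act 4 n9696
theorem D12422 : act 4 n9696 = n12422 := rfl
theorem F57268 : act 1 n12422 = n10272 := d11_1 D12422 (iv D10272) (iv F45374)
theorem F57269 : act 5 n12422 = n9704 := d30_2 D9696 D12422 (iv D9704) (iv D7646) (iv F36304)
theorem F57270 : act 7 n12422 = n10248 := d32_2 (iv F45376) D12422 (iv D10248)
theorem F57271 : act 8 n12422 = n10413 := d33_2 (iv F45377) D12422 (iv D10413)
theorem F57272 : act 9 n12422 = n10246 := d34_2 (iv F45378) D12422 (iv D10246)
def n12423 : Q := act 6 n9696
theorem D12423 : act 6 n9696 = n12423 := rfl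
theorem F57273 : act 1 n12423 = n10273 := d13_1 D12423 (iv D10273) (iv F45374)
theorem F57274 : act 3 n12423 = n12423 := d26_1 D12423 (iv D12423) F45375
theorem F57275 : act 5 n12423 = n9698 := d35_1 D12423 (iv D9698) (iv D7642) (iv F36305) D9696
theorem F57276 : act 8 n12423 = n10414 := d40_2 (iv F45377) D12423 (iv D10414)
theorem F57277 : act 9 n12423 = n10247 := d41_2 (iv F45378) D12423 (iv D10247)
def n12424 : Q := act 3 n9697
theorem D12424 : act 3 n9697 = n12424 := rfl
theorem F57278 : act 1 n12424 = n10300 := d10_1 D12424 (iv D10300) (iv F45379)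
theorem F57279 : act 4 n12424 = n12424 := d24_2 D9697 D12424 (iv D12424) (iv D9697) F36309
theorem F57280 : act 5 n12424 = n9706 := d25_2 (iv F45380) D12424 (iv D9706)
theorem F57281 : act 7 n12424 = n9701 := d27_2 (iv F45381) D12424 (iv D9701)
theorem F57282 : act 8 n12424 = n9933 := d28_2 (iv F45382) D12424 (iv D9933)
def n12425 : Q := act 6 n9697
theorem D12425 : act 6 n9697 = n12425 := rfl
theorem F57283 : act 1 n12425 = n10301 := d13_1 D12425 (iv D10301) (iv F45379)
theorem F57284 : act 4 n12425 = n9698 := d31_1 D12425 (iv D9698) D9697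
theorem F57285 : act 8 n12425 = n9934 := d40_2 (iv F45382) D12425 (iv D9934)
def n12426 : Q := act 7 n9698
theorem D12426 : act 7 n9698 = n12426 := rfl
theorem F57286 : act 1 n12426 = n10302 := d14_1 D12426 (iv D10302) (iv F45383)
theorem F57287 : act 3 n12426 = n12426 := d27_1 D12426 (iv D12426) F45384
theorem F57288 : act 6 n12426 = n9703 := d39_1 D12426 (iv D9703) (iv D7645) (iv F36310) D9698
theorem F57289 : act 8 n12426 = n9935 := d42_2 (iv F45385) D12426 (iv D9935)
def n12427 : Q := act 3 n9699
theorem D12427 : act 3 n9699 = n12427 := rfl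
theorem F57290 : act 1 n12427 = n10303 := d10_1 D12427 (iv D10303) (iv F45386)
theorem F57291 : act 4 n12427 = n12427 := d24_2 D9699 D12427 (iv D12427) (iv D9699) F36313
theorem F57292 : act 5 n12427 = n9709 := d25_2 (iv F45387) D12427 (iv D9709)
theorem F57293 : act 8 n12427 = n12427 := d28_2 F45388 D12427 (iv D12427)
theorem F57294 : act 9 n12427 = n9701 := d29_2 (iv F45389) D12427 (iv D9701)
def n12428 : Q := act 6 n9699
theorem D12428 : act 6 n9699 = n12428 := rfl
theorem F57295 : act 1 n12428 = n10304 := d13_1 D12428 (iv D10304) (iv F45386)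
theorem F57296 : act 4 n12428 = n9700 := d31_1 D12428 (iv D9700) D9699
theorem F57297 : act 8 n12428 = n12428 := d40_2 F45388 D12428 (iv D12428)
theorem F57298 : act 9 n12428 = n9702 := d41_2 (iv F45389) D12428 (iv D9702)
def n12429 : Q := act 7 n9700
theorem D12429 : act 7 n9700 = n12429 := rfl
theorem F57299 : act 1 n12429 = n10305 := d14_1 D12429 (iv D10305) (iv F45390)
theorem F57300 : act 3 n12429 = n12429 := d27_1 D12429 (iv D12429) F45391
theorem F57301 : act 8 n12429 = n12429 := d42_2 F45392 D12429 (iv D12429)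
theorem F57302 : act 9 n12429 = n9703 := d43_2 (iv F45393) D12429 (iv D9703)
def n12430 : Q := act 2 n9701
theorem D12430 : act 2 n9701 = n12430 := rfl
theorem F57303 : act 4 n12430 = n12430 := d18_2 F45395 D12430 (iv D12430)
theorem F57304 : act 5 n12430 = n9712 := d19_2 (iv F45396) D12430 (iv D9712)
theorem F57305 : act 8 n12430 = n9936 := d22_2 (iv F45397) D12430 (iv D9936)
def n12431 : Q := act 6 n9701
theorem D12431 : act 6 n9701 = n12431 := rfl
theorem F57306 : act 1 n12431 = n10307 := d13_1 D12431 (iv D10307) (iv F45394)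
theorem F57307 : act 3 n12431 = n9702 := d26_1 D12431 (iv D9702) D9701
theorem F57308 : act 4 n12431 = n12431 := d31_1 D12431 (iv D12431) F45395
theorem F57309 : act 8 n12431 = n9937 := d40_2 (iv F45397) D12431 (iv D9937)
def n12432 : Q := act 5 n9702
theorem D12432 : act 5 n9702 = n12432 := rfl
theorem F57310 : act 1 n12432 = n10308 := d12_1 D12432 (iv D10308) (iv F45398)
theorem F57311 : act 6 n12432 = n9714 := d35_2 D9702 D12432 (iv D9714) (iv D7652) (iv F36317)
def n12433 : Q := act 7 n9702
theorem D12433 : act 7 n9702 = n12433 := rfl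
theorem F57312 : act 1 n12433 = n10309 := d14_1 D12433 (iv D10309) (iv F45398)
theorem F57313 : act 4 n12433 = n9703 := d32_1 D12433 (iv D9703) (iv F45399)
theorem F57314 : act 8 n12433 = n9939 := d42_2 (iv F45400) D12433 (iv D9939)
def n12434 : Q := act 3 n9704
theorem D12434 : act 3 n9704 = n12434 := rfl
theorem F57315 : act 1 n12434 = n10310 := d10_1 D12434 (iv D10310) (iv F45404)
theorem F57316 : act 4 n12434 = n9729 := d24_2 D9704 D12434 (iv D9729) (iv D7663) (iv F36323)
theorem F57317 : act 8 n12434 = n12434 := d28_2 F45405 D12434 (iv D12434)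
def n12435 : Q := act 6 n9704
theorem D12435 : act 6 n9704 = n12435 := rfl
theorem F57318 : act 1 n12435 = n10311 := d13_1 D12435 (iv D10311) (iv F45404)
theorem F57319 : act 4 n12435 = n9705 := d31_1 D12435 (iv D9705) D9704
theorem F57320 : act 8 n12435 = n12435 := d40_2 F45405 D12435 (iv D12435)
def n12436 : Q := act 7 n9705
theorem D12436 : act 7 n9705 = n12436 := rfl
theorem F57321 : act 1 n12436 = n10312 := d14_1 D12436 (iv D10312) (iv F45406)
theorem F57322 : act 3 n12436 = n9731 := d27_1 D12436 (iv D9731) (iv F45407)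
theorem F57323 : act 5 n12436 = n9708 := d36_1 D12436 (iv D9708) (iv F45408)
theorem F57324 : act 8 n12436 = n12436 := d42_2 F45409 D12436 (iv D12436)
def n12437 : Q := act 2 n9706
theorem D12437 : act 2 n9706 = n12437 := rfl
theorem F57325 : act 4 n12437 = n9732 := d18_2 (iv F45411) D12437 (iv D9732)
theorem F57326 : act 7 n12437 = n9712 := d21_2 (iv F45412) D12437 (iv D9712)
theorem F57327 : act 8 n12437 = n9716 := d22_2 (iv F45413) D12437 (iv D9716)
def n12438 : Q := act 6 n9706
theorem D12438 : act 6 n9706 = n12438 := rfl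
theorem F57329 : act 3 n12438 = n9707 := d26_1 D12438 (iv D9707) D9706
theorem F57330 : act 4 n12438 = n9733 := d31_1 D12438 (iv D9733) (iv F45411)
theorem F57331 : act 8 n12438 = n9717 := d40_2 (iv F45413) D12438 (iv D9717)
def n12439 : Q := act 5 n9707
theorem D12439 : act 5 n9707 = n12439 := rfl
theorem F57332 : act 1 n12439 = n10318 := d12_1 D12439 (iv D10318) (iv F45414)
def n12440 : Q := act 7 n9707
theorem D12440 : act 7 n9707 = n12440 := rfl
theorem F57333 : act 1 n12440 = n10319 := d14_1 D12440 (iv D10319) (iv F45414)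
theorem F57334 : act 4 n12440 = n9708 := d32_1 D12440 (iv D9708) (iv F45415)
theorem F57335 : act 6 n12440 = n9715 := d39_1 D12440 (iv D9715) (iv D7652) (iv F36326) D9707
theorem F57336 : act 8 n12440 = n9719 := d42_2 (iv F45416) D12440 (iv D9719)
def n12441 : Q := act 2 n9709
theorem D12441 : act 2 n9709 = n12441 := rfl
theorem F57337 : act 4 n12441 = n9736 := d18_2 (iv F45422) D12441 (iv D9736)
theorem F57338 : act 8 n12441 = n9811 := d22_2 (iv F45423) D12441 (iv D9811)
theorem F57339 : act 9 n12441 = n9712 := d23_2 (iv F45424) D12441 (iv D9712)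
def n12442 : Q := act 6 n9709
theorem D12442 : act 6 n9709 = n12442 := rfl
theorem F57340 : act 1 n12442 = n10321 := d13_1 D12442 (iv D10321) (iv F45421)
theorem F57341 : act 3 n12442 = n9710 := d26_1 D12442 (iv D9710) D9709
theorem F57342 : act 4 n12442 = n9737 := d31_1 D12442 (iv D9737) (iv F45422)
theorem F57343 : act 8 n12442 = n9812 := d40_2 (iv F45423) D12442 (iv D9812)
theorem F57344 : act 9 n12442 = n9713 := d41_2 (iv F45424) D12442 (iv D9713)
def n12443 : Q := act 5 n9710
theorem D12443 : act 5 n9710 = n12443 := rfl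
theorem F57345 : act 1 n12443 = n10322 := d12_1 D12443 (iv D10322) (iv F45425)
theorem F57346 : act 9 n12443 = n9714 := d38_2 (iv F45428) D12443 (iv D9714)
def n12444 : Q := act 7 n9710
theorem D12444 : act 7 n9710 = n12444 := rfl
theorem F57347 : act 1 n12444 = n10323 := d14_1 D12444 (iv D10323) (iv F45425)
theorem F57348 : act 4 n12444 = n9711 := d32_1 D12444 (iv D9711) (iv F45426)
theorem F57349 : act 8 n12444 = n9814 := d42_2 (iv F45427) D12444 (iv D9814)
theorem F57350 : act 9 n12444 = n9715 := d43_2 (iv F45428) D12444 (iv D9715)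
def n12445 : Q := act 1 n9712
theorem D12445 : act 1 n9712 = n12445 := rfl
theorem F57351 : act 2 n12445 = n10324 := d9_2 D9712 D12445 (iv D10324) (iv D8100) (iv F36338)
theorem F57352 : act 4 n12445 = n9740 := d11_2 (iv F45433) D12445 (iv D9740)
theorem F57353 : act 8 n12445 = n9720 := d15_2 (iv F45434) D12445 (iv D9720)
def n12446 : Q := act 6 n9712
theorem D12446 : act 6 n9712 = n12446 := rfl
theorem F57354 : act 2 n12446 = n9713 := d20_1 D12446 (iv D9713) D9712
theorem F57355 : act 4 n12446 = n9741 := d31_1 D12446 (iv D9741) (iv F45433)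
theorem F57356 : act 8 n12446 = n9721 := d40_2 (iv F45434) D12446 (iv D9721)
def n12447 : Q := act 5 n9713
theorem D12447 : act 5 n9713 = n12447 := rfl
theorem F57357 : act 1 n12447 = n10326 := d12_1 D12447 (iv D10326) (iv F45435)
theorem F57358 : act 3 n12447 = n9714 := d25_1 D12447 (iv D9714) (iv F45436)
def n12448 : Q := act 7 n9713
theorem D12448 : act 7 n9713 = n12448 := rfl
theorem F57359 : act 1 n12448 = n10327 := d14_1 D12448 (iv D10327) (iv F45435)
theorem F57360 : act 3 n12448 = n9715 := d27_1 D12448 (iv D9715) (iv F45436)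
theorem F57361 : act 4 n12448 = n9743 := d32_1 D12448 (iv D9743) (iv F45437)
theorem F57362 : act 8 n12448 = n9723 := d42_2 (iv F45438) D12448 (iv D9723)
def n12449 : Q := act 7 n9714
theorem D12449 : act 7 n9714 = n12449 := rfl
theorem F57363 : act 1 n12449 = n10328 := d14_1 D12449 (iv D10328) (iv F45439)
theorem F57364 : act 5 n12449 = n9715 := d36_1 D12449 (iv D9715) D9714
def n12450 : Q := act 8 n9714
theorem D12450 : act 8 n9714 = n12450 := rfl
theorem F57365 : act 1 n12450 = n10329 := d15_1 D12450 (iv D10329) (iv F45439)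
theorem F57366 : act 5 n12450 = n9725 := d37_1 D12450 (iv D9725) (iv D7659) (iv F36343) D9714
def n12451 : Q := act 1 n9716
theorem D12451 : act 1 n9716 = n12451 := rfl
theorem F57369 : act 5 n12451 = n9953 := d12_2 (iv F45444) D12451 (iv D9953)
theorem F57370 : act 7 n12451 = n9720 := d14_2 (iv F45445) D12451 (iv D9720)
def n12452 : Q := act 6 n9716
theorem D12452 : act 6 n9716 = n12452 := rfl
def n12453 : Q := act 5 n9717
theorem D12453 : act 5 n9717 = n12453 := rfl
theorem F57376 : act 3 n12453 = n9718 := d25_1 D12453 (iv D9718) (iv F45448)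
theorem F57377 : act 6 n12453 = n9955 := d35_2 D9717 D12453 (iv D9955) (iv D7831) (iv F36349)
def n12454 : Q := act 7 n9717
theorem D12454 : act 7 n9717 = n12454 := rfl
theorem F57380 : act 3 n12454 = n9719 := d27_1 D12454 (iv D9719) (iv F45448)
theorem F57381 : act 4 n12454 = n9748 := d32_1 D12454 (iv D9748) (iv F45449)
theorem F57382 : act 6 n12454 = n9723 := d39_1 D12454 (iv D9723) (iv D7658) (iv F36350) D9717
theorem F57383 : act 9 n12454 = n9824 := d43_2 (iv F45450) D12454 (iv D9824)
def n12455 : Q := act 7 n9718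
theorem D12455 : act 7 n9718 = n12455 := rfl
theorem F57384 : act 1 n12455 = n10334 := d14_1 D12455 (iv D10334) (iv F45451)
theorem F57385 : act 4 n12455 = n12455 := d32_1 D12455 (iv D12455) F45452
theorem F57386 : act 5 n12455 = n9719 := d36_1 D12455 (iv D9719) D9718
theorem F57387 : act 9 n12455 = n9825 := d43_2 (iv F45454) D12455 (iv D9825)
def n12456 : Q := act 8 n9718
theorem D12456 : act 8 n9718 = n12456 := rfl
theorem F57389 : act 4 n12456 = n12456 := d33_1 D12456 (iv D12456) F45452
theorem F57390 : act 6 n12456 = n9958 := d40_1 D12456 (iv D9958) (iv F45453)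
def n12457 : Q := act 0 n9720
theorem D12457 : act 0 n9720 = n12457 := rfl
def n12458 : Q := act 6 n9720
theorem D12458 : act 6 n9720 = n12458 := rfl
theorem F57395 : act 1 n12458 = n9721 := d13_1 D12458 (iv D9721) D9720
theorem F57396 : act 2 n12458 = n10337 := d20_1 D12458 (iv D10337) (iv F45459)
theorem F57397 : act 4 n12458 = n9752 := d31_1 D12458 (iv D9752) (iv F45460)
theorem F57398 : act 9 n12458 = n9828 := d41_2 (iv F45462) D12458 (iv D9828)
def n12459 : Q := act 5 n9721
theorem D12459 : act 5 n9721 = n12459 := rfl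
theorem F57399 : act 2 n12459 = n9722 := d19_1 D12459 (iv D9722) (iv F45463)
theorem F57400 : act 4 n12459 = n12459 := d30_1 D12459 (iv D12459) F45464 F36437 (iv F45464)
theorem F57401 : act 6 n12459 = n9961 := d35_2 D9721 D12459 (iv D9961) (iv D7835) (iv F36361)
theorem F57402 : act 9 n12459 = n9829 := d38_2 (iv F45465) D12459 (iv D9829)
def n12460 : Q := act 7 n9721
theorem D12460 : act 7 n9721 = n12460 := rfl
theorem F57403 : act 2 n12460 = n9723 := d21_1 D12460 (iv D9723) (iv F45463)
theorem F57404 : act 4 n12460 = n9753 := d32_1 D12460 (iv D9753) (iv F45464)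
theorem F57405 : act 9 n12460 = n9830 := d43_2 (iv F45465) D12460 (iv D9830)
def n12461 : Q := act 7 n9722
theorem D12461 : act 7 n9722 = n12461 := rfl
theorem F57406 : act 1 n12461 = n10340 := d14_1 D12461 (iv D10340) (iv F45466)
theorem F57407 : act 3 n12461 = n9724 := d27_1 D12461 (iv D9724) (iv F45467)
theorem F57408 : act 4 n12461 = n12461 := d32_1 D12461 (iv D12461) F45468
theorem F57409 : act 5 n12461 = n9723 := d36_1 D12461 (iv D9723) D9722
theorem F57410 : act 9 n12461 = n9831 := d43_2 (iv F45470) D12461 (iv D9831)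
def n12462 : Q := act 8 n9722
theorem D12462 : act 8 n9722 = n12462 := rfl
theorem F57411 : act 1 n12462 = n10341 := d15_1 D12462 (iv D10341) (iv F45466)
theorem F57412 : act 3 n12462 = n9725 := d28_1 D12462 (iv D9725) (iv F45467)
theorem F57413 : act 4 n12462 = n12462 := d33_1 D12462 (iv D12462) F45468
theorem F57414 : act 6 n12462 = n9964 := d40_1 D12462 (iv D9964) (iv F45469)
def n12463 : Q := act 6 n9724
theorem D12463 : act 6 n9724 = n12463 := rfl
theorem F57416 : act 4 n12463 = n9726 := d31_1 D12463 (iv D9726) (iv F45476)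
theorem F57417 : act 7 n12463 = n9965 := d39_2 D9724 D12463 (iv D9965) (iv D7838) (iv F36369)
theorem F57418 : act 9 n12463 = n9833 := d41_2 (iv F45478) D12463 (iv D9833)
def n12464 : Q := act 8 n9724
theorem D12464 : act 8 n9724 = n12464 := rfl
theorem F57419 : act 1 n12464 = n10343 := d15_1 D12464 (iv D10343) (iv F45475)
theorem F57420 : act 4 n12464 = n9727 := d33_1 D12464 (iv D9727) (iv F45476)
theorem F57421 : act 7 n12464 = n9725 := d42_1 D12464 (iv D9725) D9724
def n12465 : Q := act 9 n9725
theorem D12465 : act 9 n9725 = n12465 := rfl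
theorem F57422 : act 1 n12465 = n10344 := d16_1 D12465 (iv D10344) (iv F45479)
theorem F57423 : act 4 n12465 = n9728 := d34_1 D12465 (iv D9728) (iv F45480)
theorem F57424 : act 6 n12465 = n9967 := d41_1 D12465 (iv D9967) (iv F45481)
theorem F57425 : act 8 n12465 = n9835 := d44_1 D12465 (iv D9835) (iv D7739) (iv F36370) D9725
def n12466 : Q := act 8 n9726
theorem D12466 : act 8 n9726 = n12466 := rfl
theorem F57426 : act 1 n12466 = n10345 := d15_1 D12466 (iv D10345) (iv F45482)
theorem F57427 : act 3 n12466 = n12466 := d28_1 D12466 (iv D12466) F45483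
theorem F57428 : act 6 n12466 = n9727 := d40_1 D12466 (iv D9727) D9726
theorem F57429 : act 7 n12466 = n9968 := d42_1 D12466 (iv D9968) (iv F45485)
def n12467 : Q := act 9 n9727
theorem D12467 : act 9 n9727 = n12467 := rfl
theorem F57430 : act 1 n12467 = n10346 := d16_1 D12467 (iv D10346) (iv F45487)
theorem F57431 : act 3 n12467 = n12467 := d29_1 D12467 (iv D12467) F45488
theorem F57432 : act 7 n12467 = n9728 := d43_1 D12467 (iv D9728) (iv F45489)
theorem F57433 : act 8 n12467 = n9837 := d44_1 D12467 (iv D9837) (iv D7741) (iv F36377) D9727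
def n12468 : Q := act 2 n9729
theorem D12468 : act 2 n9729 = n12468 := rfl
theorem F57434 : act 5 n12468 = n12468 := d19_2 F45495 D12468 (iv D12468)
theorem F57435 : act 8 n12468 = n12468 := d22_2 F45496 D12468 (iv D12468)
def n12469 : Q := act 6 n9729
theorem D12469 : act 6 n9729 = n12469 := rfl
theorem F57436 : act 1 n12469 = n10351 := d13_1 D12469 (iv D10351) (iv F45494)
theorem F57437 : act 3 n12469 = n9730 := d26_1 D12469 (iv D9730) D9729
theorem F57438 : act 8 n12469 = n12469 := d40_2 F45496 D12469 (iv D12469)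
def n12470 : Q := act 5 n9730
theorem D12470 : act 5 n9730 = n12470 := rfl
theorem F57439 : act 1 n12470 = n10352 := d12_1 D12470 (iv D10352) (iv F45497)
theorem F57440 : act 4 n12470 = n9734 := d30_1 D12470 (iv D9734) F36392 (iv F36385) (iv F45498)
theorem F57441 : act 6 n12470 = n12470 := d35_2 D9730 D12470 (iv D12470) (iv D9730) F36382
def n12471 : Q := act 7 n9730
theorem D12471 : act 7 n9730 = n12471 := rfl
theorem F57442 : act 1 n12471 = n10353 := d14_1 D12471 (iv D10353) (iv F45497)
theorem F57443 : act 4 n12471 = n9731 := d32_1 D12471 (iv D9731) (iv F45498)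
theorem F57444 : act 8 n12471 = n12471 := d42_2 F45499 D12471 (iv D12471)
def n12472 : Q := act 1 n9732
theorem D12472 : act 1 n9732 = n12472 := rfl
theorem F57447 : act 7 n12472 = n9740 := d14_2 (iv F45504) D12472 (iv D9740)
def n12473 : Q := act 6 n9732
theorem D12473 : act 6 n9732 = n12473 := rfl
def n12474 : Q := act 5 n9733
theorem D12474 : act 5 n9733 = n12474 := rfl
theorem F57452 : act 3 n12474 = n9734 := d25_1 D12474 (iv D9734) (iv F45507)
theorem F57453 : act 6 n12474 = n12474 := d35_2 D9733 D12474 (iv D12474) (iv D9733) F36388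
def n12475 : Q := act 7 n9733
theorem D12475 : act 7 n9733 = n12475 := rfl
theorem F57455 : act 3 n12475 = n9735 := d27_1 D12475 (iv D9735) (iv F45507)
theorem F57456 : act 6 n12475 = n9743 := d39_1 D12475 (iv D9743) (iv D7672) (iv F36389) D9733
theorem F57457 : act 8 n12475 = n9748 := d42_2 (iv F45508) D12475 (iv D9748)
def n12476 : Q := act 7 n9734
theorem D12476 : act 7 n9734 = n12476 := rfl
theorem F57458 : act 1 n12476 = n10362 := d14_1 D12476 (iv D10362) (iv F45509)
theorem F57459 : act 5 n12476 = n9735 := d36_1 D12476 (iv D9735) D9734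
def n12477 : Q := act 8 n9734
theorem D12477 : act 8 n9734 = n12477 := rfl
theorem F57461 : act 5 n12477 = n9750 := d37_1 D12477 (iv D9750) (iv D7677) (iv F36393) D9734
theorem F57462 : act 6 n12477 = n12477 := d40_1 D12477 (iv D12477) F45510
theorem F57463 : act 9 n12477 = n12477 := d44_2 F53026 D12477 (iv D12477) (iv F53026) F53025
def n12478 : Q := act 1 n9736
theorem D12478 : act 1 n9736 = n12478 := rfl
theorem F57464 : act 2 n12478 = n10364 := d9_2 D9736 D12478 (iv D10364) (iv D8129) (iv F36397)
theorem F57465 : act 5 n12478 = n12478 := d12_2 F45515 D12478 (iv D12478)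
theorem F57466 : act 8 n12478 = n9838 := d15_2 (iv F45516) D12478 (iv D9838)
theorem F57467 : act 9 n12478 = n9740 := d16_2 (iv F45517) D12478 (iv D9740)
def n12479 : Q := act 6 n9736
theorem D12479 : act 6 n9736 = n12479 := rfl
theorem F57468 : act 2 n12479 = n9737 := d20_1 D12479 (iv D9737) D9736
theorem F57469 : act 8 n12479 = n9839 := d40_2 (iv F45516) D12479 (iv D9839)
theorem F57470 : act 9 n12479 = n9741 := d41_2 (iv F45517) D12479 (iv D9741)
def n12480 : Q := act 5 n9737
theorem D12480 : act 5 n9737 = n12480 := rfl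
theorem F57471 : act 1 n12480 = n10366 := d12_1 D12480 (iv D10366) (iv F45518)
theorem F57472 : act 3 n12480 = n9738 := d25_1 D12480 (iv D9738) (iv F45519)
theorem F57473 : act 6 n12480 = n12480 := d35_2 D9737 D12480 (iv D12480) (iv D9737) F36398
theorem F57474 : act 9 n12480 = n9742 := d38_2 (iv F45521) D12480 (iv D9742)
def n12481 : Q := act 7 n9737
theorem D12481 : act 7 n9737 = n12481 := rfl
theorem F57475 : act 1 n12481 = n10367 := d14_1 D12481 (iv D10367) (iv F45518)
theorem F57476 : act 3 n12481 = n9739 := d27_1 D12481 (iv D9739) (iv F45519)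
theorem F57477 : act 8 n12481 = n9841 := d42_2 (iv F45520) D12481 (iv D9841)
theorem F57478 : act 9 n12481 = n9743 := d43_2 (iv F45521) D12481 (iv D9743)
def n12482 : Q := act 7 n9738
theorem D12482 : act 7 n9738 = n12482 := rfl
theorem F57479 : act 1 n12482 = n10368 := d14_1 D12482 (iv D10368) (iv F45522)
theorem F57480 : act 5 n12482 = n9739 := d36_1 D12482 (iv D9739) D9738
theorem F57481 : act 9 n12482 = n9744 := d43_2 (iv F45524) D12482 (iv D9744)
def n12483 : Q := act 8 n9738
theorem D12483 : act 8 n9738 = n12483 := rfl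
theorem F57482 : act 1 n12483 = n10369 := d15_1 D12483 (iv D10369) (iv F45522)
theorem F57483 : act 5 n12483 = n9843 := d37_1 D12483 (iv D9843) (iv D7745) (iv F36403) D9738
theorem F57484 : act 6 n12483 = n12483 := d40_1 D12483 (iv D12483) F45523
theorem F57485 : act 9 n12483 = n12483 := d44_2 (iv F45524) D12483 (iv D12483) F45524 F36415
def n12484 : Q := act 0 n9740
theorem D12484 : act 0 n9740 = n12484 := rfl
theorem F57488 : act 8 n12484 = n9751 := d7_2 (iv F45531) D12484 (iv D9751)
def n12485 : Q := act 6 n9740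
theorem D12485 : act 6 n9740 = n12485 := rfl
theorem F57489 : act 1 n12485 = n9741 := d13_1 D12485 (iv D9741) D9740
theorem F57490 : act 2 n12485 = n10371 := d20_1 D12485 (iv D10371) (iv F45529)
theorem F57491 : act 8 n12485 = n9752 := d40_2 (iv F45531) D12485 (iv D9752)
def n12486 : Q := act 5 n9741
theorem D12486 : act 5 n9741 = n12486 := rfl
theorem F57492 : act 2 n12486 = n9742 := d19_1 D12486 (iv D9742) (iv F45532)
theorem F57493 : act 6 n12486 = n12486 := d35_2 D9741 D12486 (iv D12486) (iv D9741) F36408
theorem F57494 : act 8 n12486 = n12486 := d37_2 (iv F45533) D12486 (iv D12486) F45533 F36437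
def n12487 : Q := act 7 n9741
theorem D12487 : act 7 n9741 = n12487 := rfl
theorem F57495 : act 2 n12487 = n9743 := d21_1 D12487 (iv D9743) (iv F45532)
theorem F57496 : act 8 n12487 = n9753 := d42_2 (iv F45533) D12487 (iv D9753)
def n12488 : Q := act 4 n9742
theorem D12488 : act 4 n9742 = n12488 := rfl
theorem F57497 : act 1 n12488 = n10374 := d11_1 D12488 (iv D10374) (iv F45534)
theorem F57498 : act 6 n12488 = n12488 := d31_2 F45536 D12488 (iv D12488)
theorem F57499 : act 8 n12488 = n12488 := d33_2 F45537 D12488 (iv D12488)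
def n12489 : Q := act 7 n9742
theorem D12489 : act 7 n9742 = n12489 := rfl
theorem F57500 : act 1 n12489 = n10375 := d14_1 D12489 (iv D10375) (iv F45534)
theorem F57501 : act 3 n12489 = n9744 := d27_1 D12489 (iv D9744) (iv F45535)
theorem F57502 : act 5 n12489 = n9743 := d36_1 D12489 (iv D9743) D9742
theorem F57503 : act 8 n12489 = n12489 := d42_2 F45537 D12489 (iv D12489)
def n12490 : Q := act 6 n9744
theorem D12490 : act 6 n9744 = n12490 := rfl
theorem F57504 : act 1 n12490 = n10376 := d13_1 D12490 (iv D10376) (iv F45541)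
theorem F57505 : act 7 n12490 = n12490 := d39_2 D9744 D12490 (iv D12490) (iv D9744) F36414
theorem F57506 : act 8 n12490 = n12490 := d40_2 F45543 D12490 (iv D12490)
def n12498 : Q := act 8 n9749
theorem D12498 : act 8 n9749 = n12498 := rfl
theorem F57534 : act 4 n12498 = n12498 := d33_1 D12498 (iv D12498) F45559
theorem F57535 : act 6 n12498 = n12498 := d40_1 D12498 (iv D12498) F45561
theorem F57536 : act 7 n12498 = n9750 := d42_1 D12498 (iv D9750) D9749
theorem F57537 : act 9 n12498 = n12498 := d44_2 (iv F45562) D12498 (iv D12498) F45562 F36689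
def n12499 : Q := act 6 n9751
theorem D12499 : act 6 n9751 = n12499 := rfl
theorem F57538 : act 0 n12499 = n9752 := d5_1 D12499 (iv D9752) D9751
def n12500 : Q := act 7 n9752
theorem D12500 : act 7 n9752 = n12500 := rfl
def n12501 : Q := act 6 n9754
theorem D12501 : act 6 n9754 = n12501 := rfl
theorem F57548 : act 4 n12501 = n9998 := d31_1 D12501 (iv D9998) (iv F45578)
def n12506 : Q := act 4 n9759
theorem D12506 : act 4 n9759 = n12506 := rfl
theorem F57569 : act 0 n12506 = n9771 := d3_1 D12506 (iv D9771) (iv F45601)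
theorem F57570 : act 2 n12506 = n10395 := d18_1 D12506 (iv D10395) (iv F45602)
theorem F57571 : act 5 n12506 = n12506 := d30_2 D9759 D12506 (iv D12506) (iv D9759) F36469
theorem F57572 : act 9 n12506 = n9760 := d34_2 (iv F45603) D12506 (iv D9760)
def n12507 : Q := act 6 n9759
theorem D12507 : act 6 n9759 = n12507 := rfl
theorem F57573 : act 0 n12507 = n9772 := d5_1 D12507 (iv D9772) (iv F45601)
theorem F57574 : act 2 n12507 = n10396 := d20_1 D12507 (iv D10396) (iv F45602)
theorem F57575 : act 5 n12507 = n12507 := d35_1 D12507 (iv D12507) (iv D9759) F36470 D9759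
theorem F57576 : act 9 n12507 = n9761 := d41_2 (iv F45603) D12507 (iv D9761)
def n12508 : Q := act 3 n9760
theorem D12508 : act 3 n9760 = n12508 := rfl
theorem F57577 : act 0 n12508 = n9773 := d2_1 D12508 (iv D9773) (iv F45604)
theorem F57578 : act 5 n12508 = n12508 := d25_2 F45606 D12508 (iv D12508)
theorem F57579 : act 8 n12508 = n9764 := d28_2 (iv F45607) D12508 (iv D9764)
def n12509 : Q := act 6 n9760
theorem D12509 : act 6 n9760 = n12509 := rfl
theorem F57580 : act 0 n12509 = n9774 := d5_1 D12509 (iv D9774) (iv F45604)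
theorem F57581 : act 2 n12509 = n10398 := d20_1 D12509 (iv D10398) (iv F45605)
theorem F57582 : act 4 n12509 = n9761 := d31_1 D12509 (iv D9761) D9760
theorem F57583 : act 8 n12509 = n9765 := d40_2 (iv F45607) D12509 (iv D9765)
def n12510 : Q := act 7 n9761
theorem D12510 : act 7 n9761 = n12510 := rfl
theorem F57584 : act 0 n12510 = n9775 := d6_1 D12510 (iv D9775) (iv F45608)
theorem F57585 : act 2 n12510 = n10399 := d21_1 D12510 (iv D10399) (iv F45609)
theorem F57586 : act 5 n12510 = n12510 := d36_1 D12510 (iv D12510) F45610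
theorem F57587 : act 8 n12510 = n9766 := d42_2 (iv F45611) D12510 (iv D9766)
def n12511 : Q := act 3 n9762
theorem D12511 : act 3 n9762 = n12511 := rfl
theorem F57588 : act 0 n12511 = n9776 := d2_1 D12511 (iv D9776) (iv F45612)
theorem F57589 : act 5 n12511 = n10004 := d25_2 (iv F45614) D12511 (iv D10004)
theorem F57590 : act 7 n12511 = n9764 := d27_2 (iv F45615) D12511 (iv D9764)
def n12512 : Q := act 6 n9762
theorem D12512 : act 6 n9762 = n12512 := rfl
theorem F57591 : act 0 n12512 = n9777 := d5_1 D12512 (iv D9777) (iv F45612)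
theorem F57592 : act 2 n12512 = n10401 := d20_1 D12512 (iv D10401) (iv F45613)
theorem F57593 : act 4 n12512 = n9763 := d31_1 D12512 (iv D9763) D9762
def n12513 : Q := act 7 n9763
theorem D12513 : act 7 n9763 = n12513 := rfl
theorem F57594 : act 0 n12513 = n9778 := d6_1 D12513 (iv D9778) (iv F45616)
theorem F57595 : act 2 n12513 = n10402 := d21_1 D12513 (iv D10402) (iv F45617)
theorem F57596 : act 5 n12513 = n12513 := d36_1 D12513 (iv D12513) F45618
theorem F57597 : act 6 n12513 = n9766 := d39_1 D12513 (iv D9766) (iv D7691) (iv F36477) D9763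
def n12514 : Q := act 2 n9764
theorem D12514 : act 2 n9764 = n12514 := rfl
theorem F57598 : act 0 n12514 = n9779 := d1_1 D12514 (iv D9779) (iv F45619)
theorem F57600 : act 5 n12514 = n10007 := d19_2 (iv F45620) D12514 (iv D10007)
def n12515 : Q := act 6 n9764
theorem D12515 : act 6 n9764 = n12515 := rfl
theorem F57601 : act 0 n12515 = n9780 := d5_1 D12515 (iv D9780) (iv F45619)
theorem F57602 : act 3 n12515 = n9765 := d26_1 D12515 (iv D9765) D9764
def n12516 : Q := act 5 n9765
theorem D12516 : act 5 n9765 = n12516 := rfl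
theorem F57603 : act 0 n12516 = n9781 := d4_1 D12516 (iv D9781) (iv F45621)
theorem F57606 : act 6 n12516 = n10009 := d35_2 D9765 D12516 (iv D10009) (iv D7873) (iv F36480)
def n12517 : Q := act 7 n9765
theorem D12517 : act 7 n9765 = n12517 := rfl
theorem F57607 : act 0 n12517 = n9782 := d6_1 D12517 (iv D9782) (iv F45621)
theorem F57608 : act 2 n12517 = n10406 := d21_1 D12517 (iv D10406) (iv F45622)
theorem F57609 : act 4 n12517 = n9766 := d32_1 D12517 (iv D9766) (iv F45623)
def n12518 : Q := act 1 n9767
theorem D12518 : act 1 n9767 = n12518 := rfl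
theorem F57612 : act 5 n12518 = n10011 := d12_2 (iv F45629) D12518 (iv D10011)
def n12519 : Q := act 6 n9767
theorem D12519 : act 6 n9767 = n12519 := rfl
theorem F57616 : act 2 n12519 = n9768 := d20_1 D12519 (iv D9768) D9767
def n12520 : Q := act 5 n9768
theorem D12520 : act 5 n9768 = n12520 := rfl
theorem F57619 : act 0 n12520 = n9784 := d4_1 D12520 (iv D9784) (iv F45632)
theorem F57621 : act 6 n12520 = n10013 := d35_2 D9768 D12520 (iv D10013) (iv D7876) (iv F36485)
def n12521 : Q := act 7 n9768
theorem D12521 : act 7 n9768 = n12521 := rfl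
theorem F57622 : act 0 n12521 = n9785 := d6_1 D12521 (iv D9785) (iv F45632)
theorem F57623 : act 3 n12521 = n9770 := d27_1 D12521 (iv D9770) (iv F45633)
theorem F57624 : act 6 n12521 = n12521 := d39_1 D12521 (iv D12521) (iv D9768) F36486 D9768
theorem F57625 : act 8 n12521 = n12521 := d42_2 F45634 D12521 (iv D12521)
def n12522 : Q := act 7 n9769
theorem D12522 : act 7 n9769 = n12522 := rfl
theorem F57626 : act 0 n12522 = n9786 := d6_1 D12522 (iv D9786) (iv F45635)
theorem F57628 : act 5 n12522 = n9770 := d36_1 D12522 (iv D9770) D9769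
def n12523 : Q := act 8 n9769
theorem D12523 : act 8 n9769 = n12523 := rfl
theorem F57632 : act 6 n12523 = n10016 := d40_1 D12523 (iv D10016) (iv F45637)
def n12524 : Q := act 3 n9771
theorem D12524 : act 3 n9771 = n12524 := rfl
theorem F57633 : act 1 n12524 = n9788 := d10_1 D12524 (iv D9788) (iv F45643)
theorem F57634 : act 5 n12524 = n12524 := d25_2 F45645 D12524 (iv D12524)
theorem F57635 : act 9 n12524 = n9773 := d29_2 (iv F45646) D12524 (iv D9773)
def n12525 : Q := act 6 n9771
theorem D12525 : act 6 n9771 = n12525 := rfl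
theorem F57636 : act 1 n12525 = n9789 := d13_1 D12525 (iv D9789) (iv F45643)
theorem F57637 : act 2 n12525 = n10419 := d20_1 D12525 (iv D10419) (iv F45644)
theorem F57638 : act 4 n12525 = n9772 := d31_1 D12525 (iv D9772) D9771
theorem F57639 : act 9 n12525 = n9774 := d41_2 (iv F45646) D12525 (iv D9774)
def n12526 : Q := act 7 n9772
theorem D12526 : act 7 n9772 = n12526 := rfl
theorem F57640 : act 1 n12526 = n9790 := d14_1 D12526 (iv D9790) (iv F45647)
theorem F57641 : act 2 n12526 = n10420 := d21_1 D12526 (iv D10420) (iv F45648)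
theorem F57642 : act 5 n12526 = n12526 := d36_1 D12526 (iv D12526) F45649
theorem F57643 : act 9 n12526 = n9775 := d43_2 (iv F45650) D12526 (iv D9775)
def n12527 : Q := act 2 n9773
theorem D12527 : act 2 n9773 = n12527 := rfl
theorem F57644 : act 3 n12527 = n10421 := d17_2 D9773 D12527 (iv D10421) (iv D8171) (iv F36500)
theorem F57645 : act 5 n12527 = n12527 := d19_2 F45652 D12527 (iv D12527)
theorem F57646 : act 8 n12527 = n9779 := d22_2 (iv F45653) D12527 (iv D9779)
def n12528 : Q := act 6 n9773
theorem D12528 : act 6 n9773 = n12528 := rfl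
theorem F57647 : act 1 n12528 = n9792 := d13_1 D12528 (iv D9792) (iv F45651)
theorem F57648 : act 3 n12528 = n9774 := d26_1 D12528 (iv D9774) D9773
theorem F57649 : act 8 n12528 = n9780 := d40_2 (iv F45653) D12528 (iv D9780)
def n12529 : Q := act 5 n9774
theorem D12529 : act 5 n9774 = n12529 := rfl
theorem F57650 : act 1 n12529 = n9793 := d12_1 D12529 (iv D9793) (iv F45654)
theorem F57651 : act 2 n12529 = n10423 := d19_1 D12529 (iv D10423) (iv F45655)
theorem F57652 : act 4 n12529 = n12529 := d30_1 D12529 (iv D12529) F45656 F36505 (iv F45656)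
theorem F57653 : act 6 n12529 = n12529 := d35_2 D9774 D12529 (iv D12529) (iv D9774) F36501
def n12530 : Q := act 7 n9774
theorem D12530 : act 7 n9774 = n12530 := rfl
theorem F57654 : act 1 n12530 = n9794 := d14_1 D12530 (iv D9794) (iv F45654)
theorem F57655 : act 2 n12530 = n10424 := d21_1 D12530 (iv D10424) (iv F45655)
theorem F57656 : act 4 n12530 = n9775 := d32_1 D12530 (iv D9775) (iv F45656)
theorem F57657 : act 8 n12530 = n9782 := d42_2 (iv F45657) D12530 (iv D9782)
def n12531 : Q := act 2 n9776
theorem D12531 : act 2 n9776 = n12531 := rfl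
theorem F57658 : act 3 n12531 = n10425 := d17_2 D9776 D12531 (iv D10425) (iv D8174) (iv F36508)
theorem F57659 : act 5 n12531 = n10017 := d19_2 (iv F45663) D12531 (iv D10017)
theorem F57660 : act 7 n12531 = n9779 := d21_2 (iv F45664) D12531 (iv D9779)
def n12532 : Q := act 6 n9776
theorem D12532 : act 6 n9776 = n12532 := rfl
theorem F57661 : act 1 n12532 = n9796 := d13_1 D12532 (iv D9796) (iv F45662)
theorem F57662 : act 3 n12532 = n9777 := d26_1 D12532 (iv D9777) D9776
def n12533 : Q := act 5 n9777
theorem D12533 : act 5 n9777 = n12533 := rfl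
theorem F57663 : act 1 n12533 = n9797 := d12_1 D12533 (iv D9797) (iv F45665)
theorem F57664 : act 2 n12533 = n10427 := d19_1 D12533 (iv D10427) (iv F45666)
theorem F57665 : act 4 n12533 = n12533 := d30_1 D12533 (iv D12533) F45667 F36513 (iv F45667)
theorem F57666 : act 6 n12533 = n10019 := d35_2 D9777 D12533 (iv D10019) (iv D7880) (iv F36509)
def n12534 : Q := act 7 n9777
theorem D12534 : act 7 n9777 = n12534 := rfl
theorem F57667 : act 1 n12534 = n9798 := d14_1 D12534 (iv D9798) (iv F45665)
theorem F57668 : act 2 n12534 = n10428 := d21_1 D12534 (iv D10428) (iv F45666)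
theorem F57669 : act 4 n12534 = n9778 := d32_1 D12534 (iv D9778) (iv F45667)
theorem F57670 : act 6 n12534 = n9782 := d39_1 D12534 (iv D9782) (iv D7701) (iv F36510) D9777
def n12535 : Q := act 1 n9779
theorem D12535 : act 1 n9779 = n12535 := rfl
theorem F57671 : act 2 n12535 = n9799 := d9_2 D9779 D12535 (iv D9799) (iv D7715) (iv F36514)
theorem F57672 : act 3 n12535 = n10429 := d10_2 (iv F45672) D12535 (iv D10429)
theorem F57673 : act 5 n12535 = n10021 := d12_2 (iv F45673) D12535 (iv D10021)
def n12536 : Q := act 6 n9779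
theorem D12536 : act 6 n9779 = n12536 := rfl
theorem F57674 : act 2 n12536 = n9780 := d20_1 D12536 (iv D9780) D9779
theorem F57675 : act 3 n12536 = n10430 := d26_1 D12536 (iv D10430) (iv F45672)
def n12537 : Q := act 5 n9780
theorem D12537 : act 5 n9780 = n12537 := rfl
theorem F57676 : act 1 n12537 = n9801 := d12_1 D12537 (iv D9801) (iv F45674)
theorem F57677 : act 3 n12537 = n9781 := d25_1 D12537 (iv D9781) (iv F45675)
theorem F57678 : act 6 n12537 = n10023 := d35_2 D9780 D12537 (iv D10023) (iv D7883) (iv F36515)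
def n12538 : Q := act 7 n9780
theorem D12538 : act 7 n9780 = n12538 := rfl
theorem F57679 : act 1 n12538 = n9802 := d14_1 D12538 (iv D9802) (iv F45674)
theorem F57680 : act 3 n12538 = n9782 := d27_1 D12538 (iv D9782) (iv F45675)
def n12539 : Q := act 7 n9781
theorem D12539 : act 7 n9781 = n12539 := rfl
theorem F57681 : act 1 n12539 = n9803 := d14_1 D12539 (iv D9803) (iv F45676)
theorem F57682 : act 2 n12539 = n10433 := d21_1 D12539 (iv D10433) (iv F45677)
theorem F57683 : act 4 n12539 = n9786 := d32_1 D12539 (iv D9786) (iv F45678)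
theorem F57684 : act 5 n12539 = n9782 := d36_1 D12539 (iv D9782) D9781
def n12540 : Q := act 8 n9781
theorem D12540 : act 8 n9781 = n12540 := rfl
theorem F57685 : act 1 n12540 = n9804 := d15_1 D12540 (iv D9804) (iv F45676)
def n12541 : Q := act 5 n9783
theorem D12541 : act 5 n9783 = n12541 := rfl
theorem F57692 : act 6 n12541 = n10027 := d35_2 D9783 D12541 (iv D10027) (iv D7886) (iv F36524)
def n12542 : Q := act 7 n9783
theorem D12542 : act 7 n9783 = n12542 := rfl
theorem F57694 : act 2 n12542 = n9785 := d21_1 D12542 (iv D9785) (iv F45684)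
def n12543 : Q := act 4 n9784
theorem D12543 : act 4 n9784 = n12543 := rfl
theorem F57698 : act 1 n12543 = n9805 := d11_1 D12543 (iv D9805) (iv F45687)
theorem F57699 : act 6 n12543 = n10029 := d31_2 (iv F45689) D12543 (iv D10029)
def n12544 : Q := act 7 n9784
theorem D12544 : act 7 n9784 = n12544 := rfl
theorem F57700 : act 1 n12544 = n9806 := d14_1 D12544 (iv D9806) (iv F45687)
theorem F57701 : act 3 n12544 = n9786 := d27_1 D12544 (iv D9786) (iv F45688)
theorem F57702 : act 5 n12544 = n9785 := d36_1 D12544 (iv D9785) D9784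
def n12546 : Q := act 6 n9786
theorem D12546 : act 6 n9786 = n12546 := rfl
theorem F57707 : act 1 n12546 = n9808 := d13_1 D12546 (iv D9808) (iv F45694)
def n12547 : Q := act 8 n9786
theorem D12547 : act 8 n9786 = n12547 := rfl
theorem F57711 : act 1 n12547 = n9809 := d15_1 D12547 (iv D9809) (iv F45694)
def n12548 : Q := act 9 n9787
theorem D12548 : act 9 n9787 = n12548 := rfl
theorem F57715 : act 1 n12548 = n9810 := d16_1 D12548 (iv D9810) (iv F45697)
def n12549 : Q := act 2 n9788
theorem D12549 : act 2 n9788 = n12549 := rfl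
theorem F57719 : act 3 n12549 = n9811 := d17_2 D9788 D12549 (iv D9811) (iv D7723) (iv F36538)
theorem F57720 : act 5 n12549 = n12549 := d19_2 F45701 D12549 (iv D12549)
theorem F57721 : act 9 n12549 = n9791 := d23_2 (iv F45702) D12549 (iv D9791)
def n12550 : Q := act 6 n9788
theorem D12550 : act 6 n9788 = n12550 := rfl
theorem F57722 : act 3 n12550 = n9789 := d26_1 D12550 (iv D9789) D9788
theorem F57723 : act 9 n12550 = n9792 := d41_2 (iv F45702) D12550 (iv D9792)
def n12551 : Q := act 5 n9789
theorem D12551 : act 5 n9789 = n12551 := rfl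
theorem F57724 : act 2 n12551 = n9813 := d19_1 D12551 (iv D9813) (iv F45703)
theorem F57725 : act 4 n12551 = n12551 := d30_1 D12551 (iv D12551) F45704 F36542 (iv F45704)
theorem F57726 : act 6 n12551 = n12551 := d35_2 D9789 D12551 (iv D12551) (iv D9789) F36539
theorem F57727 : act 9 n12551 = n9793 := d38_2 (iv F45705) D12551 (iv D9793)
def n12552 : Q := act 7 n9789
theorem D12552 : act 7 n9789 = n12552 := rfl
theorem F57728 : act 2 n12552 = n9814 := d21_1 D12552 (iv D9814) (iv F45703)
theorem F57729 : act 4 n12552 = n9790 := d32_1 D12552 (iv D9790) (iv F45704)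
theorem F57730 : act 9 n12552 = n9794 := d43_2 (iv F45705) D12552 (iv D9794)
def n12553 : Q := act 1 n9791
theorem D12553 : act 1 n9791 = n12553 := rfl
theorem F57731 : act 3 n12553 = n9815 := d10_2 (iv F45709) D12553 (iv D9815)
theorem F57732 : act 5 n12553 = n12553 := d12_2 F45710 D12553 (iv D12553)
theorem F57733 : act 8 n12553 = n9799 := d15_2 (iv F45711) D12553 (iv D9799)
def n12554 : Q := act 6 n9791
theorem D12554 : act 6 n9791 = n12554 := rfl
theorem F57734 : act 2 n12554 = n9792 := d20_1 D12554 (iv D9792) D9791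
theorem F57735 : act 3 n12554 = n9816 := d26_1 D12554 (iv D9816) (iv F45709)
theorem F57736 : act 8 n12554 = n9800 := d40_2 (iv F45711) D12554 (iv D9800)
def n12555 : Q := act 5 n9792
theorem D12555 : act 5 n9792 = n12555 := rfl
theorem F57737 : act 3 n12555 = n9793 := d25_1 D12555 (iv D9793) (iv F45712)
theorem F57738 : act 6 n12555 = n12555 := d35_2 D9792 D12555 (iv D12555) (iv D9792) F36544
def n12556 : Q := act 7 n9792
theorem D12556 : act 7 n9792 = n12556 := rfl
theorem F57739 : act 3 n12556 = n9794 := d27_1 D12556 (iv D9794) (iv F45712)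
theorem F57740 : act 8 n12556 = n9802 := d42_2 (iv F45713) D12556 (iv D9802)
def n12557 : Q := act 7 n9793
theorem D12557 : act 7 n9793 = n12557 := rfl
theorem F57741 : act 2 n12557 = n9819 := d21_1 D12557 (iv D9819) (iv F45714)
theorem F57742 : act 4 n12557 = n12557 := d32_1 D12557 (iv D12557) F45715
theorem F57743 : act 5 n12557 = n9794 := d36_1 D12557 (iv D9794) D9793
def n12558 : Q := act 8 n9793
theorem D12558 : act 8 n9793 = n12558 := rfl
theorem F57744 : act 2 n12558 = n9820 := d22_1 D12558 (iv D9820) (iv F45714)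
theorem F57745 : act 4 n12558 = n12558 := d33_1 D12558 (iv D12558) F45715
theorem F57746 : act 5 n12558 = n9804 := d37_1 D12558 (iv D9804) (iv D7717) (iv F36548) D9793
theorem F57747 : act 6 n12558 = n12558 := d40_1 D12558 (iv D12558) F45716
def n12559 : Q := act 1 n9795
theorem D12559 : act 1 n9795 = n12559 := rfl
theorem F57749 : act 5 n12559 = n10035 := d12_2 (iv F45721) D12559 (iv D10035)
theorem F57750 : act 7 n12559 = n9799 := d14_2 (iv F45722) D12559 (iv D9799)
def n12560 : Q := act 6 n9795
theorem D12560 : act 6 n9795 = n12560 := rfl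
theorem F57751 : act 2 n12560 = n9796 := d20_1 D12560 (iv D9796) D9795
theorem F57752 : act 3 n12560 = n9822 := d26_1 D12560 (iv D9822) (iv F45720)
def n12561 : Q := act 5 n9796
theorem D12561 : act 5 n9796 = n12561 := rfl
theorem F57753 : act 3 n12561 = n9797 := d25_1 D12561 (iv D9797) (iv F45723)
theorem F57754 : act 6 n12561 = n10037 := d35_2 D9796 D12561 (iv D10037) (iv D7892) (iv F36552)
def n12562 : Q := act 7 n9796
theorem D12562 : act 7 n9796 = n12562 := rfl
theorem F57755 : act 3 n12562 = n9798 := d27_1 D12562 (iv D9798) (iv F45723)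
theorem F57756 : act 6 n12562 = n9802 := d39_1 D12562 (iv D9802) (iv D7716) (iv F36553) D9796
def n12563 : Q := act 7 n9797
theorem D12563 : act 7 n9797 = n12563 := rfl
theorem F57757 : act 2 n12563 = n9825 := d21_1 D12563 (iv D9825) (iv F45724)
theorem F57758 : act 4 n12563 = n12563 := d32_1 D12563 (iv D12563) F45725
theorem F57759 : act 5 n12563 = n9798 := d36_1 D12563 (iv D9798) D9797
def n12564 : Q := act 8 n9797
theorem D12564 : act 8 n9797 = n12564 := rfl
theorem F57760 : act 2 n12564 = n9826 := d22_1 D12564 (iv D9826) (iv F45724)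
theorem F57761 : act 4 n12564 = n12564 := d33_1 D12564 (iv D12564) F45725
theorem F57762 : act 6 n12564 = n10040 := d40_1 D12564 (iv D10040) (iv F45726)
def n12565 : Q := act 0 n9799
theorem D12565 : act 0 n9799 = n12565 := rfl
def n12566 : Q := act 6 n9799
theorem D12566 : act 6 n9799 = n12566 := rfl
theorem F57765 : act 1 n12566 = n9800 := d13_1 D12566 (iv D9800) D9799
theorem F57766 : act 3 n12566 = n9828 := d26_1 D12566 (iv D9828) (iv F45730)
def n12567 : Q := act 5 n9800
theorem D12567 : act 5 n9800 = n12567 := rfl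
theorem F57767 : act 2 n12567 = n9801 := d19_1 D12567 (iv D9801) (iv F45732)
theorem F57768 : act 3 n12567 = n9829 := d25_1 D12567 (iv D9829) (iv F45733)
theorem F57769 : act 6 n12567 = n10043 := d35_2 D9800 D12567 (iv D10043) (iv D7896) (iv F36560)
def n12568 : Q := act 7 n9800
theorem D12568 : act 7 n9800 = n12568 := rfl
theorem F57770 : act 2 n12568 = n9802 := d21_1 D12568 (iv D9802) (iv F45732)
theorem F57771 : act 3 n12568 = n9830 := d27_1 D12568 (iv D9830) (iv F45733)
def n12569 : Q := act 4 n9801
theorem D12569 : act 4 n9801 = n12569 := rfl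
theorem F57772 : act 3 n12569 = n9805 := d24_1 D12569 (iv D9805) F36568 (iv F36563) (iv F45734)
theorem F57773 : act 6 n12569 = n10045 := d31_2 (iv F45735) D12569 (iv D10045)
def n12570 : Q := act 7 n9801
theorem D12570 : act 7 n9801 = n12570 := rfl
theorem F57774 : act 3 n12570 = n9803 := d27_1 D12570 (iv D9803) (iv F45734)
theorem F57775 : act 5 n12570 = n9802 := d36_1 D12570 (iv D9802) D9801
def n12571 : Q := act 8 n9801
theorem D12571 : act 8 n9801 = n12571 := rfl
theorem F57776 : act 3 n12571 = n9804 := d28_1 D12571 (iv D9804) (iv F45734)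
theorem F57777 : act 6 n12571 = n10047 := d40_1 D12571 (iv D10047) (iv F45735)
def n12572 : Q := act 6 n9803
theorem D12572 : act 6 n9803 = n12572 := rfl
theorem F57778 : act 2 n12572 = n9833 := d20_1 D12572 (iv D9833) (iv F45737)
theorem F57779 : act 4 n12572 = n9808 := d31_1 D12572 (iv D9808) (iv F45738)
theorem F57780 : act 7 n12572 = n10048 := d39_2 D9803 D12572 (iv D10048) (iv D7899) (iv F36564)
def n12573 : Q := act 8 n9803
theorem D12573 : act 8 n9803 = n12573 := rfl
theorem F57781 : act 2 n12573 = n9834 := d22_1 D12573 (iv D9834) (iv F45737)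
theorem F57782 : act 4 n12573 = n9809 := d33_1 D12573 (iv D9809) (iv F45738)
theorem F57783 : act 7 n12573 = n9804 := d42_1 D12573 (iv D9804) D9803
def n12574 : Q := act 9 n9804
theorem D12574 : act 9 n9804 = n12574 := rfl
theorem F57784 : act 2 n12574 = n9835 := d23_1 D12574 (iv D9835) (iv F45740)
theorem F57785 : act 4 n12574 = n9810 := d34_1 D12574 (iv D9810) (iv F45741)
theorem F57786 : act 6 n12574 = n10050 := d41_1 D12574 (iv D10050) (iv F45742)
def n12575 : Q := act 7 n9805
theorem D12575 : act 7 n9805 = n12575 := rfl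
theorem F57787 : act 2 n12575 = n12575 := d21_1 D12575 (iv D12575) F45743
theorem F57788 : act 4 n12575 = n9806 := d32_1 D12575 (iv D9806) D9805
def n12576 : Q := act 8 n9805
theorem D12576 : act 8 n9805 = n12576 := rfl
theorem F57791 : act 6 n12576 = n10052 := d40_1 D12576 (iv D10052) (iv F45744)
def n12577 : Q := act 6 n9806
theorem D12577 : act 6 n9806 = n12577 := rfl
theorem F57793 : act 3 n12577 = n9808 := d26_1 D12577 (iv D9808) (iv F45746)
theorem F57795 : act 7 n12577 = n10053 := d39_2 D9806 D12577 (iv D10053) (iv D7902) (iv F36569)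
def n12578 : Q := act 8 n9806
theorem D12578 : act 8 n9806 = n12578 := rfl
theorem F57797 : act 3 n12578 = n9809 := d28_1 D12578 (iv D9809) (iv F45746)
def n12579 : Q := act 9 n9807
theorem D12579 : act 9 n9807 = n12579 := rfl
theorem F57801 : act 3 n12579 = n9810 := d29_1 D12579 (iv D9810) (iv F45749)
def n12580 : Q := act 8 n9808
theorem D12580 : act 8 n9808 = n12580 := rfl
theorem F57804 : act 2 n12580 = n9836 := d22_1 D12580 (iv D9836) (iv F45752)
theorem F57805 : act 6 n12580 = n9809 := d40_1 D12580 (iv D9809) D9808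
theorem F57806 : act 7 n12580 = n10056 := d42_1 D12580 (iv D10056) (iv F45754)
def n12581 : Q := act 9 n9809
theorem D12581 : act 9 n9809 = n12581 := rfl
theorem F57807 : act 2 n12581 = n9837 := d23_1 D12581 (iv D9837) (iv F45755)
theorem F57808 : act 5 n12581 = n12581 := d38_1 D12581 (iv D12581) F45756
theorem F57809 : act 7 n12581 = n9810 := d43_1 D12581 (iv D9810) (iv F45757)
def n12582 : Q := act 1 n9811
theorem D12582 : act 1 n9811 = n12582 := rfl
theorem F57810 : act 2 n12582 = n10493 := d9_2 D9811 D12582 (iv D10493) (iv D8221) (iv F36579)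
theorem F57811 : act 4 n12582 = n9838 := d11_2 (iv F45761) D12582 (iv D9838)
theorem F57812 : act 5 n12582 = n12582 := d12_2 F45762 D12582 (iv D12582)
theorem F57813 : act 9 n12582 = n9815 := d16_2 (iv F45763) D12582 (iv D9815)
def n12583 : Q := act 6 n9811
theorem D12583 : act 6 n9811 = n12583 := rfl
theorem F57814 : act 2 n12583 = n9812 := d20_1 D12583 (iv D9812) D9811
theorem F57815 : act 4 n12583 = n9839 := d31_1 D12583 (iv D9839) (iv F45761)
theorem F57816 : act 9 n12583 = n9816 := d41_2 (iv F45763) D12583 (iv D9816)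
def n12584 : Q := act 5 n9812
theorem D12584 : act 5 n9812 = n12584 := rfl
theorem F57817 : act 1 n12584 = n10495 := d12_1 D12584 (iv D10495) (iv F45764)
theorem F57818 : act 3 n12584 = n9813 := d25_1 D12584 (iv D9813) (iv F45765)
theorem F57819 : act 6 n12584 = n12584 := d35_2 D9812 D12584 (iv D12584) (iv D9812) F36581
theorem F57820 : act 9 n12584 = n9817 := d38_2 (iv F45767) D12584 (iv D9817)
def n12585 : Q := act 7 n9812
theorem D12585 : act 7 n9812 = n12585 := rfl
theorem F57821 : act 1 n12585 = n10496 := d14_1 D12585 (iv D10496) (iv F45764)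
theorem F57822 : act 3 n12585 = n9814 := d27_1 D12585 (iv D9814) (iv F45765)
theorem F57823 : act 4 n12585 = n9841 := d32_1 D12585 (iv D9841) (iv F45766)
theorem F57824 : act 9 n12585 = n9818 := d43_2 (iv F45767) D12585 (iv D9818)
def n12586 : Q := act 7 n9813
theorem D12586 : act 7 n9813 = n12586 := rfl
theorem F57825 : act 1 n12586 = n10497 := d14_1 D12586 (iv D10497) (iv F45768)
theorem F57826 : act 4 n12586 = n12586 := d32_1 D12586 (iv D12586) F45769
theorem F57827 : act 5 n12586 = n9814 := d36_1 D12586 (iv D9814) D9813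
theorem F57828 : act 9 n12586 = n9819 := d43_2 (iv F45771) D12586 (iv D9819)
def n12587 : Q := act 8 n9813
theorem D12587 : act 8 n9813 = n12587 := rfl
theorem F57829 : act 1 n12587 = n10498 := d15_1 D12587 (iv D10498) (iv F45768)
theorem F57830 : act 4 n12587 = n12587 := d33_1 D12587 (iv D12587) F45769
theorem F57831 : act 6 n12587 = n12587 := d40_1 D12587 (iv D12587) F45770
def n12588 : Q := act 0 n9815
theorem D12588 : act 0 n9815 = n12588 := rfl
theorem F57832 : act 2 n12588 = n10499 := d1_2 (iv F45775) D12588 (iv D10499)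
theorem F57833 : act 4 n12588 = n9844 := d3_2 (iv F45776) D12588 (iv D9844)
theorem F57835 : act 8 n12588 = n9827 := d7_2 (iv F45778) D12588 (iv D9827)
def n12589 : Q := act 6 n9815
theorem D12589 : act 6 n9815 = n12589 := rfl
theorem F57836 : act 1 n12589 = n9816 := d13_1 D12589 (iv D9816) D9815
theorem F57837 : act 2 n12589 = n10500 := d20_1 D12589 (iv D10500) (iv F45775)
theorem F57838 : act 4 n12589 = n9845 := d31_1 D12589 (iv D9845) (iv F45776)
theorem F57839 : act 8 n12589 = n9828 := d40_2 (iv F45778) D12589 (iv D9828)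
def n12590 : Q := act 5 n9816
theorem D12590 : act 5 n9816 = n12590 := rfl
theorem F57840 : act 2 n12590 = n9817 := d19_1 D12590 (iv D9817) (iv F45779)
theorem F57841 : act 6 n12590 = n12590 := d35_2 D9816 D12590 (iv D12590) (iv D9816) F36591
def n12591 : Q := act 7 n9816
theorem D12591 : act 7 n9816 = n12591 := rfl
theorem F57842 : act 2 n12591 = n9818 := d21_1 D12591 (iv D9818) (iv F45779)
theorem F57843 : act 4 n12591 = n9847 := d32_1 D12591 (iv D9847) (iv F45780)
theorem F57844 : act 8 n12591 = n9830 := d42_2 (iv F45781) D12591 (iv D9830)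
def n12592 : Q := act 4 n9817
theorem D12592 : act 4 n9817 = n12592 := rfl
theorem F57845 : act 1 n12592 = n10503 := d11_1 D12592 (iv D10503) (iv F45782)
theorem F57846 : act 3 n12592 = n12592 := d24_1 D12592 (iv D12592) F45783 F36598 (iv F45783)
theorem F57847 : act 5 n12592 = n9848 := d30_2 D9817 D12592 (iv D9848) (iv D7749) (iv F36595)
theorem F57848 : act 6 n12592 = n12592 := d31_2 F45784 D12592 (iv D12592)
def n12593 : Q := act 7 n9817
theorem D12593 : act 7 n9817 = n12593 := rfl
theorem F57849 : act 1 n12593 = n10504 := d14_1 D12593 (iv D10504) (iv F45782)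
theorem F57850 : act 3 n12593 = n9819 := d27_1 D12593 (iv D9819) (iv F45783)
theorem F57851 : act 5 n12593 = n9818 := d36_1 D12593 (iv D9818) D9817
def n12594 : Q := act 8 n9817
theorem D12594 : act 8 n9817 = n12594 := rfl
theorem F57852 : act 1 n12594 = n10505 := d15_1 D12594 (iv D10505) (iv F45782)
theorem F57853 : act 3 n12594 = n9820 := d28_1 D12594 (iv D9820) (iv F45783)
theorem F57854 : act 5 n12594 = n9832 := d37_1 D12594 (iv D9832) (iv D7736) (iv F36596) D9817
theorem F57855 : act 6 n12594 = n12594 := d40_1 D12594 (iv D12594) F45784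
def n12595 : Q := act 6 n9819
theorem D12595 : act 6 n9819 = n12595 := rfl
theorem F57856 : act 1 n12595 = n10506 := d13_1 D12595 (iv D10506) (iv F45789)
theorem F57857 : act 4 n12595 = n12595 := d31_1 D12595 (iv D12595) F45790
theorem F57858 : act 7 n12595 = n12595 := d39_2 D9819 D12595 (iv D12595) (iv D9819) F36599
def n12596 : Q := act 8 n9819
theorem D12596 : act 8 n9819 = n12596 := rfl
theorem F57859 : act 1 n12596 = n10507 := d15_1 D12596 (iv D10507) (iv F45789)
theorem F57860 : act 4 n12596 = n12596 := d33_1 D12596 (iv D12596) F45790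
theorem F57861 : act 5 n12596 = n9834 := d37_1 D12596 (iv D9834) F36629 (iv F36602) (iv F45791)
theorem F57862 : act 7 n12596 = n9820 := d42_1 D12596 (iv D9820) D9819
def n12597 : Q := act 9 n9820
theorem D12597 : act 9 n9820 = n12597 := rfl
theorem F57863 : act 1 n12597 = n10508 := d16_1 D12597 (iv D10508) (iv F45792)
theorem F57864 : act 4 n12597 = n12597 := d34_1 D12597 (iv D12597) F45793
theorem F57865 : act 5 n12597 = n9835 := d38_1 D12597 (iv D9835) (iv F45794)
theorem F57866 : act 6 n12597 = n12597 := d41_1 D12597 (iv D12597) F45795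
def n12598 : Q := act 0 n9821
theorem D12598 : act 0 n9821 = n12598 := rfl
theorem F57869 : act 5 n12598 = n10058 := d4_2 (iv F45798) D12598 (iv D10058)
theorem F57870 : act 7 n12598 = n9827 := d6_2 (iv F45799) D12598 (iv D9827)
def n12599 : Q := act 6 n9821
theorem D12599 : act 6 n9821 = n12599 := rfl
def n12600 : Q := act 5 n9822
theorem D12600 : act 5 n9822 = n12600 := rfl
theorem F57874 : act 2 n12600 = n9823 := d19_1 D12600 (iv D9823) (iv F45800)
theorem F57875 : act 6 n12600 = n10060 := d35_2 D9822 D12600 (iv D10060) (iv D7908) (iv F36604)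
def n12601 : Q := act 7 n9822
theorem D12601 : act 7 n9822 = n12601 := rfl
theorem F57878 : act 6 n12601 = n9830 := d39_1 D12601 (iv D9830) (iv D7735) (iv F36605) D9822
def n12602 : Q := act 4 n9823
theorem D12602 : act 4 n9823 = n12602 := rfl
theorem F57882 : act 6 n12602 = n10062 := d31_2 (iv F45804) D12602 (iv D10062)
def n12603 : Q := act 7 n9823
theorem D12603 : act 7 n9823 = n12603 := rfl
theorem F57884 : act 3 n12603 = n9825 := d27_1 D12603 (iv D9825) (iv F45803)
theorem F57885 : act 5 n12603 = n9824 := d36_1 D12603 (iv D9824) D9823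
def n12604 : Q := act 8 n9823
theorem D12604 : act 8 n9823 = n12604 := rfl
theorem F57887 : act 3 n12604 = n9826 := d28_1 D12604 (iv D9826) (iv F45803)
def n12605 : Q := act 6 n9825
theorem D12605 : act 6 n9825 = n12605 := rfl
theorem F57889 : act 1 n12605 = n10516 := d13_1 D12605 (iv D10516) (iv F45809)
theorem F57890 : act 4 n12605 = n12605 := d31_1 D12605 (iv D12605) F45810
theorem F57891 : act 5 n12605 = n9833 := d35_1 D12605 (iv D9833) F36629 (iv F36614) (iv F45811)
theorem F57892 : act 7 n12605 = n10065 := d39_2 D9825 D12605 (iv D10065) (iv D7911) (iv F36611)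
def n12606 : Q := act 8 n9825
theorem D12606 : act 8 n9825 = n12606 := rfl
theorem F57894 : act 4 n12606 = n12606 := d33_1 D12606 (iv D12606) F45810
theorem F57895 : act 7 n12606 = n9826 := d42_1 D12606 (iv D9826) D9825
def n12607 : Q := act 9 n9826
theorem D12607 : act 9 n9826 = n12607 := rfl
theorem F57897 : act 4 n12607 = n12607 := d34_1 D12607 (iv D12607) F45813
theorem F57898 : act 6 n12607 = n10067 := d41_1 D12607 (iv D10067) (iv F45814)
def n12608 : Q := act 6 n9827
theorem D12608 : act 6 n9827 = n12608 := rfl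
theorem F57899 : act 0 n12608 = n9828 := d5_1 D12608 (iv D9828) D9827
def n12609 : Q := act 5 n9828
theorem D12609 : act 5 n9828 = n12609 := rfl
theorem F57902 : act 1 n12609 = n9829 := d12_1 D12609 (iv D9829) (iv F45818)
theorem F57904 : act 4 n12609 = n12609 := d30_1 D12609 (iv D12609) F45820 F36694 (iv F45820)
theorem F57905 : act 6 n12609 = n10069 := d35_2 D9828 D12609 (iv D10069) (iv D7914) (iv F36617)
def n12610 : Q := act 7 n9828
theorem D12610 : act 7 n9828 = n12610 := rfl
def n12611 : Q := act 7 n9829
theorem D12611 : act 7 n9829 = n12611 := rfl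
theorem F57909 : act 2 n12611 = n9831 := d21_1 D12611 (iv D9831) (iv F45821)
theorem F57910 : act 4 n12611 = n12611 := d32_1 D12611 (iv D12611) F45822
theorem F57911 : act 5 n12611 = n9830 := d36_1 D12611 (iv D9830) D9829
def n12612 : Q := act 8 n9829
theorem D12612 : act 8 n9829 = n12612 := rfl
theorem F57912 : act 2 n12612 = n9832 := d22_1 D12612 (iv D9832) (iv F45821)
theorem F57913 : act 4 n12612 = n12612 := d33_1 D12612 (iv D12612) F45822
theorem F57914 : act 6 n12612 = n10072 := d40_1 D12612 (iv D10072) (iv F45823)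
def n12613 : Q := act 6 n9831
theorem D12613 : act 6 n9831 = n12613 := rfl
theorem F57915 : act 1 n12613 = n10524 := d13_1 D12613 (iv D10524) (iv F45826)
theorem F57916 : act 3 n12613 = n9833 := d26_1 D12613 (iv D9833) (iv F45827)
theorem F57917 : act 4 n12613 = n12613 := d31_1 D12613 (iv D12613) F45828
theorem F57918 : act 7 n12613 = n10073 := d39_2 D9831 D12613 (iv D10073) (iv D7917) (iv F36623)
def n12614 : Q := act 8 n9831
theorem D12614 : act 8 n9831 = n12614 := rfl
theorem F57919 : act 1 n12614 = n10525 := d15_1 D12614 (iv D10525) (iv F45826)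
theorem F57920 : act 3 n12614 = n9834 := d28_1 D12614 (iv D9834) (iv F45827)
theorem F57921 : act 4 n12614 = n12614 := d33_1 D12614 (iv D12614) F45828
theorem F57922 : act 7 n12614 = n9832 := d42_1 D12614 (iv D9832) D9831
def n12615 : Q := act 9 n9832
theorem D12615 : act 9 n9832 = n12615 := rfl
theorem F57923 : act 1 n12615 = n10526 := d16_1 D12615 (iv D10526) (iv F45830)
theorem F57924 : act 3 n12615 = n9835 := d29_1 D12615 (iv D9835) (iv F45831)
theorem F57925 : act 4 n12615 = n12615 := d34_1 D12615 (iv D12615) F45832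
theorem F57926 : act 6 n12615 = n10075 := d41_1 D12615 (iv D10075) (iv F45833)
def n12616 : Q := act 8 n9833
theorem D12616 : act 8 n9833 = n12616 := rfl
theorem F57927 : act 1 n12616 = n10527 := d15_1 D12616 (iv D10527) (iv F45834)
theorem F57928 : act 4 n12616 = n9836 := d33_1 D12616 (iv D9836) (iv F45835)
theorem F57929 : act 6 n12616 = n9834 := d40_1 D12616 (iv D9834) D9833
theorem F57930 : act 7 n12616 = n10076 := d42_1 D12616 (iv D10076) (iv F45836)
def n12617 : Q := act 9 n9834
theorem D12617 : act 9 n9834 = n12617 := rfl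
theorem F57931 : act 1 n12617 = n10528 := d16_1 D12617 (iv D10528) (iv F45837)
theorem F57932 : act 4 n12617 = n9837 := d34_1 D12617 (iv D9837) (iv F45838)
theorem F57933 : act 7 n12617 = n9835 := d43_1 D12617 (iv D9835) (iv F45839)
def n12618 : Q := act 5 n9836
theorem D12618 : act 5 n9836 = n12618 := rfl
theorem F57934 : act 1 n12618 = n10529 := d12_1 D12618 (iv D10529) (iv F45843)
theorem F57935 : act 3 n12618 = n12618 := d25_1 D12618 (iv D12618) F45844
theorem F57936 : act 6 n12618 = n12618 := d35_2 (iv F45845) D12618 (iv D12618) F45845 F36639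
theorem F57937 : act 7 n12618 = n10078 := d36_2 (iv F45846) D12618 (iv D10078)
theorem F57938 : act 8 n12618 = n12618 := d37_2 D9836 D12618 (iv D12618) (iv D9836) F36635
def n12619 : Q := act 9 n9836
theorem D12619 : act 9 n9836 = n12619 := rfl
theorem F57939 : act 1 n12619 = n10530 := d16_1 D12619 (iv D10530) (iv F45843)
theorem F57940 : act 3 n12619 = n12619 := d29_1 D12619 (iv D12619) F45844
theorem F57941 : act 6 n12619 = n9837 := d41_1 D12619 (iv D9837) (iv F45845)
theorem F57942 : act 7 n12619 = n10079 := d43_1 D12619 (iv D10079) (iv F45846)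
def n12620 : Q := act 0 n9838
theorem D12620 : act 0 n9838 = n12620 := rfl
theorem F57943 : act 2 n12620 = n10537 := d1_2 (iv F45851) D12620 (iv D10537)
theorem F57944 : act 5 n12620 = n9861 := d4_2 (iv F45852) D12620 (iv D9861)
theorem F57945 : act 9 n12620 = n9844 := d8_2 (iv F45853) D12620 (iv D9844)
def n12621 : Q := act 6 n9838
theorem D12621 : act 6 n9838 = n12621 := rfl
theorem F57946 : act 1 n12621 = n9839 := d13_1 D12621 (iv D9839) D9838
theorem F57947 : act 2 n12621 = n10538 := d20_1 D12621 (iv D10538) (iv F45851)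
theorem F57948 : act 9 n12621 = n9845 := d41_2 (iv F45853) D12621 (iv D9845)
def n12622 : Q := act 5 n9839
theorem D12622 : act 5 n9839 = n12622 := rfl
theorem F57950 : act 6 n12622 = n9863 := d35_2 D9839 D12622 (iv D9863) (iv D7765) (iv F36645)
theorem F57951 : act 9 n12622 = n9846 := d38_2 (iv F45855) D12622 (iv D9846)
def n12623 : Q := act 7 n9839
theorem D12623 : act 7 n9839 = n12623 := rfl
theorem F57952 : act 2 n12623 = n9841 := d21_1 D12623 (iv D9841) (iv F45854)
theorem F57953 : act 9 n12623 = n9847 := d43_2 (iv F45855) D12623 (iv D9847)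
def n12624 : Q := act 4 n9840
theorem D12624 : act 4 n9840 = n12624 := rfl
theorem F57954 : act 1 n12624 = n10541 := d11_1 D12624 (iv D10541) (iv F45856)
theorem F57955 : act 3 n12624 = n12624 := d24_1 D12624 (iv D12624) F45857 F36651 (iv F45857)
theorem F57956 : act 6 n12624 = n9864 := d31_2 (iv F45858) D12624 (iv D9864)
theorem F57957 : act 9 n12624 = n9848 := d34_2 (iv F45859) D12624 (iv D9848)
def n12625 : Q := act 7 n9840
theorem D12625 : act 7 n9840 = n12625 := rfl
theorem F57958 : act 1 n12625 = n10542 := d14_1 D12625 (iv D10542) (iv F45856)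
theorem F57959 : act 3 n12625 = n9842 := d27_1 D12625 (iv D9842) (iv F45857)
theorem F57960 : act 5 n12625 = n9841 := d36_1 D12625 (iv D9841) D9840
theorem F57961 : act 6 n12625 = n12625 := d39_1 D12625 (iv D12625) F45858 F36725 (iv F45858)
theorem F57962 : act 9 n12625 = n9849 := d43_2 (iv F45859) D12625 (iv D9849)
def n12626 : Q := act 8 n9840
theorem D12626 : act 8 n9840 = n12626 := rfl
theorem F57963 : act 1 n12626 = n10543 := d15_1 D12626 (iv D10543) (iv F45856)
theorem F57964 : act 3 n12626 = n9843 := d28_1 D12626 (iv D9843) (iv F45857)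
theorem F57965 : act 6 n12626 = n9865 := d40_1 D12626 (iv D9865) (iv F45858)
theorem F57966 : act 9 n12626 = n12626 := d44_2 (iv F45859) D12626 (iv D12626) F45859 F36665
def n12627 : Q := act 8 n9842
theorem D12627 : act 8 n9842 = n12627 := rfl
theorem F57967 : act 1 n12627 = n10544 := d15_1 D12627 (iv D10544) (iv F45863)
theorem F57968 : act 4 n12627 = n12627 := d33_1 D12627 (iv D12627) F45864
theorem F57969 : act 6 n12627 = n12627 := d40_1 D12627 (iv D12627) F45866
theorem F57970 : act 7 n12627 = n9843 := d42_1 D12627 (iv D9843) D9842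
theorem F57971 : act 9 n12627 = n12627 := d44_2 (iv F45867) D12627 (iv D12627) F45867 F36673
def n12628 : Q := act 6 n9844
theorem D12628 : act 6 n9844 = n12628 := rfl
theorem F57973 : act 2 n12628 = n10545 := d20_1 D12628 (iv D10545) (iv F45872)
def n12629 : Q := act 5 n9845
theorem D12629 : act 5 n9845 = n12629 := rfl
theorem F57975 : act 1 n12629 = n9846 := d12_1 D12629 (iv D9846) (iv F45875)
theorem F57977 : act 6 n12629 = n9867 := d35_2 D9845 D12629 (iv D9867) (iv D7769) (iv F36658)
def n12630 : Q := act 7 n9845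
theorem D12630 : act 7 n9845 = n12630 := rfl
theorem F57979 : act 1 n12630 = n9847 := d14_1 D12630 (iv D9847) (iv F45875)
theorem F57980 : act 2 n12630 = n10547 := d21_1 D12630 (iv D10547) (iv F45876)
def n12631 : Q := act 4 n9846
theorem D12631 : act 4 n9846 = n12631 := rfl
theorem F57982 : act 2 n12631 = n9848 := d18_1 D12631 (iv D9848) (iv F45878)
theorem F57983 : act 6 n12631 = n9868 := d31_2 (iv F45879) D12631 (iv D9868)
def n12632 : Q := act 7 n9846
theorem D12632 : act 7 n9846 = n12632 := rfl
def n12633 : Q := act 7 n9848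
theorem D12633 : act 7 n9848 = n12633 := rfl
theorem F57989 : act 1 n12633 = n10550 := d14_1 D12633 (iv D10550) (iv F45883)
theorem F57990 : act 3 n12633 = n12633 := d27_1 D12633 (iv D12633) F45884
theorem F57991 : act 4 n12633 = n9849 := d32_1 D12633 (iv D9849) D9848
theorem F57992 : act 6 n12633 = n12633 := d39_1 D12633 (iv D12633) F45885 F36746 (iv F45885)
theorem F57993 : act 8 n12633 = n12633 := d42_2 F45886 D12633 (iv D12633)
def n12634 : Q := act 6 n9850
theorem D12634 : act 6 n9850 = n12634 := rfl
def n12641 : Q := act 5 n9858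
theorem D12641 : act 5 n9858 = n12641 := rfl
def n12642 : Q := act 4 n9859
theorem D12642 : act 4 n9859 = n12642 := rfl
theorem F58024 : act 5 n12642 = n10093 := d30_2 D9859 D12642 (iv D10093) (iv D7936) (iv F36703)
def n12644 : Q := act 6 n9861
theorem D12644 : act 6 n9861 = n12644 := rfl
theorem F58032 : act 2 n12644 = n10562 := d20_1 D12644 (iv D10562) (iv F45930)
theorem F58036 : act 9 n12644 = n9866 := d41_2 (iv F45933) D12644 (iv D9866)
def n12645 : Q := act 5 n9862
theorem D12645 : act 5 n9862 = n12645 := rfl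
theorem F58038 : act 2 n12645 = n10563 := d19_1 D12645 (iv D10563) (iv F45935)
theorem F58040 : act 9 n12645 = n9867 := d38_2 (iv F45939) D12645 (iv D9867)
def n12646 : Q := act 4 n9863
theorem D12646 : act 4 n9863 = n12646 := rfl
theorem F58041 : act 2 n12646 = n9864 := d18_1 D12646 (iv D9864) (iv F45940)
theorem F58044 : act 9 n12646 = n9868 := d34_2 (iv F45942) D12646 (iv D9868)
def n12647 : Q := act 8 n9863
theorem D12647 : act 8 n9863 = n12647 := rfl
theorem F58045 : act 2 n12647 = n9865 := d22_1 D12647 (iv D9865) (iv F45940)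
def n12648 : Q := act 8 n9864
theorem D12648 : act 8 n9864 = n12648 := rfl
theorem F58049 : act 1 n12648 = n10566 := d15_1 D12648 (iv D10566) (iv F45943)
theorem F58050 : act 3 n12648 = n12648 := d28_1 D12648 (iv D12648) F45944
theorem F58051 : act 4 n12648 = n9865 := d33_1 D12648 (iv D9865) D9864
theorem F58052 : act 7 n12648 = n12648 := d42_1 D12648 (iv D12648) F45946
theorem F58053 : act 9 n12648 = n12648 := d44_2 (iv F45947) D12648 (iv D12648) F45947 F36747
def n12649 : Q := act 5 n9866
theorem D12649 : act 5 n9866 = n12649 := rfl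
theorem F58055 : act 2 n12649 = n10567 := d19_1 D12649 (iv D10567) (iv F45954)
def n12650 : Q := act 4 n9867
theorem D12650 : act 4 n9867 = n12650 := rfl
def n12651 : Q := act 3 n9868
theorem D12651 : act 3 n9868 = n12651 := rfl
def n12652 : Q := act 3 n9869
theorem D12652 : act 3 n9869 = n12652 := rfl
theorem F58067 : act 0 n12652 = n9884 := d2_1 D12652 (iv D9884) (iv F45966)
theorem F58068 : act 4 n12652 = n12652 := d24_2 D9869 D12652 (iv D12652) (iv D9869) F36762
theorem F58069 : act 8 n12652 = n9873 := d28_2 (iv F45968) D12652 (iv D9873)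
theorem F58070 : act 9 n12652 = n12652 := d29_2 F45969 D12652 (iv D12652)
def n12653 : Q := act 6 n9869
theorem D12653 : act 6 n9869 = n12653 := rfl
theorem F58071 : act 0 n12653 = n9885 := d5_1 D12653 (iv D9885) (iv F45966)
theorem F58072 : act 2 n12653 = n10571 := d20_1 D12653 (iv D10571) (iv F45967)
theorem F58074 : act 8 n12653 = n9874 := d40_2 (iv F45968) D12653 (iv D9874)
def n12654 : Q := act 7 n9870
theorem D12654 : act 7 n9870 = n12654 := rfl
theorem F58077 : act 2 n12654 = n10572 := d21_1 D12654 (iv D10572) (iv F45971)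
def n12655 : Q := act 3 n9871
theorem D12655 : act 3 n9871 = n12655 := rfl
theorem F58082 : act 0 n12655 = n9887 := d2_1 D12655 (iv D9887) (iv F45976)
theorem F58083 : act 4 n12655 = n12655 := d24_2 D9871 D12655 (iv D12655) (iv D9871) F36767
theorem F58084 : act 7 n12655 = n9873 := d27_2 (iv F45978) D12655 (iv D9873)
theorem F58085 : act 9 n12655 = n10004 := d29_2 (iv F45979) D12655 (iv D10004)
def n12656 : Q := act 6 n9871
theorem D12656 : act 6 n9871 = n12656 := rfl
theorem F58086 : act 0 n12656 = n9888 := d5_1 D12656 (iv D9888) (iv F45976)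
def n12658 : Q := act 2 n9873
theorem D12658 : act 2 n9873 = n12658 := rfl
theorem F58096 : act 0 n12658 = n9890 := d1_1 D12658 (iv D9890) (iv F45985)
theorem F58097 : act 3 n12658 = n10576 := d17_2 D9873 D12658 (iv D10576) (iv D8291) (iv F36771)
def n12659 : Q := act 6 n9873
theorem D12659 : act 6 n9873 = n12659 := rfl
theorem F58100 : act 0 n12659 = n9891 := d5_1 D12659 (iv D9891) (iv F45985)
theorem F58101 : act 3 n12659 = n9874 := d26_1 D12659 (iv D9874) D9873
theorem F58103 : act 9 n12659 = n10008 := d41_2 (iv F45987) D12659 (iv D10008)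
def n12660 : Q := act 5 n9874
theorem D12660 : act 5 n9874 = n12660 := rfl
theorem F58104 : act 0 n12660 = n9892 := d4_1 D12660 (iv D9892) (iv F45988)
theorem F58105 : act 2 n12660 = n10578 := d19_1 D12660 (iv D10578) (iv F45989)
theorem F58106 : act 4 n12660 = n9878 := d30_1 D12660 (iv D9878) F36785 (iv F36776) (iv F45990)
theorem F58107 : act 9 n12660 = n10009 := d38_2 (iv F45991) D12660 (iv D10009)
def n12662 : Q := act 1 n9876
theorem D12662 : act 1 n9876 = n12662 := rfl
theorem F58113 : act 3 n12662 = n10580 := d10_2 (iv F45998) D12662 (iv D10580)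
theorem F58117 : act 9 n12662 = n10011 := d16_2 (iv F46002) D12662 (iv D10011)
def n12663 : Q := act 6 n9876
theorem D12663 : act 6 n9876 = n12663 := rfl
theorem F58119 : act 2 n12663 = n9877 := d20_1 D12663 (iv D9877) D9876
theorem F58120 : act 3 n12663 = n10581 := d26_1 D12663 (iv D10581) (iv F45998)
theorem F58123 : act 9 n12663 = n10012 := d41_2 (iv F46002) D12663 (iv D10012)
def n12664 : Q := act 5 n9877
theorem D12664 : act 5 n9877 = n12664 := rfl
theorem F58125 : act 3 n12664 = n9878 := d25_1 D12664 (iv D9878) (iv F46004)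
theorem F58126 : act 9 n12664 = n10013 := d38_2 (iv F46007) D12664 (iv D10013)
def n12667 : Q := act 8 n9878
theorem D12667 : act 8 n9878 = n12667 := rfl
theorem F58137 : act 0 n12667 = n9898 := d7_1 D12667 (iv D9898) (iv F46008)
def n12668 : Q := act 3 n9880
theorem D12668 : act 3 n9880 = n12668 := rfl
theorem F58140 : act 1 n12668 = n9903 := d10_1 D12668 (iv D9903) (iv F46017)
theorem F58141 : act 5 n12668 = n9884 := d25_2 (iv F46019) D12668 (iv D9884)
theorem F58142 : act 9 n12668 = n12668 := d29_2 F46020 D12668 (iv D12668)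
def n12669 : Q := act 6 n9880
theorem D12669 : act 6 n9880 = n12669 := rfl
theorem F58143 : act 1 n12669 = n9904 := d13_1 D12669 (iv D9904) (iv F46017)
theorem F58144 : act 2 n12669 = n10587 := d20_1 D12669 (iv D10587) (iv F46018)
theorem F58145 : act 4 n12669 = n9881 := d31_1 D12669 (iv D9881) D9880
theorem F58146 : act 9 n12669 = n12669 := d41_2 F46020 D12669 (iv D12669)
def n12670 : Q := act 7 n9881
theorem D12670 : act 7 n9881 = n12670 := rfl
theorem F58147 : act 1 n12670 = n9905 := d14_1 D12670 (iv D9905) (iv F46021)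
theorem F58148 : act 2 n12670 = n10588 := d21_1 D12670 (iv D10588) (iv F46022)
theorem F58149 : act 5 n12670 = n12670 := d36_1 D12670 (iv D12670) F46023
theorem F58150 : act 9 n12670 = n12670 := d43_2 F46024 D12670 (iv D12670)
def n12671 : Q := act 3 n9882
theorem D12671 : act 3 n9882 = n12671 := rfl
theorem F58151 : act 1 n12671 = n9908 := d10_1 D12671 (iv D9908) (iv F46025)
theorem F58152 : act 4 n12671 = n12671 := d24_2 D9882 D12671 (iv D12671) (iv D9882) F36799
theorem F58153 : act 7 n12671 = n9884 := d27_2 (iv F46027) D12671 (iv D9884)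
theorem F58154 : act 8 n12671 = n9887 := d28_2 (iv F46028) D12671 (iv D9887)
theorem F58155 : act 9 n12671 = n12671 := d29_2 F46029 D12671 (iv D12671)
def n12672 : Q := act 6 n9882
theorem D12672 : act 6 n9882 = n12672 := rfl
theorem F58156 : act 1 n12672 = n9909 := d13_1 D12672 (iv D9909) (iv F46025)
theorem F58157 : act 2 n12672 = n10590 := d20_1 D12672 (iv D10590) (iv F46026)
theorem F58158 : act 4 n12672 = n9883 := d31_1 D12672 (iv D9883) D9882
theorem F58159 : act 8 n12672 = n9888 := d40_2 (iv F46028) D12672 (iv D9888)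
theorem F58160 : act 9 n12672 = n12672 := d41_2 F46029 D12672 (iv D12672)
def n12673 : Q := act 7 n9883
theorem D12673 : act 7 n9883 = n12673 := rfl
theorem F58161 : act 1 n12673 = n9910 := d14_1 D12673 (iv D9910) (iv F46030)
theorem F58164 : act 6 n12673 = n9886 := d39_1 D12673 (iv D9886) (iv D7784) (iv F36800) D9883
def n12674 : Q := act 2 n9884
theorem D12674 : act 2 n9884 = n12674 := rfl
theorem F58167 : act 3 n12674 = n10592 := d17_2 D9884 D12674 (iv D10592) (iv D8302) (iv F36804)
theorem F58168 : act 4 n12674 = n12674 := d18_2 F46036 D12674 (iv D12674)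
theorem F58169 : act 8 n12674 = n9890 := d22_2 (iv F46037) D12674 (iv D9890)
theorem F58170 : act 9 n12674 = n12674 := d23_2 F46038 D12674 (iv D12674)
def n12675 : Q := act 6 n9884
theorem D12675 : act 6 n9884 = n12675 := rfl
theorem F58171 : act 1 n12675 = n9912 := d13_1 D12675 (iv D9912) (iv F46035)
theorem F58172 : act 3 n12675 = n9885 := d26_1 D12675 (iv D9885) D9884
theorem F58173 : act 4 n12675 = n12675 := d31_1 D12675 (iv D12675) F46036
theorem F58174 : act 8 n12675 = n9891 := d40_2 (iv F46037) D12675 (iv D9891)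
theorem F58175 : act 9 n12675 = n12675 := d41_2 F46038 D12675 (iv D12675)
def n12676 : Q := act 5 n9885
theorem D12676 : act 5 n9885 = n12676 := rfl
theorem F58176 : act 1 n12676 = n9913 := d12_1 D12676 (iv D9913) (iv F46039)
theorem F58177 : act 2 n12676 = n10594 := d19_1 D12676 (iv D10594) (iv F46040)
theorem F58178 : act 4 n12676 = n12676 := d30_1 D12676 (iv D12676) F46041 F36810 (iv F46041)
theorem F58179 : act 9 n12676 = n12676 := d38_2 F46043 D12676 (iv D12676)
def n12677 : Q := act 7 n9885
theorem D12677 : act 7 n9885 = n12677 := rfl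
theorem F58180 : act 1 n12677 = n9914 := d14_1 D12677 (iv D9914) (iv F46039)
theorem F58181 : act 2 n12677 = n10595 := d21_1 D12677 (iv D10595) (iv F46040)
theorem F58183 : act 8 n12677 = n9893 := d42_2 (iv F46042) D12677 (iv D9893)
def n12678 : Q := act 2 n9887
theorem D12678 : act 2 n9887 = n12678 := rfl
theorem F58185 : act 3 n12678 = n10596 := d17_2 D9887 D12678 (iv D10596) (iv D8305) (iv F36814)
theorem F58186 : act 4 n12678 = n12678 := d18_2 F46051 D12678 (iv D12678)
theorem F58187 : act 7 n12678 = n9890 := d21_2 (iv F46052) D12678 (iv D9890)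
theorem F58188 : act 9 n12678 = n10017 := d23_2 (iv F46053) D12678 (iv D10017)
def n12679 : Q := act 6 n9887
theorem D12679 : act 6 n9887 = n12679 := rfl
theorem F58190 : act 3 n12679 = n9888 := d26_1 D12679 (iv D9888) D9887
theorem F58191 : act 4 n12679 = n12679 := d31_1 D12679 (iv D12679) F46051
theorem F58192 : act 9 n12679 = n10018 := d41_2 (iv F46053) D12679 (iv D10018)
def n12680 : Q := act 5 n9888
theorem D12680 : act 5 n9888 = n12680 := rfl
theorem F58193 : act 1 n12680 = n9917 := d12_1 D12680 (iv D9917) (iv F46054)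
theorem F58195 : act 4 n12680 = n12680 := d30_1 D12680 (iv D12680) F46056 F36820 (iv F46056)
theorem F58196 : act 9 n12680 = n10019 := d38_2 (iv F46057) D12680 (iv D10019)
def n12681 : Q := act 7 n9888
theorem D12681 : act 7 n9888 = n12681 := rfl
theorem F58197 : act 1 n12681 = n9918 := d14_1 D12681 (iv D9918) (iv F46054)
theorem F58198 : act 2 n12681 = n10599 := d21_1 D12681 (iv D10599) (iv F46055)
theorem F58200 : act 6 n12681 = n9893 := d39_1 D12681 (iv D9893) (iv D7788) (iv F36815) D9888
def n12682 : Q := act 1 n9890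
theorem D12682 : act 1 n9890 = n12682 := rfl
theorem F58202 : act 2 n12682 = n9919 := d9_2 D9890 D12682 (iv D9919) (iv D7807) (iv F36822)
theorem F58203 : act 3 n12682 = n10600 := d10_2 (iv F46064) D12682 (iv D10600)
theorem F58205 : act 9 n12682 = n10021 := d16_2 (iv F46066) D12682 (iv D10021)
def n12683 : Q := act 6 n9890
theorem D12683 : act 6 n9890 = n12683 := rfl
theorem F58206 : act 2 n12683 = n9891 := d20_1 D12683 (iv D9891) D9890
theorem F58207 : act 3 n12683 = n10601 := d26_1 D12683 (iv D10601) (iv F46064)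
def n12684 : Q := act 5 n9891
theorem D12684 : act 5 n9891 = n12684 := rfl
theorem F58210 : act 1 n12684 = n9921 := d12_1 D12684 (iv D9921) (iv F46067)
theorem F58211 : act 3 n12684 = n9892 := d25_1 D12684 (iv D9892) (iv F46068)
theorem F58212 : act 9 n12684 = n10023 := d38_2 (iv F46070) D12684 (iv D10023)
def n12685 : Q := act 7 n9891
theorem D12685 : act 7 n9891 = n12685 := rfl
theorem F58213 : act 1 n12685 = n9922 := d14_1 D12685 (iv D9922) (iv F46067)
def n12686 : Q := act 7 n9892
theorem D12686 : act 7 n9892 = n12686 := rfl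
theorem F58217 : act 1 n12686 = n9923 := d14_1 D12686 (iv D9923) (iv F46071)
theorem F58218 : act 2 n12686 = n10604 := d21_1 D12686 (iv D10604) (iv F46072)
theorem F58220 : act 5 n12686 = n9893 := d36_1 D12686 (iv D9893) D9892
def n12687 : Q := act 8 n9892
theorem D12687 : act 8 n9892 = n12687 := rfl
theorem F58222 : act 1 n12687 = n9924 := d15_1 D12687 (iv D9924) (iv F46071)
def n12688 : Q := act 5 n9894
theorem D12688 : act 5 n9894 = n12688 := rfl
theorem F58226 : act 2 n12688 = n9895 := d19_1 D12688 (iv D9895) (iv F46080)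
theorem F58227 : act 3 n12688 = n10606 := d25_1 D12688 (iv D10606) (iv F46081)
def n12689 : Q := act 7 n9894
theorem D12689 : act 7 n9894 = n12689 := rfl
theorem F58230 : act 2 n12689 = n9896 := d21_1 D12689 (iv D9896) (iv F46080)
theorem F58231 : act 3 n12689 = n10607 := d27_1 D12689 (iv D10607) (iv F46081)
def n12690 : Q := act 4 n9895
theorem D12690 : act 4 n9895 = n12690 := rfl
theorem F58236 : act 1 n12690 = n9925 := d11_1 D12690 (iv D9925) (iv F46085)
theorem F58238 : act 9 n12690 = n10029 := d34_2 (iv F46087) D12690 (iv D10029)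
def n12691 : Q := act 7 n9895
theorem D12691 : act 7 n9895 = n12691 := rfl
theorem F58239 : act 1 n12691 = n9926 := d14_1 D12691 (iv D9926) (iv F46085)
theorem F58240 : act 3 n12691 = n9897 := d27_1 D12691 (iv D9897) (iv F46086)
def n12692 : Q := act 8 n9895
theorem D12692 : act 8 n9895 = n12692 := rfl
theorem F58243 : act 1 n12692 = n9927 := d15_1 D12692 (iv D9927) (iv F46085)
theorem F58244 : act 3 n12692 = n9898 := d28_1 D12692 (iv D9898) (iv F46086)
def n12693 : Q := act 6 n9897
theorem D12693 : act 6 n9897 = n12693 := rfl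
theorem F58246 : act 1 n12693 = n9928 := d13_1 D12693 (iv D9928) (iv F46094)
theorem F58247 : act 2 n12693 = n10611 := d20_1 D12693 (iv D10611) (iv F46095)
def n12694 : Q := act 8 n9897
theorem D12694 : act 8 n9897 = n12694 := rfl
theorem F58250 : act 1 n12694 = n9929 := d15_1 D12694 (iv D9929) (iv F46094)
theorem F58253 : act 7 n12694 = n9898 := d42_1 D12694 (iv D9898) D9897
def n12695 : Q := act 9 n9898
theorem D12695 : act 9 n9898 = n12695 := rfl
theorem F58254 : act 1 n12695 = n9930 := d16_1 D12695 (iv D9930) (iv F46098)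
def n12696 : Q := act 3 n9899
theorem D12696 : act 3 n9899 = n12696 := rfl
theorem F58258 : act 4 n12696 = n9903 := d24_2 D9899 D12696 (iv D9903) (iv D7796) (iv F36855)
theorem F58259 : act 5 n12696 = n12696 := d25_2 F46102 D12696 (iv D12696)
theorem F58260 : act 9 n12696 = n12696 := d29_2 F46103 D12696 (iv D12696)
def n12697 : Q := act 6 n9899
theorem D12697 : act 6 n9899 = n12697 := rfl
theorem F58261 : act 2 n12697 = n12697 := d20_1 D12697 (iv D12697) F46101
theorem F58262 : act 4 n12697 = n9900 := d31_1 D12697 (iv D9900) D9899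
theorem F58263 : act 9 n12697 = n12697 := d41_2 F46103 D12697 (iv D12697)
def n12698 : Q := act 7 n9900
theorem D12698 : act 7 n9900 = n12698 := rfl
theorem F58264 : act 2 n12698 = n12698 := d21_1 D12698 (iv D12698) F46104
theorem F58265 : act 3 n12698 = n9905 := d27_1 D12698 (iv D9905) (iv F46105)
theorem F58266 : act 5 n12698 = n12698 := d36_1 D12698 (iv D12698) F46106
theorem F58267 : act 9 n12698 = n12698 := d43_2 F46107 D12698 (iv D12698)
def n12699 : Q := act 3 n9901
theorem D12699 : act 3 n9901 = n12699 := rfl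
theorem F58268 : act 5 n12699 = n9908 := d25_2 (iv F46109) D12699 (iv D9908)
theorem F58269 : act 7 n12699 = n9903 := d27_2 (iv F46110) D12699 (iv D9903)
theorem F58270 : act 9 n12699 = n12699 := d29_2 F46111 D12699 (iv D12699)
def n12700 : Q := act 6 n9901
theorem D12700 : act 6 n9901 = n12700 := rfl
theorem F58271 : act 2 n12700 = n9934 := d20_1 D12700 (iv D9934) (iv F46108)
theorem F58272 : act 4 n12700 = n9902 := d31_1 D12700 (iv D9902) D9901
theorem F58273 : act 9 n12700 = n12700 := d41_2 F46111 D12700 (iv D12700)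
def n12701 : Q := act 7 n9902
theorem D12701 : act 7 n9902 = n12701 := rfl
theorem F58274 : act 2 n12701 = n9935 := d21_1 D12701 (iv D9935) (iv F46112)
theorem F58275 : act 6 n12701 = n9905 := d39_1 D12701 (iv D9905) (iv D7797) (iv F36858) D9902
theorem F58276 : act 9 n12701 = n12701 := d43_2 F46113 D12701 (iv D12701)
def n12702 : Q := act 2 n9903
theorem D12702 : act 2 n9903 = n12702 := rfl
theorem F58277 : act 3 n12702 = n9936 := d17_2 D9903 D12702 (iv D9936) (iv D7818) (iv F36860)
theorem F58278 : act 5 n12702 = n9911 := d19_2 (iv F46114) D12702 (iv D9911)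
theorem F58279 : act 9 n12702 = n12702 := d23_2 F46115 D12702 (iv D12702)
def n12703 : Q := act 6 n9903
theorem D12703 : act 6 n9903 = n12703 := rfl
theorem F58280 : act 3 n12703 = n9904 := d26_1 D12703 (iv D9904) D9903
theorem F58281 : act 9 n12703 = n12703 := d41_2 F46115 D12703 (iv D12703)
def n12704 : Q := act 5 n9904
theorem D12704 : act 5 n9904 = n12704 := rfl
theorem F58282 : act 2 n12704 = n9938 := d19_1 D12704 (iv D9938) (iv F46116)
theorem F58283 : act 4 n12704 = n12704 := d30_1 D12704 (iv D12704) F46117 F36864 (iv F46117)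
theorem F58284 : act 6 n12704 = n9913 := d35_2 D9904 D12704 (iv D9913) (iv D7802) (iv F36861)
theorem F58285 : act 9 n12704 = n12704 := d38_2 F46118 D12704 (iv D12704)
def n12705 : Q := act 7 n9904
theorem D12705 : act 7 n9904 = n12705 := rfl
theorem F58286 : act 2 n12705 = n9939 := d21_1 D12705 (iv D9939) (iv F46116)
theorem F58287 : act 4 n12705 = n9905 := d32_1 D12705 (iv D9905) (iv F46117)
theorem F58288 : act 9 n12705 = n12705 := d43_2 F46118 D12705 (iv D12705)
def n12706 : Q := act 3 n9906
theorem D12706 : act 3 n9906 = n12706 := rfl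
def n12707 : Q := act 6 n9906
theorem D12707 : act 6 n9906 = n12707 := rfl
theorem F58294 : act 4 n12707 = n9907 := d31_1 D12707 (iv D9907) D9906
def n12708 : Q := act 7 n9907
theorem D12708 : act 7 n9907 = n12708 := rfl
theorem F58299 : act 5 n12708 = n9910 := d36_1 D12708 (iv D9910) (iv F46128)
def n12709 : Q := act 2 n9908
theorem D12709 : act 2 n9908 = n12709 := rfl
theorem F58303 : act 3 n12709 = n9943 := d17_2 D9908 D12709 (iv D9943) (iv D7823) (iv F36871)
theorem F58305 : act 7 n12709 = n9911 := d21_2 (iv F46132) D12709 (iv D9911)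
theorem F58306 : act 8 n12709 = n9915 := d22_2 (iv F46133) D12709 (iv D9915)
def n12710 : Q := act 6 n9908
theorem D12710 : act 6 n9908 = n12710 := rfl
theorem F58308 : act 3 n12710 = n9909 := d26_1 D12710 (iv D9909) D9908
def n12711 : Q := act 5 n9909
theorem D12711 : act 5 n9909 = n12711 := rfl
theorem F58312 : act 2 n12711 = n9945 := d19_1 D12711 (iv D9945) (iv F46135)
theorem F58313 : act 9 n12711 = n12711 := d38_2 F46138 D12711 (iv D12711)
def n12712 : Q := act 7 n9909
theorem D12712 : act 7 n9909 = n12712 := rfl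
theorem F58314 : act 2 n12712 = n9946 := d21_1 D12712 (iv D9946) (iv F46135)
theorem F58315 : act 4 n12712 = n9910 := d32_1 D12712 (iv D9910) (iv F46136)
theorem F58316 : act 6 n12712 = n9914 := d39_1 D12712 (iv D9914) (iv D7802) (iv F36872) D9909
theorem F58317 : act 8 n12712 = n9918 := d42_2 (iv F46137) D12712 (iv D9918)
theorem F58318 : act 9 n12712 = n12712 := d43_2 F46138 D12712 (iv D12712)
def n12713 : Q := act 1 n9911
theorem D12713 : act 1 n9911 = n12713 := rfl
theorem F58319 : act 3 n12713 = n9947 := d10_2 (iv F46144) D12713 (iv D9947)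
theorem F58320 : act 4 n12713 = n12713 := d11_2 F46145 D12713 (iv D12713)
theorem F58321 : act 8 n12713 = n9919 := d15_2 (iv F46146) D12713 (iv D9919)
theorem F58322 : act 9 n12713 = n12713 := d16_2 F46147 D12713 (iv D12713)
def n12714 : Q := act 6 n9911
theorem D12714 : act 6 n9911 = n12714 := rfl
theorem F58323 : act 2 n12714 = n9912 := d20_1 D12714 (iv D9912) D9911
theorem F58324 : act 3 n12714 = n9948 := d26_1 D12714 (iv D9948) (iv F46144)
theorem F58325 : act 4 n12714 = n12714 := d31_1 D12714 (iv D12714) F46145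
theorem F58326 : act 8 n12714 = n9920 := d40_2 (iv F46146) D12714 (iv D9920)
theorem F58327 : act 9 n12714 = n12714 := d41_2 F46147 D12714 (iv D12714)
def n12715 : Q := act 5 n9912
theorem D12715 : act 5 n9912 = n12715 := rfl
theorem F58328 : act 3 n12715 = n9913 := d25_1 D12715 (iv D9913) (iv F46148)
theorem F58329 : act 9 n12715 = n12715 := d38_2 F46151 D12715 (iv D12715)
def n12716 : Q := act 7 n9912
theorem D12716 : act 7 n9912 = n12716 := rfl
theorem F58330 : act 3 n12716 = n9914 := d27_1 D12716 (iv D9914) (iv F46148)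
theorem F58332 : act 8 n12716 = n9922 := d42_2 (iv F46150) D12716 (iv D9922)
def n12717 : Q := act 7 n9913
theorem D12717 : act 7 n9913 = n12717 := rfl
theorem F58334 : act 2 n12717 = n9951 := d21_1 D12717 (iv D9951) (iv F46152)
theorem F58335 : act 4 n12717 = n12717 := d32_1 D12717 (iv D12717) F46153
theorem F58336 : act 5 n12717 = n9914 := d36_1 D12717 (iv D9914) D9913
theorem F58337 : act 9 n12717 = n12717 := d43_2 F46154 D12717 (iv D12717)
def n12718 : Q := act 8 n9913
theorem D12718 : act 8 n9913 = n12718 := rfl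
theorem F58338 : act 2 n12718 = n9952 := d22_1 D12718 (iv D9952) (iv F46152)
theorem F58339 : act 4 n12718 = n12718 := d33_1 D12718 (iv D12718) F46153
theorem F58340 : act 5 n12718 = n9924 := d37_1 D12718 (iv D9924) (iv D7809) (iv F36884) D9913
def n12719 : Q := act 1 n9915
theorem D12719 : act 1 n9915 = n12719 := rfl
theorem F58341 : act 3 n12719 = n9953 := d10_2 (iv F46159) D12719 (iv D9953)
theorem F58343 : act 7 n12719 = n9919 := d14_2 (iv F46161) D12719 (iv D9919)
def n12720 : Q := act 6 n9915
theorem D12720 : act 6 n9915 = n12720 := rfl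
theorem F58345 : act 2 n12720 = n9916 := d20_1 D12720 (iv D9916) D9915
theorem F58346 : act 3 n12720 = n9954 := d26_1 D12720 (iv D9954) (iv F46159)
theorem F58348 : act 9 n12720 = n10036 := d41_2 (iv F46162) D12720 (iv D10036)
def n12721 : Q := act 5 n9916
theorem D12721 : act 5 n9916 = n12721 := rfl
theorem F58349 : act 3 n12721 = n9917 := d25_1 D12721 (iv D9917) (iv F46163)
def n12722 : Q := act 7 n9916
theorem D12722 : act 7 n9916 = n12722 := rfl
theorem F58351 : act 3 n12722 = n9918 := d27_1 D12722 (iv D9918) (iv F46163)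
def n12723 : Q := act 7 n9917
theorem D12723 : act 7 n9917 = n12723 := rfl
theorem F58355 : act 2 n12723 = n9957 := d21_1 D12723 (iv D9957) (iv F46166)
theorem F58356 : act 4 n12723 = n12723 := d32_1 D12723 (iv D12723) F46167
theorem F58357 : act 5 n12723 = n9918 := d36_1 D12723 (iv D9918) D9917
theorem F58358 : act 9 n12723 = n10039 := d43_2 (iv F46168) D12723 (iv D10039)
def n12724 : Q := act 8 n9917
theorem D12724 : act 8 n9917 = n12724 := rfl
theorem F58359 : act 2 n12724 = n9958 := d22_1 D12724 (iv D9958) (iv F46166)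
theorem F58360 : act 4 n12724 = n12724 := d33_1 D12724 (iv D12724) F46167
def n12725 : Q := act 0 n9919
theorem D12725 : act 0 n9919 = n12725 := rfl
def n12726 : Q := act 6 n9919
theorem D12726 : act 6 n9919 = n12726 := rfl
theorem F58364 : act 1 n12726 = n9920 := d13_1 D12726 (iv D9920) D9919
theorem F58367 : act 9 n12726 = n10042 := d41_2 (iv F46175) D12726 (iv D10042)
def n12727 : Q := act 5 n9920
theorem D12727 : act 5 n9920 = n12727 := rfl
theorem F58368 : act 2 n12727 = n9921 := d19_1 D12727 (iv D9921) (iv F46176)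
theorem F58369 : act 3 n12727 = n9961 := d25_1 D12727 (iv D9961) (iv F46177)
theorem F58370 : act 9 n12727 = n10043 := d38_2 (iv F46179) D12727 (iv D10043)
def n12728 : Q := act 7 n9920
theorem D12728 : act 7 n9920 = n12728 := rfl
def n12729 : Q := act 4 n9921
theorem D12729 : act 4 n9921 = n12729 := rfl
theorem F58375 : act 3 n12729 = n9925 := d24_1 D12729 (iv D9925) F36915 (iv F36909) (iv F46180)
theorem F58376 : act 5 n12729 = n12729 := d30_2 D9921 D12729 (iv D12729) (iv D9921) F36906
theorem F58377 : act 9 n12729 = n10045 := d34_2 (iv F46181) D12729 (iv D10045)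
def n12730 : Q := act 7 n9921
theorem D12730 : act 7 n9921 = n12730 := rfl
theorem F58378 : act 3 n12730 = n9923 := d27_1 D12730 (iv D9923) (iv F46180)
theorem F58379 : act 5 n12730 = n9922 := d36_1 D12730 (iv D9922) D9921
def n12731 : Q := act 8 n9921
theorem D12731 : act 8 n9921 = n12731 := rfl
theorem F58381 : act 3 n12731 = n9924 := d28_1 D12731 (iv D9924) (iv F46180)
def n12732 : Q := act 6 n9923
theorem D12732 : act 6 n9923 = n12732 := rfl
def n12733 : Q := act 8 n9923
theorem D12733 : act 8 n9923 = n12733 := rfl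
theorem F58387 : act 7 n12733 = n9924 := d42_1 D12733 (iv D9924) D9923
def n12734 : Q := act 9 n9924
theorem D12734 : act 9 n9924 = n12734 := rfl
theorem F58388 : act 2 n12734 = n9967 := d23_1 D12734 (iv D9967) (iv F46189)
theorem F58389 : act 4 n12734 = n9930 := d34_1 D12734 (iv D9930) (iv F46190)
theorem F58390 : act 8 n12734 = n10050 := d44_1 D12734 (iv D10050) (iv D7900) (iv F36910) D9924
def n12735 : Q := act 7 n9925
theorem D12735 : act 7 n9925 = n12735 := rfl
def n12736 : Q := act 8 n9925
theorem D12736 : act 8 n9925 = n12736 := rfl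
theorem F58395 : act 2 n12736 = n12736 := d22_1 D12736 (iv D12736) F46191
theorem F58396 : act 4 n12736 = n9927 := d33_1 D12736 (iv D9927) D9925
def n12737 : Q := act 6 n9926
theorem D12737 : act 6 n9926 = n12737 := rfl
def n12738 : Q := act 8 n9926
theorem D12738 : act 8 n9926 = n12738 := rfl
theorem F58404 : act 7 n12738 = n9927 := d42_1 D12738 (iv D9927) D9926
def n12739 : Q := act 9 n9927
theorem D12739 : act 9 n9927 = n12739 := rfl
theorem F58406 : act 3 n12739 = n9930 := d29_1 D12739 (iv D9930) (iv F46199)
def n12740 : Q := act 8 n9928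
theorem D12740 : act 8 n9928 = n12740 := rfl
def n12741 : Q := act 9 n9929
theorem D12741 : act 9 n9929 = n12741 := rfl
theorem F58413 : act 7 n12741 = n9930 := d43_1 D12741 (iv D9930) (iv F46206)
def n12742 : Q := act 3 n9931
theorem D12742 : act 3 n9931 = n12742 := rfl
theorem F58417 : act 5 n12742 = n9940 := d25_2 (iv F46211) D12742 (iv D9940)
def n12743 : Q := act 6 n9931
theorem D12743 : act 6 n9931 = n12743 := rfl
theorem F58420 : act 1 n12743 = n10660 := d13_1 D12743 (iv D10660) (iv F46210)
theorem F58421 : act 4 n12743 = n9932 := d31_1 D12743 (iv D9932) D9931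
theorem F58422 : act 9 n12743 = n12743 := d41_2 F46213 D12743 (iv D12743)
def n12744 : Q := act 7 n9932
theorem D12744 : act 7 n9932 = n12744 := rfl
theorem F58423 : act 1 n12744 = n10661 := d14_1 D12744 (iv D10661) (iv F46214)
theorem F58424 : act 3 n12744 = n12744 := d27_1 D12744 (iv D12744) F46215
theorem F58425 : act 5 n12744 = n9935 := d36_1 D12744 (iv D9935) (iv F46216)
theorem F58426 : act 6 n12744 = n12744 := d39_1 D12744 (iv D12744) (iv D9932) F36930 D9932
theorem F58427 : act 9 n12744 = n12744 := d43_2 F46217 D12744 (iv D12744)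
def n12745 : Q := act 2 n9933
theorem D12745 : act 2 n9933 = n12745 := rfl
theorem F58429 : act 5 n12745 = n9943 := d19_2 (iv F46220) D12745 (iv D9943)
theorem F58430 : act 7 n12745 = n9936 := d21_2 (iv F46221) D12745 (iv D9936)
def n12746 : Q := act 6 n9933
theorem D12746 : act 6 n9933 = n12746 := rfl
theorem F58433 : act 3 n12746 = n9934 := d26_1 D12746 (iv D9934) D9933
theorem F58434 : act 4 n12746 = n12746 := d31_1 D12746 (iv D12746) F46219
theorem F58435 : act 9 n12746 = n12746 := d41_2 F46222 D12746 (iv D12746)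
def n12747 : Q := act 5 n9934
theorem D12747 : act 5 n9934 = n12747 := rfl
theorem F58437 : act 6 n12747 = n9945 := d35_2 D9934 D12747 (iv D9945) (iv D7824) (iv F36933)
theorem F58438 : act 9 n12747 = n12747 := d38_2 F46225 D12747 (iv D12747)
def n12748 : Q := act 7 n9934
theorem D12748 : act 7 n9934 = n12748 := rfl
theorem F58439 : act 1 n12748 = n10665 := d14_1 D12748 (iv D10665) (iv F46223)
theorem F58440 : act 4 n12748 = n9935 := d32_1 D12748 (iv D9935) (iv F46224)
theorem F58441 : act 6 n12748 = n9939 := d39_1 D12748 (iv D9939) (iv D7819) (iv F36934) D9934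
theorem F58442 : act 9 n12748 = n12748 := d43_2 F46225 D12748 (iv D12748)
def n12749 : Q := act 1 n9936
theorem D12749 : act 1 n9936 = n12749 := rfl
theorem F58443 : act 2 n12749 = n10666 := d9_2 D9936 D12749 (iv D10666) (iv D8354) (iv F36939)
theorem F58445 : act 5 n12749 = n9947 := d12_2 (iv F46231) D12749 (iv D9947)
def n12750 : Q := act 6 n9936
theorem D12750 : act 6 n9936 = n12750 := rfl
theorem F58447 : act 2 n12750 = n9937 := d20_1 D12750 (iv D9937) D9936
theorem F58448 : act 4 n12750 = n12750 := d31_1 D12750 (iv D12750) F46230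
theorem F58449 : act 9 n12750 = n12750 := d41_2 F46232 D12750 (iv D12750)
def n12751 : Q := act 5 n9937
theorem D12751 : act 5 n9937 = n12751 := rfl
theorem F58450 : act 1 n12751 = n10668 := d12_1 D12751 (iv D10668) (iv F46233)
theorem F58451 : act 3 n12751 = n9938 := d25_1 D12751 (iv D9938) (iv F46234)
theorem F58452 : act 6 n12751 = n9949 := d35_2 D9937 D12751 (iv D9949) (iv D7827) (iv F36941)
theorem F58453 : act 9 n12751 = n12751 := d38_2 F46236 D12751 (iv D12751)
def n12752 : Q := act 7 n9937
theorem D12752 : act 7 n9937 = n12752 := rfl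
theorem F58454 : act 1 n12752 = n10669 := d14_1 D12752 (iv D10669) (iv F46233)
theorem F58455 : act 3 n12752 = n9939 := d27_1 D12752 (iv D9939) (iv F46234)
theorem F58456 : act 4 n12752 = n12752 := d32_1 D12752 (iv D12752) F46235
theorem F58457 : act 9 n12752 = n12752 := d43_2 F46236 D12752 (iv D12752)
def n12753 : Q := act 7 n9938
theorem D12753 : act 7 n9938 = n12753 := rfl
theorem F58458 : act 1 n12753 = n10670 := d14_1 D12753 (iv D10670) (iv F46237)
theorem F58459 : act 4 n12753 = n12753 := d32_1 D12753 (iv D12753) F46238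
theorem F58460 : act 5 n12753 = n9939 := d36_1 D12753 (iv D9939) D9938
theorem F58461 : act 9 n12753 = n12753 := d43_2 F46240 D12753 (iv D12753)
def n12754 : Q := act 8 n9938
theorem D12754 : act 8 n9938 = n12754 := rfl
theorem F58462 : act 1 n12754 = n10671 := d15_1 D12754 (iv D10671) (iv F46237)
theorem F58463 : act 4 n12754 = n12754 := d33_1 D12754 (iv D12754) F46238
theorem F58464 : act 6 n12754 = n9952 := d40_1 D12754 (iv D9952) (iv F46239)
def n12756 : Q := act 6 n9940
theorem D12756 : act 6 n9940 = n12756 := rfl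
theorem F58470 : act 1 n12756 = n10672 := d13_1 D12756 (iv D10672) (iv F46244)
theorem F58472 : act 4 n12756 = n9971 := d31_1 D12756 (iv D9971) (iv F46245)
def n12757 : Q := act 5 n9941
theorem D12757 : act 5 n9941 = n12757 := rfl
theorem F58476 : act 4 n12757 = n9945 := d30_1 D12757 (iv D9945) F36965 (iv F36956) (iv F46250)
def n12758 : Q := act 7 n9941
theorem D12758 : act 7 n9941 = n12758 := rfl
theorem F58479 : act 4 n12758 = n9942 := d32_1 D12758 (iv D9942) (iv F46250)
def n12759 : Q := act 1 n9943
theorem D12759 : act 1 n9943 = n12759 := rfl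
theorem F58484 : act 4 n12759 = n9974 := d11_2 (iv F46259) D12759 (iv D9974)
theorem F58485 : act 7 n12759 = n9947 := d14_2 (iv F46260) D12759 (iv D9947)
def n12760 : Q := act 6 n9943
theorem D12760 : act 6 n9943 = n12760 := rfl
theorem F58489 : act 4 n12760 = n9975 := d31_1 D12760 (iv D9975) (iv F46259)
def n12761 : Q := act 5 n9944
theorem D12761 : act 5 n9944 = n12761 := rfl
theorem F58493 : act 3 n12761 = n9945 := d25_1 D12761 (iv D9945) (iv F46264)
def n12762 : Q := act 7 n9944
theorem D12762 : act 7 n9944 = n12762 := rfl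
theorem F58496 : act 3 n12762 = n9946 := d27_1 D12762 (iv D9946) (iv F46264)
theorem F58497 : act 4 n12762 = n9977 := d32_1 D12762 (iv D9977) (iv F46265)
theorem F58498 : act 6 n12762 = n9950 := d39_1 D12762 (iv D9950) (iv D7827) (iv F36961) D9944
def n12763 : Q := act 7 n9945
theorem D12763 : act 7 n9945 = n12763 := rfl
theorem F58502 : act 5 n12763 = n9946 := d36_1 D12763 (iv D9946) D9945
def n12764 : Q := act 8 n9945
theorem D12764 : act 8 n9945 = n12764 := rfl
theorem F58505 : act 5 n12764 = n9958 := d37_1 D12764 (iv D9958) (iv D7832) (iv F36966) D9945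
def n12765 : Q := act 0 n9947
theorem D12765 : act 0 n9947 = n12765 := rfl
def n12766 : Q := act 6 n9947
theorem D12766 : act 6 n9947 = n12766 := rfl
theorem F58510 : act 1 n12766 = n9948 := d13_1 D12766 (iv D9948) D9947
def n12767 : Q := act 5 n9948
theorem D12767 : act 5 n9948 = n12767 := rfl
theorem F58515 : act 2 n12767 = n9949 := d19_1 D12767 (iv D9949) (iv F46279)
theorem F58516 : act 9 n12767 = n12767 := d38_2 F46282 D12767 (iv D12767)
def n12768 : Q := act 7 n9948
theorem D12768 : act 7 n9948 = n12768 := rfl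
theorem F58517 : act 2 n12768 = n9950 := d21_1 D12768 (iv D9950) (iv F46279)
def n12769 : Q := act 4 n9949
theorem D12769 : act 4 n9949 = n12769 := rfl
theorem F58521 : act 1 n12769 = n10685 := d11_1 D12769 (iv D10685) (iv F46283)
theorem F58522 : act 3 n12769 = n12769 := d24_1 D12769 (iv D12769) F46284 F36982 (iv F46284)
theorem F58523 : act 5 n12769 = n9984 := d30_2 D9949 D12769 (iv D9984) (iv D7852) (iv F36978)
theorem F58524 : act 9 n12769 = n12769 := d34_2 F46285 D12769 (iv D12769)
def n12770 : Q := act 7 n9949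
theorem D12770 : act 7 n9949 = n12770 := rfl
theorem F58525 : act 1 n12770 = n10686 := d14_1 D12770 (iv D10686) (iv F46283)
theorem F58526 : act 3 n12770 = n9951 := d27_1 D12770 (iv D9951) (iv F46284)
theorem F58527 : act 5 n12770 = n9950 := d36_1 D12770 (iv D9950) D9949
theorem F58528 : act 9 n12770 = n12770 := d43_2 F46285 D12770 (iv D12770)
def n12771 : Q := act 8 n9949
theorem D12771 : act 8 n9949 = n12771 := rfl
theorem F58529 : act 1 n12771 = n10687 := d15_1 D12771 (iv D10687) (iv F46283)
theorem F58530 : act 3 n12771 = n9952 := d28_1 D12771 (iv D9952) (iv F46284)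
theorem F58531 : act 5 n12771 = n9964 := d37_1 D12771 (iv D9964) (iv D7836) (iv F36979) D9949
def n12772 : Q := act 6 n9951
theorem D12772 : act 6 n9951 = n12772 := rfl
theorem F58532 : act 1 n12772 = n10688 := d13_1 D12772 (iv D10688) (iv F46291)
theorem F58533 : act 4 n12772 = n12772 := d31_1 D12772 (iv D12772) F46292
theorem F58534 : act 9 n12772 = n12772 := d41_2 F46294 D12772 (iv D12772)
def n12773 : Q := act 8 n9951
theorem D12773 : act 8 n9951 = n12773 := rfl
theorem F58535 : act 1 n12773 = n10689 := d15_1 D12773 (iv D10689) (iv F46291)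
theorem F58536 : act 4 n12773 = n12773 := d33_1 D12773 (iv D12773) F46292
theorem F58537 : act 5 n12773 = n9966 := d37_1 D12773 (iv D9966) F37018 (iv F36986) (iv F46293)
theorem F58538 : act 7 n12773 = n9952 := d42_1 D12773 (iv D9952) D9951
def n12774 : Q := act 9 n9952
theorem D12774 : act 9 n9952 = n12774 := rfl
theorem F58539 : act 1 n12774 = n10690 := d16_1 D12774 (iv D10690) (iv F46295)
theorem F58540 : act 4 n12774 = n12774 := d34_1 D12774 (iv D12774) F46296
theorem F58541 : act 5 n12774 = n9967 := d38_1 D12774 (iv D9967) (iv F46297)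
theorem F58542 : act 8 n12774 = n12774 := d44_1 D12774 (iv D12774) (iv D9952) F36983 D9952
def n12775 : Q := act 0 n9953
theorem D12775 : act 0 n9953 = n12775 := rfl
theorem F58544 : act 4 n12775 = n9987 := d3_2 (iv F46299) D12775 (iv D9987)
theorem F58545 : act 7 n12775 = n9959 := d6_2 (iv F46300) D12775 (iv D9959)
def n12776 : Q := act 6 n9953
theorem D12776 : act 6 n9953 = n12776 := rfl
theorem F58549 : act 4 n12776 = n9988 := d31_1 D12776 (iv D9988) (iv F46299)
def n12777 : Q := act 5 n9954
theorem D12777 : act 5 n9954 = n12777 := rfl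
def n12778 : Q := act 7 n9954
theorem D12778 : act 7 n9954 = n12778 := rfl
theorem F58554 : act 4 n12778 = n9990 := d32_1 D12778 (iv D9990) (iv F46303)
theorem F58555 : act 6 n12778 = n9962 := d39_1 D12778 (iv D9962) (iv D7835) (iv F36989) D9954
def n12779 : Q := act 4 n9955
theorem D12779 : act 4 n9955 = n12779 := rfl
theorem F58559 : act 5 n12779 = n9991 := d30_2 D9955 D12779 (iv D9991) (iv D7857) (iv F36993)
def n12780 : Q := act 7 n9955
theorem D12780 : act 7 n9955 = n12780 := rfl
theorem F58562 : act 3 n12780 = n9957 := d27_1 D12780 (iv D9957) (iv F46306)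
theorem F58563 : act 5 n12780 = n9956 := d36_1 D12780 (iv D9956) D9955
def n12781 : Q := act 8 n9955
theorem D12781 : act 8 n9955 = n12781 := rfl
theorem F58566 : act 3 n12781 = n9958 := d28_1 D12781 (iv D9958) (iv F46306)
def n12782 : Q := act 6 n9957
theorem D12782 : act 6 n9957 = n12782 := rfl
theorem F58567 : act 1 n12782 = n10698 := d13_1 D12782 (iv D10698) (iv F46313)
theorem F58568 : act 4 n12782 = n12782 := d31_1 D12782 (iv D12782) F46314
theorem F58569 : act 5 n12782 = n9965 := d35_1 D12782 (iv D9965) F37018 (iv F37000) (iv F46315)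
theorem F58570 : act 9 n12782 = n10065 := d41_2 (iv F46316) D12782 (iv D10065)
def n12783 : Q := act 8 n9957
theorem D12783 : act 8 n9957 = n12783 := rfl
theorem F58571 : act 1 n12783 = n10699 := d15_1 D12783 (iv D10699) (iv F46313)
theorem F58572 : act 4 n12783 = n12783 := d33_1 D12783 (iv D12783) F46314
theorem F58573 : act 7 n12783 = n9958 := d42_1 D12783 (iv D9958) D9957
def n12784 : Q := act 9 n9958
theorem D12784 : act 9 n9958 = n12784 := rfl
theorem F58575 : act 4 n12784 = n12784 := d34_1 D12784 (iv D12784) F46318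
theorem F58576 : act 8 n12784 = n10067 := d44_1 D12784 (iv D10067) (iv D7912) (iv F36997) D9958
def n12785 : Q := act 6 n9959
theorem D12785 : act 6 n9959 = n12785 := rfl
def n12786 : Q := act 5 n9960
theorem D12786 : act 5 n9960 = n12786 := rfl
theorem F58581 : act 1 n12786 = n9961 := d12_1 D12786 (iv D9961) (iv F46322)
def n12787 : Q := act 7 n9960
theorem D12787 : act 7 n9960 = n12787 := rfl
def n12788 : Q := act 7 n9961
theorem D12788 : act 7 n9961 = n12788 := rfl
theorem F58589 : act 2 n12788 = n9963 := d21_1 D12788 (iv D9963) (iv F46326)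
theorem F58591 : act 5 n12788 = n9962 := d36_1 D12788 (iv D9962) D9961
def n12789 : Q := act 8 n9961
theorem D12789 : act 8 n9961 = n12789 := rfl
theorem F58593 : act 2 n12789 = n9964 := d22_1 D12789 (iv D9964) (iv F46326)
theorem F58594 : act 4 n12789 = n12789 := d33_1 D12789 (iv D12789) F46327
def n12790 : Q := act 6 n9963
theorem D12790 : act 6 n9963 = n12790 := rfl
theorem F58595 : act 1 n12790 = n10706 := d13_1 D12790 (iv D10706) (iv F46332)
theorem F58596 : act 3 n12790 = n9965 := d26_1 D12790 (iv D9965) (iv F46333)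
theorem F58597 : act 4 n12790 = n12790 := d31_1 D12790 (iv D12790) F46334
theorem F58598 : act 9 n12790 = n10073 := d41_2 (iv F46336) D12790 (iv D10073)
def n12791 : Q := act 8 n9963
theorem D12791 : act 8 n9963 = n12791 := rfl
theorem F58599 : act 1 n12791 = n10707 := d15_1 D12791 (iv D10707) (iv F46332)
theorem F58600 : act 3 n12791 = n9966 := d28_1 D12791 (iv D9966) (iv F46333)
theorem F58601 : act 4 n12791 = n12791 := d33_1 D12791 (iv D12791) F46334
theorem F58602 : act 7 n12791 = n9964 := d42_1 D12791 (iv D9964) D9963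
def n12792 : Q := act 9 n9964
theorem D12792 : act 9 n9964 = n12792 := rfl
theorem F58603 : act 1 n12792 = n10708 := d16_1 D12792 (iv D10708) (iv F46337)
theorem F58604 : act 3 n12792 = n9967 := d29_1 D12792 (iv D9967) (iv F46338)
theorem F58605 : act 4 n12792 = n12792 := d34_1 D12792 (iv D12792) F46339
theorem F58606 : act 8 n12792 = n10075 := d44_1 D12792 (iv D10075) (iv D7918) (iv F37011) D9964
def n12793 : Q := act 8 n9965
theorem D12793 : act 8 n9965 = n12793 := rfl
theorem F58607 : act 1 n12793 = n10709 := d15_1 D12793 (iv D10709) (iv F46340)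
theorem F58608 : act 4 n12793 = n9968 := d33_1 D12793 (iv D9968) (iv F46341)
theorem F58609 : act 6 n12793 = n9966 := d40_1 D12793 (iv D9966) D9965
def n12794 : Q := act 9 n9966
theorem D12794 : act 9 n9966 = n12794 := rfl
theorem F58610 : act 1 n12794 = n10710 := d16_1 D12794 (iv D10710) (iv F46343)
theorem F58611 : act 4 n12794 = n9969 := d34_1 D12794 (iv D9969) (iv F46344)
theorem F58612 : act 7 n12794 = n9967 := d43_1 D12794 (iv D9967) (iv F46345)
theorem F58613 : act 8 n12794 = n10077 := d44_1 D12794 (iv D10077) (iv D7920) (iv F37019) D9966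
def n12795 : Q := act 5 n9968
theorem D12795 : act 5 n9968 = n12795 := rfl
theorem F58615 : act 3 n12795 = n12795 := d25_1 D12795 (iv D12795) F46350
theorem F58616 : act 6 n12795 = n12795 := d35_2 (iv F46351) D12795 (iv D12795) F46351 F37028
theorem F58617 : act 8 n12795 = n12795 := d37_2 D9968 D12795 (iv D12795) (iv D9968) F37024
def n12796 : Q := act 9 n9968
theorem D12796 : act 9 n9968 = n12796 := rfl
theorem F58619 : act 3 n12796 = n12796 := d29_1 D12796 (iv D12796) F46350
theorem F58620 : act 6 n12796 = n9969 := d41_1 D12796 (iv D9969) (iv F46351)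
theorem F58621 : act 8 n12796 = n10079 := d44_1 D12796 (iv D10079) (iv D7922) (iv F37025) D9968
def n12798 : Q := act 5 n9971
theorem D12798 : act 5 n9971 = n12798 := rfl
theorem F58628 : act 3 n12798 = n9972 := d25_1 D12798 (iv D9972) (iv F46364)
def n12801 : Q := act 8 n9972
theorem D12801 : act 8 n9972 = n12801 := rfl
theorem F58643 : act 4 n12801 = n9979 := d33_1 D12801 (iv D9979) (iv F46369)
def n12802 : Q := act 0 n9974
theorem D12802 : act 0 n9974 = n12802 := rfl
theorem F58649 : act 7 n12802 = n9980 := d6_2 (iv F46381) D12802 (iv D9980)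
theorem F58650 : act 8 n12802 = n9987 := d7_2 (iv F46382) D12802 (iv D9987)
def n12803 : Q := act 6 n9974
theorem D12803 : act 6 n9974 = n12803 := rfl
theorem F58655 : act 8 n12803 = n9988 := d40_2 (iv F46382) D12803 (iv D9988)
def n12804 : Q := act 5 n9975
theorem D12804 : act 5 n9975 = n12804 := rfl
def n12805 : Q := act 7 n9975
theorem D12805 : act 7 n9975 = n12805 := rfl
theorem F58663 : act 6 n12805 = n9983 := d39_1 D12805 (iv D9983) (iv D7851) (iv F37052) D9975
theorem F58664 : act 8 n12805 = n9990 := d42_2 (iv F46386) D12805 (iv D9990)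
def n12806 : Q := act 4 n9976
theorem D12806 : act 4 n9976 = n12806 := rfl
def n12807 : Q := act 7 n9976
theorem D12807 : act 7 n9976 = n12807 := rfl
theorem F58671 : act 5 n12807 = n9977 := d36_1 D12807 (iv D9977) D9976
def n12808 : Q := act 8 n9976
theorem D12808 : act 8 n9976 = n12808 := rfl
theorem F58675 : act 5 n12808 = n9993 := d37_1 D12808 (iv D9993) (iv D7857) (iv F37057) D9976
def n12810 : Q := act 8 n9978
theorem D12810 : act 8 n9978 = n12810 := rfl
theorem F58685 : act 7 n12810 = n9979 := d42_1 D12810 (iv D9979) D9978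
def n12811 : Q := act 9 n9979
theorem D12811 : act 9 n9979 = n12811 := rfl
theorem F58688 : act 5 n12811 = n9995 := d38_1 D12811 (iv D9995) (iv F46403)
def n12812 : Q := act 6 n9980
theorem D12812 : act 6 n9980 = n12812 := rfl
def n12813 : Q := act 5 n9981
theorem D12813 : act 5 n9981 = n12813 := rfl
theorem F58696 : act 1 n12813 = n9982 := d12_1 D12813 (iv D9982) (iv F46410)
def n12814 : Q := act 7 n9981
theorem D12814 : act 7 n9981 = n12814 := rfl
def n12815 : Q := act 4 n9982
theorem D12815 : act 4 n9982 = n12815 := rfl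
def n12816 : Q := act 7 n9982
theorem D12816 : act 7 n9982 = n12816 := rfl
theorem F58713 : act 5 n12816 = n9983 := d36_1 D12816 (iv D9983) D9982
def n12819 : Q := act 6 n9987
theorem D12819 : act 6 n9987 = n12819 := rfl
theorem F58727 : act 2 n12819 = n10734 := d20_1 D12819 (iv D10734) (iv F46440)
def n12820 : Q := act 5 n9988
theorem D12820 : act 5 n9988 = n12820 := rfl
theorem F58730 : act 1 n12820 = n9989 := d12_1 D12820 (iv D9989) (iv F46445)
theorem F58731 : act 2 n12820 = n10735 := d19_1 D12820 (iv D10735) (iv F46446)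
theorem F58733 : act 6 n12820 = n9999 := d35_2 D9988 D12820 (iv D9999) (iv D7865) (iv F37095)
def n12821 : Q := act 7 n9988
theorem D12821 : act 7 n9988 = n12821 := rfl
theorem F58738 : act 6 n12821 = n9997 := d39_1 D12821 (iv D9997) (iv D7862) (iv F37096) D9988
def n12822 : Q := act 4 n9989
theorem D12822 : act 4 n9989 = n12822 := rfl
def n12823 : Q := act 7 n9989
theorem D12823 : act 7 n9989 = n12823 := rfl
theorem F58745 : act 5 n12823 = n9990 := d36_1 D12823 (iv D9990) D9989
def n12824 : Q := act 8 n9989
theorem D12824 : act 8 n9989 = n12824 := rfl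
def n12825 : Q := act 7 n9991
theorem D12825 : act 7 n9991 = n12825 := rfl
def n12826 : Q := act 8 n9991
theorem D12826 : act 8 n9991 = n12826 := rfl
theorem F58756 : act 1 n12826 = n10741 := d15_1 D12826 (iv D10741) (iv F46457)
def n12827 : Q := act 8 n9992
theorem D12827 : act 8 n9992 = n12827 := rfl
theorem F58763 : act 7 n12827 = n9993 := d42_1 D12827 (iv D9993) D9992
def n12828 : Q := act 9 n9993
theorem D12828 : act 9 n9993 = n12828 := rfl
theorem F58766 : act 6 n12828 = n10003 := d41_1 D12828 (iv D10003) (iv F46468)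
def n12829 : Q := act 9 n9994
theorem D12829 : act 9 n9994 = n12829 := rfl
theorem F58772 : act 7 n12829 = n9995 := d43_1 D12829 (iv D9995) (iv F46473)
def n12831 : Q := act 5 n9998
theorem D12831 : act 5 n9998 = n12831 := rfl
theorem F58780 : act 2 n12831 = n10746 := d19_1 D12831 (iv D10746) (iv F46490)
def n12833 : Q := act 8 n9999
theorem D12833 : act 8 n9999 = n12833 := rfl
theorem F58788 : act 1 n12833 = n10001 := d15_1 D12833 (iv D10001) (iv F46495)
theorem F58789 : act 2 n12833 = n10748 := d22_1 D12833 (iv D10748) (iv F46496)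
def n12839 : Q := act 2 n10004
theorem D12839 : act 2 n10004 = n12839 := rfl
theorem F58814 : act 0 n12839 = n10017 := d1_1 D12839 (iv D10017) (iv F46516)
theorem F58815 : act 3 n12839 = n10754 := d17_2 D10004 D12839 (iv D10754) (iv D8421) (iv F37162)
theorem F58817 : act 7 n12839 = n10007 := d21_2 (iv F46518) D12839 (iv D10007)
def n12840 : Q := act 6 n10004
theorem D12840 : act 6 n10004 = n12840 := rfl
theorem F58819 : act 0 n12840 = n10018 := d5_1 D12840 (iv D10018) (iv F46516)
theorem F58820 : act 3 n12840 = n10005 := d26_1 D12840 (iv D10005) D10004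
def n12841 : Q := act 5 n10005
theorem D12841 : act 5 n10005 = n12841 := rfl
theorem F58823 : act 0 n12841 = n10019 := d4_1 D12841 (iv D10019) (iv F46520)
theorem F58824 : act 2 n12841 = n10756 := d19_1 D12841 (iv D10756) (iv F46521)
def n12842 : Q := act 7 n10005
theorem D12842 : act 7 n10005 = n12842 := rfl
theorem F58829 : act 6 n12842 = n10010 := d39_1 D12842 (iv D10010) (iv D7873) (iv F37163) D10005
def n12843 : Q := act 1 n10007
theorem D12843 : act 1 n10007 = n12843 := rfl
theorem F58831 : act 3 n12843 = n10758 := d10_2 (iv F46531) D12843 (iv D10758)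
def n12844 : Q := act 6 n10007
theorem D12844 : act 6 n10007 = n12844 := rfl
theorem F58835 : act 2 n12844 = n10008 := d20_1 D12844 (iv D10008) D10007
theorem F58836 : act 3 n12844 = n10759 := d26_1 D12844 (iv D10759) (iv F46531)
def n12845 : Q := act 5 n10008
theorem D12845 : act 5 n10008 = n12845 := rfl
theorem F58840 : act 3 n12845 = n10009 := d25_1 D12845 (iv D10009) (iv F46535)
def n12846 : Q := act 7 n10008
theorem D12846 : act 7 n10008 = n12846 := rfl
def n12847 : Q := act 7 n10009
theorem D12847 : act 7 n10009 = n12847 := rfl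
theorem F58846 : act 2 n12847 = n10762 := d21_1 D12847 (iv D10762) (iv F46539)
theorem F58848 : act 5 n12847 = n10010 := d36_1 D12847 (iv D10010) D10009
def n12848 : Q := act 8 n10009
theorem D12848 : act 8 n10009 = n12848 := rfl
theorem F58850 : act 2 n12848 = n10763 := d22_1 D12848 (iv D10763) (iv F46539)
def n12849 : Q := act 6 n10011
theorem D12849 : act 6 n10011 = n12849 := rfl
theorem F58854 : act 1 n12849 = n10012 := d13_1 D12849 (iv D10012) D10011
theorem F58855 : act 3 n12849 = n10764 := d26_1 D12849 (iv D10764) (iv F46546)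
theorem F58857 : act 8 n12849 = n10101 := d40_2 (iv F46549) D12849 (iv D10101)
def n12850 : Q := act 5 n10012
theorem D12850 : act 5 n10012 = n12850 := rfl
theorem F58858 : act 0 n12850 = n10027 := d4_1 D12850 (iv D10027) (iv F46550)
theorem F58859 : act 2 n12850 = n10013 := d19_1 D12850 (iv D10013) (iv F46551)
theorem F58860 : act 3 n12850 = n10765 := d25_1 D12850 (iv D10765) (iv F46552)
def n12852 : Q := act 4 n10013
theorem D12852 : act 4 n10013 = n12852 := rfl
theorem F58867 : act 0 n12852 = n10029 := d3_1 D12852 (iv D10029) (iv F46555)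
def n12853 : Q := act 7 n10013
theorem D12853 : act 7 n10013 = n12853 := rfl
theorem F58870 : act 3 n12853 = n10015 := d27_1 D12853 (iv D10015) (iv F46556)
theorem F58871 : act 5 n12853 = n10014 := d36_1 D12853 (iv D10014) D10013
def n12854 : Q := act 8 n10013
theorem D12854 : act 8 n10013 = n12854 := rfl
theorem F58874 : act 5 n12854 = n10106 := d37_1 D12854 (iv D10106) (iv D7946) (iv F37190) D10013
def n12855 : Q := act 6 n10015
theorem D12855 : act 6 n10015 = n12855 := rfl
def n12856 : Q := act 8 n10015
theorem D12856 : act 8 n10015 = n12856 := rfl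
theorem F58880 : act 5 n12856 = n10108 := d37_1 D12856 (iv D10108) F37459 (iv F37197) (iv F46564)
def n12857 : Q := act 9 n10016
theorem D12857 : act 9 n10016 = n12857 := rfl
theorem F58883 : act 2 n12857 = n10772 := d23_1 D12857 (iv D10772) (iv F46566)
def n12858 : Q := act 1 n10017
theorem D12858 : act 1 n10017 = n12858 := rfl
theorem F58885 : act 2 n12858 = n10035 := d9_2 D10017 D12858 (iv D10035) (iv D7891) (iv F37198)
theorem F58886 : act 3 n12858 = n10773 := d10_2 (iv F46568) D12858 (iv D10773)
theorem F58888 : act 7 n12858 = n10021 := d14_2 (iv F46570) D12858 (iv D10021)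
def n12859 : Q := act 6 n10017
theorem D12859 : act 6 n10017 = n12859 := rfl
theorem F58890 : act 2 n12859 = n10018 := d20_1 D12859 (iv D10018) D10017
theorem F58891 : act 3 n12859 = n10774 := d26_1 D12859 (iv D10774) (iv F46568)
def n12860 : Q := act 5 n10018
theorem D12860 : act 5 n10018 = n12860 := rfl
theorem F58894 : act 1 n12860 = n10037 := d12_1 D12860 (iv D10037) (iv F46572)
theorem F58895 : act 3 n12860 = n10019 := d25_1 D12860 (iv D10019) (iv F46573)
def n12861 : Q := act 7 n10018
theorem D12861 : act 7 n10018 = n12861 := rfl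
theorem F58897 : act 3 n12861 = n10020 := d27_1 D12861 (iv D10020) (iv F46573)
theorem F58899 : act 6 n12861 = n10024 := d39_1 D12861 (iv D10024) (iv D7883) (iv F37200) D10018
def n12862 : Q := act 7 n10019
theorem D12862 : act 7 n10019 = n12862 := rfl
theorem F58901 : act 1 n12862 = n10039 := d14_1 D12862 (iv D10039) (iv F46576)
theorem F58902 : act 2 n12862 = n10777 := d21_1 D12862 (iv D10777) (iv F46577)
theorem F58904 : act 5 n12862 = n10020 := d36_1 D12862 (iv D10020) D10019
def n12863 : Q := act 8 n10019
theorem D12863 : act 8 n10019 = n12863 := rfl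
theorem F58905 : act 1 n12863 = n10040 := d15_1 D12863 (iv D10040) (iv F46576)
theorem F58906 : act 2 n12863 = n10778 := d22_1 D12863 (iv D10778) (iv F46577)
theorem F58907 : act 4 n12863 = n12863 := d33_1 D12863 (iv D12863) F46578
theorem F58908 : act 5 n12863 = n12863 := d37_1 D12863 (iv D12863) (iv D10019) F37205 D10019
def n12864 : Q := act 0 n10021
theorem D12864 : act 0 n10021 = n12864 := rfl
theorem F58909 : act 2 n12864 = n10041 := d1_2 (iv F46584) D12864 (iv D10041)
theorem F58910 : act 3 n12864 = n10779 := d2_2 (iv F46585) D12864 (iv D10779)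
def n12865 : Q := act 6 n10021
theorem D12865 : act 6 n10021 = n12865 := rfl
theorem F58913 : act 1 n12865 = n10022 := d13_1 D12865 (iv D10022) D10021
theorem F58914 : act 2 n12865 = n10042 := d20_1 D12865 (iv D10042) (iv F46584)
theorem F58915 : act 3 n12865 = n10780 := d26_1 D12865 (iv D10780) (iv F46585)
def n12866 : Q := act 5 n10022
theorem D12866 : act 5 n10022 = n12866 := rfl
theorem F58918 : act 2 n12866 = n10023 := d19_1 D12866 (iv D10023) (iv F46588)
theorem F58919 : act 3 n12866 = n10781 := d25_1 D12866 (iv D10781) (iv F46589)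
def n12867 : Q := act 7 n10022
theorem D12867 : act 7 n10022 = n12867 := rfl
theorem F58920 : act 2 n12867 = n10024 := d21_1 D12867 (iv D10024) (iv F46588)
theorem F58921 : act 3 n12867 = n10782 := d27_1 D12867 (iv D10782) (iv F46589)
def n12868 : Q := act 4 n10023
theorem D12868 : act 4 n10023 = n12868 := rfl
theorem F58924 : act 1 n12868 = n10045 := d11_1 D12868 (iv D10045) (iv F46592)
theorem F58925 : act 3 n12868 = n10029 := d24_1 D12868 (iv D10029) F37232 (iv F37221) (iv F46593)
def n12869 : Q := act 7 n10023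
theorem D12869 : act 7 n10023 = n12869 := rfl
theorem F58927 : act 1 n12869 = n10046 := d14_1 D12869 (iv D10046) (iv F46592)
def n12870 : Q := act 8 n10023
theorem D12870 : act 8 n10023 = n12870 := rfl
theorem F58930 : act 1 n12870 = n10047 := d15_1 D12870 (iv D10047) (iv F46592)
def n12871 : Q := act 6 n10025
theorem D12871 : act 6 n10025 = n12871 := rfl
theorem F58933 : act 1 n12871 = n10048 := d13_1 D12871 (iv D10048) (iv F46598)
theorem F58934 : act 2 n12871 = n10786 := d20_1 D12871 (iv D10786) (iv F46599)
def n12872 : Q := act 8 n10025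
theorem D12872 : act 8 n10025 = n12872 := rfl
theorem F58936 : act 1 n12872 = n10049 := d15_1 D12872 (iv D10049) (iv F46598)
theorem F58937 : act 2 n12872 = n10787 := d22_1 D12872 (iv D10787) (iv F46599)
def n12873 : Q := act 9 n10026
theorem D12873 : act 9 n10026 = n12873 := rfl
theorem F58941 : act 1 n12873 = n10050 := d16_1 D12873 (iv D10050) (iv F46602)
def n12874 : Q := act 4 n10027
theorem D12874 : act 4 n10027 = n12874 := rfl
theorem F58946 : act 2 n12874 = n10029 := d18_1 D12874 (iv D10029) (iv F46607)
def n12875 : Q := act 7 n10027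
theorem D12875 : act 7 n10027 = n12875 := rfl
theorem F58949 : act 2 n12875 = n10030 := d21_1 D12875 (iv D10030) (iv F46607)
theorem F58950 : act 3 n12875 = n10790 := d27_1 D12875 (iv D10790) (iv F46608)
def n12876 : Q := act 8 n10027
theorem D12876 : act 8 n10027 = n12876 := rfl
theorem F58953 : act 2 n12876 = n10031 := d22_1 D12876 (iv D10031) (iv F46607)
theorem F58954 : act 3 n12876 = n10791 := d28_1 D12876 (iv D10791) (iv F46608)
theorem F58955 : act 5 n12876 = n10112 := d37_1 D12876 (iv D10112) (iv D7950) (iv F37230) D10027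
def n12877 : Q := act 7 n10029
theorem D12877 : act 7 n10029 = n12877 := rfl
theorem F58956 : act 1 n12877 = n10051 := d14_1 D12877 (iv D10051) (iv F46615)
def n12878 : Q := act 8 n10029
theorem D12878 : act 8 n10029 = n12878 := rfl
theorem F58959 : act 1 n12878 = n10052 := d15_1 D12878 (iv D10052) (iv F46615)
theorem F58960 : act 4 n12878 = n10031 := d33_1 D12878 (iv D10031) D10029
def n12879 : Q := act 6 n10030
theorem D12879 : act 6 n10030 = n12879 := rfl
theorem F58961 : act 1 n12879 = n10053 := d13_1 D12879 (iv D10053) (iv F46617)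
def n12880 : Q := act 8 n10030
theorem D12880 : act 8 n10030 = n12880 := rfl
theorem F58964 : act 1 n12880 = n10054 := d15_1 D12880 (iv D10054) (iv F46617)
theorem F58966 : act 5 n12880 = n10116 := d37_1 D12880 (iv D10116) F37483 (iv F37237) (iv F46619)
def n12882 : Q := act 8 n10032
theorem D12882 : act 8 n10032 = n12882 := rfl
theorem F58973 : act 6 n12882 = n10033 := d40_1 D12882 (iv D10033) D10032
def n12883 : Q := act 9 n10033
theorem D12883 : act 9 n10033 = n12883 := rfl
theorem F58974 : act 1 n12883 = n10057 := d16_1 D12883 (iv D10057) (iv F46626)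
theorem F58975 : act 2 n12883 = n10798 := d23_1 D12883 (iv D10798) (iv F46627)
def n12884 : Q := act 0 n10035
theorem D12884 : act 0 n10035 = n12884 := rfl
theorem F58978 : act 3 n12884 = n10058 := d2_2 (iv F46633) D12884 (iv D10058)
theorem F58980 : act 7 n12884 = n10041 := d6_2 (iv F46635) D12884 (iv D10041)
def n12885 : Q := act 6 n10035
theorem D12885 : act 6 n10035 = n12885 := rfl
theorem F58983 : act 3 n12885 = n10059 := d26_1 D12885 (iv D10059) (iv F46633)
def n12886 : Q := act 5 n10036
theorem D12886 : act 5 n10036 = n12886 := rfl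
theorem F58986 : act 2 n12886 = n10037 := d19_1 D12886 (iv D10037) (iv F46637)
theorem F58987 : act 3 n12886 = n10060 := d25_1 D12886 (iv D10060) (iv F46638)
def n12887 : Q := act 7 n10036
theorem D12887 : act 7 n10036 = n12887 := rfl
theorem F58988 : act 2 n12887 = n10038 := d21_1 D12887 (iv D10038) (iv F46637)
theorem F58989 : act 3 n12887 = n10061 := d27_1 D12887 (iv D10061) (iv F46638)
theorem F58991 : act 6 n12887 = n10044 := d39_1 D12887 (iv D10044) (iv D7896) (iv F37246) D10036
def n12888 : Q := act 4 n10037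
theorem D12888 : act 4 n10037 = n12888 := rfl
def n12889 : Q := act 7 n10037
theorem D12889 : act 7 n10037 = n12889 := rfl
theorem F58995 : act 3 n12889 = n10039 := d27_1 D12889 (iv D10039) (iv F46641)
def n12890 : Q := act 8 n10037
theorem D12890 : act 8 n10037 = n12890 := rfl
def n12891 : Q := act 6 n10039
theorem D12891 : act 6 n10039 = n12891 := rfl
theorem F58999 : act 2 n12891 = n10065 := d20_1 D12891 (iv D10065) (iv F46646)
theorem F59001 : act 5 n12891 = n10048 := d35_1 D12891 (iv D10048) F37270 (iv F37255) (iv F46648)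
def n12892 : Q := act 8 n10039
theorem D12892 : act 8 n10039 = n12892 := rfl
theorem F59002 : act 2 n12892 = n10066 := d22_1 D12892 (iv D10066) (iv F46646)
theorem F59003 : act 4 n12892 = n12892 := d33_1 D12892 (iv D12892) F46647
theorem F59004 : act 5 n12892 = n12892 := d37_1 D12892 (iv D12892) F46648 F37256 (iv F46648)
theorem F59005 : act 7 n12892 = n10040 := d42_1 D12892 (iv D10040) D10039
def n12893 : Q := act 9 n10040
theorem D12893 : act 9 n10040 = n12893 := rfl
theorem F59006 : act 2 n12893 = n10067 := d23_1 D12893 (iv D10067) (iv F46649)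
theorem F59007 : act 4 n12893 = n12893 := d34_1 D12893 (iv D12893) F46650
theorem F59008 : act 5 n12893 = n12893 := d38_1 D12893 (iv D12893) F46651
def n12894 : Q := act 6 n10041
theorem D12894 : act 6 n10041 = n12894 := rfl
theorem F59009 : act 0 n12894 = n10042 := d5_1 D12894 (iv D10042) D10041
theorem F59010 : act 3 n12894 = n10068 := d26_1 D12894 (iv D10068) (iv F46652)
def n12895 : Q := act 5 n10042
theorem D12895 : act 5 n10042 = n12895 := rfl
theorem F59013 : act 1 n12895 = n10043 := d12_1 D12895 (iv D10043) (iv F46655)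
def n12896 : Q := act 7 n10042
theorem D12896 : act 7 n10042 = n12896 := rfl
def n12897 : Q := act 4 n10043
theorem D12897 : act 4 n10043 = n12897 := rfl
theorem F59019 : act 2 n12897 = n10045 := d18_1 D12897 (iv D10045) (iv F46659)
theorem F59020 : act 3 n12897 = n12897 := d24_1 D12897 (iv D12897) F46660 F37317 (iv F46660)
theorem F59021 : act 5 n12897 = n12897 := d30_2 D10043 D12897 (iv D12897) (iv D10043) F37262
def n12898 : Q := act 7 n10043
theorem D12898 : act 7 n10043 = n12898 := rfl
theorem F59023 : act 3 n12898 = n10071 := d27_1 D12898 (iv D10071) (iv F46660)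
theorem F59024 : act 5 n12898 = n10044 := d36_1 D12898 (iv D10044) D10043
def n12899 : Q := act 8 n10043
theorem D12899 : act 8 n10043 = n12899 := rfl
theorem F59025 : act 2 n12899 = n10047 := d22_1 D12899 (iv D10047) (iv F46659)
theorem F59026 : act 3 n12899 = n10072 := d28_1 D12899 (iv D10072) (iv F46660)
theorem F59027 : act 5 n12899 = n12899 := d37_1 D12899 (iv D12899) (iv D10043) F37263 D10043
def n12900 : Q := act 7 n10045
theorem D12900 : act 7 n10045 = n12900 := rfl
theorem F59028 : act 3 n12900 = n10051 := d27_1 D12900 (iv D10051) (iv F46665)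
def n12901 : Q := act 8 n10045
theorem D12901 : act 8 n10045 = n12901 := rfl
theorem F59032 : act 4 n12901 = n10047 := d33_1 D12901 (iv D10047) D10045
def n12902 : Q := act 6 n10046
theorem D12902 : act 6 n10046 = n12902 := rfl
def n12903 : Q := act 8 n10046
theorem D12903 : act 8 n10046 = n12903 := rfl
theorem F59036 : act 7 n12903 = n10047 := d42_1 D12903 (iv D10047) D10046
def n12904 : Q := act 9 n10047
theorem D12904 : act 9 n10047 = n12904 := rfl
theorem F59037 : act 3 n12904 = n10050 := d29_1 D12904 (iv D10050) (iv F46669)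
theorem F59038 : act 5 n12904 = n12904 := d38_1 D12904 (iv D12904) F46670
def n12905 : Q := act 8 n10048
theorem D12905 : act 8 n10048 = n12905 := rfl
theorem F59040 : act 4 n12905 = n10056 := d33_1 D12905 (iv D10056) (iv F46672)
def n12906 : Q := act 9 n10049
theorem D12906 : act 9 n10049 = n12906 := rfl
theorem F59045 : act 7 n12906 = n10050 := d43_1 D12906 (iv D10050) (iv F46676)
def n12907 : Q := act 6 n10051
theorem D12907 : act 6 n10051 = n12907 := rfl
def n12908 : Q := act 8 n10051
theorem D12908 : act 8 n10051 = n12908 := rfl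
theorem F59049 : act 4 n12908 = n10054 := d33_1 D12908 (iv D10054) (iv F46681)
theorem F59050 : act 7 n12908 = n10052 := d42_1 D12908 (iv D10052) D10051
def n12909 : Q := act 5 n10052
theorem D12909 : act 5 n10052 = n12909 := rfl
theorem F59052 : act 4 n12909 = n10122 := d30_1 D12909 (iv D10122) F37510 (iv F37281) (iv F46684)
def n12910 : Q := act 9 n10052
theorem D12910 : act 9 n10052 = n12910 := rfl
def n12911 : Q := act 8 n10053
theorem D12911 : act 8 n10053 = n12911 := rfl
theorem F59058 : act 6 n12911 = n10054 := d40_1 D12911 (iv D10054) D10053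
def n12912 : Q := act 9 n10054
theorem D12912 : act 9 n10054 = n12912 := rfl
def n12913 : Q := act 5 n10056
theorem D12913 : act 5 n10056 = n12913 := rfl
theorem F59064 : act 6 n12913 = n10126 := d35_2 (iv F46696) D12913 (iv D10126) F37526 (iv F37285)
def n12915 : Q := act 6 n10058
theorem D12915 : act 6 n10058 = n12915 := rfl
theorem F59069 : act 2 n12915 = n10830 := d20_1 D12915 (iv D10830) (iv F46700)
theorem F59070 : act 4 n12915 = n10080 := d31_1 D12915 (iv D10080) (iv F46701)
def n12916 : Q := act 5 n10059
theorem D12916 : act 5 n10059 = n12916 := rfl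
theorem F59073 : act 2 n12916 = n10831 := d19_1 D12916 (iv D10831) (iv F46705)
def n12917 : Q := act 7 n10059
theorem D12917 : act 7 n10059 = n12917 := rfl
theorem F59076 : act 4 n12917 = n10082 := d32_1 D12917 (iv D10082) (iv F46706)
theorem F59077 : act 6 n12917 = n10070 := d39_1 D12917 (iv D10070) (iv D7914) (iv F37291) D10059
def n12918 : Q := act 4 n10060
theorem D12918 : act 4 n10060 = n12918 := rfl
theorem F59080 : act 5 n12918 = n10083 := d30_2 D10060 D12918 (iv D10083) (iv D7926) (iv F37294)
def n12919 : Q := act 7 n10060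
theorem D12919 : act 7 n10060 = n12919 := rfl
theorem F59082 : act 5 n12919 = n10061 := d36_1 D12919 (iv D10061) D10060
def n12921 : Q := act 7 n10062
theorem D12921 : act 7 n10062 = n12921 := rfl
theorem F59087 : act 4 n12921 = n10063 := d32_1 D12921 (iv D10063) D10062
theorem F59088 : act 5 n12921 = n10086 := d36_1 D12921 (iv D10086) (iv F46715)
def n12922 : Q := act 8 n10062
theorem D12922 : act 8 n10062 = n12922 := rfl
theorem F59091 : act 4 n12922 = n10064 := d33_1 D12922 (iv D10064) D10062
def n12923 : Q := act 6 n10063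
theorem D12923 : act 6 n10063 = n12923 := rfl
theorem F59092 : act 1 n12923 = n10838 := d13_1 D12923 (iv D10838) (iv F46716)
theorem F59093 : act 3 n12923 = n10065 := d26_1 D12923 (iv D10065) (iv F46717)
theorem F59094 : act 5 n12923 = n10073 := d35_1 D12923 (iv D10073) F37324 (iv F37301) (iv F46718)
def n12924 : Q := act 8 n10063
theorem D12924 : act 8 n10063 = n12924 := rfl
theorem F59096 : act 3 n12924 = n10066 := d28_1 D12924 (iv D10066) (iv F46717)
def n12925 : Q := act 9 n10064
theorem D12925 : act 9 n10064 = n12925 := rfl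
theorem F59100 : act 3 n12925 = n10067 := d29_1 D12925 (iv D10067) (iv F46720)
def n12926 : Q := act 8 n10065
theorem D12926 : act 8 n10065 = n12926 := rfl
theorem F59103 : act 4 n12926 = n12926 := d33_1 D12926 (iv D12926) F46723
theorem F59104 : act 6 n12926 = n10066 := d40_1 D12926 (iv D10066) D10065
def n12927 : Q := act 9 n10066
theorem D12927 : act 9 n10066 = n12927 := rfl
theorem F59106 : act 4 n12927 = n12927 := d34_1 D12927 (iv D12927) F46726
theorem F59107 : act 5 n12927 = n12927 := d38_1 D12927 (iv D12927) F46727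
theorem F59108 : act 7 n12927 = n10067 := d43_1 D12927 (iv D10067) (iv F46728)
def n12928 : Q := act 5 n10068
theorem D12928 : act 5 n10068 = n12928 := rfl
theorem F59110 : act 2 n12928 = n10843 := d19_1 D12928 (iv D10843) (iv F46733)
def n12929 : Q := act 7 n10068
theorem D12929 : act 7 n10068 = n12929 := rfl
def n12930 : Q := act 7 n10069
theorem D12930 : act 7 n10069 = n12930 := rfl
theorem F59116 : act 1 n12930 = n10071 := d14_1 D12930 (iv D10071) (iv F46736)
theorem F59119 : act 5 n12930 = n10070 := d36_1 D12930 (iv D10070) D10069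
def n12931 : Q := act 8 n10069
theorem D12931 : act 8 n10069 = n12931 := rfl
theorem F59120 : act 1 n12931 = n10072 := d15_1 D12931 (iv D10072) (iv F46736)
def n12932 : Q := act 6 n10071
theorem D12932 : act 6 n10071 = n12932 := rfl
theorem F59124 : act 2 n12932 = n10073 := d20_1 D12932 (iv D10073) (iv F46743)
def n12933 : Q := act 8 n10071
theorem D12933 : act 8 n10071 = n12933 := rfl
theorem F59126 : act 2 n12933 = n10074 := d22_1 D12933 (iv D10074) (iv F46743)
theorem F59129 : act 7 n12933 = n10072 := d42_1 D12933 (iv D10072) D10071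
def n12934 : Q := act 9 n10072
theorem D12934 : act 9 n10072 = n12934 := rfl
theorem F59130 : act 2 n12934 = n10075 := d23_1 D12934 (iv D10075) (iv F46746)
theorem F59131 : act 4 n12934 = n12934 := d34_1 D12934 (iv D12934) F46747
theorem F59132 : act 5 n12934 = n12934 := d38_1 D12934 (iv D12934) F46748
def n12935 : Q := act 8 n10073
theorem D12935 : act 8 n10073 = n12935 := rfl
theorem F59133 : act 1 n12935 = n10850 := d15_1 D12935 (iv D10850) (iv F46749)
theorem F59134 : act 3 n12935 = n10076 := d28_1 D12935 (iv D10076) (iv F46750)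
theorem F59135 : act 4 n12935 = n12935 := d33_1 D12935 (iv D12935) F46751
theorem F59136 : act 6 n12935 = n10074 := d40_1 D12935 (iv D10074) D10073
def n12936 : Q := act 9 n10074
theorem D12936 : act 9 n10074 = n12936 := rfl
theorem F59137 : act 1 n12936 = n10851 := d16_1 D12936 (iv D10851) (iv F46752)
theorem F59138 : act 3 n12936 = n10077 := d29_1 D12936 (iv D10077) (iv F46753)
theorem F59139 : act 4 n12936 = n12936 := d34_1 D12936 (iv D12936) F46754
theorem F59140 : act 5 n12936 = n12936 := d38_1 D12936 (iv D12936) F46755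
theorem F59141 : act 7 n12936 = n10075 := d43_1 D12936 (iv D10075) (iv F46756)
def n12937 : Q := act 5 n10076
theorem D12937 : act 5 n10076 = n12937 := rfl
theorem F59142 : act 1 n12937 = n10852 := d12_1 D12937 (iv D10852) (iv F46761)
theorem F59143 : act 6 n12937 = n12937 := d35_2 (iv F46763) D12937 (iv D12937) F46763 F37333
def n12938 : Q := act 9 n10076
theorem D12938 : act 9 n10076 = n12938 := rfl
theorem F59144 : act 1 n12938 = n10853 := d16_1 D12938 (iv D10853) (iv F46761)
theorem F59145 : act 4 n12938 = n10079 := d34_1 D12938 (iv D10079) (iv F46762)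
theorem F59146 : act 6 n12938 = n10077 := d41_1 D12938 (iv D10077) (iv F46763)
def n12939 : Q := act 4 n10078
theorem D12939 : act 4 n10078 = n12939 := rfl
theorem F59147 : act 1 n12939 = n10854 := d11_1 D12939 (iv D10854) (iv F46768)
theorem F59148 : act 6 n12939 = n10128 := d31_2 (iv F46770) D12939 (iv D10128)
theorem F59149 : act 8 n12939 = n12939 := d33_2 F46771 D12939 (iv D12939)
def n12940 : Q := act 9 n10078
theorem D12940 : act 9 n10078 = n12940 := rfl
theorem F59150 : act 1 n12940 = n10855 := d16_1 D12940 (iv D10855) (iv F46768)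
theorem F59151 : act 3 n12940 = n12940 := d29_1 D12940 (iv D12940) F46769
theorem F59152 : act 5 n12940 = n10079 := d38_1 D12940 (iv D10079) D10078
theorem F59153 : act 6 n12940 = n10129 := d41_1 D12940 (iv D10129) (iv F46770)
def n12941 : Q := act 5 n10080
theorem D12941 : act 5 n10080 = n12941 := rfl
theorem F59155 : act 2 n12941 = n10856 := d19_1 D12941 (iv D10856) (iv F46776)
theorem F59157 : act 6 n12941 = n10092 := d35_2 D10080 D12941 (iv D10092) (iv D7935) (iv F37347)
def n12942 : Q := act 7 n10080
theorem D12942 : act 7 n10080 = n12942 := rfl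
def n12943 : Q := act 4 n10081
theorem D12943 : act 4 n10081 = n12943 := rfl
theorem F59163 : act 1 n12943 = n10083 := d11_1 D12943 (iv D10083) (iv F46779)
theorem F59164 : act 2 n12943 = n10858 := d18_1 D12943 (iv D10858) (iv F46780)
theorem F59165 : act 6 n12943 = n10093 := d31_2 (iv F46782) D12943 (iv D10093)
def n12944 : Q := act 7 n10081
theorem D12944 : act 7 n10081 = n12944 := rfl
theorem F59169 : act 5 n12944 = n10082 := d36_1 D12944 (iv D10082) D10081
def n12945 : Q := act 8 n10081
theorem D12945 : act 8 n10081 = n12945 := rfl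
theorem F59175 : act 6 n12945 = n10094 := d40_1 D12945 (iv D10094) (iv F46782)
def n12946 : Q := act 3 n10083
theorem D12946 : act 3 n10083 = n12946 := rfl
def n12947 : Q := act 7 n10083
theorem D12947 : act 7 n10083 = n12947 := rfl
def n12948 : Q := act 8 n10083
theorem D12948 : act 8 n10083 = n12948 := rfl
def n12949 : Q := act 8 n10084
theorem D12949 : act 8 n10084 = n12949 := rfl
theorem F59189 : act 7 n12949 = n10085 := d42_1 D12949 (iv D10085) D10084
def n12950 : Q := act 9 n10085
theorem D12950 : act 9 n10085 = n12950 := rfl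
theorem F59193 : act 6 n12950 = n10097 := d41_1 D12950 (iv D10097) (iv F46797)
def n12951 : Q := act 8 n10086
theorem D12951 : act 8 n10086 = n12951 := rfl
theorem F59194 : act 1 n12951 = n10866 := d15_1 D12951 (iv D10866) (iv F46798)
theorem F59198 : act 7 n12951 = n10087 := d42_1 D12951 (iv D10087) D10086
def n12952 : Q := act 5 n10087
theorem D12952 : act 5 n10087 = n12952 := rfl
def n12953 : Q := act 9 n10087
theorem D12953 : act 9 n10087 = n12953 := rfl
theorem F59203 : act 1 n12953 = n10868 := d16_1 D12953 (iv D10868) (iv F46802)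
def n12954 : Q := act 9 n10088
theorem D12954 : act 9 n10088 = n12954 := rfl
theorem F59211 : act 7 n12954 = n10089 := d43_1 D12954 (iv D10089) (iv F46810)
def n12955 : Q := act 4 n10092
theorem D12955 : act 4 n10092 = n12955 := rfl
theorem F59213 : act 2 n12955 = n10870 := d18_1 D12955 (iv D10870) (iv F46827)
def n12956 : Q := act 8 n10092
theorem D12956 : act 8 n10092 = n12956 := rfl
theorem F59216 : act 2 n12956 = n10871 := d22_1 D12956 (iv D10871) (iv F46827)
def n12957 : Q := act 3 n10093
theorem D12957 : act 3 n10093 = n12957 := rfl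
def n12958 : Q := act 8 n10093
theorem D12958 : act 8 n10093 = n12958 := rfl
theorem F59223 : act 1 n12958 = n10096 := d15_1 D12958 (iv D10096) (iv F46830)
theorem F59224 : act 2 n12958 = n10873 := d22_1 D12958 (iv D10873) (iv F46831)
def n12959 : Q := act 9 n10094
theorem D12959 : act 9 n10094 = n12959 := rfl
theorem F59228 : act 1 n12959 = n10097 := d16_1 D12959 (iv D10097) (iv F46833)
theorem F59229 : act 2 n12959 = n10874 := d23_1 D12959 (iv D10874) (iv F46834)
def n12963 : Q := act 5 n10101
theorem D12963 : act 5 n10101 = n12963 := rfl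
theorem F59250 : act 1 n12963 = n10102 := d12_1 D12963 (iv D10102) (iv F46868)
theorem F59251 : act 3 n12963 = n10878 := d25_1 D12963 (iv D10878) (iv F46869)
def n12964 : Q := act 7 n10101
theorem D12964 : act 7 n10101 = n12964 := rfl
theorem F59256 : act 3 n12964 = n10879 := d27_1 D12964 (iv D10879) (iv F46869)
def n12965 : Q := act 4 n10102
theorem D12965 : act 4 n10102 = n12965 := rfl
theorem F59260 : act 0 n12965 = n10110 := d3_1 D12965 (iv D10110) (iv F46872)
theorem F59261 : act 2 n12965 = n10104 := d18_1 D12965 (iv D10104) (iv F46873)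
def n12966 : Q := act 7 n10102
theorem D12966 : act 7 n10102 = n12966 := rfl
theorem F59265 : act 0 n12966 = n10111 := d6_1 D12966 (iv D10111) (iv F46872)
theorem F59266 : act 2 n12966 = n10105 := d21_1 D12966 (iv D10105) (iv F46873)
theorem F59267 : act 3 n12966 = n10881 := d27_1 D12966 (iv D10881) (iv F46874)
def n12967 : Q := act 8 n10102
theorem D12967 : act 8 n10102 = n12967 := rfl
theorem F59271 : act 2 n12967 = n10106 := d22_1 D12967 (iv D10106) (iv F46873)
theorem F59272 : act 3 n12967 = n10882 := d28_1 D12967 (iv D10882) (iv F46874)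
def n12968 : Q := act 7 n10104
theorem D12968 : act 7 n10104 = n12968 := rfl
theorem F59274 : act 0 n12968 = n10113 := d6_1 D12968 (iv D10113) (iv F46883)
theorem F59276 : act 4 n12968 = n10105 := d32_1 D12968 (iv D10105) D10104
def n12969 : Q := act 8 n10104
theorem D12969 : act 8 n10104 = n12969 := rfl
theorem F59281 : act 4 n12969 = n10106 := d33_1 D12969 (iv D10106) D10104
def n12970 : Q := act 6 n10105
theorem D12970 : act 6 n10105 = n12970 := rfl
theorem F59283 : act 0 n12970 = n10115 := d5_1 D12970 (iv D10115) (iv F46888)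
theorem F59284 : act 3 n12970 = n10107 := d26_1 D12970 (iv D10107) (iv F46889)
def n12971 : Q := act 8 n10105
theorem D12971 : act 8 n10105 = n12971 := rfl
def n12972 : Q := act 9 n10106
theorem D12972 : act 9 n10106 = n12972 := rfl
def n12973 : Q := act 8 n10107
theorem D12973 : act 8 n10107 = n12973 := rfl
theorem F59298 : act 6 n12973 = n10108 := d40_1 D12973 (iv D10108) D10107
def n12975 : Q := act 3 n10110
theorem D12975 : act 3 n10110 = n12975 := rfl
theorem F59307 : act 4 n12975 = n10890 := d24_2 D10110 D12975 (iv D10890) (iv D8527) (iv F37467)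
def n12976 : Q := act 7 n10110
theorem D12976 : act 7 n10110 = n12976 := rfl
theorem F59312 : act 2 n12976 = n10113 := d21_1 D12976 (iv D10113) (iv F46911)
theorem F59313 : act 4 n12976 = n10111 := d32_1 D12976 (iv D10111) D10110
def n12977 : Q := act 8 n10110
theorem D12977 : act 8 n10110 = n12977 := rfl
theorem F59317 : act 2 n12977 = n10114 := d22_1 D12977 (iv D10114) (iv F46911)
theorem F59318 : act 4 n12977 = n10112 := d33_1 D12977 (iv D10112) D10110
def n12978 : Q := act 6 n10111
theorem D12978 : act 6 n10111 = n12978 := rfl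
def n12979 : Q := act 8 n10111
theorem D12979 : act 8 n10111 = n12979 := rfl
theorem F59327 : act 2 n12979 = n10116 := d22_1 D12979 (iv D10116) (iv F46916)
theorem F59328 : act 3 n12979 = n10894 := d28_1 D12979 (iv D10894) (iv F46917)
def n12980 : Q := act 9 n10112
theorem D12980 : act 9 n10112 = n12980 := rfl
theorem F59331 : act 2 n12980 = n10117 := d23_1 D12980 (iv D10117) (iv F46921)
theorem F59332 : act 3 n12980 = n10895 := d29_1 D12980 (iv D10895) (iv F46922)
def n12981 : Q := act 6 n10113
theorem D12981 : act 6 n10113 = n12981 := rfl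
theorem F59337 : act 4 n12981 = n10115 := d31_1 D12981 (iv D10115) (iv F46926)
def n12982 : Q := act 8 n10113
theorem D12982 : act 8 n10113 = n12982 := rfl
theorem F59340 : act 1 n12982 = n10121 := d15_1 D12982 (iv D10121) (iv F46924)
theorem F59343 : act 7 n12982 = n10114 := d42_1 D12982 (iv D10114) D10113
def n12983 : Q := act 5 n10114
theorem D12983 : act 5 n10114 = n12983 := rfl
theorem F59344 : act 1 n12983 = n10122 := d12_1 D12983 (iv D10122) (iv F46929)
def n12984 : Q := act 9 n10114
theorem D12984 : act 9 n10114 = n12984 := rfl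
theorem F59347 : act 1 n12984 = n10123 := d16_1 D12984 (iv D10123) (iv F46929)
def n12985 : Q := act 8 n10115
theorem D12985 : act 8 n10115 = n12985 := rfl
theorem F59353 : act 3 n12985 = n10118 := d28_1 D12985 (iv D10118) (iv F46934)
theorem F59354 : act 6 n12985 = n10116 := d40_1 D12985 (iv D10116) D10115
def n12986 : Q := act 9 n10116
theorem D12986 : act 9 n10116 = n12986 := rfl
theorem F59356 : act 1 n12986 = n10125 := d16_1 D12986 (iv D10125) (iv F46938)
def n12987 : Q := act 5 n10118
theorem D12987 : act 5 n10118 = n12987 := rfl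
def n12988 : Q := act 9 n10118
theorem D12988 : act 9 n10118 = n12988 := rfl
theorem F59367 : act 6 n12988 = n10119 := d41_1 D12988 (iv D10119) (iv F46948)
def n12989 : Q := act 5 n10120
theorem D12989 : act 5 n10120 = n12989 := rfl
def n12990 : Q := act 8 n10120
theorem D12990 : act 8 n10120 = n12990 := rfl
theorem F59378 : act 4 n12990 = n10124 := d33_1 D12990 (iv D10124) (iv F46957)
theorem F59379 : act 6 n12990 = n10121 := d40_1 D12990 (iv D10121) D10120
def n12991 : Q := act 5 n10121
theorem D12991 : act 5 n10121 = n12991 := rfl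
theorem F59383 : act 7 n12991 = n10122 := d36_2 (iv F46963) D12991 (iv D10122)
def n12992 : Q := act 9 n10121
theorem D12992 : act 9 n10121 = n12992 := rfl
def n12993 : Q := act 6 n10122
theorem D12993 : act 6 n10122 = n12993 := rfl
def n12994 : Q := act 9 n10122
theorem D12994 : act 9 n10122 = n12994 := rfl
def n12995 : Q := act 5 n10124
theorem D12995 : act 5 n10124 = n12995 := rfl
theorem F59398 : act 3 n12995 = n10126 := d25_1 D12995 (iv D10126) (iv F46973)
def n12997 : Q := act 4 n10126
theorem D12997 : act 4 n10126 = n12997 := rfl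
def n12999 : Q := act 3 n10128
theorem D12999 : act 3 n10128 = n12999 := rfl
def n13000 : Q := act 9 n10128
theorem D13000 : act 9 n10128 = n13000 := rfl
theorem F59419 : act 4 n13000 = n10129 := d34_1 D13000 (iv D10129) D10128
def n13001 : Q := act 8 n10129
theorem D13001 : act 8 n10129 = n13001 := rfl
def n13002 : Q := act 4 n10130
theorem D13002 : act 4 n10130 = n13002 := rfl
theorem F59427 : act 0 n13002 = n10137 := d3_1 D13002 (iv D10137) (iv F46996)
theorem F59428 : act 1 n13002 = n13002 := d11_1 D13002 (iv D13002) F46997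
theorem F59429 : act 8 n13002 = n10132 := d33_2 (iv F46999) D13002 (iv D10132)
def n13003 : Q := act 6 n10130
theorem D13003 : act 6 n10130 = n13003 := rfl
theorem F59430 : act 0 n13003 = n10138 := d5_1 D13003 (iv D10138) (iv F46996)
theorem F59431 : act 1 n13003 = n13003 := d13_1 D13003 (iv D13003) F46997
theorem F59432 : act 3 n13003 = n13003 := d26_1 D13003 (iv D13003) F46998
theorem F59433 : act 5 n13003 = n10234 := d35_1 D13003 (iv D10234) (iv D8039) (iv F37545) D10130
theorem F59434 : act 8 n13003 = n10133 := d40_2 (iv F46999) D13003 (iv D10133)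
def n13004 : Q := act 4 n10131
theorem D13004 : act 4 n10131 = n13004 := rfl
theorem F59435 : act 0 n13004 = n10139 := d3_1 D13004 (iv D10139) (iv F47000)
theorem F59436 : act 1 n13004 = n13004 := d11_1 D13004 (iv D13004) F47001
theorem F59437 : act 5 n13004 = n13004 := d30_2 D10131 D13004 (iv D13004) (iv D10131) F37549
theorem F59438 : act 7 n13004 = n10132 := d32_2 (iv F47003) D13004 (iv D10132)
theorem F59439 : act 9 n13004 = n13004 := d34_2 F47004 D13004 (iv D13004)
def n13005 : Q := act 6 n10131
theorem D13005 : act 6 n10131 = n13005 := rfl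
theorem F59440 : act 0 n13005 = n10140 := d5_1 D13005 (iv D10140) (iv F47000)
theorem F59441 : act 1 n13005 = n13005 := d13_1 D13005 (iv D13005) F47001
theorem F59442 : act 3 n13005 = n13005 := d26_1 D13005 (iv D13005) F47002
theorem F59443 : act 5 n13005 = n13005 := d35_1 D13005 (iv D13005) (iv D10131) F37550 D10131
theorem F59444 : act 9 n13005 = n13005 := d41_2 F47004 D13005 (iv D13005)
def n13006 : Q := act 3 n10132
theorem D13006 : act 3 n10132 = n13006 := rfl
theorem F59445 : act 0 n13006 = n10141 := d2_1 D13006 (iv D10141) (iv F47005)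
theorem F59446 : act 1 n13006 = n13006 := d10_1 D13006 (iv D13006) F47006
theorem F59447 : act 4 n13006 = n13006 := d24_2 D10132 D13006 (iv D13006) (iv D10132) F37555
theorem F59448 : act 5 n13006 = n13006 := d25_2 F47007 D13006 (iv D13006)
theorem F59449 : act 9 n13006 = n13006 := d29_2 F47008 D13006 (iv D13006)
def n13007 : Q := act 6 n10132
theorem D13007 : act 6 n10132 = n13007 := rfl
theorem F59450 : act 0 n13007 = n10142 := d5_1 D13007 (iv D10142) (iv F47005)
theorem F59451 : act 1 n13007 = n13007 := d13_1 D13007 (iv D13007) F47006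
theorem F59452 : act 4 n13007 = n10133 := d31_1 D13007 (iv D10133) D10132
theorem F59453 : act 9 n13007 = n13007 := d41_2 F47008 D13007 (iv D13007)
def n13008 : Q := act 7 n10133
theorem D13008 : act 7 n10133 = n13008 := rfl
theorem F59454 : act 0 n13008 = n10143 := d6_1 D13008 (iv D10143) (iv F47009)
theorem F59455 : act 1 n13008 = n13008 := d14_1 D13008 (iv D13008) F47010
theorem F59456 : act 3 n13008 = n13008 := d27_1 D13008 (iv D13008) F47011
theorem F59457 : act 5 n13008 = n10136 := d36_1 D13008 (iv D10136) (iv F47012)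
theorem F59458 : act 9 n13008 = n13008 := d43_2 F47013 D13008 (iv D13008)
def n13010 : Q := act 6 n10134
theorem D13010 : act 6 n10134 = n13010 := rfl
theorem F59467 : act 3 n13010 = n10135 := d26_1 D13010 (iv D10135) D10134
theorem F59469 : act 8 n13010 = n10241 := d40_2 (iv F47019) D13010 (iv D10241)
def n13011 : Q := act 5 n10135
theorem D13011 : act 5 n10135 = n13011 := rfl
theorem F59471 : act 0 n13011 = n10146 := d4_1 D13011 (iv D10146) (iv F47021)
theorem F59472 : act 1 n13011 = n13011 := d12_1 D13011 (iv D13011) F47022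
theorem F59473 : act 6 n13011 = n13011 := d35_2 D10135 D13011 (iv D13011) (iv D10135) F37559
theorem F59474 : act 9 n13011 = n13011 := d38_2 F47025 D13011 (iv D13011)
def n13012 : Q := act 7 n10135
theorem D13012 : act 7 n10135 = n13012 := rfl
theorem F59475 : act 0 n13012 = n10147 := d6_1 D13012 (iv D10147) (iv F47021)
theorem F59476 : act 1 n13012 = n13012 := d14_1 D13012 (iv D13012) F47022
theorem F59477 : act 4 n13012 = n10136 := d32_1 D13012 (iv D10136) (iv F47023)
theorem F59478 : act 6 n13012 = n13012 := d39_1 D13012 (iv D13012) (iv D10135) F37560 D10135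
theorem F59479 : act 8 n13012 = n10243 := d42_2 (iv F47024) D13012 (iv D10243)
theorem F59480 : act 9 n13012 = n13012 := d43_2 F47025 D13012 (iv D13012)
def n13013 : Q := act 3 n10137
theorem D13013 : act 3 n10137 = n13013 := rfl
theorem F59481 : act 1 n13013 = n10154 := d10_1 D13013 (iv D10154) (iv F47032)
theorem F59482 : act 4 n13013 = n13013 := d24_2 D10137 D13013 (iv D13013) (iv D10137) F37569
theorem F59483 : act 8 n13013 = n10141 := d28_2 (iv F47033) D13013 (iv D10141)
def n13014 : Q := act 6 n10137
theorem D13014 : act 6 n10137 = n13014 := rfl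
theorem F59484 : act 1 n13014 = n10155 := d13_1 D13014 (iv D10155) (iv F47032)
theorem F59485 : act 4 n13014 = n10138 := d31_1 D13014 (iv D10138) D10137
theorem F59486 : act 8 n13014 = n10142 := d40_2 (iv F47033) D13014 (iv D10142)
def n13015 : Q := act 7 n10138
theorem D13015 : act 7 n10138 = n13015 := rfl
theorem F59487 : act 1 n13015 = n10156 := d14_1 D13015 (iv D10156) (iv F47034)
theorem F59488 : act 3 n13015 = n13015 := d27_1 D13015 (iv D13015) F47035
theorem F59489 : act 5 n13015 = n10252 := d36_1 D13015 (iv D10252) (iv F47036)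
theorem F59490 : act 8 n13015 = n10143 := d42_2 (iv F47037) D13015 (iv D10143)
def n13016 : Q := act 3 n10139
theorem D13016 : act 3 n10139 = n13016 := rfl
theorem F59491 : act 1 n13016 = n10157 := d10_1 D13016 (iv D10157) (iv F47038)
theorem F59492 : act 4 n13016 = n13016 := d24_2 D10139 D13016 (iv D13016) (iv D10139) F37572
theorem F59493 : act 5 n13016 = n13016 := d25_2 F47039 D13016 (iv D13016)
theorem F59494 : act 7 n13016 = n10141 := d27_2 (iv F47040) D13016 (iv D10141)
theorem F59495 : act 9 n13016 = n13016 := d29_2 F47041 D13016 (iv D13016)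
def n13017 : Q := act 6 n10139
theorem D13017 : act 6 n10139 = n13017 := rfl
theorem F59496 : act 1 n13017 = n10158 := d13_1 D13017 (iv D10158) (iv F47038)
theorem F59497 : act 4 n13017 = n10140 := d31_1 D13017 (iv D10140) D10139
theorem F59498 : act 9 n13017 = n13017 := d41_2 F47041 D13017 (iv D13017)
def n13018 : Q := act 7 n10140
theorem D13018 : act 7 n10140 = n13018 := rfl
theorem F59499 : act 1 n13018 = n10159 := d14_1 D13018 (iv D10159) (iv F47042)
theorem F59500 : act 3 n13018 = n13018 := d27_1 D13018 (iv D13018) F47043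
theorem F59501 : act 5 n13018 = n13018 := d36_1 D13018 (iv D13018) F47044
theorem F59502 : act 6 n13018 = n10143 := d39_1 D13018 (iv D10143) (iv D7975) (iv F37573) D10140
theorem F59503 : act 9 n13018 = n13018 := d43_2 F47045 D13018 (iv D13018)
def n13019 : Q := act 2 n10141
theorem D13019 : act 2 n10141 = n13019 := rfl
theorem F59504 : act 4 n13019 = n13019 := d18_2 F47047 D13019 (iv D13019)
theorem F59505 : act 5 n13019 = n13019 := d19_2 F47048 D13019 (iv D13019)
theorem F59506 : act 9 n13019 = n13019 := d23_2 F47049 D13019 (iv D13019)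
def n13020 : Q := act 6 n10141
theorem D13020 : act 6 n10141 = n13020 := rfl
theorem F59507 : act 1 n13020 = n10161 := d13_1 D13020 (iv D10161) (iv F47046)
theorem F59508 : act 3 n13020 = n10142 := d26_1 D13020 (iv D10142) D10141
theorem F59509 : act 4 n13020 = n13020 := d31_1 D13020 (iv D13020) F47047
theorem F59510 : act 9 n13020 = n13020 := d41_2 F47049 D13020 (iv D13020)
def n13021 : Q := act 5 n10142
theorem D13021 : act 5 n10142 = n13021 := rfl
theorem F59511 : act 1 n13021 = n10162 := d12_1 D13021 (iv D10162) (iv F47050)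
theorem F59512 : act 4 n13021 = n10146 := d30_1 D13021 (iv D10146) F37589 (iv F37580) (iv F47051)
theorem F59513 : act 6 n13021 = n13021 := d35_2 D10142 D13021 (iv D13021) (iv D10142) F37576
theorem F59514 : act 9 n13021 = n13021 := d38_2 F47052 D13021 (iv D13021)
def n13022 : Q := act 7 n10142
theorem D13022 : act 7 n10142 = n13022 := rfl
theorem F59515 : act 1 n13022 = n10163 := d14_1 D13022 (iv D10163) (iv F47050)
theorem F59516 : act 4 n13022 = n10143 := d32_1 D13022 (iv D10143) (iv F47051)
theorem F59517 : act 9 n13022 = n13022 := d43_2 F47052 D13022 (iv D13022)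
def n13024 : Q := act 5 n10145
theorem D13024 : act 5 n10145 = n13024 := rfl
theorem F59523 : act 1 n13024 = n10164 := d12_1 D13024 (iv D10164) (iv F47063)
theorem F59524 : act 3 n13024 = n10146 := d25_1 D13024 (iv D10146) (iv F47064)
def n13025 : Q := act 7 n10145
theorem D13025 : act 7 n10145 = n13025 := rfl
theorem F59527 : act 1 n13025 = n10165 := d14_1 D13025 (iv D10165) (iv F47063)
theorem F59528 : act 3 n13025 = n10147 := d27_1 D13025 (iv D10147) (iv F47064)
theorem F59531 : act 8 n13025 = n10262 := d42_2 (iv F47066) D13025 (iv D10262)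
def n13026 : Q := act 7 n10146
theorem D13026 : act 7 n10146 = n13026 := rfl
theorem F59533 : act 1 n13026 = n10166 := d14_1 D13026 (iv D10166) (iv F47068)
theorem F59534 : act 5 n13026 = n10147 := d36_1 D13026 (iv D10147) D10146
theorem F59535 : act 9 n13026 = n13026 := d43_2 F47070 D13026 (iv D13026)
def n13027 : Q := act 8 n10146
theorem D13027 : act 8 n10146 = n13027 := rfl
theorem F59536 : act 1 n13027 = n10167 := d15_1 D13027 (iv D10167) (iv F47068)
theorem F59537 : act 5 n13027 = n10264 := d37_1 D13027 (iv D10264) (iv D8058) (iv F37590) D10146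
def n13028 : Q := act 3 n10148
theorem D13028 : act 3 n10148 = n13028 := rfl
theorem F59539 : act 0 n13028 = n13028 := d2_1 D13028 (iv D13028) F47076
theorem F59540 : act 4 n13028 = n10201 := d24_2 D10148 D13028 (iv D10201) (iv D8014) (iv F37599)
theorem F59541 : act 5 n13028 = n10154 := d25_2 (iv F47078) D13028 (iv D10154)
theorem F59542 : act 7 n13028 = n10176 := d27_2 (iv F47079) D13028 (iv D10176)
theorem F59543 : act 8 n13028 = n13028 := d28_2 F47080 D13028 (iv D13028)
theorem F59544 : act 9 n13028 = n10173 := d29_2 (iv F47081) D13028 (iv D10173)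
def n13029 : Q := act 6 n10148
theorem D13029 : act 6 n10148 = n13029 := rfl
theorem F59545 : act 0 n13029 = n13029 := d5_1 D13029 (iv D13029) F47076
theorem F59546 : act 2 n13029 = n10169 := d20_1 D13029 (iv D10169) (iv F47077)
theorem F59547 : act 4 n13029 = n10149 := d31_1 D13029 (iv D10149) D10148
theorem F59548 : act 8 n13029 = n13029 := d40_2 F47080 D13029 (iv D13029)
theorem F59549 : act 9 n13029 = n10174 := d41_2 (iv F47081) D13029 (iv D10174)
def n13030 : Q := act 7 n10149
theorem D13030 : act 7 n10149 = n13030 := rfl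
theorem F59550 : act 0 n13030 = n13030 := d6_1 D13030 (iv D13030) F47082
theorem F59551 : act 2 n13030 = n10170 := d21_1 D13030 (iv D10170) (iv F47083)
theorem F59552 : act 3 n13030 = n10203 := d27_1 D13030 (iv D10203) (iv F47084)
theorem F59553 : act 5 n13030 = n10269 := d36_1 D13030 (iv D10269) (iv F47085)
theorem F59554 : act 6 n13030 = n10178 := d39_1 D13030 (iv D10178) (iv D7998) (iv F37600) D10149
theorem F59555 : act 8 n13030 = n13030 := d42_2 F47086 D13030 (iv D13030)
theorem F59556 : act 9 n13030 = n10175 := d43_2 (iv F47087) D13030 (iv D10175)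
def n13031 : Q := act 3 n10150
theorem D13031 : act 3 n10150 = n13031 := rfl
theorem F59557 : act 0 n13031 = n13031 := d2_1 D13031 (iv D13031) F47088
theorem F59558 : act 4 n13031 = n13031 := d24_2 D10150 D13031 (iv D13031) (iv D10150) F37605
theorem F59559 : act 5 n13031 = n10176 := d25_2 (iv F47090) D13031 (iv D10176)
theorem F59560 : act 7 n13031 = n10154 := d27_2 (iv F47091) D13031 (iv D10154)
theorem F59561 : act 8 n13031 = n10157 := d28_2 (iv F47092) D13031 (iv D10157)
theorem F59562 : act 9 n13031 = n10168 := d29_2 (iv F47093) D13031 (iv D10168)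
def n13032 : Q := act 6 n10150
theorem D13032 : act 6 n10150 = n13032 := rfl
theorem F59563 : act 0 n13032 = n13032 := d5_1 D13032 (iv D13032) F47088
theorem F59564 : act 2 n13032 = n10174 := d20_1 D13032 (iv D10174) (iv F47089)
theorem F59565 : act 4 n13032 = n10151 := d31_1 D13032 (iv D10151) D10150
theorem F59566 : act 8 n13032 = n10158 := d40_2 (iv F47092) D13032 (iv D10158)
theorem F59567 : act 9 n13032 = n10169 := d41_2 (iv F47093) D13032 (iv D10169)
def n13033 : Q := act 7 n10151
theorem D13033 : act 7 n10151 = n13033 := rfl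
theorem F59568 : act 0 n13033 = n13033 := d6_1 D13033 (iv D13033) F47094
theorem F59569 : act 2 n13033 = n10175 := d21_1 D13033 (iv D10175) (iv F47095)
theorem F59570 : act 3 n13033 = n13033 := d27_1 D13033 (iv D13033) F47096
theorem F59571 : act 5 n13033 = n10305 := d36_1 D13033 (iv D10305) (iv F47097)
theorem F59572 : act 6 n13033 = n10156 := d39_1 D13033 (iv D10156) (iv D7983) (iv F37606) D10151
theorem F59573 : act 8 n13033 = n10159 := d42_2 (iv F47098) D13033 (iv D10159)
theorem F59574 : act 9 n13033 = n10170 := d43_2 (iv F47099) D13033 (iv D10170)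
def n13034 : Q := act 3 n10152
theorem D13034 : act 3 n10152 = n13034 := rfl
theorem F59575 : act 0 n13034 = n13034 := d2_1 D13034 (iv D13034) F47100
theorem F59576 : act 4 n13034 = n13034 := d24_2 D10152 D13034 (iv D13034) (iv D10152) F37611
theorem F59577 : act 5 n13034 = n10173 := d25_2 (iv F47102) D13034 (iv D10173)
theorem F59578 : act 7 n13034 = n10168 := d27_2 (iv F47103) D13034 (iv D10168)
theorem F59579 : act 8 n13034 = n13034 := d28_2 F47104 D13034 (iv D13034)
theorem F59580 : act 9 n13034 = n10154 := d29_2 (iv F47105) D13034 (iv D10154)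
def n13035 : Q := act 6 n10152
theorem D13035 : act 6 n10152 = n13035 := rfl
theorem F59581 : act 0 n13035 = n13035 := d5_1 D13035 (iv D13035) F47100
theorem F59582 : act 2 n13035 = n10177 := d20_1 D13035 (iv D10177) (iv F47101)
theorem F59583 : act 4 n13035 = n10153 := d31_1 D13035 (iv D10153) D10152
theorem F59584 : act 8 n13035 = n13035 := d40_2 F47104 D13035 (iv D13035)
theorem F59585 : act 9 n13035 = n10155 := d41_2 (iv F47105) D13035 (iv D10155)
def n13036 : Q := act 7 n10153
theorem D13036 : act 7 n10153 = n13036 := rfl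
theorem F59586 : act 0 n13036 = n13036 := d6_1 D13036 (iv D13036) F47106
theorem F59587 : act 2 n13036 = n10178 := d21_1 D13036 (iv D10178) (iv F47107)
theorem F59588 : act 3 n13036 = n13036 := d27_1 D13036 (iv D13036) F47108
theorem F59589 : act 5 n13036 = n10279 := d36_1 D13036 (iv D10279) (iv F47109)
theorem F59590 : act 6 n13036 = n10170 := d39_1 D13036 (iv D10170) (iv D7993) (iv F37612) D10153
theorem F59591 : act 8 n13036 = n13036 := d42_2 F47110 D13036 (iv D13036)
theorem F59592 : act 9 n13036 = n10156 := d43_2 (iv F47111) D13036 (iv D10156)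
def n13037 : Q := act 2 n10154
theorem D13037 : act 2 n10154 = n13037 := rfl
theorem F59593 : act 0 n13037 = n13037 := d1_1 D13037 (iv D13037) F47112
theorem F59594 : act 3 n13037 = n10179 := d17_2 D10154 D13037 (iv D10179) (iv D7999) (iv F37616)
theorem F59595 : act 4 n13037 = n13037 := d18_2 F47113 D13037 (iv D13037)
theorem F59596 : act 8 n13037 = n10160 := d22_2 (iv F47114) D13037 (iv D10160)
def n13038 : Q := act 6 n10154
theorem D13038 : act 6 n10154 = n13038 := rfl
theorem F59597 : act 0 n13038 = n13038 := d5_1 D13038 (iv D13038) F47112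
theorem F59598 : act 3 n13038 = n10155 := d26_1 D13038 (iv D10155) D10154
theorem F59599 : act 4 n13038 = n13038 := d31_1 D13038 (iv D13038) F47113
theorem F59600 : act 8 n13038 = n10161 := d40_2 (iv F47114) D13038 (iv D10161)
def n13039 : Q := act 5 n10155
theorem D13039 : act 5 n10155 = n13039 := rfl
theorem F59601 : act 0 n13039 = n13039 := d4_1 D13039 (iv D13039) F47115
theorem F59602 : act 2 n13039 = n10181 := d19_1 D13039 (iv D10181) (iv F47116)
theorem F59603 : act 4 n13039 = n10282 := d30_1 D13039 (iv D10282) F37993 (iv F37621) (iv F47117)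
def n13040 : Q := act 7 n10155
theorem D13040 : act 7 n10155 = n13040 := rfl
theorem F59604 : act 0 n13040 = n13040 := d6_1 D13040 (iv D13040) F47115
theorem F59605 : act 2 n13040 = n10182 := d21_1 D13040 (iv D10182) (iv F47116)
theorem F59606 : act 4 n13040 = n10156 := d32_1 D13040 (iv D10156) (iv F47117)
theorem F59607 : act 8 n13040 = n10163 := d42_2 (iv F47118) D13040 (iv D10163)
def n13041 : Q := act 2 n10157
theorem D13041 : act 2 n10157 = n13041 := rfl
theorem F59608 : act 0 n13041 = n13041 := d1_1 D13041 (iv D13041) F47124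
theorem F59609 : act 3 n13041 = n10183 := d17_2 D10157 D13041 (iv D10183) (iv D8002) (iv F37624)
theorem F59610 : act 4 n13041 = n13041 := d18_2 F47125 D13041 (iv D13041)
theorem F59611 : act 5 n13041 = n13041 := d19_2 F47126 D13041 (iv D13041)
theorem F59612 : act 7 n13041 = n10160 := d21_2 (iv F47127) D13041 (iv D10160)
theorem F59613 : act 9 n13041 = n13041 := d23_2 F47128 D13041 (iv D13041)
def n13042 : Q := act 6 n10157
theorem D13042 : act 6 n10157 = n13042 := rfl
theorem F59614 : act 0 n13042 = n13042 := d5_1 D13042 (iv D13042) F47124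
theorem F59615 : act 3 n13042 = n10158 := d26_1 D13042 (iv D10158) D10157
theorem F59616 : act 4 n13042 = n13042 := d31_1 D13042 (iv D13042) F47125
theorem F59617 : act 9 n13042 = n13042 := d41_2 F47128 D13042 (iv D13042)
def n13043 : Q := act 5 n10158
theorem D13043 : act 5 n10158 = n13043 := rfl
theorem F59618 : act 0 n13043 = n13043 := d4_1 D13043 (iv D13043) F47129
theorem F59619 : act 2 n13043 = n10185 := d19_1 D13043 (iv D10185) (iv F47130)
theorem F59620 : act 4 n13043 = n13043 := d30_1 D13043 (iv D13043) F47131 F37631 (iv F47131)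
theorem F59621 : act 6 n13043 = n13043 := d35_2 D10158 D13043 (iv D13043) (iv D10158) F37625
theorem F59622 : act 9 n13043 = n13043 := d38_2 F47132 D13043 (iv D13043)
def n13044 : Q := act 7 n10158
theorem D13044 : act 7 n10158 = n13044 := rfl
theorem F59623 : act 0 n13044 = n13044 := d6_1 D13044 (iv D13044) F47129
theorem F59624 : act 2 n13044 = n10186 := d21_1 D13044 (iv D10186) (iv F47130)
theorem F59625 : act 4 n13044 = n10159 := d32_1 D13044 (iv D10159) (iv F47131)
theorem F59626 : act 6 n13044 = n10163 := d39_1 D13044 (iv D10163) (iv D7987) (iv F37626) D10158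
theorem F59627 : act 9 n13044 = n13044 := d43_2 F47132 D13044 (iv D13044)
def n13045 : Q := act 1 n10160
theorem D13045 : act 1 n10160 = n13045 := rfl
theorem F59628 : act 3 n13045 = n10187 := d10_2 (iv F47140) D13045 (iv D10187)
theorem F59629 : act 4 n13045 = n13045 := d11_2 F47141 D13045 (iv D13045)
theorem F59630 : act 5 n13045 = n13045 := d12_2 F47142 D13045 (iv D13045)
theorem F59631 : act 9 n13045 = n13045 := d16_2 F47143 D13045 (iv D13045)
def n13046 : Q := act 6 n10160
theorem D13046 : act 6 n10160 = n13046 := rfl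
theorem F59632 : act 0 n13046 = n13046 := d5_1 D13046 (iv D13046) F47139
theorem F59633 : act 2 n13046 = n10161 := d20_1 D13046 (iv D10161) D10160
theorem F59634 : act 3 n13046 = n10188 := d26_1 D13046 (iv D10188) (iv F47140)
theorem F59635 : act 4 n13046 = n13046 := d31_1 D13046 (iv D13046) F47141
theorem F59636 : act 9 n13046 = n13046 := d41_2 F47143 D13046 (iv D13046)
def n13047 : Q := act 5 n10161
theorem D13047 : act 5 n10161 = n13047 := rfl
theorem F59637 : act 0 n13047 = n13047 := d4_1 D13047 (iv D13047) F47144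
theorem F59638 : act 3 n13047 = n10162 := d25_1 D13047 (iv D10162) (iv F47145)
theorem F59639 : act 6 n13047 = n13047 := d35_2 D10161 D13047 (iv D13047) (iv D10161) F37635
theorem F59640 : act 9 n13047 = n13047 := d38_2 F47147 D13047 (iv D13047)
def n13048 : Q := act 7 n10161
theorem D13048 : act 7 n10161 = n13048 := rfl
theorem F59641 : act 0 n13048 = n13048 := d6_1 D13048 (iv D13048) F47144
theorem F59642 : act 3 n13048 = n10163 := d27_1 D13048 (iv D10163) (iv F47145)
theorem F59643 : act 4 n13048 = n13048 := d32_1 D13048 (iv D13048) F47146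
theorem F59644 : act 9 n13048 = n13048 := d43_2 F47147 D13048 (iv D13048)
def n13049 : Q := act 7 n10162
theorem D13049 : act 7 n10162 = n13049 := rfl
theorem F59645 : act 0 n13049 = n13049 := d6_1 D13049 (iv D13049) F47148
theorem F59646 : act 2 n13049 = n10191 := d21_1 D13049 (iv D10191) (iv F47149)
theorem F59647 : act 4 n13049 = n10166 := d32_1 D13049 (iv D10166) (iv F47150)
theorem F59648 : act 5 n13049 = n10163 := d36_1 D13049 (iv D10163) D10162
theorem F59649 : act 9 n13049 = n13049 := d43_2 F47152 D13049 (iv D13049)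
def n13050 : Q := act 8 n10162
theorem D13050 : act 8 n10162 = n13050 := rfl
theorem F59650 : act 0 n13050 = n13050 := d7_1 D13050 (iv D13050) F47148
theorem F59651 : act 2 n13050 = n10192 := d22_1 D13050 (iv D10192) (iv F47149)
theorem F59652 : act 4 n13050 = n10167 := d33_1 D13050 (iv D10167) (iv F47150)
theorem F59653 : act 6 n13050 = n13050 := d40_1 D13050 (iv D13050) F47151
def n13051 : Q := act 4 n10164
theorem D13051 : act 4 n10164 = n13051 := rfl
theorem F59654 : act 0 n13051 = n13051 := d3_1 D13051 (iv D13051) F47157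
theorem F59655 : act 2 n13051 = n13051 := d18_1 D13051 (iv D13051) F47158
theorem F59656 : act 5 n13051 = n13051 := d30_2 D10164 D13051 (iv D13051) (iv D10164) F37649
theorem F59657 : act 6 n13051 = n13051 := d31_2 F47160 D13051 (iv D13051)
theorem F59658 : act 9 n13051 = n13051 := d34_2 F47161 D13051 (iv D13051)
def n13052 : Q := act 7 n10164
theorem D13052 : act 7 n10164 = n13052 := rfl
theorem F59659 : act 0 n13052 = n13052 := d6_1 D13052 (iv D13052) F47157
theorem F59660 : act 2 n13052 = n13052 := d21_1 D13052 (iv D13052) F47158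
theorem F59661 : act 3 n13052 = n10166 := d27_1 D13052 (iv D10166) (iv F47159)
theorem F59662 : act 5 n13052 = n10165 := d36_1 D13052 (iv D10165) D10164
theorem F59663 : act 9 n13052 = n13052 := d43_2 F47161 D13052 (iv D13052)
def n13053 : Q := act 8 n10164
theorem D13053 : act 8 n10164 = n13053 := rfl
theorem F59666 : act 3 n13053 = n10167 := d28_1 D13053 (iv D10167) (iv F47159)
theorem F59667 : act 5 n13053 = n10296 := d37_1 D13053 (iv D10296) (iv D8079) (iv F37650) D10164
def n13054 : Q := act 6 n10166
theorem D13054 : act 6 n10166 = n13054 := rfl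
theorem F59669 : act 0 n13054 = n13054 := d5_1 D13054 (iv D13054) F47169
theorem F59670 : act 2 n13054 = n10193 := d20_1 D13054 (iv D10193) (iv F47170)
theorem F59671 : act 5 n13054 = n13054 := d35_1 D13054 (iv D13054) F47171 F37659 (iv F47171)
theorem F59672 : act 7 n13054 = n13054 := d39_2 D10166 D13054 (iv D13054) (iv D10166) F37654
theorem F59673 : act 9 n13054 = n13054 := d41_2 F47172 D13054 (iv D13054)
def n13055 : Q := act 8 n10166
theorem D13055 : act 8 n10166 = n13055 := rfl
theorem F59674 : act 0 n13055 = n13055 := d7_1 D13055 (iv D13055) F47169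
theorem F59675 : act 2 n13055 = n10194 := d22_1 D13055 (iv D10194) (iv F47170)
theorem F59676 : act 5 n13055 = n10298 := d37_1 D13055 (iv D10298) F38045 (iv F37660) (iv F47171)
theorem F59677 : act 7 n13055 = n10167 := d42_1 D13055 (iv D10167) D10166
def n13056 : Q := act 9 n10167
theorem D13056 : act 9 n10167 = n13056 := rfl
theorem F59678 : act 0 n13056 = n13056 := d8_1 D13056 (iv D13056) F47173
theorem F59679 : act 2 n13056 = n10195 := d23_1 D13056 (iv D10195) (iv F47174)
theorem F59680 : act 5 n13056 = n10299 := d38_1 D13056 (iv D10299) (iv F47175)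
theorem F59681 : act 6 n13056 = n13056 := d41_1 D13056 (iv D13056) F47176
theorem F59682 : act 8 n13056 = n13056 := d44_1 D13056 (iv D13056) (iv D10167) F37655 D10167
def n13057 : Q := act 2 n10168
theorem D13057 : act 2 n10168 = n13057 := rfl
theorem F59683 : act 0 n13057 = n13057 := d1_1 D13057 (iv D13057) F47177
theorem F59684 : act 4 n13057 = n13057 := d18_2 F47178 D13057 (iv D13057)
theorem F59685 : act 5 n13057 = n10179 := d19_2 (iv F47179) D13057 (iv D10179)
theorem F59686 : act 8 n13057 = n13057 := d22_2 F47180 D13057 (iv D13057)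
def n13058 : Q := act 6 n10168
theorem D13058 : act 6 n10168 = n13058 := rfl
theorem F59687 : act 0 n13058 = n13058 := d5_1 D13058 (iv D13058) F47177
theorem F59688 : act 3 n13058 = n10169 := d26_1 D13058 (iv D10169) D10168
theorem F59689 : act 4 n13058 = n13058 := d31_1 D13058 (iv D13058) F47178
theorem F59690 : act 8 n13058 = n13058 := d40_2 F47180 D13058 (iv D13058)
def n13059 : Q := act 5 n10169
theorem D13059 : act 5 n10169 = n13059 := rfl
theorem F59691 : act 0 n13059 = n13059 := d4_1 D13059 (iv D13059) F47181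
theorem F59692 : act 4 n13059 = n10308 := d30_1 D13059 (iv D10308) F38070 (iv F37667) (iv F47182)
theorem F59693 : act 6 n13059 = n10181 := d35_2 D10169 D13059 (iv D10181) (iv D8000) (iv F37663)
def n13060 : Q := act 7 n10169
theorem D13060 : act 7 n10169 = n13060 := rfl
theorem F59694 : act 0 n13060 = n13060 := d6_1 D13060 (iv D13060) F47181
theorem F59695 : act 4 n13060 = n10170 := d32_1 D13060 (iv D10170) (iv F47182)
theorem F59696 : act 8 n13060 = n13060 := d42_2 F47183 D13060 (iv D13060)
def n13061 : Q := act 3 n10171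
theorem D13061 : act 3 n10171 = n13061 := rfl
theorem F59697 : act 0 n13061 = n13061 := d2_1 D13061 (iv D13061) F47188
theorem F59698 : act 4 n13061 = n10198 := d24_2 D10171 D13061 (iv D10198) (iv D8012) (iv F37671)
theorem F59699 : act 5 n13061 = n10277 := d25_2 (iv F47190) D13061 (iv D10277)
theorem F59700 : act 7 n13061 = n10310 := d27_2 (iv F47191) D13061 (iv D10310)
theorem F59701 : act 8 n13061 = n13061 := d28_2 F47192 D13061 (iv D13061)
theorem F59702 : act 9 n13061 = n10267 := d29_2 (iv F47193) D13061 (iv D10267)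
def n13062 : Q := act 6 n10171
theorem D13062 : act 6 n10171 = n13062 := rfl
theorem F59703 : act 0 n13062 = n13062 := d5_1 D13062 (iv D13062) F47188
theorem F59704 : act 2 n13062 = n10304 := d20_1 D13062 (iv D10304) (iv F47189)
theorem F59705 : act 4 n13062 = n10172 := d31_1 D13062 (iv D10172) D10171
theorem F59706 : act 8 n13062 = n13062 := d40_2 F47192 D13062 (iv D13062)
theorem F59707 : act 9 n13062 = n10268 := d41_2 (iv F47193) D13062 (iv D10268)
def n13063 : Q := act 7 n10172
theorem D13063 : act 7 n10172 = n13063 := rfl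
theorem F59708 : act 0 n13063 = n13063 := d6_1 D13063 (iv D13063) F47194
theorem F59709 : act 2 n13063 = n10305 := d21_1 D13063 (iv D10305) (iv F47195)
theorem F59710 : act 3 n13063 = n10200 := d27_1 D13063 (iv D10200) (iv F47196)
theorem F59711 : act 5 n13063 = n10175 := d36_1 D13063 (iv D10175) (iv F47197)
theorem F59712 : act 6 n13063 = n10312 := d39_1 D13063 (iv D10312) (iv D8091) (iv F37672) D10172
theorem F59713 : act 8 n13063 = n13063 := d42_2 F47198 D13063 (iv D13063)
theorem F59714 : act 9 n13063 = n10269 := d43_2 (iv F47199) D13063 (iv D10269)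
def n13064 : Q := act 2 n10173
theorem D13064 : act 2 n10173 = n13064 := rfl
theorem F59715 : act 0 n13064 = n13064 := d1_1 D13064 (iv D13064) F47200
theorem F59716 : act 4 n13064 = n10204 := d18_2 (iv F47201) D13064 (iv D10204)
theorem F59717 : act 7 n13064 = n10179 := d21_2 (iv F47202) D13064 (iv D10179)
theorem F59718 : act 8 n13064 = n10183 := d22_2 (iv F47203) D13064 (iv D10183)
def n13065 : Q := act 6 n10173
theorem D13065 : act 6 n10173 = n13065 := rfl
theorem F59719 : act 0 n13065 = n13065 := d5_1 D13065 (iv D13065) F47200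
theorem F59720 : act 3 n13065 = n10174 := d26_1 D13065 (iv D10174) D10173
theorem F59721 : act 4 n13065 = n10205 := d31_1 D13065 (iv D10205) (iv F47201)
theorem F59722 : act 8 n13065 = n10184 := d40_2 (iv F47203) D13065 (iv D10184)
def n13066 : Q := act 5 n10174
theorem D13066 : act 5 n10174 = n13066 := rfl
theorem F59723 : act 0 n13066 = n13066 := d4_1 D13066 (iv D13066) F47204
def n13067 : Q := act 7 n10174
theorem D13067 : act 7 n10174 = n13067 := rfl
theorem F59724 : act 0 n13067 = n13067 := d6_1 D13067 (iv D13067) F47204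
theorem F59725 : act 4 n13067 = n10175 := d32_1 D13067 (iv D10175) (iv F47205)
theorem F59726 : act 6 n13067 = n10182 := d39_1 D13067 (iv D10182) (iv D8000) (iv F37676) D10174
theorem F59727 : act 8 n13067 = n10186 := d42_2 (iv F47206) D13067 (iv D10186)
def n13068 : Q := act 2 n10176
theorem D13068 : act 2 n10176 = n13068 := rfl
theorem F59728 : act 0 n13068 = n13068 := d1_1 D13068 (iv D13068) F47211
theorem F59729 : act 4 n13068 = n10208 := d18_2 (iv F47212) D13068 (iv D10208)
theorem F59730 : act 8 n13068 = n13068 := d22_2 F47213 D13068 (iv D13068)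
theorem F59731 : act 9 n13068 = n10179 := d23_2 (iv F47214) D13068 (iv D10179)
def n13069 : Q := act 6 n10176
theorem D13069 : act 6 n10176 = n13069 := rfl
theorem F59732 : act 0 n13069 = n13069 := d5_1 D13069 (iv D13069) F47211
theorem F59733 : act 3 n13069 = n10177 := d26_1 D13069 (iv D10177) D10176
theorem F59734 : act 4 n13069 = n10209 := d31_1 D13069 (iv D10209) (iv F47212)
theorem F59735 : act 8 n13069 = n13069 := d40_2 F47213 D13069 (iv D13069)
theorem F59736 : act 9 n13069 = n10180 := d41_2 (iv F47214) D13069 (iv D10180)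
def n13070 : Q := act 5 n10177
theorem D13070 : act 5 n10177 = n13070 := rfl
theorem F59737 : act 0 n13070 = n13070 := d4_1 D13070 (iv D13070) F47215
theorem F59738 : act 4 n13070 = n10322 := d30_1 D13070 (iv D10322) F38105 (iv F37686) (iv F47216)
theorem F59739 : act 9 n13070 = n10181 := d38_2 (iv F47218) D13070 (iv D10181)
def n13071 : Q := act 7 n10177
theorem D13071 : act 7 n10177 = n13071 := rfl
theorem F59740 : act 0 n13071 = n13071 := d6_1 D13071 (iv D13071) F47215
theorem F59741 : act 4 n13071 = n10178 := d32_1 D13071 (iv D10178) (iv F47216)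
theorem F59742 : act 8 n13071 = n13071 := d42_2 F47217 D13071 (iv D13071)
theorem F59743 : act 9 n13071 = n10182 := d43_2 (iv F47218) D13071 (iv D10182)
def n13072 : Q := act 1 n10179
theorem D13072 : act 1 n10179 = n13072 := rfl
theorem F59744 : act 4 n13072 = n10212 := d11_2 (iv F47225) D13072 (iv D10212)
theorem F59745 : act 8 n13072 = n10187 := d15_2 (iv F47226) D13072 (iv D10187)
def n13073 : Q := act 6 n10179
theorem D13073 : act 6 n10179 = n13073 := rfl
theorem F59746 : act 0 n13073 = n13073 := d5_1 D13073 (iv D13073) F47224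
theorem F59747 : act 2 n13073 = n10180 := d20_1 D13073 (iv D10180) D10179
theorem F59748 : act 4 n13073 = n10213 := d31_1 D13073 (iv D10213) (iv F47225)
theorem F59749 : act 8 n13073 = n10188 := d40_2 (iv F47226) D13073 (iv D10188)
def n13074 : Q := act 5 n10180
theorem D13074 : act 5 n10180 = n13074 := rfl
theorem F59750 : act 0 n13074 = n13074 := d4_1 D13074 (iv D13074) F47227
theorem F59751 : act 3 n13074 = n10181 := d25_1 D13074 (iv D10181) (iv F47228)
def n13075 : Q := act 7 n10180
theorem D13075 : act 7 n10180 = n13075 := rfl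
theorem F59752 : act 0 n13075 = n13075 := d6_1 D13075 (iv D13075) F47227
theorem F59753 : act 3 n13075 = n10182 := d27_1 D13075 (iv D10182) (iv F47228)
theorem F59754 : act 4 n13075 = n10215 := d32_1 D13075 (iv D10215) (iv F47229)
theorem F59755 : act 8 n13075 = n10190 := d42_2 (iv F47230) D13075 (iv D10190)
def n13076 : Q := act 7 n10181
theorem D13076 : act 7 n10181 = n13076 := rfl
theorem F59756 : act 0 n13076 = n13076 := d6_1 D13076 (iv D13076) F47231
theorem F59757 : act 4 n13076 = n10328 := d32_1 D13076 (iv D10328) (iv F47232)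
theorem F59758 : act 5 n13076 = n10182 := d36_1 D13076 (iv D10182) D10181
def n13077 : Q := act 8 n10181
theorem D13077 : act 8 n10181 = n13077 := rfl
theorem F59759 : act 0 n13077 = n13077 := d7_1 D13077 (iv D13077) F47231
theorem F59760 : act 4 n13077 = n10329 := d33_1 D13077 (iv D10329) (iv F47232)
theorem F59761 : act 5 n13077 = n10192 := d37_1 D13077 (iv D10192) (iv D8007) (iv F37694) D10181
def n13078 : Q := act 1 n10183
theorem D13078 : act 1 n10183 = n13078 := rfl
theorem F59762 : act 4 n13078 = n10217 := d11_2 (iv F47237) D13078 (iv D10217)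
theorem F59763 : act 5 n13078 = n13078 := d12_2 F47238 D13078 (iv D13078)
theorem F59764 : act 7 n13078 = n10187 := d14_2 (iv F47239) D13078 (iv D10187)
theorem F59765 : act 9 n13078 = n13078 := d16_2 F47240 D13078 (iv D13078)
def n13079 : Q := act 6 n10183
theorem D13079 : act 6 n10183 = n13079 := rfl
theorem F59766 : act 0 n13079 = n13079 := d5_1 D13079 (iv D13079) F47236
theorem F59767 : act 2 n13079 = n10184 := d20_1 D13079 (iv D10184) D10183
theorem F59768 : act 4 n13079 = n10218 := d31_1 D13079 (iv D10218) (iv F47237)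
theorem F59769 : act 9 n13079 = n13079 := d41_2 F47240 D13079 (iv D13079)
def n13080 : Q := act 5 n10184
theorem D13080 : act 5 n10184 = n13080 := rfl
theorem F59770 : act 0 n13080 = n13080 := d4_1 D13080 (iv D13080) F47241
theorem F59771 : act 3 n13080 = n10185 := d25_1 D13080 (iv D10185) (iv F47242)
theorem F59772 : act 6 n13080 = n13080 := d35_2 D10184 D13080 (iv D13080) (iv D10184) F37701
theorem F59773 : act 9 n13080 = n13080 := d38_2 F47244 D13080 (iv D13080)
def n13081 : Q := act 7 n10184
theorem D13081 : act 7 n10184 = n13081 := rfl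
theorem F59774 : act 0 n13081 = n13081 := d6_1 D13081 (iv D13081) F47241
theorem F59775 : act 3 n13081 = n10186 := d27_1 D13081 (iv D10186) (iv F47242)
theorem F59776 : act 4 n13081 = n10220 := d32_1 D13081 (iv D10220) (iv F47243)
theorem F59777 : act 6 n13081 = n10190 := d39_1 D13081 (iv D10190) (iv D8006) (iv F37702) D10184
theorem F59778 : act 9 n13081 = n13081 := d43_2 F47244 D13081 (iv D13081)
def n13082 : Q := act 7 n10185
theorem D13082 : act 7 n10185 = n13082 := rfl
theorem F59779 : act 0 n13082 = n13082 := d6_1 D13082 (iv D13082) F47245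
theorem F59780 : act 4 n13082 = n13082 := d32_1 D13082 (iv D13082) F47246
theorem F59781 : act 5 n13082 = n10186 := d36_1 D13082 (iv D10186) D10185
theorem F59782 : act 9 n13082 = n13082 := d43_2 F47248 D13082 (iv D13082)
def n13083 : Q := act 8 n10185
theorem D13083 : act 8 n10185 = n13083 := rfl
theorem F59783 : act 0 n13083 = n13083 := d7_1 D13083 (iv D13083) F47245
theorem F59784 : act 4 n13083 = n13083 := d33_1 D13083 (iv D13083) F47246
theorem F59785 : act 6 n13083 = n13083 := d40_1 D13083 (iv D13083) F47247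
def n13084 : Q := act 0 n10187
theorem D13084 : act 0 n10187 = n13084 := rfl
theorem F59786 : act 1 n13084 = n13084 := d0_2 D10187 D13084 (iv D13084) (iv D10187) F37712
theorem F59787 : act 4 n13084 = n10223 := d3_2 (iv F47253) D13084 (iv D10223)
theorem F59788 : act 5 n13084 = n13084 := d4_2 F47254 D13084 (iv D13084)
theorem F59789 : act 9 n13084 = n13084 := d8_2 F47255 D13084 (iv D13084)
def n13085 : Q := act 6 n10187
theorem D13085 : act 6 n10187 = n13085 := rfl
theorem F59790 : act 1 n13085 = n10188 := d13_1 D13085 (iv D10188) D10187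
theorem F59791 : act 4 n13085 = n10224 := d31_1 D13085 (iv D10224) (iv F47253)
theorem F59792 : act 9 n13085 = n13085 := d41_2 F47255 D13085 (iv D13085)
def n13086 : Q := act 5 n10188
theorem D13086 : act 5 n10188 = n13086 := rfl
theorem F59793 : act 0 n13086 = n13086 := d4_1 D13086 (iv D13086) F47256
theorem F59794 : act 2 n13086 = n10189 := d19_1 D13086 (iv D10189) (iv F47257)
theorem F59795 : act 4 n13086 = n13086 := d30_1 D13086 (iv D13086) F47258 F37826 (iv F47258)
theorem F59796 : act 6 n13086 = n13086 := d35_2 D10188 D13086 (iv D13086) (iv D10188) F37714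
theorem F59797 : act 9 n13086 = n13086 := d38_2 F47259 D13086 (iv D13086)
def n13087 : Q := act 7 n10188
theorem D13087 : act 7 n10188 = n13087 := rfl
theorem F59798 : act 0 n13087 = n13087 := d6_1 D13087 (iv D13087) F47256
theorem F59799 : act 2 n13087 = n10190 := d21_1 D13087 (iv D10190) (iv F47257)
theorem F59800 : act 4 n13087 = n10225 := d32_1 D13087 (iv D10225) (iv F47258)
theorem F59801 : act 9 n13087 = n13087 := d43_2 F47259 D13087 (iv D13087)
def n13088 : Q := act 7 n10189
theorem D13088 : act 7 n10189 = n13088 := rfl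
theorem F59802 : act 0 n13088 = n13088 := d6_1 D13088 (iv D13088) F47260
theorem F59803 : act 3 n13088 = n10191 := d27_1 D13088 (iv D10191) (iv F47261)
theorem F59804 : act 4 n13088 = n13088 := d32_1 D13088 (iv D13088) F47262
theorem F59805 : act 5 n13088 = n10190 := d36_1 D13088 (iv D10190) D10189
theorem F59806 : act 9 n13088 = n13088 := d43_2 F47264 D13088 (iv D13088)
def n13089 : Q := act 8 n10189
theorem D13089 : act 8 n10189 = n13089 := rfl
theorem F59807 : act 0 n13089 = n13089 := d7_1 D13089 (iv D13089) F47260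
theorem F59808 : act 3 n13089 = n10192 := d28_1 D13089 (iv D10192) (iv F47261)
theorem F59809 : act 4 n13089 = n13089 := d33_1 D13089 (iv D13089) F47262
theorem F59810 : act 6 n13089 = n13089 := d40_1 D13089 (iv D13089) F47263
def n13090 : Q := act 6 n10191
theorem D13090 : act 6 n10191 = n13090 := rfl
theorem F59811 : act 0 n13090 = n13090 := d5_1 D13090 (iv D13090) F47269
theorem F59812 : act 4 n13090 = n10193 := d31_1 D13090 (iv D10193) (iv F47270)
theorem F59813 : act 7 n13090 = n13090 := d39_2 D10191 D13090 (iv D13090) (iv D10191) F37722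
theorem F59814 : act 9 n13090 = n13090 := d41_2 F47272 D13090 (iv D13090)
def n13091 : Q := act 8 n10191
theorem D13091 : act 8 n10191 = n13091 := rfl
theorem F59815 : act 0 n13091 = n13091 := d7_1 D13091 (iv D13091) F47269
theorem F59816 : act 4 n13091 = n10194 := d33_1 D13091 (iv D10194) (iv F47270)
theorem F59817 : act 7 n13091 = n10192 := d42_1 D13091 (iv D10192) D10191
def n13092 : Q := act 9 n10192
theorem D13092 : act 9 n10192 = n13092 := rfl
theorem F59818 : act 0 n13092 = n13092 := d8_1 D13092 (iv D13092) F47273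
theorem F59819 : act 4 n13092 = n10195 := d34_1 D13092 (iv D10195) (iv F47274)
theorem F59820 : act 6 n13092 = n13092 := d41_1 D13092 (iv D13092) F47275
theorem F59821 : act 8 n13092 = n13092 := d44_1 D13092 (iv D13092) (iv D10192) F37723 D10192
def n13093 : Q := act 8 n10193
theorem D13093 : act 8 n10193 = n13093 := rfl
theorem F59822 : act 0 n13093 = n13093 := d7_1 D13093 (iv D13093) F47276
theorem F59823 : act 3 n13093 = n13093 := d28_1 D13093 (iv D13093) F47277
theorem F59824 : act 6 n13093 = n10194 := d40_1 D13093 (iv D10194) D10193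
theorem F59825 : act 7 n13093 = n13093 := d42_1 D13093 (iv D13093) F47279
def n13094 : Q := act 9 n10194
theorem D13094 : act 9 n10194 = n13094 := rfl
theorem F59826 : act 0 n13094 = n13094 := d8_1 D13094 (iv D13094) F47281
theorem F59827 : act 3 n13094 = n13094 := d29_1 D13094 (iv D13094) F47282
theorem F59828 : act 5 n13094 = n10346 := d38_1 D13094 (iv D10346) (iv F47283)
theorem F59829 : act 7 n13094 = n10195 := d43_1 D13094 (iv D10195) (iv F47284)
theorem F59830 : act 8 n13094 = n13094 := d44_1 D13094 (iv D13094) (iv D10194) F37730 D10194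
def n13095 : Q := act 3 n10196
theorem D13095 : act 3 n10196 = n13095 := rfl
theorem F59831 : act 0 n13095 = n13095 := d2_1 D13095 (iv D13095) F47290
theorem F59832 : act 4 n13095 = n10267 := d24_2 D10196 D13095 (iv D10267) (iv D8061) (iv F37737)
theorem F59833 : act 5 n13095 = n13095 := d25_2 F47292 D13095 (iv D13095)
theorem F59834 : act 7 n13095 = n10347 := d27_2 (iv F47293) D13095 (iv D10347)
theorem F59835 : act 8 n13095 = n10614 := d28_2 (iv F47294) D13095 (iv D10614)
theorem F59836 : act 9 n13095 = n10198 := d29_2 (iv F47295) D13095 (iv D10198)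
def n13096 : Q := act 6 n10196
theorem D13096 : act 6 n10196 = n13096 := rfl
theorem F59837 : act 0 n13096 = n13096 := d5_1 D13096 (iv D13096) F47290
theorem F59838 : act 2 n13096 = n13096 := d20_1 D13096 (iv D13096) F47291
theorem F59839 : act 4 n13096 = n10197 := d31_1 D13096 (iv D10197) D10196
theorem F59840 : act 8 n13096 = n10615 := d40_2 (iv F47294) D13096 (iv D10615)
theorem F59841 : act 9 n13096 = n10199 := d41_2 (iv F47295) D13096 (iv D10199)
def n13097 : Q := act 7 n10197
theorem D13097 : act 7 n10197 = n13097 := rfl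
theorem F59842 : act 0 n13097 = n13097 := d6_1 D13097 (iv D13097) F47296
theorem F59843 : act 2 n13097 = n13097 := d21_1 D13097 (iv D13097) F47297
theorem F59844 : act 3 n13097 = n10269 := d27_1 D13097 (iv D10269) (iv F47298)
theorem F59845 : act 5 n13097 = n10203 := d36_1 D13097 (iv D10203) (iv F47299)
theorem F59846 : act 6 n13097 = n10349 := d39_1 D13097 (iv D10349) (iv D8118) (iv F37738) D10197
theorem F59847 : act 8 n13097 = n10616 := d42_2 (iv F47300) D13097 (iv D10616)
theorem F59848 : act 9 n13097 = n10200 := d43_2 (iv F47301) D13097 (iv D10200)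
def n13098 : Q := act 2 n10198
theorem D13098 : act 2 n10198 = n13098 := rfl
theorem F59849 : act 0 n13098 = n13098 := d1_1 D13098 (iv D13098) F47302
theorem F59850 : act 3 n13098 = n13098 := d17_2 D10198 D13098 (iv D13098) (iv D10198) F37742
theorem F59851 : act 5 n13098 = n13098 := d19_2 F47303 D13098 (iv D13098)
theorem F59852 : act 7 n13098 = n10350 := d21_2 (iv F47304) D13098 (iv D10350)
theorem F59853 : act 8 n13098 = n13098 := d22_2 F47305 D13098 (iv D13098)
def n13099 : Q := act 6 n10198
theorem D13099 : act 6 n10198 = n13099 := rfl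
theorem F59854 : act 0 n13099 = n13099 := d5_1 D13099 (iv D13099) F47302
theorem F59855 : act 3 n13099 = n10199 := d26_1 D13099 (iv D10199) D10198
theorem F59856 : act 8 n13099 = n13099 := d40_2 F47305 D13099 (iv D13099)
def n13100 : Q := act 5 n10199
theorem D13100 : act 5 n10199 = n13100 := rfl
theorem F59857 : act 0 n13100 = n13100 := d4_1 D13100 (iv D13100) F47306
theorem F59858 : act 2 n13100 = n13100 := d19_1 D13100 (iv D13100) F47307
theorem F59859 : act 4 n13100 = n10206 := d30_1 D13100 (iv D10206) F37766 (iv F37748) (iv F47308)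
theorem F59860 : act 6 n13100 = n13100 := d35_2 D10199 D13100 (iv D13100) (iv D10199) F37743
def n13101 : Q := act 7 n10199
theorem D13101 : act 7 n10199 = n13101 := rfl
theorem F59861 : act 0 n13101 = n13101 := d6_1 D13101 (iv D13101) F47306
theorem F59862 : act 2 n13101 = n13101 := d21_1 D13101 (iv D13101) F47307
theorem F59863 : act 4 n13101 = n10200 := d32_1 D13101 (iv D10200) (iv F47308)
theorem F59864 : act 6 n13101 = n10353 := d39_1 D13101 (iv D10353) (iv D8120) (iv F37744) D10199
theorem F59865 : act 8 n13101 = n13101 := d42_2 F47309 D13101 (iv D13101)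
def n13102 : Q := act 2 n10201
theorem D13102 : act 2 n10201 = n13102 := rfl
theorem F59866 : act 0 n13102 = n13102 := d1_1 D13102 (iv D13102) F47315
theorem F59867 : act 3 n13102 = n13102 := d17_2 D10201 D13102 (iv D13102) (iv D10201) F37751
theorem F59868 : act 5 n13102 = n13102 := d19_2 F47316 D13102 (iv D13102)
theorem F59869 : act 7 n13102 = n10208 := d21_2 (iv F47317) D13102 (iv D10208)
theorem F59870 : act 8 n13102 = n13102 := d22_2 F47318 D13102 (iv D13102)
theorem F59871 : act 9 n13102 = n10204 := d23_2 (iv F47319) D13102 (iv D10204)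
def n13103 : Q := act 6 n10201
theorem D13103 : act 6 n10201 = n13103 := rfl
theorem F59872 : act 0 n13103 = n13103 := d5_1 D13103 (iv D13103) F47315
theorem F59873 : act 3 n13103 = n10202 := d26_1 D13103 (iv D10202) D10201
theorem F59874 : act 8 n13103 = n13103 := d40_2 F47318 D13103 (iv D13103)
theorem F59875 : act 9 n13103 = n10205 := d41_2 (iv F47319) D13103 (iv D10205)
def n13104 : Q := act 5 n10202
theorem D13104 : act 5 n10202 = n13104 := rfl
theorem F59876 : act 0 n13104 = n13104 := d4_1 D13104 (iv D13104) F47320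
theorem F59877 : act 2 n13104 = n13104 := d19_1 D13104 (iv D13104) F47321
theorem F59878 : act 6 n13104 = n13104 := d35_2 D10202 D13104 (iv D13104) (iv D10202) F37752
theorem F59879 : act 9 n13104 = n10206 := d38_2 (iv F47324) D13104 (iv D10206)
def n13105 : Q := act 7 n10202
theorem D13105 : act 7 n10202 = n13105 := rfl
theorem F59880 : act 0 n13105 = n13105 := d6_1 D13105 (iv D13105) F47320
theorem F59881 : act 2 n13105 = n13105 := d21_1 D13105 (iv D13105) F47321
theorem F59882 : act 4 n13105 = n10203 := d32_1 D13105 (iv D10203) (iv F47322)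
theorem F59883 : act 6 n13105 = n10211 := d39_1 D13105 (iv D10211) (iv D8020) (iv F37753) D10202
theorem F59884 : act 8 n13105 = n13105 := d42_2 F47323 D13105 (iv D13105)
theorem F59885 : act 9 n13105 = n10207 := d43_2 (iv F47324) D13105 (iv D10207)
def n13106 : Q := act 1 n10204
theorem D13106 : act 1 n10204 = n13106 := rfl
theorem F59886 : act 3 n13106 = n13106 := d10_2 F47331 D13106 (iv D13106)
theorem F59887 : act 5 n13106 = n13106 := d12_2 F47332 D13106 (iv D13106)
theorem F59888 : act 7 n13106 = n10212 := d14_2 (iv F47333) D13106 (iv D10212)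
theorem F59889 : act 8 n13106 = n10217 := d15_2 (iv F47334) D13106 (iv D10217)
def n13107 : Q := act 6 n10204
theorem D13107 : act 6 n10204 = n13107 := rfl
theorem F59890 : act 0 n13107 = n13107 := d5_1 D13107 (iv D13107) F47330
theorem F59891 : act 2 n13107 = n10205 := d20_1 D13107 (iv D10205) D10204
theorem F59892 : act 3 n13107 = n13107 := d26_1 D13107 (iv D13107) F47331
theorem F59893 : act 8 n13107 = n10218 := d40_2 (iv F47334) D13107 (iv D10218)
def n13108 : Q := act 5 n10205
theorem D13108 : act 5 n10205 = n13108 := rfl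
theorem F59894 : act 0 n13108 = n13108 := d4_1 D13108 (iv D13108) F47335
theorem F59895 : act 3 n13108 = n10206 := d25_1 D13108 (iv D10206) (iv F47336)
theorem F59896 : act 6 n13108 = n13108 := d35_2 D10205 D13108 (iv D13108) (iv D10205) F37761
def n13109 : Q := act 7 n10205
theorem D13109 : act 7 n10205 = n13109 := rfl
theorem F59897 : act 0 n13109 = n13109 := d6_1 D13109 (iv D13109) F47335
theorem F59898 : act 3 n13109 = n10207 := d27_1 D13109 (iv D10207) (iv F47336)
theorem F59899 : act 6 n13109 = n10215 := d39_1 D13109 (iv D10215) (iv D8023) (iv F37762) D10205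
theorem F59900 : act 8 n13109 = n10220 := d42_2 (iv F47337) D13109 (iv D10220)
def n13110 : Q := act 7 n10206
theorem D13110 : act 7 n10206 = n13110 := rfl
theorem F59901 : act 0 n13110 = n13110 := d6_1 D13110 (iv D13110) F47338
theorem F59902 : act 2 n13110 = n13110 := d21_1 D13110 (iv D13110) F47339
theorem F59903 : act 5 n13110 = n10207 := d36_1 D13110 (iv D10207) D10206
def n13111 : Q := act 8 n10206
theorem D13111 : act 8 n10206 = n13111 := rfl
theorem F59904 : act 0 n13111 = n13111 := d7_1 D13111 (iv D13111) F47338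
theorem F59905 : act 2 n13111 = n13111 := d22_1 D13111 (iv D13111) F47339
theorem F59906 : act 5 n13111 = n10222 := d37_1 D13111 (iv D10222) (iv D8028) (iv F37767) D10206
theorem F59907 : act 6 n13111 = n13111 := d40_1 D13111 (iv D13111) F47340
def n13112 : Q := act 1 n10208
theorem D13112 : act 1 n10208 = n13112 := rfl
theorem F59908 : act 3 n13112 = n13112 := d10_2 F47347 D13112 (iv D13112)
theorem F59909 : act 5 n13112 = n13112 := d12_2 F47348 D13112 (iv D13112)
theorem F59910 : act 8 n13112 = n13112 := d15_2 F47349 D13112 (iv D13112)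
theorem F59911 : act 9 n13112 = n10212 := d16_2 (iv F47350) D13112 (iv D10212)
def n13113 : Q := act 6 n10208
theorem D13113 : act 6 n10208 = n13113 := rfl
theorem F59912 : act 0 n13113 = n13113 := d5_1 D13113 (iv D13113) F47346
theorem F59913 : act 2 n13113 = n10209 := d20_1 D13113 (iv D10209) D10208
theorem F59914 : act 3 n13113 = n13113 := d26_1 D13113 (iv D13113) F47347
theorem F59915 : act 8 n13113 = n13113 := d40_2 F47349 D13113 (iv D13113)
theorem F59916 : act 9 n13113 = n10213 := d41_2 (iv F47350) D13113 (iv D10213)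
def n13114 : Q := act 5 n10209
theorem D13114 : act 5 n10209 = n13114 := rfl
theorem F59917 : act 0 n13114 = n13114 := d4_1 D13114 (iv D13114) F47351
theorem F59918 : act 3 n13114 = n10210 := d25_1 D13114 (iv D10210) (iv F47352)
theorem F59919 : act 6 n13114 = n13114 := d35_2 D10209 D13114 (iv D13114) (iv D10209) F37773
theorem F59920 : act 9 n13114 = n10214 := d38_2 (iv F47354) D13114 (iv D10214)
def n13115 : Q := act 7 n10209
theorem D13115 : act 7 n10209 = n13115 := rfl
theorem F59921 : act 0 n13115 = n13115 := d6_1 D13115 (iv D13115) F47351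
theorem F59922 : act 3 n13115 = n10211 := d27_1 D13115 (iv D10211) (iv F47352)
theorem F59923 : act 8 n13115 = n13115 := d42_2 F47353 D13115 (iv D13115)
theorem F59924 : act 9 n13115 = n10215 := d43_2 (iv F47354) D13115 (iv D10215)
def n13116 : Q := act 7 n10210
theorem D13116 : act 7 n10210 = n13116 := rfl
theorem F59925 : act 0 n13116 = n13116 := d6_1 D13116 (iv D13116) F47355
theorem F59926 : act 2 n13116 = n13116 := d21_1 D13116 (iv D13116) F47356
theorem F59927 : act 4 n13116 = n10368 := d32_1 D13116 (iv D10368) (iv F47357)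
theorem F59928 : act 5 n13116 = n10211 := d36_1 D13116 (iv D10211) D10210
theorem F59929 : act 9 n13116 = n10216 := d43_2 (iv F47359) D13116 (iv D10216)
def n13117 : Q := act 8 n10210
theorem D13117 : act 8 n10210 = n13117 := rfl
theorem F59930 : act 0 n13117 = n13117 := d7_1 D13117 (iv D13117) F47355
theorem F59931 : act 2 n13117 = n13117 := d22_1 D13117 (iv D13117) F47356
theorem F59932 : act 4 n13117 = n10369 := d33_1 D13117 (iv D10369) (iv F47357)
theorem F59933 : act 5 n13117 = n13117 := d37_1 D13117 (iv D13117) (iv D10210) F37779 D10210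
theorem F59934 : act 6 n13117 = n13117 := d40_1 D13117 (iv D13117) F47358
theorem F59935 : act 9 n13117 = n13117 := d44_2 (iv F47359) D13117 (iv D13117) F47359 F37797
def n13118 : Q := act 0 n10212
theorem D13118 : act 0 n10212 = n13118 := rfl
theorem F59936 : act 1 n13118 = n13118 := d0_2 D10212 D13118 (iv D13118) (iv D10212) F37786
theorem F59937 : act 3 n13118 = n13118 := d2_2 F47365 D13118 (iv D13118)
theorem F59938 : act 5 n13118 = n13118 := d4_2 F47366 D13118 (iv D13118)
theorem F59939 : act 8 n13118 = n10223 := d7_2 (iv F47367) D13118 (iv D10223)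
def n13119 : Q := act 6 n10212
theorem D13119 : act 6 n10212 = n13119 := rfl
theorem F59940 : act 1 n13119 = n10213 := d13_1 D13119 (iv D10213) D10212
theorem F59941 : act 3 n13119 = n13119 := d26_1 D13119 (iv D13119) F47365
theorem F59942 : act 8 n13119 = n10224 := d40_2 (iv F47367) D13119 (iv D10224)
def n13120 : Q := act 5 n10213
theorem D13120 : act 5 n10213 = n13120 := rfl
theorem F59943 : act 0 n13120 = n13120 := d4_1 D13120 (iv D13120) F47368
theorem F59944 : act 2 n13120 = n10214 := d19_1 D13120 (iv D10214) (iv F47369)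
theorem F59945 : act 3 n13120 = n13120 := d25_1 D13120 (iv D13120) F47370
theorem F59946 : act 6 n13120 = n13120 := d35_2 D10213 D13120 (iv D13120) (iv D10213) F37788
theorem F59947 : act 8 n13120 = n13120 := d37_2 (iv F47371) D13120 (iv D13120) F47371 F37826
def n13121 : Q := act 7 n10213
theorem D13121 : act 7 n10213 = n13121 := rfl
theorem F59948 : act 0 n13121 = n13121 := d6_1 D13121 (iv D13121) F47368
theorem F59949 : act 2 n13121 = n10215 := d21_1 D13121 (iv D10215) (iv F47369)
theorem F59950 : act 3 n13121 = n13121 := d27_1 D13121 (iv D13121) F47370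
theorem F59951 : act 8 n13121 = n10225 := d42_2 (iv F47371) D13121 (iv D10225)
def n13122 : Q := act 4 n10214
theorem D13122 : act 4 n10214 = n13122 := rfl
theorem F59952 : act 0 n13122 = n13122 := d3_1 D13122 (iv D13122) F47372
theorem F59953 : act 3 n13122 = n10374 := d24_1 D13122 (iv D10374) F38251 (iv F37795) (iv F47373)
theorem F59954 : act 6 n13122 = n13122 := d31_2 F47374 D13122 (iv D13122)
theorem F59955 : act 8 n13122 = n13122 := d33_2 F47375 D13122 (iv D13122)
def n13123 : Q := act 7 n10214
theorem D13123 : act 7 n10214 = n13123 := rfl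
theorem F59956 : act 0 n13123 = n13123 := d6_1 D13123 (iv D13123) F47372
theorem F59957 : act 3 n13123 = n10216 := d27_1 D13123 (iv D10216) (iv F47373)
theorem F59958 : act 5 n13123 = n10215 := d36_1 D13123 (iv D10215) D10214
theorem F59959 : act 8 n13123 = n13123 := d42_2 F47375 D13123 (iv D13123)
def n13124 : Q := act 6 n10216
theorem D13124 : act 6 n10216 = n13124 := rfl
theorem F59960 : act 0 n13124 = n13124 := d5_1 D13124 (iv D13124) F47379
theorem F59961 : act 2 n13124 = n13124 := d20_1 D13124 (iv D13124) F47380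
theorem F59962 : act 4 n13124 = n10376 := d31_1 D13124 (iv D10376) (iv F47381)
theorem F59963 : act 7 n13124 = n13124 := d39_2 D10216 D13124 (iv D13124) (iv D10216) F37796
theorem F59964 : act 8 n13124 = n13124 := d40_2 F47383 D13124 (iv D13124)
def n13125 : Q := act 0 n10217
theorem D13125 : act 0 n10217 = n13125 := rfl
theorem F59965 : act 1 n13125 = n13125 := d0_2 D10217 D13125 (iv D13125) (iv D10217) F37802
theorem F59966 : act 3 n13125 = n13125 := d2_2 F47384 D13125 (iv D13125)
theorem F59967 : act 5 n13125 = n10226 := d4_2 (iv F47385) D13125 (iv D10226)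
theorem F59968 : act 7 n13125 = n10223 := d6_2 (iv F47386) D13125 (iv D10223)
theorem F59969 : act 9 n13125 = n13125 := d8_2 F47387 D13125 (iv D13125)
def n13126 : Q := act 6 n10217
theorem D13126 : act 6 n10217 = n13126 := rfl
theorem F59970 : act 1 n13126 = n10218 := d13_1 D13126 (iv D10218) D10217
theorem F59971 : act 3 n13126 = n13126 := d26_1 D13126 (iv D13126) F47384
theorem F59972 : act 9 n13126 = n13126 := d41_2 F47387 D13126 (iv D13126)
def n13127 : Q := act 5 n10218
theorem D13127 : act 5 n10218 = n13127 := rfl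
theorem F59973 : act 0 n13127 = n13127 := d4_1 D13127 (iv D13127) F47388
theorem F59974 : act 2 n13127 = n10219 := d19_1 D13127 (iv D10219) (iv F47389)
theorem F59975 : act 3 n13127 = n13127 := d25_1 D13127 (iv D13127) F47390
theorem F59976 : act 6 n13127 = n10228 := d35_2 D10218 D13127 (iv D10228) (iv D8034) (iv F37804)
theorem F59977 : act 9 n13127 = n13127 := d38_2 F47391 D13127 (iv D13127)
theorem F59978 : act 4 n10543 = n13127 := d45_2 F38739 (iv F48695) (iv D13127) (iv D10218) F37805 (iv F37789) (iv D8022) (iv D6352) (iv D5066) (iv D4035) F13760 (iv F13906) (iv D2861) F9881 (iv F13864) (iv F19449) F19450 (iv F20508) F20509 D5251 (iv F26820) F26821 F21739 F15584 (iv F21746) F21747 (iv D4314) F14906 F14907 F10635 F7569 F5388 F3818 D1056 F5390 F3837 F2730 F1940 (iv F2742) (iv F3871) (iv D744) (iv F3699) (iv F4982) (iv F7018) (iv F9883) (iv F13897) (iv F19292) D5062 F24457 (iv F30232) F30233 D6386 D8068 D10279 F47653 F38487 F30910 (iv F31012) (iv F38735) F38736 (iv D8258) D8259 F38738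
theorem E1167 : n10566 = n10228 := ((c31_3 (iv F48696) F59978 F59976 F48805)).symm
theorem F59979 : act 1 n10228 = n12648 := (sb E1167 (iv F58049))
theorem F59980 : act 4 n10228 = n8283 := (sb E1167 F48805)
theorem F59981 : act 8 n10228 = n8282 := (sb E1167 (iv D10566))
theorem F59982 : act 8 n13127 = n10541 := d33_2 D10543 F59978 (iv D10541)
theorem E1168 : n10564 = n10230 := (c22_2 F59981 (iv F48793) (iv D10230) (iv F47436))
theorem F59983 : act 2 n10230 = n8282 := (sb E1168 F48793)
theorem F59984 : act 4 n10230 = n8281 := (sb E1168 (iv D10564))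
theorem F59985 : act 9 n10230 = n8286 := (sb E1168 F48796)
theorem F59986 : act 9 n10568 = n12349 := d16_2 F59985 (iv F48813) F57024
theorem E1169 : n10569 = n10231 := (c29_2 F59985 D10569 (iv D10231) (iv F47446))
theorem F59987 : act 3 n10231 = n8286 := (sb E1169 (iv D10569))
theorem F59988 : act 3 n10568 = n12350 := d10_2 F59987 (iv F48813) F57028
theorem F59989 : act 4 n12349 = n10563 := d34_1 F59986 F48791 D10568
theorem F59990 : act 8 n10563 = n12348 := d33_2 D12349 F59989 (iv D12348)
theorem E1170 : n10565 = n10229 := ((c15_2 F59990 F57019 (iv D10565) (iv F48788))).symm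
theorem F59991 : act 2 n10229 = n8283 := (sb E1170 F48798)
theorem F59992 : act 8 n10229 = n8281 := (sb E1170 (iv D10565))
theorem F59993 : act 5 n12648 = n10227 := d12_2 D10228 F59979 F47429
def n13128 : Q := act 7 n10218
theorem D13128 : act 7 n10218 = n13128 := rfl
theorem F59994 : act 0 n13128 = n13128 := d6_1 D13128 (iv D13128) F47388
theorem F59995 : act 2 n13128 = n10220 := d21_1 D13128 (iv D10220) (iv F47389)
theorem F59996 : act 3 n13128 = n13128 := d27_1 D13128 (iv D13128) F47390
theorem F59997 : act 6 n13128 = n10225 := d39_1 D13128 (iv D10225) (iv D8031) (iv F37805) D10218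
theorem F59998 : act 9 n13128 = n13128 := d43_2 F47391 D13128 (iv D13128)
def n13129 : Q := act 4 n10219
theorem D13129 : act 4 n10219 = n13129 := rfl
theorem F59999 : act 0 n13129 = n13129 := d3_1 D13129 (iv D13129) F47392
theorem F60000 : act 2 n13129 = n10543 := d18_1 D13129 F59978 F59974
theorem F60001 : act 3 n13129 = n13129 := d24_1 D13129 (iv D13129) F47393 F37812 (iv F47393)
theorem F60002 : act 6 n13129 = n10229 := d31_2 (iv F47394) D13129 (iv D10229)
theorem F60003 : act 9 n13129 = n13129 := d34_2 F47395 D13129 (iv D13129)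
theorem F60004 : act 8 n10539 = n13129 := d40_0 F60002 F59992 (iv F48679)
def n13130 : Q := act 7 n10219
theorem D13130 : act 7 n10219 = n13130 := rfl
theorem F60005 : act 0 n13130 = n13130 := d6_1 D13130 (iv D13130) F47392
theorem F60006 : act 3 n13130 = n10221 := d27_1 D13130 (iv D10221) (iv F47393)
theorem F60007 : act 5 n13130 = n10220 := d36_1 D13130 (iv D10220) D10219
theorem F60008 : act 6 n13130 = n13130 := d39_1 D13130 (iv D13130) F47394 F37846 (iv F47394)
theorem F60009 : act 9 n13130 = n13130 := d43_2 F47395 D13130 (iv D13130)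
def n13131 : Q := act 8 n10219
theorem D13131 : act 8 n10219 = n13131 := rfl
theorem F60010 : act 0 n13131 = n13131 := d7_1 D13131 (iv D13131) F47392
theorem F60011 : act 2 n13131 = n10541 := d22_1 D13131 (iv F59982) F59974
theorem F60012 : act 3 n13131 = n10222 := d28_1 D13131 (iv D10222) (iv F47393)
theorem F60013 : act 4 n13131 = n10539 := d33_1 D13131 F60004 (iv D13129)
theorem F60014 : act 6 n13131 = n10230 := d40_1 D13131 (iv D10230) (iv F47394)
theorem F60015 : act 9 n10548 = n13131 := d41_0 F60014 F59985 (iv F48717)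
def n13132 : Q := act 8 n10221
theorem D13132 : act 8 n10221 = n13132 := rfl
theorem F60016 : act 0 n13132 = n13132 := d7_1 D13132 (iv D13132) F47400
theorem F60017 : act 2 n13132 = n13132 := d22_1 D13132 (iv D13132) F47401
theorem F60018 : act 4 n13132 = n13132 := d33_1 D13132 (iv D13132) F47402
theorem F60019 : act 6 n13132 = n13132 := d40_1 D13132 (iv D13132) F47404
theorem F60020 : act 7 n13132 = n10222 := d42_1 D13132 (iv D10222) D10221
def n13133 : Q := act 9 n10222
theorem D13133 : act 9 n10222 = n13133 := rfl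
theorem F60021 : act 0 n13133 = n13133 := d8_1 D13133 (iv D13133) F47406
theorem F60022 : act 2 n13133 = n13133 := d23_1 D13133 (iv D13133) F47407
theorem F60023 : act 3 n13133 = n10548 := d29_1 D13133 F60015 F60012
theorem F60024 : act 4 n13133 = n13133 := d34_1 D13133 (iv D13133) F47408
theorem F60025 : act 6 n13133 = n10231 := d41_1 D13133 (iv D10231) (iv F47409)
theorem F60026 : act 8 n13133 = n13133 := d44_1 D13133 (iv D13133) (iv D10222) F37814 D10222
def n13134 : Q := act 6 n10223
theorem D13134 : act 6 n10223 = n13134 := rfl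
theorem F60027 : act 0 n13134 = n10224 := d5_1 D13134 (iv D10224) D10223
theorem F60028 : act 1 n13134 = n13134 := d13_1 D13134 (iv D13134) F47410
theorem F60029 : act 3 n13134 = n13134 := d26_1 D13134 (iv D13134) F47411
theorem F60030 : act 5 n13134 = n13134 := d35_1 D13134 (iv D13134) F47412 F37856 (iv F47412)
theorem F60031 : act 9 n13134 = n13134 := d41_2 F47413 D13134 (iv D13134)
def n13135 : Q := act 7 n10224
theorem D13135 : act 7 n10224 = n13135 := rfl
theorem F60032 : act 1 n13135 = n10225 := d14_1 D13135 (iv D10225) (iv F47414)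
theorem F60033 : act 3 n13135 = n13135 := d27_1 D13135 (iv D13135) F47415
theorem F60034 : act 5 n13135 = n13135 := d36_1 D13135 (iv D13135) F47416
theorem F60035 : act 9 n13135 = n13135 := d43_2 F47417 D13135 (iv D13135)
def n13136 : Q := act 6 n10226
theorem D13136 : act 6 n10226 = n13136 := rfl
theorem F60036 : act 0 n13136 = n10227 := d5_1 D13136 (iv D10227) D10226
theorem F60037 : act 1 n13136 = n13136 := d13_1 D13136 (iv D13136) F47423
theorem F60038 : act 3 n13136 = n13136 := d26_1 D13136 (iv D13136) F47424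
theorem F60039 : act 4 n13136 = n13136 := d31_1 D13136 (iv D13136) F47425
theorem F60040 : act 7 n13136 = n13136 := d39_2 (iv F47426) D13136 (iv D13136) F47426 F37856
theorem F60041 : act 8 n13136 = n13136 := d40_2 F47427 D13136 (iv D13136)
theorem F60042 : act 9 n13136 = n13136 := d41_2 F47428 D13136 (iv D13136)
def n13137 : Q := act 4 n10232
theorem D13137 : act 4 n10232 = n13137 := rfl
theorem F60043 : act 0 n13137 = n10248 := d3_1 D13137 (iv D10248) (iv F47455)
theorem F60044 : act 1 n13137 = n13137 := d11_1 D13137 (iv D13137) F47456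
theorem F60045 : act 8 n13137 = n10395 := d33_2 (iv F47458) D13137 (iv D10395)
theorem F60046 : act 9 n13137 = n10233 := d34_2 (iv F47459) D13137 (iv D10233)
def n13138 : Q := act 6 n10232
theorem D13138 : act 6 n10232 = n13138 := rfl
theorem F60047 : act 0 n13138 = n10249 := d5_1 D13138 (iv D10249) (iv F47455)
theorem F60048 : act 1 n13138 = n13138 := d13_1 D13138 (iv D13138) F47456
theorem F60049 : act 3 n13138 = n13138 := d26_1 D13138 (iv D13138) F47457
theorem F60050 : act 8 n13138 = n10396 := d40_2 (iv F47458) D13138 (iv D10396)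
theorem F60051 : act 9 n13138 = n10234 := d41_2 (iv F47459) D13138 (iv D10234)
def n13139 : Q := act 3 n10233
theorem D13139 : act 3 n10233 = n13139 := rfl
theorem F60055 : act 8 n13139 = n10237 := d28_2 (iv F47462) D13139 (iv D10237)
def n13140 : Q := act 6 n10233
theorem D13140 : act 6 n10233 = n13140 := rfl
theorem F60056 : act 0 n13140 = n10251 := d5_1 D13140 (iv D10251) (iv F47460)
theorem F60057 : act 1 n13140 = n13140 := d13_1 D13140 (iv D13140) F47461
theorem F60058 : act 4 n13140 = n10234 := d31_1 D13140 (iv D10234) D10233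
theorem F60059 : act 8 n13140 = n10238 := d40_2 (iv F47462) D13140 (iv D10238)
def n13141 : Q := act 7 n10234
theorem D13141 : act 7 n10234 = n13141 := rfl
theorem F60060 : act 0 n13141 = n10252 := d6_1 D13141 (iv D10252) (iv F47463)
theorem F60061 : act 1 n13141 = n13141 := d14_1 D13141 (iv D13141) F47464
theorem F60062 : act 3 n13141 = n13141 := d27_1 D13141 (iv D13141) F47465
theorem F60063 : act 8 n13141 = n10239 := d42_2 (iv F47466) D13141 (iv D10239)
def n13142 : Q := act 3 n10235
theorem D13142 : act 3 n10235 = n13142 := rfl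
theorem F60064 : act 0 n13142 = n10253 := d2_1 D13142 (iv D10253) (iv F47467)
theorem F60067 : act 5 n13142 = n10573 := d25_2 (iv F47469) D13142 (iv D10573)
theorem F60068 : act 7 n13142 = n10237 := d27_2 (iv F47470) D13142 (iv D10237)
def n13143 : Q := act 6 n10235
theorem D13143 : act 6 n10235 = n13143 := rfl
theorem F60070 : act 0 n13143 = n10254 := d5_1 D13143 (iv D10254) (iv F47467)
theorem F60071 : act 1 n13143 = n13143 := d13_1 D13143 (iv D13143) F47468
theorem F60072 : act 4 n13143 = n10236 := d31_1 D13143 (iv D10236) D10235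
theorem F60073 : act 9 n13143 = n10401 := d41_2 (iv F47471) D13143 (iv D10401)
def n13144 : Q := act 7 n10236
theorem D13144 : act 7 n10236 = n13144 := rfl
theorem F60074 : act 0 n13144 = n10255 := d6_1 D13144 (iv D10255) (iv F47472)
theorem F60075 : act 1 n13144 = n13144 := d14_1 D13144 (iv D13144) F47473
theorem F60076 : act 3 n13144 = n13144 := d27_1 D13144 (iv D13144) F47474
theorem F60077 : act 5 n13144 = n13144 := d36_1 D13144 (iv D13144) F47475
theorem F60078 : act 6 n13144 = n10239 := d39_1 D13144 (iv D10239) (iv D8042) (iv F37870) D10236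
theorem F60079 : act 9 n13144 = n10402 := d43_2 (iv F47476) D13144 (iv D10402)
def n13145 : Q := act 2 n10237
theorem D13145 : act 2 n10237 = n13145 := rfl
theorem F60082 : act 5 n13145 = n10576 := d19_2 (iv F47480) D13145 (iv D10576)
def n13146 : Q := act 6 n10237
theorem D13146 : act 6 n10237 = n13146 := rfl
theorem F60086 : act 3 n13146 = n10238 := d26_1 D13146 (iv D10238) D10237
def n13147 : Q := act 5 n10238
theorem D13147 : act 5 n10238 = n13147 := rfl
def n13148 : Q := act 7 n10238
theorem D13148 : act 7 n10238 = n13148 := rfl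
theorem F60094 : act 0 n13148 = n10259 := d6_1 D13148 (iv D10259) (iv F47482)
theorem F60095 : act 1 n13148 = n13148 := d14_1 D13148 (iv D13148) F47483
theorem F60096 : act 4 n13148 = n10239 := d32_1 D13148 (iv D10239) (iv F47484)
theorem F60097 : act 9 n13148 = n10406 := d43_2 (iv F47485) D13148 (iv D10406)
def n13152 : Q := act 7 n10241
theorem D13152 : act 7 n10241 = n13152 := rfl
theorem F60115 : act 3 n13152 = n10243 := d27_1 D13152 (iv D10243) (iv F47498)
def n13153 : Q := act 7 n10242
theorem D13153 : act 7 n10242 = n13153 := rfl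
theorem F60121 : act 5 n13153 = n10243 := d36_1 D13153 (iv D10243) D10242
def n13154 : Q := act 8 n10242
theorem D13154 : act 8 n10242 = n13154 := rfl
theorem F60125 : act 6 n13154 = n10585 := d40_1 D13154 (iv D10585) (iv F47503)
def n13155 : Q := act 3 n10244
theorem D13155 : act 3 n10244 = n13155 := rfl
theorem F60126 : act 1 n13155 = n10267 := d10_1 D13155 (iv D10267) (iv F47510)
theorem F60127 : act 5 n13155 = n10250 := d25_2 (iv F47511) D13155 (iv D10250)
theorem F60128 : act 8 n13155 = n10586 := d28_2 (iv F47512) D13155 (iv D10586)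
def n13156 : Q := act 6 n10244
theorem D13156 : act 6 n10244 = n13156 := rfl
theorem F60129 : act 1 n13156 = n10268 := d13_1 D13156 (iv D10268) (iv F47510)
theorem F60130 : act 4 n13156 = n10245 := d31_1 D13156 (iv D10245) D10244
theorem F60131 : act 8 n13156 = n10587 := d40_2 (iv F47512) D13156 (iv D10587)
def n13157 : Q := act 7 n10245
theorem D13157 : act 7 n10245 = n13157 := rfl
theorem F60132 : act 1 n13157 = n10269 := d14_1 D13157 (iv D10269) (iv F47513)
theorem F60133 : act 8 n13157 = n10588 := d42_2 (iv F47514) D13157 (iv D10588)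
def n13158 : Q := act 3 n10246
theorem D13158 : act 3 n10246 = n13158 := rfl
theorem F60136 : act 7 n13158 = n10250 := d27_2 (iv F47516) D13158 (iv D10250)
theorem F60137 : act 8 n13158 = n10253 := d28_2 (iv F47517) D13158 (iv D10253)
def n13159 : Q := act 6 n10246
theorem D13159 : act 6 n10246 = n13159 := rfl
theorem F60138 : act 1 n13159 = n10275 := d13_1 D13159 (iv D10275) (iv F47515)
theorem F60139 : act 4 n13159 = n10247 := d31_1 D13159 (iv D10247) D10246
theorem F60140 : act 8 n13159 = n10254 := d40_2 (iv F47517) D13159 (iv D10254)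
def n13160 : Q := act 7 n10247
theorem D13160 : act 7 n10247 = n13160 := rfl
theorem F60141 : act 1 n13160 = n10276 := d14_1 D13160 (iv D10276) (iv F47518)
theorem F60142 : act 3 n13160 = n13160 := d27_1 D13160 (iv D13160) F47519
theorem F60143 : act 6 n13160 = n10252 := d39_1 D13160 (iv D10252) (iv D8050) (iv F37900) D10247
theorem F60144 : act 8 n13160 = n10255 := d42_2 (iv F47520) D13160 (iv D10255)
def n13161 : Q := act 3 n10248
theorem D13161 : act 3 n10248 = n13161 := rfl
theorem F60145 : act 1 n13161 = n10277 := d10_1 D13161 (iv D10277) (iv F47521)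
theorem F60148 : act 9 n13161 = n10250 := d29_2 (iv F47523) D13161 (iv D10250)
def n13162 : Q := act 6 n10248
theorem D13162 : act 6 n10248 = n13162 := rfl
theorem F60149 : act 1 n13162 = n10278 := d13_1 D13162 (iv D10278) (iv F47521)
theorem F60150 : act 4 n13162 = n10249 := d31_1 D13162 (iv D10249) D10248
theorem F60151 : act 8 n13162 = n10419 := d40_2 (iv F47522) D13162 (iv D10419)
theorem F60152 : act 9 n13162 = n10251 := d41_2 (iv F47523) D13162 (iv D10251)
def n13163 : Q := act 7 n10249
theorem D13163 : act 7 n10249 = n13163 := rfl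
theorem F60153 : act 1 n13163 = n10279 := d14_1 D13163 (iv D10279) (iv F47524)
theorem F60154 : act 3 n13163 = n13163 := d27_1 D13163 (iv D13163) F47525
theorem F60155 : act 8 n13163 = n10420 := d42_2 (iv F47526) D13163 (iv D10420)
theorem F60156 : act 9 n13163 = n10252 := d43_2 (iv F47527) D13163 (iv D10252)
def n13164 : Q := act 2 n10250
theorem D13164 : act 2 n10250 = n13164 := rfl
theorem F60158 : act 8 n13164 = n10256 := d22_2 (iv F47530) D13164 (iv D10256)
def n13165 : Q := act 6 n10250
theorem D13165 : act 6 n10250 = n13165 := rfl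
theorem F60159 : act 1 n13165 = n10281 := d13_1 D13165 (iv D10281) (iv F47528)
theorem F60160 : act 3 n13165 = n10251 := d26_1 D13165 (iv D10251) D10250
theorem F60162 : act 8 n13165 = n10257 := d40_2 (iv F47530) D13165 (iv D10257)
def n13166 : Q := act 5 n10251
theorem D13166 : act 5 n10251 = n13166 := rfl
theorem F60163 : act 1 n13166 = n10282 := d12_1 D13166 (iv D10282) (iv F47531)
def n13167 : Q := act 7 n10251
theorem D13167 : act 7 n10251 = n13167 := rfl
theorem F60164 : act 1 n13167 = n10283 := d14_1 D13167 (iv D10283) (iv F47531)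
theorem F60165 : act 4 n13167 = n10252 := d32_1 D13167 (iv D10252) (iv F47532)
theorem F60166 : act 8 n13167 = n10259 := d42_2 (iv F47533) D13167 (iv D10259)
def n13168 : Q := act 2 n10253
theorem D13168 : act 2 n10253 = n13168 := rfl
theorem F60168 : act 5 n13168 = n10596 := d19_2 (iv F47539) D13168 (iv D10596)
theorem F60169 : act 7 n13168 = n10256 := d21_2 (iv F47540) D13168 (iv D10256)
theorem F60170 : act 9 n13168 = n10425 := d23_2 (iv F47541) D13168 (iv D10425)
def n13169 : Q := act 6 n10253
theorem D13169 : act 6 n10253 = n13169 := rfl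
def n13170 : Q := act 5 n10254
theorem D13170 : act 5 n10254 = n13170 := rfl
theorem F60177 : act 6 n13170 = n10598 := d35_2 D10254 D13170 (iv D10598) (iv D8306) (iv F37912)
def n13171 : Q := act 7 n10254
theorem D13171 : act 7 n10254 = n13171 := rfl
theorem F60179 : act 1 n13171 = n10287 := d14_1 D13171 (iv D10287) (iv F47542)
theorem F60180 : act 4 n13171 = n10255 := d32_1 D13171 (iv D10255) (iv F47543)
theorem F60181 : act 6 n13171 = n10259 := d39_1 D13171 (iv D10259) (iv D8054) (iv F37913) D10254
theorem F60182 : act 9 n13171 = n10428 := d43_2 (iv F47544) D13171 (iv D10428)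
def n13172 : Q := act 1 n10256
theorem D13172 : act 1 n10256 = n13172 := rfl
theorem F60185 : act 5 n13172 = n10600 := d12_2 (iv F47551) D13172 (iv D10600)
theorem F60186 : act 9 n13172 = n10429 := d16_2 (iv F47552) D13172 (iv D10429)
def n13173 : Q := act 6 n10256
theorem D13173 : act 6 n10256 = n13173 := rfl
theorem F60187 : act 2 n13173 = n10257 := d20_1 D13173 (iv D10257) D10256
def n13174 : Q := act 5 n10257
theorem D13174 : act 5 n10257 = n13174 := rfl
theorem F60192 : act 6 n13174 = n10602 := d35_2 D10257 D13174 (iv D10602) (iv D8309) (iv F37921)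
def n13175 : Q := act 7 n10257
theorem D13175 : act 7 n10257 = n13175 := rfl
theorem F60194 : act 1 n13175 = n10291 := d14_1 D13175 (iv D10291) (iv F47553)
theorem F60195 : act 3 n13175 = n10259 := d27_1 D13175 (iv D10259) (iv F47554)
def n13176 : Q := act 7 n10258
theorem D13176 : act 7 n10258 = n13176 := rfl
theorem F60198 : act 1 n13176 = n10292 := d14_1 D13176 (iv D10292) (iv F47557)
theorem F60200 : act 5 n13176 = n10259 := d36_1 D13176 (iv D10259) D10258
def n13177 : Q := act 8 n10258
theorem D13177 : act 8 n10258 = n13177 := rfl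
theorem F60202 : act 1 n13177 = n10293 := d15_1 D13177 (iv D10293) (iv F47557)
def n13184 : Q := act 8 n10263
theorem D13184 : act 8 n10263 = n13184 := rfl
theorem F60229 : act 1 n13184 = n10298 := d15_1 D13184 (iv D10298) (iv F47577)
theorem F60230 : act 7 n13184 = n10264 := d42_1 D13184 (iv D10264) D10263
def n13185 : Q := act 9 n10264
theorem D13185 : act 9 n10264 = n13185 := rfl
theorem F60231 : act 1 n13185 = n10299 := d16_1 D13185 (iv D10299) (iv F47580)
def n13186 : Q := act 3 n10265
theorem D13186 : act 3 n10265 = n13186 := rfl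
theorem F60234 : act 0 n13186 = n13186 := d2_1 D13186 (iv D13186) F47582
theorem F60235 : act 4 n13186 = n10347 := d24_2 D10265 D13186 (iv D10347) (iv D8117) (iv F37948)
theorem F60236 : act 5 n13186 = n10274 := d25_2 (iv F47584) D13186 (iv D10274)
theorem F60237 : act 7 n13186 = n10267 := d27_2 (iv F47585) D13186 (iv D10267)
theorem F60238 : act 8 n13186 = n10617 := d28_2 (iv F47586) D13186 (iv D10617)
theorem F60239 : act 9 n13186 = n10310 := d29_2 (iv F47587) D13186 (iv D10310)
def n13187 : Q := act 6 n10265
theorem D13187 : act 6 n10265 = n13187 := rfl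
theorem F60240 : act 0 n13187 = n13187 := d5_1 D13187 (iv D13187) F47582
theorem F60241 : act 2 n13187 = n10301 := d20_1 D13187 (iv D10301) (iv F47583)
theorem F60242 : act 4 n13187 = n10266 := d31_1 D13187 (iv D10266) D10265
theorem F60243 : act 8 n13187 = n10618 := d40_2 (iv F47586) D13187 (iv D10618)
theorem F60244 : act 9 n13187 = n10311 := d41_2 (iv F47587) D13187 (iv D10311)
def n13188 : Q := act 7 n10266
theorem D13188 : act 7 n10266 = n13188 := rfl
theorem F60245 : act 0 n13188 = n13188 := d6_1 D13188 (iv D13188) F47588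
theorem F60246 : act 2 n13188 = n10302 := d21_1 D13188 (iv D10302) (iv F47589)
theorem F60247 : act 3 n13188 = n10349 := d27_1 D13188 (iv D10349) (iv F47590)
theorem F60248 : act 5 n13188 = n10315 := d36_1 D13188 (iv D10315) (iv F47591)
theorem F60249 : act 6 n13188 = n10269 := d39_1 D13188 (iv D10269) (iv D8062) (iv F37949) D10266
theorem F60250 : act 8 n13188 = n10619 := d42_2 (iv F47592) D13188 (iv D10619)
theorem F60251 : act 9 n13188 = n10312 := d43_2 (iv F47593) D13188 (iv D10312)
def n13189 : Q := act 2 n10267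
theorem D13189 : act 2 n10267 = n13189 := rfl
theorem F60252 : act 0 n13189 = n13189 := d1_1 D13189 (iv D13189) F47594
theorem F60253 : act 3 n13189 = n10306 := d17_2 D10267 D13189 (iv D10306) (iv D8087) (iv F37953)
theorem F60254 : act 5 n13189 = n10280 := d19_2 (iv F47595) D13189 (iv D10280)
theorem F60255 : act 8 n13189 = n10620 := d22_2 (iv F47596) D13189 (iv D10620)
def n13190 : Q := act 6 n10267
theorem D13190 : act 6 n10267 = n13190 := rfl
theorem F60256 : act 0 n13190 = n13190 := d5_1 D13190 (iv D13190) F47594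
theorem F60257 : act 3 n13190 = n10268 := d26_1 D13190 (iv D10268) D10267
theorem F60258 : act 8 n13190 = n10621 := d40_2 (iv F47596) D13190 (iv D10621)
def n13191 : Q := act 5 n10268
theorem D13191 : act 5 n10268 = n13191 := rfl
theorem F60259 : act 0 n13191 = n13191 := d4_1 D13191 (iv D13191) F47597
theorem F60260 : act 2 n13191 = n10308 := d19_1 D13191 (iv D10308) (iv F47598)
theorem F60261 : act 6 n13191 = n10282 := d35_2 D10268 D13191 (iv D10282) (iv D8070) (iv F37954)
def n13192 : Q := act 7 n10268
theorem D13192 : act 7 n10268 = n13192 := rfl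
theorem F60262 : act 0 n13192 = n13192 := d6_1 D13192 (iv D13192) F47597
theorem F60263 : act 2 n13192 = n10309 := d21_1 D13192 (iv D10309) (iv F47598)
theorem F60264 : act 4 n13192 = n10269 := d32_1 D13192 (iv D10269) (iv F47599)
theorem F60265 : act 8 n13192 = n10623 := d42_2 (iv F47600) D13192 (iv D10623)
def n13193 : Q := act 3 n10270
theorem D13193 : act 3 n10270 = n13193 := rfl
theorem F60266 : act 0 n13193 = n13193 := d2_1 D13193 (iv D13193) F47604
theorem F60267 : act 4 n13193 = n13193 := d24_2 D10270 D13193 (iv D13193) (iv D10270) F37961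
theorem F60268 : act 5 n13193 = n10313 := d25_2 (iv F47606) D13193 (iv D10313)
theorem F60269 : act 7 n13193 = n10303 := d27_2 (iv F47607) D13193 (iv D10303)
theorem F60270 : act 8 n13193 = n13193 := d28_2 F47608 D13193 (iv D13193)
theorem F60271 : act 9 n13193 = n10300 := d29_2 (iv F47609) D13193 (iv D10300)
def n13194 : Q := act 6 n10270
theorem D13194 : act 6 n10270 = n13194 := rfl
theorem F60272 : act 0 n13194 = n13194 := d5_1 D13194 (iv D13194) F47604
theorem F60273 : act 2 n13194 = n10311 := d20_1 D13194 (iv D10311) (iv F47605)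
theorem F60274 : act 4 n13194 = n10271 := d31_1 D13194 (iv D10271) D10270
theorem F60275 : act 8 n13194 = n13194 := d40_2 F47608 D13194 (iv D13194)
theorem F60276 : act 9 n13194 = n10301 := d41_2 (iv F47609) D13194 (iv D10301)
def n13195 : Q := act 7 n10271
theorem D13195 : act 7 n10271 = n13195 := rfl
theorem F60277 : act 0 n13195 = n13195 := d6_1 D13195 (iv D13195) F47610
theorem F60278 : act 2 n13195 = n10312 := d21_1 D13195 (iv D10312) (iv F47611)
theorem F60279 : act 3 n13195 = n13195 := d27_1 D13195 (iv D13195) F47612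
theorem F60280 : act 5 n13195 = n10276 := d36_1 D13195 (iv D10276) (iv F47613)
theorem F60281 : act 6 n13195 = n10305 := d39_1 D13195 (iv D10305) (iv D8086) (iv F37962) D10271
theorem F60282 : act 8 n13195 = n13195 := d42_2 F47614 D13195 (iv D13195)
theorem F60283 : act 9 n13195 = n10302 := d43_2 (iv F47615) D13195 (iv D10302)
def n13196 : Q := act 3 n10272
theorem D13196 : act 3 n10272 = n13196 := rfl
theorem F60284 : act 0 n13196 = n13196 := d2_1 D13196 (iv D13196) F47616
theorem F60285 : act 4 n13196 = n13196 := d24_2 D10272 D13196 (iv D13196) (iv D10272) F37967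
theorem F60286 : act 5 n13196 = n10310 := d25_2 (iv F47618) D13196 (iv D10310)
theorem F60287 : act 7 n13196 = n10277 := d27_2 (iv F47619) D13196 (iv D10277)
theorem F60288 : act 8 n13196 = n10443 := d28_2 (iv F47620) D13196 (iv D10443)
theorem F60289 : act 9 n13196 = n10274 := d29_2 (iv F47621) D13196 (iv D10274)
def n13197 : Q := act 6 n10272
theorem D13197 : act 6 n10272 = n13197 := rfl
theorem F60290 : act 0 n13197 = n13197 := d5_1 D13197 (iv D13197) F47616
theorem F60291 : act 2 n13197 = n10314 := d20_1 D13197 (iv D10314) (iv F47617)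
theorem F60292 : act 4 n13197 = n10273 := d31_1 D13197 (iv D10273) D10272
theorem F60293 : act 8 n13197 = n10444 := d40_2 (iv F47620) D13197 (iv D10444)
theorem F60294 : act 9 n13197 = n10275 := d41_2 (iv F47621) D13197 (iv D10275)
def n13198 : Q := act 7 n10273
theorem D13198 : act 7 n10273 = n13198 := rfl
theorem F60295 : act 0 n13198 = n13198 := d6_1 D13198 (iv D13198) F47622
theorem F60296 : act 2 n13198 = n10315 := d21_1 D13198 (iv D10315) (iv F47623)
theorem F60297 : act 3 n13198 = n13198 := d27_1 D13198 (iv D13198) F47624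
theorem F60298 : act 5 n13198 = n10302 := d36_1 D13198 (iv D10302) (iv F47625)
theorem F60299 : act 6 n13198 = n10279 := d39_1 D13198 (iv D10279) (iv D8068) (iv F37968) D10273
theorem F60300 : act 8 n13198 = n10445 := d42_2 (iv F47626) D13198 (iv D10445)
theorem F60301 : act 9 n13198 = n10276 := d43_2 (iv F47627) D13198 (iv D10276)
def n13199 : Q := act 2 n10274
theorem D13199 : act 2 n10274 = n13199 := rfl
theorem F60303 : act 3 n13199 = n10316 := d17_2 D10274 D13199 (iv D10316) (iv D8094) (iv F37972)
theorem F60305 : act 7 n13199 = n10280 := d21_2 (iv F47630) D13199 (iv D10280)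
theorem F60306 : act 8 n13199 = n10284 := d22_2 (iv F47631) D13199 (iv D10284)
def n13200 : Q := act 6 n10274
theorem D13200 : act 6 n10274 = n13200 := rfl
theorem F60307 : act 0 n13200 = n13200 := d5_1 D13200 (iv D13200) F47628
theorem F60308 : act 3 n13200 = n10275 := d26_1 D13200 (iv D10275) D10274
theorem F60309 : act 4 n13200 = n13200 := d31_1 D13200 (iv D13200) F47629
theorem F60310 : act 8 n13200 = n10285 := d40_2 (iv F47631) D13200 (iv D10285)
def n13201 : Q := act 5 n10275
theorem D13201 : act 5 n10275 = n13201 := rfl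
theorem F60311 : act 0 n13201 = n13201 := d4_1 D13201 (iv D13201) F47632
theorem F60312 : act 2 n13201 = n10318 := d19_1 D13201 (iv D10318) (iv F47633)
def n13202 : Q := act 7 n10275
theorem D13202 : act 7 n10275 = n13202 := rfl
theorem F60313 : act 0 n13202 = n13202 := d6_1 D13202 (iv D13202) F47632
theorem F60314 : act 2 n13202 = n10319 := d21_1 D13202 (iv D10319) (iv F47633)
theorem F60315 : act 4 n13202 = n10276 := d32_1 D13202 (iv D10276) (iv F47634)
theorem F60316 : act 6 n13202 = n10283 := d39_1 D13202 (iv D10283) (iv D8070) (iv F37973) D10275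
theorem F60317 : act 8 n13202 = n10287 := d42_2 (iv F47635) D13202 (iv D10287)
def n13203 : Q := act 2 n10277
theorem D13203 : act 2 n10277 = n13203 := rfl
theorem F60318 : act 0 n13203 = n13203 := d1_1 D13203 (iv D13203) F47641
theorem F60319 : act 3 n13203 = n10320 := d17_2 D10277 D13203 (iv D10320) (iv D8097) (iv F37980)
theorem F60320 : act 4 n13203 = n13203 := d18_2 F47642 D13203 (iv D13203)
theorem F60321 : act 8 n13203 = n10450 := d22_2 (iv F47643) D13203 (iv D10450)
theorem F60322 : act 9 n13203 = n10280 := d23_2 (iv F47644) D13203 (iv D10280)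
def n13204 : Q := act 6 n10277
theorem D13204 : act 6 n10277 = n13204 := rfl
theorem F60323 : act 0 n13204 = n13204 := d5_1 D13204 (iv D13204) F47641
theorem F60324 : act 3 n13204 = n10278 := d26_1 D13204 (iv D10278) D10277
theorem F60325 : act 4 n13204 = n13204 := d31_1 D13204 (iv D13204) F47642
theorem F60326 : act 8 n13204 = n10451 := d40_2 (iv F47643) D13204 (iv D10451)
theorem F60327 : act 9 n13204 = n10281 := d41_2 (iv F47644) D13204 (iv D10281)
def n13205 : Q := act 5 n10278
theorem D13205 : act 5 n10278 = n13205 := rfl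
theorem F60328 : act 0 n13205 = n13205 := d4_1 D13205 (iv D13205) F47645
theorem F60329 : act 2 n13205 = n10322 := d19_1 D13205 (iv D10322) (iv F47646)
theorem F60330 : act 9 n13205 = n10282 := d38_2 (iv F47649) D13205 (iv D10282)
def n13206 : Q := act 7 n10278
theorem D13206 : act 7 n10278 = n13206 := rfl
theorem F60331 : act 0 n13206 = n13206 := d6_1 D13206 (iv D13206) F47645
theorem F60332 : act 2 n13206 = n10323 := d21_1 D13206 (iv D10323) (iv F47646)
theorem F60333 : act 4 n13206 = n10279 := d32_1 D13206 (iv D10279) (iv F47647)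
theorem F60334 : act 8 n13206 = n10453 := d42_2 (iv F47648) D13206 (iv D10453)
theorem F60335 : act 9 n13206 = n10283 := d43_2 (iv F47649) D13206 (iv D10283)
def n13207 : Q := act 1 n10280
theorem D13207 : act 1 n10280 = n13207 := rfl
theorem F60336 : act 3 n13207 = n10324 := d10_2 (iv F47656) D13207 (iv D10324)
def n13208 : Q := act 6 n10280
theorem D13208 : act 6 n10280 = n13208 := rfl
theorem F60339 : act 0 n13208 = n13208 := d5_1 D13208 (iv D13208) F47655
theorem F60340 : act 2 n13208 = n10281 := d20_1 D13208 (iv D10281) D10280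
theorem F60341 : act 3 n13208 = n10325 := d26_1 D13208 (iv D10325) (iv F47656)
theorem F60342 : act 4 n13208 = n13208 := d31_1 D13208 (iv D13208) F47657
theorem F60343 : act 8 n13208 = n10289 := d40_2 (iv F47658) D13208 (iv D10289)
def n13209 : Q := act 5 n10281
theorem D13209 : act 5 n10281 = n13209 := rfl
theorem F60344 : act 0 n13209 = n13209 := d4_1 D13209 (iv D13209) F47659
theorem F60345 : act 3 n13209 = n10282 := d25_1 D13209 (iv D10282) (iv F47660)
def n13210 : Q := act 7 n10281
theorem D13210 : act 7 n10281 = n13210 := rfl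
theorem F60346 : act 0 n13210 = n13210 := d6_1 D13210 (iv D13210) F47659
theorem F60347 : act 3 n13210 = n10283 := d27_1 D13210 (iv D10283) (iv F47660)
theorem F60348 : act 4 n13210 = n13210 := d32_1 D13210 (iv D13210) F47661
theorem F60349 : act 8 n13210 = n10291 := d42_2 (iv F47662) D13210 (iv D10291)
def n13211 : Q := act 7 n10282
theorem D13211 : act 7 n10282 = n13211 := rfl
theorem F60350 : act 0 n13211 = n13211 := d6_1 D13211 (iv D13211) F47663
theorem F60351 : act 2 n13211 = n10328 := d21_1 D13211 (iv D10328) (iv F47664)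
theorem F60352 : act 5 n13211 = n10283 := d36_1 D13211 (iv D10283) D10282
def n13212 : Q := act 8 n10282
theorem D13212 : act 8 n10282 = n13212 := rfl
theorem F60353 : act 0 n13212 = n13212 := d7_1 D13212 (iv D13212) F47663
theorem F60354 : act 2 n13212 = n10329 := d22_1 D13212 (iv D10329) (iv F47664)
theorem F60355 : act 5 n13212 = n10293 := d37_1 D13212 (iv D10293) (iv D8077) (iv F37994) D10282
def n13213 : Q := act 1 n10284
theorem D13213 : act 1 n10284 = n13213 := rfl
theorem F60358 : act 5 n13213 = n10636 := d12_2 (iv F47672) D13213 (iv D10636)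
theorem F60359 : act 7 n13213 = n10288 := d14_2 (iv F47673) D13213 (iv D10288)
theorem F60360 : act 9 n13213 = n10460 := d16_2 (iv F47674) D13213 (iv D10460)
def n13214 : Q := act 6 n10284
theorem D13214 : act 6 n10284 = n13214 := rfl
theorem F60362 : act 2 n13214 = n10285 := d20_1 D13214 (iv D10285) D10284
def n13215 : Q := act 5 n10285
theorem D13215 : act 5 n10285 = n13215 := rfl
theorem F60368 : act 6 n13215 = n10638 := d35_2 D10285 D13215 (iv D10638) (iv D8334) (iv F38001)
def n13216 : Q := act 7 n10285
theorem D13216 : act 7 n10285 = n13216 := rfl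
theorem F60370 : act 0 n13216 = n13216 := d6_1 D13216 (iv D13216) F47675
theorem F60371 : act 3 n13216 = n10287 := d27_1 D13216 (iv D10287) (iv F47676)
theorem F60372 : act 4 n13216 = n13216 := d32_1 D13216 (iv D13216) F47677
theorem F60373 : act 6 n13216 = n10291 := d39_1 D13216 (iv D10291) (iv D8076) (iv F38002) D10285
theorem F60374 : act 9 n13216 = n10463 := d43_2 (iv F47678) D13216 (iv D10463)
def n13217 : Q := act 7 n10286
theorem D13217 : act 7 n10286 = n13217 := rfl
theorem F60375 : act 0 n13217 = n13217 := d6_1 D13217 (iv D13217) F47679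
theorem F60377 : act 4 n13217 = n13217 := d32_1 D13217 (iv D13217) F47681
theorem F60378 : act 5 n13217 = n10287 := d36_1 D13217 (iv D10287) D10286
theorem F60379 : act 9 n13217 = n10464 := d43_2 (iv F47683) D13217 (iv D10464)
def n13218 : Q := act 8 n10286
theorem D13218 : act 8 n10286 = n13218 := rfl
theorem F60381 : act 2 n13218 = n10335 := d22_1 D13218 (iv D10335) (iv F47680)
def n13219 : Q := act 0 n10288
theorem D13219 : act 0 n10288 = n13219 := rfl
theorem F60388 : act 9 n13219 = n10466 := d8_2 (iv F47692) D13219 (iv D10466)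
def n13220 : Q := act 6 n10288
theorem D13220 : act 6 n10288 = n13220 := rfl
def n13221 : Q := act 5 n10289
theorem D13221 : act 5 n10289 = n13221 := rfl
theorem F60394 : act 2 n13221 = n10290 := d19_1 D13221 (iv D10290) (iv F47694)
theorem F60395 : act 3 n13221 = n10338 := d25_1 D13221 (iv D10338) (iv F47695)
theorem F60396 : act 6 n13221 = n10644 := d35_2 D10289 D13221 (iv D10644) (iv D8338) (iv F38017)
theorem F60397 : act 9 n13221 = n10468 := d38_2 (iv F47697) D13221 (iv D10468)
def n13222 : Q := act 7 n10289
theorem D13222 : act 7 n10289 = n13222 := rfl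
theorem F60399 : act 2 n13222 = n10291 := d21_1 D13222 (iv D10291) (iv F47694)
theorem F60400 : act 3 n13222 = n10339 := d27_1 D13222 (iv D10339) (iv F47695)
def n13223 : Q := act 4 n10290
theorem D13223 : act 4 n10290 = n13223 := rfl
theorem F60404 : act 3 n13223 = n10294 := d24_1 D13223 (iv D10294) F38034 (iv F38025) (iv F47699)
def n13224 : Q := act 7 n10290
theorem D13224 : act 7 n10290 = n13224 := rfl
theorem F60409 : act 3 n13224 = n10292 := d27_1 D13224 (iv D10292) (iv F47699)
theorem F60410 : act 5 n13224 = n10291 := d36_1 D13224 (iv D10291) D10290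
def n13225 : Q := act 8 n10290
theorem D13225 : act 8 n10290 = n13225 := rfl
theorem F60413 : act 3 n13225 = n10293 := d28_1 D13225 (iv D10293) (iv F47699)
def n13226 : Q := act 6 n10292
theorem D13226 : act 6 n10292 = n13226 := rfl
theorem F60418 : act 7 n13226 = n10649 := d39_2 D10292 D13226 (iv D10649) (iv D8341) (iv F38026)
def n13227 : Q := act 8 n10292
theorem D13227 : act 8 n10292 = n13227 := rfl
theorem F60420 : act 0 n13227 = n13227 := d7_1 D13227 (iv D13227) F47706
theorem F60421 : act 2 n13227 = n10343 := d22_1 D13227 (iv D10343) (iv F47707)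
theorem F60422 : act 4 n13227 = n10298 := d33_1 D13227 (iv D10298) (iv F47708)
theorem F60423 : act 7 n13227 = n10293 := d42_1 D13227 (iv D10293) D10292
def n13228 : Q := act 9 n10293
theorem D13228 : act 9 n10293 = n13228 := rfl
theorem F60424 : act 0 n13228 = n13228 := d8_1 D13228 (iv D13228) F47711
theorem F60425 : act 2 n13228 = n10344 := d23_1 D13228 (iv D10344) (iv F47712)
theorem F60426 : act 4 n13228 = n10299 := d34_1 D13228 (iv D10299) (iv F47713)
theorem F60428 : act 8 n13228 = n10475 := d44_1 D13228 (iv D10475) (iv D8207) (iv F38027) D10293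
def n13230 : Q := act 8 n10294
theorem D13230 : act 8 n10294 = n13230 := rfl
theorem F60436 : act 4 n13230 = n10296 := d33_1 D13230 (iv D10296) D10294
def n13232 : Q := act 8 n10295
theorem D13232 : act 8 n10295 = n13232 := rfl
theorem F60446 : act 3 n13232 = n10298 := d28_1 D13232 (iv D10298) (iv F47722)
theorem F60447 : act 7 n13232 = n10296 := d42_1 D13232 (iv D10296) D10295
def n13233 : Q := act 9 n10296
theorem D13233 : act 9 n10296 = n13233 := rfl
theorem F60450 : act 3 n13233 = n10299 := d29_1 D13233 (iv D10299) (iv F47727)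
def n13234 : Q := act 8 n10297
theorem D13234 : act 8 n10297 = n13234 := rfl
theorem F60454 : act 2 n13234 = n10345 := d22_1 D13234 (iv D10345) (iv F47730)
theorem F60455 : act 6 n13234 = n10298 := d40_1 D13234 (iv D10298) D10297
def n13235 : Q := act 9 n10298
theorem D13235 : act 9 n10298 = n13235 := rfl
theorem F60457 : act 0 n13235 = n13235 := d8_1 D13235 (iv D13235) F47734
theorem F60458 : act 2 n13235 = n10346 := d23_1 D13235 (iv D10346) (iv F47735)
theorem F60459 : act 7 n13235 = n10299 := d43_1 D13235 (iv D10299) (iv F47736)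
theorem F60460 : act 8 n13235 = n10482 := d44_1 D13235 (iv D10482) (iv D8212) (iv F38046) D10298
def n13236 : Q := act 2 n10300
theorem D13236 : act 2 n10300 = n13236 := rfl
theorem F60464 : act 7 n13236 = n10306 := d21_2 (iv F47744) D13236 (iv D10306)
theorem F60465 : act 8 n13236 = n10662 := d22_2 (iv F47745) D13236 (iv D10662)
def n13237 : Q := act 6 n10300
theorem D13237 : act 6 n10300 = n13237 := rfl
theorem F60466 : act 0 n13237 = n13237 := d5_1 D13237 (iv D13237) F47741
theorem F60467 : act 3 n13237 = n10301 := d26_1 D13237 (iv D10301) D10300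
theorem F60468 : act 4 n13237 = n13237 := d31_1 D13237 (iv D13237) F47742
def n13238 : Q := act 5 n10301
theorem D13238 : act 5 n10301 = n13238 := rfl
theorem F60470 : act 0 n13238 = n13238 := d4_1 D13238 (iv D13238) F47746
theorem F60471 : act 6 n13238 = n10318 := d35_2 D10301 D13238 (iv D10318) (iv D8095) (iv F38051)
def n13239 : Q := act 7 n10301
theorem D13239 : act 7 n10301 = n13239 := rfl
theorem F60472 : act 0 n13239 = n13239 := d6_1 D13239 (iv D13239) F47746
theorem F60473 : act 4 n13239 = n10302 := d32_1 D13239 (iv D10302) (iv F47747)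
theorem F60474 : act 6 n13239 = n10309 := d39_1 D13239 (iv D10309) (iv D8088) (iv F38052) D10301
theorem F60475 : act 8 n13239 = n10665 := d42_2 (iv F47748) D13239 (iv D10665)
def n13240 : Q := act 2 n10303
theorem D13240 : act 2 n10303 = n13240 := rfl
theorem F60476 : act 0 n13240 = n13240 := d1_1 D13240 (iv D13240) F47753
theorem F60477 : act 4 n13240 = n13240 := d18_2 F47754 D13240 (iv D13240)
theorem F60478 : act 5 n13240 = n10320 := d19_2 (iv F47755) D13240 (iv D10320)
theorem F60479 : act 8 n13240 = n13240 := d22_2 F47756 D13240 (iv D13240)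
theorem F60480 : act 9 n13240 = n10306 := d23_2 (iv F47757) D13240 (iv D10306)
def n13241 : Q := act 6 n10303
theorem D13241 : act 6 n10303 = n13241 := rfl
theorem F60481 : act 0 n13241 = n13241 := d5_1 D13241 (iv D13241) F47753
theorem F60482 : act 3 n13241 = n10304 := d26_1 D13241 (iv D10304) D10303
theorem F60483 : act 4 n13241 = n13241 := d31_1 D13241 (iv D13241) F47754
theorem F60484 : act 8 n13241 = n13241 := d40_2 F47756 D13241 (iv D13241)
theorem F60485 : act 9 n13241 = n10307 := d41_2 (iv F47757) D13241 (iv D10307)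
def n13242 : Q := act 5 n10304
theorem D13242 : act 5 n10304 = n13242 := rfl
theorem F60486 : act 0 n13242 = n13242 := d4_1 D13242 (iv D13242) F47758
theorem F60487 : act 6 n13242 = n10322 := d35_2 D10304 D13242 (iv D10322) (iv D8098) (iv F38058)
theorem F60488 : act 9 n13242 = n10308 := d38_2 (iv F47761) D13242 (iv D10308)
def n13243 : Q := act 7 n10304
theorem D13243 : act 7 n10304 = n13243 := rfl
theorem F60489 : act 0 n13243 = n13243 := d6_1 D13243 (iv D13243) F47758
theorem F60490 : act 4 n13243 = n10305 := d32_1 D13243 (iv D10305) (iv F47759)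
theorem F60491 : act 8 n13243 = n13243 := d42_2 F47760 D13243 (iv D13243)
theorem F60492 : act 9 n13243 = n10309 := d43_2 (iv F47761) D13243 (iv D10309)
def n13244 : Q := act 1 n10306
theorem D13244 : act 1 n10306 = n13244 := rfl
theorem F60495 : act 8 n13244 = n10666 := d15_2 (iv F47769) D13244 (iv D10666)
def n13245 : Q := act 6 n10306
theorem D13245 : act 6 n10306 = n13245 := rfl
theorem F60496 : act 0 n13245 = n13245 := d5_1 D13245 (iv D13245) F47766
theorem F60497 : act 2 n13245 = n10307 := d20_1 D13245 (iv D10307) D10306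
theorem F60498 : act 4 n13245 = n13245 := d31_1 D13245 (iv D13245) F47767
theorem F60499 : act 8 n13245 = n10667 := d40_2 (iv F47769) D13245 (iv D10667)
def n13246 : Q := act 5 n10307
theorem D13246 : act 5 n10307 = n13246 := rfl
theorem F60500 : act 0 n13246 = n13246 := d4_1 D13246 (iv D13246) F47770
theorem F60501 : act 3 n13246 = n10308 := d25_1 D13246 (iv D10308) (iv F47771)
theorem F60502 : act 6 n13246 = n10326 := d35_2 D10307 D13246 (iv D10326) (iv D8101) (iv F38067)
def n13247 : Q := act 7 n10307
theorem D13247 : act 7 n10307 = n13247 := rfl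
theorem F60503 : act 0 n13247 = n13247 := d6_1 D13247 (iv D13247) F47770
theorem F60504 : act 3 n13247 = n10309 := d27_1 D13247 (iv D10309) (iv F47771)
theorem F60505 : act 4 n13247 = n13247 := d32_1 D13247 (iv D13247) F47772
theorem F60506 : act 8 n13247 = n10669 := d42_2 (iv F47773) D13247 (iv D10669)
def n13248 : Q := act 7 n10308
theorem D13248 : act 7 n10308 = n13248 := rfl
theorem F60507 : act 0 n13248 = n13248 := d6_1 D13248 (iv D13248) F47774
theorem F60508 : act 5 n13248 = n10309 := d36_1 D13248 (iv D10309) D10308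
def n13249 : Q := act 8 n10308
theorem D13249 : act 8 n10308 = n13249 := rfl
theorem F60509 : act 0 n13249 = n13249 := d7_1 D13249 (iv D13249) F47774
theorem F60510 : act 5 n13249 = n10671 := d37_1 D13249 (iv D10671) (iv D8356) (iv F38071) D10308
theorem F60511 : act 6 n13249 = n10329 := d40_1 D13249 (iv D10329) (iv F47775)
def n13250 : Q := act 2 n10310
theorem D13250 : act 2 n10310 = n13250 := rfl
theorem F60512 : act 0 n13250 = n13250 := d1_1 D13250 (iv D13250) F47779
theorem F60513 : act 4 n13250 = n10350 := d18_2 (iv F47780) D13250 (iv D10350)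
theorem F60514 : act 8 n13250 = n13250 := d22_2 F47781 D13250 (iv D13250)
def n13251 : Q := act 6 n10310
theorem D13251 : act 6 n10310 = n13251 := rfl
theorem F60515 : act 0 n13251 = n13251 := d5_1 D13251 (iv D13251) F47779
theorem F60516 : act 3 n13251 = n10311 := d26_1 D13251 (iv D10311) D10310
theorem F60517 : act 4 n13251 = n10351 := d31_1 D13251 (iv D10351) (iv F47780)
theorem F60518 : act 8 n13251 = n13251 := d40_2 F47781 D13251 (iv D13251)
def n13252 : Q := act 5 n10311
theorem D13252 : act 5 n10311 = n13252 := rfl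
theorem F60519 : act 0 n13252 = n13252 := d4_1 D13252 (iv D13252) F47782
theorem F60520 : act 4 n13252 = n10318 := d30_1 D13252 (iv D10318) F38094 (iv F38079) (iv F47783)
def n13253 : Q := act 7 n10311
theorem D13253 : act 7 n10311 = n13253 := rfl
theorem F60521 : act 0 n13253 = n13253 := d6_1 D13253 (iv D13253) F47782
theorem F60522 : act 4 n13253 = n10312 := d32_1 D13253 (iv D10312) (iv F47783)
theorem F60523 : act 8 n13253 = n13253 := d42_2 F47784 D13253 (iv D13253)
def n13255 : Q := act 6 n10313
theorem D13255 : act 6 n10313 = n13255 := rfl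
theorem F60530 : act 3 n13255 = n10314 := d26_1 D13255 (iv D10314) D10313
theorem F60533 : act 9 n13255 = n10317 := d41_2 (iv F47793) D13255 (iv D10317)
def n13256 : Q := act 5 n10314
theorem D13256 : act 5 n10314 = n13256 := rfl
theorem F60534 : act 0 n13256 = n13256 := d4_1 D13256 (iv D13256) F47794
theorem F60535 : act 9 n13256 = n10318 := d38_2 (iv F47797) D13256 (iv D10318)
def n13257 : Q := act 7 n10314
theorem D13257 : act 7 n10314 = n13257 := rfl
theorem F60536 : act 0 n13257 = n13257 := d6_1 D13257 (iv D13257) F47794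
theorem F60537 : act 4 n13257 = n10315 := d32_1 D13257 (iv D10315) (iv F47795)
theorem F60538 : act 6 n13257 = n10323 := d39_1 D13257 (iv D10323) (iv D8098) (iv F38082) D10314
theorem F60539 : act 8 n13257 = n10486 := d42_2 (iv F47796) D13257 (iv D10486)
theorem F60540 : act 9 n13257 = n10319 := d43_2 (iv F47797) D13257 (iv D10319)
def n13258 : Q := act 1 n10316
theorem D13258 : act 1 n10316 = n13258 := rfl
theorem F60543 : act 8 n13258 = n10330 := d15_2 (iv F47806) D13258 (iv D10330)
def n13259 : Q := act 6 n10316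
theorem D13259 : act 6 n10316 = n13259 := rfl
theorem F60547 : act 8 n13259 = n10331 := d40_2 (iv F47806) D13259 (iv D10331)
def n13260 : Q := act 5 n10317
theorem D13260 : act 5 n10317 = n13260 := rfl
theorem F60549 : act 3 n13260 = n10318 := d25_1 D13260 (iv D10318) (iv F47808)
def n13261 : Q := act 7 n10317
theorem D13261 : act 7 n10317 = n13261 := rfl
theorem F60554 : act 8 n13261 = n10333 := d42_2 (iv F47810) D13261 (iv D10333)
def n13262 : Q := act 7 n10318
theorem D13262 : act 7 n10318 = n13262 := rfl
theorem F60555 : act 0 n13262 = n13262 := d6_1 D13262 (iv D13262) F47811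
theorem F60556 : act 5 n13262 = n10319 := d36_1 D13262 (iv D10319) D10318
def n13263 : Q := act 8 n10318
theorem D13263 : act 8 n10318 = n13263 := rfl
theorem F60558 : act 5 n13263 = n10335 := d37_1 D13263 (iv D10335) (iv D8106) (iv F38095) D10318
def n13264 : Q := act 1 n10320
theorem D13264 : act 1 n10320 = n13264 := rfl
theorem F60560 : act 8 n13264 = n10493 := d15_2 (iv F47818) D13264 (iv D10493)
theorem F60561 : act 9 n13264 = n10324 := d16_2 (iv F47819) D13264 (iv D10324)
def n13265 : Q := act 6 n10320
theorem D13265 : act 6 n10320 = n13265 := rfl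
theorem F60562 : act 0 n13265 = n13265 := d5_1 D13265 (iv D13265) F47816
theorem F60563 : act 2 n13265 = n10321 := d20_1 D13265 (iv D10321) D10320
theorem F60564 : act 4 n13265 = n10365 := d31_1 D13265 (iv D10365) (iv F47817)
theorem F60565 : act 8 n13265 = n10494 := d40_2 (iv F47818) D13265 (iv D10494)
theorem F60566 : act 9 n13265 = n10325 := d41_2 (iv F47819) D13265 (iv D10325)
def n13266 : Q := act 5 n10321
theorem D13266 : act 5 n10321 = n13266 := rfl
theorem F60567 : act 0 n13266 = n13266 := d4_1 D13266 (iv D13266) F47820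
theorem F60568 : act 3 n13266 = n10322 := d25_1 D13266 (iv D10322) (iv F47821)
theorem F60569 : act 9 n13266 = n10326 := d38_2 (iv F47824) D13266 (iv D10326)
def n13267 : Q := act 7 n10321
theorem D13267 : act 7 n10321 = n13267 := rfl
theorem F60570 : act 0 n13267 = n13267 := d6_1 D13267 (iv D13267) F47820
theorem F60571 : act 3 n13267 = n10323 := d27_1 D13267 (iv D10323) (iv F47821)
theorem F60572 : act 4 n13267 = n10367 := d32_1 D13267 (iv D10367) (iv F47822)
theorem F60573 : act 8 n13267 = n10496 := d42_2 (iv F47823) D13267 (iv D10496)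
theorem F60574 : act 9 n13267 = n10327 := d43_2 (iv F47824) D13267 (iv D10327)
def n13268 : Q := act 7 n10322
theorem D13268 : act 7 n10322 = n13268 := rfl
theorem F60575 : act 0 n13268 = n13268 := d6_1 D13268 (iv D13268) F47825
theorem F60576 : act 5 n13268 = n10323 := d36_1 D13268 (iv D10323) D10322
theorem F60577 : act 9 n13268 = n10328 := d43_2 (iv F47826) D13268 (iv D10328)
def n13269 : Q := act 8 n10322
theorem D13269 : act 8 n10322 = n13269 := rfl
theorem F60578 : act 0 n13269 = n13269 := d7_1 D13269 (iv D13269) F47825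
theorem F60579 : act 5 n13269 = n10498 := d37_1 D13269 (iv D10498) (iv D8223) (iv F38106) D10322
def n13270 : Q := act 0 n10324
theorem D13270 : act 0 n10324 = n13270 := rfl
def n13271 : Q := act 6 n10324
theorem D13271 : act 6 n10324 = n13271 := rfl
theorem F60583 : act 1 n13271 = n10325 := d13_1 D13271 (iv D10325) D10324
theorem F60584 : act 4 n13271 = n10371 := d31_1 D13271 (iv D10371) (iv F47831)
theorem F60585 : act 8 n13271 = n10337 := d40_2 (iv F47832) D13271 (iv D10337)
def n13272 : Q := act 5 n10325
theorem D13272 : act 5 n10325 = n13272 := rfl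
theorem F60586 : act 0 n13272 = n13272 := d4_1 D13272 (iv D13272) F47833
theorem F60587 : act 2 n13272 = n10326 := d19_1 D13272 (iv D10326) (iv F47834)
def n13273 : Q := act 7 n10325
theorem D13273 : act 7 n10325 = n13273 := rfl
theorem F60588 : act 0 n13273 = n13273 := d6_1 D13273 (iv D13273) F47833
theorem F60589 : act 2 n13273 = n10327 := d21_1 D13273 (iv D10327) (iv F47834)
theorem F60591 : act 8 n13273 = n10339 := d42_2 (iv F47836) D13273 (iv D10339)
def n13274 : Q := act 4 n10326
theorem D13274 : act 4 n10326 = n13274 := rfl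
theorem F60592 : act 0 n13274 = n13274 := d3_1 D13274 (iv D13274) F47837
theorem F60593 : act 5 n13274 = n10374 := d30_2 D10326 D13274 (iv D10374) (iv D8135) (iv F38117)
def n13275 : Q := act 7 n10326
theorem D13275 : act 7 n10326 = n13275 := rfl
theorem F60594 : act 0 n13275 = n13275 := d6_1 D13275 (iv D13275) F47837
theorem F60595 : act 3 n13275 = n10328 := d27_1 D13275 (iv D10328) (iv F47838)
theorem F60596 : act 5 n13275 = n10327 := d36_1 D13275 (iv D10327) D10326
def n13276 : Q := act 8 n10326
theorem D13276 : act 8 n10326 = n13276 := rfl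
theorem F60597 : act 0 n13276 = n13276 := d7_1 D13276 (iv D13276) F47837
theorem F60598 : act 3 n13276 = n10329 := d28_1 D13276 (iv D10329) (iv F47838)
theorem F60599 : act 5 n13276 = n10341 := d37_1 D13276 (iv D10341) (iv D8110) (iv F38118) D10326
def n13277 : Q := act 6 n10328
theorem D13277 : act 6 n10328 = n13277 := rfl
theorem F60600 : act 0 n13277 = n13277 := d5_1 D13277 (iv D13277) F47843
def n13278 : Q := act 8 n10328
theorem D13278 : act 8 n10328 = n13278 := rfl
theorem F60601 : act 0 n13278 = n13278 := d7_1 D13278 (iv D13278) F47843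
theorem F60602 : act 5 n13278 = n10343 := d37_1 D13278 (iv D10343) F38158 (iv F38122) (iv F47844)
theorem F60603 : act 7 n13278 = n10329 := d42_1 D13278 (iv D10329) D10328
def n13279 : Q := act 9 n10329
theorem D13279 : act 9 n10329 = n13279 := rfl
theorem F60604 : act 0 n13279 = n13279 := d8_1 D13279 (iv D13279) F47845
theorem F60605 : act 5 n13279 = n10344 := d38_1 D13279 (iv D10344) (iv F47846)
def n13282 : Q := act 5 n10331
theorem D13282 : act 5 n10331 = n13282 := rfl
theorem F60616 : act 6 n13282 = n10693 := d35_2 D10331 D13282 (iv D10693) (iv D8372) (iv F38125)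
def n13283 : Q := act 7 n10331
theorem D13283 : act 7 n10331 = n13283 := rfl
theorem F60619 : act 2 n13283 = n10333 := d21_1 D13283 (iv D10333) (iv F47852)
theorem F60621 : act 6 n13283 = n10339 := d39_1 D13283 (iv D10339) (iv D8109) (iv F38126) D10331
def n13285 : Q := act 7 n10332
theorem D13285 : act 7 n10332 = n13285 := rfl
theorem F60630 : act 5 n13285 = n10333 := d36_1 D13285 (iv D10333) D10332
def n13286 : Q := act 8 n10332
theorem D13286 : act 8 n10332 = n13286 := rfl
theorem F60633 : act 3 n13286 = n10335 := d28_1 D13286 (iv D10335) (iv F47856)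
theorem F60634 : act 6 n13286 = n10697 := d40_1 D13286 (iv D10697) (iv F47857)
def n13287 : Q := act 6 n10334
theorem D13287 : act 6 n10334 = n13287 := rfl
theorem F60638 : act 7 n13287 = n10698 := d39_2 D10334 D13287 (iv D10698) (iv D8375) (iv F38134)
def n13291 : Q := act 5 n10337
theorem D13291 : act 5 n10337 = n13291 := rfl
theorem F60653 : act 6 n13291 = n10702 := d35_2 D10337 D13291 (iv D10702) (iv D8378) (iv F38141)
theorem F60654 : act 9 n13291 = n10520 := d38_2 (iv F47877) D13291 (iv D10520)
def n13292 : Q := act 7 n10337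
theorem D13292 : act 7 n10337 = n13292 := rfl
theorem F60655 : act 1 n13292 = n10339 := d14_1 D13292 (iv D10339) (iv F47875)
def n13293 : Q := act 7 n10338
theorem D13293 : act 7 n10338 = n13293 := rfl
theorem F60659 : act 2 n13293 = n10340 := d21_1 D13293 (iv D10340) (iv F47879)
theorem F60661 : act 5 n13293 = n10339 := d36_1 D13293 (iv D10339) D10338
theorem F60662 : act 9 n13293 = n10522 := d43_2 (iv F47882) D13293 (iv D10522)
def n13294 : Q := act 8 n10338
theorem D13294 : act 8 n10338 = n13294 := rfl
theorem F60664 : act 2 n13294 = n10341 := d22_1 D13294 (iv D10341) (iv F47879)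
def n13295 : Q := act 6 n10340
theorem D13295 : act 6 n10340 = n13295 := rfl
theorem F60670 : act 7 n13295 = n10706 := d39_2 D10340 D13295 (iv D10706) (iv D8381) (iv F38150)
def n13296 : Q := act 8 n10340
theorem D13296 : act 8 n10340 = n13296 := rfl
theorem F60672 : act 0 n13296 = n13296 := d7_1 D13296 (iv D13296) F47887
theorem F60673 : act 3 n13296 = n10343 := d28_1 D13296 (iv D10343) (iv F47888)
theorem F60674 : act 4 n13296 = n13296 := d33_1 D13296 (iv D13296) F47889
theorem F60675 : act 7 n13296 = n10341 := d42_1 D13296 (iv D10341) D10340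
def n13297 : Q := act 9 n10341
theorem D13297 : act 9 n10341 = n13297 := rfl
theorem F60676 : act 0 n13297 = n13297 := d8_1 D13297 (iv D13297) F47892
theorem F60677 : act 3 n13297 = n10344 := d29_1 D13297 (iv D10344) (iv F47893)
theorem F60678 : act 4 n13297 = n13297 := d34_1 D13297 (iv D13297) F47894
theorem F60679 : act 6 n13297 = n10708 := d41_1 D13297 (iv D10708) (iv F47895)
theorem F60680 : act 8 n13297 = n10526 := d44_1 D13297 (iv D10526) (iv D8242) (iv F38151) D10341
def n13298 : Q := act 8 n10342
theorem D13298 : act 8 n10342 = n13298 := rfl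
theorem F60682 : act 4 n13298 = n10345 := d33_1 D13298 (iv D10345) (iv F47897)
theorem F60683 : act 6 n13298 = n10343 := d40_1 D13298 (iv D10343) D10342
theorem F60684 : act 7 n13298 = n10709 := d42_1 D13298 (iv D10709) (iv F47898)
def n13299 : Q := act 9 n10343
theorem D13299 : act 9 n10343 = n13299 := rfl
theorem F60685 : act 0 n13299 = n13299 := d8_1 D13299 (iv D13299) F47900
theorem F60686 : act 4 n13299 = n10346 := d34_1 D13299 (iv D10346) (iv F47901)
theorem F60687 : act 7 n13299 = n10344 := d43_1 D13299 (iv D10344) (iv F47902)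
theorem F60688 : act 8 n13299 = n10528 := d44_1 D13299 (iv D10528) (iv D8244) (iv F38159) D10343
def n13300 : Q := act 5 n10345
theorem D13300 : act 5 n10345 = n13300 := rfl
theorem F60689 : act 0 n13300 = n13300 := d4_1 D13300 (iv D13300) F47907
theorem F60690 : act 3 n13300 = n13300 := d25_1 D13300 (iv D13300) F47908
theorem F60692 : act 8 n13300 = n13300 := d37_2 D10345 D13300 (iv D13300) (iv D10345) F38165
def n13301 : Q := act 9 n10345
theorem D13301 : act 9 n10345 = n13301 := rfl
theorem F60693 : act 0 n13301 = n13301 := d8_1 D13301 (iv D13301) F47907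
theorem F60694 : act 3 n13301 = n13301 := d29_1 D13301 (iv D13301) F47908
theorem F60695 : act 6 n13301 = n10346 := d41_1 D13301 (iv D10346) (iv F47909)
theorem F60697 : act 8 n13301 = n10530 := d44_1 D13301 (iv D10530) (iv D8246) (iv F38167) D10345
def n13302 : Q := act 2 n10347
theorem D13302 : act 2 n10347 = n13302 := rfl
theorem F60698 : act 0 n13302 = n13302 := d1_1 D13302 (iv D13302) F47915
theorem F60699 : act 3 n13302 = n13302 := d17_2 D10347 D13302 (iv D13302) (iv D10347) F38176
theorem F60700 : act 5 n13302 = n13302 := d19_2 F47916 D13302 (iv D13302)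
theorem F60701 : act 9 n13302 = n10350 := d23_2 (iv F47917) D13302 (iv D10350)
def n13303 : Q := act 6 n10347
theorem D13303 : act 6 n10347 = n13303 := rfl
theorem F60702 : act 0 n13303 = n13303 := d5_1 D13303 (iv D13303) F47915
theorem F60703 : act 3 n13303 = n10348 := d26_1 D13303 (iv D10348) D10347
theorem F60704 : act 9 n13303 = n10351 := d41_2 (iv F47917) D13303 (iv D10351)
def n13304 : Q := act 5 n10348
theorem D13304 : act 5 n10348 = n13304 := rfl
theorem F60705 : act 0 n13304 = n13304 := d4_1 D13304 (iv D13304) F47918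
theorem F60706 : act 2 n13304 = n13304 := d19_1 D13304 (iv D13304) F47919
theorem F60707 : act 4 n13304 = n10356 := d30_1 D13304 (iv D10356) F38201 (iv F38181) (iv F47920)
theorem F60708 : act 6 n13304 = n13304 := d35_2 D10348 D13304 (iv D13304) (iv D10348) F38177
theorem F60709 : act 8 n13304 = n13304 := d37_2 F52519 D13304 (iv D13304) (iv F52519) F52518
theorem F60710 : act 9 n13304 = n10352 := d38_2 (iv F47921) D13304 (iv D10352)
def n13305 : Q := act 7 n10348
theorem D13305 : act 7 n10348 = n13305 := rfl
theorem F60711 : act 0 n13305 = n13305 := d6_1 D13305 (iv D13305) F47918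
theorem F60712 : act 2 n13305 = n13305 := d21_1 D13305 (iv D13305) F47919
theorem F60713 : act 4 n13305 = n10349 := d32_1 D13305 (iv D10349) (iv F47920)
theorem F60714 : act 9 n13305 = n10353 := d43_2 (iv F47921) D13305 (iv D10353)
def n13306 : Q := act 1 n10350
theorem D13306 : act 1 n10350 = n13306 := rfl
theorem F60715 : act 3 n13306 = n13306 := d10_2 F47927 D13306 (iv D13306)
theorem F60716 : act 5 n13306 = n13306 := d12_2 F47928 D13306 (iv D13306)
theorem F60717 : act 8 n13306 = n13306 := d15_2 F47929 D13306 (iv D13306)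
def n13307 : Q := act 6 n10350
theorem D13307 : act 6 n10350 = n13307 := rfl
theorem F60718 : act 0 n13307 = n13307 := d5_1 D13307 (iv D13307) F47926
theorem F60719 : act 2 n13307 = n10351 := d20_1 D13307 (iv D10351) D10350
theorem F60720 : act 3 n13307 = n13307 := d26_1 D13307 (iv D13307) F47927
theorem F60721 : act 8 n13307 = n13307 := d40_2 F47929 D13307 (iv D13307)
def n13308 : Q := act 5 n10351
theorem D13308 : act 5 n10351 = n13308 := rfl
theorem F60722 : act 0 n13308 = n13308 := d4_1 D13308 (iv D13308) F47930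
theorem F60723 : act 3 n13308 = n10352 := d25_1 D13308 (iv D10352) (iv F47931)
theorem F60724 : act 6 n13308 = n13308 := d35_2 D10351 D13308 (iv D13308) (iv D10351) F38184
def n13309 : Q := act 7 n10351
theorem D13309 : act 7 n10351 = n13309 := rfl
theorem F60725 : act 0 n13309 = n13309 := d6_1 D13309 (iv D13309) F47930
theorem F60726 : act 3 n13309 = n10353 := d27_1 D13309 (iv D10353) (iv F47931)
theorem F60727 : act 8 n13309 = n13309 := d42_2 F47932 D13309 (iv D13309)
def n13310 : Q := act 7 n10352
theorem D13310 : act 7 n10352 = n13310 := rfl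
theorem F60728 : act 0 n13310 = n13310 := d6_1 D13310 (iv D13310) F47933
theorem F60729 : act 2 n13310 = n13310 := d21_1 D13310 (iv D13310) F47934
theorem F60730 : act 4 n13310 = n10362 := d32_1 D13310 (iv D10362) (iv F47935)
theorem F60731 : act 5 n13310 = n10353 := d36_1 D13310 (iv D10353) D10352
def n13311 : Q := act 8 n10352
theorem D13311 : act 8 n10352 = n13311 := rfl
theorem F60734 : act 4 n13311 = n10363 := d33_1 D13311 (iv D10363) (iv F47935)
def n13314 : Q := act 5 n10355
theorem D13314 : act 5 n10355 = n13314 := rfl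
theorem F60751 : act 8 n13314 = n13314 := d37_2 (iv F47949) D13314 (iv D13314) F47949 F38696
def n13315 : Q := act 7 n10355
theorem D13315 : act 7 n10355 = n13315 := rfl
theorem F60755 : act 6 n13315 = n10367 := d39_1 D13315 (iv D10367) (iv D8130) (iv F38196) D10355
def n13316 : Q := act 7 n10356
theorem D13316 : act 7 n10356 = n13316 := rfl
theorem F60758 : act 0 n13316 = n13316 := d6_1 D13316 (iv D13316) F47951
theorem F60759 : act 2 n13316 = n13316 := d21_1 D13316 (iv D13316) F47952
theorem F60760 : act 5 n13316 = n10357 := d36_1 D13316 (iv D10357) D10356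
theorem F60761 : act 8 n13316 = n13316 := d42_2 F47954 D13316 (iv D13316)
theorem F60762 : act 9 n13316 = n10362 := d43_2 (iv F47955) D13316 (iv D10362)
def n13321 : Q := act 4 n10360
theorem D13321 : act 4 n10360 = n13321 := rfl
def n13322 : Q := act 7 n10360
theorem D13322 : act 7 n10360 = n13322 := rfl
theorem F60784 : act 5 n13322 = n10361 := d36_1 D13322 (iv D10361) D10360
def n13324 : Q := act 6 n10362
theorem D13324 : act 6 n10362 = n13324 := rfl
theorem F60790 : act 0 n13324 = n13324 := d5_1 D13324 (iv D13324) F47977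
theorem F60791 : act 2 n13324 = n13324 := d20_1 D13324 (iv D13324) F47978
theorem F60792 : act 5 n13324 = n10376 := d35_1 D13324 (iv D10376) F38259 (iv F38223) (iv F47979)
theorem F60793 : act 7 n13324 = n13324 := d39_2 D10362 D13324 (iv D13324) (iv D10362) F38219
def n13325 : Q := act 8 n10362
theorem D13325 : act 8 n10362 = n13325 := rfl
theorem F60796 : act 5 n13325 = n10384 := d37_1 D13325 (iv D10384) F38280 (iv F38224) (iv F47979)
def n13326 : Q := act 0 n10364
theorem D13326 : act 0 n10364 = n13326 := rfl
theorem F60802 : act 8 n13326 = n10537 := d7_2 (iv F47987) D13326 (iv D10537)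
theorem F60803 : act 9 n13326 = n10370 := d8_2 (iv F47988) D13326 (iv D10370)
def n13327 : Q := act 6 n10364
theorem D13327 : act 6 n10364 = n13327 := rfl
theorem F60804 : act 1 n13327 = n10365 := d13_1 D13327 (iv D10365) D10364
theorem F60806 : act 8 n13327 = n10538 := d40_2 (iv F47987) D13327 (iv D10538)
theorem F60807 : act 9 n13327 = n10371 := d41_2 (iv F47988) D13327 (iv D10371)
def n13328 : Q := act 5 n10365
theorem D13328 : act 5 n10365 = n13328 := rfl
theorem F60808 : act 0 n13328 = n13328 := d4_1 D13328 (iv D13328) F47989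
theorem F60809 : act 2 n13328 = n10366 := d19_1 D13328 (iv D10366) (iv F47990)
theorem F60810 : act 3 n13328 = n13328 := d25_1 D13328 (iv D13328) F47991
theorem F60811 : act 6 n13328 = n13328 := d35_2 D10365 D13328 (iv D13328) (iv D10365) F38227
theorem F60812 : act 9 n13328 = n10372 := d38_2 (iv F47993) D13328 (iv D10372)
def n13329 : Q := act 7 n10365
theorem D13329 : act 7 n10365 = n13329 := rfl
theorem F60817 : act 9 n13329 = n10373 := d43_2 (iv F47993) D13329 (iv D10373)
def n13330 : Q := act 4 n10366
theorem D13330 : act 4 n10366 = n13330 := rfl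
theorem F60818 : act 0 n13330 = n13330 := d3_1 D13330 (iv D13330) F47994
theorem F60819 : act 6 n13330 = n13330 := d31_2 F47996 D13330 (iv D13330)
theorem F60820 : act 9 n13330 = n10374 := d34_2 (iv F47997) D13330 (iv D10374)
def n13331 : Q := act 7 n10366
theorem D13331 : act 7 n10366 = n13331 := rfl
theorem F60821 : act 0 n13331 = n13331 := d6_1 D13331 (iv D13331) F47994
theorem F60822 : act 3 n13331 = n10368 := d27_1 D13331 (iv D10368) (iv F47995)
theorem F60823 : act 5 n13331 = n10367 := d36_1 D13331 (iv D10367) D10366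
theorem F60824 : act 9 n13331 = n10375 := d43_2 (iv F47997) D13331 (iv D10375)
def n13332 : Q := act 8 n10366
theorem D13332 : act 8 n10366 = n13332 := rfl
theorem F60825 : act 0 n13332 = n13332 := d7_1 D13332 (iv D13332) F47994
theorem F60826 : act 3 n13332 = n10369 := d28_1 D13332 (iv D10369) (iv F47995)
theorem F60827 : act 5 n13332 = n10543 := d37_1 D13332 (iv D10543) (iv D8256) (iv F38232) D10366
theorem F60828 : act 6 n13332 = n13332 := d40_1 D13332 (iv D13332) F47996
theorem F60829 : act 9 n13332 = n13332 := d44_2 (iv F47997) D13332 (iv D13332) F47997 F38253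
def n13333 : Q := act 6 n10368
theorem D13333 : act 6 n10368 = n13333 := rfl
theorem F60830 : act 0 n13333 = n13333 := d5_1 D13333 (iv D13333) F48002
theorem F60831 : act 2 n13333 = n13333 := d20_1 D13333 (iv D13333) F48003
theorem F60832 : act 7 n13333 = n13333 := d39_2 D10368 D13333 (iv D13333) (iv D10368) F38236
theorem F60833 : act 9 n13333 = n10376 := d41_2 (iv F48005) D13333 (iv D10376)
def n13334 : Q := act 8 n10368
theorem D13334 : act 8 n10368 = n13334 := rfl
theorem F60834 : act 0 n13334 = n13334 := d7_1 D13334 (iv D13334) F48002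
theorem F60835 : act 2 n13334 = n13334 := d22_1 D13334 (iv D13334) F48003
theorem F60836 : act 5 n13334 = n10544 := d37_1 D13334 (iv D10544) F38735 (iv F38241) (iv F48004)
theorem F60837 : act 7 n13334 = n10369 := d42_1 D13334 (iv D10369) D10368
theorem F60838 : act 9 n13334 = n13334 := d44_2 (iv F48005) D13334 (iv D13334) F48005 F38260
def n13335 : Q := act 6 n10370
theorem D13335 : act 6 n10370 = n13335 := rfl
theorem F60839 : act 0 n13335 = n10371 := d5_1 D13335 (iv D10371) D10370
def n13336 : Q := act 5 n10371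
theorem D13336 : act 5 n10371 = n13336 := rfl
theorem F60843 : act 1 n13336 = n10372 := d12_1 D13336 (iv D10372) (iv F48015)
def n13337 : Q := act 7 n10371
theorem D13337 : act 7 n10371 = n13337 := rfl
theorem F60847 : act 1 n13337 = n10373 := d14_1 D13337 (iv D10373) (iv F48015)
def n13338 : Q := act 4 n10372
theorem D13338 : act 4 n10372 = n13338 := rfl
theorem F60850 : act 0 n13338 = n13338 := d3_1 D13338 (iv D13338) F48018
theorem F60851 : act 2 n13338 = n10374 := d18_1 D13338 (iv D10374) (iv F48019)
theorem F60852 : act 6 n13338 = n13338 := d31_2 F48021 D13338 (iv D13338)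
theorem F60853 : act 8 n13338 = n13338 := d33_2 F48022 D13338 (iv D13338)
def n13339 : Q := act 7 n10372
theorem D13339 : act 7 n10372 = n13339 := rfl
theorem F60857 : act 5 n13339 = n10373 := d36_1 D13339 (iv D10373) D10372
def n13340 : Q := act 7 n10374
theorem D13340 : act 7 n10374 = n13340 := rfl
theorem F60859 : act 0 n13340 = n13340 := d6_1 D13340 (iv D13340) F48027
theorem F60860 : act 4 n13340 = n10375 := d32_1 D13340 (iv D10375) D10374
theorem F60861 : act 8 n13340 = n13340 := d42_2 F48029 D13340 (iv D13340)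
def n13341 : Q := act 6 n10375
theorem D13341 : act 6 n10375 = n13341 := rfl
theorem F60862 : act 0 n13341 = n13341 := d5_1 D13341 (iv D13341) F48030
theorem F60863 : act 3 n13341 = n10376 := d26_1 D13341 (iv D10376) (iv F48031)
theorem F60864 : act 7 n13341 = n13341 := d39_2 D10375 D13341 (iv D13341) (iv D10375) F38252
theorem F60865 : act 8 n13341 = n13341 := d40_2 F48033 D13341 (iv D13341)
def n13358 : Q := act 4 n10392
theorem D13358 : act 4 n10392 = n13358 := rfl
theorem F60944 : act 0 n13358 = n10413 := d3_1 D13358 (iv D10413) (iv F48111)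
theorem F60945 : act 1 n13358 = n13358 := d11_1 D13358 (iv D13358) F48112
theorem F60946 : act 5 n13358 = n13358 := d30_2 D10392 D13358 (iv D13358) (iv D10392) F38331
theorem F60947 : act 7 n13358 = n10395 := d32_2 (iv F48114) D13358 (iv D10395)
theorem F60948 : act 9 n13358 = n10393 := d34_2 (iv F48115) D13358 (iv D10393)
def n13359 : Q := act 6 n10392
theorem D13359 : act 6 n10392 = n13359 := rfl
theorem F60949 : act 0 n13359 = n10414 := d5_1 D13359 (iv D10414) (iv F48111)
theorem F60950 : act 1 n13359 = n13359 := d13_1 D13359 (iv D13359) F48112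
theorem F60951 : act 3 n13359 = n13359 := d26_1 D13359 (iv D13359) F48113
theorem F60952 : act 9 n13359 = n10394 := d41_2 (iv F48115) D13359 (iv D10394)
def n13360 : Q := act 3 n10393
theorem D13360 : act 3 n10393 = n13360 := rfl
theorem F60953 : act 0 n13360 = n10415 := d2_1 D13360 (iv D10415) (iv F48116)
theorem F60957 : act 7 n13360 = n10397 := d27_2 (iv F48119) D13360 (iv D10397)
theorem F60958 : act 8 n13360 = n10400 := d28_2 (iv F48120) D13360 (iv D10400)
def n13361 : Q := act 6 n10393
theorem D13361 : act 6 n10393 = n13361 := rfl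
theorem F60959 : act 0 n13361 = n10416 := d5_1 D13361 (iv D10416) (iv F48116)
theorem F60960 : act 1 n13361 = n13361 := d13_1 D13361 (iv D13361) F48117
theorem F60961 : act 4 n13361 = n10394 := d31_1 D13361 (iv D10394) D10393
theorem F60962 : act 8 n13361 = n10401 := d40_2 (iv F48120) D13361 (iv D10401)
def n13362 : Q := act 7 n10394
theorem D13362 : act 7 n10394 = n13362 := rfl
theorem F60963 : act 0 n13362 = n10417 := d6_1 D13362 (iv D10417) (iv F48121)
theorem F60964 : act 1 n13362 = n13362 := d14_1 D13362 (iv D13362) F48122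
theorem F60965 : act 3 n13362 = n13362 := d27_1 D13362 (iv D13362) F48123
theorem F60966 : act 6 n13362 = n10399 := d39_1 D13362 (iv D10399) (iv D8156) (iv F38337) D10394
theorem F60967 : act 8 n13362 = n10402 := d42_2 (iv F48124) D13362 (iv D10402)
def n13363 : Q := act 3 n10395
theorem D13363 : act 3 n10395 = n13363 := rfl
theorem F60972 : act 9 n13363 = n10397 := d29_2 (iv F48128) D13363 (iv D10397)
def n13364 : Q := act 6 n10395
theorem D13364 : act 6 n10395 = n13364 := rfl
theorem F60973 : act 0 n13364 = n10419 := d5_1 D13364 (iv D10419) (iv F48125)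
theorem F60974 : act 1 n13364 = n13364 := d13_1 D13364 (iv D13364) F48126
theorem F60975 : act 4 n13364 = n10396 := d31_1 D13364 (iv D10396) D10395
theorem F60976 : act 9 n13364 = n10398 := d41_2 (iv F48128) D13364 (iv D10398)
def n13365 : Q := act 7 n10396
theorem D13365 : act 7 n10396 = n13365 := rfl
theorem F60977 : act 0 n13365 = n10420 := d6_1 D13365 (iv D10420) (iv F48129)
theorem F60978 : act 1 n13365 = n13365 := d14_1 D13365 (iv D13365) F48130
theorem F60979 : act 3 n13365 = n13365 := d27_1 D13365 (iv D13365) F48131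
theorem F60980 : act 5 n13365 = n13365 := d36_1 D13365 (iv D13365) F48132
theorem F60981 : act 9 n13365 = n10399 := d43_2 (iv F48133) D13365 (iv D10399)
def n13366 : Q := act 2 n10397
theorem D13366 : act 2 n10397 = n13366 := rfl
theorem F60985 : act 8 n13366 = n10403 := d22_2 (iv F48138) D13366 (iv D10403)
def n13367 : Q := act 6 n10397
theorem D13367 : act 6 n10397 = n13367 := rfl
theorem F60988 : act 3 n13367 = n10398 := d26_1 D13367 (iv D10398) D10397
def n13368 : Q := act 5 n10398
theorem D13368 : act 5 n10398 = n13368 := rfl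
theorem F60991 : act 0 n13368 = n10423 := d4_1 D13368 (iv D10423) (iv F48139)
def n13369 : Q := act 7 n10398
theorem D13369 : act 7 n10398 = n13369 := rfl
theorem F60995 : act 0 n13369 = n10424 := d6_1 D13369 (iv D10424) (iv F48139)
theorem F60996 : act 1 n13369 = n13369 := d14_1 D13369 (iv D13369) F48140
theorem F60997 : act 4 n13369 = n10399 := d32_1 D13369 (iv D10399) (iv F48141)
theorem F60998 : act 8 n13369 = n10406 := d42_2 (iv F48142) D13369 (iv D10406)
def n13370 : Q := act 2 n10400
theorem D13370 : act 2 n10400 = n13370 := rfl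
theorem F61001 : act 5 n13370 = n10754 := d19_2 (iv F48151) D13370 (iv D10754)
theorem F61002 : act 7 n13370 = n10403 := d21_2 (iv F48152) D13370 (iv D10403)
def n13371 : Q := act 6 n10400
theorem D13371 : act 6 n10400 = n13371 := rfl
theorem F61003 : act 0 n13371 = n10426 := d5_1 D13371 (iv D10426) (iv F48148)
theorem F61005 : act 3 n13371 = n10401 := d26_1 D13371 (iv D10401) D10400
def n13372 : Q := act 5 n10401
theorem D13372 : act 5 n10401 = n13372 := rfl
theorem F61010 : act 6 n13372 = n10756 := d35_2 D10401 D13372 (iv D10756) (iv D8422) (iv F38354)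
def n13373 : Q := act 7 n10401
theorem D13373 : act 7 n10401 = n13373 := rfl
theorem F61011 : act 0 n13373 = n10428 := d6_1 D13373 (iv D10428) (iv F48153)
theorem F61012 : act 1 n13373 = n13373 := d14_1 D13373 (iv D13373) F48154
theorem F61013 : act 4 n13373 = n10402 := d32_1 D13373 (iv D10402) (iv F48155)
theorem F61014 : act 6 n13373 = n10406 := d39_1 D13373 (iv D10406) (iv D8160) (iv F38355) D10401
def n13374 : Q := act 1 n10403
theorem D13374 : act 1 n10403 = n13374 := rfl
theorem F61017 : act 5 n13374 = n10758 := d12_2 (iv F48163) D13374 (iv D10758)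
def n13375 : Q := act 6 n10403
theorem D13375 : act 6 n10403 = n13375 := rfl
def n13377 : Q := act 7 n10404
theorem D13377 : act 7 n10404 = n13377 := rfl
theorem F61027 : act 3 n13377 = n10406 := d27_1 D13377 (iv D10406) (iv F48166)
def n13378 : Q := act 7 n10405
theorem D13378 : act 7 n10405 = n13378 := rfl
theorem F61032 : act 5 n13378 = n10406 := d36_1 D13378 (iv D10406) D10405
def n13389 : Q := act 3 n10413
theorem D13389 : act 3 n10413 = n13389 := rfl
theorem F61075 : act 1 n13389 = n10443 := d10_1 D13389 (iv D10443) (iv F48202)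
theorem F61079 : act 9 n13389 = n10415 := d29_2 (iv F48205) D13389 (iv D10415)
def n13390 : Q := act 6 n10413
theorem D13390 : act 6 n10413 = n13390 := rfl
theorem F61080 : act 1 n13390 = n10444 := d13_1 D13390 (iv D10444) (iv F48202)
theorem F61081 : act 4 n13390 = n10414 := d31_1 D13390 (iv D10414) D10413
theorem F61082 : act 9 n13390 = n10416 := d41_2 (iv F48205) D13390 (iv D10416)
def n13391 : Q := act 7 n10414
theorem D13391 : act 7 n10414 = n13391 := rfl
theorem F61083 : act 1 n13391 = n10445 := d14_1 D13391 (iv D10445) (iv F48206)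
theorem F61084 : act 3 n13391 = n13391 := d27_1 D13391 (iv D13391) F48207
theorem F61085 : act 6 n13391 = n10420 := d39_1 D13391 (iv D10420) (iv D8170) (iv F38391) D10414
theorem F61086 : act 9 n13391 = n10417 := d43_2 (iv F48208) D13391 (iv D10417)
def n13392 : Q := act 2 n10415
theorem D13392 : act 2 n10415 = n13392 := rfl
theorem F61089 : act 7 n13392 = n10421 := d21_2 (iv F48212) D13392 (iv D10421)
theorem F61090 : act 8 n13392 = n10425 := d22_2 (iv F48213) D13392 (iv D10425)
def n13393 : Q := act 6 n10415
theorem D13393 : act 6 n10415 = n13393 := rfl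
theorem F61091 : act 1 n13393 = n10447 := d13_1 D13393 (iv D10447) (iv F48209)
theorem F61092 : act 3 n13393 = n10416 := d26_1 D13393 (iv D10416) D10415
theorem F61094 : act 8 n13393 = n10426 := d40_2 (iv F48213) D13393 (iv D10426)
def n13394 : Q := act 5 n10416
theorem D13394 : act 5 n10416 = n13394 := rfl
theorem F61095 : act 1 n13394 = n10448 := d12_1 D13394 (iv D10448) (iv F48214)
theorem F61096 : act 6 n13394 = n13394 := d35_2 D10416 D13394 (iv D13394) (iv D10416) F38394
def n13395 : Q := act 7 n10416
theorem D13395 : act 7 n10416 = n13395 := rfl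
theorem F61097 : act 1 n13395 = n10449 := d14_1 D13395 (iv D10449) (iv F48214)
theorem F61098 : act 4 n13395 = n10417 := d32_1 D13395 (iv D10417) (iv F48215)
theorem F61099 : act 6 n13395 = n10424 := d39_1 D13395 (iv D10424) (iv D8172) (iv F38395) D10416
theorem F61100 : act 8 n13395 = n10428 := d42_2 (iv F48216) D13395 (iv D10428)
def n13396 : Q := act 2 n10418
theorem D13396 : act 2 n10418 = n13396 := rfl
theorem F61103 : act 9 n13396 = n10421 := d23_2 (iv F48224) D13396 (iv D10421)
def n13397 : Q := act 6 n10418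
theorem D13397 : act 6 n10418 = n13397 := rfl
theorem F61104 : act 1 n13397 = n10451 := d13_1 D13397 (iv D10451) (iv F48221)
theorem F61105 : act 3 n13397 = n10419 := d26_1 D13397 (iv D10419) D10418
theorem F61107 : act 9 n13397 = n10422 := d41_2 (iv F48224) D13397 (iv D10422)
def n13398 : Q := act 5 n10419
theorem D13398 : act 5 n10419 = n13398 := rfl
theorem F61108 : act 1 n13398 = n10452 := d12_1 D13398 (iv D10452) (iv F48225)
theorem F61109 : act 4 n13398 = n13398 := d30_1 D13398 (iv D13398) F48226 F38405 (iv F48226)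
theorem F61110 : act 6 n13398 = n13398 := d35_2 D10419 D13398 (iv D13398) (iv D10419) F38401
theorem F61111 : act 9 n13398 = n10423 := d38_2 (iv F48227) D13398 (iv D10423)
def n13399 : Q := act 7 n10419
theorem D13399 : act 7 n10419 = n13399 := rfl
theorem F61112 : act 1 n13399 = n10453 := d14_1 D13399 (iv D10453) (iv F48225)
theorem F61113 : act 4 n13399 = n10420 := d32_1 D13399 (iv D10420) (iv F48226)
theorem F61114 : act 9 n13399 = n10424 := d43_2 (iv F48227) D13399 (iv D10424)
def n13400 : Q := act 1 n10421
theorem D13400 : act 1 n10421 = n13400 := rfl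
theorem F61118 : act 8 n13400 = n10429 := d15_2 (iv F48234) D13400 (iv D10429)
def n13401 : Q := act 6 n10421
theorem D13401 : act 6 n10421 = n13401 := rfl
theorem F61119 : act 2 n13401 = n10422 := d20_1 D13401 (iv D10422) D10421
theorem F61121 : act 8 n13401 = n10430 := d40_2 (iv F48234) D13401 (iv D10430)
def n13402 : Q := act 5 n10422
theorem D13402 : act 5 n10422 = n13402 := rfl
theorem F61122 : act 1 n13402 = n10456 := d12_1 D13402 (iv D10456) (iv F48235)
theorem F61123 : act 3 n13402 = n10423 := d25_1 D13402 (iv D10423) (iv F48236)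
def n13403 : Q := act 7 n10422
theorem D13403 : act 7 n10422 = n13403 := rfl
theorem F61125 : act 1 n13403 = n10457 := d14_1 D13403 (iv D10457) (iv F48235)
theorem F61126 : act 3 n13403 = n10424 := d27_1 D13403 (iv D10424) (iv F48236)
theorem F61128 : act 8 n13403 = n10432 := d42_2 (iv F48238) D13403 (iv D10432)
def n13404 : Q := act 7 n10423
theorem D13404 : act 7 n10423 = n13404 := rfl
theorem F61129 : act 1 n13404 = n10458 := d14_1 D13404 (iv D10458) (iv F48239)
theorem F61130 : act 4 n13404 = n13404 := d32_1 D13404 (iv D13404) F48240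
theorem F61131 : act 5 n13404 = n10424 := d36_1 D13404 (iv D10424) D10423
def n13405 : Q := act 8 n10423
theorem D13405 : act 8 n10423 = n13405 := rfl
theorem F61132 : act 1 n13405 = n10459 := d15_1 D13405 (iv D10459) (iv F48239)
def n13406 : Q := act 1 n10425
theorem D13406 : act 1 n10425 = n13406 := rfl
theorem F61136 : act 2 n13406 = n10460 := d9_2 D10425 D13406 (iv D10460) (iv D8198) (iv F38418)
theorem F61138 : act 5 n13406 = n10773 := d12_2 (iv F48246) D13406 (iv D10773)
theorem F61139 : act 7 n13406 = n10429 := d14_2 (iv F48247) D13406 (iv D10429)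
def n13407 : Q := act 6 n10425
theorem D13407 : act 6 n10425 = n13407 := rfl
def n13408 : Q := act 5 n10426
theorem D13408 : act 5 n10426 = n13408 := rfl
theorem F61144 : act 6 n13408 = n10775 := d35_2 D10426 D13408 (iv D10775) (iv D8435) (iv F38420)
def n13409 : Q := act 7 n10426
theorem D13409 : act 7 n10426 = n13409 := rfl
theorem F61148 : act 6 n13409 = n10432 := d39_1 D13409 (iv D10432) (iv D8178) (iv F38421) D10426
def n13410 : Q := act 7 n10427
theorem D13410 : act 7 n10427 = n13410 := rfl
theorem F61151 : act 5 n13410 = n10428 := d36_1 D13410 (iv D10428) D10427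
def n13411 : Q := act 8 n10427
theorem D13411 : act 8 n10427 = n13411 := rfl
def n13412 : Q := act 0 n10429
theorem D13412 : act 0 n10429 = n13412 := rfl
theorem F61155 : act 2 n13412 = n10466 := d1_2 (iv F48257) D13412 (iv D10466)
theorem F61157 : act 5 n13412 = n10779 := d4_2 (iv F48259) D13412 (iv D10779)
def n13413 : Q := act 6 n10429
theorem D13413 : act 6 n10429 = n13413 := rfl
def n13414 : Q := act 5 n10430
theorem D13414 : act 5 n10430 = n13414 := rfl
theorem F61162 : act 6 n13414 = n10781 := d35_2 D10430 D13414 (iv D10781) (iv D8439) (iv F38429)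
def n13415 : Q := act 7 n10430
theorem D13415 : act 7 n10430 = n13415 := rfl
def n13419 : Q := act 6 n10433
theorem D13419 : act 6 n10433 = n13419 := rfl
theorem F61176 : act 4 n13419 = n10440 := d31_1 D13419 (iv D10440) (iv F48269)
def n13420 : Q := act 8 n10433
theorem D13420 : act 8 n10433 = n13420 := rfl
theorem F61178 : act 1 n13420 = n10474 := d15_1 D13420 (iv D10474) (iv F48268)
def n13421 : Q := act 9 n10434
theorem D13421 : act 9 n10434 = n13421 := rfl
theorem F61181 : act 1 n13421 = n10475 := d16_1 D13421 (iv D10475) (iv F48271)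
def n13423 : Q := act 7 n10435
theorem D13423 : act 7 n10435 = n13423 := rfl
theorem F61189 : act 2 n13423 = n10438 := d21_1 D13423 (iv D10438) (iv F48275)
def n13427 : Q := act 6 n10438
theorem D13427 : act 6 n10438 = n13427 := rfl
theorem F61202 : act 3 n13427 = n10440 := d26_1 D13427 (iv D10440) (iv F48286)
def n13431 : Q := act 9 n10441
theorem D13431 : act 9 n10441 = n13431 := rfl
theorem F61216 : act 1 n13431 = n10482 := d16_1 D13431 (iv D10482) (iv F48295)
def n13432 : Q := act 2 n10443
theorem D13432 : act 2 n10443 = n13432 := rfl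
theorem F61224 : act 9 n13432 = n10446 := d23_2 (iv F48305) D13432 (iv D10446)
def n13433 : Q := act 6 n10443
theorem D13433 : act 6 n10443 = n13433 := rfl
theorem F61225 : act 0 n13433 = n13433 := d5_1 D13433 (iv D13433) F48301
theorem F61226 : act 3 n13433 = n10444 := d26_1 D13433 (iv D10444) D10443
theorem F61227 : act 4 n13433 = n13433 := d31_1 D13433 (iv D13433) F48302
theorem F61228 : act 9 n13433 = n10447 := d41_2 (iv F48305) D13433 (iv D10447)
def n13434 : Q := act 5 n10444
theorem D13434 : act 5 n10444 = n13434 := rfl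
theorem F61229 : act 0 n13434 = n13434 := d4_1 D13434 (iv D13434) F48306
theorem F61230 : act 2 n13434 = n10485 := d19_1 D13434 (iv D10485) (iv F48307)
theorem F61231 : act 6 n13434 = n13434 := d35_2 D10444 D13434 (iv D13434) (iv D10444) F38457
theorem F61232 : act 9 n13434 = n10448 := d38_2 (iv F48309) D13434 (iv D10448)
def n13435 : Q := act 7 n10444
theorem D13435 : act 7 n10444 = n13435 := rfl
theorem F61233 : act 0 n13435 = n13435 := d6_1 D13435 (iv D13435) F48306
theorem F61234 : act 2 n13435 = n10486 := d21_1 D13435 (iv D10486) (iv F48307)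
theorem F61235 : act 4 n13435 = n10445 := d32_1 D13435 (iv D10445) (iv F48308)
theorem F61236 : act 6 n13435 = n10453 := d39_1 D13435 (iv D10453) (iv D8192) (iv F38458) D10444
theorem F61237 : act 9 n13435 = n10449 := d43_2 (iv F48309) D13435 (iv D10449)
def n13436 : Q := act 1 n10446
theorem D13436 : act 1 n10446 = n13436 := rfl
theorem F61241 : act 7 n13436 = n10454 := d14_2 (iv F48319) D13436 (iv D10454)
theorem F61242 : act 8 n13436 = n10460 := d15_2 (iv F48320) D13436 (iv D10460)
def n13437 : Q := act 6 n10446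
theorem D13437 : act 6 n10446 = n13437 := rfl
theorem F61244 : act 2 n13437 = n10447 := d20_1 D13437 (iv D10447) D10446
theorem F61245 : act 3 n13437 = n10488 := d26_1 D13437 (iv D10488) (iv F48316)
theorem F61247 : act 8 n13437 = n10461 := d40_2 (iv F48320) D13437 (iv D10461)
def n13438 : Q := act 5 n10447
theorem D13438 : act 5 n10447 = n13438 := rfl
theorem F61248 : act 0 n13438 = n13438 := d4_1 D13438 (iv D13438) F48321
theorem F61249 : act 3 n13438 = n10448 := d25_1 D13438 (iv D10448) (iv F48322)
theorem F61250 : act 6 n13438 = n13438 := d35_2 D10447 D13438 (iv D13438) (iv D10447) F38466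
def n13439 : Q := act 7 n10447
theorem D13439 : act 7 n10447 = n13439 := rfl
theorem F61251 : act 0 n13439 = n13439 := d6_1 D13439 (iv D13439) F48321
theorem F61252 : act 3 n13439 = n10449 := d27_1 D13439 (iv D10449) (iv F48322)
theorem F61253 : act 4 n13439 = n13439 := d32_1 D13439 (iv D13439) F48323
theorem F61254 : act 6 n13439 = n10457 := d39_1 D13439 (iv D10457) (iv D8195) (iv F38467) D10447
theorem F61255 : act 8 n13439 = n10463 := d42_2 (iv F48324) D13439 (iv D10463)
def n13440 : Q := act 7 n10448
theorem D13440 : act 7 n10448 = n13440 := rfl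
theorem F61256 : act 0 n13440 = n13440 := d6_1 D13440 (iv D13440) F48325
theorem F61257 : act 2 n13440 = n10491 := d21_1 D13440 (iv D10491) (iv F48326)
theorem F61258 : act 5 n13440 = n10449 := d36_1 D13440 (iv D10449) D10448
def n13441 : Q := act 8 n10448
theorem D13441 : act 8 n10448 = n13441 := rfl
theorem F61259 : act 0 n13441 = n13441 := d7_1 D13441 (iv D13441) F48325
theorem F61261 : act 5 n13441 = n10465 := d37_1 D13441 (iv D10465) (iv D8200) (iv F38472) D10448
theorem F61262 : act 6 n13441 = n13441 := d40_1 D13441 (iv D13441) F48327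
def n13442 : Q := act 1 n10450
theorem D13442 : act 1 n10450 = n13442 := rfl
theorem F61263 : act 3 n13442 = n10493 := d10_2 (iv F48334) D13442 (iv D10493)
theorem F61266 : act 9 n13442 = n10454 := d16_2 (iv F48337) D13442 (iv D10454)
def n13443 : Q := act 6 n10450
theorem D13443 : act 6 n10450 = n13443 := rfl
theorem F61267 : act 0 n13443 = n13443 := d5_1 D13443 (iv D13443) F48333
theorem F61268 : act 2 n13443 = n10451 := d20_1 D13443 (iv D10451) D10450
theorem F61269 : act 3 n13443 = n10494 := d26_1 D13443 (iv D10494) (iv F48334)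
theorem F61270 : act 4 n13443 = n13443 := d31_1 D13443 (iv D13443) F48335
theorem F61271 : act 9 n13443 = n10455 := d41_2 (iv F48337) D13443 (iv D10455)
def n13444 : Q := act 5 n10451
theorem D13444 : act 5 n10451 = n13444 := rfl
theorem F61272 : act 0 n13444 = n13444 := d4_1 D13444 (iv D13444) F48338
theorem F61273 : act 3 n13444 = n10452 := d25_1 D13444 (iv D10452) (iv F48339)
theorem F61274 : act 6 n13444 = n13444 := d35_2 D10451 D13444 (iv D13444) (iv D10451) F38480
theorem F61275 : act 9 n13444 = n10456 := d38_2 (iv F48341) D13444 (iv D10456)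
def n13445 : Q := act 7 n10451
theorem D13445 : act 7 n10451 = n13445 := rfl
theorem F61276 : act 0 n13445 = n13445 := d6_1 D13445 (iv D13445) F48338
theorem F61277 : act 3 n13445 = n10453 := d27_1 D13445 (iv D10453) (iv F48339)
theorem F61278 : act 4 n13445 = n13445 := d32_1 D13445 (iv D13445) F48340
theorem F61279 : act 9 n13445 = n10457 := d43_2 (iv F48341) D13445 (iv D10457)
def n13446 : Q := act 7 n10452
theorem D13446 : act 7 n10452 = n13446 := rfl
theorem F61280 : act 0 n13446 = n13446 := d6_1 D13446 (iv D13446) F48342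
theorem F61281 : act 2 n13446 = n10497 := d21_1 D13446 (iv D10497) (iv F48343)
theorem F61282 : act 4 n13446 = n13446 := d32_1 D13446 (iv D13446) F48344
theorem F61283 : act 5 n13446 = n10453 := d36_1 D13446 (iv D10453) D10452
theorem F61284 : act 9 n13446 = n10458 := d43_2 (iv F48346) D13446 (iv D10458)
def n13447 : Q := act 8 n10452
theorem D13447 : act 8 n10452 = n13447 := rfl
theorem F61285 : act 0 n13447 = n13447 := d7_1 D13447 (iv D13447) F48342
theorem F61286 : act 2 n13447 = n10498 := d22_1 D13447 (iv D10498) (iv F48343)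
theorem F61287 : act 4 n13447 = n13447 := d33_1 D13447 (iv D13447) F48344
theorem F61288 : act 6 n13447 = n13447 := d40_1 D13447 (iv D13447) F48345
def n13448 : Q := act 0 n10454
theorem D13448 : act 0 n10454 = n13448 := rfl
theorem F61293 : act 8 n13448 = n10466 := d7_2 (iv F48354) D13448 (iv D10466)
def n13449 : Q := act 6 n10454
theorem D13449 : act 6 n10454 = n13449 := rfl
theorem F61294 : act 1 n13449 = n10455 := d13_1 D13449 (iv D10455) D10454
def n13450 : Q := act 5 n10455
theorem D13450 : act 5 n10455 = n13450 := rfl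
theorem F61299 : act 2 n13450 = n10456 := d19_1 D13450 (iv D10456) (iv F48356)
theorem F61300 : act 3 n13450 = n10501 := d25_1 D13450 (iv D10501) (iv F48357)
def n13451 : Q := act 7 n10455
theorem D13451 : act 7 n10455 = n13451 := rfl
theorem F61302 : act 0 n13451 = n13451 := d6_1 D13451 (iv D13451) F48355
theorem F61303 : act 2 n13451 = n10457 := d21_1 D13451 (iv D10457) (iv F48356)
theorem F61304 : act 3 n13451 = n10502 := d27_1 D13451 (iv D10502) (iv F48357)
theorem F61305 : act 4 n13451 = n13451 := d32_1 D13451 (iv D13451) F48358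
def n13452 : Q := act 4 n10456
theorem D13452 : act 4 n10456 = n13452 := rfl
def n13453 : Q := act 7 n10456
theorem D13453 : act 7 n10456 = n13453 := rfl
theorem F61311 : act 0 n13453 = n13453 := d6_1 D13453 (iv D13453) F48360
theorem F61312 : act 3 n13453 = n10458 := d27_1 D13453 (iv D10458) (iv F48361)
theorem F61313 : act 5 n13453 = n10457 := d36_1 D13453 (iv D10457) D10456
def n13454 : Q := act 8 n10456
theorem D13454 : act 8 n10456 = n13454 := rfl
theorem F61315 : act 3 n13454 = n10459 := d28_1 D13454 (iv D10459) (iv F48361)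
def n13455 : Q := act 6 n10458
theorem D13455 : act 6 n10458 = n13455 := rfl
theorem F61318 : act 0 n13455 = n13455 := d5_1 D13455 (iv D13455) F48367
theorem F61319 : act 2 n13455 = n10506 := d20_1 D13455 (iv D10506) (iv F48368)
theorem F61320 : act 4 n13455 = n13455 := d31_1 D13455 (iv D13455) F48369
theorem F61321 : act 7 n13455 = n13455 := d39_2 D10458 D13455 (iv D13455) (iv D10458) F38503
def n13456 : Q := act 8 n10458
theorem D13456 : act 8 n10458 = n13456 := rfl
theorem F61322 : act 0 n13456 = n13456 := d7_1 D13456 (iv D13456) F48367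
theorem F61323 : act 2 n13456 = n10507 := d22_1 D13456 (iv D10507) (iv F48368)
theorem F61324 : act 4 n13456 = n13456 := d33_1 D13456 (iv D13456) F48369
theorem F61325 : act 5 n13456 = n10474 := d37_1 D13456 (iv D10474) F38540 (iv F38507) (iv F48370)
theorem F61326 : act 7 n13456 = n10459 := d42_1 D13456 (iv D10459) D10458
def n13457 : Q := act 9 n10459
theorem D13457 : act 9 n10459 = n13457 := rfl
theorem F61327 : act 0 n13457 = n13457 := d8_1 D13457 (iv D13457) F48371
theorem F61328 : act 2 n13457 = n10508 := d23_1 D13457 (iv D10508) (iv F48372)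
theorem F61329 : act 4 n13457 = n13457 := d34_1 D13457 (iv D13457) F48373
theorem F61330 : act 5 n13457 = n10475 := d38_1 D13457 (iv D10475) (iv F48374)
theorem F61331 : act 6 n13457 = n13457 := d41_1 D13457 (iv D13457) F48375
def n13458 : Q := act 0 n10460
theorem D13458 : act 0 n10460 = n13458 := rfl
theorem F61335 : act 5 n13458 = n10799 := d4_2 (iv F48378) D13458 (iv D10799)
theorem F61336 : act 7 n13458 = n10466 := d6_2 (iv F48379) D13458 (iv D10466)
def n13459 : Q := act 6 n10460
theorem D13459 : act 6 n10460 = n13459 := rfl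
theorem F61337 : act 1 n13459 = n10461 := d13_1 D13459 (iv D10461) D10460
def n13460 : Q := act 5 n10461
theorem D13460 : act 5 n10461 = n13460 := rfl
theorem F61341 : act 2 n13460 = n10462 := d19_1 D13460 (iv D10462) (iv F48381)
theorem F61343 : act 6 n13460 = n10801 := d35_2 D10461 D13460 (iv D10801) (iv D8453) (iv F38511)
def n13461 : Q := act 7 n10461
theorem D13461 : act 7 n10461 = n13461 := rfl
theorem F61348 : act 6 n13461 = n10469 := d39_1 D13461 (iv D10469) (iv D8203) (iv F38512) D10461
def n13462 : Q := act 4 n10462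
theorem D13462 : act 4 n10462 = n13462 := rfl
theorem F61352 : act 6 n13462 = n10803 := d31_2 (iv F48386) D13462 (iv D10803)
def n13464 : Q := act 8 n10462
theorem D13464 : act 8 n10462 = n13464 := rfl
theorem F61358 : act 6 n13464 = n10805 := d40_1 D13464 (iv D10805) (iv F48386)
def n13465 : Q := act 6 n10464
theorem D13465 : act 6 n10464 = n13465 := rfl
theorem F61362 : act 5 n13465 = n10473 := d35_1 D13465 (iv D10473) F38540 (iv F38523) (iv F48394)
theorem F61363 : act 7 n13465 = n10806 := d39_2 D10464 D13465 (iv D10806) (iv D8456) (iv F38519)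
def n13466 : Q := act 8 n10464
theorem D13466 : act 8 n10464 = n13466 := rfl
theorem F61367 : act 7 n13466 = n10465 := d42_1 D13466 (iv D10465) D10464
def n13468 : Q := act 6 n10466
theorem D13468 : act 6 n10466 = n13468 := rfl
theorem F61374 : act 3 n13468 = n10519 := d26_1 D13468 (iv D10519) (iv F48400)
def n13469 : Q := act 5 n10467
theorem D13469 : act 5 n10467 = n13469 := rfl
theorem F61378 : act 6 n13469 = n10810 := d35_2 D10467 D13469 (iv D10810) (iv D8459) (iv F38526)
def n13471 : Q := act 4 n10468
theorem D13471 : act 4 n10468 = n13471 := rfl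
theorem F61386 : act 6 n13471 = n10812 := d31_2 (iv F48409) D13471 (iv D10812)
def n13472 : Q := act 7 n10468
theorem D13472 : act 7 n10468 = n13472 := rfl
theorem F61390 : act 5 n13472 = n10469 := d36_1 D13472 (iv D10469) D10468
def n13473 : Q := act 8 n10468
theorem D13473 : act 8 n10468 = n13473 := rfl
theorem F61394 : act 6 n13473 = n10814 := d40_1 D13473 (iv D10814) (iv F48409)
def n13476 : Q := act 6 n10471
theorem D13476 : act 6 n10471 = n13476 := rfl
theorem F61405 : act 7 n13476 = n10817 := d39_2 D10471 D13476 (iv D10817) (iv D8463) (iv F38533)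
def n13477 : Q := act 8 n10471
theorem D13477 : act 8 n10471 = n13477 := rfl
theorem F61407 : act 3 n13477 = n10474 := d28_1 D13477 (iv D10474) (iv F48419)
def n13478 : Q := act 9 n10472
theorem D13478 : act 9 n10472 = n13478 := rfl
theorem F61410 : act 3 n13478 = n10475 := d29_1 D13478 (iv D10475) (iv F48422)
def n13479 : Q := act 8 n10473
theorem D13479 : act 8 n10473 = n13479 := rfl
theorem F61415 : act 6 n13479 = n10474 := d40_1 D13479 (iv D10474) D10473
theorem F61416 : act 7 n13479 = n10820 := d42_1 D13479 (iv D10820) (iv F48427)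
def n13480 : Q := act 9 n10474
theorem D13480 : act 9 n10474 = n13480 := rfl
theorem F61417 : act 0 n13480 = n13480 := d8_1 D13480 (iv D13480) F48428
theorem F61418 : act 2 n13480 = n10528 := d23_1 D13480 (iv D10528) (iv F48429)
theorem F61419 : act 4 n13480 = n10482 := d34_1 D13480 (iv D10482) (iv F48430)
theorem F61420 : act 7 n13480 = n10475 := d43_1 D13480 (iv D10475) (iv F48431)
def n13486 : Q := act 9 n10479
theorem D13486 : act 9 n10479 = n13486 := rfl
theorem F61444 : act 3 n13486 = n10482 := d29_1 D13486 (iv D10482) (iv F48451)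
def n13487 : Q := act 5 n10481
theorem D13487 : act 5 n10481 = n13487 := rfl
theorem F61448 : act 2 n13487 = n10529 := d19_1 D13487 (iv D10529) (iv F48460)
def n13488 : Q := act 9 n10481
theorem D13488 : act 9 n10481 = n13488 := rfl
theorem F61453 : act 2 n13488 = n10530 := d23_1 D13488 (iv D10530) (iv F48460)
theorem F61454 : act 6 n13488 = n10482 := d41_1 D13488 (iv D10482) (iv F48461)
def n13491 : Q := act 5 n10484
theorem D13491 : act 5 n10484 = n13491 := rfl
theorem F61465 : act 3 n13491 = n10485 := d25_1 D13491 (iv D10485) (iv F48473)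
theorem F61468 : act 9 n13491 = n10489 := d38_2 (iv F48475) D13491 (iv D10489)
def n13493 : Q := act 7 n10485
theorem D13493 : act 7 n10485 = n13493 := rfl
theorem F61474 : act 0 n13493 = n13493 := d6_1 D13493 (iv D13493) F48476
theorem F61475 : act 5 n13493 = n10486 := d36_1 D13493 (iv D10486) D10485
theorem F61476 : act 9 n13493 = n10491 := d43_2 (iv F48478) D13493 (iv D10491)
def n13494 : Q := act 8 n10485
theorem D13494 : act 8 n10485 = n13494 := rfl
theorem F61477 : act 0 n13494 = n13494 := d7_1 D13494 (iv D13494) F48476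
theorem F61478 : act 6 n13494 = n13494 := d40_1 D13494 (iv D13494) F48477
def n13497 : Q := act 5 n10488
theorem D13497 : act 5 n10488 = n13497 := rfl
theorem F61488 : act 2 n13497 = n10489 := d19_1 D13497 (iv D10489) (iv F48488)
def n13499 : Q := act 7 n10489
theorem D13499 : act 7 n10489 = n13499 := rfl
theorem F61499 : act 5 n13499 = n10490 := d36_1 D13499 (iv D10490) D10489
def n13500 : Q := act 8 n10489
theorem D13500 : act 8 n10489 = n13500 := rfl
theorem F61503 : act 5 n13500 = n10515 := d37_1 D13500 (iv D10515) (iv D8233) (iv F38590) D10489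
def n13501 : Q := act 6 n10491
theorem D13501 : act 6 n10491 = n13501 := rfl
theorem F61505 : act 0 n13501 = n13501 := d5_1 D13501 (iv D13501) F48500
theorem F61506 : act 5 n13501 = n10506 := d35_1 D13501 (iv D10506) F38628 (iv F38595) (iv F48501)
theorem F61507 : act 7 n13501 = n13501 := d39_2 D10491 D13501 (iv D13501) (iv D10491) F38592
def n13502 : Q := act 8 n10491
theorem D13502 : act 8 n10491 = n13502 := rfl
theorem F61510 : act 7 n13502 = n10492 := d42_1 D13502 (iv D10492) D10491
def n13504 : Q := act 0 n10493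
theorem D13504 : act 0 n10493 = n13504 := rfl
theorem F61515 : act 4 n13504 = n10537 := d3_2 (iv F48505) D13504 (iv D10537)
theorem F61517 : act 9 n13504 = n10499 := d8_2 (iv F48507) D13504 (iv D10499)
def n13505 : Q := act 6 n10493
theorem D13505 : act 6 n10493 = n13505 := rfl
theorem F61518 : act 1 n13505 = n10494 := d13_1 D13505 (iv D10494) D10493
theorem F61520 : act 9 n13505 = n10500 := d41_2 (iv F48507) D13505 (iv D10500)
def n13506 : Q := act 5 n10494
theorem D13506 : act 5 n10494 = n13506 := rfl
theorem F61521 : act 0 n13506 = n13506 := d4_1 D13506 (iv D13506) F48508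
theorem F61522 : act 2 n13506 = n10495 := d19_1 D13506 (iv D10495) (iv F48509)
theorem F61523 : act 6 n13506 = n13506 := d35_2 D10494 D13506 (iv D13506) (iv D10494) F38599
theorem F61524 : act 9 n13506 = n10501 := d38_2 (iv F48511) D13506 (iv D10501)
def n13507 : Q := act 7 n10494
theorem D13507 : act 7 n10494 = n13507 := rfl
theorem F61525 : act 0 n13507 = n13507 := d6_1 D13507 (iv D13507) F48508
theorem F61526 : act 2 n13507 = n10496 := d21_1 D13507 (iv D10496) (iv F48509)
theorem F61528 : act 9 n13507 = n10502 := d43_2 (iv F48511) D13507 (iv D10502)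
def n13508 : Q := act 4 n10495
theorem D13508 : act 4 n10495 = n13508 := rfl
theorem F61529 : act 0 n13508 = n13508 := d3_1 D13508 (iv D13508) F48512
theorem F61530 : act 3 n13508 = n13508 := d24_1 D13508 (iv D13508) F48513 F38606 (iv F48513)
theorem F61531 : act 5 n13508 = n10541 := d30_2 D10495 D13508 (iv D10541) (iv D8256) (iv F38603)
theorem F61532 : act 6 n13508 = n13508 := d31_2 F48514 D13508 (iv D13508)
theorem F61533 : act 9 n13508 = n10503 := d34_2 (iv F48515) D13508 (iv D10503)
def n13509 : Q := act 7 n10495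
theorem D13509 : act 7 n10495 = n13509 := rfl
theorem F61534 : act 0 n13509 = n13509 := d6_1 D13509 (iv D13509) F48512
theorem F61535 : act 3 n13509 = n10497 := d27_1 D13509 (iv D10497) (iv F48513)
theorem F61536 : act 5 n13509 = n10496 := d36_1 D13509 (iv D10496) D10495
theorem F61537 : act 9 n13509 = n10504 := d43_2 (iv F48515) D13509 (iv D10504)
def n13510 : Q := act 8 n10495
theorem D13510 : act 8 n10495 = n13510 := rfl
theorem F61538 : act 0 n13510 = n13510 := d7_1 D13510 (iv D13510) F48512
theorem F61539 : act 3 n13510 = n10498 := d28_1 D13510 (iv D10498) (iv F48513)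
theorem F61540 : act 6 n13510 = n13510 := d40_1 D13510 (iv D13510) F48514
def n13511 : Q := act 6 n10497
theorem D13511 : act 6 n10497 = n13511 := rfl
theorem F61541 : act 0 n13511 = n13511 := d5_1 D13511 (iv D13511) F48520
theorem F61542 : act 4 n13511 = n13511 := d31_1 D13511 (iv D13511) F48521
theorem F61543 : act 7 n13511 = n13511 := d39_2 D10497 D13511 (iv D13511) (iv D10497) F38607
theorem F61544 : act 9 n13511 = n10506 := d41_2 (iv F48523) D13511 (iv D10506)
def n13512 : Q := act 8 n10497
theorem D13512 : act 8 n10497 = n13512 := rfl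
theorem F61545 : act 0 n13512 = n13512 := d7_1 D13512 (iv D13512) F48520
theorem F61546 : act 4 n13512 = n13512 := d33_1 D13512 (iv D13512) F48521
theorem F61547 : act 7 n13512 = n10498 := d42_1 D13512 (iv D10498) D10497
def n13513 : Q := act 9 n10498
theorem D13513 : act 9 n10498 = n13513 := rfl
theorem F61548 : act 0 n13513 = n13513 := d8_1 D13513 (iv D13513) F48524
theorem F61549 : act 4 n13513 = n13513 := d34_1 D13513 (iv D13513) F48525
theorem F61550 : act 6 n13513 = n13513 := d41_1 D13513 (iv D13513) F48526
theorem F61551 : act 8 n13513 = n10508 := d44_1 D13513 (iv D10508) (iv D8230) (iv F38608) D10498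
def n13514 : Q := act 6 n10499
theorem D13514 : act 6 n10499 = n13514 := rfl
theorem F61554 : act 4 n13514 = n10545 := d31_1 D13514 (iv D10545) (iv F48528)
theorem F61555 : act 8 n13514 = n10519 := d40_2 (iv F48530) D13514 (iv D10519)
def n13515 : Q := act 5 n10500
theorem D13515 : act 5 n10500 = n13515 := rfl
theorem F61556 : act 1 n13515 = n10501 := d12_1 D13515 (iv D10501) (iv F48531)
def n13516 : Q := act 7 n10500
theorem D13516 : act 7 n10500 = n13516 := rfl
theorem F61558 : act 1 n13516 = n10502 := d14_1 D13516 (iv D10502) (iv F48531)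
def n13517 : Q := act 4 n10501
theorem D13517 : act 4 n10501 = n13517 := rfl
theorem F61561 : act 0 n13517 = n13517 := d3_1 D13517 (iv D13517) F48534
theorem F61562 : act 2 n13517 = n10503 := d18_1 D13517 (iv D10503) (iv F48535)
theorem F61563 : act 5 n13517 = n10548 := d30_2 D10501 D13517 (iv D10548) (iv D8262) (iv F38617)
theorem F61564 : act 6 n13517 = n13517 := d31_2 F48536 D13517 (iv D13517)
def n13518 : Q := act 7 n10501
theorem D13518 : act 7 n10501 = n13518 := rfl
theorem F61565 : act 0 n13518 = n13518 := d6_1 D13518 (iv D13518) F48534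
theorem F61566 : act 2 n13518 = n10504 := d21_1 D13518 (iv D10504) (iv F48535)
theorem F61567 : act 5 n13518 = n10502 := d36_1 D13518 (iv D10502) D10501
def n13519 : Q := act 8 n10501
theorem D13519 : act 8 n10501 = n13519 := rfl
theorem F61570 : act 5 n13519 = n10523 := d37_1 D13519 (iv D10523) (iv D8239) (iv F38618) D10501
def n13520 : Q := act 7 n10503
theorem D13520 : act 7 n10503 = n13520 := rfl
theorem F61572 : act 0 n13520 = n13520 := d6_1 D13520 (iv D13520) F48541
theorem F61573 : act 3 n13520 = n13520 := d27_1 D13520 (iv D13520) F48542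
theorem F61574 : act 4 n13520 = n10504 := d32_1 D13520 (iv D10504) D10503
theorem F61575 : act 5 n13520 = n10550 := d36_1 D13520 (iv D10550) (iv F48543)
def n13521 : Q := act 8 n10503
theorem D13521 : act 8 n10503 = n13521 := rfl
theorem F61576 : act 0 n13521 = n13521 := d7_1 D13521 (iv D13521) F48541
theorem F61577 : act 3 n13521 = n13521 := d28_1 D13521 (iv D13521) F48542
theorem F61578 : act 4 n13521 = n10505 := d33_1 D13521 (iv D10505) D10503
theorem F61579 : act 5 n13521 = n13521 := d37_1 D13521 (iv D13521) F48543 F38762 (iv F48543)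
theorem F61580 : act 6 n13521 = n13521 := d40_1 D13521 (iv D13521) F48544
def n13522 : Q := act 6 n10504
theorem D13522 : act 6 n10504 = n13522 := rfl
theorem F61581 : act 0 n13522 = n13522 := d5_1 D13522 (iv D13522) F48545
theorem F61582 : act 3 n13522 = n10506 := d26_1 D13522 (iv D10506) (iv F48546)
theorem F61583 : act 7 n13522 = n13522 := d39_2 D10504 D13522 (iv D13522) (iv D10504) F38621
def n13523 : Q := act 8 n10504
theorem D13523 : act 8 n10504 = n13523 := rfl
theorem F61584 : act 0 n13523 = n13523 := d7_1 D13523 (iv D13523) F48545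
theorem F61585 : act 3 n13523 = n10507 := d28_1 D13523 (iv D10507) (iv F48546)
theorem F61586 : act 5 n13523 = n10525 := d37_1 D13523 (iv D10525) F38667 (iv F38625) (iv F48547)
theorem F61587 : act 7 n13523 = n10505 := d42_1 D13523 (iv D10505) D10504
def n13524 : Q := act 9 n10505
theorem D13524 : act 9 n10505 = n13524 := rfl
theorem F61588 : act 0 n13524 = n13524 := d8_1 D13524 (iv D13524) F48548
theorem F61589 : act 3 n13524 = n10508 := d29_1 D13524 (iv D10508) (iv F48549)
theorem F61590 : act 5 n13524 = n10526 := d38_1 D13524 (iv D10526) (iv F48550)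
theorem F61591 : act 6 n13524 = n13524 := d41_1 D13524 (iv D13524) F48551
def n13525 : Q := act 8 n10506
theorem D13525 : act 8 n10506 = n13525 := rfl
theorem F61592 : act 0 n13525 = n13525 := d7_1 D13525 (iv D13525) F48552
theorem F61593 : act 4 n13525 = n13525 := d33_1 D13525 (iv D13525) F48553
theorem F61594 : act 6 n13525 = n10507 := d40_1 D13525 (iv D10507) D10506
theorem F61595 : act 7 n13525 = n13525 := d42_1 D13525 (iv D13525) F48554
def n13526 : Q := act 9 n10507
theorem D13526 : act 9 n10507 = n13526 := rfl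
theorem F61596 : act 0 n13526 = n13526 := d8_1 D13526 (iv D13526) F48555
theorem F61597 : act 4 n13526 = n13526 := d34_1 D13526 (iv D13526) F48556
theorem F61598 : act 5 n13526 = n10528 := d38_1 D13526 (iv D10528) (iv F48557)
theorem F61599 : act 7 n13526 = n10508 := d43_1 D13526 (iv D10508) (iv F48558)
def n13532 : Q := act 8 n10511
theorem D13532 : act 8 n10511 = n13532 := rfl
theorem F61617 : act 6 n13532 = n10835 := d40_1 D13532 (iv D10835) (iv F48571)
def n13535 : Q := act 6 n10514
theorem D13535 : act 6 n10514 = n13535 := rfl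
theorem F61629 : act 5 n13535 = n10524 := d35_1 D13535 (iv D10524) F38667 (iv F38645) (iv F48582)
theorem F61630 : act 7 n13535 = n10838 := d39_2 D10514 D13535 (iv D10838) (iv D8480) (iv F38641)
def n13536 : Q := act 8 n10514
theorem D13536 : act 8 n10514 = n13536 := rfl
theorem F61633 : act 7 n13536 = n10515 := d42_1 D13536 (iv D10515) D10514
def n13537 : Q := act 9 n10515
theorem D13537 : act 9 n10515 = n13537 := rfl
def n13540 : Q := act 5 n10519
theorem D13540 : act 5 n10519 = n13540 := rfl
theorem F61647 : act 6 n13540 = n10843 := d35_2 D10519 D13540 (iv D10843) (iv D8485) (iv F38654)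
def n13541 : Q := act 7 n10519
theorem D13541 : act 7 n10519 = n13541 := rfl
def n13542 : Q := act 7 n10520
theorem D13542 : act 7 n10520 = n13542 := rfl
def n13543 : Q := act 8 n10520
theorem D13543 : act 8 n10520 = n13543 := rfl
def n13545 : Q := act 8 n10522
theorem D13545 : act 8 n10522 = n13545 := rfl
theorem F61664 : act 7 n13545 = n10523 := d42_1 D13545 (iv D10523) D10522
def n13546 : Q := act 9 n10523
theorem D13546 : act 9 n10523 = n13546 := rfl
theorem F61668 : act 6 n13546 = n10849 := d41_1 D13546 (iv D10849) (iv F48611)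
def n13547 : Q := act 8 n10524
theorem D13547 : act 8 n10524 = n13547 := rfl
theorem F61672 : act 6 n13547 = n10525 := d40_1 D13547 (iv D10525) D10524
theorem F61673 : act 7 n13547 = n10850 := d42_1 D13547 (iv D10850) (iv F48615)
def n13548 : Q := act 9 n10525
theorem D13548 : act 9 n10525 = n13548 := rfl
theorem F61674 : act 0 n13548 = n13548 := d8_1 D13548 (iv D13548) F48616
theorem F61675 : act 3 n13548 = n10528 := d29_1 D13548 (iv D10528) (iv F48617)
theorem F61676 : act 4 n13548 = n13548 := d34_1 D13548 (iv D13548) F48618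
theorem F61677 : act 7 n13548 = n10526 := d43_1 D13548 (iv D10526) (iv F48619)
def n13549 : Q := act 5 n10527
theorem D13549 : act 5 n10527 = n13549 := rfl
theorem F61679 : act 7 n13549 = n10852 := d36_2 (iv F48627) D13549 (iv D10852)
def n13550 : Q := act 9 n10527
theorem D13550 : act 9 n10527 = n13550 := rfl
theorem F61681 : act 4 n13550 = n10530 := d34_1 D13550 (iv D10530) (iv F48625)
theorem F61682 : act 6 n13550 = n10528 := d41_1 D13550 (iv D10528) (iv F48626)
theorem F61683 : act 7 n13550 = n10853 := d43_1 D13550 (iv D10853) (iv F48627)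
def n13551 : Q := act 4 n10529
theorem D13551 : act 4 n10529 = n13551 := rfl
theorem F61684 : act 0 n13551 = n13551 := d3_1 D13551 (iv D13551) F48631
theorem F61685 : act 6 n13551 = n13551 := d31_2 F48633 D13551 (iv D13551)
theorem F61687 : act 8 n13551 = n13551 := d33_2 F48635 D13551 (iv D13551)
def n13552 : Q := act 9 n10529
theorem D13552 : act 9 n10529 = n13552 := rfl
theorem F61688 : act 0 n13552 = n13552 := d8_1 D13552 (iv D13552) F48631
theorem F61689 : act 3 n13552 = n13552 := d29_1 D13552 (iv D13552) F48632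
theorem F61690 : act 5 n13552 = n10530 := d38_1 D13552 (iv D10530) D10529
theorem F61691 : act 6 n13552 = n13552 := d41_1 D13552 (iv D13552) F48633
def n13558 : Q := act 6 n10537
theorem D13558 : act 6 n10537 = n13558 := rfl
theorem F61721 : act 9 n13558 = n10545 := d41_2 (iv F48672) D13558 (iv D10545)
def n13559 : Q := act 5 n10538
theorem D13559 : act 5 n10538 = n13559 := rfl
theorem F61724 : act 6 n13559 = n10563 := d35_2 D10538 D13559 (iv D10563) (iv D8280) (iv F38719)
theorem F61725 : act 9 n13559 = n10546 := d38_2 (iv F48675) D13559 (iv D10546)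
def n13561 : Q := act 7 n10539
theorem D13561 : act 7 n10539 = n13561 := rfl
theorem F61734 : act 9 n13561 = n10549 := d43_2 (iv F48680) D13561 (iv D10549)
def n13562 : Q := act 7 n10541
theorem D13562 : act 7 n10541 = n13562 := rfl
theorem F61735 : act 0 n13562 = n13562 := d6_1 D13562 (iv D13562) F48685
theorem F61736 : act 3 n13562 = n13562 := d27_1 D13562 (iv D13562) F48686
theorem F61737 : act 4 n13562 = n10542 := d32_1 D13562 (iv D10542) D10541
theorem F61738 : act 6 n13562 = n13562 := d39_1 D13562 (iv D13562) F48687 F38845 (iv F48687)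
theorem F61739 : act 9 n13562 = n10550 := d43_2 (iv F48688) D13562 (iv D10550)
def n13563 : Q := act 8 n10542
theorem D13563 : act 8 n10542 = n13563 := rfl
theorem F61740 : act 0 n13563 = n13563 := d7_1 D13563 (iv D13563) F48689
theorem F61741 : act 3 n13563 = n10544 := d28_1 D13563 (iv D10544) (iv F48690)
theorem F61742 : act 6 n13563 = n13563 := d40_1 D13563 (iv D13563) F48692
theorem F61743 : act 7 n13563 = n10543 := d42_1 D13563 (iv D10543) D10542
theorem F61744 : act 9 n13563 = n13563 := d44_2 (iv F48693) D13563 (iv D13563) F48693 F38767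
def n13564 : Q := act 5 n10545
theorem D13564 : act 5 n10545 = n13564 := rfl
theorem F61748 : act 6 n13564 = n10567 := d35_2 D10545 D13564 (iv D10567) (iv D8284) (iv F38745)
def n13565 : Q := act 7 n10545
theorem D13565 : act 7 n10545 = n13565 := rfl
def n13566 : Q := act 4 n10546
theorem D13566 : act 4 n10546 = n13566 := rfl
theorem F61755 : act 6 n13566 = n10568 := d31_2 (iv F48710) D13566 (iv D10568)
def n13567 : Q := act 7 n10546
theorem D13567 : act 7 n10546 = n13567 := rfl
theorem F61759 : act 5 n13567 = n10547 := d36_1 D13567 (iv D10547) D10546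
def n13568 : Q := act 7 n10548
theorem D13568 : act 7 n10548 = n13568 := rfl
theorem F61764 : act 4 n13568 = n10549 := d32_1 D13568 (iv D10549) D10548
theorem F61765 : act 6 n13568 = n13568 := d39_1 D13568 (iv D13568) F48717 F38865 (iv F48717)
def n13577 : Q := act 5 n10562
theorem D13577 : act 5 n10562 = n13577 := rfl
theorem F61804 : act 0 n13577 = n10563 := d4_1 D13577 (iv D10563) (iv F48781)
theorem F61808 : act 9 n13577 = n10567 := d38_2 (iv F48787) D13577 (iv D10567)
def n13578 : Q := act 4 n10567
theorem D13578 : act 4 n10567 = n13578 := rfl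
def n13579 : Q := act 2 n10570
theorem D13579 : act 2 n10570 = n13579 := rfl
theorem F61815 : act 4 n13579 = n10917 := d18_2 (iv F48825) D13579 (iv D10917)
theorem F61816 : act 8 n13579 = n10576 := d22_2 (iv F48826) D13579 (iv D10576)
def n13580 : Q := act 6 n10570
theorem D13580 : act 6 n10570 = n13580 := rfl
theorem F61820 : act 3 n13580 = n10571 := d26_1 D13580 (iv D10571) D10570
theorem F61821 : act 4 n13580 = n10918 := d31_1 D13580 (iv D10918) (iv F48825)
def n13582 : Q := act 7 n10571
theorem D13582 : act 7 n10571 = n13582 := rfl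
def n13583 : Q := act 2 n10573
theorem D13583 : act 2 n10573 = n13583 := rfl
theorem F61835 : act 7 n13583 = n10576 := d21_2 (iv F48842) D13583 (iv D10576)
theorem F61836 : act 9 n13583 = n10754 := d23_2 (iv F48843) D13583 (iv D10754)
def n13585 : Q := act 5 n10574
theorem D13585 : act 5 n10574 = n13585 := rfl
def n13586 : Q := act 7 n10574
theorem D13586 : act 7 n10574 = n13586 := rfl
theorem F61849 : act 6 n13586 = n10579 := d39_1 D13586 (iv D10579) (iv D8292) (iv F38879) D10574
def n13587 : Q := act 1 n10576
theorem D13587 : act 1 n10576 = n13587 := rfl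
theorem F61852 : act 4 n13587 = n10925 := d11_2 (iv F48855) D13587 (iv D10925)
theorem F61853 : act 9 n13587 = n10758 := d16_2 (iv F48856) D13587 (iv D10758)
def n13588 : Q := act 6 n10576
theorem D13588 : act 6 n10576 = n13588 := rfl
theorem F61856 : act 4 n13588 = n10926 := d31_1 D13588 (iv D10926) (iv F48855)
def n13589 : Q := act 5 n10577
theorem D13589 : act 5 n10577 = n13589 := rfl
theorem F61860 : act 3 n13589 = n10578 := d25_1 D13589 (iv D10578) (iv F48859)
def n13590 : Q := act 7 n10577
theorem D13590 : act 7 n10577 = n13590 := rfl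
theorem F61864 : act 3 n13590 = n10579 := d27_1 D13590 (iv D10579) (iv F48859)
theorem F61865 : act 4 n13590 = n10928 := d32_1 D13590 (iv D10928) (iv F48860)
def n13591 : Q := act 7 n10578
theorem D13591 : act 7 n10578 = n13591 := rfl
theorem F61870 : act 5 n13591 = n10579 := d36_1 D13591 (iv D10579) D10578
def n13593 : Q := act 6 n10580
theorem D13593 : act 6 n10580 = n13593 := rfl
theorem F61878 : act 4 n13593 = n10931 := d31_1 D13593 (iv D10931) (iv F48872)
theorem F61880 : act 9 n13593 = n10764 := d41_2 (iv F48875) D13593 (iv D10764)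
def n13594 : Q := act 5 n10581
theorem D13594 : act 5 n10581 = n13594 := rfl
def n13602 : Q := act 2 n10586
theorem D13602 : act 2 n10586 = n13602 := rfl
theorem F61915 : act 5 n13602 = n10592 := d19_2 (iv F48900) D13602 (iv D10592)
def n13603 : Q := act 6 n10586
theorem D13603 : act 6 n10586 = n13603 := rfl
theorem F61917 : act 1 n13603 = n10621 := d13_1 D13603 (iv D10621) (iv F48899)
theorem F61918 : act 3 n13603 = n10587 := d26_1 D13603 (iv D10587) D10586
def n13604 : Q := act 5 n10587
theorem D13604 : act 5 n10587 = n13604 := rfl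
theorem F61920 : act 1 n13604 = n10622 := d12_1 D13604 (iv D10622) (iv F48902)
def n13605 : Q := act 7 n10587
theorem D13605 : act 7 n10587 = n13605 := rfl
theorem F61924 : act 1 n13605 = n10623 := d14_1 D13605 (iv D10623) (iv F48902)
theorem F61925 : act 4 n13605 = n10588 := d32_1 D13605 (iv D10588) (iv F48903)
theorem F61926 : act 9 n13605 = n13605 := d43_2 F48904 D13605 (iv D13605)
def n13606 : Q := act 2 n10589
theorem D13606 : act 2 n10589 = n13606 := rfl
theorem F61927 : act 4 n13606 = n10943 := d18_2 (iv F48909) D13606 (iv D10943)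
theorem F61928 : act 7 n13606 = n10592 := d21_2 (iv F48910) D13606 (iv D10592)
theorem F61929 : act 8 n13606 = n10596 := d22_2 (iv F48911) D13606 (iv D10596)
def n13607 : Q := act 6 n10589
theorem D13607 : act 6 n10589 = n13607 := rfl
def n13608 : Q := act 5 n10590
theorem D13608 : act 5 n10590 = n13608 := rfl
theorem F61936 : act 1 n13608 = n10628 := d12_1 D13608 (iv D10628) (iv F48913)
def n13609 : Q := act 7 n10590
theorem D13609 : act 7 n10590 = n13609 := rfl
theorem F61938 : act 1 n13609 = n10629 := d14_1 D13609 (iv D10629) (iv F48913)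
theorem F61940 : act 6 n13609 = n10595 := d39_1 D13609 (iv D10595) (iv D8303) (iv F38926) D10590
theorem F61941 : act 8 n13609 = n10599 := d42_2 (iv F48915) D13609 (iv D10599)
def n13610 : Q := act 1 n10592
theorem D13610 : act 1 n10592 = n13610 := rfl
theorem F61944 : act 4 n13610 = n10946 := d11_2 (iv F48922) D13610 (iv D10946)
def n13611 : Q := act 6 n10592
theorem D13611 : act 6 n10592 = n13611 := rfl
theorem F61948 : act 4 n13611 = n10947 := d31_1 D13611 (iv D10947) (iv F48922)
def n13612 : Q := act 5 n10593
theorem D13612 : act 5 n10593 = n13612 := rfl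
theorem F61952 : act 3 n13612 = n10594 := d25_1 D13612 (iv D10594) (iv F48926)
def n13613 : Q := act 7 n10593
theorem D13613 : act 7 n10593 = n13613 := rfl
theorem F61955 : act 3 n13613 = n10595 := d27_1 D13613 (iv D10595) (iv F48926)
theorem F61956 : act 4 n13613 = n10949 := d32_1 D13613 (iv D10949) (iv F48927)
def n13614 : Q := act 7 n10594
theorem D13614 : act 7 n10594 = n13614 := rfl
theorem F61961 : act 5 n13614 = n10595 := d36_1 D13614 (iv D10595) D10594
def n13616 : Q := act 1 n10596
theorem D13616 : act 1 n10596 = n13616 := rfl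
theorem F61966 : act 2 n13616 = n10636 := d9_2 D10596 D13616 (iv D10636) (iv D8333) (iv F38946)
theorem F61967 : act 4 n13616 = n10952 := d11_2 (iv F48937) D13616 (iv D10952)
theorem F61968 : act 7 n13616 = n10600 := d14_2 (iv F48938) D13616 (iv D10600)
theorem F61969 : act 9 n13616 = n10773 := d16_2 (iv F48939) D13616 (iv D10773)
def n13617 : Q := act 6 n10596
theorem D13617 : act 6 n10596 = n13617 := rfl
theorem F61972 : act 9 n13617 = n10774 := d41_2 (iv F48939) D13617 (iv D10774)
def n13618 : Q := act 5 n10597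
theorem D13618 : act 5 n10597 = n13618 := rfl
theorem F61974 : act 3 n13618 = n10598 := d25_1 D13618 (iv D10598) (iv F48941)
def n13619 : Q := act 7 n10597
theorem D13619 : act 7 n10597 = n13619 := rfl
theorem F61979 : act 6 n13619 = n10603 := d39_1 D13619 (iv D10603) (iv D8309) (iv F38948) D10597
def n13620 : Q := act 7 n10598
theorem D13620 : act 7 n10598 = n13620 := rfl
theorem F61983 : act 5 n13620 = n10599 := d36_1 D13620 (iv D10599) D10598
def n13622 : Q := act 0 n10600
theorem D13622 : act 0 n10600 = n13622 := rfl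
theorem F61988 : act 4 n13622 = n10957 := d3_2 (iv F48952) D13622 (iv D10957)
theorem F61989 : act 9 n13622 = n10779 := d8_2 (iv F48953) D13622 (iv D10779)
def n13623 : Q := act 6 n10600
theorem D13623 : act 6 n10600 = n13623 := rfl
theorem F61992 : act 4 n13623 = n10958 := d31_1 D13623 (iv D10958) (iv F48952)
def n13624 : Q := act 5 n10601
theorem D13624 : act 5 n10601 = n13624 := rfl
def n13625 : Q := act 7 n10601
theorem D13625 : act 7 n10601 = n13625 := rfl
theorem F61997 : act 4 n13625 = n10960 := d32_1 D13625 (iv D10960) (iv F48955)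
def n13626 : Q := act 4 n10602
theorem D13626 : act 4 n10602 = n13626 := rfl
theorem F62001 : act 5 n13626 = n10961 := d30_2 D10602 D13626 (iv D10961) (iv D8578) (iv F38962)
def n13627 : Q := act 7 n10602
theorem D13627 : act 7 n10602 = n13627 := rfl
theorem F62004 : act 3 n13627 = n10604 := d27_1 D13627 (iv D10604) (iv F48958)
def n13629 : Q := act 6 n10604
theorem D13629 : act 6 n10604 = n13629 := rfl
def n13630 : Q := act 8 n10604
theorem D13630 : act 8 n10604 = n13630 := rfl
def n13632 : Q := act 4 n10606
theorem D13632 : act 4 n10606 = n13632 := rfl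
theorem F62020 : act 5 n13632 = n10967 := d30_2 D10606 D13632 (iv D10967) (iv D8582) (iv F38972)
def n13633 : Q := act 7 n10606
theorem D13633 : act 7 n10606 = n13633 := rfl
def n13635 : Q := act 7 n10608
theorem D13635 : act 7 n10608 = n13635 := rfl
theorem F62030 : act 4 n13635 = n10609 := d32_1 D13635 (iv D10609) D10608
theorem F62031 : act 5 n13635 = n10970 := d36_1 D13635 (iv D10970) (iv F48980)
def n13640 : Q := act 8 n10611
theorem D13640 : act 8 n10611 = n13640 := rfl
def n13642 : Q := act 2 n10614
theorem D13642 : act 2 n10614 = n13642 := rfl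
theorem F62053 : act 0 n13642 = n13642 := d1_1 D13642 (iv D13642) F48998
theorem F62054 : act 3 n13642 = n13642 := d17_2 D10614 D13642 (iv D13642) (iv D10614) F38990
theorem F62055 : act 4 n13642 = n10620 := d18_2 (iv F48999) D13642 (iv D10620)
theorem F62056 : act 5 n13642 = n10977 := d19_2 (iv F49000) D13642 (iv D10977)
theorem F62057 : act 9 n13642 = n13642 := d23_2 F49001 D13642 (iv D13642)
def n13643 : Q := act 6 n10614
theorem D13643 : act 6 n10614 = n13643 := rfl
theorem F62058 : act 0 n13643 = n13643 := d5_1 D13643 (iv D13643) F48998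
theorem F62059 : act 3 n13643 = n10615 := d26_1 D13643 (iv D10615) D10614
theorem F62060 : act 4 n13643 = n10621 := d31_1 D13643 (iv D10621) (iv F48999)
theorem F62061 : act 9 n13643 = n13643 := d41_2 F49001 D13643 (iv D13643)
def n13644 : Q := act 5 n10615
theorem D13644 : act 5 n10615 = n13644 := rfl
theorem F62062 : act 0 n13644 = n13644 := d4_1 D13644 (iv D13644) F49002
theorem F62063 : act 2 n13644 = n13644 := d19_1 D13644 (iv D13644) F49003
theorem F62064 : act 4 n13644 = n13644 := d30_1 D13644 (iv D13644) F49004 F38996 (iv F49004)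
theorem F62065 : act 6 n13644 = n10979 := d35_2 D10615 D13644 (iv D10979) (iv D8591) (iv F38991)
theorem F62066 : act 9 n13644 = n13644 := d38_2 F49005 D13644 (iv D13644)
def n13645 : Q := act 7 n10615
theorem D13645 : act 7 n10615 = n13645 := rfl
theorem F62067 : act 0 n13645 = n13645 := d6_1 D13645 (iv D13645) F49002
theorem F62068 : act 2 n13645 = n13645 := d21_1 D13645 (iv D13645) F49003
theorem F62069 : act 4 n13645 = n10616 := d32_1 D13645 (iv D10616) (iv F49004)
theorem F62070 : act 9 n13645 = n13645 := d43_2 F49005 D13645 (iv D13645)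
def n13646 : Q := act 2 n10617
theorem D13646 : act 2 n10617 = n13646 := rfl
theorem F62072 : act 3 n13646 = n10662 := d17_2 D10617 D13646 (iv D10662) (iv D8351) (iv F38999)
theorem F62073 : act 5 n13646 = n10626 := d19_2 (iv F49012) D13646 (iv D10626)
theorem F62074 : act 7 n13646 = n10620 := d21_2 (iv F49013) D13646 (iv D10620)
def n13647 : Q := act 6 n10617
theorem D13647 : act 6 n10617 = n13647 := rfl
theorem F62076 : act 0 n13647 = n13647 := d5_1 D13647 (iv D13647) F49011
theorem F62077 : act 3 n13647 = n10618 := d26_1 D13647 (iv D10618) D10617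
theorem F62078 : act 9 n13647 = n13647 := d41_2 F49014 D13647 (iv D13647)
def n13648 : Q := act 5 n10618
theorem D13648 : act 5 n10618 = n13648 := rfl
theorem F62079 : act 0 n13648 = n13648 := d4_1 D13648 (iv D13648) F49015
theorem F62081 : act 6 n13648 = n10628 := d35_2 D10618 D13648 (iv D10628) (iv D8327) (iv F39000)
theorem F62082 : act 9 n13648 = n13648 := d38_2 F49018 D13648 (iv D13648)
def n13649 : Q := act 7 n10618
theorem D13649 : act 7 n10618 = n13649 := rfl
theorem F62083 : act 0 n13649 = n13649 := d6_1 D13649 (iv D13649) F49015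
theorem F62084 : act 2 n13649 = n10665 := d21_1 D13649 (iv D10665) (iv F49016)
theorem F62085 : act 4 n13649 = n10619 := d32_1 D13649 (iv D10619) (iv F49017)
theorem F62086 : act 6 n13649 = n10623 := d39_1 D13649 (iv D10623) (iv D8322) (iv F39001) D10618
theorem F62087 : act 9 n13649 = n13649 := d43_2 F49018 D13649 (iv D13649)
def n13650 : Q := act 1 n10620
theorem D13650 : act 1 n10620 = n13650 := rfl
theorem F62089 : act 5 n13650 = n10630 := d12_2 (iv F49025) D13650 (iv D10630)
def n13651 : Q := act 6 n10620
theorem D13651 : act 6 n10620 = n13651 := rfl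
theorem F62092 : act 2 n13651 = n10621 := d20_1 D13651 (iv D10621) D10620
theorem F62093 : act 3 n13651 = n10667 := d26_1 D13651 (iv D10667) (iv F49024)
def n13652 : Q := act 5 n10621
theorem D13652 : act 5 n10621 = n13652 := rfl
theorem F62096 : act 3 n13652 = n10622 := d25_1 D13652 (iv D10622) (iv F49028)
def n13653 : Q := act 7 n10621
theorem D13653 : act 7 n10621 = n13653 := rfl
theorem F62099 : act 0 n13653 = n13653 := d6_1 D13653 (iv D13653) F49027
theorem F62100 : act 3 n13653 = n10623 := d27_1 D13653 (iv D10623) (iv F49028)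
theorem F62101 : act 9 n13653 = n13653 := d43_2 F49029 D13653 (iv D13653)
def n13654 : Q := act 7 n10622
theorem D13654 : act 7 n10622 = n13654 := rfl
theorem F62102 : act 0 n13654 = n13654 := d6_1 D13654 (iv D13654) F49030
theorem F62103 : act 2 n13654 = n10670 := d21_1 D13654 (iv D10670) (iv F49031)
theorem F62104 : act 4 n13654 = n13654 := d32_1 D13654 (iv D13654) F49032
theorem F62105 : act 5 n13654 = n10623 := d36_1 D13654 (iv D10623) D10622
theorem F62106 : act 9 n13654 = n13654 := d43_2 F49034 D13654 (iv D13654)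
def n13655 : Q := act 8 n10622
theorem D13655 : act 8 n10622 = n13655 := rfl
theorem F62108 : act 2 n13655 = n10671 := d22_1 D13655 (iv D10671) (iv F49031)
theorem F62110 : act 6 n13655 = n10635 := d40_1 D13655 (iv D10635) (iv F49033)
def n13656 : Q := act 5 n10624
theorem D13656 : act 5 n10624 = n13656 := rfl
theorem F62112 : act 2 n13656 = n10673 := d19_1 D13656 (iv D10673) (iv F49040)
theorem F62114 : act 4 n13656 = n10628 := d30_1 D13656 (iv D10628) F39036 (iv F39026) (iv F49042)
def n13657 : Q := act 7 n10624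
theorem D13657 : act 7 n10624 = n13657 := rfl
theorem F62119 : act 4 n13657 = n10625 := d32_1 D13657 (iv D10625) (iv F49042)
def n13658 : Q := act 1 n10626
theorem D13658 : act 1 n10626 = n13658 := rfl
theorem F62123 : act 3 n13658 = n10675 := d10_2 (iv F49053) D13658 (iv D10675)
theorem F62125 : act 7 n13658 = n10630 := d14_2 (iv F49055) D13658 (iv D10630)
theorem F62126 : act 8 n13658 = n10636 := d15_2 (iv F49056) D13658 (iv D10636)
def n13659 : Q := act 6 n10626
theorem D13659 : act 6 n10626 = n13659 := rfl
theorem F62129 : act 2 n13659 = n10627 := d20_1 D13659 (iv D10627) D10626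
theorem F62130 : act 3 n13659 = n10676 := d26_1 D13659 (iv D10676) (iv F49053)
theorem F62131 : act 4 n13659 = n10986 := d31_1 D13659 (iv D10986) (iv F49054)
theorem F62132 : act 8 n13659 = n10637 := d40_2 (iv F49056) D13659 (iv D10637)
def n13660 : Q := act 5 n10627
theorem D13660 : act 5 n10627 = n13660 := rfl
theorem F62135 : act 3 n13660 = n10628 := d25_1 D13660 (iv D10628) (iv F49059)
def n13661 : Q := act 7 n10627
theorem D13661 : act 7 n10627 = n13661 := rfl
theorem F62141 : act 6 n13661 = n10633 := d39_1 D13661 (iv D10633) (iv D8330) (iv F39031) D10627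
def n13662 : Q := act 7 n10628
theorem D13662 : act 7 n10628 = n13662 := rfl
theorem F62146 : act 5 n13662 = n10629 := d36_1 D13662 (iv D10629) D10628
def n13663 : Q := act 8 n10628
theorem D13663 : act 8 n10628 = n13663 := rfl
theorem F62149 : act 2 n13663 = n10680 := d22_1 D13663 (iv D10680) (iv F49064)
def n13665 : Q := act 6 n10630
theorem D13665 : act 6 n10630 = n13665 := rfl
theorem F62158 : act 4 n13665 = n10989 := d31_1 D13665 (iv D10989) (iv F49073)
def n13666 : Q := act 5 n10631
theorem D13666 : act 5 n10631 = n13666 := rfl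
theorem F62162 : act 2 n13666 = n10632 := d19_1 D13666 (iv D10632) (iv F49077)
theorem F62163 : act 3 n13666 = n10683 := d25_1 D13666 (iv D10683) (iv F49078)
def n13667 : Q := act 7 n10631
theorem D13667 : act 7 n10631 = n13667 := rfl
theorem F62167 : act 3 n13667 = n10684 := d27_1 D13667 (iv D10684) (iv F49078)
theorem F62168 : act 4 n13667 = n10991 := d32_1 D13667 (iv D10991) (iv F49079)
theorem F62169 : act 8 n13667 = n10645 := d42_2 (iv F49080) D13667 (iv D10645)
def n13668 : Q := act 4 n10632
theorem D13668 : act 4 n10632 = n13668 := rfl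
theorem F62173 : act 5 n13668 = n10992 := d30_2 D10632 D13668 (iv D10992) (iv D8602) (iv F39052)
def n13669 : Q := act 7 n10632
theorem D13669 : act 7 n10632 = n13669 := rfl
theorem F62176 : act 3 n13669 = n10634 := d27_1 D13669 (iv D10634) (iv F49083)
theorem F62177 : act 5 n13669 = n10633 := d36_1 D13669 (iv D10633) D10632
def n13671 : Q := act 6 n10634
theorem D13671 : act 6 n10634 = n13671 := rfl
theorem F62183 : act 2 n13671 = n10688 := d20_1 D13671 (iv D10688) (iv F49091)
def n13672 : Q := act 8 n10634
theorem D13672 : act 8 n10634 = n13672 := rfl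
theorem F62187 : act 2 n13672 = n10689 := d22_1 D13672 (iv D10689) (iv F49091)
theorem F62190 : act 7 n13672 = n10635 := d42_1 D13672 (iv D10635) D10634
def n13673 : Q := act 9 n10635
theorem D13673 : act 9 n10635 = n13673 := rfl
theorem F62192 : act 2 n13673 = n10690 := d23_1 D13673 (iv D10690) (iv F49096)
def n13674 : Q := act 0 n10636
theorem D13674 : act 0 n10636 = n13674 := rfl
theorem F62197 : act 3 n13674 = n10691 := d2_2 (iv F49099) D13674 (iv D10691)
theorem F62200 : act 9 n13674 = n10799 := d8_2 (iv F49102) D13674 (iv D10799)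
def n13675 : Q := act 6 n10636
theorem D13675 : act 6 n10636 = n13675 := rfl
theorem F62202 : act 3 n13675 = n10692 := d26_1 D13675 (iv D10692) (iv F49099)
theorem F62204 : act 9 n13675 = n10800 := d41_2 (iv F49102) D13675 (iv D10800)
def n13676 : Q := act 5 n10637
theorem D13676 : act 5 n10637 = n13676 := rfl
theorem F62206 : act 2 n13676 = n10638 := d19_1 D13676 (iv D10638) (iv F49104)
theorem F62207 : act 3 n13676 = n10693 := d25_1 D13676 (iv D10693) (iv F49105)
theorem F62208 : act 9 n13676 = n10801 := d38_2 (iv F49107) D13676 (iv D10801)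
def n13677 : Q := act 7 n10637
theorem D13677 : act 7 n10637 = n13677 := rfl
theorem F62212 : act 4 n13677 = n11000 := d32_1 D13677 (iv D11000) (iv F49106)
theorem F62213 : act 6 n13677 = n10645 := d39_1 D13677 (iv D10645) (iv D8338) (iv F39067) D10637
def n13678 : Q := act 4 n10638
theorem D13678 : act 4 n10638 = n13678 := rfl
theorem F62217 : act 5 n13678 = n11001 := d30_2 D10638 D13678 (iv D11001) (iv D8608) (iv F39071)
theorem F62218 : act 9 n13678 = n10803 := d34_2 (iv F49110) D13678 (iv D10803)
def n13679 : Q := act 7 n10638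
theorem D13679 : act 7 n10638 = n13679 := rfl
theorem F62220 : act 3 n13679 = n10640 := d27_1 D13679 (iv D10640) (iv F49109)
theorem F62221 : act 5 n13679 = n10639 := d36_1 D13679 (iv D10639) D10638
def n13680 : Q := act 8 n10638
theorem D13680 : act 8 n10638 = n13680 := rfl
def n13681 : Q := act 6 n10640
theorem D13681 : act 6 n10640 = n13681 := rfl
theorem F62228 : act 5 n13681 = n10649 := d35_1 D13681 (iv D10649) F39100 (iv F39080) (iv F49119)
theorem F62229 : act 9 n13681 = n10806 := d41_2 (iv F49120) D13681 (iv D10806)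
def n13684 : Q := act 6 n10642
theorem D13684 : act 6 n10642 = n13684 := rfl
theorem F62238 : act 0 n13684 = n10643 := d5_1 D13684 (iv D10643) D10642
theorem F62241 : act 4 n13684 = n11004 := d31_1 D13684 (iv D11004) (iv F49126)
def n13685 : Q := act 5 n10643
theorem D13685 : act 5 n10643 = n13685 := rfl
theorem F62245 : act 9 n13685 = n10810 := d38_2 (iv F49131) D13685 (iv D10810)
def n13686 : Q := act 7 n10643
theorem D13686 : act 7 n10643 = n13686 := rfl
theorem F62246 : act 1 n13686 = n10645 := d14_1 D13686 (iv D10645) (iv F49128)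
theorem F62248 : act 4 n13686 = n11006 := d32_1 D13686 (iv D11006) (iv F49130)
def n13687 : Q := act 4 n10644
theorem D13687 : act 4 n10644 = n13687 := rfl
theorem F62253 : act 5 n13687 = n11007 := d30_2 D10644 D13687 (iv D11007) (iv D8613) (iv F39088)
def n13688 : Q := act 7 n10644
theorem D13688 : act 7 n10644 = n13688 := rfl
theorem F62257 : act 3 n13688 = n10704 := d27_1 D13688 (iv D10704) (iv F49134)
theorem F62258 : act 5 n13688 = n10645 := d36_1 D13688 (iv D10645) D10644
def n13689 : Q := act 8 n10644
theorem D13689 : act 8 n10644 = n13689 := rfl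
def n13690 : Q := act 7 n10646
theorem D13690 : act 7 n10646 = n13690 := rfl
theorem F62265 : act 4 n13690 = n10647 := d32_1 D13690 (iv D10647) D10646
theorem F62266 : act 5 n13690 = n11010 := d36_1 D13690 (iv D11010) (iv F49143)
def n13691 : Q := act 8 n10646
theorem D13691 : act 8 n10646 = n13691 := rfl
theorem F62270 : act 4 n13691 = n10648 := d33_1 D13691 (iv D10648) D10646
def n13692 : Q := act 6 n10647
theorem D13692 : act 6 n10647 = n13692 := rfl
def n13693 : Q := act 8 n10647
theorem D13693 : act 8 n10647 = n13693 := rfl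
theorem F62275 : act 3 n13693 = n10650 := d28_1 D13693 (iv D10650) (iv F49146)
def n13695 : Q := act 8 n10649
theorem D13695 : act 8 n10649 = n13695 := rfl
theorem F62281 : act 2 n13695 = n10709 := d22_1 D13695 (iv D10709) (iv F49152)
theorem F62283 : act 6 n13695 = n10650 := d40_1 D13695 (iv D10650) D10649
def n13696 : Q := act 9 n10650
theorem D13696 : act 9 n10650 = n13696 := rfl
theorem F62285 : act 2 n13696 = n10710 := d23_1 D13696 (iv D10710) (iv F49156)
def n13698 : Q := act 8 n10652
theorem D13698 : act 8 n10652 = n13698 := rfl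
theorem F62295 : act 4 n13698 = n10655 := d33_1 D13698 (iv D10655) (iv F49165)
def n13705 : Q := act 6 n10659
theorem D13705 : act 6 n10659 = n13705 := rfl
theorem F62325 : act 3 n13705 = n10660 := d26_1 D13705 (iv D10660) D10659
def n13706 : Q := act 5 n10660
theorem D13706 : act 5 n10660 = n13706 := rfl
theorem F62330 : act 6 n13706 = n10673 := d35_2 D10660 D13706 (iv D10673) (iv D8359) (iv F39131)
def n13707 : Q := act 7 n10660
theorem D13707 : act 7 n10660 = n13707 := rfl
theorem F62332 : act 0 n13707 = n13707 := d6_1 D13707 (iv D13707) F49200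
theorem F62333 : act 4 n13707 = n10661 := d32_1 D13707 (iv D10661) (iv F49201)
theorem F62334 : act 6 n13707 = n13707 := d39_1 D13707 (iv D13707) (iv D10660) F39132 D10660
theorem F62335 : act 9 n13707 = n13707 := d43_2 F49202 D13707 (iv D13707)
def n13708 : Q := act 1 n10662
theorem D13708 : act 1 n10662 = n13708 := rfl
theorem F62337 : act 5 n13708 = n10675 := d12_2 (iv F49210) D13708 (iv D10675)
theorem F62338 : act 7 n13708 = n10666 := d14_2 (iv F49211) D13708 (iv D10666)
def n13709 : Q := act 6 n10662
theorem D13709 : act 6 n10662 = n13709 := rfl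
theorem F62341 : act 2 n13709 = n10663 := d20_1 D13709 (iv D10663) D10662
def n13710 : Q := act 5 n10663
theorem D13710 : act 5 n10663 = n13710 := rfl
theorem F62346 : act 6 n13710 = n10677 := d35_2 D10663 D13710 (iv D10677) (iv D8362) (iv F39140)
def n13711 : Q := act 7 n10663
theorem D13711 : act 7 n10663 = n13711 := rfl
theorem F62351 : act 6 n13711 = n10669 := d39_1 D13711 (iv D10669) (iv D8355) (iv F39141) D10663
def n13713 : Q := act 8 n10664
theorem D13713 : act 8 n10664 = n13713 := rfl
theorem F62357 : act 6 n13713 = n10680 := d40_1 D13713 (iv D10680) (iv F49218)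
def n13714 : Q := act 0 n10666
theorem D13714 : act 0 n10666 = n13714 := rfl
def n13715 : Q := act 6 n10666
theorem D13715 : act 6 n10666 = n13715 := rfl
theorem F62362 : act 1 n13715 = n10667 := d13_1 D13715 (iv D10667) D10666
def n13716 : Q := act 5 n10667
theorem D13716 : act 5 n10667 = n13716 := rfl
theorem F62366 : act 2 n13716 = n10668 := d19_1 D13716 (iv D10668) (iv F49228)
theorem F62367 : act 6 n13716 = n10683 := d35_2 D10667 D13716 (iv D10683) (iv D8366) (iv F39152)
def n13717 : Q := act 7 n10667
theorem D13717 : act 7 n10667 = n13717 := rfl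
theorem F62369 : act 0 n13717 = n13717 := d6_1 D13717 (iv D13717) F49227
theorem F62370 : act 2 n13717 = n10669 := d21_1 D13717 (iv D10669) (iv F49228)
theorem F62371 : act 4 n13717 = n13717 := d32_1 D13717 (iv D13717) F49229
theorem F62372 : act 9 n13717 = n13717 := d43_2 F49230 D13717 (iv D13717)
def n13718 : Q := act 4 n10668
theorem D13718 : act 4 n10668 = n13718 := rfl
theorem F62373 : act 0 n13718 = n13718 := d3_1 D13718 (iv D13718) F49231
theorem F62374 : act 3 n13718 = n13718 := d24_1 D13718 (iv D13718) F49232 F39159 (iv F49232)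
theorem F62375 : act 5 n13718 = n13718 := d30_2 D10668 D13718 (iv D13718) (iv D10668) F39156
theorem F62376 : act 6 n13718 = n10685 := d31_2 (iv F49233) D13718 (iv D10685)
theorem F62377 : act 9 n13718 = n13718 := d34_2 F49234 D13718 (iv D13718)
def n13719 : Q := act 7 n10668
theorem D13719 : act 7 n10668 = n13719 := rfl
theorem F62378 : act 0 n13719 = n13719 := d6_1 D13719 (iv D13719) F49231
theorem F62379 : act 3 n13719 = n10670 := d27_1 D13719 (iv D10670) (iv F49232)
theorem F62380 : act 5 n13719 = n10669 := d36_1 D13719 (iv D10669) D10668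
theorem F62381 : act 9 n13719 = n13719 := d43_2 F49234 D13719 (iv D13719)
def n13720 : Q := act 8 n10668
theorem D13720 : act 8 n10668 = n13720 := rfl
theorem F62382 : act 0 n13720 = n13720 := d7_1 D13720 (iv D13720) F49231
theorem F62383 : act 3 n13720 = n10671 := d28_1 D13720 (iv D10671) (iv F49232)
theorem F62384 : act 6 n13720 = n10687 := d40_1 D13720 (iv D10687) (iv F49233)
def n13721 : Q := act 6 n10670
theorem D13721 : act 6 n10670 = n13721 := rfl
theorem F62387 : act 7 n13721 = n10688 := d39_2 D10670 D13721 (iv D10688) (iv D8369) (iv F39160)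
def n13722 : Q := act 8 n10670
theorem D13722 : act 8 n10670 = n13722 := rfl
theorem F62389 : act 0 n13722 = n13722 := d7_1 D13722 (iv D13722) F49239
theorem F62390 : act 4 n13722 = n13722 := d33_1 D13722 (iv D13722) F49240
theorem F62391 : act 7 n13722 = n10671 := d42_1 D13722 (iv D10671) D10670
def n13723 : Q := act 9 n10671
theorem D13723 : act 9 n10671 = n13723 := rfl
theorem F62392 : act 0 n13723 = n13723 := d8_1 D13723 (iv D13723) F49243
theorem F62393 : act 4 n13723 = n13723 := d34_1 D13723 (iv D13723) F49244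
theorem F62394 : act 6 n13723 = n10690 := d41_1 D13723 (iv D10690) (iv F49245)
theorem F62395 : act 8 n13723 = n13723 := d44_1 D13723 (iv D13723) (iv D10671) F39161 D10671
def n13724 : Q := act 5 n10672
theorem D13724 : act 5 n10672 = n13724 := rfl
theorem F62398 : act 3 n13724 = n10673 := d25_1 D13724 (iv D10673) (iv F49248)
def n13726 : Q := act 7 n10673
theorem D13726 : act 7 n10673 = n13726 := rfl
theorem F62408 : act 4 n13726 = n10679 := d32_1 D13726 (iv D10679) (iv F49253)
def n13727 : Q := act 8 n10673
theorem D13727 : act 8 n10673 = n13727 := rfl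
theorem F62412 : act 4 n13727 = n10680 := d33_1 D13727 (iv D10680) (iv F49253)
def n13728 : Q := act 0 n10675
theorem D13728 : act 0 n10675 = n13728 := rfl
theorem F62415 : act 4 n13728 = n10717 := d3_2 (iv F49260) D13728 (iv D10717)
def n13729 : Q := act 6 n10675
theorem D13729 : act 6 n10675 = n13729 := rfl
theorem F62420 : act 4 n13729 = n10718 := d31_1 D13729 (iv D10718) (iv F49260)
def n13730 : Q := act 5 n10676
theorem D13730 : act 5 n10676 = n13730 := rfl
def n13732 : Q := act 4 n10677
theorem D13732 : act 4 n10677 = n13732 := rfl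
theorem F62433 : act 5 n13732 = n10721 := d30_2 D10677 D13732 (iv D10721) (iv D8393) (iv F39188)
def n13733 : Q := act 7 n10677
theorem D13733 : act 7 n10677 = n13733 := rfl
theorem F62436 : act 3 n13733 = n10679 := d27_1 D13733 (iv D10679) (iv F49270)
theorem F62437 : act 5 n13733 = n10678 := d36_1 D13733 (iv D10678) D10677
def n13734 : Q := act 8 n10677
theorem D13734 : act 8 n10677 = n13734 := rfl
theorem F62440 : act 3 n13734 = n10680 := d28_1 D13734 (iv D10680) (iv F49270)
theorem F62441 : act 5 n13734 = n10697 := d37_1 D13734 (iv D10697) (iv D8373) (iv F39189) D10677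
def n13736 : Q := act 8 n10679
theorem D13736 : act 8 n10679 = n13736 := rfl
def n13739 : Q := act 5 n10682
theorem D13739 : act 5 n10682 = n13739 := rfl
theorem F62456 : act 1 n13739 = n10683 := d12_1 D13739 (iv D10683) (iv F49287)
def n13740 : Q := act 7 n10682
theorem D13740 : act 7 n10682 = n13740 := rfl
def n13741 : Q := act 4 n10683
theorem D13741 : act 4 n10683 = n13741 := rfl
theorem F62463 : act 2 n13741 = n10685 := d18_1 D13741 (iv D10685) (iv F49292)
def n13742 : Q := act 7 n10683
theorem D13742 : act 7 n10683 = n13742 := rfl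
theorem F62467 : act 2 n13742 = n10686 := d21_1 D13742 (iv D10686) (iv F49292)
theorem F62468 : act 5 n13742 = n10684 := d36_1 D13742 (iv D10684) D10683
def n13743 : Q := act 8 n10683
theorem D13743 : act 8 n10683 = n13743 := rfl
theorem F62471 : act 2 n13743 = n10687 := d22_1 D13743 (iv D10687) (iv F49292)
def n13744 : Q := act 7 n10685
theorem D13744 : act 7 n10685 = n13744 := rfl
theorem F62475 : act 4 n13744 = n10686 := d32_1 D13744 (iv D10686) D10685
theorem F62476 : act 5 n13744 = n10732 := d36_1 D13744 (iv D10732) (iv F49301)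
def n13745 : Q := act 8 n10685
theorem D13745 : act 8 n10685 = n13745 := rfl
theorem F62480 : act 4 n13745 = n10687 := d33_1 D13745 (iv D10687) D10685
def n13746 : Q := act 6 n10686
theorem D13746 : act 6 n10686 = n13746 := rfl
def n13747 : Q := act 8 n10686
theorem D13747 : act 8 n10686 = n13747 := rfl
theorem F62487 : act 5 n13747 = n10707 := d37_1 D13747 (iv D10707) F39259 (iv F39212) (iv F49305)
theorem F62488 : act 7 n13747 = n10687 := d42_1 D13747 (iv D10687) D10686
def n13748 : Q := act 9 n10687
theorem D13748 : act 9 n10687 = n13748 := rfl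
theorem F62490 : act 3 n13748 = n10690 := d29_1 D13748 (iv D10690) (iv F49308)
theorem F62491 : act 5 n13748 = n10708 := d38_1 D13748 (iv D10708) (iv F49309)
def n13749 : Q := act 8 n10688
theorem D13749 : act 8 n10688 = n13749 := rfl
def n13750 : Q := act 9 n10689
theorem D13750 : act 9 n10689 = n13750 := rfl
theorem F62499 : act 7 n13750 = n10690 := d43_1 D13750 (iv D10690) (iv F49316)
def n13751 : Q := act 6 n10691
theorem D13751 : act 6 n10691 = n13751 := rfl
theorem F62503 : act 4 n13751 = n10734 := d31_1 D13751 (iv D10734) (iv F49322)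
theorem F62504 : act 9 n13751 = n10830 := d41_2 (iv F49324) D13751 (iv D10830)
def n13752 : Q := act 5 n10692
theorem D13752 : act 5 n10692 = n13752 := rfl
theorem F62506 : act 9 n13752 = n10831 := d38_2 (iv F49327) D13752 (iv D10831)
def n13753 : Q := act 7 n10692
theorem D13753 : act 7 n10692 = n13753 := rfl
theorem F62508 : act 4 n13753 = n10736 := d32_1 D13753 (iv D10736) (iv F49326)
theorem F62509 : act 6 n13753 = n10703 := d39_1 D13753 (iv D10703) (iv D8378) (iv F39222) D10692
def n13754 : Q := act 4 n10693
theorem D13754 : act 4 n10693 = n13754 := rfl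
theorem F62513 : act 5 n13754 = n10737 := d30_2 D10693 D13754 (iv D10737) (iv D8406) (iv F39226)
theorem F62514 : act 9 n13754 = n10833 := d34_2 (iv F49330) D13754 (iv D10833)
def n13755 : Q := act 7 n10693
theorem D13755 : act 7 n10693 = n13755 := rfl
def n13756 : Q := act 8 n10693
theorem D13756 : act 8 n10693 = n13756 := rfl
def n13757 : Q := act 7 n10695
theorem D13757 : act 7 n10695 = n13757 := rfl
theorem F62523 : act 4 n13757 = n10696 := d32_1 D13757 (iv D10696) D10695
theorem F62524 : act 5 n13757 = n10740 := d36_1 D13757 (iv D10740) (iv F49338)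
def n13758 : Q := act 8 n10695
theorem D13758 : act 8 n10695 = n13758 := rfl
theorem F62528 : act 4 n13758 = n10697 := d33_1 D13758 (iv D10697) D10695
def n13759 : Q := act 6 n10696
theorem D13759 : act 6 n10696 = n13759 := rfl
theorem F62531 : act 5 n13759 = n10706 := d35_1 D13759 (iv D10706) F39259 (iv F39234) (iv F49342)
def n13760 : Q := act 8 n10696
theorem D13760 : act 8 n10696 = n13760 := rfl
theorem F62534 : act 3 n13760 = n10699 := d28_1 D13760 (iv D10699) (iv F49341)
def n13762 : Q := act 8 n10698
theorem D13762 : act 8 n10698 = n13762 := rfl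
theorem F62541 : act 6 n13762 = n10699 := d40_1 D13762 (iv D10699) D10698
def n13766 : Q := act 7 n10702
theorem D13766 : act 7 n10702 = n13766 := rfl
theorem F62556 : act 5 n13766 = n10703 := d36_1 D13766 (iv D10703) D10702
def n13767 : Q := act 8 n10702
theorem D13767 : act 8 n10702 = n13767 := rfl
def n13768 : Q := act 6 n10704
theorem D13768 : act 6 n10704 = n13768 := rfl
def n13769 : Q := act 8 n10704
theorem D13769 : act 8 n10704 = n13769 := rfl
theorem F62565 : act 2 n13769 = n10707 := d22_1 D13769 (iv D10707) (iv F49367)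
theorem F62567 : act 7 n13769 = n10705 := d42_1 D13769 (iv D10705) D10704
def n13771 : Q := act 8 n10706
theorem D13771 : act 8 n10706 = n13771 := rfl
theorem F62575 : act 6 n13771 = n10707 := d40_1 D13771 (iv D10707) D10706
def n13772 : Q := act 9 n10707
theorem D13772 : act 9 n10707 = n13772 := rfl
theorem F62579 : act 7 n13772 = n10708 := d43_1 D13772 (iv D10708) (iv F49381)
def n13773 : Q := act 5 n10709
theorem D13773 : act 5 n10709 = n13773 := rfl
def n13777 : Q := act 4 n10713
theorem D13777 : act 4 n10713 = n13777 := rfl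
theorem F62595 : act 3 n13777 = n10721 := d24_1 D13777 (iv D10721) F39308 (iv F39288) (iv F49403)
def n13779 : Q := act 8 n10713
theorem D13779 : act 8 n10713 = n13779 := rfl
theorem F62605 : act 3 n13779 = n10716 := d28_1 D13779 (iv D10716) (iv F49403)
def n13781 : Q := act 8 n10715
theorem D13781 : act 8 n10715 = n13781 := rfl
theorem F62618 : act 7 n13781 = n10716 := d42_1 D13781 (iv D10716) D10715
def n13782 : Q := act 9 n10716
theorem D13782 : act 9 n10716 = n13782 := rfl
theorem F62621 : act 4 n13782 = n10726 := d34_1 D13782 (iv D10726) (iv F49419)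
def n13783 : Q := act 6 n10717
theorem D13783 : act 6 n10717 = n13783 := rfl
theorem F62628 : act 8 n13783 = n10734 := d40_2 (iv F49426) D13783 (iv D10734)
def n13784 : Q := act 5 n10718
theorem D13784 : act 5 n10718 = n13784 := rfl
def n13785 : Q := act 7 n10718
theorem D13785 : act 7 n10718 = n13785 := rfl
theorem F62636 : act 6 n13785 = n10729 := d39_1 D13785 (iv D10729) (iv D8398) (iv F39299) D10718
def n13786 : Q := act 4 n10719
theorem D13786 : act 4 n10719 = n13786 := rfl
def n13787 : Q := act 7 n10719
theorem D13787 : act 7 n10719 = n13787 := rfl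
theorem F62647 : act 5 n13787 = n10720 := d36_1 D13787 (iv D10720) D10719
def n13788 : Q := act 8 n10719
theorem D13788 : act 8 n10719 = n13788 := rfl
theorem F62652 : act 5 n13788 = n10739 := d37_1 D13788 (iv D10739) (iv D8406) (iv F39305) D10719
def n13789 : Q := act 7 n10721
theorem D13789 : act 7 n10721 = n13789 := rfl
theorem F62655 : act 4 n13789 = n10722 := d32_1 D13789 (iv D10722) D10721
def n13790 : Q := act 8 n10721
theorem D13790 : act 8 n10721 = n13790 := rfl
theorem F62658 : act 4 n13790 = n10723 := d33_1 D13790 (iv D10723) D10721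
def n13791 : Q := act 6 n10722
theorem D13791 : act 6 n10722 = n13791 := rfl
theorem F62662 : act 5 n13791 = n10733 := d35_1 D13791 (iv D10733) F39351 (iv F39313) (iv F49448)
def n13792 : Q := act 8 n10722
theorem D13792 : act 8 n10722 = n13792 := rfl
theorem F62667 : act 5 n13792 = n10742 := d37_1 D13792 (iv D10742) F39384 (iv F39314) (iv F49448)
theorem F62668 : act 7 n13792 = n10723 := d42_1 D13792 (iv D10723) D10722
def n13793 : Q := act 9 n10723
theorem D13793 : act 9 n10723 = n13793 := rfl
theorem F62671 : act 5 n13793 = n10743 := d38_1 D13793 (iv D10743) (iv F49452)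
def n13794 : Q := act 8 n10724
theorem D13794 : act 8 n10724 = n13794 := rfl
theorem F62677 : act 6 n13794 = n10725 := d40_1 D13794 (iv D10725) D10724
def n13795 : Q := act 9 n10725
theorem D13795 : act 9 n10725 = n13795 := rfl
theorem F62682 : act 7 n13795 = n10726 := d43_1 D13795 (iv D10726) (iv F49462)
def n13798 : Q := act 4 n10728
theorem D13798 : act 4 n10728 = n13798 := rfl
def n13799 : Q := act 7 n10728
theorem D13799 : act 7 n10728 = n13799 := rfl
theorem F62701 : act 5 n13799 = n10729 := d36_1 D13799 (iv D10729) D10728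
def n13802 : Q := act 6 n10731
theorem D13802 : act 6 n10731 = n13802 := rfl
def n13803 : Q := act 6 n10732
theorem D13803 : act 6 n10732 = n13803 := rfl
theorem F62723 : act 4 n13803 = n10733 := d31_1 D13803 (iv D10733) (iv F49495)
def n13804 : Q := act 5 n10734
theorem D13804 : act 5 n10734 = n13804 := rfl
theorem F62730 : act 6 n13804 = n10746 := d35_2 D10734 D13804 (iv D10746) (iv D8415) (iv F39362)
theorem F62731 : act 9 n13804 = n10856 := d38_2 (iv F49506) D13804 (iv D10856)
def n13806 : Q := act 4 n10735
theorem D13806 : act 4 n10735 = n13806 := rfl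
theorem F62738 : act 6 n13806 = n10747 := d31_2 (iv F49509) D13806 (iv D10747)
theorem F62739 : act 9 n13806 = n10858 := d34_2 (iv F49510) D13806 (iv D10858)
def n13807 : Q := act 7 n10735
theorem D13807 : act 7 n10735 = n13807 := rfl
theorem F62742 : act 5 n13807 = n10736 := d36_1 D13807 (iv D10736) D10735
def n13808 : Q := act 8 n10735
theorem D13808 : act 8 n10735 = n13808 := rfl
theorem F62747 : act 6 n13808 = n10748 := d40_1 D13808 (iv D10748) (iv F49509)
def n13809 : Q := act 3 n10737
theorem D13809 : act 3 n10737 = n13809 := rfl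
theorem F62751 : act 6 n13809 = n10749 := d26_2 (iv F49517) D13809 (iv D10749)
def n13810 : Q := act 7 n10737
theorem D13810 : act 7 n10737 = n13810 := rfl
def n13811 : Q := act 8 n10737
theorem D13811 : act 8 n10737 = n13811 := rfl
theorem F62760 : act 4 n13811 = n10739 := d33_1 D13811 (iv D10739) D10737
theorem F62761 : act 6 n13811 = n10750 := d40_1 D13811 (iv D10750) (iv F49517)
def n13812 : Q := act 8 n10738
theorem D13812 : act 8 n10738 = n13812 := rfl
theorem F62766 : act 7 n13812 = n10739 := d42_1 D13812 (iv D10739) D10738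
def n13813 : Q := act 9 n10739
theorem D13813 : act 9 n10739 = n13813 := rfl
theorem F62770 : act 6 n13813 = n10751 := d41_1 D13813 (iv D10751) (iv F49528)
def n13814 : Q := act 8 n10740
theorem D13814 : act 8 n10740 = n13814 := rfl
theorem F62774 : act 4 n13814 = n10742 := d33_1 D13814 (iv D10742) (iv F49531)
theorem F62776 : act 7 n13814 = n10741 := d42_1 D13814 (iv D10741) D10740
def n13815 : Q := act 5 n10741
theorem D13815 : act 5 n10741 = n13815 := rfl
def n13816 : Q := act 9 n10741
theorem D13816 : act 9 n10741 = n13816 := rfl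
theorem F62782 : act 6 n13816 = n10753 := d41_1 D13816 (iv D10753) (iv F49537)
def n13817 : Q := act 9 n10742
theorem D13817 : act 9 n10742 = n13817 := rfl
theorem F62787 : act 7 n13817 = n10743 := d43_1 D13817 (iv D10743) (iv F49541)
def n13819 : Q := act 8 n10746
theorem D13819 : act 8 n10746 = n13819 := rfl
theorem F62795 : act 3 n13819 = n11099 := d28_1 D13819 (iv D11099) (iv F49559)
def n13820 : Q := act 3 n10747
theorem D13820 : act 3 n10747 = n13820 := rfl
theorem F62799 : act 4 n13820 = n11100 := d24_2 D10747 D13820 (iv D11100) (iv D8695) (iv F39416)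
def n13821 : Q := act 8 n10747
theorem D13821 : act 8 n10747 = n13821 := rfl
def n13822 : Q := act 9 n10748
theorem D13822 : act 9 n10748 = n13822 := rfl
theorem F62806 : act 3 n13822 = n11102 := d29_1 D13822 (iv D11102) (iv F49566)
def n13823 : Q := act 8 n10749
theorem D13823 : act 8 n10749 = n13823 := rfl
theorem F62812 : act 3 n13823 = n10750 := d28_1 D13823 (iv D10750) D10749
theorem F62813 : act 4 n13823 = n11103 := d33_1 D13823 (iv D11103) (iv F49571)
def n13825 : Q := act 9 n10750
theorem D13825 : act 9 n10750 = n13825 := rfl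
theorem F62820 : act 2 n13825 = n10753 := d23_1 D13825 (iv D10753) (iv F49575)
def n13828 : Q := act 1 n10754
theorem D13828 : act 1 n10754 = n13828 := rfl
theorem F62834 : act 4 n13828 = n11107 := d11_2 (iv F49594) D13828 (iv D11107)
theorem F62835 : act 7 n13828 = n10758 := d14_2 (iv F49595) D13828 (iv D10758)
def n13829 : Q := act 6 n10754
theorem D13829 : act 6 n10754 = n13829 := rfl
theorem F62839 : act 4 n13829 = n11108 := d31_1 D13829 (iv D11108) (iv F49594)
def n13830 : Q := act 5 n10755
theorem D13830 : act 5 n10755 = n13830 := rfl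
theorem F62841 : act 0 n13830 = n10775 := d4_1 D13830 (iv D10775) (iv F49597)
def n13832 : Q := act 7 n10756
theorem D13832 : act 7 n10756 = n13832 := rfl
theorem F62853 : act 5 n13832 = n10757 := d36_1 D13832 (iv D10757) D10756
def n13833 : Q := act 8 n10756
theorem D13833 : act 8 n10756 = n13833 := rfl
theorem F62854 : act 0 n13833 = n10778 := d7_1 D13833 (iv D10778) (iv F49602)
def n13834 : Q := act 0 n10758
theorem D13834 : act 0 n10758 = n13834 := rfl
theorem F62858 : act 1 n13834 = n10779 := d0_2 D10758 D13834 (iv D10779) (iv D8438) (iv F39452)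
theorem F62860 : act 4 n13834 = n11113 := d3_2 (iv F49611) D13834 (iv D11113)
def n13835 : Q := act 6 n10758
theorem D13835 : act 6 n10758 = n13835 := rfl
theorem F62864 : act 4 n13835 = n11114 := d31_1 D13835 (iv D11114) (iv F49611)
def n13836 : Q := act 5 n10759
theorem D13836 : act 5 n10759 = n13836 := rfl
def n13837 : Q := act 7 n10759
theorem D13837 : act 7 n10759 = n13837 := rfl
theorem F62870 : act 4 n13837 = n11116 := d32_1 D13837 (iv D11116) (iv F49615)
def n13838 : Q := act 4 n10760
theorem D13838 : act 4 n10760 = n13838 := rfl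
theorem F62874 : act 3 n13838 = n10767 := d24_1 D13838 (iv D10767) F39478 (iv F39462) (iv F49619)
theorem F62875 : act 5 n13838 = n11117 := d30_2 D10760 D13838 (iv D11117) (iv D8708) (iv F39458)
def n13839 : Q := act 7 n10760
theorem D13839 : act 7 n10760 = n13839 := rfl
theorem F62878 : act 3 n13839 = n10762 := d27_1 D13839 (iv D10762) (iv F49619)
def n13840 : Q := act 8 n10760
theorem D13840 : act 8 n10760 = n13840 := rfl
theorem F62882 : act 3 n13840 = n10763 := d28_1 D13840 (iv D10763) (iv F49619)
def n13841 : Q := act 6 n10762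
theorem D13841 : act 6 n10762 = n13841 := rfl
def n13844 : Q := act 5 n10764
theorem D13844 : act 5 n10764 = n13844 := rfl
def n13846 : Q := act 4 n10765
theorem D13846 : act 4 n10765 = n13846 := rfl
theorem F62906 : act 2 n13846 = n10767 := d18_1 D13846 (iv D10767) (iv F49639)
theorem F62907 : act 5 n13846 = n11125 := d30_2 D10765 D13846 (iv D11125) (iv D8713) (iv F39474)
def n13847 : Q := act 7 n10765
theorem D13847 : act 7 n10765 = n13847 := rfl
def n13848 : Q := act 8 n10765
theorem D13848 : act 8 n10765 = n13848 := rfl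
theorem F62913 : act 5 n13848 = n10882 := d37_1 D13848 (iv D10882) (iv D8519) (iv F39475) D10765
def n13849 : Q := act 7 n10767
theorem D13849 : act 7 n10767 = n13849 := rfl
theorem F62916 : act 4 n13849 = n10768 := d32_1 D13849 (iv D10768) D10767
theorem F62917 : act 5 n13849 = n11128 := d36_1 D13849 (iv D11128) (iv F49647)
def n13850 : Q := act 8 n10767
theorem D13850 : act 8 n10767 = n13850 := rfl
theorem F62920 : act 4 n13850 = n10769 := d33_1 D13850 (iv D10769) D10767
def n13853 : Q := act 9 n10769
theorem D13853 : act 9 n10769 = n13853 := rfl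
theorem F62932 : act 3 n13853 = n10772 := d29_1 D13853 (iv D10772) (iv F49654)
def n13856 : Q := act 0 n10773
theorem D13856 : act 0 n10773 = n13856 := rfl
theorem F62942 : act 4 n13856 = n11135 := d3_2 (iv F49667) D13856 (iv D11135)
theorem F62943 : act 7 n13856 = n10779 := d6_2 (iv F49668) D13856 (iv D10779)
def n13857 : Q := act 6 n10773
theorem D13857 : act 6 n10773 = n13857 := rfl
theorem F62946 : act 2 n13857 = n10800 := d20_1 D13857 (iv D10800) (iv F49666)
theorem F62947 : act 4 n13857 = n11136 := d31_1 D13857 (iv D11136) (iv F49667)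
def n13858 : Q := act 5 n10774
theorem D13858 : act 5 n10774 = n13858 := rfl
theorem F62949 : act 2 n13858 = n10775 := d19_1 D13858 (iv D10775) (iv F49670)
def n13859 : Q := act 7 n10774
theorem D13859 : act 7 n10774 = n13859 := rfl
theorem F62952 : act 6 n13859 = n10782 := d39_1 D13859 (iv D10782) (iv D8439) (iv F39492) D10774
def n13860 : Q := act 4 n10775
theorem D13860 : act 4 n10775 = n13860 := rfl
theorem F62956 : act 5 n13860 = n11139 := d30_2 D10775 D13860 (iv D11139) (iv D8723) (iv F39496)
def n13861 : Q := act 7 n10775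
theorem D13861 : act 7 n10775 = n13861 := rfl
theorem F62959 : act 5 n13861 = n10776 := d36_1 D13861 (iv D10776) D10775
def n13862 : Q := act 8 n10775
theorem D13862 : act 8 n10775 = n13862 := rfl
theorem F62961 : act 3 n13862 = n10778 := d28_1 D13862 (iv D10778) (iv F49674)
def n13863 : Q := act 6 n10777
theorem D13863 : act 6 n10777 = n13863 := rfl
theorem F62965 : act 5 n13863 = n10786 := d35_1 D13863 (iv D10786) F39518 (iv F39502) (iv F49682)
def n13864 : Q := act 8 n10777
theorem D13864 : act 8 n10777 = n13864 := rfl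
theorem F62969 : act 7 n13864 = n10778 := d42_1 D13864 (iv D10778) D10777
def n13866 : Q := act 6 n10779
theorem D13866 : act 6 n10779 = n13866 := rfl
theorem F62973 : act 0 n13866 = n10780 := d5_1 D13866 (iv D10780) D10779
theorem F62974 : act 2 n13866 = n10809 := d20_1 D13866 (iv D10809) (iv F49686)
theorem F62975 : act 4 n13866 = n11144 := d31_1 D13866 (iv D11144) (iv F49687)
def n13867 : Q := act 5 n10780
theorem D13867 : act 5 n10780 = n13867 := rfl
def n13868 : Q := act 7 n10780
theorem D13868 : act 7 n10780 = n13868 := rfl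
theorem F62981 : act 4 n13868 = n11146 := d32_1 D13868 (iv D11146) (iv F49691)
def n13869 : Q := act 4 n10781
theorem D13869 : act 4 n10781 = n13869 := rfl
theorem F62984 : act 5 n13869 = n11147 := d30_2 D10781 D13869 (iv D11147) (iv D8729) (iv F39508)
def n13870 : Q := act 7 n10781
theorem D13870 : act 7 n10781 = n13870 := rfl
theorem F62986 : act 5 n13870 = n10782 := d36_1 D13870 (iv D10782) D10781
def n13871 : Q := act 8 n10781
theorem D13871 : act 8 n10781 = n13871 := rfl
def n13872 : Q := act 7 n10783
theorem D13872 : act 7 n10783 = n13872 := rfl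
theorem F62991 : act 4 n13872 = n10784 := d32_1 D13872 (iv D10784) D10783
theorem F62992 : act 5 n13872 = n11150 := d36_1 D13872 (iv D11150) (iv F49699)
def n13875 : Q := act 8 n10784
theorem D13875 : act 8 n10784 = n13875 := rfl
theorem F62999 : act 3 n13875 = n10787 := d28_1 D13875 (iv D10787) (iv F49701)
def n13877 : Q := act 8 n10786
theorem D13877 : act 8 n10786 = n13877 := rfl
theorem F63007 : act 6 n13877 = n10787 := d40_1 D13877 (iv D10787) D10786
def n13879 : Q := act 3 n10789
theorem D13879 : act 3 n10789 = n13879 := rfl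
theorem F63013 : act 5 n13879 = n11157 := d25_2 (iv F49717) D13879 (iv D11157)
def n13880 : Q := act 7 n10789
theorem D13880 : act 7 n10789 = n13880 := rfl
theorem F63016 : act 4 n13880 = n10790 := d32_1 D13880 (iv D10790) D10789
theorem F63017 : act 5 n13880 = n11158 := d36_1 D13880 (iv D11158) (iv F49717)
def n13881 : Q := act 8 n10789
theorem D13881 : act 8 n10789 = n13881 := rfl
theorem F63020 : act 4 n13881 = n10791 := d33_1 D13881 (iv D10791) D10789
def n13882 : Q := act 6 n10790
theorem D13882 : act 6 n10790 = n13882 := rfl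
def n13883 : Q := act 8 n10790
theorem D13883 : act 8 n10790 = n13883 := rfl
theorem F63026 : act 5 n13883 = n10894 := d37_1 D13883 (iv D10894) F39852 (iv F39528) (iv F49720)
def n13886 : Q := act 8 n10792
theorem D13886 : act 8 n10792 = n13886 := rfl
theorem F63034 : act 4 n13886 = n10795 := d33_1 D13886 (iv D10795) (iv F49725)
def n13890 : Q := act 9 n10795
theorem D13890 : act 9 n10795 = n13890 := rfl
theorem F63045 : act 3 n13890 = n10798 := d29_1 D13890 (iv D10798) (iv F49733)
def n13891 : Q := act 5 n10797
theorem D13891 : act 5 n10797 = n13891 := rfl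
def n13892 : Q := act 9 n10797
theorem D13892 : act 9 n10797 = n13892 := rfl
theorem F63052 : act 6 n13892 = n10798 := d41_1 D13892 (iv D10798) (iv F49740)
def n13893 : Q := act 6 n10799
theorem D13893 : act 6 n10799 = n13893 := rfl
theorem F63055 : act 3 n13893 = n10830 := d26_1 D13893 (iv D10830) (iv F49745)
theorem F63056 : act 4 n13893 = n11171 := d31_1 D13893 (iv D11171) (iv F49746)
def n13894 : Q := act 5 n10800
theorem D13894 : act 5 n10800 = n13894 := rfl
theorem F63058 : act 1 n13894 = n10801 := d12_1 D13894 (iv D10801) (iv F49749)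
theorem F63059 : act 3 n13894 = n10831 := d25_1 D13894 (iv D10831) (iv F49750)
def n13896 : Q := act 4 n10801
theorem D13896 : act 4 n10801 = n13896 := rfl
theorem F63066 : act 2 n13896 = n10803 := d18_1 D13896 (iv D10803) (iv F49754)
theorem F63067 : act 5 n13896 = n11174 := d30_2 D10801 D13896 (iv D11174) (iv D8749) (iv F39551)
def n13897 : Q := act 7 n10801
theorem D13897 : act 7 n10801 = n13897 := rfl
theorem F63070 : act 3 n13897 = n10834 := d27_1 D13897 (iv D10834) (iv F49755)
theorem F63071 : act 5 n13897 = n10802 := d36_1 D13897 (iv D10802) D10801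
def n13898 : Q := act 8 n10801
theorem D13898 : act 8 n10801 = n13898 := rfl
theorem F63073 : act 2 n13898 = n10805 := d22_1 D13898 (iv D10805) (iv F49754)
theorem F63074 : act 3 n13898 = n10835 := d28_1 D13898 (iv D10835) (iv F49755)
def n13899 : Q := act 7 n10803
theorem D13899 : act 7 n10803 = n13899 := rfl
theorem F63078 : act 4 n13899 = n10804 := d32_1 D13899 (iv D10804) D10803
theorem F63079 : act 5 n13899 = n11177 := d36_1 D13899 (iv D11177) (iv F49764)
def n13900 : Q := act 8 n10803
theorem D13900 : act 8 n10803 = n13900 := rfl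
def n13901 : Q := act 6 n10804
theorem D13901 : act 6 n10804 = n13901 := rfl
theorem F63084 : act 3 n13901 = n10806 := d26_1 D13901 (iv D10806) (iv F49766)
theorem F63085 : act 5 n13901 = n10817 := d35_1 D13901 (iv D10817) F39589 (iv F39558) (iv F49767)
def n13903 : Q := act 9 n10805
theorem D13903 : act 9 n10805 = n13903 := rfl
def n13904 : Q := act 8 n10806
theorem D13904 : act 8 n10806 = n13904 := rfl
def n13906 : Q := act 5 n10809
theorem D13906 : act 5 n10809 = n13906 := rfl
theorem F63102 : act 0 n13906 = n10810 := d4_1 D13906 (iv D10810) (iv F49784)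
theorem F63104 : act 3 n13906 = n10843 := d25_1 D13906 (iv D10843) (iv F49786)
def n13907 : Q := act 7 n10809
theorem D13907 : act 7 n10809 = n13907 := rfl
def n13908 : Q := act 4 n10810
theorem D13908 : act 4 n10810 = n13908 := rfl
theorem F63112 : act 5 n13908 = n11184 := d30_2 D10810 D13908 (iv D11184) (iv D8757) (iv F39574)
def n13909 : Q := act 7 n10810
theorem D13909 : act 7 n10810 = n13909 := rfl
theorem F63115 : act 5 n13909 = n10811 := d36_1 D13909 (iv D10811) D10810
def n13910 : Q := act 8 n10810
theorem D13910 : act 8 n10810 = n13910 := rfl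
theorem F63116 : act 1 n13910 = n10814 := d15_1 D13910 (iv D10814) (iv F49789)
def n13911 : Q := act 7 n10812
theorem D13911 : act 7 n10812 = n13911 := rfl
theorem F63122 : act 4 n13911 = n10813 := d32_1 D13911 (iv D10813) D10812
theorem F63123 : act 5 n13911 = n11187 := d36_1 D13911 (iv D11187) (iv F49798)
def n13912 : Q := act 8 n10812
theorem D13912 : act 8 n10812 = n13912 := rfl
theorem F63127 : act 4 n13912 = n10814 := d33_1 D13912 (iv D10814) D10812
def n13913 : Q := act 6 n10813
theorem D13913 : act 6 n10813 = n13913 := rfl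
theorem F63130 : act 3 n13913 = n10847 := d26_1 D13913 (iv D10847) (iv F49801)
def n13914 : Q := act 8 n10813
theorem D13914 : act 8 n10813 = n13914 := rfl
theorem F63133 : act 3 n13914 = n10848 := d28_1 D13914 (iv D10848) (iv F49801)
def n13915 : Q := act 9 n10814
theorem D13915 : act 9 n10814 = n13915 := rfl
theorem F63138 : act 3 n13915 = n10849 := d29_1 D13915 (iv D10849) (iv F49805)
def n13917 : Q := act 8 n10815
theorem D13917 : act 8 n10815 = n13917 := rfl
theorem F63145 : act 4 n13917 = n10818 := d33_1 D13917 (iv D10818) (iv F49809)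
def n13918 : Q := act 5 n10816
theorem D13918 : act 5 n10816 = n13918 := rfl
theorem F63150 : act 8 n13918 = n11194 := d37_2 D10816 D13918 (iv D11194) (iv D8763) (iv F39586)
def n13920 : Q := act 8 n10817
theorem D13920 : act 8 n10817 = n13920 := rfl
theorem F63156 : act 6 n13920 = n10818 := d40_1 D13920 (iv D10818) D10817
def n13921 : Q := act 9 n10818
theorem D13921 : act 9 n10818 = n13921 := rfl
theorem F63158 : act 3 n13921 = n10821 := d29_1 D13921 (iv D10821) (iv F49817)
def n13922 : Q := act 5 n10820
theorem D13922 : act 5 n10820 = n13922 := rfl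
def n13923 : Q := act 9 n10820
theorem D13923 : act 9 n10820 = n13923 := rfl
theorem F63165 : act 2 n13923 = n10853 := d23_1 D13923 (iv D10853) (iv F49824)
theorem F63167 : act 6 n13923 = n10821 := d41_1 D13923 (iv D10821) (iv F49826)
def n13926 : Q := act 5 n10823
theorem D13926 : act 5 n10823 = n13926 := rfl
theorem F63183 : act 8 n13926 = n11202 := d37_2 D10823 D13926 (iv D11202) (iv D8770) (iv F39608)
def n13927 : Q := act 9 n10823
theorem D13927 : act 9 n10823 = n13927 := rfl
theorem F63186 : act 4 n13927 = n10827 := d34_1 D13927 (iv D10827) (iv F49837)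
def n13934 : Q := act 5 n10830
theorem D13934 : act 5 n10830 = n13934 := rfl
theorem F63216 : act 0 n13934 = n10831 := d4_1 D13934 (iv D10831) (iv F49862)
def n13935 : Q := act 7 n10830
theorem D13935 : act 7 n10830 = n13935 := rfl
theorem F63220 : act 4 n13935 = n10857 := d32_1 D13935 (iv D10857) (iv F49864)
theorem F63221 : act 6 n13935 = n10844 := d39_1 D13935 (iv D10844) (iv D8485) (iv F39634) D10830
def n13936 : Q := act 4 n10831
theorem D13936 : act 4 n10831 = n13936 := rfl
theorem F63224 : act 5 n13936 = n10858 := d30_2 D10831 D13936 (iv D10858) (iv D8498) (iv F39637)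
def n13937 : Q := act 7 n10831
theorem D13937 : act 7 n10831 = n13937 := rfl
theorem F63226 : act 5 n13937 = n10832 := d36_1 D13937 (iv D10832) D10831
def n13938 : Q := act 8 n10831
theorem D13938 : act 8 n10831 = n13938 := rfl
theorem F63227 : act 1 n13938 = n10835 := d15_1 D13938 (iv D10835) (iv F49866)
def n13939 : Q := act 3 n10833
theorem D13939 : act 3 n10833 = n13939 := rfl
theorem F63231 : act 5 n13939 = n10861 := d25_2 (iv F49873) D13939 (iv D10861)
def n13940 : Q := act 7 n10833
theorem D13940 : act 7 n10833 = n13940 := rfl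
theorem F63234 : act 4 n13940 = n10834 := d32_1 D13940 (iv D10834) D10833
theorem F63235 : act 5 n13940 = n10862 := d36_1 D13940 (iv D10862) (iv F49873)
def n13941 : Q := act 8 n10833
theorem D13941 : act 8 n10833 = n13941 := rfl
theorem F63238 : act 4 n13941 = n10835 := d33_1 D13941 (iv D10835) D10833
def n13943 : Q := act 8 n10834
theorem D13943 : act 8 n10834 = n13943 := rfl
def n13944 : Q := act 9 n10835
theorem D13944 : act 9 n10835 = n13944 := rfl
def n13945 : Q := act 6 n10836
theorem D13945 : act 6 n10836 = n13945 := rfl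
theorem F63251 : act 4 n13945 = n10838 := d31_1 D13945 (iv D10838) (iv F49882)
def n13946 : Q := act 8 n10836
theorem D13946 : act 8 n10836 = n13946 := rfl
theorem F63255 : act 4 n13946 = n10839 := d33_1 D13946 (iv D10839) (iv F49882)
def n13947 : Q := act 5 n10837
theorem D13947 : act 5 n10837 = n13947 := rfl
theorem F63261 : act 8 n13947 = n10867 := d37_2 D10837 D13947 (iv D10867) (iv D8504) (iv F39648)
def n13949 : Q := act 8 n10838
theorem D13949 : act 8 n10838 = n13949 := rfl
theorem F63267 : act 6 n13949 = n10839 := d40_1 D13949 (iv D10839) D10838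
def n13950 : Q := act 9 n10839
theorem D13950 : act 9 n10839 = n13950 := rfl
theorem F63269 : act 3 n13950 = n10842 := d29_1 D13950 (iv D10842) (iv F49891)
def n13953 : Q := act 7 n10843
theorem D13953 : act 7 n10843 = n13953 := rfl
theorem F63281 : act 5 n13953 = n10844 := d36_1 D13953 (iv D10844) D10843
def n13954 : Q := act 8 n10843
theorem D13954 : act 8 n10843 = n13954 := rfl
def n13955 : Q := act 6 n10845
theorem D13955 : act 6 n10845 = n13955 := rfl
def n13956 : Q := act 8 n10845
theorem D13956 : act 8 n10845 = n13956 := rfl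
theorem F63291 : act 7 n13956 = n10846 := d42_1 D13956 (iv D10846) D10845
def n13958 : Q := act 8 n10847
theorem D13958 : act 8 n10847 = n13958 := rfl
theorem F63298 : act 6 n13958 = n10848 := d40_1 D13958 (iv D10848) D10847
def n13961 : Q := act 9 n10850
theorem D13961 : act 9 n10850 = n13961 := rfl
def n13962 : Q := act 4 n10852
theorem D13962 : act 4 n10852 = n13962 := rfl
def n13963 : Q := act 9 n10852
theorem D13963 : act 9 n10852 = n13963 := rfl
theorem F63315 : act 5 n13963 = n10853 := d38_1 D13963 (iv D10853) D10852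
def n13967 : Q := act 4 n10856
theorem D13967 : act 4 n10856 = n13967 := rfl
theorem F63331 : act 6 n13967 = n10870 := d31_2 (iv F49953) D13967 (iv D10870)
def n13968 : Q := act 7 n10856
theorem D13968 : act 7 n10856 = n13968 := rfl
theorem F63335 : act 5 n13968 = n10857 := d36_1 D13968 (iv D10857) D10856
def n13969 : Q := act 8 n10856
theorem D13969 : act 8 n10856 = n13969 := rfl
theorem F63341 : act 6 n13969 = n10871 := d40_1 D13969 (iv D10871) (iv F49953)
def n13970 : Q := act 3 n10858
theorem D13970 : act 3 n10858 = n13970 := rfl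
theorem F63343 : act 4 n13970 = n11242 := d24_2 D10858 D13970 (iv D11242) (iv D8803) (iv F39713)
theorem F63344 : act 6 n13970 = n10872 := d26_2 (iv F49960) D13970 (iv D10872)
def n13971 : Q := act 7 n10858
theorem D13971 : act 7 n10858 = n13971 := rfl
def n13972 : Q := act 8 n10858
theorem D13972 : act 8 n10858 = n13972 := rfl
theorem F63350 : act 6 n13972 = n10873 := d40_1 D13972 (iv D10873) (iv F49960)
def n13973 : Q := act 8 n10859
theorem D13973 : act 8 n10859 = n13973 := rfl
theorem F63355 : act 7 n13973 = n10860 := d42_1 D13973 (iv D10860) D10859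
def n13974 : Q := act 9 n10860
theorem D13974 : act 9 n10860 = n13974 := rfl
theorem F63359 : act 6 n13974 = n10874 := d41_1 D13974 (iv D10874) (iv F49968)
def n13975 : Q := act 7 n10861
theorem D13975 : act 7 n10861 = n13975 := rfl
theorem F63362 : act 3 n13975 = n10862 := d27_1 D13975 (iv D10862) D10861
theorem F63363 : act 4 n13975 = n11247 := d32_1 D13975 (iv D11247) (iv F49971)
def n13976 : Q := act 8 n10861
theorem D13976 : act 8 n10861 = n13976 := rfl
theorem F63369 : act 6 n13976 = n10875 := d40_1 D13976 (iv D10875) (iv F49972)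
def n13977 : Q := act 8 n10862
theorem D13977 : act 8 n10862 = n13977 := rfl
theorem F63371 : act 2 n13977 = n10866 := d22_1 D13977 (iv D10866) (iv F49974)
theorem F63374 : act 7 n13977 = n10863 := d42_1 D13977 (iv D10863) D10862
def n13978 : Q := act 5 n10863
theorem D13978 : act 5 n10863 = n13978 := rfl
def n13979 : Q := act 9 n10863
theorem D13979 : act 9 n10863 = n13979 := rfl
theorem F63382 : act 6 n13979 = n10876 := d41_1 D13979 (iv D10876) (iv F49980)
def n13980 : Q := act 9 n10864
theorem D13980 : act 9 n10864 = n13980 := rfl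
theorem F63388 : act 7 n13980 = n10865 := d43_1 D13980 (iv D10865) (iv F49986)
def n13981 : Q := act 5 n10866
theorem D13981 : act 5 n10866 = n13981 := rfl
def n13982 : Q := act 9 n10866
theorem D13982 : act 9 n10866 = n13982 := rfl
theorem F63397 : act 7 n13982 = n10868 := d43_1 D13982 (iv D10868) (iv F49996)
def n13983 : Q := act 9 n10867
theorem D13983 : act 9 n10867 = n13983 := rfl
theorem F63401 : act 5 n13983 = n10868 := d38_1 D13983 (iv D10868) D10867
def n13984 : Q := act 3 n10870
theorem D13984 : act 3 n10870 = n13984 := rfl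
theorem F63405 : act 4 n13984 = n11257 := d24_2 D10870 D13984 (iv D11257) (iv D8815) (iv F39762)
def n13985 : Q := act 8 n10870
theorem D13985 : act 8 n10870 = n13985 := rfl
def n13986 : Q := act 9 n10871
theorem D13986 : act 9 n10871 = n13986 := rfl
theorem F63414 : act 3 n13986 = n11259 := d29_1 D13986 (iv D11259) (iv F50015)
def n13987 : Q := act 2 n10872
theorem D13987 : act 2 n10872 = n13987 := rfl
theorem F63418 : act 4 n13987 = n11260 := d18_2 (iv F50019) D13987 (iv D11260)
def n13988 : Q := act 8 n10872
theorem D13988 : act 8 n10872 = n13988 := rfl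
theorem F63421 : act 3 n13988 = n10873 := d28_1 D13988 (iv D10873) D10872
theorem F63422 : act 4 n13988 = n11261 := d33_1 D13988 (iv D11261) (iv F50019)
def n13989 : Q := act 9 n10873
theorem D13989 : act 9 n10873 = n13989 := rfl
def n13990 : Q := act 9 n10875
theorem D13990 : act 9 n10875 = n13990 := rfl
theorem F63431 : act 3 n13990 = n10876 := d29_1 D13990 (iv D10876) (iv F50031)
theorem F63432 : act 4 n13990 = n11265 := d34_1 D13990 (iv D11265) (iv F50032)
def n13991 : Q := act 4 n10878
theorem D13991 : act 4 n10878 = n13991 := rfl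
theorem F63436 : act 1 n13991 = n10880 := d11_1 D13991 (iv D10880) (iv F50048)
theorem F63438 : act 5 n13991 = n11282 := d30_2 D10878 D13991 (iv D11282) (iv D8836) (iv F39804)
def n13992 : Q := act 7 n10878
theorem D13992 : act 7 n10878 = n13992 := rfl
def n13993 : Q := act 8 n10878
theorem D13993 : act 8 n10878 = n13993 := rfl
def n13994 : Q := act 3 n10880
theorem D13994 : act 3 n10880 = n13994 := rfl
theorem F63450 : act 0 n13994 = n10890 := d2_1 D13994 (iv D10890) (iv F50058)
theorem F63452 : act 5 n13994 = n11285 := d25_2 (iv F50060) D13994 (iv D11285)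
theorem F63453 : act 6 n13994 = n13994 := d26_2 F50061 D13994 (iv D13994)
def n13995 : Q := act 7 n10880
theorem D13995 : act 7 n10880 = n13995 := rfl
theorem F63457 : act 4 n13995 = n10881 := d32_1 D13995 (iv D10881) D10880
theorem F63458 : act 5 n13995 = n11286 := d36_1 D13995 (iv D11286) (iv F50060)
def n13996 : Q := act 8 n10880
theorem D13996 : act 8 n10880 = n13996 := rfl
theorem F63460 : act 0 n13996 = n10892 := d7_1 D13996 (iv D10892) (iv F50058)
theorem F63461 : act 2 n13996 = n10884 := d22_1 D13996 (iv D10884) (iv F50059)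
theorem F63462 : act 4 n13996 = n10882 := d33_1 D13996 (iv D10882) D10880
def n13998 : Q := act 8 n10881
theorem D13998 : act 8 n10881 = n13998 := rfl
def n13999 : Q := act 9 n10882
theorem D13999 : act 9 n10882 = n13999 := rfl
def n14002 : Q := act 5 n10884
theorem D14002 : act 5 n10884 = n14002 := rfl
theorem F63490 : act 8 n14002 = n11293 := d37_2 D10884 D14002 (iv D11293) (iv D8842) (iv F39818)
def n14003 : Q := act 9 n10884
theorem D14003 : act 9 n10884 = n14003 := rfl
theorem F63494 : act 4 n14003 = n10887 := d34_1 D14003 (iv D10887) (iv F50079)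
def n14008 : Q := act 7 n10890
theorem D14008 : act 7 n10890 = n14008 := rfl
theorem F63518 : act 2 n14008 = n14008 := d21_1 D14008 (iv D14008) F50107
theorem F63519 : act 3 n14008 = n10891 := d27_1 D14008 (iv D10891) D10890
theorem F63520 : act 5 n14008 = n11299 := d36_1 D14008 (iv D11299) (iv F50108)
def n14009 : Q := act 8 n10890
theorem D14009 : act 8 n10890 = n14009 := rfl
def n14011 : Q := act 8 n10891
theorem D14011 : act 8 n10891 = n14011 := rfl
theorem F63533 : act 4 n14011 = n10894 := d33_1 D14011 (iv D10894) (iv F50113)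
def n14012 : Q := act 5 n10892
theorem D14012 : act 5 n10892 = n14012 := rfl
theorem F63537 : act 8 n14012 = n11303 := d37_2 D10892 D14012 (iv D11303) (iv D8850) (iv F39847)
def n14013 : Q := act 9 n10892
theorem D14013 : act 9 n10892 = n14013 := rfl
theorem F63540 : act 4 n14013 = n10895 := d34_1 D14013 (iv D10895) (iv F50118)
def n14015 : Q := act 9 n10894
theorem D14015 : act 9 n10894 = n14015 := rfl
def n14018 : Q := act 5 n10897
theorem D14018 : act 5 n10897 = n14018 := rfl
theorem F63568 : act 8 n14018 = n11309 := d37_2 D10897 D14018 (iv D11309) (iv D8855) (iv F39860)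
def n14019 : Q := act 9 n10897
theorem D14019 : act 9 n10897 = n14019 := rfl
theorem F63571 : act 4 n14019 = n10901 := d34_1 D14019 (iv D10901) (iv F50139)
def n14027 : Q := act 9 n10906
theorem D14027 : act 9 n10906 = n14027 := rfl
theorem F63611 : act 5 n14027 = n10907 := d38_1 D14027 (iv D10907) D10906
def n14035 : Q := act 1 n10917
theorem D14035 : act 1 n10917 = n14035 := rfl
theorem F63654 : act 8 n14035 = n10925 := d15_2 (iv F50241) D14035 (iv D10925)
def n14036 : Q := act 6 n10917
theorem D14036 : act 6 n10917 = n14036 := rfl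
theorem F63659 : act 8 n14036 = n10926 := d40_2 (iv F50241) D14036 (iv D10926)
def n14037 : Q := act 5 n10918
theorem D14037 : act 5 n10918 = n14037 := rfl
def n14038 : Q := act 7 n10918
theorem D14038 : act 7 n10918 = n14038 := rfl
theorem F63668 : act 8 n14038 = n10928 := d42_2 (iv F50246) D14038 (iv D10928)
def n14039 : Q := act 7 n10919
theorem D14039 : act 7 n10919 = n14039 := rfl
theorem F63674 : act 5 n14039 = n10920 := d36_1 D14039 (iv D10920) D10919
def n14040 : Q := act 8 n10919
theorem D14040 : act 8 n10919 = n14040 := rfl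
def n14041 : Q := act 1 n10921
theorem D14041 : act 1 n10921 = n14041 := rfl
theorem F63685 : act 7 n14041 = n10925 := d14_2 (iv F50262) D14041 (iv D10925)
theorem F63686 : act 9 n14041 = n11107 := d16_2 (iv F50263) D14041 (iv D11107)
def n14046 : Q := act 0 n10925
theorem D14046 : act 0 n10925 = n14046 := rfl
theorem F63713 : act 9 n14046 = n11113 := d8_2 (iv F50284) D14046 (iv D11113)
def n14047 : Q := act 6 n10925
theorem D14047 : act 6 n10925 = n14047 := rfl
theorem F63714 : act 1 n14047 = n10926 := d13_1 D14047 (iv D10926) D10925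
theorem F63717 : act 9 n14047 = n11114 := d41_2 (iv F50284) D14047 (iv D11114)
def n14048 : Q := act 5 n10926
theorem D14048 : act 5 n10926 = n14048 := rfl
theorem F63719 : act 2 n14048 = n10927 := d19_1 D14048 (iv D10927) (iv F50286)
theorem F63722 : act 9 n14048 = n11115 := d38_2 (iv F50288) D14048 (iv D11115)
def n14049 : Q := act 7 n10926
theorem D14049 : act 7 n10926 = n14049 := rfl
def n14050 : Q := act 4 n10927
theorem D14050 : act 4 n10927 = n14050 := rfl
theorem F63731 : act 9 n14050 = n11117 := d34_2 (iv F50293) D14050 (iv D11117)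
def n14051 : Q := act 7 n10927
theorem D14051 : act 7 n10927 = n14051 := rfl
theorem F63734 : act 3 n14051 = n10929 := d27_1 D14051 (iv D10929) (iv F50291)
theorem F63735 : act 5 n14051 = n10928 := d36_1 D14051 (iv D10928) D10927
def n14053 : Q := act 6 n10929
theorem D14053 : act 6 n10929 = n14053 := rfl
theorem F63744 : act 4 n14053 = n10937 := d31_1 D14053 (iv D10937) (iv F50301)
def n14054 : Q := act 8 n10929
theorem D14054 : act 8 n10929 = n14054 := rfl
def n14056 : Q := act 5 n10931
theorem D14056 : act 5 n10931 = n14056 := rfl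
theorem F63763 : act 9 n14056 = n11123 := d38_2 (iv F50314) D14056 (iv D11123)
def n14058 : Q := act 4 n10932
theorem D14058 : act 4 n10932 = n14058 := rfl
theorem F63774 : act 9 n14058 = n11125 := d34_2 (iv F50319) D14058 (iv D11125)
def n14060 : Q := act 8 n10932
theorem D14060 : act 8 n10932 = n14060 := rfl
def n14064 : Q := act 8 n10935
theorem D14064 : act 8 n10935 = n14064 := rfl
def n14065 : Q := act 9 n10936
theorem D14065 : act 9 n10936 = n14065 := rfl
theorem F63809 : act 8 n14065 = n11132 := d44_1 D14065 (iv D11132) (iv D8717) (iv F40002) D10936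
def n14066 : Q := act 8 n10937
theorem D14066 : act 8 n10937 = n14066 := rfl
theorem F63813 : act 6 n14066 = n10938 := d40_1 D14066 (iv D10938) D10937
def n14067 : Q := act 9 n10938
theorem D14067 : act 9 n10938 = n14067 := rfl
theorem F63819 : act 7 n14067 = n10939 := d43_1 D14067 (iv D10939) (iv F50350)
def n14068 : Q := act 1 n10940
theorem D14068 : act 1 n10940 = n14068 := rfl
theorem F63823 : act 5 n14068 = n10946 := d12_2 (iv F50358) D14068 (iv D10946)
def n14070 : Q := act 5 n10941
theorem D14070 : act 5 n10941 = n14070 := rfl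
theorem F63833 : act 6 n14070 = n10948 := d35_2 D10941 D14070 (iv D10948) (iv D8569) (iv F40020)
def n14072 : Q := act 1 n10943
theorem D14072 : act 1 n10943 = n14072 := rfl
theorem F63842 : act 2 n14072 = n10985 := d9_2 D10943 D14072 (iv D10985) (iv D8597) (iv F40029)
theorem F63844 : act 7 n14072 = n10946 := d14_2 (iv F50373) D14072 (iv D10946)
theorem F63845 : act 8 n14072 = n10952 := d15_2 (iv F50374) D14072 (iv D10952)
def n14073 : Q := act 6 n10943
theorem D14073 : act 6 n10943 = n14073 := rfl
theorem F63850 : act 8 n14073 = n10953 := d40_2 (iv F50374) D14073 (iv D10953)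
def n14075 : Q := act 0 n10946
theorem D14075 : act 0 n10946 = n14075 := rfl
theorem F63860 : act 8 n14075 = n10957 := d7_2 (iv F50390) D14075 (iv D10957)
def n14076 : Q := act 6 n10946
theorem D14076 : act 6 n10946 = n14076 := rfl
theorem F63865 : act 8 n14076 = n10958 := d40_2 (iv F50390) D14076 (iv D10958)
def n14077 : Q := act 5 n10947
theorem D14077 : act 5 n10947 = n14077 := rfl
def n14078 : Q := act 7 n10947
theorem D14078 : act 7 n10947 = n14078 := rfl
theorem F63872 : act 8 n14078 = n10960 := d42_2 (iv F50394) D14078 (iv D10960)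
def n14079 : Q := act 4 n10948
theorem D14079 : act 4 n10948 = n14079 := rfl
def n14080 : Q := act 7 n10948
theorem D14080 : act 7 n10948 = n14080 := rfl
theorem F63879 : act 5 n14080 = n10949 := d36_1 D14080 (iv D10949) D10948
def n14081 : Q := act 8 n10948
theorem D14081 : act 8 n10948 = n14081 := rfl
def n14082 : Q := act 8 n10950
theorem D14082 : act 8 n10950 = n14082 := rfl
theorem F63888 : act 5 n14082 = n10965 := d37_1 D14082 (iv D10965) F40095 (iv F40058) (iv F50406)
theorem F63890 : act 7 n14082 = n10951 := d42_1 D14082 (iv D10951) D10950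
def n14083 : Q := act 9 n10951
theorem D14083 : act 9 n10951 = n14083 := rfl
def n14084 : Q := act 0 n10952
theorem D14084 : act 0 n10952 = n14084 := rfl
theorem F63900 : act 9 n14084 = n11135 := d8_2 (iv F50417) D14084 (iv D11135)
def n14085 : Q := act 6 n10952
theorem D14085 : act 6 n10952 = n14085 := rfl
theorem F63902 : act 2 n14085 = n10998 := d20_1 D14085 (iv D10998) (iv F50413)
theorem F63904 : act 9 n14085 = n11136 := d41_2 (iv F50417) D14085 (iv D11136)
def n14086 : Q := act 5 n10953
theorem D14086 : act 5 n10953 = n14086 := rfl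
theorem F63909 : act 9 n14086 = n11137 := d38_2 (iv F50420) D14086 (iv D11137)
def n14087 : Q := act 7 n10953
theorem D14087 : act 7 n10953 = n14087 := rfl
theorem F63912 : act 6 n14087 = n10960 := d39_1 D14087 (iv D10960) (iv D8577) (iv F40062) D10953
def n14090 : Q := act 6 n10956
theorem D14090 : act 6 n10956 = n14090 := rfl
theorem F63929 : act 8 n14090 = n14090 := d40_2 F50434 D14090 (iv D14090)
theorem F63930 : act 9 n14090 = n11142 := d41_2 (iv F50435) D14090 (iv D11142)
def n14091 : Q := act 6 n10957
theorem D14091 : act 6 n10957 = n14091 := rfl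
theorem F63931 : act 0 n14091 = n10958 := d5_1 D14091 (iv D10958) D10957
theorem F63934 : act 9 n14091 = n11144 := d41_2 (iv F50439) D14091 (iv D11144)
def n14092 : Q := act 5 n10958
theorem D14092 : act 5 n10958 = n14092 := rfl
theorem F63935 : act 1 n14092 = n10959 := d12_1 D14092 (iv D10959) (iv F50440)
theorem F63939 : act 9 n14092 = n11145 := d38_2 (iv F50443) D14092 (iv D11145)
def n14093 : Q := act 7 n10958
theorem D14093 : act 7 n10958 = n14093 := rfl
def n14094 : Q := act 4 n10959
theorem D14094 : act 4 n10959 = n14094 := rfl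
theorem F63944 : act 2 n14094 = n10961 := d18_1 D14094 (iv D10961) (iv F50444)
def n14095 : Q := act 7 n10959
theorem D14095 : act 7 n10959 = n14095 := rfl
theorem F63947 : act 2 n14095 = n10962 := d21_1 D14095 (iv D10962) (iv F50444)
theorem F63949 : act 5 n14095 = n10960 := d36_1 D14095 (iv D10960) D10959
def n14096 : Q := act 8 n10959
theorem D14096 : act 8 n10959 = n14096 := rfl
def n14097 : Q := act 7 n10961
theorem D14097 : act 7 n10961 = n14097 := rfl
theorem F63955 : act 3 n14097 = n10970 := d27_1 D14097 (iv D10970) (iv F50452)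
def n14098 : Q := act 8 n10961
theorem D14098 : act 8 n10961 = n14098 := rfl
def n14099 : Q := act 6 n10962
theorem D14099 : act 6 n10962 = n14099 := rfl
theorem F63963 : act 3 n14099 = n10964 := d26_1 D14099 (iv D10964) (iv F50456)
def n14100 : Q := act 8 n10962
theorem D14100 : act 8 n10962 = n14100 := rfl
theorem F63968 : act 7 n14100 = n10963 := d42_1 D14100 (iv D10963) D10962
def n14101 : Q := act 9 n10963
theorem D14101 : act 9 n10963 = n14101 := rfl
def n14102 : Q := act 8 n10964
theorem D14102 : act 8 n10964 = n14102 := rfl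
theorem F63975 : act 4 n14102 = n10975 := d33_1 D14102 (iv D10975) (iv F50464)
theorem F63977 : act 6 n14102 = n10965 := d40_1 D14102 (iv D10965) D10964
def n14103 : Q := act 9 n10965
theorem D14103 : act 9 n10965 = n14103 := rfl
def n14105 : Q := act 7 n10967
theorem D14105 : act 7 n10967 = n14105 := rfl
theorem F63991 : act 9 n14105 = n11158 := d43_2 (iv F50479) D14105 (iv D11158)
def n14108 : Q := act 8 n10968
theorem D14108 : act 8 n10968 = n14108 := rfl
def n14110 : Q := act 6 n10970
theorem D14110 : act 6 n10970 = n14110 := rfl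
theorem F64014 : act 4 n14110 = n10972 := d31_1 D14110 (iv D10972) (iv F50491)
def n14111 : Q := act 8 n10970
theorem D14111 : act 8 n10970 = n14111 := rfl
theorem F64019 : act 7 n14111 = n10971 := d42_1 D14111 (iv D10971) D10970
def n14114 : Q := act 8 n10972
theorem D14114 : act 8 n10972 = n14114 := rfl
theorem F64028 : act 6 n14114 = n10973 := d40_1 D14114 (iv D10973) D10972
def n14115 : Q := act 9 n10973
theorem D14115 : act 9 n10973 = n14115 := rfl
theorem F64033 : act 7 n14115 = n10974 := d43_1 D14115 (iv D10974) (iv F50504)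
def n14116 : Q := act 5 n10975
theorem D14116 : act 5 n10975 = n14116 := rfl
def n14117 : Q := act 9 n10975
theorem D14117 : act 9 n10975 = n14117 := rfl
theorem F64043 : act 6 n14117 = n10976 := d41_1 D14117 (iv D10976) (iv F50512)
theorem F64045 : act 8 n14117 = n11170 := d44_1 D14117 (iv D11170) (iv D8745) (iv F40127) D10975
def n14118 : Q := act 1 n10977
theorem D14118 : act 1 n10977 = n14118 := rfl
def n14119 : Q := act 6 n10977
theorem D14119 : act 6 n10977 = n14119 := rfl
theorem F64053 : act 4 n14119 = n10982 := d31_1 D14119 (iv D10982) (iv F50521)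
def n14122 : Q := act 1 n10980
theorem D14122 : act 1 n10980 = n14122 := rfl
theorem F64067 : act 5 n14122 = n10985 := d12_2 (iv F50537) D14122 (iv D10985)
def n14123 : Q := act 0 n10981
theorem D14123 : act 0 n10981 = n14123 := rfl
theorem F64074 : act 5 n14123 = n10988 := d4_2 (iv F50543) D14123 (iv D10988)
def n14125 : Q := act 5 n10982
theorem D14125 : act 5 n10982 = n14125 := rfl
theorem F64085 : act 6 n14125 = n10990 := d35_2 D10982 D14125 (iv D10990) (iv D8601) (iv F40155)
def n14127 : Q := act 8 n10983
theorem D14127 : act 8 n10983 = n14127 := rfl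
theorem F64096 : act 6 n14127 = n10994 := d40_1 D14127 (iv D10994) (iv F50554)
def n14128 : Q := act 9 n10984
theorem D14128 : act 9 n10984 = n14128 := rfl
theorem F64102 : act 6 n14128 = n10996 := d41_1 D14128 (iv D10996) (iv F50561)
def n14129 : Q := act 0 n10985
theorem D14129 : act 0 n10985 = n14129 := rfl
theorem F64106 : act 3 n14129 = n11032 := d2_2 (iv F50563) D14129 (iv D11032)
theorem F64107 : act 7 n14129 = n10988 := d6_2 (iv F50564) D14129 (iv D10988)
theorem F64108 : act 8 n14129 = n10997 := d7_2 (iv F50565) D14129 (iv D10997)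
def n14130 : Q := act 6 n10985
theorem D14130 : act 6 n10985 = n14130 := rfl
theorem F64111 : act 3 n14130 = n11033 := d26_1 D14130 (iv D11033) (iv F50563)
def n14131 : Q := act 7 n10986
theorem D14131 : act 7 n10986 = n14131 := rfl
theorem F64119 : act 6 n14131 = n10991 := d39_1 D14131 (iv D10991) (iv D8601) (iv F40178) D10986
theorem F64120 : act 8 n14131 = n11000 := d42_2 (iv F50571) D14131 (iv D11000)
def n14132 : Q := act 6 n10988
theorem D14132 : act 6 n10988 = n14132 := rfl
theorem F64122 : act 0 n14132 = n10989 := d5_1 D14132 (iv D10989) D10988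
theorem F64125 : act 8 n14132 = n11004 := d40_2 (iv F50581) D14132 (iv D11004)
def n14133 : Q := act 5 n10989
theorem D14133 : act 5 n10989 = n14133 := rfl
def n14134 : Q := act 7 n10989
theorem D14134 : act 7 n10989 = n14134 := rfl
theorem F64132 : act 8 n14134 = n11006 := d42_2 (iv F50585) D14134 (iv D11006)
def n14135 : Q := act 4 n10990
theorem D14135 : act 4 n10990 = n14135 := rfl
def n14136 : Q := act 7 n10990
theorem D14136 : act 7 n10990 = n14136 := rfl
theorem F64140 : act 5 n14136 = n10991 := d36_1 D14136 (iv D10991) D10990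
def n14137 : Q := act 8 n10990
theorem D14137 : act 8 n10990 = n14137 := rfl
theorem F64146 : act 5 n14137 = n11009 := d37_1 D14137 (iv D11009) (iv D8613) (iv F40199) D10990
def n14138 : Q := act 7 n10992
theorem D14138 : act 7 n10992 = n14138 := rfl
theorem F64149 : act 4 n14138 = n10993 := d32_1 D14138 (iv D10993) D10992
def n14140 : Q := act 8 n10993
theorem D14140 : act 8 n10993 = n14140 := rfl
theorem F64157 : act 5 n14140 = n11013 := d37_1 D14140 (iv D11013) F40263 (iv F40206) (iv F50601)
theorem F64159 : act 7 n14140 = n10994 := d42_1 D14140 (iv D10994) D10993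
def n14141 : Q := act 9 n10994
theorem D14141 : act 9 n10994 = n14141 := rfl
def n14142 : Q := act 9 n10995
theorem D14142 : act 9 n10995 = n14142 := rfl
theorem F64167 : act 5 n14142 = n11016 := d38_1 D14142 (iv D11016) (iv F50610)
theorem F64169 : act 7 n14142 = n10996 := d43_1 D14142 (iv D10996) (iv F50612)
def n14143 : Q := act 6 n10997
theorem D14143 : act 6 n10997 = n14143 := rfl
theorem F64173 : act 3 n14143 = n11046 := d26_1 D14143 (iv D11046) (iv F50619)
theorem F64174 : act 9 n14143 = n11171 := d41_2 (iv F50622) D14143 (iv D11171)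
def n14144 : Q := act 5 n10998
theorem D14144 : act 5 n10998 = n14144 := rfl
theorem F64176 : act 3 n14144 = n11047 := d25_1 D14144 (iv D11047) (iv F50624)
theorem F64179 : act 9 n14144 = n11172 := d38_2 (iv F50625) D14144 (iv D11172)
def n14145 : Q := act 7 n10998
theorem D14145 : act 7 n10998 = n14145 := rfl
theorem F64182 : act 6 n14145 = n11006 := d39_1 D14145 (iv D11006) (iv D8612) (iv F40220) D10998
def n14146 : Q := act 4 n10999
theorem D14146 : act 4 n10999 = n14146 := rfl
theorem F64185 : act 2 n14146 = n11001 := d18_1 D14146 (iv D11001) (iv F50627)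
theorem F64188 : act 9 n14146 = n11174 := d34_2 (iv F50631) D14146 (iv D11174)
def n14147 : Q := act 7 n10999
theorem D14147 : act 7 n10999 = n14147 := rfl
theorem F64191 : act 3 n14147 = n11050 := d27_1 D14147 (iv D11050) (iv F50628)
theorem F64192 : act 5 n14147 = n11000 := d36_1 D14147 (iv D11000) D10999
def n14148 : Q := act 7 n11001
theorem D14148 : act 7 n11001 = n14148 := rfl
theorem F64197 : act 4 n14148 = n11002 := d32_1 D14148 (iv D11002) D11001
def n14149 : Q := act 6 n11002
theorem D14149 : act 6 n11002 = n14149 := rfl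
theorem F64202 : act 5 n14149 = n11012 := d35_1 D14149 (iv D11012) F40263 (iv F40233) (iv F50644)
def n14150 : Q := act 5 n11004
theorem D14150 : act 5 n11004 = n14150 := rfl
theorem F64206 : act 0 n14150 = n11005 := d4_1 D14150 (iv D11005) (iv F50654)
theorem F64210 : act 9 n14150 = n11182 := d38_2 (iv F50657) D14150 (iv D11182)
def n14151 : Q := act 7 n11004
theorem D14151 : act 7 n11004 = n14151 := rfl
def n14152 : Q := act 4 n11005
theorem D14152 : act 4 n11005 = n14152 := rfl
theorem F64215 : act 1 n14152 = n11007 := d11_1 D14152 (iv D11007) (iv F50658)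
def n14153 : Q := act 7 n11005
theorem D14153 : act 7 n11005 = n14153 := rfl
theorem F64219 : act 1 n14153 = n11008 := d14_1 D14153 (iv D11008) (iv F50658)
theorem F64221 : act 5 n14153 = n11006 := d36_1 D14153 (iv D11006) D11005
def n14154 : Q := act 8 n11005
theorem D14154 : act 8 n11005 = n14154 := rfl
def n14155 : Q := act 7 n11007
theorem D14155 : act 7 n11007 = n14155 := rfl
theorem F64227 : act 2 n14155 = n11010 := d21_1 D14155 (iv D11010) (iv F50666)
def n14156 : Q := act 8 n11007
theorem D14156 : act 8 n11007 = n14156 := rfl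
theorem F64234 : act 4 n14156 = n11009 := d33_1 D14156 (iv D11009) D11007
def n14157 : Q := act 6 n11008
theorem D14157 : act 6 n11008 = n14157 := rfl
theorem F64237 : act 2 n14157 = n11012 := d20_1 D14157 (iv D11012) (iv F50671)
def n14158 : Q := act 8 n11008
theorem D14158 : act 8 n11008 = n14158 := rfl
theorem F64244 : act 7 n14158 = n11009 := d42_1 D14158 (iv D11009) D11008
def n14159 : Q := act 9 n11009
theorem D14159 : act 9 n11009 = n14159 := rfl
def n14160 : Q := act 6 n11010
theorem D14160 : act 6 n11010 = n14160 := rfl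
theorem F64251 : act 3 n14160 = n11017 := d26_1 D14160 (iv D11017) (iv F50680)
theorem F64252 : act 4 n14160 = n11012 := d31_1 D14160 (iv D11012) (iv F50681)
def n14161 : Q := act 8 n11010
theorem D14161 : act 8 n11010 = n14161 := rfl
theorem F64257 : act 4 n14161 = n11013 := d33_1 D14161 (iv D11013) (iv F50681)
theorem F64258 : act 7 n14161 = n11011 := d42_1 D14161 (iv D11011) D11010
def n14162 : Q := act 5 n11011
theorem D14162 : act 5 n11011 = n14162 := rfl
def n14163 : Q := act 9 n11011
theorem D14163 : act 9 n11011 = n14163 := rfl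
def n14164 : Q := act 8 n11012
theorem D14164 : act 8 n11012 = n14164 := rfl
theorem F64267 : act 3 n14164 = n11015 := d28_1 D14164 (iv D11015) (iv F50688)
theorem F64269 : act 6 n14164 = n11013 := d40_1 D14164 (iv D11013) D11012
def n14165 : Q := act 9 n11013
theorem D14165 : act 9 n11013 = n14165 := rfl
theorem F64273 : act 7 n14165 = n11014 := d43_1 D14165 (iv D11014) (iv F50693)
def n14166 : Q := act 9 n11015
theorem D14166 : act 9 n11015 = n14166 := rfl
theorem F64277 : act 4 n14166 = n11024 := d34_1 D14166 (iv D11024) (iv F50700)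
theorem F64279 : act 6 n14166 = n11016 := d41_1 D14166 (iv D11016) (iv F50702)
def n14168 : Q := act 8 n11017
theorem D14168 : act 8 n11017 = n14168 := rfl
theorem F64289 : act 4 n14168 = n11021 := d33_1 D14168 (iv D11021) (iv F50711)
theorem F64290 : act 6 n14168 = n11018 := d40_1 D14168 (iv D11018) D11017
def n14169 : Q := act 5 n11018
theorem D14169 : act 5 n11018 = n14169 := rfl
def n14170 : Q := act 9 n11018
theorem D14170 : act 9 n11018 = n14170 := rfl
theorem F64299 : act 7 n14170 = n11020 := d43_1 D14170 (iv D11020) (iv F50717)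
def n14173 : Q := act 5 n11021
theorem D14173 : act 5 n11021 = n14173 := rfl
def n14174 : Q := act 9 n11021
theorem D14174 : act 9 n11021 = n14174 := rfl
theorem F64318 : act 6 n14174 = n11022 := d41_1 D14174 (iv D11022) (iv F50729)
theorem F64320 : act 8 n14174 = n11207 := d44_1 D14174 (iv D11207) (iv D8773) (iv F40295) D11021
def n14175 : Q := act 9 n11023
theorem D14175 : act 9 n11023 = n14175 := rfl
theorem F64324 : act 5 n14175 = n11024 := d38_1 D14175 (iv D11024) D11023
def n14180 : Q := act 8 n11028
theorem D14180 : act 8 n11028 = n14180 := rfl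
theorem F64356 : act 6 n14180 = n11040 := d40_1 D14180 (iv D11040) (iv F50769)
def n14183 : Q := act 6 n11032
theorem D14183 : act 6 n11032 = n14183 := rfl
theorem F64374 : act 4 n14183 = n11067 := d31_1 D14183 (iv D11067) (iv F50794)
def n14184 : Q := act 7 n11033
theorem D14184 : act 7 n11033 = n14184 := rfl
theorem F64380 : act 4 n14184 = n11069 := d32_1 D14184 (iv D11069) (iv F50800)
theorem F64382 : act 6 n14184 = n11037 := d39_1 D14184 (iv D11037) (iv D8637) (iv F40348) D11033
def n14185 : Q := act 5 n11035
theorem D14185 : act 5 n11035 = n14185 := rfl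
def n14186 : Q := act 7 n11035
theorem D14186 : act 7 n11035 = n14186 := rfl
theorem F64393 : act 8 n14186 = n11054 := d42_2 (iv F50815) D14186 (iv D11054)
def n14187 : Q := act 4 n11036
theorem D14187 : act 4 n11036 = n14187 := rfl
def n14188 : Q := act 7 n11036
theorem D14188 : act 7 n11036 = n14188 := rfl
theorem F64401 : act 5 n14188 = n11037 := d36_1 D14188 (iv D11037) D11036
def n14189 : Q := act 8 n11036
theorem D14189 : act 8 n11036 = n14189 := rfl
def n14190 : Q := act 3 n11038
theorem D14190 : act 3 n11038 = n14190 := rfl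
theorem F64409 : act 5 n14190 = n11081 := d25_2 (iv F50827) D14190 (iv D11081)
def n14191 : Q := act 7 n11038
theorem D14191 : act 7 n11038 = n14191 := rfl
theorem F64413 : act 4 n14191 = n11039 := d32_1 D14191 (iv D11039) D11038
theorem F64414 : act 5 n14191 = n11082 := d36_1 D14191 (iv D11082) (iv F50827)
def n14192 : Q := act 8 n11038
theorem D14192 : act 8 n11038 = n14192 := rfl
def n14193 : Q := act 8 n11039
theorem D14193 : act 8 n11039 = n14193 := rfl
theorem F64423 : act 5 n14193 = n11058 := d37_1 D14193 (iv D11058) F40466 (iv F40381) (iv F50831)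
theorem F64425 : act 7 n14193 = n11040 := d42_1 D14193 (iv D11040) D11039
def n14194 : Q := act 9 n11040
theorem D14194 : act 9 n11040 = n14194 := rfl
def n14195 : Q := act 8 n11041
theorem D14195 : act 8 n11041 = n14195 := rfl
theorem F64433 : act 4 n14195 = n11043 := d33_1 D14195 (iv D11043) (iv F50840)
theorem F64436 : act 7 n14195 = n11042 := d42_1 D14195 (iv D11042) D11041
def n14196 : Q := act 9 n11042
theorem D14196 : act 9 n11042 = n14196 := rfl
def n14197 : Q := act 9 n11043
theorem D14197 : act 9 n11043 = n14197 := rfl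
theorem F64446 : act 5 n14197 = n11061 := d38_1 D14197 (iv D11061) (iv F50852)
theorem F64448 : act 7 n14197 = n11044 := d43_1 D14197 (iv D11044) (iv F50854)
def n14198 : Q := act 5 n11046
theorem D14198 : act 5 n11046 = n14198 := rfl
theorem F64455 : act 9 n14198 = n11210 := d38_2 (iv F50871) D14198 (iv D11210)
def n14199 : Q := act 7 n11046
theorem D14199 : act 7 n11046 = n14199 := rfl
theorem F64460 : act 6 n14199 = n11054 := d39_1 D14199 (iv D11054) (iv D8652) (iv F40413) D11046
def n14200 : Q := act 4 n11047
theorem D14200 : act 4 n11047 = n14200 := rfl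
theorem F64464 : act 5 n14200 = n11087 := d30_2 D11047 D14200 (iv D11087) (iv D8683) (iv F40417)
def n14201 : Q := act 7 n11047
theorem D14201 : act 7 n11047 = n14201 := rfl
def n14202 : Q := act 3 n11049
theorem D14202 : act 3 n11049 = n14202 := rfl
theorem F64475 : act 5 n14202 = n11090 := d25_2 (iv F50884) D14202 (iv D11090)
theorem F64478 : act 9 n14202 = n11215 := d29_2 (iv F50887) D14202 (iv D11215)
def n14203 : Q := act 7 n11049
theorem D14203 : act 7 n11049 = n14203 := rfl
theorem F64481 : act 4 n14203 = n11050 := d32_1 D14203 (iv D11050) D11049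
theorem F64482 : act 5 n14203 = n11091 := d36_1 D14203 (iv D11091) (iv F50884)
def n14204 : Q := act 6 n11050
theorem D14204 : act 6 n11050 = n14204 := rfl
theorem F64487 : act 5 n14204 = n11057 := d35_1 D14204 (iv D11057) F40466 (iv F40427) (iv F50890)
theorem F64490 : act 9 n14204 = n11218 := d41_2 (iv F50892) D14204 (iv D11218)
def n14205 : Q := act 6 n11051
theorem D14205 : act 6 n11051 = n14205 := rfl
theorem F64494 : act 4 n14205 = n11052 := d31_1 D14205 (iv D11052) (iv F50896)
def n14206 : Q := act 7 n11053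
theorem D14206 : act 7 n11053 = n14206 := rfl
theorem F64499 : act 0 n14206 = n11055 := d6_1 D14206 (iv D11055) (iv F50907)
theorem F64503 : act 5 n14206 = n11054 := d36_1 D14206 (iv D11054) D11053
def n14207 : Q := act 8 n11053
theorem D14207 : act 8 n11053 = n14207 := rfl
def n14208 : Q := act 6 n11055
theorem D14208 : act 6 n11055 = n14208 := rfl
theorem F64510 : act 1 n14208 = n11057 := d13_1 D14208 (iv D11057) (iv F50918)
theorem F64514 : act 9 n14208 = n11227 := d41_2 (iv F50922) D14208 (iv D11227)
def n14209 : Q := act 8 n11055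
theorem D14209 : act 8 n11055 = n14209 := rfl
theorem F64518 : act 7 n14209 = n11056 := d42_1 D14209 (iv D11056) D11055
def n14210 : Q := act 9 n11056
theorem D14210 : act 9 n11056 = n14210 := rfl
def n14211 : Q := act 8 n11057
theorem D14211 : act 8 n11057 = n14211 := rfl
theorem F64525 : act 2 n14211 = n11060 := d22_1 D14211 (iv D11060) (iv F50928)
theorem F64528 : act 6 n14211 = n11058 := d40_1 D14211 (iv D11058) D11057
def n14212 : Q := act 9 n11058
theorem D14212 : act 9 n11058 = n14212 := rfl
theorem F64533 : act 7 n14212 = n11059 := d43_1 D14212 (iv D11059) (iv F50935)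
def n14213 : Q := act 9 n11060
theorem D14213 : act 9 n11060 = n14213 := rfl
theorem F64537 : act 3 n14213 = n11062 := d29_1 D14213 (iv D11062) (iv F50943)
theorem F64540 : act 6 n14213 = n11061 := d41_1 D14213 (iv D11061) (iv F50946)
def n14214 : Q := act 8 n11063
theorem D14214 : act 8 n11063 = n14214 := rfl
theorem F64547 : act 5 n14214 = n11238 := d37_1 D14214 (iv D11238) F41132 (iv F40512) (iv F50965)
def n14216 : Q := act 9 n11065
theorem D14216 : act 9 n11065 = n14216 := rfl
theorem F64562 : act 7 n14216 = n11066 := d43_1 D14216 (iv D11066) (iv F50980)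
def n14217 : Q := act 5 n11067
theorem D14217 : act 5 n11067 = n14217 := rfl
def n14218 : Q := act 7 n11067
theorem D14218 : act 7 n11067 = n14218 := rfl
def n14219 : Q := act 7 n11068
theorem D14219 : act 7 n11068 = n14219 := rfl
theorem F64579 : act 5 n14219 = n11069 := d36_1 D14219 (iv D11069) D11068
def n14220 : Q := act 8 n11068
theorem D14220 : act 8 n11068 = n14220 := rfl
theorem F64584 : act 5 n14220 = n11089 := d37_1 D14220 (iv D11089) (iv D8683) (iv F40533) D11068
def n14221 : Q := act 6 n11070
theorem D14221 : act 6 n11070 = n14221 := rfl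
theorem F64589 : act 5 n14221 = n11083 := d35_1 D14221 (iv D11083) F40592 (iv F40542) (iv F51006)
def n14222 : Q := act 8 n11070
theorem D14222 : act 8 n11070 = n14222 := rfl
theorem F64596 : act 7 n14222 = n11071 := d42_1 D14222 (iv D11071) D11070
def n14223 : Q := act 9 n11071
theorem D14223 : act 9 n11071 = n14223 := rfl
theorem F64600 : act 5 n14223 = n11094 := d38_1 D14223 (iv D11094) (iv F51011)
def n14224 : Q := act 8 n11072
theorem D14224 : act 8 n11072 = n14224 := rfl
theorem F64608 : act 6 n14224 = n11073 := d40_1 D14224 (iv D11073) D11072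
def n14225 : Q := act 9 n11073
theorem D14225 : act 9 n11073 = n14225 := rfl
theorem F64615 : act 7 n14225 = n11074 := d43_1 D14225 (iv D11074) (iv F51025)
def n14232 : Q := act 7 n11081
theorem D14232 : act 7 n11081 = n14232 := rfl
theorem F64651 : act 3 n14232 = n11082 := d27_1 D14232 (iv D11082) D11081
def n14233 : Q := act 6 n11082
theorem D14233 : act 6 n11082 = n14233 := rfl
theorem F64656 : act 4 n14233 = n11083 := d31_1 D14233 (iv D11083) (iv F51071)
def n14234 : Q := act 4 n11085
theorem D14234 : act 4 n11085 = n14234 := rfl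
theorem F64664 : act 6 n14234 = n11098 := d31_2 (iv F51090) D14234 (iv D11098)
theorem F64665 : act 9 n14234 = n11239 := d34_2 (iv F51091) D14234 (iv D11239)
def n14236 : Q := act 8 n11085
theorem D14236 : act 8 n11085 = n14236 := rfl
theorem F64675 : act 6 n14236 = n11099 := d40_1 D14236 (iv D11099) (iv F51090)
def n14237 : Q := act 3 n11087
theorem D14237 : act 3 n11087 = n14237 := rfl
theorem F64677 : act 6 n14237 = n11100 := d26_2 (iv F51099) D14237 (iv D11100)
theorem F64678 : act 9 n14237 = n11242 := d29_2 (iv F51100) D14237 (iv D11242)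
def n14238 : Q := act 7 n11087
theorem D14238 : act 7 n11087 = n14238 := rfl
def n14239 : Q := act 8 n11087
theorem D14239 : act 8 n11087 = n14239 := rfl
theorem F64688 : act 6 n14239 = n11101 := d40_1 D14239 (iv D11101) (iv F51099)
def n14241 : Q := act 9 n11089
theorem D14241 : act 9 n11089 = n14241 := rfl
theorem F64695 : act 6 n14241 = n11102 := d41_1 D14241 (iv D11102) (iv F51108)
def n14242 : Q := act 7 n11090
theorem D14242 : act 7 n11090 = n14242 := rfl
def n14243 : Q := act 8 n11090
theorem D14243 : act 8 n11090 = n14243 := rfl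
theorem F64706 : act 6 n14243 = n11103 := d40_1 D14243 (iv D11103) (iv F51111)
def n14244 : Q := act 8 n11091
theorem D14244 : act 8 n11091 = n14244 := rfl
theorem F64712 : act 7 n14244 = n11092 := d42_1 D14244 (iv D11092) D11091
def n14245 : Q := act 9 n11092
theorem D14245 : act 9 n11092 = n14245 := rfl
theorem F64717 : act 6 n14245 = n11105 := d41_1 D14245 (iv D11105) (iv F51122)
def n14246 : Q := act 9 n11093
theorem D14246 : act 9 n11093 = n14246 := rfl
theorem F64722 : act 7 n14246 = n11094 := d43_1 D14246 (iv D11094) (iv F51126)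
def n14247 : Q := act 9 n11095
theorem D14247 : act 9 n11095 = n14247 := rfl
theorem F64730 : act 7 n14247 = n11096 := d43_1 D14247 (iv D11096) (iv F51137)
def n14249 : Q := act 8 n11098
theorem D14249 : act 8 n11098 = n14249 := rfl
theorem F64740 : act 4 n14249 = n11099 := d33_1 D14249 (iv D11099) D11098
def n14250 : Q := act 9 n11099
theorem D14250 : act 9 n11099 = n14250 := rfl
def n14252 : Q := act 8 n11100
theorem D14252 : act 8 n11100 = n14252 := rfl
def n14253 : Q := act 5 n11101
theorem D14253 : act 5 n11101 = n14253 := rfl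
def n14254 : Q := act 9 n11101
theorem D14254 : act 9 n11101 = n14254 := rfl
theorem F64764 : act 4 n14254 = n11102 := d34_1 D14254 (iv D11102) (iv F51168)
theorem F64766 : act 8 n14254 = n11263 := d44_1 D14254 (iv D11263) (iv D8818) (iv F40673) D11101
def n14255 : Q := act 5 n11103
theorem D14255 : act 5 n11103 = n14255 := rfl
def n14256 : Q := act 9 n11103
theorem D14256 : act 9 n11103 = n14256 := rfl
theorem F64777 : act 8 n14256 = n11265 := d44_1 D14256 (iv D11265) (iv D8820) (iv F40682) D11103
def n14257 : Q := act 9 n11104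
theorem D14257 : act 9 n11104 = n14257 := rfl
theorem F64781 : act 5 n14257 = n11105 := d38_1 D14257 (iv D11105) D11104
def n14258 : Q := act 8 n11106
theorem D14258 : act 8 n11106 = n14258 := rfl
theorem F64788 : act 5 n14258 = n11270 := d37_1 D14258 (iv D11270) F41239 (iv F40704) (iv F51194)
def n14259 : Q := act 0 n11107
theorem D14259 : act 0 n11107 = n14259 := rfl
theorem F64792 : act 1 n14259 = n11135 := d0_2 D11107 D14259 (iv D11135) (iv D8721) (iv F40705)
theorem F64796 : act 7 n14259 = n11113 := d6_2 (iv F51200) D14259 (iv D11113)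
def n14260 : Q := act 6 n11107
theorem D14260 : act 6 n11107 = n14260 := rfl
def n14261 : Q := act 5 n11108
theorem D14261 : act 5 n11108 = n14261 := rfl
theorem F64803 : act 2 n14261 = n11109 := d19_1 D14261 (iv D11109) (iv F51203)
def n14262 : Q := act 7 n11108
theorem D14262 : act 7 n11108 = n14262 := rfl
theorem F64809 : act 6 n14262 = n11116 := d39_1 D14262 (iv D11116) (iv D8707) (iv F40708) D11108
def n14263 : Q := act 4 n11109
theorem D14263 : act 4 n11109 = n14263 := rfl
theorem F64811 : act 0 n14263 = n11139 := d3_1 D14263 (iv D11139) (iv F51206)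
def n14264 : Q := act 7 n11109
theorem D14264 : act 7 n11109 = n14264 := rfl
theorem F64818 : act 5 n14264 = n11110 := d36_1 D14264 (iv D11110) D11109
def n14265 : Q := act 8 n11109
theorem D14265 : act 8 n11109 = n14265 := rfl
theorem F64821 : act 3 n14265 = n11112 := d28_1 D14265 (iv D11112) (iv F51208)
def n14268 : Q := act 6 n11113
theorem D14268 : act 6 n11113 = n14268 := rfl
def n14269 : Q := act 5 n11114
theorem D14269 : act 5 n11114 = n14269 := rfl
theorem F64843 : act 1 n14269 = n11115 := d12_1 D14269 (iv D11115) (iv F51232)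
def n14270 : Q := act 7 n11114
theorem D14270 : act 7 n11114 = n14270 := rfl
def n14271 : Q := act 4 n11115
theorem D14271 : act 4 n11115 = n14271 := rfl
theorem F64852 : act 2 n14271 = n11117 := d18_1 D14271 (iv D11117) (iv F51237)
def n14272 : Q := act 7 n11115
theorem D14272 : act 7 n11115 = n14272 := rfl
theorem F64855 : act 2 n14272 = n11118 := d21_1 D14272 (iv D11118) (iv F51237)
theorem F64857 : act 5 n14272 = n11116 := d36_1 D14272 (iv D11116) D11115
def n14273 : Q := act 8 n11115
theorem D14273 : act 8 n11115 = n14273 := rfl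
def n14274 : Q := act 7 n11117
theorem D14274 : act 7 n11117 = n14274 := rfl
theorem F64865 : act 3 n14274 = n11128 := d27_1 D14274 (iv D11128) (iv F51246)
def n14275 : Q := act 8 n11117
theorem D14275 : act 8 n11117 = n14275 := rfl
def n14276 : Q := act 6 n11118
theorem D14276 : act 6 n11118 = n14276 := rfl
theorem F64874 : act 3 n14276 = n11120 := d26_1 D14276 (iv D11120) (iv F51250)
def n14277 : Q := act 8 n11118
theorem D14277 : act 8 n11118 = n14277 := rfl
theorem F64880 : act 7 n14277 = n11119 := d42_1 D14277 (iv D11119) D11118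
def n14278 : Q := act 9 n11119
theorem D14278 : act 9 n11119 = n14278 := rfl
def n14279 : Q := act 8 n11120
theorem D14279 : act 8 n11120 = n14279 := rfl
theorem F64889 : act 4 n14279 = n11133 := d33_1 D14279 (iv D11133) (iv F51260)
theorem F64890 : act 6 n14279 = n11121 := d40_1 D14279 (iv D11121) D11120
def n14280 : Q := act 9 n11121
theorem D14280 : act 9 n11121 = n14280 := rfl
theorem F64897 : act 7 n14280 = n11122 := d43_1 D14280 (iv D11122) (iv F51267)
def n14281 : Q := act 4 n11123
theorem D14281 : act 4 n11123 = n14281 := rfl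
def n14282 : Q := act 7 n11123
theorem D14282 : act 7 n11123 = n14282 := rfl
theorem F64903 : act 1 n14282 = n11126 := d14_1 D14282 (iv D11126) (iv F51275)
theorem F64906 : act 5 n14282 = n11124 := d36_1 D14282 (iv D11124) D11123
def n14283 : Q := act 8 n11123
theorem D14283 : act 8 n11123 = n14283 := rfl
theorem F64911 : act 5 n14283 = n11284 := d37_1 D14283 (iv D11284) (iv D8836) (iv F40756) D11123
def n14284 : Q := act 3 n11125
theorem D14284 : act 3 n11125 = n14284 := rfl
def n14285 : Q := act 7 n11125
theorem D14285 : act 7 n11125 = n14285 := rfl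
theorem F64918 : act 4 n14285 = n11126 := d32_1 D14285 (iv D11126) D11125
def n14286 : Q := act 8 n11125
theorem D14286 : act 8 n11125 = n14286 := rfl
def n14287 : Q := act 6 n11126
theorem D14287 : act 6 n11126 = n14287 := rfl
theorem F64924 : act 2 n14287 = n11130 := d20_1 D14287 (iv D11130) (iv F51289)
def n14289 : Q := act 9 n11127
theorem D14289 : act 9 n11127 = n14289 := rfl
theorem F64936 : act 5 n14289 = n11290 := d38_1 D14289 (iv D11290) (iv F51295)
def n14290 : Q := act 6 n11128
theorem D14290 : act 6 n11128 = n14290 := rfl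
theorem F64940 : act 4 n14290 = n11130 := d31_1 D14290 (iv D11130) (iv F51299)
def n14291 : Q := act 8 n11128
theorem D14291 : act 8 n11128 = n14291 := rfl
theorem F64945 : act 7 n14291 = n11129 := d42_1 D14291 (iv D11129) D11128
def n14292 : Q := act 5 n11129
theorem D14292 : act 5 n11129 = n14292 := rfl
def n14293 : Q := act 9 n11129
theorem D14293 : act 9 n11129 = n14293 := rfl
def n14294 : Q := act 8 n11130
theorem D14294 : act 8 n11130 = n14294 := rfl
theorem F64956 : act 6 n14294 = n11131 := d40_1 D14294 (iv D11131) D11130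
def n14295 : Q := act 9 n11131
theorem D14295 : act 9 n11131 = n14295 := rfl
theorem F64962 : act 7 n14295 = n11132 := d43_1 D14295 (iv D11132) (iv F51313)
def n14296 : Q := act 5 n11133
theorem D14296 : act 5 n11133 = n14296 := rfl
theorem F64966 : act 6 n14296 = n11297 := d35_2 (iv F51322) D14296 (iv D11297) F41360 (iv F40786)
def n14297 : Q := act 9 n11133
theorem D14297 : act 9 n11133 = n14297 := rfl
theorem F64972 : act 6 n14297 = n11134 := d41_1 D14297 (iv D11134) (iv F51322)
def n14298 : Q := act 6 n11135
theorem D14298 : act 6 n11135 = n14298 := rfl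
theorem F64975 : act 2 n14298 = n11171 := d20_1 D14298 (iv D11171) (iv F51329)
def n14299 : Q := act 5 n11136
theorem D14299 : act 5 n11136 = n14299 := rfl
theorem F64978 : act 1 n14299 = n11137 := d12_1 D14299 (iv D11137) (iv F51334)
theorem F64979 : act 2 n14299 = n11172 := d19_1 D14299 (iv D11172) (iv F51335)
def n14300 : Q := act 7 n11136
theorem D14300 : act 7 n11136 = n14300 := rfl
theorem F64985 : act 6 n14300 = n11146 := d39_1 D14300 (iv D11146) (iv D8728) (iv F40796) D11136
def n14301 : Q := act 4 n11137
theorem D14301 : act 4 n11137 = n14301 := rfl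
theorem F64987 : act 2 n14301 = n11139 := d18_1 D14301 (iv D11139) (iv F51338)
def n14302 : Q := act 7 n11137
theorem D14302 : act 7 n11137 = n14302 := rfl
theorem F64991 : act 5 n14302 = n11138 := d36_1 D14302 (iv D11138) D11137
def n14303 : Q := act 8 n11137
theorem D14303 : act 8 n11137 = n14303 := rfl
theorem F64992 : act 2 n14303 = n11141 := d22_1 D14303 (iv D11141) (iv F51338)
def n14304 : Q := act 7 n11139
theorem D14304 : act 7 n11139 = n14304 := rfl
theorem F64999 : act 4 n14304 = n11140 := d32_1 D14304 (iv D11140) D11139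
def n14305 : Q := act 8 n11139
theorem D14305 : act 8 n11139 = n14305 := rfl
theorem F65002 : act 4 n14305 = n11141 := d33_1 D14305 (iv D11141) D11139
def n14306 : Q := act 6 n11140
theorem D14306 : act 6 n11140 = n14306 := rfl
theorem F65007 : act 5 n14306 = n11152 := d35_1 D14306 (iv D11152) F40837 (iv F40806) (iv F51350)
def n14307 : Q := act 8 n11140
theorem D14307 : act 8 n11140 = n14307 := rfl
theorem F65012 : act 7 n14307 = n11141 := d42_1 D14307 (iv D11141) D11140
def n14308 : Q := act 8 n11142
theorem D14308 : act 8 n11142 = n14308 := rfl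
theorem F65019 : act 9 n14308 = n14308 := d44_2 F63930 D14308 (iv D14308) (iv F63930) F63929
def n14309 : Q := act 5 n11144
theorem D14309 : act 5 n11144 = n14309 := rfl
theorem F65020 : act 0 n14309 = n11145 := d4_1 D14309 (iv D11145) (iv F51367)
def n14310 : Q := act 7 n11144
theorem D14310 : act 7 n11144 = n14310 := rfl
def n14311 : Q := act 4 n11145
theorem D14311 : act 4 n11145 = n14311 := rfl
theorem F65028 : act 1 n14311 = n11147 := d11_1 D14311 (iv D11147) (iv F51371)
def n14312 : Q := act 7 n11145
theorem D14312 : act 7 n11145 = n14312 := rfl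
theorem F65031 : act 1 n14312 = n11148 := d14_1 D14312 (iv D11148) (iv F51371)
theorem F65034 : act 5 n14312 = n11146 := d36_1 D14312 (iv D11146) D11145
def n14313 : Q := act 8 n11145
theorem D14313 : act 8 n11145 = n14313 := rfl
def n14314 : Q := act 3 n11147
theorem D14314 : act 3 n11147 = n14314 := rfl
theorem F65040 : act 2 n14314 = n11157 := d17_1 D14314 (iv D11157) F40857 (iv F40833) (iv F51379)
def n14315 : Q := act 7 n11147
theorem D14315 : act 7 n11147 = n14315 := rfl
theorem F65043 : act 2 n14315 = n11150 := d21_1 D14315 (iv D11150) (iv F51379)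
theorem F65044 : act 4 n14315 = n11148 := d32_1 D14315 (iv D11148) D11147
def n14316 : Q := act 8 n11147
theorem D14316 : act 8 n11147 = n14316 := rfl
theorem F65045 : act 2 n14316 = n11151 := d22_1 D14316 (iv D11151) (iv F51379)
def n14317 : Q := act 6 n11148
theorem D14317 : act 6 n11148 = n14317 := rfl
theorem F65048 : act 2 n14317 = n11152 := d20_1 D14317 (iv D11152) (iv F51381)
def n14318 : Q := act 8 n11148
theorem D14318 : act 8 n11148 = n14318 := rfl
theorem F65054 : act 7 n14318 = n11149 := d42_1 D14318 (iv D11149) D11148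
def n14319 : Q := act 9 n11149
theorem D14319 : act 9 n11149 = n14319 := rfl
def n14320 : Q := act 6 n11150
theorem D14320 : act 6 n11150 = n14320 := rfl
theorem F65060 : act 3 n14320 = n11163 := d26_1 D14320 (iv D11163) (iv F51389)
theorem F65061 : act 4 n14320 = n11152 := d31_1 D14320 (iv D11152) (iv F51390)
def n14321 : Q := act 8 n11150
theorem D14321 : act 8 n11150 = n14321 := rfl
theorem F65066 : act 7 n14321 = n11151 := d42_1 D14321 (iv D11151) D11150
def n14322 : Q := act 5 n11151
theorem D14322 : act 5 n11151 = n14322 := rfl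
theorem F65068 : act 3 n14322 = n11165 := d25_1 D14322 (iv D11165) (iv F51392)
def n14323 : Q := act 9 n11151
theorem D14323 : act 9 n11151 = n14323 := rfl
def n14324 : Q := act 8 n11152
theorem D14324 : act 8 n11152 = n14324 := rfl
theorem F65075 : act 3 n14324 = n11155 := d28_1 D14324 (iv D11155) (iv F51396)
theorem F65076 : act 6 n14324 = n11153 := d40_1 D14324 (iv D11153) D11152
def n14325 : Q := act 9 n11153
theorem D14325 : act 9 n11153 = n14325 := rfl
theorem F65081 : act 7 n14325 = n11154 := d43_1 D14325 (iv D11154) (iv F51401)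
def n14326 : Q := act 5 n11155
theorem D14326 : act 5 n11155 = n14326 := rfl
def n14327 : Q := act 9 n11155
theorem D14327 : act 9 n11155 = n14327 := rfl
theorem F65088 : act 4 n14327 = n11170 := d34_1 D14327 (iv D11170) (iv F51408)
theorem F65089 : act 6 n14327 = n11156 := d41_1 D14327 (iv D11156) (iv F51409)
def n14328 : Q := act 7 n11157
theorem D14328 : act 7 n11157 = n14328 := rfl
theorem F65092 : act 3 n14328 = n11158 := d27_1 D14328 (iv D11158) D11157
def n14330 : Q := act 6 n11158
theorem D14330 : act 6 n11158 = n14330 := rfl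
theorem F65100 : act 4 n14330 = n11160 := d31_1 D14330 (iv D11160) (iv F51421)
def n14331 : Q := act 8 n11158
theorem D14331 : act 8 n11158 = n14331 := rfl
theorem F65105 : act 7 n14331 = n11159 := d42_1 D14331 (iv D11159) D11158
def n14332 : Q := act 5 n11159
theorem D14332 : act 5 n11159 = n14332 := rfl
def n14334 : Q := act 8 n11160
theorem D14334 : act 8 n11160 = n14334 := rfl
theorem F65114 : act 2 n14334 = n11167 := d22_1 D14334 (iv D11167) (iv F51427)
theorem F65116 : act 6 n14334 = n11161 := d40_1 D14334 (iv D11161) D11160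
theorem F65117 : act 7 n14334 = n14334 := d42_1 D14334 (iv D14334) F51430
def n14335 : Q := act 9 n11161
theorem D14335 : act 9 n11161 = n14335 := rfl
def n14337 : Q := act 8 n11163
theorem D14337 : act 8 n11163 = n14337 := rfl
theorem F65128 : act 4 n14337 = n11167 := d33_1 D14337 (iv D11167) (iv F51442)
theorem F65130 : act 6 n14337 = n11164 := d40_1 D14337 (iv D11164) D11163
def n14338 : Q := act 5 n11164
theorem D14338 : act 5 n11164 = n14338 := rfl
def n14339 : Q := act 9 n11164
theorem D14339 : act 9 n11164 = n14339 := rfl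
theorem F65138 : act 7 n14339 = n11166 := d43_1 D14339 (iv D11166) (iv F51446)
def n14340 : Q := act 6 n11165
theorem D14340 : act 6 n11165 = n14340 := rfl
theorem F65140 : act 4 n14340 = n11311 := d31_1 D14340 (iv D11311) (iv F51448)
def n14341 : Q := act 9 n11165
theorem D14341 : act 9 n11165 = n14341 := rfl
def n14342 : Q := act 5 n11167
theorem D14342 : act 5 n11167 = n14342 := rfl
theorem F65147 : act 3 n14342 = n11169 := d25_1 D14342 (iv D11169) (iv F51453)
theorem F65149 : act 6 n14342 = n11313 := d35_2 (iv F51454) D14342 (iv D11313) F41414 (iv F40879)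
def n14343 : Q := act 9 n11167
theorem D14343 : act 9 n11167 = n14343 := rfl
theorem F65154 : act 6 n14343 = n11168 := d41_1 D14343 (iv D11168) (iv F51454)
def n14344 : Q := act 4 n11169
theorem D14344 : act 4 n11169 = n14344 := rfl
theorem F65159 : act 6 n14344 = n11315 := d31_2 (iv F51462) D14344 (iv D11315)
def n14345 : Q := act 9 n11169
theorem D14345 : act 9 n11169 = n14345 := rfl
theorem F65164 : act 5 n14345 = n11170 := d38_1 D14345 (iv D11170) D11169
theorem F65165 : act 6 n14345 = n11316 := d41_1 D14345 (iv D11316) (iv F51462)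
def n14346 : Q := act 5 n11171
theorem D14346 : act 5 n11171 = n14346 := rfl
theorem F65167 : act 0 n14346 = n11172 := d4_1 D14346 (iv D11172) (iv F51469)
theorem F65169 : act 3 n14346 = n11210 := d25_1 D14346 (iv D11210) (iv F51471)
def n14347 : Q := act 7 n11171
theorem D14347 : act 7 n11171 = n14347 := rfl
theorem F65173 : act 3 n14347 = n11211 := d27_1 D14347 (iv D11211) (iv F51471)
theorem F65174 : act 6 n14347 = n11183 := d39_1 D14347 (iv D11183) (iv D8756) (iv F40896) D11171
def n14348 : Q := act 4 n11172
theorem D14348 : act 4 n11172 = n14348 := rfl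
def n14349 : Q := act 7 n11172
theorem D14349 : act 7 n11172 = n14349 := rfl
theorem F65179 : act 3 n14349 = n11213 := d27_1 D14349 (iv D11213) (iv F51474)
theorem F65180 : act 5 n14349 = n11173 := d36_1 D14349 (iv D11173) D11172
def n14350 : Q := act 8 n11172
theorem D14350 : act 8 n11172 = n14350 := rfl
theorem F65181 : act 1 n14350 = n11176 := d15_1 D14350 (iv D11176) (iv F51473)
theorem F65182 : act 3 n14350 = n11214 := d28_1 D14350 (iv D11214) (iv F51474)
def n14351 : Q := act 3 n11174
theorem D14351 : act 3 n11174 = n14351 := rfl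
theorem F65188 : act 4 n14351 = n11215 := d24_2 D11174 D14351 (iv D11215) (iv D8780) (iv F40903)
def n14352 : Q := act 7 n11174
theorem D14352 : act 7 n11174 = n14352 := rfl
theorem F65192 : act 4 n14352 = n11175 := d32_1 D14352 (iv D11175) D11174
def n14353 : Q := act 8 n11174
theorem D14353 : act 8 n11174 = n14353 := rfl
theorem F65194 : act 2 n14353 = n11178 := d22_1 D14353 (iv D11178) (iv F51481)
theorem F65195 : act 4 n14353 = n11176 := d33_1 D14353 (iv D11176) D11174
def n14354 : Q := act 6 n11175
theorem D14354 : act 6 n11175 = n14354 := rfl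
theorem F65201 : act 5 n14354 = n11189 := d35_1 D14354 (iv D11189) F40949 (iv F40908) (iv F51486)
def n14355 : Q := act 8 n11175
theorem D14355 : act 8 n11175 = n14355 := rfl
theorem F65205 : act 3 n14355 = n11219 := d28_1 D14355 (iv D11219) (iv F51485)
theorem F65207 : act 7 n14355 = n11176 := d42_1 D14355 (iv D11176) D11175
def n14356 : Q := act 6 n11177
theorem D14356 : act 6 n11177 = n14356 := rfl
theorem F65211 : act 4 n14356 = n11179 := d31_1 D14356 (iv D11179) (iv F51495)
def n14357 : Q := act 8 n11177
theorem D14357 : act 8 n11177 = n14357 := rfl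
theorem F65216 : act 7 n14357 = n11178 := d42_1 D14357 (iv D11178) D11177
def n14358 : Q := act 5 n11178
theorem D14358 : act 5 n11178 = n14358 := rfl
def n14359 : Q := act 8 n11179
theorem D14359 : act 8 n11179 = n14359 := rfl
theorem F65224 : act 6 n14359 = n11180 := d40_1 D14359 (iv D11180) D11179
def n14361 : Q := act 4 n11182
theorem D14361 : act 4 n11182 = n14361 := rfl
theorem F65233 : act 0 n14361 = n11184 := d3_1 D14361 (iv D11184) (iv F51516)
def n14362 : Q := act 7 n11182
theorem D14362 : act 7 n11182 = n14362 := rfl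
theorem F65237 : act 0 n14362 = n11185 := d6_1 D14362 (iv D11185) (iv F51516)
theorem F65240 : act 5 n14362 = n11183 := d36_1 D14362 (iv D11183) D11182
def n14363 : Q := act 8 n11182
theorem D14363 : act 8 n11182 = n14363 := rfl
def n14364 : Q := act 7 n11184
theorem D14364 : act 7 n11184 = n14364 := rfl
theorem F65246 : act 1 n14364 = n11187 := d14_1 D14364 (iv D11187) (iv F51524)
theorem F65248 : act 4 n14364 = n11185 := d32_1 D14364 (iv D11185) D11184
def n14365 : Q := act 8 n11184
theorem D14365 : act 8 n11184 = n14365 := rfl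
theorem F65249 : act 1 n14365 = n11188 := d15_1 D14365 (iv D11188) (iv F51524)
def n14366 : Q := act 6 n11185
theorem D14366 : act 6 n11185 = n14366 := rfl
theorem F65253 : act 1 n14366 = n11189 := d13_1 D14366 (iv D11189) (iv F51527)
def n14367 : Q := act 8 n11185
theorem D14367 : act 8 n11185 = n14367 := rfl
theorem F65259 : act 7 n14367 = n11186 := d42_1 D14367 (iv D11186) D11185
def n14368 : Q := act 9 n11186
theorem D14368 : act 9 n11186 = n14368 := rfl
def n14369 : Q := act 6 n11187
theorem D14369 : act 6 n11187 = n14369 := rfl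
theorem F65265 : act 2 n14369 = n11192 := d20_1 D14369 (iv D11192) (iv F51535)
theorem F65267 : act 4 n14369 = n11189 := d31_1 D14369 (iv D11189) (iv F51537)
def n14370 : Q := act 8 n11187
theorem D14370 : act 8 n11187 = n14370 := rfl
theorem F65273 : act 7 n14370 = n11188 := d42_1 D14370 (iv D11188) D11187
def n14371 : Q := act 5 n11188
theorem D14371 : act 5 n11188 = n14371 := rfl
theorem F65275 : act 2 n14371 = n11194 := d19_1 D14371 (iv D11194) (iv F51539)
def n14372 : Q := act 9 n11188
theorem D14372 : act 9 n11188 = n14372 := rfl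
def n14373 : Q := act 8 n11189
theorem D14373 : act 8 n11189 = n14373 := rfl
theorem F65284 : act 2 n14373 = n11196 := d22_1 D14373 (iv D11196) (iv F51544)
theorem F65286 : act 6 n14373 = n11190 := d40_1 D14373 (iv D11190) D11189
def n14374 : Q := act 9 n11190
theorem D14374 : act 9 n11190 = n14374 := rfl
theorem F65292 : act 7 n14374 = n11191 := d43_1 D14374 (iv D11191) (iv F51551)
def n14375 : Q := act 5 n11192
theorem D14375 : act 5 n11192 = n14375 := rfl
def n14376 : Q := act 8 n11192
theorem D14376 : act 8 n11192 = n14376 := rfl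
theorem F65298 : act 3 n14376 = n11201 := d28_1 D14376 (iv D11201) (iv F51558)
theorem F65301 : act 6 n14376 = n11193 := d40_1 D14376 (iv D11193) D11192
def n14377 : Q := act 5 n11193
theorem D14377 : act 5 n11193 = n14377 := rfl
def n14378 : Q := act 9 n11193
theorem D14378 : act 9 n11193 = n14378 := rfl
theorem F65311 : act 7 n14378 = n11195 := d43_1 D14378 (iv D11195) (iv F51564)
def n14379 : Q := act 6 n11194
theorem D14379 : act 6 n11194 = n14379 := rfl
theorem F65313 : act 3 n14379 = n11204 := d26_1 D14379 (iv D11204) (iv F51566)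
def n14380 : Q := act 9 n11194
theorem D14380 : act 9 n11194 = n14380 := rfl
theorem F65318 : act 3 n14380 = n11205 := d29_1 D14380 (iv D11205) (iv F51566)
def n14381 : Q := act 5 n11196
theorem D14381 : act 5 n11196 = n14381 := rfl
theorem F65322 : act 3 n14381 = n11198 := d25_1 D14381 (iv D11198) (iv F51573)
def n14382 : Q := act 9 n11196
theorem D14382 : act 9 n11196 = n14382 := rfl
theorem F65327 : act 3 n14382 = n11199 := d29_1 D14382 (iv D11199) (iv F51573)
theorem F65328 : act 6 n14382 = n11197 := d41_1 D14382 (iv D11197) (iv F51574)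
def n14383 : Q := act 4 n11198
theorem D14383 : act 4 n11198 = n14383 := rfl
theorem F65333 : act 5 n14383 = n11208 := d30_2 D11198 D14383 (iv D11208) (iv D8775) (iv F40975)
def n14384 : Q := act 9 n11198
theorem D14384 : act 9 n11198 = n14384 := rfl
def n14385 : Q := act 9 n11201
theorem D14385 : act 9 n11201 = n14385 := rfl
theorem F65344 : act 4 n14385 = n11207 := d34_1 D14385 (iv D11207) (iv F51595)
theorem F65346 : act 6 n14385 = n11203 := d41_1 D14385 (iv D11203) (iv F51596)
def n14386 : Q := act 9 n11202
theorem D14386 : act 9 n11202 = n14386 := rfl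
theorem F65351 : act 5 n14386 = n11203 := d38_1 D14386 (iv D11203) D11202
def n14389 : Q := act 9 n11206
theorem D14389 : act 9 n11206 = n14389 := rfl
theorem F65367 : act 5 n14389 = n11207 := d38_1 D14389 (iv D11207) D11206
theorem F65368 : act 6 n14389 = n11321 := d41_1 D14389 (iv D11321) (iv F51622)
def n14390 : Q := act 9 n11208
theorem D14390 : act 9 n11208 = n14390 := rfl
theorem F65374 : act 6 n14390 = n11322 := d41_1 D14390 (iv D11322) (iv F51633)
def n14391 : Q := act 8 n11209
theorem D14391 : act 8 n11209 = n14391 := rfl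
theorem F65378 : act 6 n14391 = n11323 := d40_1 D14391 (iv D11323) (iv F51639)
def n14392 : Q := act 4 n11210
theorem D14392 : act 4 n11210 = n14392 := rfl
theorem F65381 : act 0 n14392 = n11212 := d3_1 D14392 (iv D11212) (iv F51641)
theorem F65384 : act 5 n14392 = n11239 := d30_2 D11210 D14392 (iv D11239) (iv D8801) (iv F41020)
def n14393 : Q := act 7 n11210
theorem D14393 : act 7 n11210 = n14393 := rfl
theorem F65389 : act 5 n14393 = n11211 := d36_1 D14393 (iv D11211) D11210
def n14394 : Q := act 8 n11210
theorem D14394 : act 8 n11210 = n14394 := rfl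
def n14395 : Q := act 3 n11212
theorem D14395 : act 3 n11212 = n14395 := rfl
theorem F65397 : act 5 n14395 = n11242 := d25_2 (iv F51653) D14395 (iv D11242)
def n14396 : Q := act 7 n11212
theorem D14396 : act 7 n11212 = n14396 := rfl
theorem F65401 : act 4 n14396 = n11213 := d32_1 D14396 (iv D11213) D11212
theorem F65402 : act 5 n14396 = n11243 := d36_1 D14396 (iv D11243) (iv F51653)
def n14397 : Q := act 8 n11212
theorem D14397 : act 8 n11212 = n14397 := rfl
theorem F65403 : act 1 n14397 = n11217 := d15_1 D14397 (iv D11217) (iv F51651)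
theorem F65405 : act 4 n14397 = n11214 := d33_1 D14397 (iv D11214) D11212
def n14398 : Q := act 6 n11213
theorem D14398 : act 6 n11213 = n14398 := rfl
theorem F65410 : act 5 n14398 = n11227 := d35_1 D14398 (iv D11227) F41083 (iv F41028) (iv F51657)
def n14399 : Q := act 8 n11213
theorem D14399 : act 8 n11213 = n14399 := rfl
theorem F65415 : act 7 n14399 = n11214 := d42_1 D14399 (iv D11214) D11213
def n14400 : Q := act 7 n11215
theorem D14400 : act 7 n11215 = n14400 := rfl
theorem F65420 : act 5 n14400 = n11247 := d36_1 D14400 (iv D11247) (iv F51665)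
def n14401 : Q := act 8 n11215
theorem D14401 : act 8 n11215 = n14401 := rfl
theorem F65423 : act 3 n14401 = n11217 := d28_1 D14401 (iv D11217) D11215
def n14403 : Q := act 8 n11216
theorem D14403 : act 8 n11216 = n14403 := rfl
theorem F65433 : act 4 n14403 = n11219 := d33_1 D14403 (iv D11219) (iv F51669)
def n14404 : Q := act 5 n11217
theorem D14404 : act 5 n11217 = n14404 := rfl
theorem F65439 : act 8 n14404 = n11250 := d37_2 D11217 D14404 (iv D11250) (iv D8808) (iv F41032)
def n14405 : Q := act 8 n11218
theorem D14405 : act 8 n11218 = n14405 := rfl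
theorem F65443 : act 6 n14405 = n11219 := d40_1 D14405 (iv D11219) D11218
def n14406 : Q := act 8 n11220
theorem D14406 : act 8 n11220 = n14406 := rfl
theorem F65449 : act 4 n14406 = n11223 := d33_1 D14406 (iv D11223) (iv F51688)
theorem F65450 : act 6 n14406 = n11221 := d40_1 D14406 (iv D11221) D11220
def n14407 : Q := act 5 n11221
theorem D14407 : act 5 n11221 = n14407 := rfl
theorem F65458 : act 8 n14407 = n11253 := d37_2 D11221 D14407 (iv D11253) (iv D8811) (iv F41046)
def n14408 : Q := act 6 n11222
theorem D14408 : act 6 n11222 = n14408 := rfl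
theorem F65465 : act 8 n14408 = n11255 := d40_2 (iv F51701) D14408 (iv D11255)
def n14409 : Q := act 5 n11223
theorem D14409 : act 5 n11223 = n14409 := rfl
theorem F65472 : act 8 n14409 = n11232 := d37_2 D11223 D14409 (iv D11232) (iv D8795) (iv F41056)
def n14411 : Q := act 6 n11225
theorem D14411 : act 6 n11225 = n14411 := rfl
theorem F65481 : act 0 n14411 = n11227 := d5_1 D14411 (iv D11227) (iv F51715)
def n14412 : Q := act 8 n11225
theorem D14412 : act 8 n11225 = n14412 := rfl
def n14414 : Q := act 8 n11227
theorem D14414 : act 8 n11227 = n14414 := rfl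
theorem F65498 : act 1 n14414 = n11230 := d15_1 D14414 (iv D11230) (iv F51726)
theorem F65501 : act 6 n14414 = n11228 := d40_1 D14414 (iv D11228) D11227
def n14415 : Q := act 9 n11228
theorem D14415 : act 9 n11228 = n14415 := rfl
def n14416 : Q := act 5 n11230
theorem D14416 : act 5 n11230 = n14416 := rfl
theorem F65509 : act 2 n14416 = n11232 := d19_1 D14416 (iv D11232) (iv F51741)
def n14417 : Q := act 9 n11230
theorem D14417 : act 9 n11230 = n14417 := rfl
theorem F65513 : act 2 n14417 = n11233 := d23_1 D14417 (iv D11233) (iv F51741)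
theorem F65515 : act 6 n14417 = n11231 := d41_1 D14417 (iv D11231) (iv F51743)
def n14418 : Q := act 4 n11232
theorem D14418 : act 4 n11232 = n14418 := rfl
def n14419 : Q := act 9 n11232
theorem D14419 : act 9 n11232 = n14419 := rfl
theorem F65524 : act 3 n14419 = n11235 := d29_1 D14419 (iv D11235) (iv F51752)
def n14420 : Q := act 3 n11234
theorem D14420 : act 3 n11234 = n14420 := rfl
theorem F65532 : act 5 n14420 = n11236 := d25_2 (iv F51763) D14420 (iv D11236)
def n14421 : Q := act 9 n11234
theorem D14421 : act 9 n11234 = n14421 := rfl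
theorem F65537 : act 4 n14421 = n11235 := d34_1 D14421 (iv D11235) D11234
theorem F65538 : act 5 n14421 = n11237 := d38_1 D14421 (iv D11237) (iv F51763)
def n14422 : Q := act 9 n11236
theorem D14422 : act 9 n11236 = n14422 := rfl
theorem F65547 : act 6 n14422 = n11324 := d41_1 D14422 (iv D11324) (iv F51776)
def n14423 : Q := act 8 n11237
theorem D14423 : act 8 n11237 = n14423 := rfl
theorem F65553 : act 6 n14423 = n11325 := d40_1 D14423 (iv D11325) (iv F51782)
def n14424 : Q := act 3 n11239
theorem D14424 : act 3 n11239 = n14424 := rfl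
theorem F65556 : act 0 n14424 = n11242 := d2_1 D14424 (iv D11242) (iv F51790)
theorem F65558 : act 6 n14424 = n11257 := d26_2 (iv F51793) D14424 (iv D11257)
def n14425 : Q := act 7 n11239
theorem D14425 : act 7 n11239 = n14425 := rfl
def n14426 : Q := act 8 n11239
theorem D14426 : act 8 n11239 = n14426 := rfl
theorem F65568 : act 6 n14426 = n11258 := d40_1 D14426 (iv D11258) (iv F51793)
def n14427 : Q := act 8 n11240
theorem D14427 : act 8 n11240 = n14427 := rfl
theorem F65574 : act 7 n14427 = n11241 := d42_1 D14427 (iv D11241) D11240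
def n14428 : Q := act 9 n11241
theorem D14428 : act 9 n11241 = n14428 := rfl
theorem F65579 : act 6 n14428 = n11259 := d41_1 D14428 (iv D11259) (iv F51803)
def n14429 : Q := act 2 n11242
theorem D14429 : act 2 n11242 = n14429 := rfl
theorem F65582 : act 6 n14429 = n11260 := d20_2 (iv F51805) D14429 (iv D11260)
def n14430 : Q := act 7 n11242
theorem D14430 : act 7 n11242 = n14430 := rfl
def n14431 : Q := act 8 n11242
theorem D14431 : act 8 n11242 = n14431 := rfl
theorem F65586 : act 1 n14431 = n11248 := d15_1 D14431 (iv D11248) (iv F51804)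
theorem F65587 : act 3 n14431 = n11244 := d28_1 D14431 (iv D11244) D11242
theorem F65588 : act 6 n14431 = n11261 := d40_1 D14431 (iv D11261) (iv F51805)
def n14432 : Q := act 8 n11243
theorem D14432 : act 8 n11243 = n14432 := rfl
theorem F65593 : act 7 n14432 = n11244 := d42_1 D14432 (iv D11244) D11243
def n14433 : Q := act 5 n11244
theorem D14433 : act 5 n11244 = n14433 := rfl
def n14434 : Q := act 9 n11244
theorem D14434 : act 9 n11244 = n14434 := rfl
theorem F65600 : act 6 n14434 = n11263 := d41_1 D14434 (iv D11263) (iv F51813)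
def n14435 : Q := act 9 n11245
theorem D14435 : act 9 n11245 = n14435 := rfl
theorem F65605 : act 7 n14435 = n11246 := d43_1 D14435 (iv D11246) (iv F51818)
def n14436 : Q := act 8 n11247
theorem D14436 : act 8 n11247 = n14436 := rfl
theorem F65609 : act 6 n14436 = n14436 := d40_1 D14436 (iv D14436) F51826
theorem F65610 : act 7 n14436 = n11248 := d42_1 D14436 (iv D11248) D11247
def n14437 : Q := act 5 n11248
theorem D14437 : act 5 n11248 = n14437 := rfl
def n14438 : Q := act 9 n11248
theorem D14438 : act 9 n11248 = n14438 := rfl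
theorem F65617 : act 6 n14438 = n11265 := d41_1 D14438 (iv D11265) (iv F51830)
def n14439 : Q := act 5 n11249
theorem D14439 : act 5 n11249 = n14439 := rfl
theorem F65621 : act 7 n14439 = n11250 := d36_2 (iv F51835) D14439 (iv D11250)
def n14440 : Q := act 9 n11249
theorem D14440 : act 9 n11249 = n14440 := rfl
theorem F65626 : act 7 n14440 = n11251 := d43_1 D14440 (iv D11251) (iv F51835)
def n14441 : Q := act 6 n11250
theorem D14441 : act 6 n11250 = n14441 := rfl
theorem F65628 : act 2 n14441 = n11255 := d20_1 D14441 (iv D11255) (iv F51837)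
theorem F65630 : act 5 n14441 = n11266 := d35_1 D14441 (iv D11266) (iv D8821) (iv F41165) D11250
def n14442 : Q := act 9 n11250
theorem D14442 : act 9 n11250 = n14442 := rfl
def n14443 : Q := act 6 n11253
theorem D14443 : act 6 n11253 = n14443 := rfl
def n14444 : Q := act 9 n11253
theorem D14444 : act 9 n11253 = n14444 := rfl
theorem F65646 : act 7 n14444 = n11256 := d43_1 D14444 (iv D11256) (iv F51852)
def n14445 : Q := act 7 n11255
theorem D14445 : act 7 n11255 = n14445 := rfl
theorem F65652 : act 5 n14445 = n11268 := d36_1 D14445 (iv D11268) (iv F51863)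
def n14446 : Q := act 9 n11255
theorem D14446 : act 9 n11255 = n14446 := rfl
theorem F65657 : act 5 n14446 = n11269 := d38_1 D14446 (iv D11269) (iv F51863)
theorem F65658 : act 6 n14446 = n11256 := d41_1 D14446 (iv D11256) D11255
def n14448 : Q := act 8 n11257
theorem D14448 : act 8 n11257 = n14448 := rfl
theorem F65664 : act 0 n14448 = n11261 := d7_1 D14448 (iv D11261) (iv F51870)
theorem F65666 : act 3 n14448 = n11258 := d28_1 D14448 (iv D11258) D11257
def n14449 : Q := act 5 n11258
theorem D14449 : act 5 n11258 = n14449 := rfl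
theorem F65671 : act 4 n14449 = n11271 := d30_1 D14449 (iv D11271) F41245 (iv F41204) (iv F51877)
def n14450 : Q := act 9 n11258
theorem D14450 : act 9 n11258 = n14450 := rfl
theorem F65677 : act 4 n14450 = n11259 := d34_1 D14450 (iv D11259) (iv F51877)
def n14451 : Q := act 8 n11260
theorem D14451 : act 8 n11260 = n14451 := rfl
theorem F65680 : act 2 n14451 = n11261 := d22_1 D14451 (iv D11261) D11260
def n14452 : Q := act 5 n11261
theorem D14452 : act 5 n11261 = n14452 := rfl
theorem F65684 : act 3 n14452 = n11262 := d25_1 D14452 (iv D11262) (iv F51889)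
def n14453 : Q := act 9 n11261
theorem D14453 : act 9 n11261 = n14453 := rfl
def n14454 : Q := act 6 n11262
theorem D14454 : act 6 n11262 = n14454 := rfl
theorem F65691 : act 1 n14454 = n11266 := d13_1 D14454 (iv D11266) (iv F51891)
theorem F65693 : act 4 n14454 = n11273 := d31_1 D14454 (iv D11273) (iv F51893)
def n14455 : Q := act 9 n11262
theorem D14455 : act 9 n11262 = n14455 := rfl
theorem F65697 : act 4 n14455 = n11274 := d34_1 D14455 (iv D11274) (iv F51893)
theorem F65698 : act 5 n14455 = n11263 := d38_1 D14455 (iv D11263) D11262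
def n14456 : Q := act 6 n11264
theorem D14456 : act 6 n11264 = n14456 := rfl
theorem F65702 : act 3 n14456 = n11266 := d26_1 D14456 (iv D11266) (iv F51902)
def n14457 : Q := act 9 n11264
theorem D14457 : act 9 n11264 = n14457 := rfl
theorem F65709 : act 5 n14457 = n11265 := d38_1 D14457 (iv D11265) D11264
def n14459 : Q := act 9 n11266
theorem D14459 : act 9 n11266 = n14459 := rfl
theorem F65718 : act 4 n14459 = n11276 := d34_1 D14459 (iv D11276) (iv F51912)
theorem F65719 : act 6 n14459 = n11267 := d41_1 D14459 (iv D11267) D11266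
def n14460 : Q := act 8 n11267
theorem D14460 : act 8 n11267 = n14460 := rfl
def n14461 : Q := act 9 n11268
theorem D14461 : act 9 n11268 = n14461 := rfl
theorem F65730 : act 7 n14461 = n11269 := d43_1 D14461 (iv D11269) D11268
def n14462 : Q := act 8 n11269
theorem D14462 : act 8 n11269 = n14462 := rfl
theorem F65734 : act 4 n14462 = n11279 := d33_1 D14462 (iv D11279) (iv F51928)
theorem F65736 : act 6 n14462 = n11270 := d40_1 D14462 (iv D11270) (iv F51929)
def n14463 : Q := act 6 n11271
theorem D14463 : act 6 n11271 = n14463 := rfl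
theorem F65738 : act 0 n14463 = n11273 := d5_1 D14463 (iv D11273) (iv F51936)
theorem F65740 : act 2 n14463 = n14463 := d20_1 D14463 (iv D14463) F51938
theorem F65741 : act 3 n14463 = n14463 := d26_1 D14463 (iv D14463) F51939
def n14464 : Q := act 9 n11271
theorem D14464 : act 9 n11271 = n14464 := rfl
theorem F65748 : act 5 n14464 = n11272 := d38_1 D14464 (iv D11272) D11271
def n14465 : Q := act 7 n11273
theorem D14465 : act 7 n11273 = n14465 := rfl
def n14466 : Q := act 9 n11273
theorem D14466 : act 9 n11273 = n14466 := rfl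
theorem F65756 : act 1 n14466 = n11276 := d16_1 D14466 (iv D11276) (iv F51950)
theorem F65760 : act 6 n14466 = n11274 := d41_1 D14466 (iv D11274) D11273
def n14467 : Q := act 8 n11274
theorem D14467 : act 8 n11274 = n14467 := rfl
theorem F65764 : act 5 n14467 = n14467 := d37_1 D14467 (iv D14467) F51958 F41265 (iv F51958)
def n14469 : Q := act 8 n11276
theorem D14469 : act 8 n11276 = n14469 := rfl
theorem F65774 : act 2 n14469 = n11279 := d22_1 D14469 (iv D11279) (iv F51967)
theorem F65776 : act 6 n14469 = n11277 := d40_1 D14469 (iv D11277) (iv F51970)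
def n14474 : Q := act 3 n11282
theorem D14474 : act 3 n11282 = n14474 := rfl
theorem F65808 : act 6 n14474 = n11326 := d26_2 (iv F52004) D14474 (iv D11326)
def n14475 : Q := act 7 n11282
theorem D14475 : act 7 n11282 = n14475 := rfl
def n14476 : Q := act 8 n11282
theorem D14476 : act 8 n11282 = n14476 := rfl
theorem F65816 : act 1 n14476 = n11287 := d15_1 D14476 (iv D11287) (iv F52002)
theorem F65819 : act 6 n14476 = n11328 := d40_1 D14476 (iv D11328) (iv F52004)
def n14477 : Q := act 6 n11283
theorem D14477 : act 6 n11283 = n14477 := rfl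
theorem F65821 : act 1 n14477 = n11288 := d13_1 D14477 (iv D11288) (iv F52007)
def n14478 : Q := act 8 n11283
theorem D14478 : act 8 n11283 = n14478 := rfl
theorem F65827 : act 0 n14478 = n14478 := d7_1 D14478 (iv D14478) F52006
theorem F65829 : act 2 n14478 = n14478 := d22_1 D14478 (iv D14478) F52008
theorem F65830 : act 3 n14478 = n14478 := d28_1 D14478 (iv D14478) F52009
def n14479 : Q := act 9 n11284
theorem D14479 : act 9 n11284 = n14479 := rfl
theorem F65836 : act 6 n14479 = n11331 := d41_1 D14479 (iv D11331) (iv F52016)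
def n14480 : Q := act 7 n11285
theorem D14480 : act 7 n11285 = n14480 := rfl
def n14481 : Q := act 8 n11285
theorem D14481 : act 8 n11285 = n14481 := rfl
theorem F65845 : act 3 n14481 = n11287 := d28_1 D14481 (iv D11287) D11285
theorem F65847 : act 6 n14481 = n11333 := d40_1 D14481 (iv D11333) (iv F52020)
def n14483 : Q := act 8 n11286
theorem D14483 : act 8 n11286 = n14483 := rfl
theorem F65856 : act 7 n14483 = n11287 := d42_1 D14483 (iv D11287) D11286
def n14484 : Q := act 5 n11287
theorem D14484 : act 5 n11287 = n14484 := rfl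
def n14485 : Q := act 9 n11287
theorem D14485 : act 9 n11287 = n14485 := rfl
theorem F65862 : act 6 n14485 = n11337 := d41_1 D14485 (iv D11337) (iv F52029)
def n14486 : Q := act 8 n11288
theorem D14486 : act 8 n11288 = n14486 := rfl
theorem F65865 : act 2 n14486 = n11295 := d22_1 D14486 (iv D11295) (iv F52031)
theorem F65867 : act 6 n14486 = n11289 := d40_1 D14486 (iv D11289) D11288
def n14487 : Q := act 9 n11289
theorem D14487 : act 9 n11289 = n14487 := rfl
def n14488 : Q := act 5 n11291
theorem D14488 : act 5 n11291 = n14488 := rfl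
theorem F65878 : act 7 n14488 = n11340 := d36_2 (iv F52049) D14488 (iv D11340)
theorem F65880 : act 8 n14488 = n14488 := d42_0 F65878 F52299 (iv F65878)
def n14489 : Q := act 8 n11291
theorem D14489 : act 8 n11291 = n14489 := rfl
theorem F65884 : act 4 n14489 = n11295 := d33_1 D14489 (iv D11295) (iv F52048)
theorem F65885 : act 5 n14489 = n14489 := d37_1 D14489 (iv D14489) D14488 F65880 (iv D14488)
theorem F65886 : act 6 n14489 = n11292 := d40_1 D14489 (iv D11292) D11291
def n14491 : Q := act 9 n11292
theorem D14491 : act 9 n11292 = n14491 := rfl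
def n14492 : Q := act 6 n11293
theorem D14492 : act 6 n11293 = n14492 := rfl
theorem F65899 : act 0 n14492 = n11311 := d5_1 D14492 (iv D11311) (iv F52056)
theorem F65902 : act 5 n14492 = n11344 := d35_1 D14492 (iv D11344) (iv D8886) (iv F41340) D11293
def n14493 : Q := act 9 n11293
theorem D14493 : act 9 n11293 = n14493 := rfl
def n14494 : Q := act 5 n11295
theorem D14494 : act 5 n11295 = n14494 := rfl
theorem F65910 : act 3 n14494 = n11297 := d25_1 D14494 (iv D11297) (iv F52067)
def n14495 : Q := act 9 n11295
theorem D14495 : act 9 n11295 = n14495 := rfl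
theorem F65917 : act 6 n14495 = n11296 := d41_1 D14495 (iv D11296) (iv F52068)
def n14496 : Q := act 4 n11297
theorem D14496 : act 4 n11297 = n14496 := rfl
theorem F65920 : act 0 n14496 = n11315 := d3_1 D14496 (iv D11315) (iv F52075)
theorem F65925 : act 7 n14496 = n11348 := d32_2 (iv F52078) D14496 (iv D11348)
def n14497 : Q := act 9 n11297
theorem D14497 : act 9 n11297 = n14497 := rfl
theorem F65930 : act 5 n14497 = n11298 := d38_1 D14497 (iv D11298) D11297
def n14498 : Q := act 6 n11299
theorem D14498 : act 6 n11299 = n14498 := rfl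
theorem F65933 : act 2 n14498 = n14498 := d20_1 D14498 (iv D14498) F52088
theorem F65934 : act 3 n14498 = n11301 := d26_1 D14498 (iv D11301) (iv F52089)
theorem F65936 : act 7 n14498 = n11350 := d39_2 D11299 D14498 (iv D11350) (iv D8892) (iv F41371)
theorem F65937 : act 9 n14498 = n14498 := d41_2 F52091 D14498 (iv D14498)
def n14499 : Q := act 8 n11299
theorem D14499 : act 8 n11299 = n14499 := rfl
theorem F65939 : act 2 n14499 = n14499 := d22_1 D14499 (iv D14499) F52088
theorem F65940 : act 3 n14499 = n11302 := d28_1 D14499 (iv D11302) (iv F52089)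
theorem F65942 : act 7 n14499 = n11300 := d42_1 D14499 (iv D11300) D11299
theorem E1171 : n14305 = n12044 := (c45_24 (iv F26727) D7015 F33254 F33255 (iv F41371) D11299 D14499 F65939 F65940 F52104 (iv F51434) (iv F65116) F65117 (iv D14334) F51427 F40874 (iv F40844) (iv F51359) (iv D11142) (iv D8725) D8726 F40813 (iv F51352) (iv F65002) (iv D12044) (iv D9424) F35465 (iv F43996) (iv D9354) (iv D7380) (iv D5857) (iv D4676) (iv F22831) (iv F28271) (iv D5855) F22822 F22823 (iv F27692) F27693 F23282 F17636 D4769 F23284 F23285 F18397 D3959 D4980 D6243 F29851 F24264 F20825 (iv F21528) (iv F26586) D6980 F33083 D7013 F33242 (iv F41570) (iv F52303) F52304 F52305 F41557 (iv D7009) F26694)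
theorem F65944 : act 4 n12044 = n11141 := (sb E1171 F65002)
theorem F65945 : act 8 n12044 = n11139 := (sb E1171 (iv D14305))
theorem E1172 : n14265 = n12052 := (c45_2 F51222 (iv F64821) (iv D12052) (iv D9429) (iv D7439) F28495 (iv F35251) (iv D7388) (iv D5862) (iv D4679) (iv D3553) (iv F17233) (iv F22842) (iv D4677) F17225 F17226 (iv F22411) F22412 F17650 F12576 D3641 F17652 F17653 F13101 D2774 D3963 D4986 F24124 F19140 F14792 (iv F15396) (iv F21546) D5548 F26618 D5577 F26760 (iv F33297) (iv F41633) F41634 F41635 F33287 (iv D5573) (iv F26727) D7015 F33254 F33255 (iv F41371) D11299 D14499 F65939 F65940 F52104 (iv F51434) (iv F65116) F65117 (iv D14334) F51427 F40874 (iv F40844) (iv F51359) (iv D11142) (iv D8725) D8726 (iv F51220))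
theorem F65948 : act 8 n12052 = n11109 := (sb E1172 (iv D14265))
theorem E1173 : n14261 = n12056 := (c22_2 F65948 (iv F64803) (iv D12056) (iv F55833))
theorem F65951 : act 5 n12056 = n11108 := (sb E1173 (iv D14261))
theorem E1174 : n14263 = n12054 := (c33_2 F65948 D14263 (iv D12054) D12052)
theorem F65952 : act 0 n12054 = n11139 := (sb E1174 F64811)
theorem E1175 : n14301 = n12048 := (c1_3 (iv F55843) F65952 (iv F64987) F55810)
theorem F65955 : act 4 n12048 = n11137 := (sb E1175 (iv D14301))
theorem E1176 : n14299 = n12969 := (c11_2 F65955 (iv F64978) F59281 (iv F55811))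
theorem F65956 : act 1 n12969 = n11137 := (sb E1176 F64978)
theorem F65957 : act 2 n12969 = n11172 := (sb E1176 F64979)
theorem F65958 : act 5 n12969 = n11136 := (sb E1176 (iv D14299))
theorem E1177 : n14303 = n12046 := (c33_3 D12048 F65955 D14303 (iv D12046))
theorem F65959 : act 2 n12046 = n11141 := (sb E1177 F64992)
theorem F65960 : act 8 n12046 = n11137 := (sb E1177 (iv D14303))
theorem E1178 : n14350 = n12965 := (c9_4 F65959 F51351 (iv F51488) (iv F65181) F59261 (iv F55800))
theorem F65962 : act 3 n12965 = n11214 := (sb E1178 F65182)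
theorem F65963 : act 8 n12965 = n11172 := (sb E1178 (iv D14350))
theorem E1179 : n14346 = n12977 := (c7_2 F65963 (iv F65167) (iv D12977) (iv F59260))
theorem F65965 : act 3 n12977 = n11210 := (sb E1179 F65169)
theorem F65966 : act 5 n12977 = n11171 := (sb E1179 (iv D14346))
theorem E1180 : n14348 = n12967 := (c33_2 F65963 D14348 (iv D12967) D12965)
theorem F65968 : act 4 n12967 = n11172 := (sb E1180 (iv D14348))
theorem E1181 : n14395 = n13996 := (c24_4 F65968 F51474 D11212 D14395 F63462 (iv F59272))
theorem F65971 : act 5 n13996 = n11242 := (sb E1181 F65397)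
theorem E1182 : n14424 = n14012 := (c4_2 F65971 (iv F65556) (iv D14012) (iv F63460))
theorem F65974 : act 6 n14012 = n11257 := (sb E1182 F65558)
theorem E1183 : n14429 = n14002 := (c19_2 F65971 D14429 (iv D14002) (iv F63461))
theorem F65976 : act 6 n14002 = n11260 := (sb E1183 F65582)
theorem E1184 : n14484 = n14431 := ((c37_3 D13996 F65971 D14431 (iv D14484) (iv D11287) (iv F50060))).symm
theorem F65979 : act 5 n14431 = n11287 := (sb E1184 (iv D14484))
theorem E1185 : n14476 = n14437 := (c12_2 F65979 (iv F65816) (iv D14437) (iv F65586))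
theorem F65982 : act 6 n14437 = n11328 := (sb E1185 F65819)
theorem F65983 : act 8 n14437 = n11282 := (sb E1185 (iv D14476))
theorem E1186 : n14481 = n14433 := (c25_2 F65979 (iv F65845) (iv D14433) (iv F65587))
theorem F65986 : act 6 n14433 = n11333 := (sb E1186 F65847)
theorem F65987 : act 8 n14433 = n11285 := (sb E1186 (iv D14481))
theorem F65988 : act 6 n11336 = n14452 := d35_4 (iv F65588) F65979 F52029 D11336 (iv D14452)
theorem F65991 : act 2 n14452 = n11344 := d20_1 F65988 (iv D11344) (iv F52276)
theorem F65992 : act 3 n14454 = n11336 := d26_3 F65988 F65684 D14454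
theorem F65994 : act 5 n11333 = n14454 := d25_0 F65992 (iv D11336) (iv F52265)
theorem F65995 : act 1 n14441 = n11333 := d12_3 F65994 F65691 (iv F65630)
theorem F65996 : act 3 n11328 = n14441 := d10_0 F65995 F52265 (iv F52236)
theorem F65997 : act 8 n11326 = n14441 := d15_0 F65995 (iv D11333) (iv F52225)
theorem F65998 : act 2 n14408 = n11326 := d22_3 F65997 F65628 (iv F65465)
theorem E1187 : n14474 = n14404 := ((c40_3 F65997 (iv D14441) (iv F65439) F65808)).symm
theorem F66000 : act 3 n14404 = n11282 := (sb E1187 (iv D14474))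
theorem E1188 : n14401 = n13991 := ((c25_3 D14404 F66000 (iv F63438) F65423)).symm
theorem F66002 : act 3 n13991 = n11217 := (sb E1188 F65423)
theorem F66003 : act 8 n13991 = n11215 := (sb E1188 (iv D14401))
theorem E1189 : n14351 = n13993 := (c33_2 F66003 (iv F65188) (iv D13993) D13991)
theorem F66004 : act 3 n13993 = n11174 := (sb E1189 (iv D14351))
theorem F66005 : act 4 n13993 = n11215 := (sb E1189 F65188)
theorem E1190 : n14353 = n12963 := (c28_3 D13993 F66004 D14353 F59251)
theorem F66006 : act 2 n12963 = n11178 := (sb E1190 F65194)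
theorem F66007 : act 4 n12963 = n11176 := (sb E1190 F65195)
theorem F66008 : act 8 n12963 = n11174 := (sb E1190 (iv D14353))
theorem E1191 : n14358 = n12043 := (c19_3 D12963 F66006 D14358 F55784)
theorem F66009 : act 5 n12043 = n11178 := (sb E1191 (iv D14358))
theorem E1192 : n14397 = n13994 := (c10_2 F66002 (iv F65403) (iv D13994) (iv F63436))
theorem F66011 : act 4 n13994 = n11214 := (sb E1192 F65405)
theorem F66012 : act 8 n13994 = n11212 := (sb E1192 (iv D14397))
theorem E1193 : n14392 = n14009 := (c7_2 F66012 (iv F65381) (iv D14009) (iv F63450))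
theorem F66014 : act 4 n14009 = n11210 := (sb E1193 (iv D14392))
theorem F66015 : act 5 n14009 = n11239 := (sb E1193 F65384)
theorem F66016 : act 5 n14426 = n11300 := d37_3 D14009 F66015 D14426 (iv D11300) (iv F50108)
theorem F66018 : act 6 n11352 = n14449 := d35_4 (iv F65568) F66016 F52096 D11352 (iv D14449)
theorem F66019 : act 3 n14449 = n11358 := d26_1 F66018 (iv D11358) (iv F52365)
theorem F66020 : act 4 n14463 = n11352 := d31_3 F66018 F65671 D14463
theorem F66021 : act 5 n11358 = n14448 := d25_2 D14449 F66019 F65666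
theorem F66022 : act 2 n14448 = n11311 := d19_1 F66021 F52146 (iv F52395)
theorem F66023 : act 6 n14448 = n11303 := d35_2 D11358 F66021 (iv D11303) F41380 D8896
theorem E1194 : n14492 = n14451 := (c1_2 F66022 (iv F65899) F65680 (iv F65664))
theorem F66025 : act 5 n14451 = n11344 := (sb E1194 F65902)
theorem F66026 : act 6 n14451 = n11293 := (sb E1194 (iv D14492))
theorem E1196 : n14394 = n12975 := (c33_3 D14009 F66014 D14394 F59307)
theorem F66030 : act 8 n12975 = n11210 := (sb E1196 (iv D14394))
theorem F66031 : act 5 n14456 = n11328 := d25_0 F65996 F65630 (iv F65702)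
theorem E1197 : n14298 = n12983 := (c19_2 F65966 (iv F64975) (iv D12983) (iv F59317))
theorem F66033 : act 2 n12983 = n11171 := (sb E1197 F64975)
theorem F66034 : act 6 n12983 = n11135 := (sb E1197 (iv D14298))
theorem E1198 : n14259 = n12993 := (c13_2 F66034 (iv F64792) (iv D12993) (iv F59344))
theorem F66035 : act 0 n12993 = n11107 := (sb E1198 (iv D14259))
theorem F66037 : act 7 n12993 = n11113 := (sb E1198 F64796)
theorem E1199 : n14260 = n12064 := (c5_3 D12993 F66035 D14260 F55888)
theorem F66039 : act 6 n12064 = n11107 := (sb E1199 (iv D14260))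
def n14500 : Q := act 9 n11300
theorem D14500 : act 9 n11300 = n14500 := rfl
theorem F66044 : act 6 n14500 = n11353 := d41_1 D14500 (iv D11353) (iv F52096)
def n14502 : Q := act 8 n11301
theorem D14502 : act 8 n11301 = n14502 := rfl
theorem F66054 : act 4 n14502 = n11305 := d33_1 D14502 (iv D11305) (iv F52099)
def n14503 : Q := act 5 n11302
theorem D14503 : act 5 n11302 = n14503 := rfl
theorem F66061 : act 7 n14503 = n11303 := d36_2 (iv F52105) D14503 (iv D11303)
def n14504 : Q := act 9 n11302
theorem D14504 : act 9 n11302 = n14504 := rfl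
theorem F66065 : act 7 n14504 = n11304 := d43_1 D14504 (iv D11304) (iv F52105)
def n14505 : Q := act 9 n11303
theorem D14505 : act 9 n11303 = n14505 := rfl
def n14506 : Q := act 5 n11305
theorem D14506 : act 5 n11305 = n14506 := rfl
theorem F66071 : act 2 n14506 = n11313 := d19_1 D14506 (iv D11313) (iv F52114)
def n14507 : Q := act 9 n11305
theorem D14507 : act 9 n11305 = n14507 := rfl
theorem F66079 : act 6 n14507 = n11306 := d41_1 D14507 (iv D11306) (iv F52116)
def n14508 : Q := act 9 n11308
theorem D14508 : act 9 n11308 = n14508 := rfl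
theorem F66084 : act 4 n14508 = n11314 := d34_1 D14508 (iv D11314) (iv F52131)
theorem F66086 : act 6 n14508 = n11310 := d41_1 D14508 (iv D11310) (iv F52133)
def n14509 : Q := act 9 n11309
theorem D14509 : act 9 n11309 = n14509 := rfl
theorem F66091 : act 5 n14509 = n11310 := d38_1 D14509 (iv D11310) D11309
def n14510 : Q := act 9 n11311
theorem D14510 : act 9 n11311 = n14510 := rfl
theorem F66094 : act 1 n14510 = n11319 := d16_1 D14510 (iv D11319) (iv F52144)
theorem F66096 : act 5 n14510 = n11364 := d38_1 D14510 (iv D11364) (iv F52146)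
def n14512 : Q := act 9 n11313
theorem D14512 : act 9 n11313 = n14512 := rfl
theorem F66103 : act 3 n14512 = n11316 := d29_1 D14512 (iv D11316) (iv F52152)
theorem F66105 : act 5 n14512 = n11314 := d38_1 D14512 (iv D11314) D11313
def n14513 : Q := act 9 n11315
theorem D14513 : act 9 n11315 = n14513 := rfl
theorem F66107 : act 1 n14513 = n11322 := d16_1 D14513 (iv D11322) (iv F52161)
theorem F66110 : act 4 n14513 = n11316 := d34_1 D14513 (iv D11316) D11315
theorem F66112 : act 7 n14513 = n11367 := d43_1 D14513 (iv D11367) (iv F52165)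
def n14514 : Q := act 8 n11316
theorem D14514 : act 8 n11316 = n14514 := rfl
def n14515 : Q := act 8 n11318
theorem D14515 : act 8 n11318 = n14515 := rfl
def n14517 : Q := act 8 n11321
theorem D14517 : act 8 n11321 = n14517 := rfl
theorem F66131 : act 3 n14517 = n11323 := d28_1 D14517 (iv D11323) (iv F52197)
def n14518 : Q := act 8 n11322
theorem D14518 : act 8 n11322 = n14518 := rfl
theorem F66137 : act 2 n14518 = n11325 := d22_1 D14518 (iv D11325) (iv F52202)
theorem F66139 : act 4 n14518 = n11323 := d33_1 D14518 (iv D11323) (iv F52204)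
def n14519 : Q := act 8 n11324
theorem D14519 : act 8 n11324 = n14519 := rfl
theorem F66145 : act 3 n14519 = n11325 := d28_1 D14519 (iv D11325) (iv F52215)
def n14521 : Q := act 7 n11326
theorem D14521 : act 7 n11326 = n14521 := rfl
theorem F66158 : act 3 n14521 = n11327 := d27_1 D14521 (iv D11327) D11326
def n14524 : Q := act 9 n11328
theorem D14524 : act 9 n11328 = n14524 := rfl
theorem F66175 : act 4 n14524 = n11331 := d34_1 D14524 (iv D11331) (iv F52238)
def n14529 : Q := act 9 n11333
theorem D14529 : act 9 n11333 = n14529 := rfl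
def n14534 : Q := act 9 n11336
theorem D14534 : act 9 n11336 = n14534 := rfl
theorem F66227 : act 2 n14534 = n11345 := d23_1 D14534 (iv D11345) (iv F52276)
theorem F66229 : act 5 n14534 = n11337 := d38_1 D14534 (iv D11337) D11336
def n14539 : Q := act 9 n11344
theorem D14539 : act 9 n11344 = n14539 := rfl
theorem F66259 : act 6 n14539 = n11345 := d41_1 D14539 (iv D11345) D11344
theorem F66260 : act 7 n14539 = n14539 := d43_1 D14539 (iv D14539) F52323
def n14540 : Q := act 8 n11345
theorem D14540 : act 8 n11345 = n14540 := rfl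
def n14542 : Q := act 9 n11348
theorem D14542 : act 9 n11348 = n14542 := rfl
theorem F66275 : act 2 n14542 = n14542 := d23_1 D14542 (iv D14542) F52343
theorem F66276 : act 3 n14542 = n14542 := d29_1 D14542 (iv D14542) F52344
theorem F66277 : act 4 n14542 = n11349 := d34_1 D14542 (iv D11349) D11348
def n14545 : Q := act 8 n11350
theorem D14545 : act 8 n11350 = n14545 := rfl
theorem F66297 : act 6 n14545 = n11351 := d40_1 D14545 (iv D11351) D11350
def n14546 : Q := act 5 n11351
theorem D14546 : act 5 n11351 = n14546 := rfl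
theorem F66302 : act 7 n14546 = n11352 := d36_2 (iv F52362) D14546 (iv D11352)
def n14547 : Q := act 9 n11351
theorem D14547 : act 9 n11351 = n14547 := rfl
def n14548 : Q := act 9 n11352
theorem D14548 : act 9 n11352 = n14548 := rfl
theorem F66312 : act 3 n14548 = n11359 := d29_1 D14548 (iv D11359) (iv F52365)
theorem F66313 : act 5 n14548 = n11353 := d38_1 D14548 (iv D11353) D11352
def n14551 : Q := act 9 n11358
theorem D14551 : act 9 n11358 = n14551 := rfl
theorem F66327 : act 2 n14551 = n11364 := d23_1 D14551 (iv D11364) (iv F52395)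
theorem F66329 : act 6 n14551 = n11359 := d41_1 D14551 (iv D11359) D11358
def n14552 : Q := act 8 n11359
theorem D14552 : act 8 n11359 = n14552 := rfl
def n14555 : Q := act 8 n11364
theorem D14555 : act 8 n11364 = n14555 := rfl
def n14557 : Q := act 8 n11367
theorem D14557 : act 8 n11367 = n14557 := rfl
def n14562 : Q := act 5 n11375
theorem D14562 : act 5 n11375 = n14562 := rfl
theorem F66392 : act 0 n14562 = n14562 := d4_1 D14562 (iv D14562) F52492
theorem F66393 : act 1 n14562 = n11418 := d12_1 D14562 (iv D11418) (iv F52493)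
theorem F66395 : act 3 n14562 = n14562 := d25_1 D14562 (iv D14562) F52495
theorem F66396 : act 4 n14562 = n13648 := d30_1 D14562 (iv D13648) F49017 (iv F41742) (iv F52496)
theorem F66397 : act 6 n14562 = n13656 := d35_2 D11375 D14562 (iv D13656) (iv D10624) (iv F41734)
theorem F66398 : act 9 n14562 = n14562 := d38_2 F52498 D14562 (iv D14562)
def n14563 : Q := act 7 n11375
theorem D14563 : act 7 n11375 = n14563 := rfl
theorem F66399 : act 0 n14563 = n14563 := d6_1 D14563 (iv D14563) F52492
theorem F66400 : act 1 n14563 = n11419 := d14_1 D14563 (iv D11419) (iv F52493)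
theorem F66401 : act 2 n14563 = n13707 := d21_1 D14563 (iv D13707) (iv F52494)
theorem F66402 : act 3 n14563 = n14563 := d27_1 D14563 (iv D14563) F52495
theorem F66403 : act 4 n14563 = n11376 := d32_1 D14563 (iv D11376) (iv F52496)
theorem F66404 : act 6 n14563 = n14563 := d39_1 D14563 (iv D14563) (iv D11375) F41735 D11375
theorem F66405 : act 8 n14563 = n11388 := d42_2 (iv F52497) D14563 (iv D11388)
theorem F66406 : act 9 n14563 = n14563 := d43_2 F52498 D14563 (iv D14563)
def n14564 : Q := act 2 n11377
theorem D14564 : act 2 n11377 = n14564 := rfl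
theorem F66409 : act 4 n14564 = n13646 := d18_2 (iv F52509) D14564 (iv D13646)
theorem F66410 : act 5 n14564 = n11380 := d19_2 (iv F52510) D14564 (iv D11380)
theorem F66411 : act 7 n14564 = n13642 := d21_2 (iv F52511) D14564 (iv D13642)
theorem F66412 : act 8 n14564 = n13302 := d22_2 (iv F52512) D14564 (iv D13302)
def n14565 : Q := act 6 n11377
theorem D14565 : act 6 n11377 = n14565 := rfl
theorem F66414 : act 0 n14565 = n14565 := d5_1 D14565 (iv D14565) F52507
theorem F66415 : act 1 n14565 = n11429 := d13_1 D14565 (iv D11429) (iv F52508)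
theorem F66416 : act 3 n14565 = n11378 := d26_1 D14565 (iv D11378) D11377
theorem F66417 : act 4 n14565 = n13647 := d31_1 D14565 (iv D13647) (iv F52509)
theorem F66418 : act 5 n14565 = n14565 := d35_1 D14565 (iv D14565) F52510 F41769 (iv F52510)
theorem F66419 : act 8 n14565 = n13303 := d40_2 (iv F52512) D14565 (iv D13303)
theorem F66420 : act 9 n14565 = n14565 := d41_2 F52513 D14565 (iv D14565)
def n14566 : Q := act 7 n11378
theorem D14566 : act 7 n11378 = n14566 := rfl
theorem F66421 : act 0 n14566 = n14566 := d6_1 D14566 (iv D14566) F52514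
theorem F66422 : act 1 n14566 = n11430 := d14_1 D14566 (iv D11430) (iv F52515)
theorem F66423 : act 2 n14566 = n14566 := d21_1 D14566 (iv D14566) F52516
theorem F66424 : act 4 n14566 = n11379 := d32_1 D14566 (iv D11379) (iv F52517)
theorem F66425 : act 5 n14566 = n14566 := d36_1 D14566 (iv D14566) F52518
theorem F66426 : act 6 n14566 = n13645 := d39_1 D14566 (iv D13645) (iv D10615) (iv F41749) D11378
theorem F66427 : act 8 n14566 = n13305 := d42_2 (iv F52519) D14566 (iv D13305)
theorem F66428 : act 9 n14566 = n14566 := d43_2 F52520 D14566 (iv D14566)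
def n14567 : Q := act 1 n11380
theorem D14567 : act 1 n11380 = n14567 := rfl
theorem F66429 : act 2 n14567 = n11434 := d9_2 D11380 D14567 (iv D11434) (iv D8965) (iv F41767)
theorem F66431 : act 4 n14567 = n14122 := d11_2 (iv F52531) D14567 (iv D14122)
theorem F66433 : act 7 n14567 = n14118 := d14_2 (iv F52533) D14567 (iv D14118)
def n14568 : Q := act 4 n11381
theorem D14568 : act 4 n11381 = n14568 := rfl
theorem F66436 : act 0 n14568 = n11382 := d3_1 D14568 (iv D11382) (iv F52536)
theorem F66437 : act 1 n14568 = n14568 := d11_1 D14568 (iv D14568) F52537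
theorem F66438 : act 2 n14568 = n11437 := d18_1 D14568 (iv D11437) (iv F52538)
theorem F66439 : act 5 n14568 = n14568 := d30_2 D11381 D14568 (iv D14568) (iv D11381) F41777
theorem F66440 : act 7 n14568 = n14568 := d32_2 F52540 D14568 (iv D14568)
theorem F66441 : act 8 n14568 = n11873 := d33_2 (iv F52541) D14568 (iv D11873)
theorem F66442 : act 9 n14568 = n11389 := d34_2 (iv F52542) D14568 (iv D11389)
def n14569 : Q := act 6 n11381
theorem D14569 : act 6 n11381 = n14569 := rfl
theorem F66443 : act 0 n14569 = n11383 := d5_1 D14569 (iv D11383) (iv F52536)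
theorem F66444 : act 1 n14569 = n14569 := d13_1 D14569 (iv D14569) F52537
theorem F66445 : act 2 n14569 = n11438 := d20_1 D14569 (iv D11438) (iv F52538)
theorem F66446 : act 3 n14569 = n14569 := d26_1 D14569 (iv D14569) F52539
theorem F66447 : act 5 n14569 = n13359 := d35_1 D14569 (iv D13359) (iv D10392) (iv F41778) D11381
theorem F66448 : act 8 n14569 = n11874 := d40_2 (iv F52541) D14569 (iv D11874)
theorem F66449 : act 9 n14569 = n11390 := d41_2 (iv F52542) D14569 (iv D11390)
def n14570 : Q := act 3 n11382
theorem D14570 : act 3 n11382 = n14570 := rfl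
theorem F66450 : act 1 n14570 = n11384 := d10_1 D14570 (iv D11384) (iv F52543)
theorem F66451 : act 4 n14570 = n14570 := d24_2 D11382 D14570 (iv D14570) (iv D11382) F41783
theorem F66452 : act 5 n14570 = n14570 := d25_2 F52545 D14570 (iv D14570)
theorem F66453 : act 7 n14570 = n14570 := d27_2 F52546 D14570 (iv D14570)
theorem F66454 : act 8 n14570 = n12742 := d28_2 (iv F52547) D14570 (iv D12742)
theorem F66455 : act 9 n14570 = n11391 := d29_2 (iv F52548) D14570 (iv D11391)
def n14571 : Q := act 6 n11382
theorem D14571 : act 6 n11382 = n14571 := rfl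
theorem F66456 : act 1 n14571 = n11385 := d13_1 D14571 (iv D11385) (iv F52543)
theorem F66457 : act 2 n14571 = n11443 := d20_1 D14571 (iv D11443) (iv F52544)
theorem F66458 : act 4 n14571 = n11383 := d31_1 D14571 (iv D11383) D11382
theorem F66459 : act 8 n14571 = n12743 := d40_2 (iv F52547) D14571 (iv D12743)
theorem F66460 : act 9 n14571 = n11392 := d41_2 (iv F52548) D14571 (iv D11392)
def n14572 : Q := act 7 n11383
theorem D14572 : act 7 n11383 = n14572 := rfl
theorem F66461 : act 1 n14572 = n11386 := d14_1 D14572 (iv D11386) (iv F52549)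
theorem F66462 : act 2 n14572 = n11444 := d21_1 D14572 (iv D11444) (iv F52550)
theorem F66463 : act 3 n14572 = n14572 := d27_1 D14572 (iv D14572) F52551
theorem F66464 : act 5 n14572 = n13391 := d36_1 D14572 (iv D13391) (iv F52552)
theorem F66465 : act 6 n14572 = n14572 := d39_1 D14572 (iv D14572) (iv D11383) F41784 D11383
theorem F66466 : act 8 n14572 = n12744 := d42_2 (iv F52553) D14572 (iv D12744)
theorem F66467 : act 9 n14572 = n11393 := d43_2 (iv F52554) D14572 (iv D11393)
def n14573 : Q := act 6 n11384
theorem D14573 : act 6 n11384 = n14573 := rfl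
theorem F66468 : act 0 n14573 = n14573 := d5_1 D14573 (iv D14573) F52555
theorem F66469 : act 2 n14573 = n14573 := d20_1 D14573 (iv D14573) F52556
theorem F66470 : act 3 n14573 = n11385 := d26_1 D14573 (iv D11385) D11384
theorem F66471 : act 4 n14573 = n14573 := d31_1 D14573 (iv D14573) F52557
theorem F66472 : act 8 n14573 = n13705 := d40_2 (iv F52560) D14573 (iv D13705)
theorem F66473 : act 9 n14573 = n11394 := d41_2 (iv F52561) D14573 (iv D11394)
def n14574 : Q := act 5 n11385
theorem D14574 : act 5 n11385 = n14574 := rfl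
theorem F66474 : act 0 n14574 = n14574 := d4_1 D14574 (iv D14574) F52562
theorem F66475 : act 2 n14574 = n11387 := d19_1 D14574 (iv D11387) (iv F52563)
theorem F66476 : act 4 n14574 = n13434 := d30_1 D14574 (iv D13434) F48308 (iv F41796) (iv F52564)
theorem F66477 : act 6 n14574 = n14574 := d35_2 D11385 D14574 (iv D14574) (iv D11385) F41789
theorem F66478 : act 9 n14574 = n11395 := d38_2 (iv F52566) D14574 (iv D11395)
def n14575 : Q := act 7 n11385
theorem D14575 : act 7 n11385 = n14575 := rfl
theorem F66479 : act 0 n14575 = n14575 := d6_1 D14575 (iv D14575) F52562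
theorem F66480 : act 2 n14575 = n11388 := d21_1 D14575 (iv D11388) (iv F52563)
theorem F66481 : act 4 n14575 = n11386 := d32_1 D14575 (iv D11386) (iv F52564)
theorem F66482 : act 6 n14575 = n14575 := d39_1 D14575 (iv D14575) (iv D11385) F41790 D11385
theorem F66483 : act 8 n14575 = n13707 := d42_2 (iv F52565) D14575 (iv D13707)
theorem F66484 : act 9 n14575 = n11396 := d43_2 (iv F52566) D14575 (iv D11396)
def n14576 : Q := act 7 n11387
theorem D14576 : act 7 n11387 = n14576 := rfl
theorem F66485 : act 0 n14576 = n14576 := d6_1 D14576 (iv D14576) F52574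
theorem F66486 : act 1 n14576 = n11464 := d14_1 D14576 (iv D11464) (iv F52575)
theorem F66487 : act 3 n14576 = n14576 := d27_1 D14576 (iv D14576) F52576
theorem F66488 : act 4 n14576 = n13493 := d32_1 D14576 (iv D13493) (iv F52577)
theorem F66489 : act 5 n14576 = n11388 := d36_1 D14576 (iv D11388) D11387
theorem F66490 : act 9 n14576 = n11397 := d43_2 (iv F52579) D14576 (iv D11397)
def n14577 : Q := act 8 n11387
theorem D14577 : act 8 n11387 = n14577 := rfl
theorem F66491 : act 0 n14577 = n14577 := d7_1 D14577 (iv D14577) F52574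
theorem F66492 : act 1 n14577 = n11465 := d15_1 D14577 (iv D11465) (iv F52575)
theorem F66493 : act 3 n14577 = n14577 := d28_1 D14577 (iv D14577) F52576
theorem F66494 : act 4 n14577 = n13494 := d33_1 D14577 (iv D13494) (iv F52577)
theorem F66495 : act 6 n14577 = n14577 := d40_1 D14577 (iv D14577) F52578
def n14578 : Q := act 3 n11389
theorem D14578 : act 3 n11389 = n14578 := rfl
theorem F66496 : act 0 n14578 = n11391 := d2_1 D14578 (iv D11391) (iv F52586)
theorem F66497 : act 1 n14578 = n14578 := d10_1 D14578 (iv D14578) F52587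
theorem F66498 : act 4 n14578 = n14578 := d24_2 D11389 D14578 (iv D14578) (iv D11389) F41813
theorem F66499 : act 5 n14578 = n14578 := d25_2 F52589 D14578 (iv D14578)
theorem F66500 : act 7 n14578 = n14578 := d27_2 F52590 D14578 (iv D14578)
theorem F66501 : act 8 n14578 = n14578 := d28_2 F52591 D14578 (iv D14578)
def n14579 : Q := act 6 n11389
theorem D14579 : act 6 n11389 = n14579 := rfl
theorem F66502 : act 0 n14579 = n11392 := d5_1 D14579 (iv D11392) (iv F52586)
theorem F66503 : act 1 n14579 = n14579 := d13_1 D14579 (iv D14579) F52587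
theorem F66504 : act 2 n14579 = n11477 := d20_1 D14579 (iv D11477) (iv F52588)
theorem F66505 : act 4 n14579 = n11390 := d31_1 D14579 (iv D11390) D11389
theorem F66506 : act 8 n14579 = n14579 := d40_2 F52591 D14579 (iv D14579)
def n14580 : Q := act 7 n11390
theorem D14580 : act 7 n11390 = n14580 := rfl
theorem F66507 : act 0 n14580 = n11393 := d6_1 D14580 (iv D11393) (iv F52592)
theorem F66508 : act 1 n14580 = n14580 := d14_1 D14580 (iv D14580) F52593
theorem F66509 : act 2 n14580 = n11478 := d21_1 D14580 (iv D11478) (iv F52594)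
theorem F66510 : act 3 n14580 = n14580 := d27_1 D14580 (iv D14580) F52595
theorem F66511 : act 5 n14580 = n13362 := d36_1 D14580 (iv D13362) (iv F52596)
theorem F66512 : act 6 n14580 = n14580 := d39_1 D14580 (iv D14580) (iv D11390) F41814 D11390
theorem F66513 : act 8 n14580 = n14580 := d42_2 F52597 D14580 (iv D14580)
def n14581 : Q := act 2 n11391
theorem D14581 : act 2 n11391 = n14581 := rfl
theorem F66514 : act 1 n14581 = n14581 := d9_1 D14581 (iv D14581) F52598 F41827 (iv F52598)
theorem F66515 : act 3 n14581 = n11482 := d17_2 D11391 D14581 (iv D11482) (iv D9001) (iv F41817)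
theorem F66516 : act 4 n14581 = n14581 := d18_2 F52599 D14581 (iv D14581)
theorem F66517 : act 5 n14581 = n14581 := d19_2 F52600 D14581 (iv D14581)
theorem F66518 : act 7 n14581 = n14581 := d21_2 F52601 D14581 (iv D14581)
theorem F66519 : act 8 n14581 = n14581 := d22_2 F52602 D14581 (iv D14581)
def n14582 : Q := act 6 n11391
theorem D14582 : act 6 n11391 = n14582 := rfl
theorem F66520 : act 1 n14582 = n11394 := d13_1 D14582 (iv D11394) (iv F52598)
theorem F66521 : act 3 n14582 = n11392 := d26_1 D14582 (iv D11392) D11391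
theorem F66522 : act 4 n14582 = n14582 := d31_1 D14582 (iv D14582) F52599
theorem F66523 : act 8 n14582 = n14582 := d40_2 F52602 D14582 (iv D14582)
def n14583 : Q := act 5 n11392
theorem D14583 : act 5 n11392 = n14583 := rfl
theorem F66524 : act 1 n14583 = n11395 := d12_1 D14583 (iv D11395) (iv F52603)
theorem F66525 : act 2 n14583 = n11484 := d19_1 D14583 (iv D11484) (iv F52604)
theorem F66526 : act 4 n14583 = n13394 := d30_1 D14583 (iv D13394) F48215 (iv F41824) (iv F52605)
theorem F66527 : act 6 n14583 = n14583 := d35_2 D11392 D14583 (iv D14583) (iv D11392) F41818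
def n14584 : Q := act 7 n11392
theorem D14584 : act 7 n11392 = n14584 := rfl
theorem F66528 : act 1 n14584 = n11396 := d14_1 D14584 (iv D11396) (iv F52603)
theorem F66529 : act 2 n14584 = n11485 := d21_1 D14584 (iv D11485) (iv F52604)
theorem F66530 : act 4 n14584 = n11393 := d32_1 D14584 (iv D11393) (iv F52605)
theorem F66531 : act 6 n14584 = n14584 := d39_1 D14584 (iv D14584) (iv D11392) F41819 D11392
theorem F66532 : act 8 n14584 = n14584 := d42_2 F52606 D14584 (iv D14584)
def n14585 : Q := act 5 n11394
theorem D14585 : act 5 n11394 = n14585 := rfl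
theorem F66533 : act 0 n14585 = n14585 := d4_1 D14585 (iv D14585) F52613
theorem F66534 : act 2 n14585 = n14585 := d19_1 D14585 (iv D14585) F52614
theorem F66535 : act 3 n14585 = n11395 := d25_1 D14585 (iv D11395) (iv F52615)
theorem F66536 : act 6 n14585 = n14585 := d35_2 D11394 D14585 (iv D14585) (iv D11394) F41829
def n14586 : Q := act 7 n11394
theorem D14586 : act 7 n11394 = n14586 := rfl
theorem F66537 : act 0 n14586 = n14586 := d6_1 D14586 (iv D14586) F52613
theorem F66538 : act 2 n14586 = n14586 := d21_1 D14586 (iv D14586) F52614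
theorem F66539 : act 3 n14586 = n11396 := d27_1 D14586 (iv D11396) (iv F52615)
theorem F66540 : act 4 n14586 = n14586 := d32_1 D14586 (iv D14586) F52616
theorem F66541 : act 6 n14586 = n14586 := d39_1 D14586 (iv D14586) (iv D11394) F41830 D11394
theorem F66542 : act 8 n14586 = n14586 := d42_2 F52617 D14586 (iv D14586)
def n14587 : Q := act 7 n11395
theorem D14587 : act 7 n11395 = n14587 := rfl
theorem F66543 : act 0 n14587 = n14587 := d6_1 D14587 (iv D14587) F52618
theorem F66544 : act 2 n14587 = n11397 := d21_1 D14587 (iv D11397) (iv F52619)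
theorem F66545 : act 4 n14587 = n13440 := d32_1 D14587 (iv D13440) (iv F52620)
theorem F66546 : act 5 n14587 = n11396 := d36_1 D14587 (iv D11396) D11395
def n14588 : Q := act 8 n11395
theorem D14588 : act 8 n11395 = n14588 := rfl
theorem F66547 : act 0 n14588 = n14588 := d7_1 D14588 (iv D14588) F52618
theorem F66548 : act 2 n14588 = n11398 := d22_1 D14588 (iv D11398) (iv F52619)
theorem F66549 : act 4 n14588 = n13441 := d33_1 D14588 (iv D13441) (iv F52620)
theorem F66550 : act 5 n14588 = n14588 := d37_1 D14588 (iv D14588) (iv D11395) F41835 D11395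
theorem F66551 : act 6 n14588 = n14588 := d40_1 D14588 (iv D14588) F52621
def n14589 : Q := act 6 n11397
theorem D14589 : act 6 n11397 = n14589 := rfl
theorem F66552 : act 0 n14589 = n14589 := d5_1 D14589 (iv D14589) F52627
theorem F66553 : act 1 n14589 = n11500 := d13_1 D14589 (iv D11500) (iv F52628)
theorem F66554 : act 3 n14589 = n14589 := d26_1 D14589 (iv D14589) F52629
theorem F66555 : act 4 n14589 = n13501 := d31_1 D14589 (iv D13501) (iv F52630)
theorem F66556 : act 5 n14589 = n14589 := d35_1 D14589 (iv D14589) F52631 F41851 (iv F52631)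
theorem F66557 : act 7 n14589 = n14589 := d39_2 D11397 D14589 (iv D14589) (iv D11397) F41846
def n14590 : Q := act 8 n11397
theorem D14590 : act 8 n11397 = n14590 := rfl
theorem F66558 : act 0 n14590 = n14590 := d7_1 D14590 (iv D14590) F52627
theorem F66559 : act 1 n14590 = n11501 := d15_1 D14590 (iv D11501) (iv F52628)
theorem F66560 : act 3 n14590 = n14590 := d28_1 D14590 (iv D14590) F52629
theorem F66562 : act 5 n14590 = n14590 := d37_1 D14590 (iv D14590) F52631 F41852 (iv F52631)
theorem F66563 : act 7 n14590 = n11398 := d42_1 D14590 (iv D11398) D11397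
def n14591 : Q := act 9 n11398
theorem D14591 : act 9 n11398 = n14591 := rfl
theorem F66564 : act 0 n14591 = n14591 := d8_1 D14591 (iv D14591) F52632
theorem F66565 : act 1 n14591 = n11502 := d16_1 D14591 (iv D11502) (iv F52633)
theorem F66566 : act 3 n14591 = n14591 := d29_1 D14591 (iv D14591) F52634
theorem F66568 : act 5 n14591 = n14591 := d38_1 D14591 (iv D14591) F52636
theorem F66569 : act 6 n14591 = n14591 := d41_1 D14591 (iv D14591) F52637
def n14592 : Q := act 3 n11399
theorem D14592 : act 3 n11399 = n14592 := rfl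
theorem F66570 : act 0 n14592 = n12076 := d2_1 D14592 (iv D12076) (iv F52638)
theorem F66572 : act 2 n14592 = n14592 := d17_1 D14592 (iv D14592) F52640 F41862 (iv F52640)
theorem F66573 : act 4 n14592 = n14592 := d24_2 D11399 D14592 (iv D14592) (iv D11399) F41856
theorem F66574 : act 5 n14592 = n11410 := d25_2 (iv F52641) D14592 (iv D11410)
theorem F66575 : act 7 n14592 = n14592 := d27_2 F52642 D14592 (iv D14592)
theorem F66576 : act 8 n14592 = n14592 := d28_2 F52643 D14592 (iv D14592)
theorem F66577 : act 9 n14592 = n14592 := d29_2 F52644 D14592 (iv D14592)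
def n14593 : Q := act 6 n11399
theorem D14593 : act 6 n11399 = n14593 := rfl
theorem F66578 : act 0 n14593 = n12077 := d5_1 D14593 (iv D12077) (iv F52638)
theorem F66579 : act 1 n14593 = n12707 := d13_1 D14593 (iv D12707) (iv F52639)
theorem F66580 : act 2 n14593 = n11401 := d20_1 D14593 (iv D11401) (iv F52640)
theorem F66581 : act 4 n14593 = n11400 := d31_1 D14593 (iv D11400) D11399
theorem F66582 : act 8 n14593 = n14593 := d40_2 F52643 D14593 (iv D14593)
theorem F66583 : act 9 n14593 = n14593 := d41_2 F52644 D14593 (iv D14593)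
def n14594 : Q := act 7 n11400
theorem D14594 : act 7 n11400 = n14594 := rfl
theorem F66588 : act 5 n14594 = n12673 := d36_1 D14594 (iv D12673) (iv F52649)
def n14595 : Q := act 5 n11401
theorem D14595 : act 5 n11401 = n14595 := rfl
theorem F66592 : act 0 n14595 = n12082 := d4_1 D14595 (iv D12082) (iv F52652)
theorem F66593 : act 1 n14595 = n13656 := d12_1 D14595 (iv D13656) (iv F52653)
theorem F66594 : act 3 n14595 = n14595 := d25_1 D14595 (iv D14595) F52654
theorem F66595 : act 4 n14595 = n13608 := d30_1 D14595 (iv D13608) F48914 (iv F41870) (iv F52655)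
theorem F66596 : act 6 n14595 = n11418 := d35_2 D11401 D14595 (iv D11418) (iv D8953) (iv F41863)
theorem F66597 : act 9 n14595 = n14595 := d38_2 F52657 D14595 (iv D14595)
def n14596 : Q := act 7 n11401
theorem D14596 : act 7 n11401 = n14596 := rfl
theorem F66598 : act 0 n14596 = n12083 := d6_1 D14596 (iv D12083) (iv F52652)
theorem F66601 : act 4 n14596 = n11402 := d32_1 D14596 (iv D11402) (iv F52655)
def n14597 : Q := act 1 n11403
theorem D14597 : act 1 n11403 = n14597 := rfl
theorem F66607 : act 4 n14597 = n11434 := d11_2 (iv F52667) D14597 (iv D11434)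
theorem F66608 : act 5 n14597 = n14072 := d12_2 (iv F52668) D14597 (iv D14072)
def n14598 : Q := act 4 n11404
theorem D14598 : act 4 n11404 = n14598 := rfl
theorem F66613 : act 0 n14598 = n11405 := d3_1 D14598 (iv D11405) (iv F52673)
theorem F66614 : act 1 n14598 = n12091 := d11_1 D14598 (iv D12091) (iv F52674)
theorem F66615 : act 2 n14598 = n11873 := d18_1 D14598 (iv D11873) (iv F52675)
theorem F66616 : act 5 n14598 = n11848 := d30_2 D11404 D14598 (iv D11848) (iv D9277) (iv F41893)
theorem F66617 : act 7 n14598 = n14598 := d32_2 F52677 D14598 (iv D14598)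
theorem F66618 : act 8 n14598 = n11437 := d33_2 (iv F52678) D14598 (iv D11437)
theorem F66619 : act 9 n14598 = n14598 := d34_2 F52679 D14598 (iv D14598)
def n14599 : Q := act 6 n11404
theorem D14599 : act 6 n11404 = n14599 := rfl
theorem F66620 : act 0 n14599 = n11406 := d5_1 D14599 (iv D11406) (iv F52673)
theorem F66621 : act 1 n14599 = n12092 := d13_1 D14599 (iv D12092) (iv F52674)
theorem F66622 : act 2 n14599 = n11874 := d20_1 D14599 (iv D11874) (iv F52675)
theorem F66623 : act 3 n14599 = n11509 := d26_1 D14599 (iv D11509) (iv F52676)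
theorem F66624 : act 5 n14599 = n11844 := d35_1 D14599 (iv D11844) (iv D9274) (iv F41894) D11404
theorem F66625 : act 8 n14599 = n11438 := d40_2 (iv F52678) D14599 (iv D11438)
theorem F66626 : act 9 n14599 = n14599 := d41_2 F52679 D14599 (iv D14599)
def n14600 : Q := act 3 n11405
theorem D14600 : act 3 n11405 = n14600 := rfl
theorem F66627 : act 1 n14600 = n11410 := d10_1 D14600 (iv D11410) (iv F52680)
theorem F66628 : act 4 n14600 = n11514 := d24_2 D11405 D14600 (iv D11514) (iv D9026) (iv F41899)
theorem F66629 : act 5 n14600 = n12706 := d25_2 (iv F52682) D14600 (iv D12706)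
theorem F66630 : act 7 n14600 = n14600 := d27_2 F52683 D14600 (iv D14600)
theorem F66631 : act 8 n14600 = n11442 := d28_2 (iv F52684) D14600 (iv D11442)
theorem F66632 : act 9 n14600 = n14600 := d29_2 F52685 D14600 (iv D14600)
def n14601 : Q := act 6 n11405
theorem D14601 : act 6 n11405 = n14601 := rfl
theorem F66633 : act 1 n14601 = n11411 := d13_1 D14601 (iv D11411) (iv F52680)
theorem F66634 : act 2 n14601 = n12743 := d20_1 D14601 (iv D12743) (iv F52681)
theorem F66635 : act 4 n14601 = n11406 := d31_1 D14601 (iv D11406) D11405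
theorem F66636 : act 8 n14601 = n11443 := d40_2 (iv F52684) D14601 (iv D11443)
theorem F66637 : act 9 n14601 = n14601 := d41_2 F52685 D14601 (iv D14601)
def n14602 : Q := act 7 n11406
theorem D14602 : act 7 n11406 = n14602 := rfl
theorem F66638 : act 1 n14602 = n11412 := d14_1 D14602 (iv D11412) (iv F52686)
theorem F66639 : act 2 n14602 = n12744 := d21_1 D14602 (iv D12744) (iv F52687)
theorem F66640 : act 3 n14602 = n11516 := d27_1 D14602 (iv D11516) (iv F52688)
theorem F66641 : act 5 n14602 = n12701 := d36_1 D14602 (iv D12701) (iv F52689)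
theorem F66642 : act 6 n14602 = n14602 := d39_1 D14602 (iv D14602) (iv D11406) F41900 D11406
theorem F66643 : act 8 n14602 = n11444 := d42_2 (iv F52690) D14602 (iv D11444)
theorem F66644 : act 9 n14602 = n14602 := d43_2 F52691 D14602 (iv D14602)
def n14603 : Q := act 4 n11407
theorem D14603 : act 4 n11407 = n14603 := rfl
theorem F66645 : act 0 n14603 = n12101 := d3_1 D14603 (iv D12101) (iv F52692)
theorem F66646 : act 1 n14603 = n12387 := d11_1 D14603 (iv D12387) (iv F52693)
theorem F66647 : act 2 n14603 = n11413 := d18_1 D14603 (iv D11413) (iv F52694)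
theorem F66648 : act 5 n14603 = n12365 := d30_2 D11407 D14603 (iv D12365) (iv D9658) (iv F41907)
theorem F66649 : act 7 n14603 = n12363 := d32_2 (iv F52696) D14603 (iv D12363)
theorem F66650 : act 8 n14603 = n11408 := d33_2 (iv F52697) D14603 (iv D11408)
theorem F66651 : act 9 n14603 = n12394 := d34_2 (iv F52698) D14603 (iv D12394)
def n14604 : Q := act 6 n11407
theorem D14604 : act 6 n11407 = n14604 := rfl
theorem F66652 : act 0 n14604 = n12102 := d5_1 D14604 (iv D12102) (iv F52692)
theorem F66653 : act 1 n14604 = n12388 := d13_1 D14604 (iv D12388) (iv F52693)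
theorem F66654 : act 2 n14604 = n11414 := d20_1 D14604 (iv D11414) (iv F52694)
theorem F66655 : act 3 n14604 = n11526 := d26_1 D14604 (iv D11526) (iv F52695)
theorem F66656 : act 5 n14604 = n11448 := d35_1 D14604 (iv D11448) (iv D8975) (iv F41908) D11407
theorem F66657 : act 8 n14604 = n11409 := d40_2 (iv F52697) D14604 (iv D11409)
theorem F66658 : act 9 n14604 = n12395 := d41_2 (iv F52698) D14604 (iv D12395)
def n14605 : Q := act 3 n11408
theorem D14605 : act 3 n11408 = n14605 := rfl
theorem F66659 : act 0 n14605 = n12105 := d2_1 D14605 (iv D12105) (iv F52699)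
theorem F66660 : act 1 n14605 = n12699 := d10_1 D14605 (iv D12699) (iv F52700)
theorem F66661 : act 4 n14605 = n11529 := d24_2 D11408 D14605 (iv D11529) (iv D9038) (iv F41914)
theorem F66662 : act 5 n14605 = n12671 := d25_2 (iv F52702) D14605 (iv D12671)
theorem F66663 : act 7 n14605 = n12668 := d27_2 (iv F52703) D14605 (iv D12668)
theorem F66664 : act 9 n14605 = n14605 := d29_2 F52704 D14605 (iv D14605)
def n14606 : Q := act 6 n11408
theorem D14606 : act 6 n11408 = n14606 := rfl
theorem F66665 : act 0 n14606 = n12106 := d5_1 D14606 (iv D12106) (iv F52699)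
theorem F66666 : act 1 n14606 = n12700 := d13_1 D14606 (iv D12700) (iv F52700)
theorem F66667 : act 2 n14606 = n11416 := d20_1 D14606 (iv D11416) (iv F52701)
theorem F66668 : act 4 n14606 = n11409 := d31_1 D14606 (iv D11409) D11408
theorem F66669 : act 9 n14606 = n14606 := d41_2 F52704 D14606 (iv D14606)
def n14607 : Q := act 7 n11409
theorem D14607 : act 7 n11409 = n14607 := rfl
theorem F66670 : act 0 n14607 = n12107 := d6_1 D14607 (iv D12107) (iv F52705)
theorem F66671 : act 1 n14607 = n12701 := d14_1 D14607 (iv D12701) (iv F52706)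
theorem F66672 : act 2 n14607 = n11417 := d21_1 D14607 (iv D11417) (iv F52707)
theorem F66673 : act 3 n14607 = n11531 := d27_1 D14607 (iv D11531) (iv F52708)
theorem F66674 : act 5 n14607 = n11412 := d36_1 D14607 (iv D11412) (iv F52709)
theorem F66675 : act 6 n14607 = n12670 := d39_1 D14607 (iv D12670) (iv D9881) (iv F41915) D11409
theorem F66676 : act 9 n14607 = n14607 := d43_2 F52710 D14607 (iv D14607)
def n14608 : Q := act 6 n11410
theorem D14608 : act 6 n11410 = n14608 := rfl
theorem F66677 : act 0 n14608 = n12108 := d5_1 D14608 (iv D12108) (iv F52711)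
theorem F66678 : act 2 n14608 = n14608 := d20_1 D14608 (iv D14608) F52712
theorem F66679 : act 3 n14608 = n11411 := d26_1 D14608 (iv D11411) D11410
theorem F66680 : act 4 n14608 = n11532 := d31_1 D14608 (iv D11532) (iv F52713)
theorem F66681 : act 8 n14608 = n11452 := d40_2 (iv F52715) D14608 (iv D11452)
theorem F66682 : act 9 n14608 = n14608 := d41_2 F52716 D14608 (iv D14608)
def n14609 : Q := act 5 n11411
theorem D14609 : act 5 n11411 = n14609 := rfl
theorem F66683 : act 0 n14609 = n12109 := d4_1 D14609 (iv D12109) (iv F52717)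
theorem F66684 : act 2 n14609 = n11418 := d19_1 D14609 (iv D11418) (iv F52718)
theorem F66685 : act 9 n14609 = n14609 := d38_2 F52721 D14609 (iv D14609)
def n14610 : Q := act 7 n11411
theorem D14610 : act 7 n11411 = n14610 := rfl
theorem F66686 : act 0 n14610 = n12110 := d6_1 D14610 (iv D12110) (iv F52717)
theorem F66687 : act 2 n14610 = n11419 := d21_1 D14610 (iv D11419) (iv F52718)
theorem F66688 : act 4 n14610 = n11412 := d32_1 D14610 (iv D11412) (iv F52719)
theorem F66689 : act 6 n14610 = n14610 := d39_1 D14610 (iv D14610) (iv D11411) F41919 D11411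
theorem F66690 : act 8 n14610 = n11454 := d42_2 (iv F52720) D14610 (iv D11454)
theorem F66691 : act 9 n14610 = n14610 := d43_2 F52721 D14610 (iv D14610)
def n14611 : Q := act 3 n11413
theorem D14611 : act 3 n11413 = n14611 := rfl
theorem F66692 : act 0 n14611 = n12115 := d2_1 D14611 (iv D12115) (iv F52728)
theorem F66693 : act 1 n14611 = n13186 := d10_1 D14611 (iv D13186) (iv F52729)
theorem F66694 : act 4 n14611 = n11422 := d24_2 D11413 D14611 (iv D11422) (iv D8956) (iv F41929)
theorem F66695 : act 5 n14611 = n13158 := d25_2 (iv F52730) D14611 (iv D13158)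
theorem F66696 : act 7 n14611 = n13155 := d27_2 (iv F52731) D14611 (iv D13155)
theorem F66697 : act 8 n14611 = n11415 := d28_2 (iv F52732) D14611 (iv D11415)
theorem F66698 : act 9 n14611 = n12434 := d29_2 (iv F52733) D14611 (iv D12434)
def n14612 : Q := act 6 n11413
theorem D14612 : act 6 n11413 = n14612 := rfl
theorem F66699 : act 0 n14612 = n12116 := d5_1 D14612 (iv D12116) (iv F52728)
theorem F66700 : act 1 n14612 = n13187 := d13_1 D14612 (iv D13187) (iv F52729)
theorem F66701 : act 4 n14612 = n11414 := d31_1 D14612 (iv D11414) D11413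
theorem F66702 : act 8 n14612 = n11416 := d40_2 (iv F52732) D14612 (iv D11416)
theorem F66703 : act 9 n14612 = n12435 := d41_2 (iv F52733) D14612 (iv D12435)
def n14613 : Q := act 7 n11414
theorem D14613 : act 7 n11414 = n14613 := rfl
theorem F66704 : act 0 n14613 = n12117 := d6_1 D14613 (iv D12117) (iv F52734)
theorem F66705 : act 1 n14613 = n13188 := d14_1 D14613 (iv D13188) (iv F52735)
theorem F66706 : act 3 n14613 = n11424 := d27_1 D14613 (iv D11424) (iv F52736)
theorem F66707 : act 5 n14613 = n11459 := d36_1 D14613 (iv D11459) (iv F52737)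
theorem F66708 : act 6 n14613 = n13157 := d39_1 D14613 (iv D13157) (iv D10245) (iv F41930) D11414
theorem F66709 : act 8 n14613 = n11417 := d42_2 (iv F52738) D14613 (iv D11417)
theorem F66710 : act 9 n14613 = n12436 := d43_2 (iv F52739) D14613 (iv D12436)
def n14614 : Q := act 2 n11415
theorem D14614 : act 2 n11415 = n14614 := rfl
theorem F66711 : act 0 n14614 = n12121 := d1_1 D14614 (iv D12121) (iv F52740)
theorem F66712 : act 4 n14614 = n11428 := d18_2 (iv F52742) D14614 (iv D11428)
theorem F66713 : act 5 n14614 = n13606 := d19_2 (iv F52743) D14614 (iv D13606)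
theorem F66714 : act 7 n14614 = n13602 := d21_2 (iv F52744) D14614 (iv D13602)
theorem F66715 : act 9 n14614 = n14614 := d23_2 F52745 D14614 (iv D14614)
def n14615 : Q := act 6 n11415
theorem D14615 : act 6 n11415 = n14615 := rfl
theorem F66716 : act 0 n14615 = n12122 := d5_1 D14615 (iv D12122) (iv F52740)
theorem F66717 : act 1 n14615 = n13647 := d13_1 D14615 (iv D13647) (iv F52741)
theorem F66718 : act 3 n14615 = n11416 := d26_1 D14615 (iv D11416) D11415
theorem F66719 : act 4 n14615 = n11429 := d31_1 D14615 (iv D11429) (iv F52742)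
theorem F66720 : act 9 n14615 = n14615 := d41_2 F52745 D14615 (iv D14615)
def n14616 : Q := act 5 n11416
theorem D14616 : act 5 n11416 = n14616 := rfl
theorem F66721 : act 0 n14616 = n12123 := d4_1 D14616 (iv D12123) (iv F52746)
theorem F66722 : act 1 n14616 = n13648 := d12_1 D14616 (iv D13648) (iv F52747)
theorem F66723 : act 4 n14616 = n11418 := d30_1 D14616 (iv D11418) F41945 (iv F41941) (iv F52748)
theorem F66724 : act 6 n14616 = n13608 := d35_2 D11416 D14616 (iv D13608) (iv D10590) (iv F41935)
theorem F66725 : act 9 n14616 = n14616 := d38_2 F52749 D14616 (iv D14616)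
def n14617 : Q := act 7 n11416
theorem D14617 : act 7 n11416 = n14617 := rfl
theorem F66726 : act 0 n14617 = n12124 := d6_1 D14617 (iv D12124) (iv F52746)
theorem F66727 : act 1 n14617 = n13649 := d14_1 D14617 (iv D13649) (iv F52747)
theorem F66728 : act 4 n14617 = n11417 := d32_1 D14617 (iv D11417) (iv F52748)
theorem F66729 : act 6 n14617 = n13605 := d39_1 D14617 (iv D13605) (iv D10587) (iv F41936) D11416
theorem F66730 : act 9 n14617 = n14617 := d43_2 F52749 D14617 (iv D14617)
def n14618 : Q := act 7 n11418
theorem D14618 : act 7 n11418 = n14618 := rfl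
theorem F66731 : act 0 n14618 = n12125 := d6_1 D14618 (iv D12125) (iv F52756)
theorem F66732 : act 3 n14618 = n14618 := d27_1 D14618 (iv D14618) F52757
theorem F66733 : act 5 n14618 = n11419 := d36_1 D14618 (iv D11419) D11418
theorem F66734 : act 9 n14618 = n14618 := d43_2 F52758 D14618 (iv D14618)
def n14619 : Q := act 8 n11418
theorem D14619 : act 8 n11418 = n14619 := rfl
theorem F66735 : act 0 n14619 = n12126 := d7_1 D14619 (iv D12126) (iv F52756)
theorem F66736 : act 3 n14619 = n14619 := d28_1 D14619 (iv D14619) F52757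
theorem F66737 : act 5 n14619 = n11465 := d37_1 D14619 (iv D11465) (iv D8987) (iv F41946) D11418
def n14620 : Q := act 3 n11420
theorem D14620 : act 3 n11420 = n14620 := rfl
theorem F66738 : act 0 n14620 = n12127 := d2_1 D14620 (iv D12127) (iv F52765)
theorem F66739 : act 1 n14620 = n13095 := d10_1 D14620 (iv D13095) (iv F52766)
theorem F66740 : act 4 n14620 = n13155 := d24_2 D11420 D14620 (iv D13155) (iv D10244) (iv F41956)
theorem F66741 : act 5 n14620 = n14620 := d25_2 F52768 D14620 (iv D14620)
theorem F66742 : act 7 n14620 = n11422 := d27_2 (iv F52769) D14620 (iv D11422)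
theorem F66743 : act 8 n14620 = n11425 := d28_2 (iv F52770) D14620 (iv D11425)
theorem F66744 : act 9 n14620 = n12317 := d29_2 (iv F52771) D14620 (iv D12317)
def n14621 : Q := act 6 n11420
theorem D14621 : act 6 n11420 = n14621 := rfl
theorem F66745 : act 0 n14621 = n12128 := d5_1 D14621 (iv D12128) (iv F52765)
theorem F66746 : act 1 n14621 = n13096 := d13_1 D14621 (iv D13096) (iv F52766)
theorem F66747 : act 2 n14621 = n11562 := d20_1 D14621 (iv D11562) (iv F52767)
theorem F66748 : act 4 n14621 = n11421 := d31_1 D14621 (iv D11421) D11420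
theorem F66749 : act 8 n14621 = n11426 := d40_2 (iv F52770) D14621 (iv D11426)
theorem F66750 : act 9 n14621 = n12318 := d41_2 (iv F52771) D14621 (iv D12318)
def n14622 : Q := act 7 n11421
theorem D14622 : act 7 n11421 = n14622 := rfl
theorem F66751 : act 0 n14622 = n12129 := d6_1 D14622 (iv D12129) (iv F52772)
theorem F66752 : act 1 n14622 = n13097 := d14_1 D14622 (iv D13097) (iv F52773)
theorem F66753 : act 2 n14622 = n11563 := d21_1 D14622 (iv D11563) (iv F52774)
theorem F66754 : act 3 n14622 = n13157 := d27_1 D14622 (iv D13157) (iv F52775)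
theorem F66755 : act 5 n14622 = n12322 := d36_1 D14622 (iv D12322) (iv F52776)
theorem F66756 : act 6 n14622 = n11424 := d39_1 D14622 (iv D11424) (iv D8957) (iv F41957) D11421
theorem F66757 : act 8 n14622 = n11427 := d42_2 (iv F52777) D14622 (iv D11427)
theorem F66758 : act 9 n14622 = n12319 := d43_2 (iv F52778) D14622 (iv D12319)
def n14623 : Q := act 2 n11422
theorem D14623 : act 2 n11422 = n14623 := rfl
theorem F66759 : act 0 n14623 = n12130 := d1_1 D14623 (iv D12130) (iv F52779)
theorem F66760 : act 3 n14623 = n11567 := d17_2 D11422 D14623 (iv D11567) (iv D9065) (iv F41962)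
theorem F66761 : act 5 n14623 = n14623 := d19_2 F52781 D14623 (iv D14623)
theorem F66762 : act 8 n14623 = n11428 := d22_2 (iv F52782) D14623 (iv D11428)
theorem F66763 : act 9 n14623 = n12468 := d23_2 (iv F52783) D14623 (iv D12468)
def n14624 : Q := act 6 n11422
theorem D14624 : act 6 n11422 = n14624 := rfl
theorem F66764 : act 0 n14624 = n12131 := d5_1 D14624 (iv D12131) (iv F52779)
theorem F66765 : act 1 n14624 = n13303 := d13_1 D14624 (iv D13303) (iv F52780)
theorem F66766 : act 3 n14624 = n11423 := d26_1 D14624 (iv D11423) D11422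
theorem F66767 : act 8 n14624 = n11429 := d40_2 (iv F52782) D14624 (iv D11429)
theorem F66768 : act 9 n14624 = n12469 := d41_2 (iv F52783) D14624 (iv D12469)
def n14625 : Q := act 5 n11423
theorem D14625 : act 5 n11423 = n14625 := rfl
theorem F66769 : act 0 n14625 = n12132 := d4_1 D14625 (iv D12132) (iv F52784)
theorem F66770 : act 1 n14625 = n13304 := d12_1 D14625 (iv D13304) (iv F52785)
theorem F66771 : act 2 n14625 = n11569 := d19_1 D14625 (iv D11569) (iv F52786)
theorem F66772 : act 4 n14625 = n11468 := d30_1 D14625 (iv D11468) F42150 (iv F41969) (iv F52787)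
theorem F66773 : act 6 n14625 = n14625 := d35_2 D11423 D14625 (iv D14625) (iv D11423) F41963
theorem F66774 : act 8 n14625 = n14625 := d37_2 (iv F52788) D14625 (iv D14625) F52788 F41990
theorem F66775 : act 9 n14625 = n12470 := d38_2 (iv F52789) D14625 (iv D12470)
def n14626 : Q := act 7 n11423
theorem D14626 : act 7 n11423 = n14626 := rfl
theorem F66776 : act 0 n14626 = n12133 := d6_1 D14626 (iv D12133) (iv F52784)
theorem F66777 : act 1 n14626 = n13305 := d14_1 D14626 (iv D13305) (iv F52785)
theorem F66778 : act 2 n14626 = n11570 := d21_1 D14626 (iv D11570) (iv F52786)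
theorem F66779 : act 4 n14626 = n11424 := d32_1 D14626 (iv D11424) (iv F52787)
theorem F66780 : act 8 n14626 = n11430 := d42_2 (iv F52788) D14626 (iv D11430)
theorem F66781 : act 9 n14626 = n12471 := d43_2 (iv F52789) D14626 (iv D12471)
def n14627 : Q := act 2 n11425
theorem D14627 : act 2 n11425 = n14627 := rfl
theorem F66782 : act 0 n14627 = n12134 := d1_1 D14627 (iv D12134) (iv F52796)
theorem F66783 : act 3 n14627 = n11571 := d17_2 D11425 D14627 (iv D11571) (iv D9068) (iv F41974)
theorem F66784 : act 4 n14627 = n13602 := d18_2 (iv F52798) D14627 (iv D13602)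
theorem F66785 : act 5 n14627 = n11431 := d19_2 (iv F52799) D14627 (iv D11431)
theorem F66786 : act 7 n14627 = n11428 := d21_2 (iv F52800) D14627 (iv D11428)
theorem F66787 : act 9 n14627 = n14627 := d23_2 F52801 D14627 (iv D14627)
def n14628 : Q := act 6 n11425
theorem D14628 : act 6 n11425 = n14628 := rfl
theorem F66788 : act 0 n14628 = n12135 := d5_1 D14628 (iv D12135) (iv F52796)
theorem F66789 : act 1 n14628 = n13643 := d13_1 D14628 (iv D13643) (iv F52797)
theorem F66790 : act 3 n14628 = n11426 := d26_1 D14628 (iv D11426) D11425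
theorem F66792 : act 9 n14628 = n14628 := d41_2 F52801 D14628 (iv D14628)
def n14629 : Q := act 5 n11426
theorem D14629 : act 5 n11426 = n14629 := rfl
theorem F66793 : act 0 n14629 = n12136 := d4_1 D14629 (iv D12136) (iv F52802)
theorem F66794 : act 1 n14629 = n13644 := d12_1 D14629 (iv D13644) (iv F52803)
theorem F66795 : act 2 n14629 = n11573 := d19_1 D14629 (iv D11573) (iv F52804)
theorem F66796 : act 4 n14629 = n14629 := d30_1 D14629 (iv D14629) F52805 F41982 (iv F52805)
theorem F66797 : act 6 n14629 = n11433 := d35_2 D11426 D14629 (iv D11433) (iv D8964) (iv F41975)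
theorem F66798 : act 9 n14629 = n14629 := d38_2 F52806 D14629 (iv D14629)
def n14630 : Q := act 7 n11426
theorem D14630 : act 7 n11426 = n14630 := rfl
theorem F66799 : act 0 n14630 = n12137 := d6_1 D14630 (iv D12137) (iv F52802)
theorem F66800 : act 1 n14630 = n13645 := d14_1 D14630 (iv D13645) (iv F52803)
theorem F66801 : act 2 n14630 = n11574 := d21_1 D14630 (iv D11574) (iv F52804)
theorem F66802 : act 4 n14630 = n11427 := d32_1 D14630 (iv D11427) (iv F52805)
theorem F66803 : act 6 n14630 = n11430 := d39_1 D14630 (iv D11430) (iv D8961) (iv F41976) D11426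
theorem F66804 : act 9 n14630 = n14630 := d43_2 F52806 D14630 (iv D14630)
def n14631 : Q := act 1 n11428
theorem D14631 : act 1 n11428 = n14631 := rfl
theorem F66805 : act 3 n14631 = n11575 := d10_2 (iv F52815) D14631 (iv D11575)
theorem F66806 : act 5 n14631 = n11434 := d12_2 (iv F52816) D14631 (iv D11434)
theorem F66807 : act 9 n14631 = n14631 := d16_2 F52817 D14631 (iv D14631)
def n14632 : Q := act 6 n11428
theorem D14632 : act 6 n11428 = n14632 := rfl
theorem F66808 : act 0 n14632 = n12139 := d5_1 D14632 (iv D12139) (iv F52814)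
theorem F66809 : act 2 n14632 = n11429 := d20_1 D14632 (iv D11429) D11428
theorem F66810 : act 3 n14632 = n11576 := d26_1 D14632 (iv D11576) (iv F52815)
theorem F66811 : act 5 n14632 = n14632 := d35_1 D14632 (iv D14632) F52816 F42011 (iv F52816)
theorem F66812 : act 9 n14632 = n14632 := d41_2 F52817 D14632 (iv D14632)
def n14633 : Q := act 7 n11429
theorem D14633 : act 7 n11429 = n14633 := rfl
theorem F66813 : act 0 n14633 = n12140 := d6_1 D14633 (iv D12140) (iv F52818)
theorem F66814 : act 3 n14633 = n11430 := d27_1 D14633 (iv D11430) (iv F52819)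
theorem F66815 : act 5 n14633 = n14633 := d36_1 D14633 (iv D14633) F52820
theorem F66816 : act 9 n14633 = n14633 := d43_2 F52821 D14633 (iv D14633)
def n14634 : Q := act 1 n11431
theorem D14634 : act 1 n11431 = n14634 := rfl
theorem F66818 : act 3 n14634 = n11578 := d10_2 (iv F52828) D14634 (iv D11578)
theorem F66819 : act 4 n14634 = n14068 := d11_2 (iv F52829) D14634 (iv D14068)
theorem F66820 : act 7 n14634 = n11434 := d14_2 (iv F52830) D14634 (iv D11434)
def n14635 : Q := act 6 n11431
theorem D14635 : act 6 n11431 = n14635 := rfl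
theorem F66824 : act 2 n14635 = n11432 := d20_1 D14635 (iv D11432) D11431
theorem F66825 : act 3 n14635 = n11579 := d26_1 D14635 (iv D11579) (iv F52828)
def n14636 : Q := act 5 n11432
theorem D14636 : act 5 n11432 = n14636 := rfl
theorem F66832 : act 3 n14636 = n11433 := d25_1 D14636 (iv D11433) (iv F52835)
def n14637 : Q := act 8 n11433
theorem D14637 : act 8 n11433 = n14637 := rfl
theorem F66837 : act 2 n14637 = n11581 := d22_1 D14637 (iv D11581) (iv F52842)
def n14638 : Q := act 0 n11434
theorem D14638 : act 0 n11434 = n14638 := rfl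
theorem F66841 : act 1 n14638 = n12145 := d0_2 D11434 D14638 (iv D12145) (iv D9499) (iv F42009)
theorem F66842 : act 3 n14638 = n11582 := d2_2 (iv F52846) D14638 (iv D11582)
theorem F66843 : act 6 n14638 = n14638 := d5_2 F52847 D14638 (iv D14638)
theorem F66844 : act 8 n14638 = n14638 := d7_2 F52848 D14638 (iv D14638)
theorem F66845 : act 9 n14638 = n14638 := d8_2 F52849 D14638 (iv D14638)
def n14639 : Q := act 5 n11435
theorem D14639 : act 5 n11435 = n14639 := rfl
theorem F66846 : act 0 n14639 = n11439 := d4_1 D14639 (iv D11439) (iv F52850)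
theorem F66847 : act 1 n14639 = n12146 := d12_1 D14639 (iv D12146) (iv F52851)
theorem F66848 : act 2 n14639 = n11633 := d19_1 D14639 (iv D11633) (iv F52852)
theorem F66849 : act 3 n14639 = n11586 := d25_1 D14639 (iv D11586) (iv F52853)
theorem F66850 : act 7 n14639 = n12351 := d36_2 (iv F52856) D14639 (iv D12351)
theorem F66851 : act 8 n14639 = n11436 := d37_2 D11435 D14639 (iv D11436) (iv D8967) (iv F42019)
theorem F66852 : act 9 n14639 = n12099 := d38_2 (iv F52857) D14639 (iv D12099)
def n14640 : Q := act 4 n11436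
theorem D14640 : act 4 n11436 = n14640 := rfl
theorem F66853 : act 0 n14640 = n11440 := d3_1 D14640 (iv D11440) (iv F52858)
theorem F66854 : act 1 n14640 = n12147 := d11_1 D14640 (iv D12147) (iv F52859)
theorem F66855 : act 2 n14640 = n13358 := d18_1 D14640 (iv D13358) (iv F52860)
theorem F66856 : act 5 n14640 = n14640 := d30_2 D11436 D14640 (iv D14640) (iv D11436) F42026
theorem F66857 : act 7 n14640 = n12506 := d32_2 (iv F52862) D14640 (iv D12506)
theorem F66858 : act 9 n14640 = n11474 := d34_2 (iv F52863) D14640 (iv D11474)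
def n14641 : Q := act 6 n11436
theorem D14641 : act 6 n11436 = n14641 := rfl
theorem F66859 : act 0 n14641 = n11441 := d5_1 D14641 (iv D11441) (iv F52858)
theorem F66860 : act 1 n14641 = n12148 := d13_1 D14641 (iv D12148) (iv F52859)
theorem F66861 : act 2 n14641 = n13359 := d20_1 D14641 (iv D13359) (iv F52860)
theorem F66862 : act 3 n14641 = n11589 := d26_1 D14641 (iv D11589) (iv F52861)
theorem F66863 : act 5 n14641 = n11438 := d35_1 D14641 (iv D11438) (iv D8968) (iv F42027) D11436
theorem F66864 : act 9 n14641 = n11475 := d41_2 (iv F52863) D14641 (iv D11475)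
def n14642 : Q := act 3 n11437
theorem D14642 : act 3 n11437 = n14642 := rfl
theorem F66865 : act 0 n14642 = n11442 := d2_1 D14642 (iv D11442) (iv F52864)
theorem F66866 : act 1 n14642 = n12149 := d10_1 D14642 (iv D12149) (iv F52865)
theorem F66867 : act 4 n14642 = n11590 := d24_2 D11437 D14642 (iv D11590) (iv D9084) (iv F42032)
theorem F66868 : act 5 n14642 = n14642 := d25_2 F52866 D14642 (iv D14642)
theorem F66869 : act 7 n14642 = n14642 := d27_2 F52867 D14642 (iv D14642)
theorem F66870 : act 9 n14642 = n11476 := d29_2 (iv F52868) D14642 (iv D11476)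
def n14643 : Q := act 6 n11437
theorem D14643 : act 6 n11437 = n14643 := rfl
theorem F66871 : act 0 n14643 = n11443 := d5_1 D14643 (iv D11443) (iv F52864)
theorem F66872 : act 1 n14643 = n12150 := d13_1 D14643 (iv D12150) (iv F52865)
theorem F66873 : act 4 n14643 = n11438 := d31_1 D14643 (iv D11438) D11437
theorem F66874 : act 9 n14643 = n11477 := d41_2 (iv F52868) D14643 (iv D11477)
def n14644 : Q := act 7 n11438
theorem D14644 : act 7 n11438 = n14644 := rfl
theorem F66875 : act 0 n14644 = n11444 := d6_1 D14644 (iv D11444) (iv F52869)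
theorem F66876 : act 1 n14644 = n12151 := d14_1 D14644 (iv D12151) (iv F52870)
theorem F66877 : act 3 n14644 = n11592 := d27_1 D14644 (iv D11592) (iv F52871)
theorem F66878 : act 6 n14644 = n14644 := d39_1 D14644 (iv D14644) (iv D11438) F42033 D11438
theorem F66879 : act 9 n14644 = n11478 := d43_2 (iv F52872) D14644 (iv D11478)
def n14645 : Q := act 4 n11439
theorem D14645 : act 4 n11439 = n14645 := rfl
theorem F66880 : act 1 n14645 = n11447 := d11_1 D14645 (iv D11447) (iv F52873)
theorem F66881 : act 2 n14645 = n12422 := d18_1 D14645 (iv D12422) (iv F52874)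
theorem F66882 : act 5 n14645 = n12394 := d30_2 D11439 D14645 (iv D12394) (iv D9677) (iv F42038)
theorem F66883 : act 7 n14645 = n12367 := d32_2 (iv F52876) D14645 (iv D12367)
theorem F66884 : act 8 n14645 = n11440 := d33_2 (iv F52877) D14645 (iv D11440)
theorem F66885 : act 9 n14645 = n12365 := d34_2 (iv F52878) D14645 (iv D12365)
def n14646 : Q := act 6 n11439
theorem D14646 : act 6 n11439 = n14646 := rfl
theorem F66886 : act 1 n14646 = n11448 := d13_1 D14646 (iv D11448) (iv F52873)
theorem F66887 : act 2 n14646 = n12423 := d20_1 D14646 (iv D12423) (iv F52874)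
theorem F66888 : act 3 n14646 = n11599 := d26_1 D14646 (iv D11599) (iv F52875)
theorem F66889 : act 5 n14646 = n12388 := d35_1 D14646 (iv D12388) (iv D9673) (iv F42039) D11439
theorem F66890 : act 8 n14646 = n11441 := d40_2 (iv F52877) D14646 (iv D11441)
theorem F66891 : act 9 n14646 = n12366 := d41_2 (iv F52878) D14646 (iv D12366)
def n14647 : Q := act 3 n11440
theorem D14647 : act 3 n11440 = n14647 := rfl
theorem F66892 : act 1 n14647 = n11449 := d10_1 D14647 (iv D11449) (iv F52879)
theorem F66893 : act 4 n14647 = n11602 := d24_2 D11440 D14647 (iv D11602) (iv D9093) (iv F42044)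
theorem F66894 : act 5 n14647 = n14647 := d25_2 F52881 D14647 (iv D14647)
theorem F66895 : act 7 n14647 = n12524 := d27_2 (iv F52882) D14647 (iv D12524)
theorem F66896 : act 9 n14647 = n11479 := d29_2 (iv F52883) D14647 (iv D11479)
def n14648 : Q := act 6 n11440
theorem D14648 : act 6 n11440 = n14648 := rfl
theorem F66897 : act 1 n14648 = n11450 := d13_1 D14648 (iv D11450) (iv F52879)
theorem F66898 : act 2 n14648 = n13390 := d20_1 D14648 (iv D13390) (iv F52880)
theorem F66899 : act 4 n14648 = n11441 := d31_1 D14648 (iv D11441) D11440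
theorem F66900 : act 9 n14648 = n11480 := d41_2 (iv F52883) D14648 (iv D11480)
def n14649 : Q := act 7 n11441
theorem D14649 : act 7 n11441 = n14649 := rfl
theorem F66901 : act 1 n14649 = n11451 := d14_1 D14649 (iv D11451) (iv F52884)
theorem F66902 : act 2 n14649 = n13391 := d21_1 D14649 (iv D13391) (iv F52885)
theorem F66903 : act 3 n14649 = n11604 := d27_1 D14649 (iv D11604) (iv F52886)
theorem F66904 : act 5 n14649 = n11444 := d36_1 D14649 (iv D11444) (iv F52887)
theorem F66905 : act 6 n14649 = n12526 := d39_1 D14649 (iv D12526) (iv D9772) (iv F42045) D11441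
theorem F66906 : act 9 n14649 = n11481 := d43_2 (iv F52888) D14649 (iv D11481)
def n14650 : Q := act 2 n11442
theorem D14650 : act 2 n11442 = n14650 := rfl
theorem F66907 : act 1 n14650 = n14650 := d9_1 D14650 (iv D14650) F52889 F42086 (iv F52889)
theorem F66908 : act 4 n14650 = n11605 := d18_2 (iv F52890) D14650 (iv D11605)
theorem F66909 : act 5 n14650 = n14650 := d19_2 F52891 D14650 (iv D14650)
theorem F66910 : act 7 n14650 = n14650 := d21_2 F52892 D14650 (iv D14650)
theorem F66911 : act 9 n14650 = n11482 := d23_2 (iv F52893) D14650 (iv D11482)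
def n14651 : Q := act 6 n11442
theorem D14651 : act 6 n11442 = n14651 := rfl
theorem F66912 : act 1 n14651 = n11452 := d13_1 D14651 (iv D11452) (iv F52889)
theorem F66913 : act 3 n14651 = n11443 := d26_1 D14651 (iv D11443) D11442
theorem F66914 : act 4 n14651 = n11606 := d31_1 D14651 (iv D11606) (iv F52890)
theorem F66915 : act 9 n14651 = n11483 := d41_2 (iv F52893) D14651 (iv D11483)
def n14652 : Q := act 5 n11443
theorem D14652 : act 5 n11443 = n14652 := rfl
theorem F66916 : act 1 n14652 = n11453 := d12_1 D14652 (iv D11453) (iv F52894)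
theorem F66917 : act 6 n14652 = n14652 := d35_2 D11443 D14652 (iv D14652) (iv D11443) F42048
theorem F66918 : act 9 n14652 = n11484 := d38_2 (iv F52896) D14652 (iv D11484)
def n14653 : Q := act 7 n11443
theorem D14653 : act 7 n11443 = n14653 := rfl
theorem F66919 : act 1 n14653 = n11454 := d14_1 D14653 (iv D11454) (iv F52894)
theorem F66920 : act 4 n14653 = n11444 := d32_1 D14653 (iv D11444) (iv F52895)
theorem F66921 : act 6 n14653 = n14653 := d39_1 D14653 (iv D14653) (iv D11443) F42049 D11443
theorem F66922 : act 9 n14653 = n11485 := d43_2 (iv F52896) D14653 (iv D11485)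
def n14654 : Q := act 5 n11445
theorem D14654 : act 5 n11445 = n14654 := rfl
theorem F66923 : act 0 n14654 = n12162 := d4_1 D14654 (iv D12162) (iv F52901)
theorem F66924 : act 1 n14654 = n11524 := d12_1 D14654 (iv D11524) (iv F52902)
theorem F66925 : act 2 n14654 = n14654 := d19_1 D14654 (iv D14654) F52903
theorem F66926 : act 3 n14654 = n11446 := d25_1 D14654 (iv D11446) (iv F52904)
theorem F66927 : act 7 n14654 = n12384 := d36_2 (iv F52907) D14654 (iv D12384)
theorem F66928 : act 8 n14654 = n14654 := d37_2 D11445 D14654 (iv D14654) (iv D11445) F42059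
theorem F66929 : act 9 n14654 = n11511 := d38_2 (iv F52908) D14654 (iv D11511)
def n14655 : Q := act 4 n11446
theorem D14655 : act 4 n11446 = n14655 := rfl
theorem F66930 : act 0 n14655 = n12163 := d3_1 D14655 (iv D12163) (iv F52909)
theorem F66931 : act 1 n14655 = n12394 := d11_1 D14655 (iv D12394) (iv F52910)
theorem F66932 : act 2 n14655 = n11455 := d18_1 D14655 (iv D11455) (iv F52911)
theorem F66933 : act 5 n14655 = n11447 := d30_2 D11446 D14655 (iv D11447) (iv D8975) (iv F42065)
theorem F66934 : act 7 n14655 = n12389 := d32_2 (iv F52912) D14655 (iv D12389)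
theorem F66935 : act 8 n14655 = n14655 := d33_2 F52913 D14655 (iv D14655)
theorem F66936 : act 9 n14655 = n12387 := d34_2 (iv F52914) D14655 (iv D12387)
def n14656 : Q := act 6 n11446
theorem D14656 : act 6 n11446 = n14656 := rfl
theorem F66937 : act 0 n14656 = n12164 := d5_1 D14656 (iv D12164) (iv F52909)
theorem F66938 : act 1 n14656 = n12395 := d13_1 D14656 (iv D12395) (iv F52910)
theorem F66939 : act 2 n14656 = n11456 := d20_1 D14656 (iv D11456) (iv F52911)
theorem F66940 : act 5 n14656 = n12366 := d35_1 D14656 (iv D12366) (iv D9658) (iv F42066) D11446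
theorem F66941 : act 8 n14656 = n14656 := d40_2 F52913 D14656 (iv D14656)
theorem F66942 : act 9 n14656 = n12388 := d41_2 (iv F52914) D14656 (iv D12388)
def n14657 : Q := act 3 n11447
theorem D14657 : act 3 n11447 = n14657 := rfl
theorem F66943 : act 0 n14657 = n12165 := d2_1 D14657 (iv D12165) (iv F52915)
theorem F66944 : act 4 n14657 = n11619 := d24_2 D11447 D14657 (iv D11619) (iv D9105) (iv F42071)
theorem F66945 : act 7 n14657 = n12399 := d27_2 (iv F52917) D14657 (iv D12399)
theorem F66946 : act 8 n14657 = n11449 := d28_2 (iv F52918) D14657 (iv D11449)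
theorem F66947 : act 9 n14657 = n12396 := d29_2 (iv F52919) D14657 (iv D12396)
def n14658 : Q := act 6 n11447
theorem D14658 : act 6 n11447 = n14658 := rfl
theorem F66948 : act 0 n14658 = n12166 := d5_1 D14658 (iv D12166) (iv F52915)
theorem F66949 : act 2 n14658 = n11458 := d20_1 D14658 (iv D11458) (iv F52916)
theorem F66950 : act 4 n14658 = n11448 := d31_1 D14658 (iv D11448) D11447
theorem F66951 : act 8 n14658 = n11450 := d40_2 (iv F52918) D14658 (iv D11450)
theorem F66952 : act 9 n14658 = n12397 := d41_2 (iv F52919) D14658 (iv D12397)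
def n14659 : Q := act 7 n11448
theorem D14659 : act 7 n11448 = n14659 := rfl
theorem F66953 : act 0 n14659 = n12167 := d6_1 D14659 (iv D12167) (iv F52920)
theorem F66954 : act 2 n14659 = n11459 := d21_1 D14659 (iv D11459) (iv F52921)
theorem F66955 : act 3 n14659 = n11621 := d27_1 D14659 (iv D11621) (iv F52922)
theorem F66956 : act 6 n14659 = n12401 := d39_1 D14659 (iv D12401) (iv D9681) (iv F42072) D11448
theorem F66957 : act 8 n14659 = n11451 := d42_2 (iv F52923) D14659 (iv D11451)
theorem F66958 : act 9 n14659 = n12398 := d43_2 (iv F52924) D14659 (iv D12398)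
def n14660 : Q := act 2 n11449
theorem D14660 : act 2 n11449 = n14660 := rfl
theorem F66959 : act 0 n14660 = n12168 := d1_1 D14660 (iv D12168) (iv F52925)
theorem F66960 : act 3 n14660 = n11460 := d17_2 D11449 D14660 (iv D11460) (iv D8984) (iv F42076)
theorem F66961 : act 4 n14660 = n11625 := d18_2 (iv F52926) D14660 (iv D11625)
theorem F66962 : act 5 n14660 = n14660 := d19_2 F52927 D14660 (iv D14660)
theorem F66963 : act 7 n14660 = n12549 := d21_2 (iv F52928) D14660 (iv D12549)
theorem F66964 : act 9 n14660 = n11486 := d23_2 (iv F52929) D14660 (iv D11486)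
def n14661 : Q := act 6 n11449
theorem D14661 : act 6 n11449 = n14661 := rfl
theorem F66965 : act 0 n14661 = n12169 := d5_1 D14661 (iv D12169) (iv F52925)
theorem F66966 : act 3 n14661 = n11450 := d26_1 D14661 (iv D11450) D11449
theorem F66967 : act 4 n14661 = n11626 := d31_1 D14661 (iv D11626) (iv F52926)
theorem F66968 : act 9 n14661 = n11487 := d41_2 (iv F52929) D14661 (iv D11487)
def n14662 : Q := act 5 n11450
theorem D14662 : act 5 n11450 = n14662 := rfl
theorem F66969 : act 0 n14662 = n12170 := d4_1 D14662 (iv D12170) (iv F52930)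
theorem F66970 : act 2 n14662 = n11462 := d19_1 D14662 (iv D11462) (iv F52931)
theorem F66971 : act 4 n14662 = n11453 := d30_1 D14662 (iv D11453) F42093 (iv F42083) (iv F52932)
theorem F66972 : act 6 n14662 = n14662 := d35_2 D11450 D14662 (iv D14662) (iv D11450) F42077
theorem F66973 : act 9 n14662 = n11488 := d38_2 (iv F52933) D14662 (iv D11488)
def n14663 : Q := act 7 n11450
theorem D14663 : act 7 n11450 = n14663 := rfl
theorem F66974 : act 0 n14663 = n12171 := d6_1 D14663 (iv D12171) (iv F52930)
theorem F66975 : act 2 n14663 = n11463 := d21_1 D14663 (iv D11463) (iv F52931)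
theorem F66976 : act 4 n14663 = n11451 := d32_1 D14663 (iv D11451) (iv F52932)
theorem F66977 : act 6 n14663 = n12552 := d39_1 D14663 (iv D12552) (iv D9789) (iv F42078) D11450
theorem F66978 : act 9 n14663 = n11489 := d43_2 (iv F52933) D14663 (iv D11489)
def n14664 : Q := act 5 n11452
theorem D14664 : act 5 n11452 = n14664 := rfl
theorem F66979 : act 0 n14664 = n12172 := d4_1 D14664 (iv D12172) (iv F52940)
theorem F66980 : act 2 n14664 = n14664 := d19_1 D14664 (iv D14664) F52941
theorem F66981 : act 3 n14664 = n11453 := d25_1 D14664 (iv D11453) (iv F52942)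
theorem F66982 : act 6 n14664 = n14664 := d35_2 D11452 D14664 (iv D14664) (iv D11452) F42088
theorem F66983 : act 9 n14664 = n11490 := d38_2 (iv F52944) D14664 (iv D11490)
def n14665 : Q := act 7 n11452
theorem D14665 : act 7 n11452 = n14665 := rfl
theorem F66984 : act 0 n14665 = n12173 := d6_1 D14665 (iv D12173) (iv F52940)
theorem F66985 : act 2 n14665 = n14665 := d21_1 D14665 (iv D14665) F52941
theorem F66986 : act 3 n14665 = n11454 := d27_1 D14665 (iv D11454) (iv F52942)
theorem F66987 : act 4 n14665 = n11630 := d32_1 D14665 (iv D11630) (iv F52943)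
theorem F66988 : act 6 n14665 = n14665 := d39_1 D14665 (iv D14665) (iv D11452) F42089 D11452
theorem F66989 : act 9 n14665 = n11491 := d43_2 (iv F52944) D14665 (iv D11491)
def n14666 : Q := act 7 n11453
theorem D14666 : act 7 n11453 = n14666 := rfl
theorem F66990 : act 0 n14666 = n12174 := d6_1 D14666 (iv D12174) (iv F52945)
theorem F66991 : act 2 n14666 = n11464 := d21_1 D14666 (iv D11464) (iv F52946)
theorem F66992 : act 5 n14666 = n11454 := d36_1 D14666 (iv D11454) D11453
theorem F66993 : act 9 n14666 = n11492 := d43_2 (iv F52948) D14666 (iv D11492)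
def n14667 : Q := act 8 n11453
theorem D14667 : act 8 n11453 = n14667 := rfl
theorem F66994 : act 0 n14667 = n12175 := d7_1 D14667 (iv D12175) (iv F52945)
theorem F66995 : act 2 n14667 = n11465 := d22_1 D14667 (iv D11465) (iv F52946)
theorem F66996 : act 6 n14667 = n14667 := d40_1 D14667 (iv D14667) F52947
def n14668 : Q := act 3 n11455
theorem D14668 : act 3 n11455 = n14668 := rfl
theorem F66997 : act 0 n14668 = n12176 := d2_1 D14668 (iv D12176) (iv F52954)
theorem F66998 : act 1 n14668 = n13193 := d10_1 D14668 (iv D13193) (iv F52955)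
theorem F66999 : act 4 n14668 = n14668 := d24_2 D11455 D14668 (iv D14668) (iv D11455) F42102
theorem F67000 : act 5 n14668 = n11457 := d25_2 (iv F52956) D14668 (iv D11457)
theorem F67001 : act 7 n14668 = n12427 := d27_2 (iv F52957) D14668 (iv D12427)
theorem F67002 : act 8 n14668 = n14668 := d28_2 F52958 D14668 (iv D14668)
theorem F67003 : act 9 n14668 = n12424 := d29_2 (iv F52959) D14668 (iv D12424)
def n14669 : Q := act 6 n11455
theorem D14669 : act 6 n11455 = n14669 := rfl
theorem F67004 : act 0 n14669 = n12177 := d5_1 D14669 (iv D12177) (iv F52954)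
theorem F67005 : act 1 n14669 = n13194 := d13_1 D14669 (iv D13194) (iv F52955)
theorem F67006 : act 4 n14669 = n11456 := d31_1 D14669 (iv D11456) D11455
theorem F67007 : act 8 n14669 = n14669 := d40_2 F52958 D14669 (iv D14669)
theorem F67008 : act 9 n14669 = n12425 := d41_2 (iv F52959) D14669 (iv D12425)
def n14670 : Q := act 7 n11456
theorem D14670 : act 7 n11456 = n14670 := rfl
theorem F67009 : act 0 n14670 = n12178 := d6_1 D14670 (iv D12178) (iv F52960)
theorem F67010 : act 1 n14670 = n13195 := d14_1 D14670 (iv D13195) (iv F52961)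
theorem F67011 : act 3 n14670 = n14670 := d27_1 D14670 (iv D14670) F52962
theorem F67012 : act 5 n14670 = n13160 := d36_1 D14670 (iv D13160) (iv F52963)
theorem F67013 : act 6 n14670 = n12429 := d39_1 D14670 (iv D12429) (iv D9700) (iv F42103) D11456
theorem F67014 : act 8 n14670 = n14670 := d42_2 F52964 D14670 (iv D14670)
theorem F67015 : act 9 n14670 = n12426 := d43_2 (iv F52965) D14670 (iv D12426)
def n14671 : Q := act 2 n11457
theorem D14671 : act 2 n11457 = n14671 := rfl
theorem F67016 : act 0 n14671 = n12179 := d1_1 D14671 (iv D12179) (iv F52966)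
theorem F67017 : act 4 n14671 = n11466 := d18_2 (iv F52968) D14671 (iv D11466)
theorem F67018 : act 7 n14671 = n12441 := d21_2 (iv F52969) D14671 (iv D12441)
theorem F67019 : act 8 n14671 = n11460 := d22_2 (iv F52970) D14671 (iv D11460)
theorem F67020 : act 9 n14671 = n12437 := d23_2 (iv F52971) D14671 (iv D12437)
def n14672 : Q := act 6 n11457
theorem D14672 : act 6 n11457 = n14672 := rfl
theorem F67021 : act 0 n14672 = n12180 := d5_1 D14672 (iv D12180) (iv F52966)
theorem F67023 : act 3 n14672 = n11458 := d26_1 D14672 (iv D11458) D11457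
theorem F67024 : act 4 n14672 = n11467 := d31_1 D14672 (iv D11467) (iv F52968)
theorem F67025 : act 8 n14672 = n11461 := d40_2 (iv F52970) D14672 (iv D11461)
theorem F67026 : act 9 n14672 = n12438 := d41_2 (iv F52971) D14672 (iv D12438)
def n14673 : Q := act 5 n11458
theorem D14673 : act 5 n11458 = n14673 := rfl
theorem F67027 : act 0 n14673 = n12181 := d4_1 D14673 (iv D12181) (iv F52972)
theorem F67028 : act 1 n14673 = n13256 := d12_1 D14673 (iv D13256) (iv F52973)
theorem F67029 : act 9 n14673 = n12439 := d38_2 (iv F52976) D14673 (iv D12439)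
def n14674 : Q := act 7 n11458
theorem D14674 : act 7 n11458 = n14674 := rfl
theorem F67030 : act 0 n14674 = n12182 := d6_1 D14674 (iv D12182) (iv F52972)
theorem F67031 : act 1 n14674 = n13257 := d14_1 D14674 (iv D13257) (iv F52973)
theorem F67032 : act 4 n14674 = n11459 := d32_1 D14674 (iv D11459) (iv F52974)
theorem F67033 : act 6 n14674 = n12444 := d39_1 D14674 (iv D12444) (iv D9710) (iv F42108) D11458
theorem F67034 : act 8 n14674 = n11463 := d42_2 (iv F52975) D14674 (iv D11463)
theorem F67035 : act 9 n14674 = n12440 := d43_2 (iv F52976) D14674 (iv D12440)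
def n14675 : Q := act 1 n11460
theorem D14675 : act 1 n11460 = n14675 := rfl
theorem F67040 : act 9 n14675 = n11494 := d16_2 (iv F52987) D14675 (iv D11494)
def n14676 : Q := act 6 n11460
theorem D14676 : act 6 n11460 = n14676 := rfl
theorem F67041 : act 0 n14676 = n12184 := d5_1 D14676 (iv D12184) (iv F52983)
theorem F67042 : act 2 n14676 = n11461 := d20_1 D14676 (iv D11461) D11460
theorem F67043 : act 4 n14676 = n11471 := d31_1 D14676 (iv D11471) (iv F52984)
theorem F67044 : act 9 n14676 = n11495 := d41_2 (iv F52987) D14676 (iv D11495)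
def n14677 : Q := act 5 n11461
theorem D14677 : act 5 n11461 = n14677 := rfl
theorem F67045 : act 0 n14677 = n12185 := d4_1 D14677 (iv D12185) (iv F52988)
theorem F67047 : act 3 n14677 = n11462 := d25_1 D14677 (iv D11462) (iv F52990)
theorem F67048 : act 4 n14677 = n14677 := d30_1 D14677 (iv D14677) F52991 F42167 (iv F52991)
theorem F67049 : act 6 n14677 = n14677 := d35_2 D11461 D14677 (iv D14677) (iv D11461) F42119
theorem F67050 : act 9 n14677 = n11496 := d38_2 (iv F52992) D14677 (iv D11496)
def n14678 : Q := act 7 n11461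
theorem D14678 : act 7 n11461 = n14678 := rfl
theorem F67051 : act 0 n14678 = n12186 := d6_1 D14678 (iv D12186) (iv F52988)
theorem F67053 : act 3 n14678 = n11463 := d27_1 D14678 (iv D11463) (iv F52990)
theorem F67054 : act 4 n14678 = n11472 := d32_1 D14678 (iv D11472) (iv F52991)
theorem F67055 : act 6 n14678 = n12585 := d39_1 D14678 (iv D12585) (iv D9812) (iv F42120) D11461
theorem F67056 : act 9 n14678 = n11497 := d43_2 (iv F52992) D14678 (iv D11497)
def n14679 : Q := act 7 n11462
theorem D14679 : act 7 n11462 = n14679 := rfl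
theorem F67057 : act 0 n14679 = n12187 := d6_1 D14679 (iv D12187) (iv F52993)
theorem F67058 : act 1 n14679 = n13493 := d14_1 D14679 (iv D13493) (iv F52994)
theorem F67059 : act 4 n14679 = n11464 := d32_1 D14679 (iv D11464) (iv F52995)
theorem F67060 : act 5 n14679 = n11463 := d36_1 D14679 (iv D11463) D11462
theorem F67061 : act 9 n14679 = n11498 := d43_2 (iv F52997) D14679 (iv D11498)
def n14680 : Q := act 8 n11462
theorem D14680 : act 8 n11462 = n14680 := rfl
theorem F67062 : act 0 n14680 = n12188 := d7_1 D14680 (iv D12188) (iv F52993)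
theorem F67063 : act 1 n14680 = n13494 := d15_1 D14680 (iv D13494) (iv F52994)
theorem F67064 : act 4 n14680 = n11465 := d33_1 D14680 (iv D11465) (iv F52995)
theorem F67065 : act 6 n14680 = n14680 := d40_1 D14680 (iv D14680) F52996
def n14681 : Q := act 6 n11464
theorem D14681 : act 6 n11464 = n14681 := rfl
theorem F67066 : act 0 n14681 = n12189 := d5_1 D14681 (iv D12189) (iv F53003)
theorem F67067 : act 3 n14681 = n14681 := d26_1 D14681 (iv D14681) F53004
theorem F67068 : act 5 n14681 = n14681 := d35_1 D14681 (iv D14681) F53005 F42139 (iv F53005)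
theorem F67069 : act 7 n14681 = n14681 := d39_2 D11464 D14681 (iv D14681) (iv D11464) F42134
theorem F67070 : act 9 n14681 = n11500 := d41_2 (iv F53006) D14681 (iv D11500)
def n14682 : Q := act 8 n11464
theorem D14682 : act 8 n11464 = n14682 := rfl
theorem F67071 : act 0 n14682 = n12190 := d7_1 D14682 (iv D12190) (iv F53003)
theorem F67072 : act 3 n14682 = n14682 := d28_1 D14682 (iv D14682) F53004
theorem F67073 : act 7 n14682 = n11465 := d42_1 D14682 (iv D11465) D11464
def n14683 : Q := act 9 n11465
theorem D14683 : act 9 n11465 = n14683 := rfl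
theorem F67074 : act 0 n14683 = n12191 := d8_1 D14683 (iv D12191) (iv F53007)
theorem F67075 : act 3 n14683 = n14683 := d29_1 D14683 (iv D14683) F53008
theorem F67076 : act 6 n14683 = n14683 := d41_1 D14683 (iv D14683) F53009
theorem F67077 : act 8 n14683 = n11502 := d44_1 D14683 (iv D11502) (iv D9015) (iv F42135) D11465
def n14684 : Q := act 1 n11466
theorem D14684 : act 1 n11466 = n14684 := rfl
theorem F67079 : act 3 n14684 = n11677 := d10_2 (iv F53011) D14684 (iv D11677)
theorem F67082 : act 8 n14684 = n11470 := d15_2 (iv F53014) D14684 (iv D11470)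
def n14685 : Q := act 6 n11466
theorem D14685 : act 6 n11466 = n14685 := rfl
theorem F67084 : act 0 n14685 = n12193 := d5_1 D14685 (iv D12193) (iv F53010)
theorem F67085 : act 2 n14685 = n11467 := d20_1 D14685 (iv D11467) D11466
theorem F67086 : act 3 n14685 = n11678 := d26_1 D14685 (iv D11678) (iv F53011)
theorem F67087 : act 8 n14685 = n11471 := d40_2 (iv F53014) D14685 (iv D11471)
theorem F67088 : act 9 n14685 = n12473 := d41_2 (iv F53015) D14685 (iv D12473)
def n14686 : Q := act 5 n11467
theorem D14686 : act 5 n11467 = n14686 := rfl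
theorem F67089 : act 0 n14686 = n12194 := d4_1 D14686 (iv D12194) (iv F53016)
theorem F67091 : act 3 n14686 = n11468 := d25_1 D14686 (iv D11468) (iv F53018)
theorem F67092 : act 6 n14686 = n14686 := d35_2 D11467 D14686 (iv D14686) (iv D11467) F42143
theorem F67093 : act 8 n14686 = n14686 := d37_2 (iv F53019) D14686 (iv D14686) F53019 F42167
theorem F67094 : act 9 n14686 = n12474 := d38_2 (iv F53020) D14686 (iv D12474)
def n14687 : Q := act 7 n11467
theorem D14687 : act 7 n11467 = n14687 := rfl
theorem F67095 : act 0 n14687 = n12195 := d6_1 D14687 (iv D12195) (iv F53016)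
theorem F67097 : act 3 n14687 = n11469 := d27_1 D14687 (iv D11469) (iv F53018)
theorem F67098 : act 6 n14687 = n12481 := d39_1 D14687 (iv D12481) (iv D9737) (iv F42144) D11467
theorem F67099 : act 8 n14687 = n11472 := d42_2 (iv F53019) D14687 (iv D11472)
theorem F67100 : act 9 n14687 = n12475 := d43_2 (iv F53020) D14687 (iv D12475)
def n14688 : Q := act 7 n11468
theorem D14688 : act 7 n11468 = n14688 := rfl
theorem F67101 : act 0 n14688 = n12196 := d6_1 D14688 (iv D12196) (iv F53021)
theorem F67102 : act 1 n14688 = n13316 := d14_1 D14688 (iv D13316) (iv F53022)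
theorem F67103 : act 2 n14688 = n11681 := d21_1 D14688 (iv D11681) (iv F53023)
theorem F67104 : act 5 n14688 = n11469 := d36_1 D14688 (iv D11469) D11468
theorem F67105 : act 8 n14688 = n14688 := d42_2 F53025 D14688 (iv D14688)
theorem F67106 : act 9 n14688 = n12476 := d43_2 (iv F53026) D14688 (iv D12476)
def n14689 : Q := act 0 n11470
theorem D14689 : act 0 n11470 = n14689 := rfl
theorem F67107 : act 1 n14689 = n12197 := d0_2 D11470 D14689 (iv D12197) (iv D9536) (iv F42159)
theorem F67109 : act 3 n14689 = n11688 := d2_2 (iv F53035) D14689 (iv D11688)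
theorem F67112 : act 9 n14689 = n11503 := d8_2 (iv F53038) D14689 (iv D11503)
def n14691 : Q := act 7 n11471
theorem D14691 : act 7 n11471 = n14691 := rfl
theorem F67118 : act 0 n14691 = n12199 := d6_1 D14691 (iv D12199) (iv F53039)
theorem F67119 : act 2 n14691 = n11472 := d21_1 D14691 (iv D11472) (iv F53040)
theorem F67120 : act 3 n14691 = n11690 := d27_1 D14691 (iv D11690) (iv F53041)
theorem F67121 : act 5 n14691 = n14691 := d36_1 D14691 (iv D14691) F53042
theorem F67122 : act 6 n14691 = n12623 := d39_1 D14691 (iv D12623) (iv D9839) (iv F42162) D11471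
theorem F67123 : act 9 n14691 = n11505 := d43_2 (iv F53043) D14691 (iv D11505)
def n14692 : Q := act 3 n11474
theorem D14692 : act 3 n11474 = n14692 := rfl
theorem F67124 : act 0 n14692 = n11479 := d2_1 D14692 (iv D11479) (iv F53058)
theorem F67125 : act 1 n14692 = n12200 := d10_1 D14692 (iv D12200) (iv F53059)
theorem F67126 : act 4 n14692 = n11701 := d24_2 D11474 D14692 (iv D11701) (iv D9164) (iv F42186)
theorem F67127 : act 5 n14692 = n14692 := d25_2 F53061 D14692 (iv D14692)
theorem F67128 : act 7 n14692 = n12508 := d27_2 (iv F53062) D14692 (iv D12508)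
theorem F67129 : act 8 n14692 = n12511 := d28_2 (iv F53063) D14692 (iv D12511)
def n14693 : Q := act 6 n11474
theorem D14693 : act 6 n11474 = n14693 := rfl
theorem F67130 : act 0 n14693 = n11480 := d5_1 D14693 (iv D11480) (iv F53058)
theorem F67131 : act 1 n14693 = n12201 := d13_1 D14693 (iv D12201) (iv F53059)
theorem F67132 : act 2 n14693 = n13361 := d20_1 D14693 (iv D13361) (iv F53060)
theorem F67133 : act 4 n14693 = n11475 := d31_1 D14693 (iv D11475) D11474
theorem F67134 : act 8 n14693 = n12512 := d40_2 (iv F53063) D14693 (iv D12512)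
def n14694 : Q := act 7 n11475
theorem D14694 : act 7 n11475 = n14694 := rfl
theorem F67135 : act 0 n14694 = n11481 := d6_1 D14694 (iv D11481) (iv F53064)
theorem F67136 : act 1 n14694 = n12202 := d14_1 D14694 (iv D12202) (iv F53065)
theorem F67137 : act 2 n14694 = n13362 := d21_1 D14694 (iv D13362) (iv F53066)
theorem F67138 : act 3 n14694 = n11703 := d27_1 D14694 (iv D11703) (iv F53067)
theorem F67139 : act 5 n14694 = n11478 := d36_1 D14694 (iv D11478) (iv F53068)
theorem F67140 : act 6 n14694 = n12510 := d39_1 D14694 (iv D12510) (iv D9761) (iv F42187) D11475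
theorem F67141 : act 8 n14694 = n12513 := d42_2 (iv F53069) D14694 (iv D12513)
def n14695 : Q := act 2 n11476
theorem D14695 : act 2 n11476 = n14695 := rfl
theorem F67142 : act 0 n14695 = n11482 := d1_1 D14695 (iv D11482) (iv F53070)
theorem F67143 : act 4 n14695 = n11704 := d18_2 (iv F53072) D14695 (iv D11704)
def n14696 : Q := act 6 n11476
theorem D14696 : act 6 n11476 = n14696 := rfl
theorem F67147 : act 0 n14696 = n11483 := d5_1 D14696 (iv D11483) (iv F53070)
theorem F67148 : act 1 n14696 = n12204 := d13_1 D14696 (iv D12204) (iv F53071)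
theorem F67149 : act 3 n14696 = n11477 := d26_1 D14696 (iv D11477) D11476
theorem F67150 : act 4 n14696 = n11705 := d31_1 D14696 (iv D11705) (iv F53072)
theorem F67151 : act 8 n14696 = n14696 := d40_2 F53075 D14696 (iv D14696)
def n14697 : Q := act 5 n11477
theorem D14697 : act 5 n11477 = n14697 := rfl
theorem F67152 : act 0 n14697 = n11484 := d4_1 D14697 (iv D11484) (iv F53076)
theorem F67153 : act 1 n14697 = n12205 := d12_1 D14697 (iv D12205) (iv F53077)
theorem F67154 : act 6 n14697 = n14697 := d35_2 D11477 D14697 (iv D14697) (iv D11477) F42191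
def n14698 : Q := act 7 n11477
theorem D14698 : act 7 n11477 = n14698 := rfl
theorem F67155 : act 0 n14698 = n11485 := d6_1 D14698 (iv D11485) (iv F53076)
theorem F67156 : act 1 n14698 = n12206 := d14_1 D14698 (iv D12206) (iv F53077)
theorem F67157 : act 4 n14698 = n11478 := d32_1 D14698 (iv D11478) (iv F53078)
theorem F67158 : act 6 n14698 = n14698 := d39_1 D14698 (iv D14698) (iv D11477) F42192 D11477
theorem F67159 : act 8 n14698 = n14698 := d42_2 F53079 D14698 (iv D14698)
def n14699 : Q := act 2 n11479
theorem D14699 : act 2 n11479 = n14699 := rfl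
theorem F67160 : act 3 n14699 = n13392 := d17_2 D11479 D14699 (iv D13392) (iv D10415) (iv F42199)
theorem F67161 : act 4 n14699 = n11716 := d18_2 (iv F53086) D14699 (iv D11716)
theorem F67162 : act 5 n14699 = n14699 := d19_2 F53087 D14699 (iv D14699)
theorem F67163 : act 7 n14699 = n12527 := d21_2 (iv F53088) D14699 (iv D12527)
theorem F67164 : act 8 n14699 = n12531 := d22_2 (iv F53089) D14699 (iv D12531)
def n14700 : Q := act 6 n11479
theorem D14700 : act 6 n11479 = n14700 := rfl
theorem F67165 : act 1 n14700 = n11487 := d13_1 D14700 (iv D11487) (iv F53085)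
theorem F67166 : act 3 n14700 = n11480 := d26_1 D14700 (iv D11480) D11479
theorem F67167 : act 4 n14700 = n11717 := d31_1 D14700 (iv D11717) (iv F53086)
theorem F67168 : act 8 n14700 = n12532 := d40_2 (iv F53089) D14700 (iv D12532)
def n14701 : Q := act 5 n11480
theorem D14701 : act 5 n11480 = n14701 := rfl
theorem F67169 : act 1 n14701 = n11488 := d12_1 D14701 (iv D11488) (iv F53090)
theorem F67170 : act 2 n14701 = n13394 := d19_1 D14701 (iv D13394) (iv F53091)
theorem F67171 : act 4 n14701 = n11484 := d30_1 D14701 (iv D11484) F42214 (iv F42206) (iv F53092)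
theorem F67172 : act 6 n14701 = n14701 := d35_2 D11480 D14701 (iv D14701) (iv D11480) F42200
def n14702 : Q := act 7 n11480
theorem D14702 : act 7 n11480 = n14702 := rfl
theorem F67173 : act 1 n14702 = n11489 := d14_1 D14702 (iv D11489) (iv F53090)
theorem F67174 : act 2 n14702 = n13395 := d21_1 D14702 (iv D13395) (iv F53091)
theorem F67175 : act 4 n14702 = n11481 := d32_1 D14702 (iv D11481) (iv F53092)
theorem F67176 : act 6 n14702 = n12530 := d39_1 D14702 (iv D12530) (iv D9774) (iv F42201) D11480
theorem F67177 : act 8 n14702 = n12534 := d42_2 (iv F53093) D14702 (iv D12534)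
def n14703 : Q := act 6 n11482
theorem D14703 : act 6 n11482 = n14703 := rfl
theorem F67178 : act 1 n14703 = n14703 := d13_1 D14703 (iv D14703) F53100
theorem F67179 : act 2 n14703 = n11483 := d20_1 D14703 (iv D11483) D11482
theorem F67180 : act 4 n14703 = n11720 := d31_1 D14703 (iv D11720) (iv F53101)
theorem F67181 : act 8 n14703 = n14703 := d40_2 F53104 D14703 (iv D14703)
def n14704 : Q := act 5 n11483
theorem D14704 : act 5 n11483 = n14704 := rfl
theorem F67182 : act 1 n14704 = n11490 := d12_1 D14704 (iv D11490) (iv F53105)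
theorem F67183 : act 3 n14704 = n11484 := d25_1 D14704 (iv D11484) (iv F53106)
theorem F67184 : act 6 n14704 = n14704 := d35_2 D11483 D14704 (iv D14704) (iv D11483) F42210
def n14705 : Q := act 7 n11483
theorem D14705 : act 7 n11483 = n14705 := rfl
theorem F67185 : act 1 n14705 = n11491 := d14_1 D14705 (iv D11491) (iv F53105)
theorem F67186 : act 3 n14705 = n11485 := d27_1 D14705 (iv D11485) (iv F53106)
theorem F67187 : act 4 n14705 = n11722 := d32_1 D14705 (iv D11722) (iv F53107)
theorem F67188 : act 6 n14705 = n14705 := d39_1 D14705 (iv D14705) (iv D11483) F42211 D11483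
theorem F67189 : act 8 n14705 = n14705 := d42_2 F53108 D14705 (iv D14705)
def n14706 : Q := act 7 n11484
theorem D14706 : act 7 n11484 = n14706 := rfl
theorem F67190 : act 1 n14706 = n11492 := d14_1 D14706 (iv D11492) (iv F53109)
theorem F67191 : act 5 n14706 = n11485 := d36_1 D14706 (iv D11485) D11484
def n14707 : Q := act 8 n11484
theorem D14707 : act 8 n11484 = n14707 := rfl
theorem F67192 : act 1 n14707 = n11493 := d15_1 D14707 (iv D11493) (iv F53109)
theorem F67193 : act 5 n14707 = n14707 := d37_1 D14707 (iv D14707) (iv D11484) F42215 D11484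
theorem F67194 : act 6 n14707 = n14707 := d40_1 D14707 (iv D14707) F53110
def n14708 : Q := act 1 n11486
theorem D14708 : act 1 n11486 = n14708 := rfl
theorem F67195 : act 3 n14708 = n11494 := d10_2 (iv F53116) D14708 (iv D11494)
theorem F67196 : act 4 n14708 = n11736 := d11_2 (iv F53117) D14708 (iv D11736)
theorem F67199 : act 8 n14708 = n12559 := d15_2 (iv F53120) D14708 (iv D12559)
def n14709 : Q := act 6 n11486
theorem D14709 : act 6 n11486 = n14709 := rfl
theorem F67200 : act 0 n14709 = n12217 := d5_1 D14709 (iv D12217) (iv F53115)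
theorem F67201 : act 2 n14709 = n11487 := d20_1 D14709 (iv D11487) D11486
theorem F67202 : act 3 n14709 = n11495 := d26_1 D14709 (iv D11495) (iv F53116)
theorem F67203 : act 4 n14709 = n11737 := d31_1 D14709 (iv D11737) (iv F53117)
theorem F67204 : act 8 n14709 = n12560 := d40_2 (iv F53120) D14709 (iv D12560)
def n14710 : Q := act 5 n11487
theorem D14710 : act 5 n11487 = n14710 := rfl
theorem F67205 : act 0 n14710 = n12218 := d4_1 D14710 (iv D12218) (iv F53121)
theorem F67206 : act 3 n14710 = n11488 := d25_1 D14710 (iv D11488) (iv F53122)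
theorem F67207 : act 6 n14710 = n14710 := d35_2 D11487 D14710 (iv D14710) (iv D11487) F42222
def n14711 : Q := act 7 n11487
theorem D14711 : act 7 n11487 = n14711 := rfl
theorem F67208 : act 0 n14711 = n12219 := d6_1 D14711 (iv D12219) (iv F53121)
theorem F67209 : act 3 n14711 = n11489 := d27_1 D14711 (iv D11489) (iv F53122)
theorem F67210 : act 4 n14711 = n11739 := d32_1 D14711 (iv D11739) (iv F53123)
theorem F67211 : act 6 n14711 = n12556 := d39_1 D14711 (iv D12556) (iv D9792) (iv F42223) D11487
theorem F67212 : act 8 n14711 = n12562 := d42_2 (iv F53124) D14711 (iv D12562)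
def n14712 : Q := act 7 n11488
theorem D14712 : act 7 n11488 = n14712 := rfl
theorem F67213 : act 0 n14712 = n12220 := d6_1 D14712 (iv D12220) (iv F53125)
theorem F67214 : act 2 n14712 = n11498 := d21_1 D14712 (iv D11498) (iv F53126)
theorem F67215 : act 4 n14712 = n11492 := d32_1 D14712 (iv D11492) (iv F53127)
theorem F67216 : act 5 n14712 = n11489 := d36_1 D14712 (iv D11489) D11488
def n14713 : Q := act 8 n11488
theorem D14713 : act 8 n11488 = n14713 := rfl
theorem F67217 : act 0 n14713 = n12221 := d7_1 D14713 (iv D12221) (iv F53125)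
theorem F67218 : act 2 n14713 = n11499 := d22_1 D14713 (iv D11499) (iv F53126)
theorem F67219 : act 4 n14713 = n11493 := d33_1 D14713 (iv D11493) (iv F53127)
theorem F67220 : act 5 n14713 = n12564 := d37_1 D14713 (iv D12564) (iv D9797) (iv F42228) D11488
theorem F67221 : act 6 n14713 = n14713 := d40_1 D14713 (iv D14713) F53128
def n14714 : Q := act 4 n11490
theorem D14714 : act 4 n11490 = n14714 := rfl
theorem F67222 : act 0 n14714 = n12222 := d3_1 D14714 (iv D12222) (iv F53134)
theorem F67223 : act 2 n14714 = n14714 := d18_1 D14714 (iv D14714) F53135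
theorem F67224 : act 5 n14714 = n11742 := d30_2 D11490 D14714 (iv D11742) (iv D9193) (iv F42238)
theorem F67225 : act 6 n14714 = n14714 := d31_2 F53137 D14714 (iv D14714)
def n14715 : Q := act 7 n11490
theorem D14715 : act 7 n11490 = n14715 := rfl
theorem F67226 : act 0 n14715 = n12223 := d6_1 D14715 (iv D12223) (iv F53134)
theorem F67227 : act 2 n14715 = n14715 := d21_1 D14715 (iv D14715) F53135
theorem F67228 : act 3 n14715 = n11492 := d27_1 D14715 (iv D11492) (iv F53136)
theorem F67229 : act 5 n14715 = n11491 := d36_1 D14715 (iv D11491) D11490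
def n14716 : Q := act 8 n11490
theorem D14716 : act 8 n11490 = n14716 := rfl
theorem F67230 : act 0 n14716 = n12224 := d7_1 D14716 (iv D12224) (iv F53134)
theorem F67231 : act 2 n14716 = n14716 := d22_1 D14716 (iv D14716) F53135
theorem F67232 : act 3 n14716 = n11493 := d28_1 D14716 (iv D11493) (iv F53136)
theorem F67233 : act 5 n14716 = n14716 := d37_1 D14716 (iv D14716) (iv D11490) F42239 D11490
theorem F67234 : act 6 n14716 = n14716 := d40_1 D14716 (iv D14716) F53137
def n14717 : Q := act 6 n11492
theorem D14717 : act 6 n11492 = n14717 := rfl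
theorem F67235 : act 0 n14717 = n12225 := d5_1 D14717 (iv D12225) (iv F53144)
theorem F67236 : act 2 n14717 = n11500 := d20_1 D14717 (iv D11500) (iv F53145)
theorem F67237 : act 5 n14717 = n14717 := d35_1 D14717 (iv D14717) F53146 F42246 (iv F53146)
theorem F67238 : act 7 n14717 = n14717 := d39_2 D11492 D14717 (iv D14717) (iv D11492) F42242
def n14718 : Q := act 8 n11492
theorem D14718 : act 8 n11492 = n14718 := rfl
theorem F67239 : act 0 n14718 = n12226 := d7_1 D14718 (iv D12226) (iv F53144)
theorem F67240 : act 2 n14718 = n11501 := d22_1 D14718 (iv D11501) (iv F53145)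
theorem F67241 : act 5 n14718 = n14718 := d37_1 D14718 (iv D14718) F53146 F42247 (iv F53146)
theorem F67242 : act 7 n14718 = n11493 := d42_1 D14718 (iv D11493) D11492
def n14719 : Q := act 9 n11493
theorem D14719 : act 9 n11493 = n14719 := rfl
theorem F67243 : act 0 n14719 = n12227 := d8_1 D14719 (iv D12227) (iv F53147)
theorem F67244 : act 2 n14719 = n11502 := d23_1 D14719 (iv D11502) (iv F53148)
theorem F67245 : act 5 n14719 = n14719 := d38_1 D14719 (iv D14719) F53149
theorem F67246 : act 6 n14719 = n14719 := d41_1 D14719 (iv D14719) F53150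
def n14720 : Q := act 0 n11494
theorem D14720 : act 0 n11494 = n14720 := rfl
theorem F67251 : act 7 n14720 = n12588 := d6_2 (iv F53154) D14720 (iv D12588)
theorem F67252 : act 8 n14720 = n12598 := d7_2 (iv F53155) D14720 (iv D12598)
def n14721 : Q := act 6 n11494
theorem D14721 : act 6 n11494 = n14721 := rfl
theorem F67256 : act 8 n14721 = n12599 := d40_2 (iv F53155) D14721 (iv D12599)
def n14722 : Q := act 5 n11495
theorem D14722 : act 5 n11495 = n14722 := rfl
theorem F67257 : act 0 n14722 = n12230 := d4_1 D14722 (iv D12230) (iv F53156)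
theorem F67258 : act 2 n14722 = n11496 := d19_1 D14722 (iv D11496) (iv F53157)
theorem F67259 : act 4 n14722 = n14722 := d30_1 D14722 (iv D14722) F53158 F42282 (iv F53158)
theorem F67260 : act 6 n14722 = n14722 := d35_2 D11495 D14722 (iv D14722) (iv D11495) F42250
def n14723 : Q := act 7 n11495
theorem D14723 : act 7 n11495 = n14723 := rfl
theorem F67261 : act 0 n14723 = n12231 := d6_1 D14723 (iv D12231) (iv F53156)
theorem F67262 : act 2 n14723 = n11497 := d21_1 D14723 (iv D11497) (iv F53157)
theorem F67263 : act 4 n14723 = n11505 := d32_1 D14723 (iv D11505) (iv F53158)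
theorem F67264 : act 6 n14723 = n12591 := d39_1 D14723 (iv D12591) (iv D9816) (iv F42251) D11495
theorem F67265 : act 8 n14723 = n12601 := d42_2 (iv F53159) D14723 (iv D12601)
def n14724 : Q := act 7 n11496
theorem D14724 : act 7 n11496 = n14724 := rfl
theorem F67266 : act 0 n14724 = n12232 := d6_1 D14724 (iv D12232) (iv F53160)
theorem F67268 : act 3 n14724 = n11498 := d27_1 D14724 (iv D11498) (iv F53162)
theorem F67269 : act 4 n14724 = n14724 := d32_1 D14724 (iv D14724) F53163
theorem F67270 : act 5 n14724 = n11497 := d36_1 D14724 (iv D11497) D11496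
def n14725 : Q := act 8 n11496
theorem D14725 : act 8 n11496 = n14725 := rfl
theorem F67275 : act 5 n14725 = n12604 := d37_1 D14725 (iv D12604) (iv D9823) (iv F42257) D11496
def n14726 : Q := act 6 n11498
theorem D14726 : act 6 n11498 = n14726 := rfl
theorem F67277 : act 0 n14726 = n12234 := d5_1 D14726 (iv D12234) (iv F53171)
theorem F67278 : act 1 n14726 = n13501 := d13_1 D14726 (iv D13501) (iv F53172)
theorem F67279 : act 4 n14726 = n11500 := d31_1 D14726 (iv D11500) (iv F53173)
theorem F67280 : act 5 n14726 = n12595 := d35_1 D14726 (iv D12595) F45791 (iv F42265) (iv F53174)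
theorem F67281 : act 7 n14726 = n14726 := d39_2 D11498 D14726 (iv D14726) (iv D11498) F42261
def n14727 : Q := act 8 n11498
theorem D14727 : act 8 n11498 = n14727 := rfl
theorem F67282 : act 0 n14727 = n12235 := d7_1 D14727 (iv D12235) (iv F53171)
theorem F67284 : act 4 n14727 = n11501 := d33_1 D14727 (iv D11501) (iv F53173)
theorem F67285 : act 5 n14727 = n12606 := d37_1 D14727 (iv D12606) F45811 (iv F42266) (iv F53174)
theorem F67286 : act 7 n14727 = n11499 := d42_1 D14727 (iv D11499) D11498
def n14728 : Q := act 9 n11499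
theorem D14728 : act 9 n11499 = n14728 := rfl
theorem F67287 : act 0 n14728 = n12236 := d8_1 D14728 (iv D12236) (iv F53175)
theorem F67289 : act 4 n14728 = n11502 := d34_1 D14728 (iv D11502) (iv F53177)
theorem F67290 : act 5 n14728 = n12607 := d38_1 D14728 (iv D12607) (iv F53178)
theorem F67291 : act 6 n14728 = n14728 := d41_1 D14728 (iv D14728) F53179
def n14729 : Q := act 8 n11500
theorem D14729 : act 8 n11500 = n14729 := rfl
theorem F67292 : act 0 n14729 = n12237 := d7_1 D14729 (iv D12237) (iv F53180)
theorem F67293 : act 3 n14729 = n14729 := d28_1 D14729 (iv D14729) F53181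
theorem F67294 : act 6 n14729 = n11501 := d40_1 D14729 (iv D11501) D11500
theorem F67295 : act 7 n14729 = n14729 := d42_1 D14729 (iv D14729) F53183
def n14730 : Q := act 9 n11501
theorem D14730 : act 9 n11501 = n14730 := rfl
theorem F67296 : act 0 n14730 = n12238 := d8_1 D14730 (iv D12238) (iv F53184)
theorem F67297 : act 3 n14730 = n14730 := d29_1 D14730 (iv D14730) F53185
theorem F67298 : act 5 n14730 = n14730 := d38_1 D14730 (iv D14730) F53186
theorem F67299 : act 7 n14730 = n11502 := d43_1 D14730 (iv D11502) (iv F53187)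
def n14731 : Q := act 6 n11503
theorem D14731 : act 6 n11503 = n14731 := rfl
theorem F67300 : act 0 n14731 = n11504 := d5_1 D14731 (iv D11504) D11503
theorem F67301 : act 1 n14731 = n12239 := d13_1 D14731 (iv D12239) (iv F53192)
theorem F67305 : act 8 n14731 = n12634 := d40_2 (iv F53197) D14731 (iv D12634)
def n14733 : Q := act 5 n11506
theorem D14733 : act 5 n11506 = n14733 := rfl
theorem F67312 : act 0 n14733 = n11511 := d4_1 D14733 (iv D11511) (iv F53209)
theorem F67313 : act 1 n14733 = n12241 := d12_1 D14733 (iv D12241) (iv F53210)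
theorem F67314 : act 2 n14733 = n14733 := d19_1 D14733 (iv D14733) F53211
theorem F67315 : act 3 n14733 = n11610 := d25_1 D14733 (iv D11610) (iv F53212)
theorem F67316 : act 7 n14733 = n11609 := d36_2 (iv F53215) D14733 (iv D11609)
theorem F67317 : act 8 n14733 = n11507 := d37_2 D11506 D14733 (iv D11507) (iv D9021) (iv F42302)
theorem F67318 : act 9 n14733 = n12162 := d38_2 (iv F53216) D14733 (iv D12162)
def n14734 : Q := act 4 n11507
theorem D14734 : act 4 n11507 = n14734 := rfl
theorem F67319 : act 0 n14734 = n11512 := d3_1 D14734 (iv D11512) (iv F53217)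
theorem F67320 : act 1 n14734 = n12242 := d11_1 D14734 (iv D12242) (iv F53218)
theorem F67321 : act 2 n14734 = n14734 := d18_1 D14734 (iv D14734) F53219
theorem F67322 : act 5 n14734 = n14734 := d30_2 D11507 D14734 (iv D14734) (iv D11507) F42309
theorem F67323 : act 7 n14734 = n11841 := d32_2 (iv F53221) D14734 (iv D11841)
theorem F67324 : act 9 n14734 = n14734 := d34_2 F53222 D14734 (iv D14734)
def n14735 : Q := act 6 n11507
theorem D14735 : act 6 n11507 = n14735 := rfl
theorem F67325 : act 0 n14735 = n11513 := d5_1 D14735 (iv D11513) (iv F53217)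
theorem F67326 : act 1 n14735 = n12243 := d13_1 D14735 (iv D12243) (iv F53218)
theorem F67327 : act 2 n14735 = n14735 := d20_1 D14735 (iv D14735) F53219
theorem F67328 : act 3 n14735 = n11844 := d26_1 D14735 (iv D11844) (iv F53220)
theorem F67329 : act 5 n14735 = n11509 := d35_1 D14735 (iv D11509) (iv D9022) (iv F42310) D11507
theorem F67330 : act 9 n14735 = n14735 := d41_2 F53222 D14735 (iv D14735)
def n14736 : Q := act 3 n11508
theorem D14736 : act 3 n11508 = n14736 := rfl
theorem F67331 : act 0 n14736 = n11514 := d2_1 D14736 (iv D11514) (iv F53223)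
theorem F67332 : act 1 n14736 = n12244 := d10_1 D14736 (iv D12244) (iv F53224)
theorem F67333 : act 5 n14736 = n14736 := d25_2 F53226 D14736 (iv D14736)
theorem F67334 : act 7 n14736 = n14736 := d27_2 F53227 D14736 (iv D14736)
theorem F67335 : act 8 n14736 = n11590 := d28_2 (iv F53228) D14736 (iv D11590)
theorem F67336 : act 9 n14736 = n14736 := d29_2 F53229 D14736 (iv D14736)
def n14737 : Q := act 6 n11508
theorem D14737 : act 6 n11508 = n14737 := rfl
theorem F67337 : act 0 n14737 = n11515 := d5_1 D14737 (iv D11515) (iv F53223)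
theorem F67338 : act 1 n14737 = n12245 := d13_1 D14737 (iv D12245) (iv F53224)
theorem F67339 : act 2 n14737 = n14737 := d20_1 D14737 (iv D14737) F53225
theorem F67340 : act 4 n14737 = n11509 := d31_1 D14737 (iv D11509) D11508
theorem F67341 : act 8 n14737 = n11591 := d40_2 (iv F53228) D14737 (iv D11591)
theorem F67342 : act 9 n14737 = n14737 := d41_2 F53229 D14737 (iv D14737)
def n14738 : Q := act 7 n11509
theorem D14738 : act 7 n11509 = n14738 := rfl
theorem F67343 : act 0 n14738 = n11516 := d6_1 D14738 (iv D11516) (iv F53230)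
theorem F67344 : act 1 n14738 = n12246 := d14_1 D14738 (iv D12246) (iv F53231)
theorem F67345 : act 2 n14738 = n14738 := d21_1 D14738 (iv D14738) F53232
theorem F67346 : act 6 n14738 = n14738 := d39_1 D14738 (iv D14738) (iv D11509) F42316 D11509
theorem F67347 : act 8 n14738 = n11592 := d42_2 (iv F53233) D14738 (iv D11592)
theorem F67348 : act 9 n14738 = n14738 := d43_2 F53234 D14738 (iv D14738)
def n14739 : Q := act 5 n11510
theorem D14739 : act 5 n11510 = n14739 := rfl
theorem F67349 : act 0 n14739 = n12384 := d4_1 D14739 (iv D12384) (iv F53235)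
theorem F67350 : act 1 n14739 = n11520 := d12_1 D14739 (iv D11520) (iv F53236)
theorem F67351 : act 2 n14739 = n14739 := d19_1 D14739 (iv D14739) F53237
theorem F67352 : act 3 n14739 = n11611 := d25_1 D14739 (iv D11611) (iv F53238)
theorem F67353 : act 7 n14739 = n12162 := d36_2 (iv F53241) D14739 (iv D12162)
theorem F67354 : act 8 n14739 = n14739 := d37_2 D11510 D14739 (iv D14739) (iv D11510) F42324
theorem F67355 : act 9 n14739 = n11609 := d38_2 (iv F53242) D14739 (iv D11609)
def n14740 : Q := act 4 n11511
theorem D14740 : act 4 n11511 = n14740 := rfl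
theorem F67356 : act 1 n14740 = n11525 := d11_1 D14740 (iv D11525) (iv F53243)
theorem F67357 : act 2 n14740 = n14740 := d18_1 D14740 (iv D14740) F53244
theorem F67358 : act 7 n14740 = n12385 := d32_2 (iv F53246) D14740 (iv D12385)
theorem F67359 : act 8 n14740 = n11512 := d33_2 (iv F53247) D14740 (iv D11512)
def n14741 : Q := act 6 n11511
theorem D14741 : act 6 n11511 = n14741 := rfl
theorem F67360 : act 1 n14741 = n11526 := d13_1 D14741 (iv D11526) (iv F53243)
theorem F67361 : act 2 n14741 = n14741 := d20_1 D14741 (iv D14741) F53244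
theorem F67362 : act 3 n14741 = n12388 := d26_1 D14741 (iv D12388) (iv F53245)
theorem F67363 : act 5 n14741 = n11599 := d35_1 D14741 (iv D11599) (iv D9091) (iv F42330) D11511
theorem F67364 : act 8 n14741 = n11513 := d40_2 (iv F53247) D14741 (iv D11513)
def n14742 : Q := act 3 n11512
theorem D14742 : act 3 n11512 = n14742 := rfl
theorem F67365 : act 1 n14742 = n11529 := d10_1 D14742 (iv D11529) (iv F53248)
theorem F67366 : act 4 n14742 = n12699 := d24_2 D11512 D14742 (iv D12699) (iv D9901) (iv F42334)
theorem F67367 : act 5 n14742 = n14742 := d25_2 F53250 D14742 (iv D14742)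
theorem F67368 : act 7 n14742 = n12696 := d27_2 (iv F53251) D14742 (iv D12696)
theorem F67369 : act 9 n14742 = n14742 := d29_2 F53252 D14742 (iv D14742)
def n14743 : Q := act 6 n11512
theorem D14743 : act 6 n11512 = n14743 := rfl
theorem F67370 : act 1 n14743 = n11530 := d13_1 D14743 (iv D11530) (iv F53248)
theorem F67371 : act 2 n14743 = n14743 := d20_1 D14743 (iv D14743) F53249
theorem F67372 : act 4 n14743 = n11513 := d31_1 D14743 (iv D11513) D11512
theorem F67373 : act 9 n14743 = n14743 := d41_2 F53252 D14743 (iv D14743)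
def n14744 : Q := act 7 n11513
theorem D14744 : act 7 n11513 = n14744 := rfl
theorem F67374 : act 1 n14744 = n11531 := d14_1 D14744 (iv D11531) (iv F53253)
theorem F67375 : act 2 n14744 = n14744 := d21_1 D14744 (iv D14744) F53254
theorem F67376 : act 3 n14744 = n12701 := d27_1 D14744 (iv D12701) (iv F53255)
theorem F67377 : act 5 n14744 = n11516 := d36_1 D14744 (iv D11516) (iv F53256)
theorem F67378 : act 6 n14744 = n12698 := d39_1 D14744 (iv D12698) (iv D9900) (iv F42335) D11513
theorem F67379 : act 9 n14744 = n14744 := d43_2 F53257 D14744 (iv D14744)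
def n14745 : Q := act 2 n11514
theorem D14745 : act 2 n11514 = n14745 := rfl
theorem F67380 : act 1 n14745 = n14745 := d9_1 D14745 (iv D14745) F53258 F42419 (iv F53258)
theorem F67381 : act 3 n14745 = n14745 := d17_2 D11514 D14745 (iv D14745) (iv D11514) F42338
theorem F67382 : act 5 n14745 = n14745 := d19_2 F53259 D14745 (iv D14745)
theorem F67383 : act 7 n14745 = n14745 := d21_2 F53260 D14745 (iv D14745)
theorem F67384 : act 8 n14745 = n11605 := d22_2 (iv F53261) D14745 (iv D11605)
theorem F67385 : act 9 n14745 = n14745 := d23_2 F53262 D14745 (iv D14745)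
def n14746 : Q := act 6 n11514
theorem D14746 : act 6 n11514 = n14746 := rfl
theorem F67386 : act 1 n14746 = n11532 := d13_1 D14746 (iv D11532) (iv F53258)
theorem F67387 : act 3 n14746 = n11515 := d26_1 D14746 (iv D11515) D11514
theorem F67388 : act 8 n14746 = n11606 := d40_2 (iv F53261) D14746 (iv D11606)
theorem F67389 : act 9 n14746 = n14746 := d41_2 F53262 D14746 (iv D14746)
def n14747 : Q := act 5 n11515
theorem D14747 : act 5 n11515 = n14747 := rfl
theorem F67390 : act 1 n14747 = n11533 := d12_1 D14747 (iv D11533) (iv F53263)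
theorem F67391 : act 2 n14747 = n14747 := d19_1 D14747 (iv D14747) F53264
theorem F67392 : act 6 n14747 = n14747 := d35_2 D11515 D14747 (iv D14747) (iv D11515) F42339
theorem F67393 : act 9 n14747 = n14747 := d38_2 F53267 D14747 (iv D14747)
def n14748 : Q := act 7 n11515
theorem D14748 : act 7 n11515 = n14748 := rfl
theorem F67394 : act 1 n14748 = n11534 := d14_1 D14748 (iv D11534) (iv F53263)
theorem F67395 : act 2 n14748 = n14748 := d21_1 D14748 (iv D14748) F53264
theorem F67396 : act 4 n14748 = n11516 := d32_1 D14748 (iv D11516) (iv F53265)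
theorem F67397 : act 6 n14748 = n14748 := d39_1 D14748 (iv D14748) (iv D11515) F42340 D11515
theorem F67398 : act 8 n14748 = n11608 := d42_2 (iv F53266) D14748 (iv D11608)
theorem F67399 : act 9 n14748 = n14748 := d43_2 F53267 D14748 (iv D14748)
def n14749 : Q := act 5 n11517
theorem D14749 : act 5 n11517 = n14749 := rfl
theorem F67400 : act 0 n14749 = n12261 := d4_1 D14749 (iv D12261) (iv F53273)
theorem F67401 : act 1 n14749 = n11611 := d12_1 D14749 (iv D11611) (iv F53274)
theorem F67402 : act 2 n14749 = n14749 := d19_1 D14749 (iv D14749) F53275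
theorem F67403 : act 3 n14749 = n11520 := d25_1 D14749 (iv D11520) (iv F53276)
theorem F67404 : act 7 n14749 = n12152 := d36_2 (iv F53279) D14749 (iv D12152)
theorem F67405 : act 8 n14749 = n14749 := d37_2 D11517 D14749 (iv D14749) (iv D11517) F42352
theorem F67406 : act 9 n14749 = n11594 := d38_2 (iv F53280) D14749 (iv D11594)
def n14750 : Q := act 5 n11518
theorem D14750 : act 5 n11518 = n14750 := rfl
theorem F67407 : act 0 n14750 = n12249 := d4_1 D14750 (iv D12249) (iv F53281)
theorem F67408 : act 1 n14750 = n12162 := d12_1 D14750 (iv D12162) (iv F53282)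
theorem F67409 : act 2 n14750 = n11535 := d19_1 D14750 (iv D11535) (iv F53283)
theorem F67410 : act 3 n14750 = n12152 := d25_1 D14750 (iv D12152) (iv F53284)
theorem F67411 : act 7 n14750 = n11520 := d36_2 (iv F53287) D14750 (iv D11520)
theorem F67412 : act 8 n14750 = n14750 := d37_2 D11518 D14750 (iv D14750) (iv D11518) F42360
theorem F67413 : act 9 n14750 = n12241 := d38_2 (iv F53288) D14750 (iv D12241)
def n14751 : Q := act 5 n11519
theorem D14751 : act 5 n11519 = n14751 := rfl
theorem F67414 : act 0 n14751 = n12248 := d4_1 D14751 (iv D12248) (iv F53289)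
theorem F67415 : act 1 n14751 = n11609 := d12_1 D14751 (iv D11609) (iv F53290)
theorem F67416 : act 2 n14751 = n11536 := d19_1 D14751 (iv D11536) (iv F53291)
theorem F67417 : act 3 n14751 = n11594 := d25_1 D14751 (iv D11594) (iv F53292)
theorem F67418 : act 7 n14751 = n12241 := d36_2 (iv F53295) D14751 (iv D12241)
theorem F67419 : act 8 n14751 = n11819 := d37_2 D11519 D14751 (iv D11819) (iv D9257) (iv F42368)
theorem F67420 : act 9 n14751 = n11520 := d38_2 (iv F53296) D14751 (iv D11520)
def n14752 : Q := act 4 n11520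
theorem D14752 : act 4 n11520 = n14752 := rfl
theorem F67421 : act 0 n14752 = n12262 := d3_1 D14752 (iv D12262) (iv F53297)
theorem F67422 : act 2 n14752 = n11537 := d18_1 D14752 (iv D11537) (iv F53298)
theorem F67423 : act 5 n14752 = n11525 := d30_2 D11520 D14752 (iv D11525) (iv D9036) (iv F42373)
theorem F67424 : act 8 n14752 = n14752 := d33_2 F53299 D14752 (iv D14752)
def n14753 : Q := act 6 n11520
theorem D14753 : act 6 n11520 = n14753 := rfl
theorem F67425 : act 0 n14753 = n12263 := d5_1 D14753 (iv D12263) (iv F53297)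
theorem F67426 : act 2 n14753 = n11538 := d20_1 D14753 (iv D11538) (iv F53298)
theorem F67427 : act 5 n14753 = n11613 := d35_1 D14753 (iv D11613) (iv D9101) (iv F42374) D11520
theorem F67428 : act 8 n14753 = n14753 := d40_2 F53299 D14753 (iv D14753)
def n14754 : Q := act 5 n11521
theorem D14754 : act 5 n11521 = n14754 := rfl
theorem F67429 : act 0 n14754 = n12264 := d4_1 D14754 (iv D12264) (iv F53300)
theorem F67430 : act 1 n14754 = n12261 := d12_1 D14754 (iv D12261) (iv F53301)
theorem F67431 : act 2 n14754 = n11539 := d19_1 D14754 (iv D11539) (iv F53302)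
theorem F67432 : act 3 n14754 = n12247 := d25_1 D14754 (iv D12247) (iv F53303)
theorem F67433 : act 7 n14754 = n11614 := d36_2 (iv F53306) D14754 (iv D11614)
theorem F67434 : act 8 n14754 = n14754 := d37_2 D11521 D14754 (iv D14754) (iv D11521) F42380
theorem F67435 : act 9 n14754 = n12100 := d38_2 (iv F53307) D14754 (iv D12100)
def n14755 : Q := act 5 n11522
theorem D14755 : act 5 n11522 = n14755 := rfl
theorem F67436 : act 0 n14755 = n12247 := d4_1 D14755 (iv D12247) (iv F53308)
theorem F67437 : act 1 n14755 = n12384 := d12_1 D14755 (iv D12384) (iv F53309)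
theorem F67438 : act 2 n14755 = n11540 := d19_1 D14755 (iv D11540) (iv F53310)
theorem F67439 : act 3 n14755 = n12264 := d25_1 D14755 (iv D12264) (iv F53311)
theorem F67440 : act 7 n14755 = n11524 := d36_2 (iv F53314) D14755 (iv D11524)
theorem F67441 : act 8 n14755 = n14755 := d37_2 D11522 D14755 (iv D14755) (iv D11522) F42388
theorem F67442 : act 9 n14755 = n11523 := d38_2 (iv F53315) D14755 (iv D11523)
def n14756 : Q := act 4 n11523
theorem D14756 : act 4 n11523 = n14756 := rfl
theorem F67443 : act 0 n14756 = n12265 := d3_1 D14756 (iv D12265) (iv F53316)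
theorem F67444 : act 1 n14756 = n12385 := d11_1 D14756 (iv D12385) (iv F53317)
theorem F67445 : act 2 n14756 = n11541 := d18_1 D14756 (iv D11541) (iv F53318)
theorem F67446 : act 7 n14756 = n11525 := d32_2 (iv F53320) D14756 (iv D11525)
theorem F67447 : act 8 n14756 = n11527 := d33_2 (iv F53321) D14756 (iv D11527)
def n14757 : Q := act 6 n11523
theorem D14757 : act 6 n11523 = n14757 := rfl
theorem F67448 : act 0 n14757 = n12266 := d5_1 D14757 (iv D12266) (iv F53316)
theorem F67449 : act 1 n14757 = n12386 := d13_1 D14757 (iv D12386) (iv F53317)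
theorem F67450 : act 2 n14757 = n11542 := d20_1 D14757 (iv D11542) (iv F53318)
theorem F67451 : act 3 n14757 = n12364 := d26_1 D14757 (iv D12364) (iv F53319)
theorem F67452 : act 8 n14757 = n11528 := d40_2 (iv F53321) D14757 (iv D11528)
def n14758 : Q := act 4 n11524
theorem D14758 : act 4 n11524 = n14758 := rfl
theorem F67453 : act 0 n14758 = n12267 := d3_1 D14758 (iv D12267) (iv F53322)
theorem F67454 : act 2 n14758 = n11543 := d18_1 D14758 (iv D11543) (iv F53323)
theorem F67455 : act 8 n14758 = n14758 := d33_2 F53325 D14758 (iv D14758)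
theorem F67456 : act 9 n14758 = n11525 := d34_2 (iv F53326) D14758 (iv D11525)
def n14759 : Q := act 6 n11524
theorem D14759 : act 6 n11524 = n14759 := rfl
theorem F67457 : act 0 n14759 = n12268 := d5_1 D14759 (iv D12268) (iv F53322)
theorem F67458 : act 2 n14759 = n11544 := d20_1 D14759 (iv D11544) (iv F53323)
theorem F67459 : act 3 n14759 = n12395 := d26_1 D14759 (iv D12395) (iv F53324)
theorem F67460 : act 5 n14759 = n11618 := d35_1 D14759 (iv D11618) (iv D9104) (iv F42399) D11524
theorem F67461 : act 8 n14759 = n14759 := d40_2 F53325 D14759 (iv D14759)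
theorem F67462 : act 9 n14759 = n11526 := d41_2 (iv F53326) D14759 (iv D11526)
def n14760 : Q := act 3 n11525
theorem D14760 : act 3 n11525 = n14760 := rfl
theorem F67463 : act 0 n14760 = n12269 := d2_1 D14760 (iv D12269) (iv F53327)
theorem F67464 : act 8 n14760 = n11529 := d28_2 (iv F53329) D14760 (iv D11529)
def n14761 : Q := act 6 n11525
theorem D14761 : act 6 n11525 = n14761 := rfl
theorem F67465 : act 0 n14761 = n12270 := d5_1 D14761 (iv D12270) (iv F53327)
theorem F67466 : act 2 n14761 = n11546 := d20_1 D14761 (iv D11546) (iv F53328)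
theorem F67467 : act 4 n14761 = n11526 := d31_1 D14761 (iv D11526) D11525
theorem F67468 : act 8 n14761 = n11530 := d40_2 (iv F53329) D14761 (iv D11530)
def n14762 : Q := act 7 n11526
theorem D14762 : act 7 n11526 = n14762 := rfl
theorem F67469 : act 0 n14762 = n12271 := d6_1 D14762 (iv D12271) (iv F53330)
theorem F67470 : act 2 n14762 = n11547 := d21_1 D14762 (iv D11547) (iv F53331)
theorem F67471 : act 5 n14762 = n11621 := d36_1 D14762 (iv D11621) (iv F53332)
theorem F67472 : act 8 n14762 = n11531 := d42_2 (iv F53333) D14762 (iv D11531)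
def n14763 : Q := act 3 n11527
theorem D14763 : act 3 n11527 = n14763 := rfl
theorem F67473 : act 0 n14763 = n12272 := d2_1 D14763 (iv D12272) (iv F53334)
theorem F67474 : act 1 n14763 = n12696 := d10_1 D14763 (iv D12696) (iv F53335)
theorem F67475 : act 4 n14763 = n12668 := d24_2 D11527 D14763 (iv D12668) (iv D9880) (iv F42407)
theorem F67476 : act 5 n14763 = n14763 := d25_2 F53337 D14763 (iv D14763)
theorem F67477 : act 7 n14763 = n11529 := d27_2 (iv F53338) D14763 (iv D11529)
theorem F67478 : act 9 n14763 = n14763 := d29_2 F53339 D14763 (iv D14763)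
def n14764 : Q := act 6 n11527
theorem D14764 : act 6 n11527 = n14764 := rfl
theorem F67479 : act 0 n14764 = n12273 := d5_1 D14764 (iv D12273) (iv F53334)
theorem F67480 : act 1 n14764 = n12697 := d13_1 D14764 (iv D12697) (iv F53335)
theorem F67481 : act 2 n14764 = n11549 := d20_1 D14764 (iv D11549) (iv F53336)
theorem F67482 : act 4 n14764 = n11528 := d31_1 D14764 (iv D11528) D11527
theorem F67483 : act 9 n14764 = n14764 := d41_2 F53339 D14764 (iv D14764)
def n14765 : Q := act 7 n11528
theorem D14765 : act 7 n11528 = n14765 := rfl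
theorem F67484 : act 0 n14765 = n12274 := d6_1 D14765 (iv D12274) (iv F53340)
theorem F67485 : act 1 n14765 = n12698 := d14_1 D14765 (iv D12698) (iv F53341)
theorem F67486 : act 2 n14765 = n11550 := d21_1 D14765 (iv D11550) (iv F53342)
theorem F67487 : act 3 n14765 = n12670 := d27_1 D14765 (iv D12670) (iv F53343)
theorem F67488 : act 5 n14765 = n14765 := d36_1 D14765 (iv D14765) F53344
theorem F67489 : act 6 n14765 = n11531 := d39_1 D14765 (iv D11531) (iv D9039) (iv F42408) D11528
theorem F67490 : act 9 n14765 = n14765 := d43_2 F53345 D14765 (iv D14765)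
def n14766 : Q := act 2 n11529
theorem D14766 : act 2 n11529 = n14766 := rfl
theorem F67491 : act 0 n14766 = n12275 := d1_1 D14766 (iv D12275) (iv F53346)
theorem F67492 : act 3 n14766 = n11551 := d17_2 D11529 D14766 (iv D11551) (iv D9054) (iv F42411)
theorem F67493 : act 5 n14766 = n14766 := d19_2 F53347 D14766 (iv D14766)
theorem F67494 : act 9 n14766 = n14766 := d23_2 F53348 D14766 (iv D14766)
def n14767 : Q := act 6 n11529
theorem D14767 : act 6 n11529 = n14767 := rfl
theorem F67495 : act 0 n14767 = n12276 := d5_1 D14767 (iv D12276) (iv F53346)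
theorem F67496 : act 3 n14767 = n11530 := d26_1 D14767 (iv D11530) D11529
theorem F67497 : act 9 n14767 = n14767 := d41_2 F53348 D14767 (iv D14767)
def n14768 : Q := act 5 n11530
theorem D14768 : act 5 n11530 = n14768 := rfl
theorem F67498 : act 0 n14768 = n12277 := d4_1 D14768 (iv D12277) (iv F53349)
theorem F67499 : act 2 n14768 = n11553 := d19_1 D14768 (iv D11553) (iv F53350)
theorem F67500 : act 4 n14768 = n11533 := d30_1 D14768 (iv D11533) F42426 (iv F42416) (iv F53351)
theorem F67501 : act 6 n14768 = n14768 := d35_2 D11530 D14768 (iv D14768) (iv D11530) F42412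
theorem F67502 : act 9 n14768 = n14768 := d38_2 F53352 D14768 (iv D14768)
def n14769 : Q := act 7 n11530
theorem D14769 : act 7 n11530 = n14769 := rfl
theorem F67503 : act 0 n14769 = n12278 := d6_1 D14769 (iv D12278) (iv F53349)
theorem F67504 : act 2 n14769 = n11554 := d21_1 D14769 (iv D11554) (iv F53350)
theorem F67505 : act 4 n14769 = n11531 := d32_1 D14769 (iv D11531) (iv F53351)
theorem F67506 : act 9 n14769 = n14769 := d43_2 F53352 D14769 (iv D14769)
def n14770 : Q := act 5 n11532
theorem D14770 : act 5 n11532 = n14770 := rfl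
theorem F67507 : act 0 n14770 = n12279 := d4_1 D14770 (iv D12279) (iv F53357)
theorem F67508 : act 2 n14770 = n14770 := d19_1 D14770 (iv D14770) F53358
theorem F67509 : act 3 n14770 = n11533 := d25_1 D14770 (iv D11533) (iv F53359)
theorem F67510 : act 6 n14770 = n14770 := d35_2 D11532 D14770 (iv D14770) (iv D11532) F42420
theorem F67511 : act 9 n14770 = n14770 := d38_2 F53361 D14770 (iv D14770)
def n14771 : Q := act 7 n11532
theorem D14771 : act 7 n11532 = n14771 := rfl
theorem F67512 : act 0 n14771 = n12280 := d6_1 D14771 (iv D12280) (iv F53357)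
theorem F67513 : act 2 n14771 = n14771 := d21_1 D14771 (iv D14771) F53358
theorem F67514 : act 3 n14771 = n11534 := d27_1 D14771 (iv D11534) (iv F53359)
theorem F67515 : act 6 n14771 = n14771 := d39_1 D14771 (iv D14771) (iv D11532) F42421 D11532
theorem F67516 : act 8 n14771 = n11630 := d42_2 (iv F53360) D14771 (iv D11630)
theorem F67517 : act 9 n14771 = n14771 := d43_2 F53361 D14771 (iv D14771)
def n14772 : Q := act 7 n11533
theorem D14772 : act 7 n11533 = n14772 := rfl
theorem F67518 : act 0 n14772 = n12281 := d6_1 D14772 (iv D12281) (iv F53362)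
theorem F67519 : act 2 n14772 = n11555 := d21_1 D14772 (iv D11555) (iv F53363)
theorem F67520 : act 5 n14772 = n11534 := d36_1 D14772 (iv D11534) D11533
theorem F67521 : act 9 n14772 = n14772 := d43_2 F53365 D14772 (iv D14772)
def n14773 : Q := act 8 n11533
theorem D14773 : act 8 n11533 = n14773 := rfl
theorem F67522 : act 0 n14773 = n12282 := d7_1 D14773 (iv D12282) (iv F53362)
theorem F67523 : act 2 n14773 = n11556 := d22_1 D14773 (iv D11556) (iv F53363)
theorem F67524 : act 5 n14773 = n11632 := d37_1 D14773 (iv D11632) (iv D9113) (iv F42427) D11533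
theorem F67525 : act 6 n14773 = n14773 := d40_1 D14773 (iv D14773) F53364
def n14774 : Q := act 4 n11535
theorem D14774 : act 4 n11535 = n14774 := rfl
theorem F67526 : act 0 n14774 = n12283 := d3_1 D14774 (iv D12283) (iv F53372)
theorem F67527 : act 1 n14774 = n14774 := d11_1 D14774 (iv D14774) F53373
theorem F67528 : act 5 n14774 = n11541 := d30_2 D11535 D14774 (iv D11541) (iv D9048) (iv F42437)
theorem F67529 : act 7 n14774 = n11537 := d32_2 (iv F53375) D14774 (iv D11537)
theorem F67530 : act 8 n14774 = n14774 := d33_2 F53376 D14774 (iv D14774)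
theorem F67531 : act 9 n14774 = n13002 := d34_2 (iv F53377) D14774 (iv D13002)
def n14775 : Q := act 6 n11535
theorem D14775 : act 6 n11535 = n14775 := rfl
theorem F67532 : act 0 n14775 = n12284 := d5_1 D14775 (iv D12284) (iv F53372)
theorem F67533 : act 1 n14775 = n14775 := d13_1 D14775 (iv D14775) F53373
theorem F67534 : act 3 n14775 = n14775 := d26_1 D14775 (iv D14775) F53374
theorem F67535 : act 5 n14775 = n13138 := d35_1 D14775 (iv D13138) (iv D10232) (iv F42438) D11535
theorem F67536 : act 8 n14775 = n14775 := d40_2 F53376 D14775 (iv D14775)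
theorem F67537 : act 9 n14775 = n13003 := d41_2 (iv F53377) D14775 (iv D13003)
def n14776 : Q := act 4 n11536
theorem D14776 : act 4 n11536 = n14776 := rfl
theorem F67538 : act 0 n14776 = n12285 := d3_1 D14776 (iv D12285) (iv F53378)
theorem F67539 : act 1 n14776 = n14776 := d11_1 D14776 (iv D14776) F53379
theorem F67540 : act 5 n14776 = n11543 := d30_2 D11536 D14776 (iv D11543) (iv D9049) (iv F42444)
theorem F67541 : act 7 n14776 = n13002 := d32_2 (iv F53381) D14776 (iv D13002)
theorem F67542 : act 8 n14776 = n13004 := d33_2 (iv F53382) D14776 (iv D13004)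
theorem F67543 : act 9 n14776 = n11537 := d34_2 (iv F53383) D14776 (iv D11537)
def n14777 : Q := act 6 n11536
theorem D14777 : act 6 n11536 = n14777 := rfl
theorem F67544 : act 0 n14777 = n12286 := d5_1 D14777 (iv D12286) (iv F53378)
theorem F67545 : act 1 n14777 = n14777 := d13_1 D14777 (iv D14777) F53379
theorem F67546 : act 3 n14777 = n14777 := d26_1 D14777 (iv D14777) F53380
theorem F67547 : act 5 n14777 = n11637 := d35_1 D14777 (iv D11637) (iv D9117) (iv F42445) D11536
theorem F67548 : act 8 n14777 = n13005 := d40_2 (iv F53382) D14777 (iv D13005)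
theorem F67549 : act 9 n14777 = n11538 := d41_2 (iv F53383) D14777 (iv D11538)
def n14778 : Q := act 3 n11537
theorem D14778 : act 3 n11537 = n14778 := rfl
theorem F67550 : act 0 n14778 = n12287 := d2_1 D14778 (iv D12287) (iv F53384)
theorem F67551 : act 1 n14778 = n14778 := d10_1 D14778 (iv D14778) F53385
theorem F67552 : act 4 n14778 = n14778 := d24_2 D11537 D14778 (iv D14778) (iv D11537) F42450
theorem F67553 : act 5 n14778 = n11545 := d25_2 (iv F53386) D14778 (iv D11545)
theorem F67554 : act 8 n14778 = n14778 := d28_2 F53387 D14778 (iv D14778)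
def n14779 : Q := act 6 n11537
theorem D14779 : act 6 n11537 = n14779 := rfl
theorem F67555 : act 0 n14779 = n12288 := d5_1 D14779 (iv D12288) (iv F53384)
theorem F67556 : act 1 n14779 = n14779 := d13_1 D14779 (iv D14779) F53385
theorem F67557 : act 4 n14779 = n11538 := d31_1 D14779 (iv D11538) D11537
theorem F67558 : act 8 n14779 = n14779 := d40_2 F53387 D14779 (iv D14779)
def n14780 : Q := act 7 n11538
theorem D14780 : act 7 n11538 = n14780 := rfl
theorem F67559 : act 0 n14780 = n12289 := d6_1 D14780 (iv D12289) (iv F53388)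
theorem F67560 : act 1 n14780 = n14780 := d14_1 D14780 (iv D14780) F53389
theorem F67561 : act 3 n14780 = n14780 := d27_1 D14780 (iv D14780) F53390
theorem F67562 : act 5 n14780 = n11640 := d36_1 D14780 (iv D11640) (iv F53391)
theorem F67563 : act 8 n14780 = n14780 := d42_2 F53392 D14780 (iv D14780)
def n14781 : Q := act 4 n11539
theorem D14781 : act 4 n11539 = n14781 := rfl
theorem F67564 : act 0 n14781 = n12290 := d3_1 D14781 (iv D12290) (iv F53393)
theorem F67565 : act 1 n14781 = n14781 := d11_1 D14781 (iv D14781) F53394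
theorem F67566 : act 5 n14781 = n13137 := d30_2 D11539 D14781 (iv D13137) (iv D10232) (iv F42455)
theorem F67567 : act 7 n14781 = n11641 := d32_2 (iv F53396) D14781 (iv D11641)
theorem F67568 : act 8 n14781 = n14781 := d33_2 F53397 D14781 (iv D14781)
theorem F67569 : act 9 n14781 = n12113 := d34_2 (iv F53398) D14781 (iv D12113)
def n14782 : Q := act 6 n11539
theorem D14782 : act 6 n11539 = n14782 := rfl
theorem F67570 : act 0 n14782 = n12291 := d5_1 D14782 (iv D12291) (iv F53393)
theorem F67571 : act 1 n14782 = n14782 := d13_1 D14782 (iv D14782) F53394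
theorem F67572 : act 3 n14782 = n11558 := d26_1 D14782 (iv D11558) (iv F53395)
theorem F67573 : act 5 n14782 = n11542 := d35_1 D14782 (iv D11542) (iv D9048) (iv F42456) D11539
theorem F67574 : act 8 n14782 = n14782 := d40_2 F53397 D14782 (iv D14782)
theorem F67575 : act 9 n14782 = n12114 := d41_2 (iv F53398) D14782 (iv D12114)
def n14783 : Q := act 4 n11540
theorem D14783 : act 4 n11540 = n14783 := rfl
theorem F67576 : act 0 n14783 = n12292 := d3_1 D14783 (iv D12292) (iv F53399)
theorem F67577 : act 1 n14783 = n14783 := d11_1 D14783 (iv D14783) F53400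
theorem F67578 : act 5 n14783 = n13002 := d30_2 D11540 D14783 (iv D13002) (iv D10130) (iv F42462)
theorem F67579 : act 7 n14783 = n11543 := d32_2 (iv F53402) D14783 (iv D11543)
theorem F67580 : act 8 n14783 = n14783 := d33_2 F53403 D14783 (iv D14783)
theorem F67581 : act 9 n14783 = n11541 := d34_2 (iv F53404) D14783 (iv D11541)
def n14784 : Q := act 6 n11540
theorem D14784 : act 6 n11540 = n14784 := rfl
theorem F67582 : act 0 n14784 = n12293 := d5_1 D14784 (iv D12293) (iv F53399)
theorem F67583 : act 1 n14784 = n14784 := d13_1 D14784 (iv D14784) F53400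
theorem F67584 : act 3 n14784 = n11560 := d26_1 D14784 (iv D11560) (iv F53401)
theorem F67585 : act 5 n14784 = n12114 := d35_1 D14784 (iv D12114) (iv D9475) (iv F42463) D11540
theorem F67586 : act 8 n14784 = n14784 := d40_2 F53403 D14784 (iv D14784)
theorem F67587 : act 9 n14784 = n11542 := d41_2 (iv F53404) D14784 (iv D11542)
def n14785 : Q := act 3 n11541
theorem D14785 : act 3 n11541 = n14785 := rfl
theorem F67588 : act 0 n14785 = n12294 := d2_1 D14785 (iv D12294) (iv F53405)
theorem F67589 : act 1 n14785 = n14785 := d10_1 D14785 (iv D14785) F53406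
theorem F67590 : act 4 n14785 = n11561 := d24_2 D11541 D14785 (iv D11561) (iv D9061) (iv F42468)
theorem F67591 : act 7 n14785 = n11545 := d27_2 (iv F53407) D14785 (iv D11545)
theorem F67592 : act 8 n14785 = n11548 := d28_2 (iv F53408) D14785 (iv D11548)
def n14786 : Q := act 6 n11541
theorem D14786 : act 6 n11541 = n14786 := rfl
theorem F67593 : act 0 n14786 = n12295 := d5_1 D14786 (iv D12295) (iv F53405)
theorem F67594 : act 1 n14786 = n14786 := d13_1 D14786 (iv D14786) F53406
theorem F67595 : act 4 n14786 = n11542 := d31_1 D14786 (iv D11542) D11541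
theorem F67596 : act 8 n14786 = n11549 := d40_2 (iv F53408) D14786 (iv D11549)
def n14787 : Q := act 7 n11542
theorem D14787 : act 7 n11542 = n14787 := rfl
theorem F67597 : act 0 n14787 = n12296 := d6_1 D14787 (iv D12296) (iv F53409)
theorem F67598 : act 1 n14787 = n14787 := d14_1 D14787 (iv D14787) F53410
theorem F67599 : act 3 n14787 = n11563 := d27_1 D14787 (iv D11563) (iv F53411)
theorem F67600 : act 6 n14787 = n11547 := d39_1 D14787 (iv D11547) (iv D9051) (iv F42469) D11542
theorem F67601 : act 8 n14787 = n11550 := d42_2 (iv F53412) D14787 (iv D11550)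
def n14788 : Q := act 3 n11543
theorem D14788 : act 3 n11543 = n14788 := rfl
theorem F67602 : act 0 n14788 = n12297 := d2_1 D14788 (iv D12297) (iv F53413)
theorem F67603 : act 1 n14788 = n14788 := d10_1 D14788 (iv D14788) F53414
theorem F67604 : act 4 n14788 = n11564 := d24_2 D11543 D14788 (iv D11564) (iv D9063) (iv F42473)
theorem F67605 : act 8 n14788 = n14788 := d28_2 F53415 D14788 (iv D14788)
theorem F67606 : act 9 n14788 = n11545 := d29_2 (iv F53416) D14788 (iv D11545)
def n14789 : Q := act 6 n11543
theorem D14789 : act 6 n11543 = n14789 := rfl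
theorem F67607 : act 0 n14789 = n12298 := d5_1 D14789 (iv D12298) (iv F53413)
theorem F67608 : act 1 n14789 = n14789 := d13_1 D14789 (iv D14789) F53414
theorem F67609 : act 4 n14789 = n11544 := d31_1 D14789 (iv D11544) D11543
theorem F67610 : act 8 n14789 = n14789 := d40_2 F53415 D14789 (iv D14789)
theorem F67611 : act 9 n14789 = n11546 := d41_2 (iv F53416) D14789 (iv D11546)
def n14790 : Q := act 7 n11544
theorem D14790 : act 7 n11544 = n14790 := rfl
theorem F67612 : act 0 n14790 = n12299 := d6_1 D14790 (iv D12299) (iv F53417)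
theorem F67613 : act 1 n14790 = n14790 := d14_1 D14790 (iv D14790) F53418
theorem F67614 : act 3 n14790 = n11566 := d27_1 D14790 (iv D11566) (iv F53419)
theorem F67615 : act 5 n14790 = n11648 := d36_1 D14790 (iv D11648) (iv F53420)
theorem F67616 : act 8 n14790 = n14790 := d42_2 F53421 D14790 (iv D14790)
theorem F67617 : act 9 n14790 = n11547 := d43_2 (iv F53422) D14790 (iv D11547)
def n14791 : Q := act 2 n11545
theorem D14791 : act 2 n11545 = n14791 := rfl
theorem F67618 : act 0 n14791 = n12300 := d1_1 D14791 (iv D12300) (iv F53423)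
theorem F67619 : act 4 n14791 = n11567 := d18_2 (iv F53425) D14791 (iv D11567)
theorem F67620 : act 8 n14791 = n11551 := d22_2 (iv F53426) D14791 (iv D11551)
def n14792 : Q := act 6 n11545
theorem D14792 : act 6 n11545 = n14792 := rfl
theorem F67621 : act 0 n14792 = n12301 := d5_1 D14792 (iv D12301) (iv F53423)
theorem F67622 : act 1 n14792 = n14792 := d13_1 D14792 (iv D14792) F53424
theorem F67623 : act 3 n14792 = n11546 := d26_1 D14792 (iv D11546) D11545
theorem F67624 : act 4 n14792 = n11568 := d31_1 D14792 (iv D11568) (iv F53425)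
theorem F67625 : act 8 n14792 = n11552 := d40_2 (iv F53426) D14792 (iv D11552)
def n14793 : Q := act 5 n11546
theorem D14793 : act 5 n11546 = n14793 := rfl
theorem F67626 : act 0 n14793 = n12302 := d4_1 D14793 (iv D12302) (iv F53427)
theorem F67627 : act 1 n14793 = n14793 := d12_1 D14793 (iv D14793) F53428
theorem F67628 : act 4 n14793 = n11651 := d30_1 D14793 (iv D11651) F42850 (iv F42482) (iv F53429)
def n14794 : Q := act 7 n11546
theorem D14794 : act 7 n11546 = n14794 := rfl
theorem F67629 : act 0 n14794 = n12303 := d6_1 D14794 (iv D12303) (iv F53427)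
theorem F67630 : act 1 n14794 = n14794 := d14_1 D14794 (iv D14794) F53428
theorem F67631 : act 4 n14794 = n11547 := d32_1 D14794 (iv D11547) (iv F53429)
theorem F67632 : act 8 n14794 = n11554 := d42_2 (iv F53430) D14794 (iv D11554)
def n14795 : Q := act 2 n11548
theorem D14795 : act 2 n11548 = n14795 := rfl
theorem F67633 : act 0 n14795 = n12304 := d1_1 D14795 (iv D12304) (iv F53436)
theorem F67634 : act 4 n14795 = n11571 := d18_2 (iv F53438) D14795 (iv D11571)
theorem F67635 : act 5 n14795 = n14795 := d19_2 F53439 D14795 (iv D14795)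
theorem F67636 : act 7 n14795 = n11551 := d21_2 (iv F53440) D14795 (iv D11551)
theorem F67637 : act 9 n14795 = n14795 := d23_2 F53441 D14795 (iv D14795)
def n14796 : Q := act 6 n11548
theorem D14796 : act 6 n11548 = n14796 := rfl
theorem F67638 : act 0 n14796 = n12305 := d5_1 D14796 (iv D12305) (iv F53436)
theorem F67639 : act 1 n14796 = n14796 := d13_1 D14796 (iv D14796) F53437
theorem F67640 : act 3 n14796 = n11549 := d26_1 D14796 (iv D11549) D11548
theorem F67641 : act 4 n14796 = n11572 := d31_1 D14796 (iv D11572) (iv F53438)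
theorem F67642 : act 9 n14796 = n14796 := d41_2 F53441 D14796 (iv D14796)
def n14797 : Q := act 5 n11549
theorem D14797 : act 5 n11549 = n14797 := rfl
theorem F67643 : act 0 n14797 = n12306 := d4_1 D14797 (iv D12306) (iv F53442)
theorem F67644 : act 1 n14797 = n14797 := d12_1 D14797 (iv D14797) F53443
theorem F67645 : act 4 n14797 = n14797 := d30_1 D14797 (iv D14797) F53444 F42492 (iv F53444)
theorem F67646 : act 6 n14797 = n14797 := d35_2 D11549 D14797 (iv D14797) (iv D11549) F42486
theorem F67647 : act 9 n14797 = n14797 := d38_2 F53445 D14797 (iv D14797)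
def n14798 : Q := act 7 n11549
theorem D14798 : act 7 n11549 = n14798 := rfl
theorem F67648 : act 0 n14798 = n12307 := d6_1 D14798 (iv D12307) (iv F53442)
theorem F67649 : act 1 n14798 = n14798 := d14_1 D14798 (iv D14798) F53443
theorem F67650 : act 4 n14798 = n11550 := d32_1 D14798 (iv D11550) (iv F53444)
theorem F67651 : act 6 n14798 = n11554 := d39_1 D14798 (iv D11554) (iv D9055) (iv F42487) D11549
theorem F67652 : act 9 n14798 = n14798 := d43_2 F53445 D14798 (iv D14798)
def n14799 : Q := act 1 n11551
theorem D14799 : act 1 n11551 = n14799 := rfl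
theorem F67653 : act 2 n14799 = n14799 := d9_2 D11551 D14799 (iv D14799) (iv D11551) F42495
theorem F67654 : act 4 n14799 = n11575 := d11_2 (iv F53453) D14799 (iv D11575)
theorem F67655 : act 5 n14799 = n14799 := d12_2 F53454 D14799 (iv D14799)
theorem F67656 : act 9 n14799 = n14799 := d16_2 F53455 D14799 (iv D14799)
def n14800 : Q := act 6 n11551
theorem D14800 : act 6 n11551 = n14800 := rfl
theorem F67657 : act 0 n14800 = n12309 := d5_1 D14800 (iv D12309) (iv F53452)
theorem F67658 : act 2 n14800 = n11552 := d20_1 D14800 (iv D11552) D11551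
theorem F67659 : act 4 n14800 = n11576 := d31_1 D14800 (iv D11576) (iv F53453)
theorem F67660 : act 9 n14800 = n14800 := d41_2 F53455 D14800 (iv D14800)
def n14801 : Q := act 5 n11552
theorem D14801 : act 5 n11552 = n14801 := rfl
theorem F67661 : act 0 n14801 = n12310 := d4_1 D14801 (iv D12310) (iv F53456)
theorem F67662 : act 1 n14801 = n14801 := d12_1 D14801 (iv D14801) F53457
theorem F67663 : act 3 n14801 = n11553 := d25_1 D14801 (iv D11553) (iv F53458)
theorem F67664 : act 4 n14801 = n14801 := d30_1 D14801 (iv D14801) F53459 F42584 (iv F53459)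
theorem F67665 : act 6 n14801 = n14801 := d35_2 D11552 D14801 (iv D14801) (iv D11552) F42497
theorem F67666 : act 9 n14801 = n14801 := d38_2 F53460 D14801 (iv D14801)
def n14802 : Q := act 7 n11552
theorem D14802 : act 7 n11552 = n14802 := rfl
theorem F67667 : act 0 n14802 = n12311 := d6_1 D14802 (iv D12311) (iv F53456)
theorem F67668 : act 1 n14802 = n14802 := d14_1 D14802 (iv D14802) F53457
theorem F67669 : act 3 n14802 = n11554 := d27_1 D14802 (iv D11554) (iv F53458)
theorem F67670 : act 4 n14802 = n11577 := d32_1 D14802 (iv D11577) (iv F53459)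
theorem F67671 : act 9 n14802 = n14802 := d43_2 F53460 D14802 (iv D14802)
def n14803 : Q := act 7 n11553
theorem D14803 : act 7 n11553 = n14803 := rfl
theorem F67672 : act 0 n14803 = n12312 := d6_1 D14803 (iv D12312) (iv F53461)
theorem F67673 : act 1 n14803 = n14803 := d14_1 D14803 (iv D14803) F53462
theorem F67674 : act 4 n14803 = n11555 := d32_1 D14803 (iv D11555) (iv F53463)
theorem F67675 : act 5 n14803 = n11554 := d36_1 D14803 (iv D11554) D11553
theorem F67676 : act 9 n14803 = n14803 := d43_2 F53465 D14803 (iv D14803)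
def n14804 : Q := act 8 n11553
theorem D14804 : act 8 n11553 = n14804 := rfl
theorem F67677 : act 0 n14804 = n12313 := d7_1 D14804 (iv D12313) (iv F53461)
theorem F67678 : act 1 n14804 = n14804 := d15_1 D14804 (iv D14804) F53462
theorem F67679 : act 4 n14804 = n11556 := d33_1 D14804 (iv D11556) (iv F53463)
theorem F67680 : act 6 n14804 = n14804 := d40_1 D14804 (iv D14804) F53464
def n14805 : Q := act 6 n11555
theorem D14805 : act 6 n11555 = n14805 := rfl
theorem F67681 : act 0 n14805 = n12314 := d5_1 D14805 (iv D12314) (iv F53470)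
theorem F67682 : act 1 n14805 = n14805 := d13_1 D14805 (iv D14805) F53471
theorem F67683 : act 3 n14805 = n14805 := d26_1 D14805 (iv D14805) F53472
theorem F67684 : act 5 n14805 = n14805 := d35_1 D14805 (iv D14805) F53473 F42517 (iv F53473)
theorem F67685 : act 7 n14805 = n14805 := d39_2 D11555 D14805 (iv D14805) (iv D11555) F42511
theorem F67686 : act 9 n14805 = n14805 := d41_2 F53474 D14805 (iv D14805)
def n14806 : Q := act 8 n11555
theorem D14806 : act 8 n11555 = n14806 := rfl
theorem F67687 : act 0 n14806 = n12315 := d7_1 D14806 (iv D12315) (iv F53470)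
theorem F67688 : act 1 n14806 = n14806 := d15_1 D14806 (iv D14806) F53471
theorem F67689 : act 3 n14806 = n14806 := d28_1 D14806 (iv D14806) F53472
theorem F67690 : act 5 n14806 = n11664 := d37_1 D14806 (iv D11664) F42893 (iv F42518) (iv F53473)
theorem F67691 : act 7 n14806 = n11556 := d42_1 D14806 (iv D11556) D11555
def n14807 : Q := act 9 n11556
theorem D14807 : act 9 n11556 = n14807 := rfl
theorem F67692 : act 0 n14807 = n12316 := d8_1 D14807 (iv D12316) (iv F53475)
theorem F67693 : act 1 n14807 = n14807 := d16_1 D14807 (iv D14807) F53476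
theorem F67694 : act 3 n14807 = n14807 := d29_1 D14807 (iv D14807) F53477
theorem F67695 : act 5 n14807 = n11665 := d38_1 D14807 (iv D11665) (iv F53478)
theorem F67696 : act 6 n14807 = n14807 := d41_1 D14807 (iv D14807) F53479
theorem F67697 : act 8 n14807 = n14807 := d44_1 D14807 (iv D14807) (iv D11556) F42512 D11556
def n14808 : Q := act 3 n11557
theorem D14808 : act 3 n11557 = n14808 := rfl
theorem F67698 : act 0 n14808 = n12317 := d2_1 D14808 (iv D12317) (iv F53480)
theorem F67699 : act 1 n14808 = n14808 := d10_1 D14808 (iv D14808) F53481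
theorem F67700 : act 5 n14808 = n14808 := d25_2 F53483 D14808 (iv D14808)
theorem F67701 : act 7 n14808 = n11666 := d27_2 (iv F53484) D14808 (iv D11666)
theorem F67702 : act 8 n14808 = n14808 := d28_2 F53485 D14808 (iv D14808)
theorem F67703 : act 9 n14808 = n12127 := d29_2 (iv F53486) D14808 (iv D12127)
def n14809 : Q := act 6 n11557
theorem D14809 : act 6 n11557 = n14809 := rfl
theorem F67704 : act 0 n14809 = n12318 := d5_1 D14809 (iv D12318) (iv F53480)
theorem F67705 : act 1 n14809 = n14809 := d13_1 D14809 (iv D14809) F53481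
theorem F67706 : act 2 n14809 = n12321 := d20_1 D14809 (iv D12321) (iv F53482)
theorem F67707 : act 4 n14809 = n11558 := d31_1 D14809 (iv D11558) D11557
theorem F67708 : act 8 n14809 = n14809 := d40_2 F53485 D14809 (iv D14809)
theorem F67709 : act 9 n14809 = n12128 := d41_2 (iv F53486) D14809 (iv D12128)
def n14810 : Q := act 7 n11558
theorem D14810 : act 7 n11558 = n14810 := rfl
theorem F67710 : act 0 n14810 = n12319 := d6_1 D14810 (iv D12319) (iv F53487)
theorem F67711 : act 1 n14810 = n14810 := d14_1 D14810 (iv D14810) F53488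
theorem F67712 : act 2 n14810 = n12322 := d21_1 D14810 (iv D12322) (iv F53489)
theorem F67713 : act 5 n14810 = n11563 := d36_1 D14810 (iv D11563) (iv F53490)
theorem F67714 : act 6 n14810 = n11668 := d39_1 D14810 (iv D11668) (iv D9138) (iv F42523) D11558
theorem F67715 : act 8 n14810 = n14810 := d42_2 F53491 D14810 (iv D14810)
theorem F67716 : act 9 n14810 = n12129 := d43_2 (iv F53492) D14810 (iv D12129)
def n14811 : Q := act 3 n11559
theorem D14811 : act 3 n11559 = n14811 := rfl
theorem F67717 : act 0 n14811 = n12320 := d2_1 D14811 (iv D12320) (iv F53493)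
theorem F67718 : act 1 n14811 = n14811 := d10_1 D14811 (iv D14811) F53494
theorem F67719 : act 5 n14811 = n14811 := d25_2 F53496 D14811 (iv D14811)
theorem F67720 : act 7 n14811 = n11564 := d27_2 (iv F53497) D14811 (iv D11564)
theorem F67721 : act 8 n14811 = n14811 := d28_2 F53498 D14811 (iv D14811)
theorem F67722 : act 9 n14811 = n11561 := d29_2 (iv F53499) D14811 (iv D11561)
def n14812 : Q := act 6 n11559
theorem D14812 : act 6 n11559 = n14812 := rfl
theorem F67723 : act 0 n14812 = n12321 := d5_1 D14812 (iv D12321) (iv F53493)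
theorem F67724 : act 1 n14812 = n14812 := d13_1 D14812 (iv D14812) F53494
theorem F67725 : act 2 n14812 = n12318 := d20_1 D14812 (iv D12318) (iv F53495)
theorem F67726 : act 4 n14812 = n11560 := d31_1 D14812 (iv D11560) D11559
theorem F67727 : act 8 n14812 = n14812 := d40_2 F53498 D14812 (iv D14812)
theorem F67728 : act 9 n14812 = n11562 := d41_2 (iv F53499) D14812 (iv D11562)
def n14813 : Q := act 7 n11560
theorem D14813 : act 7 n11560 = n14813 := rfl
theorem F67729 : act 0 n14813 = n12322 := d6_1 D14813 (iv D12322) (iv F53500)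
theorem F67730 : act 1 n14813 = n14813 := d14_1 D14813 (iv D14813) F53501
theorem F67731 : act 2 n14813 = n12319 := d21_1 D14813 (iv D12319) (iv F53502)
theorem F67732 : act 5 n14813 = n12129 := d36_1 D14813 (iv D12129) (iv F53503)
theorem F67733 : act 6 n14813 = n11566 := d39_1 D14813 (iv D11566) (iv D9064) (iv F42529) D11560
theorem F67734 : act 8 n14813 = n14813 := d42_2 F53504 D14813 (iv D14813)
theorem F67735 : act 9 n14813 = n11563 := d43_2 (iv F53505) D14813 (iv D11563)
def n14814 : Q := act 2 n11561
theorem D14814 : act 2 n11561 = n14814 := rfl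
theorem F67736 : act 0 n14814 = n12323 := d1_1 D14814 (iv D12323) (iv F53506)
theorem F67737 : act 5 n14814 = n14814 := d19_2 F53508 D14814 (iv D14814)
theorem F67738 : act 7 n14814 = n11567 := d21_2 (iv F53509) D14814 (iv D11567)
theorem F67739 : act 8 n14814 = n11571 := d22_2 (iv F53510) D14814 (iv D11571)
def n14815 : Q := act 6 n11561
theorem D14815 : act 6 n11561 = n14815 := rfl
theorem F67740 : act 0 n14815 = n12324 := d5_1 D14815 (iv D12324) (iv F53506)
theorem F67741 : act 1 n14815 = n14815 := d13_1 D14815 (iv D14815) F53507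
theorem F67742 : act 3 n14815 = n11562 := d26_1 D14815 (iv D11562) D11561
theorem F67743 : act 8 n14815 = n11572 := d40_2 (iv F53510) D14815 (iv D11572)
def n14816 : Q := act 5 n11562
theorem D14816 : act 5 n11562 = n14816 := rfl
theorem F67744 : act 0 n14816 = n12325 := d4_1 D14816 (iv D12325) (iv F53511)
theorem F67745 : act 1 n14816 = n14816 := d12_1 D14816 (iv D14816) F53512
theorem F67746 : act 6 n14816 = n14816 := d35_2 D11562 D14816 (iv D14816) (iv D11562) F42534
def n14817 : Q := act 7 n11562
theorem D14817 : act 7 n11562 = n14817 := rfl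
theorem F67747 : act 0 n14817 = n12326 := d6_1 D14817 (iv D12326) (iv F53511)
theorem F67748 : act 1 n14817 = n14817 := d14_1 D14817 (iv D14817) F53512
theorem F67749 : act 4 n14817 = n11563 := d32_1 D14817 (iv D11563) (iv F53513)
theorem F67750 : act 6 n14817 = n11570 := d39_1 D14817 (iv D11570) (iv D9066) (iv F42535) D11562
theorem F67751 : act 8 n14817 = n11574 := d42_2 (iv F53514) D14817 (iv D11574)
def n14818 : Q := act 2 n11564
theorem D14818 : act 2 n11564 = n14818 := rfl
theorem F67752 : act 0 n14818 = n12327 := d1_1 D14818 (iv D12327) (iv F53519)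
theorem F67753 : act 3 n14818 = n12468 := d17_2 D11564 D14818 (iv D12468) (iv D9729) (iv F42542)
theorem F67754 : act 5 n14818 = n14818 := d19_2 F53521 D14818 (iv D14818)
theorem F67755 : act 8 n14818 = n14818 := d22_2 F53522 D14818 (iv D14818)
theorem F67756 : act 9 n14818 = n11567 := d23_2 (iv F53523) D14818 (iv D11567)
def n14819 : Q := act 6 n11564
theorem D14819 : act 6 n11564 = n14819 := rfl
theorem F67757 : act 0 n14819 = n12328 := d5_1 D14819 (iv D12328) (iv F53519)
theorem F67758 : act 1 n14819 = n14819 := d13_1 D14819 (iv D14819) F53520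
theorem F67759 : act 3 n14819 = n11565 := d26_1 D14819 (iv D11565) D11564
theorem F67760 : act 8 n14819 = n14819 := d40_2 F53522 D14819 (iv D14819)
theorem F67761 : act 9 n14819 = n11568 := d41_2 (iv F53523) D14819 (iv D11568)
def n14820 : Q := act 5 n11565
theorem D14820 : act 5 n11565 = n14820 := rfl
theorem F67762 : act 0 n14820 = n12329 := d4_1 D14820 (iv D12329) (iv F53524)
theorem F67763 : act 1 n14820 = n14820 := d12_1 D14820 (iv D14820) F53525
theorem F67764 : act 2 n14820 = n12470 := d19_1 D14820 (iv D12470) (iv F53526)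
theorem F67765 : act 4 n14820 = n11675 := d30_1 D14820 (iv D11675) F42938 (iv F42549) (iv F53527)
theorem F67766 : act 6 n14820 = n14820 := d35_2 D11565 D14820 (iv D14820) (iv D11565) F42543
theorem F67767 : act 9 n14820 = n11569 := d38_2 (iv F53529) D14820 (iv D11569)
def n14821 : Q := act 7 n11565
theorem D14821 : act 7 n11565 = n14821 := rfl
theorem F67768 : act 0 n14821 = n12330 := d6_1 D14821 (iv D12330) (iv F53524)
theorem F67769 : act 1 n14821 = n14821 := d14_1 D14821 (iv D14821) F53525
theorem F67770 : act 2 n14821 = n12471 := d21_1 D14821 (iv D12471) (iv F53526)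
theorem F67771 : act 4 n14821 = n11566 := d32_1 D14821 (iv D11566) (iv F53527)
theorem F67772 : act 8 n14821 = n14821 := d42_2 F53528 D14821 (iv D14821)
theorem F67773 : act 9 n14821 = n11570 := d43_2 (iv F53529) D14821 (iv D11570)
def n14822 : Q := act 1 n11567
theorem D14822 : act 1 n11567 = n14822 := rfl
theorem F67774 : act 2 n14822 = n14822 := d9_2 D11567 D14822 (iv D14822) (iv D11567) F42553
theorem F67775 : act 5 n14822 = n14822 := d12_2 F53537 D14822 (iv D14822)
theorem F67776 : act 8 n14822 = n11575 := d15_2 (iv F53538) D14822 (iv D11575)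
def n14823 : Q := act 6 n11567
theorem D14823 : act 6 n11567 = n14823 := rfl
theorem F67777 : act 0 n14823 = n12332 := d5_1 D14823 (iv D12332) (iv F53536)
theorem F67778 : act 2 n14823 = n11568 := d20_1 D14823 (iv D11568) D11567
theorem F67779 : act 8 n14823 = n11576 := d40_2 (iv F53538) D14823 (iv D11576)
def n14824 : Q := act 5 n11568
theorem D14824 : act 5 n11568 = n14824 := rfl
theorem F67780 : act 0 n14824 = n12333 := d4_1 D14824 (iv D12333) (iv F53539)
theorem F67781 : act 1 n14824 = n14824 := d12_1 D14824 (iv D14824) F53540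
theorem F67782 : act 3 n14824 = n11569 := d25_1 D14824 (iv D11569) (iv F53541)
theorem F67783 : act 6 n14824 = n14824 := d35_2 D11568 D14824 (iv D14824) (iv D11568) F42554
theorem F67784 : act 8 n14824 = n14824 := d37_2 (iv F53542) D14824 (iv D14824) F53542 F42584
def n14825 : Q := act 7 n11568
theorem D14825 : act 7 n11568 = n14825 := rfl
theorem F67785 : act 0 n14825 = n12334 := d6_1 D14825 (iv D12334) (iv F53539)
theorem F67786 : act 1 n14825 = n14825 := d14_1 D14825 (iv D14825) F53540
theorem F67787 : act 3 n14825 = n11570 := d27_1 D14825 (iv D11570) (iv F53541)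
theorem F67788 : act 8 n14825 = n11577 := d42_2 (iv F53542) D14825 (iv D11577)
def n14826 : Q := act 7 n11569
theorem D14826 : act 7 n11569 = n14826 := rfl
theorem F67789 : act 0 n14826 = n12335 := d6_1 D14826 (iv D12335) (iv F53543)
theorem F67790 : act 1 n14826 = n14826 := d14_1 D14826 (iv D14826) F53544
theorem F67791 : act 4 n14826 = n11681 := d32_1 D14826 (iv D11681) (iv F53545)
theorem F67792 : act 5 n14826 = n11570 := d36_1 D14826 (iv D11570) D11569
theorem F67793 : act 8 n14826 = n14826 := d42_2 F53547 D14826 (iv D14826)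
def n14827 : Q := act 1 n11571
theorem D14827 : act 1 n11571 = n14827 := rfl
theorem F67794 : act 2 n14827 = n14827 := d9_2 D11571 D14827 (iv D14827) (iv D11571) F42565
theorem F67795 : act 5 n14827 = n11578 := d12_2 (iv F53553) D14827 (iv D11578)
theorem F67796 : act 7 n14827 = n11575 := d14_2 (iv F53554) D14827 (iv D11575)
theorem F67797 : act 9 n14827 = n14827 := d16_2 F53555 D14827 (iv D14827)
def n14828 : Q := act 6 n11571
theorem D14828 : act 6 n11571 = n14828 := rfl
theorem F67798 : act 0 n14828 = n12337 := d5_1 D14828 (iv D12337) (iv F53552)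
theorem F67799 : act 2 n14828 = n11572 := d20_1 D14828 (iv D11572) D11571
theorem F67800 : act 9 n14828 = n14828 := d41_2 F53555 D14828 (iv D14828)
def n14829 : Q := act 5 n11572
theorem D14829 : act 5 n11572 = n14829 := rfl
theorem F67801 : act 0 n14829 = n12338 := d4_1 D14829 (iv D12338) (iv F53556)
theorem F67802 : act 1 n14829 = n14829 := d12_1 D14829 (iv D14829) F53557
theorem F67803 : act 3 n14829 = n11573 := d25_1 D14829 (iv D11573) (iv F53558)
theorem F67804 : act 6 n14829 = n11580 := d35_2 D11572 D14829 (iv D11580) (iv D9075) (iv F42566)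
theorem F67805 : act 9 n14829 = n14829 := d38_2 F53559 D14829 (iv D14829)
def n14830 : Q := act 7 n11572
theorem D14830 : act 7 n11572 = n14830 := rfl
theorem F67806 : act 0 n14830 = n12339 := d6_1 D14830 (iv D12339) (iv F53556)
theorem F67807 : act 1 n14830 = n14830 := d14_1 D14830 (iv D14830) F53557
theorem F67808 : act 3 n14830 = n11574 := d27_1 D14830 (iv D11574) (iv F53558)
theorem F67809 : act 6 n14830 = n11577 := d39_1 D14830 (iv D11577) (iv D9072) (iv F42567) D11572
theorem F67810 : act 9 n14830 = n14830 := d43_2 F53559 D14830 (iv D14830)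
def n14831 : Q := act 7 n11573
theorem D14831 : act 7 n11573 = n14831 := rfl
theorem F67811 : act 0 n14831 = n12340 := d6_1 D14831 (iv D12340) (iv F53560)
theorem F67812 : act 1 n14831 = n14831 := d14_1 D14831 (iv D14831) F53561
theorem F67813 : act 4 n14831 = n14831 := d32_1 D14831 (iv D14831) F53562
theorem F67814 : act 5 n14831 = n11574 := d36_1 D14831 (iv D11574) D11573
theorem F67815 : act 6 n14831 = n14831 := d39_1 D14831 (iv D14831) F53563 F42606 (iv F53563)
theorem F67816 : act 9 n14831 = n14831 := d43_2 F53564 D14831 (iv D14831)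
def n14832 : Q := act 8 n11573
theorem D14832 : act 8 n11573 = n14832 := rfl
theorem F67817 : act 0 n14832 = n12341 := d7_1 D14832 (iv D12341) (iv F53560)
theorem F67818 : act 1 n14832 = n14832 := d15_1 D14832 (iv D14832) F53561
theorem F67819 : act 4 n14832 = n14832 := d33_1 D14832 (iv D14832) F53562
theorem F67820 : act 6 n14832 = n11581 := d40_1 D14832 (iv D11581) (iv F53563)
def n14833 : Q := act 0 n11575
theorem D14833 : act 0 n11575 = n14833 := rfl
theorem F67821 : act 1 n14833 = n12342 := d0_2 D11575 D14833 (iv D12342) (iv D9641) (iv F42578)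
theorem F67822 : act 2 n14833 = n14833 := d1_2 F53570 D14833 (iv D14833)
theorem F67823 : act 5 n14833 = n11582 := d4_2 (iv F53571) D14833 (iv D11582)
theorem F67824 : act 9 n14833 = n14833 := d8_2 F53572 D14833 (iv D14833)
def n14834 : Q := act 6 n11575
theorem D14834 : act 6 n11575 = n14834 := rfl
theorem F67825 : act 1 n14834 = n11576 := d13_1 D14834 (iv D11576) D11575
theorem F67826 : act 2 n14834 = n14834 := d20_1 D14834 (iv D14834) F53570
theorem F67827 : act 5 n14834 = n14834 := d35_1 D14834 (iv D14834) F53571 F42610 (iv F53571)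
theorem F67828 : act 9 n14834 = n14834 := d41_2 F53572 D14834 (iv D14834)
def n14835 : Q := act 7 n11576
theorem D14835 : act 7 n11576 = n14835 := rfl
theorem F67829 : act 0 n14835 = n12344 := d6_1 D14835 (iv D12344) (iv F53573)
theorem F67830 : act 2 n14835 = n11577 := d21_1 D14835 (iv D11577) (iv F53574)
theorem F67831 : act 5 n14835 = n14835 := d36_1 D14835 (iv D14835) F53575
theorem F67832 : act 9 n14835 = n14835 := d43_2 F53576 D14835 (iv D14835)
def n14836 : Q := act 0 n11578
theorem D14836 : act 0 n11578 = n14836 := rfl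
theorem F67833 : act 1 n14836 = n12345 := d0_2 D11578 D14836 (iv D12345) (iv D9644) (iv F42591)
theorem F67834 : act 2 n14836 = n14836 := d1_2 F53582 D14836 (iv D14836)
theorem F67835 : act 4 n14836 = n14836 := d3_2 F53583 D14836 (iv D14836)
theorem F67836 : act 7 n14836 = n11582 := d6_2 (iv F53584) D14836 (iv D11582)
theorem F67837 : act 8 n14836 = n14836 := d7_2 F53585 D14836 (iv D14836)
theorem F67838 : act 9 n14836 = n14836 := d8_2 F53586 D14836 (iv D14836)
def n14837 : Q := act 6 n11578
theorem D14837 : act 6 n11578 = n14837 := rfl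
theorem F67839 : act 1 n14837 = n11579 := d13_1 D14837 (iv D11579) D11578
def n14838 : Q := act 5 n11579
theorem D14838 : act 5 n11579 = n14838 := rfl
theorem F67845 : act 0 n14838 = n12347 := d4_1 D14838 (iv D12347) (iv F53587)
theorem F67846 : act 2 n14838 = n11580 := d19_1 D14838 (iv D11580) (iv F53588)
def n14839 : Q := act 4 n11580
theorem D14839 : act 4 n11580 = n14839 := rfl
theorem F67849 : act 0 n14839 = n12348 := d3_1 D14839 (iv D12348) (iv F53593)
theorem F67855 : act 8 n13577 = n14839 := d7_0 F67849 (iv F59990) (iv F61804)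
def n14840 : Q := act 8 n11580
theorem D14840 : act 8 n11580 = n14840 := rfl
theorem F67858 : act 3 n14840 = n11581 := d28_1 D14840 (iv D11581) (iv F53595)
theorem F67859 : act 4 n14840 = n13577 := d33_1 D14840 F67855 (iv D14839)
theorem F67862 : act 9 n13578 = n14840 := d34_0 F67859 F61808 D13578
def n14841 : Q := act 9 n11581
theorem D14841 : act 9 n11581 = n14841 := rfl
theorem F67865 : act 3 n14841 = n13578 := d29_1 D14841 F67862 F67858
def n14842 : Q := act 5 n11583
theorem D14842 : act 5 n11583 = n14842 := rfl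
theorem F67870 : act 0 n14842 = n11594 := d4_1 D14842 (iv D11594) (iv F53609)
theorem F67871 : act 1 n14842 = n12100 := d12_1 D14842 (iv D12100) (iv F53610)
theorem F67872 : act 2 n14842 = n14842 := d19_1 D14842 (iv D14842) F53611
theorem F67873 : act 3 n14842 = n12248 := d25_1 D14842 (iv D12248) (iv F53612)
theorem F67874 : act 7 n14842 = n12093 := d36_2 (iv F53615) D14842 (iv D12093)
theorem F67875 : act 8 n14842 = n11806 := d37_2 D11583 D14842 (iv D11806) (iv D9248) (iv F42618)
theorem F67876 : act 9 n14842 = n12261 := d38_2 (iv F53616) D14842 (iv D12261)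
def n14843 : Q := act 5 n11584
theorem D14843 : act 5 n11584 = n14843 := rfl
theorem F67877 : act 0 n14843 = n11596 := d4_1 D14843 (iv D11596) (iv F53617)
theorem F67878 : act 1 n14843 = n12099 := d12_1 D14843 (iv D12099) (iv F53618)
theorem F67879 : act 2 n14843 = n14843 := d19_1 D14843 (iv D14843) F53619
theorem F67880 : act 3 n14843 = n12351 := d25_1 D14843 (iv D12351) (iv F53620)
theorem F67881 : act 7 n14843 = n11586 := d36_2 (iv F53623) D14843 (iv D11586)
theorem F67882 : act 8 n14843 = n11587 := d37_2 D11584 D14843 (iv D11587) (iv D9082) (iv F42626)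
theorem F67883 : act 9 n14843 = n12146 := d38_2 (iv F53624) D14843 (iv D12146)
def n14844 : Q := act 5 n11585
theorem D14844 : act 5 n11585 = n14844 := rfl
theorem F67884 : act 0 n14844 = n11597 := d4_1 D14844 (iv D11597) (iv F53625)
theorem F67885 : act 1 n14844 = n12351 := d12_1 D14844 (iv D12351) (iv F53626)
theorem F67886 : act 2 n14844 = n14844 := d19_1 D14844 (iv D14844) F53627
theorem F67887 : act 3 n14844 = n12099 := d25_1 D14844 (iv D12099) (iv F53628)
theorem F67888 : act 7 n14844 = n12146 := d36_2 (iv F53631) D14844 (iv D12146)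
theorem F67889 : act 8 n14844 = n11696 := d37_2 D11585 D14844 (iv D11696) (iv D9161) (iv F42634)
theorem F67890 : act 9 n14844 = n11586 := d38_2 (iv F53632) D14844 (iv D11586)
def n14845 : Q := act 4 n11586
theorem D14845 : act 4 n11586 = n14845 := rfl
theorem F67891 : act 0 n14845 = n11598 := d3_1 D14845 (iv D11598) (iv F53633)
theorem F67892 : act 1 n14845 = n12352 := d11_1 D14845 (iv D12352) (iv F53634)
theorem F67893 : act 2 n14845 = n14845 := d18_1 D14845 (iv D14845) F53635
theorem F67894 : act 8 n14845 = n11588 := d33_2 (iv F53636) D14845 (iv D11588)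
def n14846 : Q := act 6 n11586
theorem D14846 : act 6 n11586 = n14846 := rfl
theorem F67895 : act 0 n14846 = n11599 := d5_1 D14846 (iv D11599) (iv F53633)
theorem F67896 : act 1 n14846 = n12353 := d13_1 D14846 (iv D12353) (iv F53634)
theorem F67897 : act 2 n14846 = n14846 := d20_1 D14846 (iv D14846) F53635
theorem F67898 : act 8 n14846 = n11589 := d40_2 (iv F53636) D14846 (iv D11589)
def n14847 : Q := act 4 n11587
theorem D14847 : act 4 n11587 = n14847 := rfl
theorem F67899 : act 0 n14847 = n11600 := d3_1 D14847 (iv D11600) (iv F53637)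
theorem F67900 : act 1 n14847 = n12354 := d11_1 D14847 (iv D12354) (iv F53638)
theorem F67901 : act 2 n14847 = n14847 := d18_1 D14847 (iv D14847) F53639
theorem F67902 : act 5 n14847 = n11810 := d30_2 D11587 D14847 (iv D11810) (iv D9251) (iv F42644)
theorem F67903 : act 7 n14847 = n11588 := d32_2 (iv F53641) D14847 (iv D11588)
theorem F67904 : act 9 n14847 = n11699 := d34_2 (iv F53642) D14847 (iv D11699)
def n14848 : Q := act 6 n11587
theorem D14848 : act 6 n11587 = n14848 := rfl
theorem F67905 : act 0 n14848 = n11601 := d5_1 D14848 (iv D11601) (iv F53637)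
theorem F67906 : act 1 n14848 = n12355 := d13_1 D14848 (iv D12355) (iv F53638)
theorem F67907 : act 2 n14848 = n14848 := d20_1 D14848 (iv D14848) F53639
theorem F67908 : act 3 n14848 = n12507 := d26_1 D14848 (iv D12507) (iv F53640)
theorem F67909 : act 5 n14848 = n14848 := d35_1 D14848 (iv D14848) (iv D11587) F42645 D11587
theorem F67910 : act 9 n14848 = n11700 := d41_2 (iv F53642) D14848 (iv D11700)
def n14849 : Q := act 3 n11588
theorem D14849 : act 3 n11588 = n14849 := rfl
theorem F67911 : act 0 n14849 = n11602 := d2_1 D14849 (iv D11602) (iv F53643)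
theorem F67912 : act 1 n14849 = n12356 := d10_1 D14849 (iv D12356) (iv F53644)
theorem F67913 : act 5 n14849 = n11812 := d25_2 (iv F53646) D14849 (iv D11812)
theorem F67914 : act 9 n14849 = n11701 := d29_2 (iv F53647) D14849 (iv D11701)
def n14850 : Q := act 6 n11588
theorem D14850 : act 6 n11588 = n14850 := rfl
theorem F67915 : act 0 n14850 = n11603 := d5_1 D14850 (iv D11603) (iv F53643)
theorem F67916 : act 1 n14850 = n12357 := d13_1 D14850 (iv D12357) (iv F53644)
theorem F67917 : act 2 n14850 = n14850 := d20_1 D14850 (iv D14850) F53645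
theorem F67918 : act 4 n14850 = n11589 := d31_1 D14850 (iv D11589) D11588
theorem F67919 : act 9 n14850 = n11702 := d41_2 (iv F53647) D14850 (iv D11702)
def n14851 : Q := act 7 n11589
theorem D14851 : act 7 n11589 = n14851 := rfl
theorem F67920 : act 0 n14851 = n11604 := d6_1 D14851 (iv D11604) (iv F53648)
theorem F67921 : act 1 n14851 = n12358 := d14_1 D14851 (iv D12358) (iv F53649)
theorem F67922 : act 2 n14851 = n14851 := d21_1 D14851 (iv D14851) F53650
theorem F67923 : act 5 n14851 = n11592 := d36_1 D14851 (iv D11592) (iv F53651)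
theorem F67924 : act 9 n14851 = n11703 := d43_2 (iv F53652) D14851 (iv D11703)
def n14852 : Q := act 2 n11590
theorem D14852 : act 2 n11590 = n14852 := rfl
theorem F67925 : act 0 n14852 = n11605 := d1_1 D14852 (iv D11605) (iv F53653)
theorem F67927 : act 5 n14852 = n11815 := d19_2 (iv F53655) D14852 (iv D11815)
theorem F67929 : act 9 n14852 = n11704 := d23_2 (iv F53657) D14852 (iv D11704)
def n14853 : Q := act 6 n11590
theorem D14853 : act 6 n11590 = n14853 := rfl
theorem F67930 : act 0 n14853 = n11606 := d5_1 D14853 (iv D11606) (iv F53653)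
theorem F67931 : act 1 n14853 = n12360 := d13_1 D14853 (iv D12360) (iv F53654)
theorem F67932 : act 3 n14853 = n11591 := d26_1 D14853 (iv D11591) D11590
theorem F67933 : act 9 n14853 = n11705 := d41_2 (iv F53657) D14853 (iv D11705)
def n14854 : Q := act 5 n11591
theorem D14854 : act 5 n11591 = n14854 := rfl
theorem F67934 : act 0 n14854 = n11607 := d4_1 D14854 (iv D11607) (iv F53658)
theorem F67935 : act 1 n14854 = n12361 := d12_1 D14854 (iv D12361) (iv F53659)
theorem F67936 : act 2 n14854 = n14854 := d19_1 D14854 (iv D14854) F53660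
theorem F67938 : act 9 n14854 = n11706 := d38_2 (iv F53662) D14854 (iv D11706)
def n14855 : Q := act 7 n11591
theorem D14855 : act 7 n11591 = n14855 := rfl
theorem F67939 : act 0 n14855 = n11608 := d6_1 D14855 (iv D11608) (iv F53658)
theorem F67940 : act 1 n14855 = n12362 := d14_1 D14855 (iv D12362) (iv F53659)
theorem F67941 : act 2 n14855 = n14855 := d21_1 D14855 (iv D14855) F53660
theorem F67942 : act 4 n14855 = n11592 := d32_1 D14855 (iv D11592) (iv F53661)
theorem F67943 : act 6 n14855 = n14855 := d39_1 D14855 (iv D14855) (iv D11591) F42656 D11591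
theorem F67944 : act 9 n14855 = n11707 := d43_2 (iv F53662) D14855 (iv D11707)
def n14856 : Q := act 5 n11593
theorem D14856 : act 5 n11593 = n14856 := rfl
theorem F67945 : act 0 n14856 = n12093 := d4_1 D14856 (iv D12093) (iv F53668)
theorem F67946 : act 1 n14856 = n11610 := d12_1 D14856 (iv D11610) (iv F53669)
theorem F67947 : act 2 n14856 = n14856 := d19_1 D14856 (iv D14856) F53670
theorem F67948 : act 3 n14856 = n12241 := d25_1 D14856 (iv D12241) (iv F53671)
theorem F67949 : act 7 n14856 = n11594 := d36_2 (iv F53674) D14856 (iv D11594)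
theorem F67950 : act 8 n14856 = n11820 := d37_2 D11593 D14856 (iv D11820) (iv D9258) (iv F42667)
theorem F67951 : act 9 n14856 = n12152 := d38_2 (iv F53675) D14856 (iv D12152)
def n14857 : Q := act 4 n11594
theorem D14857 : act 4 n11594 = n14857 := rfl
theorem F67952 : act 1 n14857 = n11612 := d11_1 D14857 (iv D11612) (iv F53676)
theorem F67953 : act 2 n14857 = n14857 := d18_1 D14857 (iv D14857) F53677
theorem F67954 : act 5 n14857 = n11598 := d30_2 D11594 D14857 (iv D11598) (iv D9091) (iv F42672)
theorem F67955 : act 8 n14857 = n11821 := d33_2 (iv F53678) D14857 (iv D11821)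
def n14858 : Q := act 6 n11594
theorem D14858 : act 6 n11594 = n14858 := rfl
theorem F67956 : act 1 n14858 = n11613 := d13_1 D14858 (iv D11613) (iv F53676)
theorem F67957 : act 2 n14858 = n14858 := d20_1 D14858 (iv D14858) F53677
theorem F67958 : act 8 n14858 = n11822 := d40_2 (iv F53678) D14858 (iv D11822)
def n14859 : Q := act 5 n11595
theorem D14859 : act 5 n11595 = n14859 := rfl
theorem F67959 : act 0 n14859 = n12152 := d4_1 D14859 (iv D12152) (iv F53679)
theorem F67960 : act 1 n14859 = n11614 := d12_1 D14859 (iv D11614) (iv F53680)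
theorem F67961 : act 2 n14859 = n14859 := d19_1 D14859 (iv D14859) F53681
theorem F67962 : act 3 n14859 = n12249 := d25_1 D14859 (iv D12249) (iv F53682)
theorem F67963 : act 7 n14859 = n12261 := d36_2 (iv F53685) D14859 (iv D12261)
theorem F67964 : act 8 n14859 = n14859 := d37_2 D11595 D14859 (iv D14859) (iv D11595) F42678
theorem F67965 : act 9 n14859 = n12093 := d38_2 (iv F53686) D14859 (iv D12093)
def n14860 : Q := act 4 n11596
theorem D14860 : act 4 n11596 = n14860 := rfl
theorem F67966 : act 1 n14860 = n11615 := d11_1 D14860 (iv D11615) (iv F53687)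
theorem F67967 : act 2 n14860 = n14860 := d18_1 D14860 (iv D14860) F53688
theorem F67968 : act 7 n14860 = n11598 := d32_2 (iv F53690) D14860 (iv D11598)
theorem F67969 : act 8 n14860 = n11600 := d33_2 (iv F53691) D14860 (iv D11600)
theorem F67970 : act 9 n14860 = n12153 := d34_2 (iv F53692) D14860 (iv D12153)
def n14861 : Q := act 6 n11596
theorem D14861 : act 6 n11596 = n14861 := rfl
theorem F67971 : act 1 n14861 = n11616 := d13_1 D14861 (iv D11616) (iv F53687)
theorem F67972 : act 2 n14861 = n14861 := d20_1 D14861 (iv D14861) F53688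
theorem F67973 : act 3 n14861 = n12368 := d26_1 D14861 (iv D12368) (iv F53689)
theorem F67974 : act 8 n14861 = n11601 := d40_2 (iv F53691) D14861 (iv D11601)
theorem F67975 : act 9 n14861 = n12154 := d41_2 (iv F53692) D14861 (iv D12154)
def n14862 : Q := act 4 n11597
theorem D14862 : act 4 n11597 = n14862 := rfl
theorem F67976 : act 1 n14862 = n11617 := d11_1 D14862 (iv D11617) (iv F53693)
theorem F67977 : act 2 n14862 = n14862 := d18_1 D14862 (iv D14862) F53694
theorem F67978 : act 7 n14862 = n12153 := d32_2 (iv F53696) D14862 (iv D12153)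
theorem F67979 : act 8 n14862 = n11708 := d33_2 (iv F53697) D14862 (iv D11708)
theorem F67980 : act 9 n14862 = n11598 := d34_2 (iv F53698) D14862 (iv D11598)
def n14863 : Q := act 6 n11597
theorem D14863 : act 6 n11597 = n14863 := rfl
theorem F67981 : act 1 n14863 = n11618 := d13_1 D14863 (iv D11618) (iv F53693)
theorem F67982 : act 2 n14863 = n14863 := d20_1 D14863 (iv D14863) F53694
theorem F67983 : act 3 n14863 = n12366 := d26_1 D14863 (iv D12366) (iv F53695)
theorem F67984 : act 8 n14863 = n11709 := d40_2 (iv F53697) D14863 (iv D11709)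
theorem F67985 : act 9 n14863 = n11599 := d41_2 (iv F53698) D14863 (iv D11599)
def n14864 : Q := act 3 n11598
theorem D14864 : act 3 n11598 = n14864 := rfl
theorem F67986 : act 1 n14864 = n11619 := d10_1 D14864 (iv D11619) (iv F53699)
theorem F67987 : act 8 n14864 = n11602 := d28_2 (iv F53701) D14864 (iv D11602)
def n14865 : Q := act 6 n11598
theorem D14865 : act 6 n11598 = n14865 := rfl
theorem F67988 : act 1 n14865 = n11620 := d13_1 D14865 (iv D11620) (iv F53699)
theorem F67989 : act 2 n14865 = n14865 := d20_1 D14865 (iv D14865) F53700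
theorem F67990 : act 4 n14865 = n11599 := d31_1 D14865 (iv D11599) D11598
theorem F67991 : act 8 n14865 = n11603 := d40_2 (iv F53701) D14865 (iv D11603)
def n14866 : Q := act 7 n11599
theorem D14866 : act 7 n11599 = n14866 := rfl
theorem F67992 : act 1 n14866 = n11621 := d14_1 D14866 (iv D11621) (iv F53702)
theorem F67993 : act 2 n14866 = n14866 := d21_1 D14866 (iv D14866) F53703
theorem F67994 : act 8 n14866 = n11604 := d42_2 (iv F53704) D14866 (iv D11604)
def n14867 : Q := act 3 n11600
theorem D14867 : act 3 n11600 = n14867 := rfl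
theorem F67995 : act 1 n14867 = n11622 := d10_1 D14867 (iv D11622) (iv F53705)
theorem F67996 : act 4 n14867 = n12524 := d24_2 D11600 D14867 (iv D12524) (iv D9771) (iv F42696)
theorem F67997 : act 5 n14867 = n11829 := d25_2 (iv F53707) D14867 (iv D11829)
theorem F67998 : act 7 n14867 = n11602 := d27_2 (iv F53708) D14867 (iv D11602)
theorem F67999 : act 9 n14867 = n11713 := d29_2 (iv F53709) D14867 (iv D11713)
def n14868 : Q := act 6 n11600
theorem D14868 : act 6 n11600 = n14868 := rfl
theorem F68000 : act 1 n14868 = n11623 := d13_1 D14868 (iv D11623) (iv F53705)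
theorem F68001 : act 2 n14868 = n14868 := d20_1 D14868 (iv D14868) F53706
theorem F68002 : act 4 n14868 = n11601 := d31_1 D14868 (iv D11601) D11600
theorem F68003 : act 9 n14868 = n11714 := d41_2 (iv F53709) D14868 (iv D11714)
def n14869 : Q := act 7 n11601
theorem D14869 : act 7 n11601 = n14869 := rfl
theorem F68004 : act 1 n14869 = n11624 := d14_1 D14869 (iv D11624) (iv F53710)
theorem F68005 : act 2 n14869 = n14869 := d21_1 D14869 (iv D14869) F53711
theorem F68006 : act 3 n14869 = n12526 := d27_1 D14869 (iv D12526) (iv F53712)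
theorem F68007 : act 5 n14869 = n14869 := d36_1 D14869 (iv D14869) F53713
theorem F68008 : act 6 n14869 = n11604 := d39_1 D14869 (iv D11604) (iv D9094) (iv F42697) D11601
theorem F68009 : act 9 n14869 = n11715 := d43_2 (iv F53714) D14869 (iv D11715)
def n14870 : Q := act 2 n11602
theorem D14870 : act 2 n11602 = n14870 := rfl
theorem F68010 : act 3 n14870 = n14870 := d17_2 D11602 D14870 (iv D14870) (iv D11602) F42700
theorem F68011 : act 5 n14870 = n11832 := d19_2 (iv F53716) D14870 (iv D11832)
theorem F68012 : act 9 n14870 = n11716 := d23_2 (iv F53717) D14870 (iv D11716)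
def n14871 : Q := act 6 n11602
theorem D14871 : act 6 n11602 = n14871 := rfl
theorem F68013 : act 1 n14871 = n11626 := d13_1 D14871 (iv D11626) (iv F53715)
theorem F68014 : act 3 n14871 = n11603 := d26_1 D14871 (iv D11603) D11602
theorem F68015 : act 9 n14871 = n11717 := d41_2 (iv F53717) D14871 (iv D11717)
def n14872 : Q := act 5 n11603
theorem D14872 : act 5 n11603 = n14872 := rfl
theorem F68016 : act 1 n14872 = n11627 := d12_1 D14872 (iv D11627) (iv F53718)
theorem F68017 : act 2 n14872 = n14872 := d19_1 D14872 (iv D14872) F53719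
theorem F68018 : act 4 n14872 = n11607 := d30_1 D14872 (iv D11607) F42713 (iv F42705) (iv F53720)
theorem F68019 : act 6 n14872 = n11834 := d35_2 D11603 D14872 (iv D11834) (iv D9267) (iv F42701)
theorem F68020 : act 9 n14872 = n11718 := d38_2 (iv F53721) D14872 (iv D11718)
def n14873 : Q := act 7 n11603
theorem D14873 : act 7 n11603 = n14873 := rfl
theorem F68021 : act 1 n14873 = n11628 := d14_1 D14873 (iv D11628) (iv F53718)
theorem F68022 : act 2 n14873 = n14873 := d21_1 D14873 (iv D14873) F53719
theorem F68023 : act 4 n14873 = n11604 := d32_1 D14873 (iv D11604) (iv F53720)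
theorem F68024 : act 9 n14873 = n11719 := d43_2 (iv F53721) D14873 (iv D11719)
def n14874 : Q := act 6 n11605
theorem D14874 : act 6 n11605 = n14874 := rfl
theorem F68025 : act 1 n14874 = n14874 := d13_1 D14874 (iv D14874) F53726
theorem F68026 : act 2 n14874 = n11606 := d20_1 D14874 (iv D11606) D11605
theorem F68027 : act 3 n14874 = n14874 := d26_1 D14874 (iv D14874) F53727
theorem F68028 : act 9 n14874 = n11720 := d41_2 (iv F53730) D14874 (iv D11720)
def n14875 : Q := act 5 n11606
theorem D14875 : act 5 n11606 = n14875 := rfl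
theorem F68029 : act 1 n14875 = n11629 := d12_1 D14875 (iv D11629) (iv F53731)
theorem F68030 : act 3 n14875 = n11607 := d25_1 D14875 (iv D11607) (iv F53732)
theorem F68031 : act 6 n14875 = n11837 := d35_2 D11606 D14875 (iv D11837) (iv D9270) (iv F42708)
theorem F68032 : act 9 n14875 = n11721 := d38_2 (iv F53733) D14875 (iv D11721)
def n14876 : Q := act 7 n11606
theorem D14876 : act 7 n11606 = n14876 := rfl
theorem F68033 : act 1 n14876 = n11630 := d14_1 D14876 (iv D11630) (iv F53731)
theorem F68034 : act 3 n14876 = n11608 := d27_1 D14876 (iv D11608) (iv F53732)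
theorem F68035 : act 6 n14876 = n14876 := d39_1 D14876 (iv D14876) (iv D11606) F42709 D11606
theorem F68036 : act 9 n14876 = n11722 := d43_2 (iv F53733) D14876 (iv D11722)
def n14877 : Q := act 7 n11607
theorem D14877 : act 7 n11607 = n14877 := rfl
theorem F68037 : act 1 n14877 = n11631 := d14_1 D14877 (iv D11631) (iv F53734)
theorem F68038 : act 2 n14877 = n14877 := d21_1 D14877 (iv D14877) F53735
theorem F68039 : act 5 n14877 = n11608 := d36_1 D14877 (iv D11608) D11607
theorem F68040 : act 9 n14877 = n11723 := d43_2 (iv F53737) D14877 (iv D11723)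
def n14878 : Q := act 8 n11607
theorem D14878 : act 8 n11607 = n14878 := rfl
theorem F68041 : act 1 n14878 = n11632 := d15_1 D14878 (iv D11632) (iv F53734)
theorem F68042 : act 2 n14878 = n14878 := d22_1 D14878 (iv D14878) F53735
theorem F68043 : act 6 n14878 = n11840 := d40_1 D14878 (iv D11840) (iv F53736)
def n14879 : Q := act 4 n11609
theorem D14879 : act 4 n11609 = n14879 := rfl
theorem F68044 : act 0 n14879 = n12385 := d3_1 D14879 (iv D12385) (iv F53743)
theorem F68045 : act 2 n14879 = n14879 := d18_1 D14879 (iv D14879) F53744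
theorem F68046 : act 8 n14879 = n11841 := d33_2 (iv F53746) D14879 (iv D11841)
def n14880 : Q := act 6 n11609
theorem D14880 : act 6 n11609 = n14880 := rfl
theorem F68047 : act 0 n14880 = n12386 := d5_1 D14880 (iv D12386) (iv F53743)
theorem F68048 : act 2 n14880 = n14880 := d20_1 D14880 (iv D14880) F53744
theorem F68049 : act 3 n14880 = n11613 := d26_1 D14880 (iv D11613) (iv F53745)
theorem F68050 : act 8 n14880 = n11842 := d40_2 (iv F53746) D14880 (iv D11842)
def n14881 : Q := act 4 n11610
theorem D14881 : act 4 n11610 = n14881 := rfl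
theorem F68051 : act 0 n14881 = n12387 := d3_1 D14881 (iv D12387) (iv F53747)
theorem F68052 : act 2 n14881 = n11634 := d18_1 D14881 (iv D11634) (iv F53748)
theorem F68053 : act 5 n14881 = n11615 := d30_2 D11610 D14881 (iv D11615) (iv D9103) (iv F42724)
theorem F68054 : act 7 n14881 = n11612 := d32_2 (iv F53749) D14881 (iv D11612)
theorem F68055 : act 8 n14881 = n11843 := d33_2 (iv F53750) D14881 (iv D11843)
theorem F68056 : act 9 n14881 = n12163 := d34_2 (iv F53751) D14881 (iv D12163)
def n14882 : Q := act 6 n11610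
theorem D14882 : act 6 n11610 = n14882 := rfl
theorem F68057 : act 0 n14882 = n12388 := d5_1 D14882 (iv D12388) (iv F53747)
theorem F68058 : act 2 n14882 = n11635 := d20_1 D14882 (iv D11635) (iv F53748)
theorem F68059 : act 8 n14882 = n11844 := d40_2 (iv F53750) D14882 (iv D11844)
theorem F68060 : act 9 n14882 = n12164 := d41_2 (iv F53751) D14882 (iv D12164)
def n14883 : Q := act 4 n11611
theorem D14883 : act 4 n11611 = n14883 := rfl
theorem F68061 : act 0 n14883 = n12389 := d3_1 D14883 (iv D12389) (iv F53752)
theorem F68062 : act 2 n14883 = n11636 := d18_1 D14883 (iv D11636) (iv F53753)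
theorem F68063 : act 5 n14883 = n11617 := d30_2 D11611 D14883 (iv D11617) (iv D9104) (iv F42729)
theorem F68064 : act 7 n14883 = n12163 := d32_2 (iv F53754) D14883 (iv D12163)
theorem F68065 : act 8 n14883 = n14883 := d33_2 F53755 D14883 (iv D14883)
theorem F68066 : act 9 n14883 = n11612 := d34_2 (iv F53756) D14883 (iv D11612)
def n14884 : Q := act 6 n11611
theorem D14884 : act 6 n11611 = n14884 := rfl
theorem F68067 : act 0 n14884 = n12390 := d5_1 D14884 (iv D12390) (iv F53752)
theorem F68068 : act 2 n14884 = n11637 := d20_1 D14884 (iv D11637) (iv F53753)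
theorem F68069 : act 8 n14884 = n14884 := d40_2 F53755 D14884 (iv D14884)
theorem F68070 : act 9 n14884 = n11613 := d41_2 (iv F53756) D14884 (iv D11613)
def n14885 : Q := act 3 n11612
theorem D14885 : act 3 n11612 = n14885 := rfl
theorem F68071 : act 0 n14885 = n12391 := d2_1 D14885 (iv D12391) (iv F53757)
theorem F68072 : act 5 n14885 = n11619 := d25_2 (iv F53759) D14885 (iv D11619)
theorem F68073 : act 8 n14885 = n11845 := d28_2 (iv F53760) D14885 (iv D11845)
def n14886 : Q := act 6 n11612
theorem D14886 : act 6 n11612 = n14886 := rfl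
theorem F68074 : act 0 n14886 = n12392 := d5_1 D14886 (iv D12392) (iv F53757)
theorem F68075 : act 2 n14886 = n11639 := d20_1 D14886 (iv D11639) (iv F53758)
theorem F68076 : act 4 n14886 = n11613 := d31_1 D14886 (iv D11613) D11612
theorem F68077 : act 8 n14886 = n11846 := d40_2 (iv F53760) D14886 (iv D11846)
def n14887 : Q := act 7 n11613
theorem D14887 : act 7 n11613 = n14887 := rfl
theorem F68078 : act 0 n14887 = n12393 := d6_1 D14887 (iv D12393) (iv F53761)
theorem F68079 : act 2 n14887 = n11640 := d21_1 D14887 (iv D11640) (iv F53762)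
theorem F68080 : act 8 n14887 = n11847 := d42_2 (iv F53763) D14887 (iv D11847)
def n14888 : Q := act 4 n11614
theorem D14888 : act 4 n11614 = n14888 := rfl
theorem F68081 : act 0 n14888 = n12394 := d3_1 D14888 (iv D12394) (iv F53764)
theorem F68082 : act 2 n14888 = n11641 := d18_1 D14888 (iv D11641) (iv F53765)
theorem F68083 : act 8 n14888 = n14888 := d33_2 F53767 D14888 (iv D14888)
theorem F68084 : act 9 n14888 = n12101 := d34_2 (iv F53768) D14888 (iv D12101)
def n14889 : Q := act 6 n11614
theorem D14889 : act 6 n11614 = n14889 := rfl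
theorem F68085 : act 0 n14889 = n12395 := d5_1 D14889 (iv D12395) (iv F53764)
theorem F68086 : act 2 n14889 = n11642 := d20_1 D14889 (iv D11642) (iv F53765)
theorem F68087 : act 3 n14889 = n12268 := d26_1 D14889 (iv D12268) (iv F53766)
theorem F68088 : act 5 n14889 = n11616 := d35_1 D14889 (iv D11616) (iv D9103) (iv F42738) D11614
theorem F68089 : act 8 n14889 = n14889 := d40_2 F53767 D14889 (iv D14889)
theorem F68090 : act 9 n14889 = n12102 := d41_2 (iv F53768) D14889 (iv D12102)
def n14890 : Q := act 3 n11615
theorem D14890 : act 3 n11615 = n14890 := rfl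
theorem F68091 : act 0 n14890 = n12396 := d2_1 D14890 (iv D12396) (iv F53769)
theorem F68092 : act 4 n14890 = n12399 := d24_2 D11615 D14890 (iv D12399) (iv D9680) (iv F42742)
theorem F68093 : act 7 n14890 = n11619 := d27_2 (iv F53771) D14890 (iv D11619)
theorem F68094 : act 8 n14890 = n11622 := d28_2 (iv F53772) D14890 (iv D11622)
theorem F68095 : act 9 n14890 = n12165 := d29_2 (iv F53773) D14890 (iv D12165)
def n14891 : Q := act 6 n11615
theorem D14891 : act 6 n11615 = n14891 := rfl
theorem F68096 : act 0 n14891 = n12397 := d5_1 D14891 (iv D12397) (iv F53769)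
theorem F68097 : act 2 n14891 = n11644 := d20_1 D14891 (iv D11644) (iv F53770)
theorem F68098 : act 4 n14891 = n11616 := d31_1 D14891 (iv D11616) D11615
theorem F68099 : act 8 n14891 = n11623 := d40_2 (iv F53772) D14891 (iv D11623)
theorem F68100 : act 9 n14891 = n12166 := d41_2 (iv F53773) D14891 (iv D12166)
def n14892 : Q := act 7 n11616
theorem D14892 : act 7 n11616 = n14892 := rfl
theorem F68101 : act 0 n14892 = n12398 := d6_1 D14892 (iv D12398) (iv F53774)
theorem F68102 : act 2 n14892 = n11645 := d21_1 D14892 (iv D11645) (iv F53775)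
theorem F68103 : act 3 n14892 = n12401 := d27_1 D14892 (iv D12401) (iv F53776)
theorem F68104 : act 6 n14892 = n11621 := d39_1 D14892 (iv D11621) (iv D9106) (iv F42743) D11616
theorem F68105 : act 8 n14892 = n11624 := d42_2 (iv F53777) D14892 (iv D11624)
theorem F68106 : act 9 n14892 = n12167 := d43_2 (iv F53778) D14892 (iv D12167)
def n14893 : Q := act 3 n11617
theorem D14893 : act 3 n11617 = n14893 := rfl
theorem F68107 : act 0 n14893 = n12399 := d2_1 D14893 (iv D12399) (iv F53779)
theorem F68108 : act 4 n14893 = n12396 := d24_2 D11617 D14893 (iv D12396) (iv D9678) (iv F42748)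
theorem F68109 : act 7 n14893 = n12165 := d27_2 (iv F53781) D14893 (iv D12165)
theorem F68110 : act 8 n14893 = n11725 := d28_2 (iv F53782) D14893 (iv D11725)
theorem F68111 : act 9 n14893 = n11619 := d29_2 (iv F53783) D14893 (iv D11619)
def n14894 : Q := act 6 n11617
theorem D14894 : act 6 n11617 = n14894 := rfl
theorem F68112 : act 0 n14894 = n12400 := d5_1 D14894 (iv D12400) (iv F53779)
theorem F68113 : act 2 n14894 = n11647 := d20_1 D14894 (iv D11647) (iv F53780)
theorem F68114 : act 4 n14894 = n11618 := d31_1 D14894 (iv D11618) D11617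
theorem F68115 : act 8 n14894 = n11726 := d40_2 (iv F53782) D14894 (iv D11726)
theorem F68116 : act 9 n14894 = n11620 := d41_2 (iv F53783) D14894 (iv D11620)
def n14895 : Q := act 7 n11618
theorem D14895 : act 7 n11618 = n14895 := rfl
theorem F68117 : act 0 n14895 = n12401 := d6_1 D14895 (iv D12401) (iv F53784)
theorem F68118 : act 2 n14895 = n11648 := d21_1 D14895 (iv D11648) (iv F53785)
theorem F68119 : act 3 n14895 = n12398 := d27_1 D14895 (iv D12398) (iv F53786)
theorem F68120 : act 6 n14895 = n12167 := d39_1 D14895 (iv D12167) (iv D9514) (iv F42749) D11618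
theorem F68121 : act 8 n14895 = n11727 := d42_2 (iv F53787) D14895 (iv D11727)
theorem F68122 : act 9 n14895 = n11621 := d43_2 (iv F53788) D14895 (iv D11621)
def n14896 : Q := act 2 n11619
theorem D14896 : act 2 n11619 = n14896 := rfl
theorem F68123 : act 0 n14896 = n12402 := d1_1 D14896 (iv D12402) (iv F53789)
theorem F68124 : act 3 n14896 = n11649 := d17_2 D11619 D14896 (iv D11649) (iv D9125) (iv F42753)
theorem F68125 : act 8 n14896 = n11625 := d22_2 (iv F53790) D14896 (iv D11625)
def n14897 : Q := act 6 n11619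
theorem D14897 : act 6 n11619 = n14897 := rfl
theorem F68126 : act 0 n14897 = n12403 := d5_1 D14897 (iv D12403) (iv F53789)
theorem F68127 : act 3 n14897 = n11620 := d26_1 D14897 (iv D11620) D11619
theorem F68128 : act 8 n14897 = n11626 := d40_2 (iv F53790) D14897 (iv D11626)
def n14898 : Q := act 5 n11620
theorem D14898 : act 5 n11620 = n14898 := rfl
theorem F68129 : act 0 n14898 = n12404 := d4_1 D14898 (iv D12404) (iv F53791)
theorem F68130 : act 2 n14898 = n11651 := d19_1 D14898 (iv D11651) (iv F53792)
def n14899 : Q := act 7 n11620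
theorem D14899 : act 7 n11620 = n14899 := rfl
theorem F68131 : act 0 n14899 = n12405 := d6_1 D14899 (iv D12405) (iv F53791)
theorem F68132 : act 2 n14899 = n11652 := d21_1 D14899 (iv D11652) (iv F53792)
theorem F68133 : act 4 n14899 = n11621 := d32_1 D14899 (iv D11621) (iv F53793)
theorem F68134 : act 8 n14899 = n11628 := d42_2 (iv F53794) D14899 (iv D11628)
def n14900 : Q := act 2 n11622
theorem D14900 : act 2 n11622 = n14900 := rfl
theorem F68135 : act 0 n14900 = n12406 := d1_1 D14900 (iv D12406) (iv F53798)
theorem F68136 : act 3 n14900 = n11653 := d17_2 D11622 D14900 (iv D11653) (iv D9128) (iv F42759)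
theorem F68137 : act 4 n14900 = n12549 := d18_2 (iv F53799) D14900 (iv D12549)
theorem F68138 : act 5 n14900 = n11857 := d19_2 (iv F53800) D14900 (iv D11857)
theorem F68139 : act 7 n14900 = n11625 := d21_2 (iv F53801) D14900 (iv D11625)
theorem F68140 : act 9 n14900 = n11732 := d23_2 (iv F53802) D14900 (iv D11732)
def n14901 : Q := act 6 n11622
theorem D14901 : act 6 n11622 = n14901 := rfl
theorem F68141 : act 0 n14901 = n12407 := d5_1 D14901 (iv D12407) (iv F53798)
theorem F68142 : act 3 n14901 = n11623 := d26_1 D14901 (iv D11623) D11622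
theorem F68143 : act 4 n14901 = n12550 := d31_1 D14901 (iv D12550) (iv F53799)
theorem F68144 : act 9 n14901 = n11733 := d41_2 (iv F53802) D14901 (iv D11733)
def n14902 : Q := act 5 n11623
theorem D14902 : act 5 n11623 = n14902 := rfl
theorem F68145 : act 0 n14902 = n12408 := d4_1 D14902 (iv D12408) (iv F53803)
theorem F68146 : act 2 n14902 = n11655 := d19_1 D14902 (iv D11655) (iv F53804)
theorem F68147 : act 4 n14902 = n14902 := d30_1 D14902 (iv D14902) F53805 F42766 (iv F53805)
theorem F68148 : act 6 n14902 = n11859 := d35_2 D11623 D14902 (iv D11859) (iv D9284) (iv F42760)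
theorem F68149 : act 9 n14902 = n11734 := d38_2 (iv F53806) D14902 (iv D11734)
def n14903 : Q := act 7 n11623
theorem D14903 : act 7 n11623 = n14903 := rfl
theorem F68150 : act 0 n14903 = n12409 := d6_1 D14903 (iv D12409) (iv F53803)
theorem F68151 : act 2 n14903 = n11656 := d21_1 D14903 (iv D11656) (iv F53804)
theorem F68152 : act 4 n14903 = n11624 := d32_1 D14903 (iv D11624) (iv F53805)
theorem F68153 : act 6 n14903 = n11628 := d39_1 D14903 (iv D11628) (iv D9110) (iv F42761) D11623
theorem F68154 : act 9 n14903 = n11735 := d43_2 (iv F53806) D14903 (iv D11735)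
def n14904 : Q := act 1 n11625
theorem D14904 : act 1 n11625 = n14904 := rfl
theorem F68155 : act 3 n14904 = n11657 := d10_2 (iv F53814) D14904 (iv D11657)
theorem F68156 : act 5 n14904 = n11861 := d12_2 (iv F53815) D14904 (iv D11861)
theorem F68157 : act 9 n14904 = n11736 := d16_2 (iv F53816) D14904 (iv D11736)
def n14905 : Q := act 6 n11625
theorem D14905 : act 6 n11625 = n14905 := rfl
theorem F68158 : act 0 n14905 = n12411 := d5_1 D14905 (iv D12411) (iv F53813)
theorem F68159 : act 2 n14905 = n11626 := d20_1 D14905 (iv D11626) D11625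
theorem F68160 : act 3 n14905 = n11658 := d26_1 D14905 (iv D11658) (iv F53814)
theorem F68161 : act 9 n14905 = n11737 := d41_2 (iv F53816) D14905 (iv D11737)
def n14906 : Q := act 5 n11626
theorem D14906 : act 5 n11626 = n14906 := rfl
theorem F68162 : act 0 n14906 = n12412 := d4_1 D14906 (iv D12412) (iv F53817)
theorem F68163 : act 3 n14906 = n11627 := d25_1 D14906 (iv D11627) (iv F53818)
theorem F68164 : act 6 n14906 = n11863 := d35_2 D11626 D14906 (iv D11863) (iv D9287) (iv F42769)
theorem F68165 : act 9 n14906 = n11738 := d38_2 (iv F53819) D14906 (iv D11738)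
def n14907 : Q := act 7 n11626
theorem D14907 : act 7 n11626 = n14907 := rfl
theorem F68166 : act 0 n14907 = n12413 := d6_1 D14907 (iv D12413) (iv F53817)
theorem F68167 : act 3 n14907 = n11628 := d27_1 D14907 (iv D11628) (iv F53818)
theorem F68168 : act 9 n14907 = n11739 := d43_2 (iv F53819) D14907 (iv D11739)
def n14908 : Q := act 7 n11627
theorem D14908 : act 7 n11627 = n14908 := rfl
theorem F68169 : act 0 n14908 = n12414 := d6_1 D14908 (iv D12414) (iv F53820)
theorem F68170 : act 2 n14908 = n11661 := d21_1 D14908 (iv D11661) (iv F53821)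
theorem F68171 : act 4 n14908 = n11631 := d32_1 D14908 (iv D11631) (iv F53822)
theorem F68172 : act 5 n14908 = n11628 := d36_1 D14908 (iv D11628) D11627
theorem F68173 : act 9 n14908 = n11740 := d43_2 (iv F53824) D14908 (iv D11740)
def n14909 : Q := act 8 n11627
theorem D14909 : act 8 n11627 = n14909 := rfl
theorem F68174 : act 0 n14909 = n12415 := d7_1 D14909 (iv D12415) (iv F53820)
theorem F68175 : act 2 n14909 = n11662 := d22_1 D14909 (iv D11662) (iv F53821)
theorem F68176 : act 4 n14909 = n11632 := d33_1 D14909 (iv D11632) (iv F53822)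
theorem F68177 : act 6 n14909 = n11866 := d40_1 D14909 (iv D11866) (iv F53823)
def n14910 : Q := act 4 n11629
theorem D14910 : act 4 n11629 = n14910 := rfl
theorem F68178 : act 0 n14910 = n12416 := d3_1 D14910 (iv D12416) (iv F53829)
theorem F68179 : act 2 n14910 = n14910 := d18_1 D14910 (iv D14910) F53830
theorem F68180 : act 6 n14910 = n11867 := d31_2 (iv F53832) D14910 (iv D11867)
theorem F68181 : act 9 n14910 = n11742 := d34_2 (iv F53833) D14910 (iv D11742)
def n14911 : Q := act 7 n11629
theorem D14911 : act 7 n11629 = n14911 := rfl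
theorem F68182 : act 0 n14911 = n12417 := d6_1 D14911 (iv D12417) (iv F53829)
theorem F68183 : act 2 n14911 = n14911 := d21_1 D14911 (iv D14911) F53830
theorem F68184 : act 3 n14911 = n11631 := d27_1 D14911 (iv D11631) (iv F53831)
theorem F68185 : act 5 n14911 = n11630 := d36_1 D14911 (iv D11630) D11629
theorem F68186 : act 9 n14911 = n11743 := d43_2 (iv F53833) D14911 (iv D11743)
def n14912 : Q := act 8 n11629
theorem D14912 : act 8 n11629 = n14912 := rfl
theorem F68187 : act 0 n14912 = n12418 := d7_1 D14912 (iv D12418) (iv F53829)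
theorem F68188 : act 2 n14912 = n14912 := d22_1 D14912 (iv D14912) F53830
theorem F68189 : act 3 n14912 = n11632 := d28_1 D14912 (iv D11632) (iv F53831)
theorem F68190 : act 6 n14912 = n11869 := d40_1 D14912 (iv D11869) (iv F53832)
def n14913 : Q := act 6 n11631
theorem D14913 : act 6 n11631 = n14913 := rfl
theorem F68191 : act 0 n14913 = n12419 := d5_1 D14913 (iv D12419) (iv F53839)
theorem F68192 : act 2 n14913 = n11663 := d20_1 D14913 (iv D11663) (iv F53840)
theorem F68193 : act 5 n14913 = n14913 := d35_1 D14913 (iv D14913) F53841 F42790 (iv F53841)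
theorem F68194 : act 7 n14913 = n11870 := d39_2 D11631 D14913 (iv D11870) (iv D9292) (iv F42785)
theorem F68195 : act 9 n14913 = n11745 := d41_2 (iv F53842) D14913 (iv D11745)
def n14914 : Q := act 8 n11631
theorem D14914 : act 8 n11631 = n14914 := rfl
theorem F68196 : act 0 n14914 = n12420 := d7_1 D14914 (iv D12420) (iv F53839)
theorem F68197 : act 2 n14914 = n11664 := d22_1 D14914 (iv D11664) (iv F53840)
theorem F68198 : act 7 n14914 = n11632 := d42_1 D14914 (iv D11632) D11631
def n14915 : Q := act 9 n11632
theorem D14915 : act 9 n11632 = n14915 := rfl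
theorem F68199 : act 0 n14915 = n12421 := d8_1 D14915 (iv D12421) (iv F53843)
theorem F68200 : act 2 n14915 = n11665 := d23_1 D14915 (iv D11665) (iv F53844)
theorem F68201 : act 6 n14915 = n11872 := d41_1 D14915 (iv D11872) (iv F53845)
theorem F68202 : act 8 n14915 = n11747 := d44_1 D14915 (iv D11747) (iv D9196) (iv F42786) D11632
def n14916 : Q := act 4 n11633
theorem D14916 : act 4 n11633 = n14916 := rfl
theorem F68203 : act 0 n14916 = n12422 := d3_1 D14916 (iv D12422) (iv F53846)
theorem F68204 : act 1 n14916 = n14916 := d11_1 D14916 (iv D14916) F53847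
theorem F68205 : act 5 n14916 = n11641 := d30_2 D11633 D14916 (iv D11641) (iv D9120) (iv F42795)
theorem F68206 : act 7 n14916 = n13137 := d32_2 (iv F53849) D14916 (iv D13137)
theorem F68207 : act 8 n14916 = n13358 := d33_2 (iv F53850) D14916 (iv D13358)
theorem F68208 : act 9 n14916 = n12111 := d34_2 (iv F53851) D14916 (iv D12111)
def n14917 : Q := act 6 n11633
theorem D14917 : act 6 n11633 = n14917 := rfl
theorem F68209 : act 0 n14917 = n12423 := d5_1 D14917 (iv D12423) (iv F53846)
theorem F68210 : act 1 n14917 = n14917 := d13_1 D14917 (iv D14917) F53847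
theorem F68211 : act 3 n14917 = n14917 := d26_1 D14917 (iv D14917) F53848
theorem F68212 : act 5 n14917 = n11635 := d35_1 D14917 (iv D11635) (iv D9116) (iv F42796) D11633
theorem F68213 : act 8 n14917 = n13359 := d40_2 (iv F53850) D14917 (iv D13359)
theorem F68214 : act 9 n14917 = n12112 := d41_2 (iv F53851) D14917 (iv D12112)
def n14918 : Q := act 3 n11634
theorem D14918 : act 3 n11634 = n14918 := rfl
theorem F68215 : act 0 n14918 = n12424 := d2_1 D14918 (iv D12424) (iv F53852)
theorem F68216 : act 1 n14918 = n14918 := d10_1 D14918 (iv D14918) F53853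
theorem F68217 : act 4 n14918 = n14918 := d24_2 D11634 D14918 (iv D14918) (iv D11634) F42801
theorem F68218 : act 5 n14918 = n11643 := d25_2 (iv F53854) D14918 (iv D11643)
theorem F68219 : act 7 n14918 = n11638 := d27_2 (iv F53855) D14918 (iv D11638)
theorem F68220 : act 8 n14918 = n11875 := d28_2 (iv F53856) D14918 (iv D11875)
theorem F68221 : act 9 n14918 = n12176 := d29_2 (iv F53857) D14918 (iv D12176)
def n14919 : Q := act 6 n11634
theorem D14919 : act 6 n11634 = n14919 := rfl
theorem F68222 : act 0 n14919 = n12425 := d5_1 D14919 (iv D12425) (iv F53852)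
theorem F68223 : act 1 n14919 = n14919 := d13_1 D14919 (iv D14919) F53853
theorem F68224 : act 4 n14919 = n11635 := d31_1 D14919 (iv D11635) D11634
theorem F68225 : act 8 n14919 = n11876 := d40_2 (iv F53856) D14919 (iv D11876)
theorem F68226 : act 9 n14919 = n12177 := d41_2 (iv F53857) D14919 (iv D12177)
def n14920 : Q := act 7 n11635
theorem D14920 : act 7 n11635 = n14920 := rfl
theorem F68227 : act 0 n14920 = n12426 := d6_1 D14920 (iv D12426) (iv F53858)
theorem F68228 : act 1 n14920 = n14920 := d14_1 D14920 (iv D14920) F53859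
theorem F68229 : act 3 n14920 = n14920 := d27_1 D14920 (iv D14920) F53860
theorem F68230 : act 6 n14920 = n11640 := d39_1 D14920 (iv D11640) (iv D9119) (iv F42802) D11635
theorem F68231 : act 8 n14920 = n11877 := d42_2 (iv F53861) D14920 (iv D11877)
theorem F68232 : act 9 n14920 = n12178 := d43_2 (iv F53862) D14920 (iv D12178)
def n14921 : Q := act 3 n11636
theorem D14921 : act 3 n11636 = n14921 := rfl
theorem F68233 : act 0 n14921 = n12427 := d2_1 D14921 (iv D12427) (iv F53863)
theorem F68234 : act 1 n14921 = n14921 := d10_1 D14921 (iv D14921) F53864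
theorem F68235 : act 4 n14921 = n14921 := d24_2 D11636 D14921 (iv D14921) (iv D11636) F42807
theorem F68236 : act 5 n14921 = n11646 := d25_2 (iv F53865) D14921 (iv D11646)
theorem F68237 : act 7 n14921 = n12176 := d27_2 (iv F53866) D14921 (iv D12176)
theorem F68238 : act 8 n14921 = n14921 := d28_2 F53867 D14921 (iv D14921)
theorem F68239 : act 9 n14921 = n11638 := d29_2 (iv F53868) D14921 (iv D11638)
def n14922 : Q := act 6 n11636
theorem D14922 : act 6 n11636 = n14922 := rfl
theorem F68240 : act 0 n14922 = n12428 := d5_1 D14922 (iv D12428) (iv F53863)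
theorem F68241 : act 1 n14922 = n14922 := d13_1 D14922 (iv D14922) F53864
theorem F68242 : act 4 n14922 = n11637 := d31_1 D14922 (iv D11637) D11636
theorem F68243 : act 8 n14922 = n14922 := d40_2 F53867 D14922 (iv D14922)
theorem F68244 : act 9 n14922 = n11639 := d41_2 (iv F53868) D14922 (iv D11639)
def n14923 : Q := act 7 n11637
theorem D14923 : act 7 n11637 = n14923 := rfl
theorem F68245 : act 0 n14923 = n12429 := d6_1 D14923 (iv D12429) (iv F53869)
theorem F68246 : act 1 n14923 = n14923 := d14_1 D14923 (iv D14923) F53870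
theorem F68247 : act 3 n14923 = n14923 := d27_1 D14923 (iv D14923) F53871
theorem F68248 : act 6 n14923 = n12178 := d39_1 D14923 (iv D12178) (iv D9522) (iv F42808) D11637
theorem F68249 : act 8 n14923 = n14923 := d42_2 F53872 D14923 (iv D14923)
theorem F68250 : act 9 n14923 = n11640 := d43_2 (iv F53873) D14923 (iv D11640)
def n14924 : Q := act 2 n11638
theorem D14924 : act 2 n11638 = n14924 := rfl
theorem F68251 : act 0 n14924 = n12430 := d1_1 D14924 (iv D12430) (iv F53874)
theorem F68252 : act 4 n14924 = n14924 := d18_2 F53876 D14924 (iv D14924)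
theorem F68253 : act 5 n14924 = n11649 := d19_2 (iv F53877) D14924 (iv D11649)
theorem F68254 : act 8 n14924 = n11878 := d22_2 (iv F53878) D14924 (iv D11878)
def n14925 : Q := act 6 n11638
theorem D14925 : act 6 n11638 = n14925 := rfl
theorem F68255 : act 0 n14925 = n12431 := d5_1 D14925 (iv D12431) (iv F53874)
theorem F68256 : act 1 n14925 = n14925 := d13_1 D14925 (iv D14925) F53875
theorem F68257 : act 3 n14925 = n11639 := d26_1 D14925 (iv D11639) D11638
theorem F68258 : act 4 n14925 = n14925 := d31_1 D14925 (iv D14925) F53876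
theorem F68259 : act 8 n14925 = n11879 := d40_2 (iv F53878) D14925 (iv D11879)
def n14926 : Q := act 5 n11639
theorem D14926 : act 5 n11639 = n14926 := rfl
theorem F68260 : act 0 n14926 = n12432 := d4_1 D14926 (iv D12432) (iv F53879)
theorem F68261 : act 1 n14926 = n14926 := d12_1 D14926 (iv D14926) F53880
theorem F68262 : act 6 n14926 = n11651 := d35_2 D11639 D14926 (iv D11651) (iv D9126) (iv F42813)
def n14927 : Q := act 7 n11639
theorem D14927 : act 7 n11639 = n14927 := rfl
theorem F68263 : act 0 n14927 = n12433 := d6_1 D14927 (iv D12433) (iv F53879)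
theorem F68264 : act 1 n14927 = n14927 := d14_1 D14927 (iv D14927) F53880
theorem F68265 : act 4 n14927 = n11640 := d32_1 D14927 (iv D11640) (iv F53881)
theorem F68266 : act 8 n14927 = n11881 := d42_2 (iv F53882) D14927 (iv D11881)
def n14928 : Q := act 3 n11641
theorem D14928 : act 3 n11641 = n14928 := rfl
theorem F68267 : act 0 n14928 = n12434 := d2_1 D14928 (iv D12434) (iv F53887)
theorem F68268 : act 1 n14928 = n14928 := d10_1 D14928 (iv D14928) F53888
theorem F68269 : act 4 n14928 = n11666 := d24_2 D11641 D14928 (iv D11666) (iv D9137) (iv F42821)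
theorem F68270 : act 8 n14928 = n14928 := d28_2 F53889 D14928 (iv D14928)
theorem F68271 : act 9 n14928 = n12115 := d29_2 (iv F53890) D14928 (iv D12115)
def n14929 : Q := act 6 n11641
theorem D14929 : act 6 n11641 = n14929 := rfl
theorem F68272 : act 0 n14929 = n12435 := d5_1 D14929 (iv D12435) (iv F53887)
theorem F68273 : act 1 n14929 = n14929 := d13_1 D14929 (iv D14929) F53888
theorem F68274 : act 4 n14929 = n11642 := d31_1 D14929 (iv D11642) D11641
theorem F68275 : act 8 n14929 = n14929 := d40_2 F53889 D14929 (iv D14929)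
theorem F68276 : act 9 n14929 = n12116 := d41_2 (iv F53890) D14929 (iv D12116)
def n14930 : Q := act 7 n11642
theorem D14930 : act 7 n11642 = n14930 := rfl
theorem F68277 : act 0 n14930 = n12436 := d6_1 D14930 (iv D12436) (iv F53891)
theorem F68278 : act 1 n14930 = n14930 := d14_1 D14930 (iv D14930) F53892
theorem F68279 : act 3 n14930 = n11668 := d27_1 D14930 (iv D11668) (iv F53893)
theorem F68280 : act 5 n14930 = n11645 := d36_1 D14930 (iv D11645) (iv F53894)
theorem F68281 : act 8 n14930 = n14930 := d42_2 F53895 D14930 (iv D14930)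
theorem F68282 : act 9 n14930 = n12117 := d43_2 (iv F53896) D14930 (iv D12117)
def n14931 : Q := act 2 n11643
theorem D14931 : act 2 n11643 = n14931 := rfl
theorem F68283 : act 0 n14931 = n12437 := d1_1 D14931 (iv D12437) (iv F53897)
theorem F68284 : act 4 n14931 = n11669 := d18_2 (iv F53899) D14931 (iv D11669)
theorem F68285 : act 7 n14931 = n11649 := d21_2 (iv F53900) D14931 (iv D11649)
theorem F68286 : act 8 n14931 = n11653 := d22_2 (iv F53901) D14931 (iv D11653)
theorem F68287 : act 9 n14931 = n12179 := d23_2 (iv F53902) D14931 (iv D12179)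
def n14932 : Q := act 6 n11643
theorem D14932 : act 6 n11643 = n14932 := rfl
theorem F68288 : act 0 n14932 = n12438 := d5_1 D14932 (iv D12438) (iv F53897)
theorem F68289 : act 1 n14932 = n14932 := d13_1 D14932 (iv D14932) F53898
theorem F68290 : act 3 n14932 = n11644 := d26_1 D14932 (iv D11644) D11643
theorem F68291 : act 4 n14932 = n11670 := d31_1 D14932 (iv D11670) (iv F53899)
theorem F68292 : act 8 n14932 = n11654 := d40_2 (iv F53901) D14932 (iv D11654)
theorem F68293 : act 9 n14932 = n12180 := d41_2 (iv F53902) D14932 (iv D12180)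
def n14933 : Q := act 5 n11644
theorem D14933 : act 5 n11644 = n14933 := rfl
theorem F68294 : act 0 n14933 = n12439 := d4_1 D14933 (iv D12439) (iv F53903)
theorem F68295 : act 1 n14933 = n14933 := d12_1 D14933 (iv D14933) F53904
theorem F68296 : act 9 n14933 = n12181 := d38_2 (iv F53907) D14933 (iv D12181)
def n14934 : Q := act 7 n11644
theorem D14934 : act 7 n11644 = n14934 := rfl
theorem F68297 : act 0 n14934 = n12440 := d6_1 D14934 (iv D12440) (iv F53903)
theorem F68298 : act 1 n14934 = n14934 := d14_1 D14934 (iv D14934) F53904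
theorem F68299 : act 4 n14934 = n11645 := d32_1 D14934 (iv D11645) (iv F53905)
theorem F68300 : act 6 n14934 = n11652 := d39_1 D14934 (iv D11652) (iv D9126) (iv F42826) D11644
theorem F68301 : act 8 n14934 = n11656 := d42_2 (iv F53906) D14934 (iv D11656)
theorem F68302 : act 9 n14934 = n12182 := d43_2 (iv F53907) D14934 (iv D12182)
def n14935 : Q := act 2 n11646
theorem D14935 : act 2 n11646 = n14935 := rfl
theorem F68303 : act 0 n14935 = n12441 := d1_1 D14935 (iv D12441) (iv F53914)
theorem F68304 : act 4 n14935 = n11673 := d18_2 (iv F53916) D14935 (iv D11673)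
theorem F68305 : act 7 n14935 = n12179 := d21_2 (iv F53917) D14935 (iv D12179)
theorem F68306 : act 8 n14935 = n11748 := d22_2 (iv F53918) D14935 (iv D11748)
theorem F68307 : act 9 n14935 = n11649 := d23_2 (iv F53919) D14935 (iv D11649)
def n14936 : Q := act 6 n11646
theorem D14936 : act 6 n11646 = n14936 := rfl
theorem F68308 : act 0 n14936 = n12442 := d5_1 D14936 (iv D12442) (iv F53914)
theorem F68309 : act 1 n14936 = n14936 := d13_1 D14936 (iv D14936) F53915
theorem F68310 : act 3 n14936 = n11647 := d26_1 D14936 (iv D11647) D11646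
theorem F68311 : act 4 n14936 = n11674 := d31_1 D14936 (iv D11674) (iv F53916)
theorem F68312 : act 8 n14936 = n11749 := d40_2 (iv F53918) D14936 (iv D11749)
theorem F68313 : act 9 n14936 = n11650 := d41_2 (iv F53919) D14936 (iv D11650)
def n14937 : Q := act 5 n11647
theorem D14937 : act 5 n11647 = n14937 := rfl
theorem F68314 : act 0 n14937 = n12443 := d4_1 D14937 (iv D12443) (iv F53920)
theorem F68315 : act 1 n14937 = n14937 := d12_1 D14937 (iv D14937) F53921
theorem F68316 : act 9 n14937 = n11651 := d38_2 (iv F53924) D14937 (iv D11651)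
def n14938 : Q := act 7 n11647
theorem D14938 : act 7 n11647 = n14938 := rfl
theorem F68317 : act 0 n14938 = n12444 := d6_1 D14938 (iv D12444) (iv F53920)
theorem F68318 : act 1 n14938 = n14938 := d14_1 D14938 (iv D14938) F53921
theorem F68319 : act 4 n14938 = n11648 := d32_1 D14938 (iv D11648) (iv F53922)
theorem F68320 : act 6 n14938 = n12182 := d39_1 D14938 (iv D12182) (iv D9524) (iv F42836) D11647
theorem F68321 : act 8 n14938 = n11751 := d42_2 (iv F53923) D14938 (iv D11751)
theorem F68322 : act 9 n14938 = n11652 := d43_2 (iv F53924) D14938 (iv D11652)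
def n14939 : Q := act 1 n11649
theorem D14939 : act 1 n11649 = n14939 := rfl
theorem F68323 : act 2 n14939 = n14939 := d9_2 D11649 D14939 (iv D14939) (iv D11649) F42845
theorem F68324 : act 4 n14939 = n11677 := d11_2 (iv F53932) D14939 (iv D11677)
theorem F68325 : act 8 n14939 = n11657 := d15_2 (iv F53933) D14939 (iv D11657)
def n14940 : Q := act 6 n11649
theorem D14940 : act 6 n11649 = n14940 := rfl
theorem F68326 : act 0 n14940 = n12446 := d5_1 D14940 (iv D12446) (iv F53931)
theorem F68327 : act 2 n14940 = n11650 := d20_1 D14940 (iv D11650) D11649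
theorem F68328 : act 4 n14940 = n11678 := d31_1 D14940 (iv D11678) (iv F53932)
theorem F68329 : act 8 n14940 = n11658 := d40_2 (iv F53933) D14940 (iv D11658)
def n14941 : Q := act 5 n11650
theorem D14941 : act 5 n11650 = n14941 := rfl
theorem F68330 : act 0 n14941 = n12447 := d4_1 D14941 (iv D12447) (iv F53934)
theorem F68331 : act 1 n14941 = n14941 := d12_1 D14941 (iv D14941) F53935
theorem F68332 : act 3 n14941 = n11651 := d25_1 D14941 (iv D11651) (iv F53936)
def n14942 : Q := act 7 n11650
theorem D14942 : act 7 n11650 = n14942 := rfl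
theorem F68333 : act 0 n14942 = n12448 := d6_1 D14942 (iv D12448) (iv F53934)
theorem F68334 : act 1 n14942 = n14942 := d14_1 D14942 (iv D14942) F53935
theorem F68335 : act 3 n14942 = n11652 := d27_1 D14942 (iv D11652) (iv F53936)
theorem F68336 : act 4 n14942 = n11680 := d32_1 D14942 (iv D11680) (iv F53937)
theorem F68337 : act 8 n14942 = n11660 := d42_2 (iv F53938) D14942 (iv D11660)
def n14943 : Q := act 7 n11651
theorem D14943 : act 7 n11651 = n14943 := rfl
theorem F68338 : act 0 n14943 = n12449 := d6_1 D14943 (iv D12449) (iv F53939)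
theorem F68339 : act 1 n14943 = n14943 := d14_1 D14943 (iv D14943) F53940
theorem F68340 : act 5 n14943 = n11652 := d36_1 D14943 (iv D11652) D11651
def n14944 : Q := act 8 n11651
theorem D14944 : act 8 n11651 = n14944 := rfl
theorem F68341 : act 0 n14944 = n12450 := d7_1 D14944 (iv D12450) (iv F53939)
theorem F68342 : act 1 n14944 = n14944 := d15_1 D14944 (iv D14944) F53940
theorem F68343 : act 5 n14944 = n11662 := d37_1 D14944 (iv D11662) (iv D9133) (iv F42851) D11651
def n14945 : Q := act 1 n11653
theorem D14945 : act 1 n11653 = n14945 := rfl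
theorem F68344 : act 2 n14945 = n14945 := d9_2 D11653 D14945 (iv D14945) (iv D11653) F42857
theorem F68345 : act 4 n14945 = n11682 := d11_2 (iv F53946) D14945 (iv D11682)
theorem F68346 : act 5 n14945 = n11895 := d12_2 (iv F53947) D14945 (iv D11895)
theorem F68347 : act 7 n14945 = n11657 := d14_2 (iv F53948) D14945 (iv D11657)
theorem F68348 : act 9 n14945 = n11758 := d16_2 (iv F53949) D14945 (iv D11758)
def n14946 : Q := act 6 n11653
theorem D14946 : act 6 n11653 = n14946 := rfl
theorem F68350 : act 2 n14946 = n11654 := d20_1 D14946 (iv D11654) D11653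
theorem F68351 : act 4 n14946 = n11683 := d31_1 D14946 (iv D11683) (iv F53946)
theorem F68352 : act 9 n14946 = n11759 := d41_2 (iv F53949) D14946 (iv D11759)
def n14947 : Q := act 5 n11654
theorem D14947 : act 5 n11654 = n14947 := rfl
theorem F68356 : act 6 n14947 = n11897 := d35_2 D11654 D14947 (iv D11897) (iv D9310) (iv F42859)
def n14948 : Q := act 7 n11654
theorem D14948 : act 7 n11654 = n14948 := rfl
theorem F68358 : act 0 n14948 = n12454 := d6_1 D14948 (iv D12454) (iv F53950)
theorem F68359 : act 1 n14948 = n14948 := d14_1 D14948 (iv D14948) F53951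
theorem F68360 : act 3 n14948 = n11656 := d27_1 D14948 (iv D11656) (iv F53952)
theorem F68361 : act 4 n14948 = n11685 := d32_1 D14948 (iv D11685) (iv F53953)
theorem F68362 : act 6 n14948 = n11660 := d39_1 D14948 (iv D11660) (iv D9132) (iv F42860) D11654
theorem F68363 : act 9 n14948 = n11761 := d43_2 (iv F53954) D14948 (iv D11761)
def n14949 : Q := act 7 n11655
theorem D14949 : act 7 n11655 = n14949 := rfl
theorem F68364 : act 0 n14949 = n12455 := d6_1 D14949 (iv D12455) (iv F53955)
theorem F68365 : act 1 n14949 = n14949 := d14_1 D14949 (iv D14949) F53956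
theorem F68366 : act 4 n14949 = n14949 := d32_1 D14949 (iv D14949) F53957
theorem F68367 : act 5 n14949 = n11656 := d36_1 D14949 (iv D11656) D11655
theorem F68368 : act 9 n14949 = n11762 := d43_2 (iv F53959) D14949 (iv D11762)
def n14950 : Q := act 8 n11655
theorem D14950 : act 8 n11655 = n14950 := rfl
theorem F68369 : act 0 n14950 = n12456 := d7_1 D14950 (iv D12456) (iv F53955)
theorem F68370 : act 1 n14950 = n14950 := d15_1 D14950 (iv D14950) F53956
theorem F68371 : act 4 n14950 = n14950 := d33_1 D14950 (iv D14950) F53957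
theorem F68372 : act 6 n14950 = n11900 := d40_1 D14950 (iv D11900) (iv F53958)
def n14951 : Q := act 0 n11657
theorem D14951 : act 0 n11657 = n14951 := rfl
theorem F68373 : act 1 n14951 = n12457 := d0_2 D11657 D14951 (iv D12457) (iv D9720) (iv F42872)
theorem F68374 : act 2 n14951 = n14951 := d1_2 F53965 D14951 (iv D14951)
theorem F68375 : act 4 n14951 = n11688 := d3_2 (iv F53966) D14951 (iv D11688)
theorem F68377 : act 9 n14951 = n11764 := d8_2 (iv F53968) D14951 (iv D11764)
def n14952 : Q := act 6 n11657
theorem D14952 : act 6 n11657 = n14952 := rfl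
theorem F68378 : act 1 n14952 = n11658 := d13_1 D14952 (iv D11658) D11657
theorem F68379 : act 2 n14952 = n14952 := d20_1 D14952 (iv D14952) F53965
theorem F68380 : act 4 n14952 = n11689 := d31_1 D14952 (iv D11689) (iv F53966)
theorem F68381 : act 9 n14952 = n11765 := d41_2 (iv F53968) D14952 (iv D11765)
def n14953 : Q := act 5 n11658
theorem D14953 : act 5 n11658 = n14953 := rfl
theorem F68382 : act 0 n14953 = n12459 := d4_1 D14953 (iv D12459) (iv F53969)
theorem F68383 : act 2 n14953 = n11659 := d19_1 D14953 (iv D11659) (iv F53970)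
theorem F68384 : act 4 n14953 = n14953 := d30_1 D14953 (iv D14953) F53971 F42988 (iv F53971)
theorem F68385 : act 6 n14953 = n11903 := d35_2 D11658 D14953 (iv D11903) (iv D9314) (iv F42874)
theorem F68386 : act 9 n14953 = n11766 := d38_2 (iv F53972) D14953 (iv D11766)
def n14954 : Q := act 7 n11658
theorem D14954 : act 7 n11658 = n14954 := rfl
theorem F68387 : act 0 n14954 = n12460 := d6_1 D14954 (iv D12460) (iv F53969)
theorem F68388 : act 2 n14954 = n11660 := d21_1 D14954 (iv D11660) (iv F53970)
theorem F68389 : act 4 n14954 = n11690 := d32_1 D14954 (iv D11690) (iv F53971)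
theorem F68390 : act 9 n14954 = n11767 := d43_2 (iv F53972) D14954 (iv D11767)
def n14955 : Q := act 7 n11659
theorem D14955 : act 7 n11659 = n14955 := rfl
theorem F68391 : act 0 n14955 = n12461 := d6_1 D14955 (iv D12461) (iv F53973)
theorem F68392 : act 1 n14955 = n14955 := d14_1 D14955 (iv D14955) F53974
theorem F68393 : act 3 n14955 = n11661 := d27_1 D14955 (iv D11661) (iv F53975)
theorem F68394 : act 4 n14955 = n14955 := d32_1 D14955 (iv D14955) F53976
theorem F68395 : act 5 n14955 = n11660 := d36_1 D14955 (iv D11660) D11659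
theorem F68396 : act 9 n14955 = n11768 := d43_2 (iv F53978) D14955 (iv D11768)
def n14956 : Q := act 8 n11659
theorem D14956 : act 8 n11659 = n14956 := rfl
theorem F68397 : act 0 n14956 = n12462 := d7_1 D14956 (iv D12462) (iv F53973)
theorem F68398 : act 1 n14956 = n14956 := d15_1 D14956 (iv D14956) F53974
theorem F68399 : act 3 n14956 = n11662 := d28_1 D14956 (iv D11662) (iv F53975)
theorem F68400 : act 4 n14956 = n14956 := d33_1 D14956 (iv D14956) F53976
theorem F68401 : act 6 n14956 = n11906 := d40_1 D14956 (iv D11906) (iv F53977)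
def n14957 : Q := act 6 n11661
theorem D14957 : act 6 n11661 = n14957 := rfl
theorem F68402 : act 0 n14957 = n12463 := d5_1 D14957 (iv D12463) (iv F53984)
theorem F68403 : act 1 n14957 = n14957 := d13_1 D14957 (iv D14957) F53985
theorem F68404 : act 4 n14957 = n11663 := d31_1 D14957 (iv D11663) (iv F53986)
theorem F68405 : act 7 n14957 = n11907 := d39_2 D11661 D14957 (iv D11907) (iv D9317) (iv F42884)
theorem F68406 : act 9 n14957 = n11770 := d41_2 (iv F53988) D14957 (iv D11770)
def n14958 : Q := act 8 n11661
theorem D14958 : act 8 n11661 = n14958 := rfl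
theorem F68407 : act 0 n14958 = n12464 := d7_1 D14958 (iv D12464) (iv F53984)
theorem F68408 : act 1 n14958 = n14958 := d15_1 D14958 (iv D14958) F53985
theorem F68409 : act 4 n14958 = n11664 := d33_1 D14958 (iv D11664) (iv F53986)
theorem F68410 : act 7 n14958 = n11662 := d42_1 D14958 (iv D11662) D11661
def n14959 : Q := act 9 n11662
theorem D14959 : act 9 n11662 = n14959 := rfl
theorem F68411 : act 0 n14959 = n12465 := d8_1 D14959 (iv D12465) (iv F53989)
theorem F68412 : act 1 n14959 = n14959 := d16_1 D14959 (iv D14959) F53990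
theorem F68413 : act 4 n14959 = n11665 := d34_1 D14959 (iv D11665) (iv F53991)
theorem F68414 : act 6 n14959 = n11909 := d41_1 D14959 (iv D11909) (iv F53992)
theorem F68415 : act 8 n14959 = n11772 := d44_1 D14959 (iv D11772) (iv D9213) (iv F42885) D11662
def n14960 : Q := act 8 n11663
theorem D14960 : act 8 n11663 = n14960 := rfl
theorem F68416 : act 0 n14960 = n12466 := d7_1 D14960 (iv D12466) (iv F53993)
theorem F68417 : act 1 n14960 = n14960 := d15_1 D14960 (iv D14960) F53994
theorem F68418 : act 3 n14960 = n14960 := d28_1 D14960 (iv D14960) F53995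
theorem F68419 : act 6 n14960 = n11664 := d40_1 D14960 (iv D11664) D11663
theorem F68420 : act 7 n14960 = n11910 := d42_1 D14960 (iv D11910) (iv F53997)
def n14961 : Q := act 9 n11664
theorem D14961 : act 9 n11664 = n14961 := rfl
theorem F68421 : act 0 n14961 = n12467 := d8_1 D14961 (iv D12467) (iv F53999)
theorem F68422 : act 1 n14961 = n14961 := d16_1 D14961 (iv D14961) F54000
theorem F68423 : act 3 n14961 = n14961 := d29_1 D14961 (iv D14961) F54001
theorem F68424 : act 7 n14961 = n11665 := d43_1 D14961 (iv D11665) (iv F54002)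
theorem F68425 : act 8 n14961 = n11774 := d44_1 D14961 (iv D11774) (iv D9215) (iv F42894) D11664
def n14962 : Q := act 2 n11666
theorem D14962 : act 2 n11666 = n14962 := rfl
theorem F68426 : act 0 n14962 = n12468 := d1_1 D14962 (iv D12468) (iv F54008)
theorem F68427 : act 3 n14962 = n12327 := d17_2 D11666 D14962 (iv D12327) (iv D9630) (iv F42901)
theorem F68428 : act 5 n14962 = n14962 := d19_2 F54010 D14962 (iv D14962)
theorem F68429 : act 8 n14962 = n14962 := d22_2 F54011 D14962 (iv D14962)
theorem F68430 : act 9 n14962 = n12130 := d23_2 (iv F54012) D14962 (iv D12130)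
def n14963 : Q := act 6 n11666
theorem D14963 : act 6 n11666 = n14963 := rfl
theorem F68431 : act 0 n14963 = n12469 := d5_1 D14963 (iv D12469) (iv F54008)
theorem F68432 : act 1 n14963 = n14963 := d13_1 D14963 (iv D14963) F54009
theorem F68433 : act 3 n14963 = n11667 := d26_1 D14963 (iv D11667) D11666
theorem F68434 : act 8 n14963 = n14963 := d40_2 F54011 D14963 (iv D14963)
theorem F68435 : act 9 n14963 = n12131 := d41_2 (iv F54012) D14963 (iv D12131)
def n14964 : Q := act 5 n11667
theorem D14964 : act 5 n11667 = n14964 := rfl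
theorem F68436 : act 0 n14964 = n12470 := d4_1 D14964 (iv D12470) (iv F54013)
theorem F68437 : act 1 n14964 = n14964 := d12_1 D14964 (iv D14964) F54014
theorem F68438 : act 2 n14964 = n12329 := d19_1 D14964 (iv D12329) (iv F54015)
theorem F68439 : act 4 n14964 = n11671 := d30_1 D14964 (iv D11671) F42920 (iv F42908) (iv F54016)
theorem F68440 : act 6 n14964 = n14964 := d35_2 D11667 D14964 (iv D14964) (iv D11667) F42902
theorem F68441 : act 9 n14964 = n12132 := d38_2 (iv F54018) D14964 (iv D12132)
def n14965 : Q := act 7 n11667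
theorem D14965 : act 7 n11667 = n14965 := rfl
theorem F68442 : act 0 n14965 = n12471 := d6_1 D14965 (iv D12471) (iv F54013)
theorem F68443 : act 1 n14965 = n14965 := d14_1 D14965 (iv D14965) F54014
theorem F68444 : act 2 n14965 = n12330 := d21_1 D14965 (iv D12330) (iv F54015)
theorem F68445 : act 4 n14965 = n11668 := d32_1 D14965 (iv D11668) (iv F54016)
theorem F68446 : act 8 n14965 = n14965 := d42_2 F54017 D14965 (iv D14965)
theorem F68447 : act 9 n14965 = n12133 := d43_2 (iv F54018) D14965 (iv D12133)
def n14966 : Q := act 1 n11669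
theorem D14966 : act 1 n11669 = n14966 := rfl
theorem F68448 : act 2 n14966 = n14966 := d9_2 D11669 D14966 (iv D14966) (iv D11669) F42912
theorem F68449 : act 3 n14966 = n12478 := d10_2 (iv F54026) D14966 (iv D12478)
theorem F68450 : act 5 n14966 = n14966 := d12_2 F54027 D14966 (iv D14966)
theorem F68451 : act 7 n14966 = n11677 := d14_2 (iv F54028) D14966 (iv D11677)
theorem F68452 : act 8 n14966 = n11682 := d15_2 (iv F54029) D14966 (iv D11682)
theorem F68453 : act 9 n14966 = n12192 := d16_2 (iv F54030) D14966 (iv D12192)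
def n14967 : Q := act 6 n11669
theorem D14967 : act 6 n11669 = n14967 := rfl
theorem F68455 : act 2 n14967 = n11670 := d20_1 D14967 (iv D11670) D11669
theorem F68456 : act 3 n14967 = n12479 := d26_1 D14967 (iv D12479) (iv F54026)
theorem F68457 : act 8 n14967 = n11683 := d40_2 (iv F54029) D14967 (iv D11683)
theorem F68458 : act 9 n14967 = n12193 := d41_2 (iv F54030) D14967 (iv D12193)
def n14968 : Q := act 5 n11670
theorem D14968 : act 5 n11670 = n14968 := rfl
theorem F68459 : act 0 n14968 = n12474 := d4_1 D14968 (iv D12474) (iv F54031)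
theorem F68460 : act 1 n14968 = n14968 := d12_1 D14968 (iv D14968) F54032
theorem F68461 : act 3 n14968 = n11671 := d25_1 D14968 (iv D11671) (iv F54033)
theorem F68462 : act 6 n14968 = n14968 := d35_2 D11670 D14968 (iv D14968) (iv D11670) F42913
theorem F68463 : act 9 n14968 = n12194 := d38_2 (iv F54035) D14968 (iv D12194)
def n14969 : Q := act 7 n11670
theorem D14969 : act 7 n11670 = n14969 := rfl
theorem F68464 : act 0 n14969 = n12475 := d6_1 D14969 (iv D12475) (iv F54031)
theorem F68465 : act 1 n14969 = n14969 := d14_1 D14969 (iv D14969) F54032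
theorem F68466 : act 3 n14969 = n11672 := d27_1 D14969 (iv D11672) (iv F54033)
theorem F68467 : act 6 n14969 = n11680 := d39_1 D14969 (iv D11680) (iv D9146) (iv F42914) D11670
theorem F68468 : act 8 n14969 = n11685 := d42_2 (iv F54034) D14969 (iv D11685)
theorem F68469 : act 9 n14969 = n12195 := d43_2 (iv F54035) D14969 (iv D12195)
def n14970 : Q := act 7 n11671
theorem D14970 : act 7 n11671 = n14970 := rfl
theorem F68470 : act 0 n14970 = n12476 := d6_1 D14970 (iv D12476) (iv F54036)
theorem F68471 : act 1 n14970 = n14970 := d14_1 D14970 (iv D14970) F54037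
theorem F68472 : act 2 n14970 = n12482 := d21_1 D14970 (iv D12482) (iv F54038)
theorem F68473 : act 5 n14970 = n11672 := d36_1 D14970 (iv D11672) D11671
theorem F68474 : act 9 n14970 = n12196 := d43_2 (iv F54040) D14970 (iv D12196)
def n14971 : Q := act 8 n11671
theorem D14971 : act 8 n11671 = n14971 := rfl
theorem F68475 : act 0 n14971 = n12477 := d7_1 D14971 (iv D12477) (iv F54036)
theorem F68476 : act 1 n14971 = n14971 := d15_1 D14971 (iv D14971) F54037
theorem F68477 : act 2 n14971 = n12483 := d22_1 D14971 (iv D12483) (iv F54038)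
theorem F68478 : act 5 n14971 = n11687 := d37_1 D14971 (iv D11687) (iv D9151) (iv F42921) D11671
theorem F68479 : act 6 n14971 = n14971 := d40_1 D14971 (iv D14971) F54039
theorem F68480 : act 9 n14971 = n14971 := d44_2 (iv F54040) D14971 (iv D14971) F54040 F44789
def n14972 : Q := act 1 n11673
theorem D14972 : act 1 n11673 = n14972 := rfl
theorem F68484 : act 7 n14972 = n12192 := d14_2 (iv F54051) D14972 (iv D12192)
theorem F68485 : act 8 n14972 = n11775 := d15_2 (iv F54052) D14972 (iv D11775)
theorem F68486 : act 9 n14972 = n11677 := d16_2 (iv F54053) D14972 (iv D11677)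
def n14973 : Q := act 6 n11673
theorem D14973 : act 6 n11673 = n14973 := rfl
theorem F68487 : act 0 n14973 = n12479 := d5_1 D14973 (iv D12479) (iv F54048)
theorem F68488 : act 2 n14973 = n11674 := d20_1 D14973 (iv D11674) D11673
theorem F68490 : act 8 n14973 = n11776 := d40_2 (iv F54052) D14973 (iv D11776)
theorem F68491 : act 9 n14973 = n11678 := d41_2 (iv F54053) D14973 (iv D11678)
def n14974 : Q := act 5 n11674
theorem D14974 : act 5 n11674 = n14974 := rfl
theorem F68492 : act 0 n14974 = n12480 := d4_1 D14974 (iv D12480) (iv F54054)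
theorem F68493 : act 1 n14974 = n14974 := d12_1 D14974 (iv D14974) F54055
theorem F68494 : act 3 n14974 = n11675 := d25_1 D14974 (iv D11675) (iv F54056)
theorem F68495 : act 6 n14974 = n14974 := d35_2 D11674 D14974 (iv D14974) (iv D11674) F42931
theorem F68496 : act 9 n14974 = n11679 := d38_2 (iv F54058) D14974 (iv D11679)
def n14975 : Q := act 7 n11674
theorem D14975 : act 7 n11674 = n14975 := rfl
theorem F68497 : act 0 n14975 = n12481 := d6_1 D14975 (iv D12481) (iv F54054)
theorem F68498 : act 1 n14975 = n14975 := d14_1 D14975 (iv D14975) F54055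
theorem F68499 : act 3 n14975 = n11676 := d27_1 D14975 (iv D11676) (iv F54056)
theorem F68500 : act 6 n14975 = n12195 := d39_1 D14975 (iv D12195) (iv D9533) (iv F42932) D11674
theorem F68501 : act 8 n14975 = n11778 := d42_2 (iv F54057) D14975 (iv D11778)
theorem F68502 : act 9 n14975 = n11680 := d43_2 (iv F54058) D14975 (iv D11680)
def n14976 : Q := act 7 n11675
theorem D14976 : act 7 n11675 = n14976 := rfl
theorem F68503 : act 0 n14976 = n12482 := d6_1 D14976 (iv D12482) (iv F54059)
theorem F68504 : act 1 n14976 = n14976 := d14_1 D14976 (iv D14976) F54060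
theorem F68505 : act 2 n14976 = n12476 := d21_1 D14976 (iv D12476) (iv F54061)
theorem F68506 : act 5 n14976 = n11676 := d36_1 D14976 (iv D11676) D11675
theorem F68507 : act 9 n14976 = n11681 := d43_2 (iv F54063) D14976 (iv D11681)
def n14977 : Q := act 8 n11675
theorem D14977 : act 8 n11675 = n14977 := rfl
theorem F68508 : act 0 n14977 = n12483 := d7_1 D14977 (iv D12483) (iv F54059)
theorem F68509 : act 1 n14977 = n14977 := d15_1 D14977 (iv D14977) F54060
theorem F68510 : act 2 n14977 = n12477 := d22_1 D14977 (iv D12477) (iv F54061)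
theorem F68511 : act 5 n14977 = n11780 := d37_1 D14977 (iv D11780) (iv D9219) (iv F42939) D11675
theorem F68512 : act 6 n14977 = n14977 := d40_1 D14977 (iv D14977) F54062
theorem F68513 : act 9 n14977 = n14977 := d44_2 (iv F54063) D14977 (iv D14977) F54063 F42957
def n14978 : Q := act 0 n11677
theorem D14978 : act 0 n11677 = n14978 := rfl
theorem F68514 : act 1 n14978 = n12484 := d0_2 D11677 D14978 (iv D12484) (iv D9740) (iv F42947)
theorem F68515 : act 2 n14978 = n14978 := d1_2 F54071 D14978 (iv D14978)
theorem F68516 : act 5 n14978 = n14978 := d4_2 F54072 D14978 (iv D14978)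
theorem F68517 : act 8 n14978 = n11688 := d7_2 (iv F54073) D14978 (iv D11688)
def n14979 : Q := act 6 n11677
theorem D14979 : act 6 n11677 = n14979 := rfl
theorem F68518 : act 1 n14979 = n11678 := d13_1 D14979 (iv D11678) D11677
theorem F68519 : act 2 n14979 = n14979 := d20_1 D14979 (iv D14979) F54071
theorem F68520 : act 8 n14979 = n11689 := d40_2 (iv F54073) D14979 (iv D11689)
def n14980 : Q := act 5 n11678
theorem D14980 : act 5 n11678 = n14980 := rfl
theorem F68521 : act 0 n14980 = n12486 := d4_1 D14980 (iv D12486) (iv F54074)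
theorem F68522 : act 2 n14980 = n11679 := d19_1 D14980 (iv D11679) (iv F54075)
theorem F68523 : act 6 n14980 = n14980 := d35_2 D11678 D14980 (iv D14980) (iv D11678) F42948
theorem F68524 : act 8 n14980 = n14980 := d37_2 (iv F54076) D14980 (iv D14980) F54076 F42988
def n14981 : Q := act 7 n11678
theorem D14981 : act 7 n11678 = n14981 := rfl
theorem F68525 : act 0 n14981 = n12487 := d6_1 D14981 (iv D12487) (iv F54074)
theorem F68526 : act 2 n14981 = n11680 := d21_1 D14981 (iv D11680) (iv F54075)
theorem F68527 : act 8 n14981 = n11690 := d42_2 (iv F54076) D14981 (iv D11690)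
def n14982 : Q := act 4 n11679
theorem D14982 : act 4 n11679 = n14982 := rfl
theorem F68528 : act 0 n14982 = n12488 := d3_1 D14982 (iv D12488) (iv F54077)
theorem F68529 : act 1 n14982 = n14982 := d11_1 D14982 (iv D14982) F54078
theorem F68530 : act 6 n14982 = n14982 := d31_2 F54080 D14982 (iv D14982)
theorem F68531 : act 8 n14982 = n14982 := d33_2 F54081 D14982 (iv D14982)
def n14983 : Q := act 7 n11679
theorem D14983 : act 7 n11679 = n14983 := rfl
theorem F68532 : act 0 n14983 = n12489 := d6_1 D14983 (iv D12489) (iv F54077)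
theorem F68533 : act 1 n14983 = n14983 := d14_1 D14983 (iv D14983) F54078
theorem F68534 : act 3 n14983 = n11681 := d27_1 D14983 (iv D11681) (iv F54079)
theorem F68535 : act 5 n14983 = n11680 := d36_1 D14983 (iv D11680) D11679
theorem F68536 : act 8 n14983 = n14983 := d42_2 F54081 D14983 (iv D14983)
def n14984 : Q := act 6 n11681
theorem D14984 : act 6 n11681 = n14984 := rfl
theorem F68537 : act 0 n14984 = n12490 := d5_1 D14984 (iv D12490) (iv F54086)
theorem F68538 : act 1 n14984 = n14984 := d13_1 D14984 (iv D14984) F54087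
theorem F68539 : act 7 n14984 = n14984 := d39_2 D11681 D14984 (iv D14984) (iv D11681) F42956
theorem F68540 : act 8 n14984 = n14984 := d40_2 F54089 D14984 (iv D14984)
def n14985 : Q := act 0 n11682
theorem D14985 : act 0 n11682 = n14985 := rfl
theorem F68543 : act 3 n14985 = n12620 := d2_2 (iv F54091) D14985 (iv D12620)
theorem F68544 : act 5 n14985 = n11691 := d4_2 (iv F54092) D14985 (iv D11691)
theorem F68545 : act 7 n14985 = n11688 := d6_2 (iv F54093) D14985 (iv D11688)
theorem F68546 : act 9 n14985 = n11787 := d8_2 (iv F54094) D14985 (iv D11787)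
def n14986 : Q := act 6 n11682
theorem D14986 : act 6 n11682 = n14986 := rfl
theorem F68550 : act 9 n14986 = n11788 := d41_2 (iv F54094) D14986 (iv D11788)
def n14988 : Q := act 7 n11683
theorem D14988 : act 7 n11683 = n14988 := rfl
theorem F68557 : act 2 n14988 = n11685 := d21_1 D14988 (iv D11685) (iv F54096)
theorem F68558 : act 3 n14988 = n12623 := d27_1 D14988 (iv D12623) (iv F54097)
theorem F68559 : act 6 n14988 = n11690 := d39_1 D14988 (iv D11690) (iv D9154) (iv F42965) D11683
theorem F68560 : act 9 n14988 = n11790 := d43_2 (iv F54098) D14988 (iv D11790)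
def n14992 : Q := act 8 n11686
theorem D14992 : act 8 n11686 = n14992 := rfl
theorem F68577 : act 0 n14992 = n12498 := d7_1 D14992 (iv D12498) (iv F54109)
theorem F68578 : act 1 n14992 = n14992 := d15_1 D14992 (iv D14992) F54110
theorem F68579 : act 2 n14992 = n12627 := d22_1 D14992 (iv D12627) (iv F54111)
theorem F68580 : act 4 n14992 = n14992 := d33_1 D14992 (iv D14992) F54112
theorem F68581 : act 6 n14992 = n14992 := d40_1 D14992 (iv D14992) F54114
theorem F68582 : act 7 n14992 = n11687 := d42_1 D14992 (iv D11687) D11686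
theorem F68583 : act 9 n14992 = n14992 := d44_2 (iv F54115) D14992 (iv D14992) F54115 F43350
def n14993 : Q := act 6 n11688
theorem D14993 : act 6 n11688 = n14993 := rfl
theorem F68584 : act 0 n14993 = n11689 := d5_1 D14993 (iv D11689) D11688
theorem F68585 : act 1 n14993 = n12499 := d13_1 D14993 (iv D12499) (iv F54122)
theorem F68586 : act 2 n14993 = n14993 := d20_1 D14993 (iv D14993) F54123
theorem F68587 : act 5 n14993 = n14993 := d35_1 D14993 (iv D14993) F54124 F43023 (iv F54124)
theorem F68588 : act 9 n14993 = n11793 := d41_2 (iv F54125) D14993 (iv D11793)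
def n14994 : Q := act 7 n11689
theorem D14994 : act 7 n11689 = n14994 := rfl
theorem F68589 : act 1 n14994 = n11690 := d14_1 D14994 (iv D11690) (iv F54126)
theorem F68590 : act 2 n14994 = n14994 := d21_1 D14994 (iv D14994) F54127
theorem F68591 : act 5 n14994 = n14994 := d36_1 D14994 (iv D14994) F54128
theorem F68592 : act 9 n14994 = n11794 := d43_2 (iv F54129) D14994 (iv D11794)
def n14995 : Q := act 6 n11691
theorem D14995 : act 6 n11691 = n14995 := rfl
theorem F68596 : act 3 n14995 = n12644 := d26_1 D14995 (iv D12644) (iv F54136)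
theorem F68597 : act 4 n14995 = n11940 := d31_1 D14995 (iv D11940) (iv F54137)
def n14996 : Q := act 5 n11692
theorem D14996 : act 5 n11692 = n14996 := rfl
theorem F68603 : act 3 n14996 = n12645 := d25_1 D14996 (iv D12645) (iv F54143)
def n14997 : Q := act 4 n11693
theorem D14997 : act 4 n11693 = n14997 := rfl
theorem F68608 : act 5 n14997 = n11942 := d30_2 D11693 D14997 (iv D11942) (iv D9345) (iv F43004)
theorem F68610 : act 9 n14997 = n11797 := d34_2 (iv F54152) D14997 (iv D11797)
def n15000 : Q := act 4 n11696
theorem D15000 : act 4 n11696 = n15000 := rfl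
theorem F68623 : act 0 n15000 = n11708 := d3_1 D15000 (iv D11708) (iv F54165)
theorem F68624 : act 1 n15000 = n12506 := d11_1 D15000 (iv D12506) (iv F54166)
theorem F68625 : act 2 n15000 = n15000 := d18_1 D15000 (iv D15000) F54167
theorem F68626 : act 5 n15000 = n15000 := d30_2 D11696 D15000 (iv D15000) (iv D11696) F43030
theorem F68627 : act 7 n15000 = n12147 := d32_2 (iv F54169) D15000 (iv D12147)
theorem F68628 : act 9 n15000 = n11697 := d34_2 (iv F54170) D15000 (iv D11697)
def n15001 : Q := act 6 n11696
theorem D15001 : act 6 n11696 = n15001 := rfl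
theorem F68629 : act 0 n15001 = n11709 := d5_1 D15001 (iv D11709) (iv F54165)
theorem F68630 : act 1 n15001 = n12507 := d13_1 D15001 (iv D12507) (iv F54166)
theorem F68631 : act 2 n15001 = n15001 := d20_1 D15001 (iv D15001) F54167
theorem F68632 : act 3 n15001 = n12355 := d26_1 D15001 (iv D12355) (iv F54168)
theorem F68633 : act 5 n15001 = n15001 := d35_1 D15001 (iv D15001) (iv D11696) F43031 D11696
theorem F68634 : act 9 n15001 = n11698 := d41_2 (iv F54170) D15001 (iv D11698)
def n15002 : Q := act 3 n11697
theorem D15002 : act 3 n11697 = n15002 := rfl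
theorem F68635 : act 0 n15002 = n11710 := d2_1 D15002 (iv D11710) (iv F54171)
theorem F68636 : act 1 n15002 = n12508 := d10_1 D15002 (iv D12508) (iv F54172)
theorem F68637 : act 4 n15002 = n12511 := d24_2 D11697 D15002 (iv D12511) (iv D9762) (iv F43037)
theorem F68638 : act 5 n15002 = n15002 := d25_2 F54174 D15002 (iv D15002)
theorem F68639 : act 7 n15002 = n12200 := d27_2 (iv F54175) D15002 (iv D12200)
theorem F68640 : act 8 n15002 = n11701 := d28_2 (iv F54176) D15002 (iv D11701)
def n15003 : Q := act 6 n11697
theorem D15003 : act 6 n11697 = n15003 := rfl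
theorem F68641 : act 0 n15003 = n11711 := d5_1 D15003 (iv D11711) (iv F54171)
theorem F68642 : act 1 n15003 = n12509 := d13_1 D15003 (iv D12509) (iv F54172)
theorem F68643 : act 2 n15003 = n15003 := d20_1 D15003 (iv D15003) F54173
theorem F68644 : act 4 n15003 = n11698 := d31_1 D15003 (iv D11698) D11697
theorem F68645 : act 8 n15003 = n11702 := d40_2 (iv F54176) D15003 (iv D11702)
def n15004 : Q := act 7 n11698
theorem D15004 : act 7 n11698 = n15004 := rfl
theorem F68646 : act 0 n15004 = n11712 := d6_1 D15004 (iv D11712) (iv F54177)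
theorem F68647 : act 1 n15004 = n12510 := d14_1 D15004 (iv D12510) (iv F54178)
theorem F68648 : act 2 n15004 = n15004 := d21_1 D15004 (iv D15004) F54179
theorem F68649 : act 3 n15004 = n12513 := d27_1 D15004 (iv D12513) (iv F54180)
theorem F68650 : act 5 n15004 = n15004 := d36_1 D15004 (iv D15004) F54181
theorem F68651 : act 6 n15004 = n12202 := d39_1 D15004 (iv D12202) (iv D9541) (iv F43038) D11698
theorem F68652 : act 8 n15004 = n11703 := d42_2 (iv F54182) D15004 (iv D11703)
def n15005 : Q := act 3 n11699
theorem D15005 : act 3 n11699 = n15005 := rfl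
theorem F68653 : act 0 n15005 = n11713 := d2_1 D15005 (iv D11713) (iv F54183)
theorem F68654 : act 1 n15005 = n12511 := d10_1 D15005 (iv D12511) (iv F54184)
theorem F68655 : act 4 n15005 = n12508 := d24_2 D11699 D15005 (iv D12508) (iv D9760) (iv F43043)
theorem F68656 : act 5 n15005 = n11946 := d25_2 (iv F54186) D15005 (iv D11946)
theorem F68657 : act 7 n15005 = n11701 := d27_2 (iv F54187) D15005 (iv D11701)
theorem F68658 : act 8 n15005 = n12200 := d28_2 (iv F54188) D15005 (iv D12200)
def n15006 : Q := act 6 n11699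
theorem D15006 : act 6 n11699 = n15006 := rfl
theorem F68659 : act 0 n15006 = n11714 := d5_1 D15006 (iv D11714) (iv F54183)
theorem F68660 : act 1 n15006 = n12512 := d13_1 D15006 (iv D12512) (iv F54184)
theorem F68661 : act 2 n15006 = n15006 := d20_1 D15006 (iv D15006) F54185
theorem F68662 : act 4 n15006 = n11700 := d31_1 D15006 (iv D11700) D11699
theorem F68663 : act 8 n15006 = n12201 := d40_2 (iv F54188) D15006 (iv D12201)
def n15007 : Q := act 7 n11700
theorem D15007 : act 7 n11700 = n15007 := rfl
theorem F68664 : act 0 n15007 = n11715 := d6_1 D15007 (iv D11715) (iv F54189)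
theorem F68665 : act 1 n15007 = n12513 := d14_1 D15007 (iv D12513) (iv F54190)
theorem F68666 : act 2 n15007 = n15007 := d21_1 D15007 (iv D15007) F54191
theorem F68667 : act 3 n15007 = n12510 := d27_1 D15007 (iv D12510) (iv F54192)
theorem F68668 : act 5 n15007 = n15007 := d36_1 D15007 (iv D15007) F54193
theorem F68669 : act 6 n15007 = n11703 := d39_1 D15007 (iv D11703) (iv D9165) (iv F43044) D11700
theorem F68670 : act 8 n15007 = n12202 := d42_2 (iv F54194) D15007 (iv D12202)
def n15008 : Q := act 2 n11701
theorem D15008 : act 2 n11701 = n15008 := rfl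
theorem F68671 : act 0 n15008 = n11716 := d1_1 D15008 (iv D11716) (iv F54195)
theorem F68672 : act 3 n15008 = n15008 := d17_2 D11701 D15008 (iv D15008) (iv D11701) F43048
theorem F68673 : act 5 n15008 = n11949 := d19_2 (iv F54197) D15008 (iv D11949)
def n15009 : Q := act 6 n11701
theorem D15009 : act 6 n11701 = n15009 := rfl
theorem F68674 : act 0 n15009 = n11717 := d5_1 D15009 (iv D11717) (iv F54195)
theorem F68675 : act 1 n15009 = n12515 := d13_1 D15009 (iv D12515) (iv F54196)
theorem F68676 : act 3 n15009 = n11702 := d26_1 D15009 (iv D11702) D11701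
def n15010 : Q := act 5 n11702
theorem D15010 : act 5 n11702 = n15010 := rfl
theorem F68677 : act 0 n15010 = n11718 := d4_1 D15010 (iv D11718) (iv F54198)
theorem F68678 : act 1 n15010 = n12516 := d12_1 D15010 (iv D12516) (iv F54199)
theorem F68679 : act 2 n15010 = n15010 := d19_1 D15010 (iv D15010) F54200
theorem F68680 : act 4 n15010 = n11706 := d30_1 D15010 (iv D11706) F43062 (iv F43053) (iv F54201)
theorem F68681 : act 6 n15010 = n11951 := d35_2 D11702 D15010 (iv D11951) (iv D9352) (iv F43049)
def n15011 : Q := act 7 n11702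
theorem D15011 : act 7 n11702 = n15011 := rfl
theorem F68682 : act 0 n15011 = n11719 := d6_1 D15011 (iv D11719) (iv F54198)
theorem F68683 : act 1 n15011 = n12517 := d14_1 D15011 (iv D12517) (iv F54199)
theorem F68684 : act 2 n15011 = n15011 := d21_1 D15011 (iv D15011) F54200
theorem F68685 : act 4 n15011 = n11703 := d32_1 D15011 (iv D11703) (iv F54201)
def n15012 : Q := act 1 n11704
theorem D15012 : act 1 n11704 = n15012 := rfl
theorem F68687 : act 2 n15012 = n12518 := d9_2 D11704 D15012 (iv D12518) (iv D9767) (iv F43055)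
theorem F68689 : act 5 n15012 = n11953 := d12_2 (iv F54208) D15012 (iv D11953)
def n15013 : Q := act 6 n11704
theorem D15013 : act 6 n11704 = n15013 := rfl
theorem F68692 : act 0 n15013 = n11720 := d5_1 D15013 (iv D11720) (iv F54206)
theorem F68693 : act 2 n15013 = n11705 := d20_1 D15013 (iv D11705) D11704
def n15014 : Q := act 5 n11705
theorem D15014 : act 5 n11705 = n15014 := rfl
theorem F68696 : act 0 n15014 = n11721 := d4_1 D15014 (iv D11721) (iv F54211)
theorem F68697 : act 1 n15014 = n12520 := d12_1 D15014 (iv D12520) (iv F54212)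
theorem F68698 : act 3 n15014 = n11706 := d25_1 D15014 (iv D11706) (iv F54213)
theorem F68699 : act 6 n15014 = n11955 := d35_2 D11705 D15014 (iv D11955) (iv D9355) (iv F43056)
def n15015 : Q := act 7 n11705
theorem D15015 : act 7 n11705 = n15015 := rfl
theorem F68700 : act 0 n15015 = n11722 := d6_1 D15015 (iv D11722) (iv F54211)
theorem F68701 : act 1 n15015 = n12521 := d14_1 D15015 (iv D12521) (iv F54212)
theorem F68702 : act 3 n15015 = n11707 := d27_1 D15015 (iv D11707) (iv F54213)
theorem F68703 : act 6 n15015 = n15015 := d39_1 D15015 (iv D15015) (iv D11705) F43057 D11705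
theorem F68704 : act 8 n15015 = n15015 := d42_2 F54214 D15015 (iv D15015)
def n15016 : Q := act 7 n11706
theorem D15016 : act 7 n11706 = n15016 := rfl
theorem F68705 : act 0 n15016 = n11723 := d6_1 D15016 (iv D11723) (iv F54215)
theorem F68706 : act 1 n15016 = n12522 := d14_1 D15016 (iv D12522) (iv F54216)
theorem F68707 : act 2 n15016 = n15016 := d21_1 D15016 (iv D15016) F54217
theorem F68708 : act 5 n15016 = n11707 := d36_1 D15016 (iv D11707) D11706
def n15017 : Q := act 8 n11706
theorem D15017 : act 8 n11706 = n15017 := rfl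
theorem F68709 : act 0 n15017 = n11724 := d7_1 D15017 (iv D11724) (iv F54215)
theorem F68710 : act 1 n15017 = n12523 := d15_1 D15017 (iv D12523) (iv F54216)
theorem F68713 : act 6 n15017 = n11958 := d40_1 D15017 (iv D11958) (iv F54218)
def n15018 : Q := act 3 n11708
theorem D15018 : act 3 n11708 = n15018 := rfl
theorem F68714 : act 1 n15018 = n11725 := d10_1 D15018 (iv D11725) (iv F54225)
theorem F68715 : act 4 n15018 = n12372 := d24_2 D11708 D15018 (iv D12372) (iv D9662) (iv F43071)
theorem F68716 : act 5 n15018 = n15018 := d25_2 F54227 D15018 (iv D15018)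
theorem F68717 : act 7 n15018 = n12155 := d27_2 (iv F54228) D15018 (iv D12155)
theorem F68718 : act 9 n15018 = n11710 := d29_2 (iv F54229) D15018 (iv D11710)
def n15019 : Q := act 6 n11708
theorem D15019 : act 6 n11708 = n15019 := rfl
theorem F68719 : act 1 n15019 = n11726 := d13_1 D15019 (iv D11726) (iv F54225)
theorem F68720 : act 2 n15019 = n15019 := d20_1 D15019 (iv D15019) F54226
theorem F68721 : act 4 n15019 = n11709 := d31_1 D15019 (iv D11709) D11708
theorem F68722 : act 9 n15019 = n11711 := d41_2 (iv F54229) D15019 (iv D11711)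
def n15020 : Q := act 7 n11709
theorem D15020 : act 7 n11709 = n15020 := rfl
theorem F68723 : act 1 n15020 = n11727 := d14_1 D15020 (iv D11727) (iv F54230)
theorem F68724 : act 2 n15020 = n15020 := d21_1 D15020 (iv D15020) F54231
theorem F68725 : act 3 n15020 = n12374 := d27_1 D15020 (iv D12374) (iv F54232)
theorem F68726 : act 5 n15020 = n15020 := d36_1 D15020 (iv D15020) F54233
theorem F68727 : act 6 n15020 = n12157 := d39_1 D15020 (iv D12157) (iv D9507) (iv F43072) D11709
theorem F68728 : act 9 n15020 = n11712 := d43_2 (iv F54234) D15020 (iv D11712)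
def n15021 : Q := act 2 n11710
theorem D15021 : act 2 n11710 = n15021 := rfl
theorem F68729 : act 3 n15021 = n15021 := d17_2 D11710 D15021 (iv D15021) (iv D11710) F43075
theorem F68730 : act 4 n15021 = n12531 := d18_2 (iv F54236) D15021 (iv D12531)
theorem F68731 : act 5 n15021 = n15021 := d19_2 F54237 D15021 (iv D15021)
theorem F68732 : act 7 n15021 = n12207 := d21_2 (iv F54238) D15021 (iv D12207)
theorem F68733 : act 8 n15021 = n11716 := d22_2 (iv F54239) D15021 (iv D11716)
def n15022 : Q := act 6 n11710
theorem D15022 : act 6 n11710 = n15022 := rfl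
theorem F68734 : act 1 n15022 = n11729 := d13_1 D15022 (iv D11729) (iv F54235)
theorem F68735 : act 3 n15022 = n11711 := d26_1 D15022 (iv D11711) D11710
theorem F68736 : act 4 n15022 = n12532 := d31_1 D15022 (iv D12532) (iv F54236)
theorem F68737 : act 8 n15022 = n11717 := d40_2 (iv F54239) D15022 (iv D11717)
def n15023 : Q := act 5 n11711
theorem D15023 : act 5 n11711 = n15023 := rfl
theorem F68738 : act 1 n15023 = n11730 := d12_1 D15023 (iv D11730) (iv F54240)
theorem F68739 : act 2 n15023 = n15023 := d19_1 D15023 (iv D15023) F54241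
theorem F68740 : act 4 n15023 = n15023 := d30_1 D15023 (iv D15023) F54242 F43082 (iv F54242)
theorem F68741 : act 6 n15023 = n15023 := d35_2 D11711 D15023 (iv D15023) (iv D11711) F43076
def n15024 : Q := act 7 n11711
theorem D15024 : act 7 n11711 = n15024 := rfl
theorem F68742 : act 1 n15024 = n11731 := d14_1 D15024 (iv D11731) (iv F54240)
theorem F68743 : act 2 n15024 = n15024 := d21_1 D15024 (iv D15024) F54241
theorem F68744 : act 4 n15024 = n11712 := d32_1 D15024 (iv D11712) (iv F54242)
theorem F68745 : act 6 n15024 = n12210 := d39_1 D15024 (iv D12210) (iv D9546) (iv F43077) D11711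
theorem F68746 : act 8 n15024 = n11719 := d42_2 (iv F54243) D15024 (iv D11719)
def n15025 : Q := act 2 n11713
theorem D15025 : act 2 n11713 = n15025 := rfl
theorem F68747 : act 3 n15025 = n15025 := d17_2 D11713 D15025 (iv D15025) (iv D11713) F43085
theorem F68748 : act 4 n15025 = n12527 := d18_2 (iv F54251) D15025 (iv D12527)
theorem F68749 : act 5 n15025 = n11959 := d19_2 (iv F54252) D15025 (iv D11959)
theorem F68750 : act 7 n15025 = n11716 := d21_2 (iv F54253) D15025 (iv D11716)
theorem F68751 : act 8 n15025 = n12207 := d22_2 (iv F54254) D15025 (iv D12207)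
def n15026 : Q := act 6 n11713
theorem D15026 : act 6 n11713 = n15026 := rfl
theorem F68752 : act 1 n15026 = n11733 := d13_1 D15026 (iv D11733) (iv F54250)
theorem F68753 : act 3 n15026 = n11714 := d26_1 D15026 (iv D11714) D11713
theorem F68754 : act 4 n15026 = n12528 := d31_1 D15026 (iv D12528) (iv F54251)
theorem F68755 : act 8 n15026 = n12208 := d40_2 (iv F54254) D15026 (iv D12208)
def n15027 : Q := act 5 n11714
theorem D15027 : act 5 n11714 = n15027 := rfl
theorem F68756 : act 1 n15027 = n11734 := d12_1 D15027 (iv D11734) (iv F54255)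
theorem F68757 : act 2 n15027 = n15027 := d19_1 D15027 (iv D15027) F54256
theorem F68758 : act 4 n15027 = n15027 := d30_1 D15027 (iv D15027) F54257 F43092 (iv F54257)
theorem F68759 : act 6 n15027 = n11961 := d35_2 D11714 D15027 (iv D11961) (iv D9359) (iv F43086)
def n15028 : Q := act 7 n11714
theorem D15028 : act 7 n11714 = n15028 := rfl
theorem F68760 : act 1 n15028 = n11735 := d14_1 D15028 (iv D11735) (iv F54255)
theorem F68761 : act 2 n15028 = n15028 := d21_1 D15028 (iv D15028) F54256
theorem F68762 : act 4 n15028 = n11715 := d32_1 D15028 (iv D11715) (iv F54257)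
theorem F68763 : act 6 n15028 = n11719 := d39_1 D15028 (iv D11719) (iv D9175) (iv F43087) D11714
theorem F68764 : act 8 n15028 = n12210 := d42_2 (iv F54258) D15028 (iv D12210)
def n15029 : Q := act 1 n11716
theorem D15029 : act 1 n11716 = n15029 := rfl
theorem F68765 : act 2 n15029 = n11736 := d9_2 D11716 D15029 (iv D11736) (iv D9189) (iv F43094)
theorem F68766 : act 3 n15029 = n15029 := d10_2 F54265 D15029 (iv D15029)
theorem F68767 : act 5 n15029 = n11963 := d12_2 (iv F54266) D15029 (iv D11963)
def n15030 : Q := act 6 n11716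
theorem D15030 : act 6 n11716 = n15030 := rfl
theorem F68768 : act 2 n15030 = n11717 := d20_1 D15030 (iv D11717) D11716
theorem F68769 : act 3 n15030 = n15030 := d26_1 D15030 (iv D15030) F54265
def n15031 : Q := act 5 n11717
theorem D15031 : act 5 n11717 = n15031 := rfl
theorem F68770 : act 1 n15031 = n11738 := d12_1 D15031 (iv D11738) (iv F54267)
theorem F68771 : act 3 n15031 = n11718 := d25_1 D15031 (iv D11718) (iv F54268)
theorem F68772 : act 6 n15031 = n11965 := d35_2 D11717 D15031 (iv D11965) (iv D9362) (iv F43095)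
def n15032 : Q := act 7 n11717
theorem D15032 : act 7 n11717 = n15032 := rfl
theorem F68773 : act 1 n15032 = n11739 := d14_1 D15032 (iv D11739) (iv F54267)
theorem F68774 : act 3 n15032 = n11719 := d27_1 D15032 (iv D11719) (iv F54268)
def n15033 : Q := act 7 n11718
theorem D15033 : act 7 n11718 = n15033 := rfl
theorem F68775 : act 1 n15033 = n11740 := d14_1 D15033 (iv D11740) (iv F54269)
theorem F68776 : act 2 n15033 = n15033 := d21_1 D15033 (iv D15033) F54270
theorem F68777 : act 4 n15033 = n11723 := d32_1 D15033 (iv D11723) (iv F54271)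
theorem F68778 : act 5 n15033 = n11719 := d36_1 D15033 (iv D11719) D11718
def n15034 : Q := act 8 n11718
theorem D15034 : act 8 n11718 = n15034 := rfl
theorem F68779 : act 1 n15034 = n11741 := d15_1 D15034 (iv D11741) (iv F54269)
theorem F68780 : act 2 n15034 = n15034 := d22_1 D15034 (iv D15034) F54270
theorem F68781 : act 4 n15034 = n11724 := d33_1 D15034 (iv D11724) (iv F54271)
theorem F68782 : act 6 n15034 = n11968 := d40_1 D15034 (iv D11968) (iv F54272)
def n15035 : Q := act 5 n11720
theorem D15035 : act 5 n11720 = n15035 := rfl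
theorem F68786 : act 6 n15035 = n11969 := d35_2 D11720 D15035 (iv D11969) (iv D9365) (iv F43104)
def n15036 : Q := act 7 n11720
theorem D15036 : act 7 n11720 = n15036 := rfl
theorem F68787 : act 1 n15036 = n15036 := d14_1 D15036 (iv D15036) F54276
theorem F68788 : act 2 n15036 = n11722 := d21_1 D15036 (iv D11722) (iv F54277)
theorem F68789 : act 3 n15036 = n15036 := d27_1 D15036 (iv D15036) F54278
theorem F68790 : act 6 n15036 = n15036 := d39_1 D15036 (iv D15036) (iv D11720) F43105 D11720
theorem F68791 : act 8 n15036 = n15036 := d42_2 F54279 D15036 (iv D15036)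
def n15037 : Q := act 4 n11721
theorem D15037 : act 4 n11721 = n15037 := rfl
theorem F68792 : act 1 n15037 = n11742 := d11_1 D15037 (iv D11742) (iv F54280)
theorem F68793 : act 6 n15037 = n11971 := d31_2 (iv F54282) D15037 (iv D11971)
def n15038 : Q := act 7 n11721
theorem D15038 : act 7 n11721 = n15038 := rfl
theorem F68794 : act 1 n15038 = n11743 := d14_1 D15038 (iv D11743) (iv F54280)
theorem F68795 : act 3 n15038 = n11723 := d27_1 D15038 (iv D11723) (iv F54281)
theorem F68796 : act 5 n15038 = n11722 := d36_1 D15038 (iv D11722) D11721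
def n15040 : Q := act 6 n11723
theorem D15040 : act 6 n11723 = n15040 := rfl
theorem F68801 : act 1 n15040 = n11745 := d13_1 D15040 (iv D11745) (iv F54287)
theorem F68802 : act 2 n15040 = n15040 := d20_1 D15040 (iv D15040) F54288
theorem F68803 : act 5 n15040 = n15040 := d35_1 D15040 (iv D15040) F54289 F43116 (iv F54289)
theorem F68804 : act 7 n15040 = n11974 := d39_2 D11723 D15040 (iv D11974) (iv D9368) (iv F43112)
def n15041 : Q := act 8 n11723
theorem D15041 : act 8 n11723 = n15041 := rfl
theorem F68805 : act 1 n15041 = n11746 := d15_1 D15041 (iv D11746) (iv F54287)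
theorem F68806 : act 2 n15041 = n15041 := d22_1 D15041 (iv D15041) F54288
theorem F68807 : act 5 n15041 = n15041 := d37_1 D15041 (iv D15041) F54289 F43117 (iv F54289)
theorem F68808 : act 7 n15041 = n11724 := d42_1 D15041 (iv D11724) D11723
def n15042 : Q := act 9 n11724
theorem D15042 : act 9 n11724 = n15042 := rfl
theorem F68809 : act 1 n15042 = n11747 := d16_1 D15042 (iv D11747) (iv F54290)
theorem F68810 : act 2 n15042 = n15042 := d23_1 D15042 (iv D15042) F54291
theorem F68811 : act 5 n15042 = n15042 := d38_1 D15042 (iv D15042) F54292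
def n15043 : Q := act 2 n11725
theorem D15043 : act 2 n11725 = n15043 := rfl
theorem F68813 : act 0 n15043 = n12549 := d1_1 D15043 (iv D12549) (iv F54294)
theorem F68814 : act 3 n15043 = n11748 := d17_2 D11725 D15043 (iv D11748) (iv D9197) (iv F43119)
theorem F68815 : act 4 n15043 = n12406 := d18_2 (iv F54295) D15043 (iv D12406)
theorem F68816 : act 5 n15043 = n15043 := d19_2 F54296 D15043 (iv D15043)
theorem F68817 : act 7 n15043 = n12168 := d21_2 (iv F54297) D15043 (iv D12168)
theorem F68818 : act 9 n15043 = n11728 := d23_2 (iv F54298) D15043 (iv D11728)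
def n15044 : Q := act 6 n11725
theorem D15044 : act 6 n11725 = n15044 := rfl
theorem F68819 : act 0 n15044 = n12550 := d5_1 D15044 (iv D12550) (iv F54294)
theorem F68820 : act 3 n15044 = n11726 := d26_1 D15044 (iv D11726) D11725
theorem F68821 : act 4 n15044 = n12407 := d31_1 D15044 (iv D12407) (iv F54295)
theorem F68822 : act 9 n15044 = n11729 := d41_2 (iv F54298) D15044 (iv D11729)
def n15045 : Q := act 5 n11726
theorem D15045 : act 5 n11726 = n15045 := rfl
theorem F68823 : act 0 n15045 = n12551 := d4_1 D15045 (iv D12551) (iv F54299)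
theorem F68824 : act 2 n15045 = n11750 := d19_1 D15045 (iv D11750) (iv F54300)
theorem F68825 : act 4 n15045 = n15045 := d30_1 D15045 (iv D15045) F54301 F43126 (iv F54301)
theorem F68826 : act 6 n15045 = n15045 := d35_2 D11726 D15045 (iv D15045) (iv D11726) F43120
theorem F68827 : act 9 n15045 = n11730 := d38_2 (iv F54302) D15045 (iv D11730)
def n15046 : Q := act 7 n11726
theorem D15046 : act 7 n11726 = n15046 := rfl
theorem F68828 : act 0 n15046 = n12552 := d6_1 D15046 (iv D12552) (iv F54299)
theorem F68829 : act 2 n15046 = n11751 := d21_1 D15046 (iv D11751) (iv F54300)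
theorem F68830 : act 4 n15046 = n11727 := d32_1 D15046 (iv D11727) (iv F54301)
theorem F68831 : act 6 n15046 = n12171 := d39_1 D15046 (iv D12171) (iv D9516) (iv F43121) D11726
theorem F68832 : act 9 n15046 = n11731 := d43_2 (iv F54302) D15046 (iv D11731)
def n15047 : Q := act 1 n11728
theorem D15047 : act 1 n11728 = n15047 := rfl
theorem F68834 : act 4 n15047 = n12559 := d11_2 (iv F54311) D15047 (iv D12559)
theorem F68837 : act 8 n15047 = n11736 := d15_2 (iv F54314) D15047 (iv D11736)
def n15048 : Q := act 6 n11728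
theorem D15048 : act 6 n11728 = n15048 := rfl
theorem F68838 : act 0 n15048 = n12554 := d5_1 D15048 (iv D12554) (iv F54309)
theorem F68839 : act 2 n15048 = n11729 := d20_1 D15048 (iv D11729) D11728
theorem F68840 : act 3 n15048 = n11753 := d26_1 D15048 (iv D11753) (iv F54310)
theorem F68841 : act 4 n15048 = n12560 := d31_1 D15048 (iv D12560) (iv F54311)
theorem F68842 : act 8 n15048 = n11737 := d40_2 (iv F54314) D15048 (iv D11737)
def n15049 : Q := act 5 n11729
theorem D15049 : act 5 n11729 = n15049 := rfl
theorem F68843 : act 0 n15049 = n12555 := d4_1 D15049 (iv D12555) (iv F54315)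
theorem F68844 : act 3 n15049 = n11730 := d25_1 D15049 (iv D11730) (iv F54316)
theorem F68845 : act 6 n15049 = n15049 := d35_2 D11729 D15049 (iv D15049) (iv D11729) F43130
def n15050 : Q := act 7 n11729
theorem D15050 : act 7 n11729 = n15050 := rfl
theorem F68846 : act 0 n15050 = n12556 := d6_1 D15050 (iv D12556) (iv F54315)
theorem F68847 : act 3 n15050 = n11731 := d27_1 D15050 (iv D11731) (iv F54316)
theorem F68848 : act 4 n15050 = n12562 := d32_1 D15050 (iv D12562) (iv F54317)
theorem F68849 : act 6 n15050 = n12219 := d39_1 D15050 (iv D12219) (iv D9553) (iv F43131) D11729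
theorem F68850 : act 8 n15050 = n11739 := d42_2 (iv F54318) D15050 (iv D11739)
def n15051 : Q := act 7 n11730
theorem D15051 : act 7 n11730 = n15051 := rfl
theorem F68851 : act 0 n15051 = n12557 := d6_1 D15051 (iv D12557) (iv F54319)
theorem F68852 : act 2 n15051 = n11756 := d21_1 D15051 (iv D11756) (iv F54320)
theorem F68853 : act 4 n15051 = n15051 := d32_1 D15051 (iv D15051) F54321
theorem F68854 : act 5 n15051 = n11731 := d36_1 D15051 (iv D11731) D11730
def n15052 : Q := act 8 n11730
theorem D15052 : act 8 n11730 = n15052 := rfl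
theorem F68855 : act 0 n15052 = n12558 := d7_1 D15052 (iv D12558) (iv F54319)
theorem F68856 : act 2 n15052 = n11757 := d22_1 D15052 (iv D11757) (iv F54320)
theorem F68857 : act 4 n15052 = n15052 := d33_1 D15052 (iv D15052) F54321
theorem F68858 : act 5 n15052 = n11741 := d37_1 D15052 (iv D11741) (iv D9191) (iv F43136) D11730
theorem F68859 : act 6 n15052 = n15052 := d40_1 D15052 (iv D15052) F54322
def n15053 : Q := act 1 n11732
theorem D15053 : act 1 n11732 = n15053 := rfl
theorem F68860 : act 3 n15053 = n11758 := d10_2 (iv F54329) D15053 (iv D11758)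
theorem F68861 : act 4 n15053 = n12553 := d11_2 (iv F54330) D15053 (iv D12553)
theorem F68862 : act 5 n15053 = n11977 := d12_2 (iv F54331) D15053 (iv D11977)
theorem F68863 : act 7 n15053 = n11736 := d14_2 (iv F54332) D15053 (iv D11736)
theorem F68864 : act 8 n15053 = n12216 := d15_2 (iv F54333) D15053 (iv D12216)
def n15054 : Q := act 6 n11732
theorem D15054 : act 6 n11732 = n15054 := rfl
theorem F68866 : act 2 n15054 = n11733 := d20_1 D15054 (iv D11733) D11732
theorem F68867 : act 3 n15054 = n11759 := d26_1 D15054 (iv D11759) (iv F54329)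
theorem F68868 : act 4 n15054 = n12554 := d31_1 D15054 (iv D12554) (iv F54330)
theorem F68869 : act 8 n15054 = n12217 := d40_2 (iv F54333) D15054 (iv D12217)
def n15055 : Q := act 5 n11733
theorem D15055 : act 5 n11733 = n15055 := rfl
theorem F68870 : act 0 n15055 = n12561 := d4_1 D15055 (iv D12561) (iv F54334)
theorem F68871 : act 3 n15055 = n11734 := d25_1 D15055 (iv D11734) (iv F54335)
theorem F68872 : act 6 n15055 = n11979 := d35_2 D11733 D15055 (iv D11979) (iv D9371) (iv F43145)
def n15056 : Q := act 7 n11733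
theorem D15056 : act 7 n11733 = n15056 := rfl
theorem F68873 : act 0 n15056 = n12562 := d6_1 D15056 (iv D12562) (iv F54334)
theorem F68874 : act 3 n15056 = n11735 := d27_1 D15056 (iv D11735) (iv F54335)
theorem F68875 : act 4 n15056 = n12556 := d32_1 D15056 (iv D12556) (iv F54336)
theorem F68876 : act 6 n15056 = n11739 := d39_1 D15056 (iv D11739) (iv D9190) (iv F43146) D11733
theorem F68877 : act 8 n15056 = n12219 := d42_2 (iv F54337) D15056 (iv D12219)
def n15057 : Q := act 7 n11734
theorem D15057 : act 7 n11734 = n15057 := rfl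
theorem F68878 : act 0 n15057 = n12563 := d6_1 D15057 (iv D12563) (iv F54338)
theorem F68879 : act 2 n15057 = n11762 := d21_1 D15057 (iv D11762) (iv F54339)
theorem F68880 : act 4 n15057 = n15057 := d32_1 D15057 (iv D15057) F54340
theorem F68881 : act 5 n15057 = n11735 := d36_1 D15057 (iv D11735) D11734
def n15058 : Q := act 8 n11734
theorem D15058 : act 8 n11734 = n15058 := rfl
theorem F68882 : act 0 n15058 = n12564 := d7_1 D15058 (iv D12564) (iv F54338)
theorem F68883 : act 2 n15058 = n11763 := d22_1 D15058 (iv D11763) (iv F54339)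
theorem F68884 : act 4 n15058 = n15058 := d33_1 D15058 (iv D15058) F54340
theorem F68885 : act 5 n15058 = n12221 := d37_1 D15058 (iv D12221) (iv D9554) (iv F43151) D11734
theorem F68886 : act 6 n15058 = n11982 := d40_1 D15058 (iv D11982) (iv F54341)
def n15059 : Q := act 0 n11736
theorem D15059 : act 0 n11736 = n15059 := rfl
theorem F68887 : act 1 n15059 = n12565 := d0_2 D11736 D15059 (iv D12565) (iv D9799) (iv F43158)
theorem F68888 : act 3 n15059 = n11764 := d2_2 (iv F54347) D15059 (iv D11764)
def n15060 : Q := act 6 n11736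
theorem D15060 : act 6 n11736 = n15060 := rfl
theorem F68890 : act 1 n15060 = n11737 := d13_1 D15060 (iv D11737) D11736
theorem F68891 : act 3 n15060 = n11765 := d26_1 D15060 (iv D11765) (iv F54347)
def n15061 : Q := act 5 n11737
theorem D15061 : act 5 n11737 = n15061 := rfl
theorem F68892 : act 0 n15061 = n12567 := d4_1 D15061 (iv D12567) (iv F54349)
theorem F68893 : act 2 n15061 = n11738 := d19_1 D15061 (iv D11738) (iv F54350)
theorem F68894 : act 3 n15061 = n11766 := d25_1 D15061 (iv D11766) (iv F54351)
theorem F68895 : act 6 n15061 = n11985 := d35_2 D11737 D15061 (iv D11985) (iv D9375) (iv F43160)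
def n15062 : Q := act 7 n11737
theorem D15062 : act 7 n11737 = n15062 := rfl
theorem F68896 : act 0 n15062 = n12568 := d6_1 D15062 (iv D12568) (iv F54349)
theorem F68897 : act 2 n15062 = n11739 := d21_1 D15062 (iv D11739) (iv F54350)
theorem F68898 : act 3 n15062 = n11767 := d27_1 D15062 (iv D11767) (iv F54351)
def n15063 : Q := act 4 n11738
theorem D15063 : act 4 n11738 = n15063 := rfl
theorem F68899 : act 0 n15063 = n12569 := d3_1 D15063 (iv D12569) (iv F54352)
theorem F68900 : act 3 n15063 = n11742 := d24_1 D15063 (iv D11742) F43172 (iv F43165) (iv F54353)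
theorem F68901 : act 6 n15063 = n11987 := d31_2 (iv F54354) D15063 (iv D11987)
def n15064 : Q := act 7 n11738
theorem D15064 : act 7 n11738 = n15064 := rfl
theorem F68902 : act 0 n15064 = n12570 := d6_1 D15064 (iv D12570) (iv F54352)
theorem F68903 : act 3 n15064 = n11740 := d27_1 D15064 (iv D11740) (iv F54353)
theorem F68904 : act 5 n15064 = n11739 := d36_1 D15064 (iv D11739) D11738
def n15065 : Q := act 8 n11738
theorem D15065 : act 8 n11738 = n15065 := rfl
theorem F68905 : act 0 n15065 = n12571 := d7_1 D15065 (iv D12571) (iv F54352)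
theorem F68906 : act 3 n15065 = n11741 := d28_1 D15065 (iv D11741) (iv F54353)
theorem F68907 : act 6 n15065 = n11989 := d40_1 D15065 (iv D11989) (iv F54354)
def n15066 : Q := act 6 n11740
theorem D15066 : act 6 n11740 = n15066 := rfl
theorem F68908 : act 0 n15066 = n12572 := d5_1 D15066 (iv D12572) (iv F54357)
theorem F68909 : act 2 n15066 = n11770 := d20_1 D15066 (iv D11770) (iv F54358)
theorem F68910 : act 4 n15066 = n11745 := d31_1 D15066 (iv D11745) (iv F54359)
theorem F68911 : act 7 n15066 = n11990 := d39_2 D11740 D15066 (iv D11990) (iv D9378) (iv F43166)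
def n15067 : Q := act 8 n11740
theorem D15067 : act 8 n11740 = n15067 := rfl
theorem F68912 : act 0 n15067 = n12573 := d7_1 D15067 (iv D12573) (iv F54357)
theorem F68913 : act 2 n15067 = n11771 := d22_1 D15067 (iv D11771) (iv F54358)
theorem F68914 : act 4 n15067 = n11746 := d33_1 D15067 (iv D11746) (iv F54359)
theorem F68915 : act 7 n15067 = n11741 := d42_1 D15067 (iv D11741) D11740
def n15068 : Q := act 9 n11741
theorem D15068 : act 9 n11741 = n15068 := rfl
theorem F68916 : act 0 n15068 = n12574 := d8_1 D15068 (iv D12574) (iv F54361)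
theorem F68917 : act 2 n15068 = n11772 := d23_1 D15068 (iv D11772) (iv F54362)
theorem F68918 : act 4 n15068 = n11747 := d34_1 D15068 (iv D11747) (iv F54363)
theorem F68919 : act 6 n15068 = n11992 := d41_1 D15068 (iv D11992) (iv F54364)
def n15069 : Q := act 7 n11742
theorem D15069 : act 7 n11742 = n15069 := rfl
theorem F68920 : act 0 n15069 = n12575 := d6_1 D15069 (iv D12575) (iv F54365)
theorem F68921 : act 2 n15069 = n15069 := d21_1 D15069 (iv D15069) F54366
theorem F68922 : act 4 n15069 = n11743 := d32_1 D15069 (iv D11743) D11742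
def n15070 : Q := act 8 n11742
theorem D15070 : act 8 n11742 = n15070 := rfl
theorem F68923 : act 0 n15070 = n12576 := d7_1 D15070 (iv D12576) (iv F54365)
theorem F68924 : act 2 n15070 = n15070 := d22_1 D15070 (iv D15070) F54366
theorem F68925 : act 4 n15070 = n11744 := d33_1 D15070 (iv D11744) D11742
theorem F68926 : act 6 n15070 = n11994 := d40_1 D15070 (iv D11994) (iv F54367)
def n15071 : Q := act 6 n11743
theorem D15071 : act 6 n11743 = n15071 := rfl
theorem F68929 : act 3 n15071 = n11745 := d26_1 D15071 (iv D11745) (iv F54370)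
theorem F68931 : act 7 n15071 = n11995 := d39_2 D11743 D15071 (iv D11995) (iv D9381) (iv F43173)
def n15072 : Q := act 8 n11743
theorem D15072 : act 8 n11743 = n15072 := rfl
theorem F68934 : act 3 n15072 = n11746 := d28_1 D15072 (iv D11746) (iv F54370)
theorem F68936 : act 7 n15072 = n11744 := d42_1 D15072 (iv D11744) D11743
def n15073 : Q := act 9 n11744
theorem D15073 : act 9 n11744 = n15073 := rfl
def n15074 : Q := act 8 n11745
theorem D15074 : act 8 n11745 = n15074 := rfl
theorem F68943 : act 2 n15074 = n11773 := d22_1 D15074 (iv D11773) (iv F54378)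
theorem F68944 : act 6 n15074 = n11746 := d40_1 D15074 (iv D11746) D11745
theorem F68945 : act 7 n15074 = n11998 := d42_1 D15074 (iv D11998) (iv F54380)
def n15075 : Q := act 9 n11746
theorem D15075 : act 9 n11746 = n15075 := rfl
theorem F68946 : act 0 n15075 = n12581 := d8_1 D15075 (iv D12581) (iv F54381)
theorem F68947 : act 2 n15075 = n11774 := d23_1 D15075 (iv D11774) (iv F54382)
theorem F68948 : act 5 n15075 = n15075 := d38_1 D15075 (iv D15075) F54383
theorem F68949 : act 7 n15075 = n11747 := d43_1 D15075 (iv D11747) (iv F54384)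
def n15076 : Q := act 1 n11748
theorem D15076 : act 1 n11748 = n15076 := rfl
theorem F68951 : act 4 n15076 = n11775 := d11_2 (iv F54390) D15076 (iv D11775)
theorem F68953 : act 7 n15076 = n12183 := d14_2 (iv F54392) D15076 (iv D12183)
def n15077 : Q := act 6 n11748
theorem D15077 : act 6 n11748 = n15077 := rfl
theorem F68955 : act 0 n15077 = n12583 := d5_1 D15077 (iv D12583) (iv F54389)
theorem F68956 : act 2 n15077 = n11749 := d20_1 D15077 (iv D11749) D11748
theorem F68957 : act 4 n15077 = n11776 := d31_1 D15077 (iv D11776) (iv F54390)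
theorem F68958 : act 9 n15077 = n11753 := d41_2 (iv F54393) D15077 (iv D11753)
def n15078 : Q := act 5 n11749
theorem D15078 : act 5 n11749 = n15078 := rfl
theorem F68959 : act 0 n15078 = n12584 := d4_1 D15078 (iv D12584) (iv F54394)
theorem F68960 : act 1 n15078 = n15078 := d12_1 D15078 (iv D15078) F54395
theorem F68961 : act 3 n15078 = n11750 := d25_1 D15078 (iv D11750) (iv F54396)
theorem F68962 : act 6 n15078 = n15078 := d35_2 D11749 D15078 (iv D15078) (iv D11749) F43189
theorem F68963 : act 9 n15078 = n11754 := d38_2 (iv F54398) D15078 (iv D11754)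
def n15079 : Q := act 7 n11749
theorem D15079 : act 7 n11749 = n15079 := rfl
theorem F68964 : act 0 n15079 = n12585 := d6_1 D15079 (iv D12585) (iv F54394)
theorem F68965 : act 1 n15079 = n15079 := d14_1 D15079 (iv D15079) F54395
theorem F68966 : act 3 n15079 = n11751 := d27_1 D15079 (iv D11751) (iv F54396)
theorem F68967 : act 4 n15079 = n11778 := d32_1 D15079 (iv D11778) (iv F54397)
theorem F68968 : act 6 n15079 = n12186 := d39_1 D15079 (iv D12186) (iv D9527) (iv F43190) D11749
theorem F68969 : act 9 n15079 = n11755 := d43_2 (iv F54398) D15079 (iv D11755)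
def n15080 : Q := act 7 n11750
theorem D15080 : act 7 n11750 = n15080 := rfl
theorem F68970 : act 0 n15080 = n12586 := d6_1 D15080 (iv D12586) (iv F54399)
theorem F68971 : act 1 n15080 = n15080 := d14_1 D15080 (iv D15080) F54400
theorem F68972 : act 4 n15080 = n15080 := d32_1 D15080 (iv D15080) F54401
theorem F68973 : act 5 n15080 = n11751 := d36_1 D15080 (iv D11751) D11750
theorem F68974 : act 9 n15080 = n11756 := d43_2 (iv F54403) D15080 (iv D11756)
def n15081 : Q := act 8 n11750
theorem D15081 : act 8 n11750 = n15081 := rfl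
theorem F68975 : act 0 n15081 = n12587 := d7_1 D15081 (iv D12587) (iv F54399)
theorem F68976 : act 1 n15081 = n15081 := d15_1 D15081 (iv D15081) F54400
theorem F68977 : act 4 n15081 = n15081 := d33_1 D15081 (iv D15081) F54401
theorem F68978 : act 6 n15081 = n15081 := d40_1 D15081 (iv D15081) F54402
def n15082 : Q := act 0 n11752
theorem D15082 : act 0 n11752 = n15082 := rfl
theorem F68979 : act 1 n15082 = n12588 := d0_2 D11752 D15082 (iv D12588) (iv D9815) (iv F43202)
theorem F68981 : act 4 n15082 = n11781 := d3_2 (iv F54410) D15082 (iv D11781)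
theorem F68984 : act 8 n15082 = n11764 := d7_2 (iv F54413) D15082 (iv D11764)
def n15083 : Q := act 6 n11752
theorem D15083 : act 6 n11752 = n15083 := rfl
theorem F68987 : act 4 n15083 = n11782 := d31_1 D15083 (iv D11782) (iv F54410)
theorem F68988 : act 8 n15083 = n11765 := d40_2 (iv F54413) D15083 (iv D11765)
def n15084 : Q := act 5 n11753
theorem D15084 : act 5 n11753 = n15084 := rfl
theorem F68989 : act 0 n15084 = n12590 := d4_1 D15084 (iv D12590) (iv F54414)
theorem F68990 : act 2 n15084 = n11754 := d19_1 D15084 (iv D11754) (iv F54415)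
theorem F68991 : act 6 n15084 = n15084 := d35_2 D11753 D15084 (iv D15084) (iv D11753) F43204
def n15085 : Q := act 7 n11753
theorem D15085 : act 7 n11753 = n15085 := rfl
theorem F68992 : act 0 n15085 = n12591 := d6_1 D15085 (iv D12591) (iv F54414)
theorem F68993 : act 2 n15085 = n11755 := d21_1 D15085 (iv D11755) (iv F54415)
theorem F68994 : act 4 n15085 = n11784 := d32_1 D15085 (iv D11784) (iv F54416)
theorem F68995 : act 6 n15085 = n12231 := d39_1 D15085 (iv D12231) (iv D9561) (iv F43205) D11753
theorem F68996 : act 8 n15085 = n11767 := d42_2 (iv F54417) D15085 (iv D11767)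
def n15086 : Q := act 4 n11754
theorem D15086 : act 4 n11754 = n15086 := rfl
theorem F68997 : act 0 n15086 = n12592 := d3_1 D15086 (iv D12592) (iv F54418)
theorem F68998 : act 1 n15086 = n15086 := d11_1 D15086 (iv D15086) F54419
theorem F68999 : act 3 n15086 = n15086 := d24_1 D15086 (iv D15086) F54420 F43214 (iv F54420)
theorem F69000 : act 5 n15086 = n11785 := d30_2 D11754 D15086 (iv D11785) (iv D9223) (iv F43210)
theorem F69001 : act 6 n15086 = n15086 := d31_2 F54421 D15086 (iv D15086)
def n15087 : Q := act 7 n11754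
theorem D15087 : act 7 n11754 = n15087 := rfl
theorem F69002 : act 0 n15087 = n12593 := d6_1 D15087 (iv D12593) (iv F54418)
theorem F69003 : act 1 n15087 = n15087 := d14_1 D15087 (iv D15087) F54419
theorem F69004 : act 3 n15087 = n11756 := d27_1 D15087 (iv D11756) (iv F54420)
theorem F69005 : act 5 n15087 = n11755 := d36_1 D15087 (iv D11755) D11754
def n15088 : Q := act 8 n11754
theorem D15088 : act 8 n11754 = n15088 := rfl
theorem F69006 : act 0 n15088 = n12594 := d7_1 D15088 (iv D12594) (iv F54418)
theorem F69007 : act 1 n15088 = n15088 := d15_1 D15088 (iv D15088) F54419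
theorem F69008 : act 3 n15088 = n11757 := d28_1 D15088 (iv D11757) (iv F54420)
theorem F69009 : act 5 n15088 = n11769 := d37_1 D15088 (iv D11769) (iv D9210) (iv F43211) D11754
theorem F69010 : act 6 n15088 = n15088 := d40_1 D15088 (iv D15088) F54421
def n15089 : Q := act 6 n11756
theorem D15089 : act 6 n11756 = n15089 := rfl
theorem F69011 : act 0 n15089 = n12595 := d5_1 D15089 (iv D12595) (iv F54428)
theorem F69012 : act 1 n15089 = n15089 := d13_1 D15089 (iv D15089) F54429
theorem F69013 : act 4 n15089 = n15089 := d31_1 D15089 (iv D15089) F54430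
theorem F69014 : act 5 n15089 = n12234 := d35_1 D15089 (iv D12234) F44898 (iv F43219) (iv F54431)
theorem F69015 : act 7 n15089 = n15089 := d39_2 D11756 D15089 (iv D15089) (iv D11756) F43215
def n15090 : Q := act 8 n11756
theorem D15090 : act 8 n11756 = n15090 := rfl
theorem F69016 : act 0 n15090 = n12596 := d7_1 D15090 (iv D12596) (iv F54428)
theorem F69017 : act 1 n15090 = n15090 := d15_1 D15090 (iv D15090) F54429
theorem F69018 : act 4 n15090 = n15090 := d33_1 D15090 (iv D15090) F54430
theorem F69019 : act 5 n15090 = n11771 := d37_1 D15090 (iv D11771) F43258 (iv F43220) (iv F54431)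
theorem F69020 : act 7 n15090 = n11757 := d42_1 D15090 (iv D11757) D11756
def n15091 : Q := act 9 n11757
theorem D15091 : act 9 n11757 = n15091 := rfl
theorem F69021 : act 0 n15091 = n12597 := d8_1 D15091 (iv D12597) (iv F54432)
theorem F69022 : act 1 n15091 = n15091 := d16_1 D15091 (iv D15091) F54433
theorem F69023 : act 4 n15091 = n15091 := d34_1 D15091 (iv D15091) F54434
theorem F69024 : act 5 n15091 = n11772 := d38_1 D15091 (iv D11772) (iv F54435)
theorem F69025 : act 6 n15091 = n15091 := d41_1 D15091 (iv D15091) F54436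
def n15092 : Q := act 0 n11758
theorem D15092 : act 0 n11758 = n15092 := rfl
theorem F69029 : act 5 n15092 = n12000 := d4_2 (iv F54439) D15092 (iv D12000)
theorem F69030 : act 7 n15092 = n11764 := d6_2 (iv F54440) D15092 (iv D11764)
theorem F69031 : act 8 n15092 = n12228 := d7_2 (iv F54441) D15092 (iv D12228)
def n15093 : Q := act 6 n11758
theorem D15093 : act 6 n11758 = n15093 := rfl
def n15094 : Q := act 5 n11759
theorem D15094 : act 5 n11759 = n15094 := rfl
theorem F69036 : act 0 n15094 = n12600 := d4_1 D15094 (iv D12600) (iv F54442)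
theorem F69038 : act 6 n15094 = n12002 := d35_2 D11759 D15094 (iv D12002) (iv D9387) (iv F43223)
def n15095 : Q := act 7 n11759
theorem D15095 : act 7 n11759 = n15095 := rfl
theorem F69040 : act 2 n15095 = n11761 := d21_1 D15095 (iv D11761) (iv F54443)
theorem F69041 : act 4 n15095 = n11790 := d32_1 D15095 (iv D11790) (iv F54444)
theorem F69042 : act 6 n15095 = n11767 := d39_1 D15095 (iv D11767) (iv D9209) (iv F43224) D11759
theorem F69043 : act 8 n15095 = n12231 := d42_2 (iv F54445) D15095 (iv D12231)
def n15097 : Q := act 7 n11760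
theorem D15097 : act 7 n11760 = n15097 := rfl
theorem F69052 : act 5 n15097 = n11761 := d36_1 D15097 (iv D11761) D11760
def n15098 : Q := act 8 n11760
theorem D15098 : act 8 n11760 = n15098 := rfl
theorem F69056 : act 5 n15098 = n12233 := d37_1 D15098 (iv D12233) (iv D9562) (iv F43230) D11760
theorem F69057 : act 6 n15098 = n12006 := d40_1 D15098 (iv D12006) (iv F54449)
def n15099 : Q := act 6 n11762
theorem D15099 : act 6 n11762 = n15099 := rfl
theorem F69058 : act 0 n15099 = n12605 := d5_1 D15099 (iv D12605) (iv F54456)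
theorem F69059 : act 1 n15099 = n15099 := d13_1 D15099 (iv D15099) F54457
theorem F69060 : act 4 n15099 = n15099 := d31_1 D15099 (iv D15099) F54458
theorem F69061 : act 5 n15099 = n11770 := d35_1 D15099 (iv D11770) F43258 (iv F43238) (iv F54459)
theorem F69062 : act 7 n15099 = n12007 := d39_2 D11762 D15099 (iv D12007) (iv D9390) (iv F43234)
def n15100 : Q := act 8 n11762
theorem D15100 : act 8 n11762 = n15100 := rfl
theorem F69063 : act 0 n15100 = n12606 := d7_1 D15100 (iv D12606) (iv F54456)
theorem F69064 : act 1 n15100 = n15100 := d15_1 D15100 (iv D15100) F54457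
theorem F69065 : act 4 n15100 = n15100 := d33_1 D15100 (iv D15100) F54458
theorem F69066 : act 5 n15100 = n12235 := d37_1 D15100 (iv D12235) F44898 (iv F43239) (iv F54459)
theorem F69067 : act 7 n15100 = n11763 := d42_1 D15100 (iv D11763) D11762
def n15101 : Q := act 9 n11763
theorem D15101 : act 9 n11763 = n15101 := rfl
theorem F69068 : act 0 n15101 = n12607 := d8_1 D15101 (iv D12607) (iv F54460)
theorem F69069 : act 1 n15101 = n15101 := d16_1 D15101 (iv D15101) F54461
theorem F69070 : act 4 n15101 = n15101 := d34_1 D15101 (iv D15101) F54462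
theorem F69071 : act 5 n15101 = n12236 := d38_1 D15101 (iv D12236) (iv F54463)
theorem F69072 : act 6 n15101 = n12009 := d41_1 D15101 (iv D12009) (iv F54464)
def n15102 : Q := act 6 n11764
theorem D15102 : act 6 n11764 = n15102 := rfl
theorem F69073 : act 0 n15102 = n11765 := d5_1 D15102 (iv D11765) D11764
def n15103 : Q := act 5 n11765
theorem D15103 : act 5 n11765 = n15103 := rfl
theorem F69077 : act 1 n15103 = n11766 := d12_1 D15103 (iv D11766) (iv F54469)
theorem F69078 : act 2 n15103 = n15103 := d19_1 D15103 (iv D15103) F54470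
theorem F69079 : act 4 n15103 = n15103 := d30_1 D15103 (iv D15103) F54471 F43356 (iv F54471)
theorem F69080 : act 6 n15103 = n12011 := d35_2 D11765 D15103 (iv D12011) (iv D9393) (iv F43242)
def n15104 : Q := act 7 n11765
theorem D15104 : act 7 n11765 = n15104 := rfl
theorem F69081 : act 1 n15104 = n11767 := d14_1 D15104 (iv D11767) (iv F54469)
theorem F69082 : act 2 n15104 = n15104 := d21_1 D15104 (iv D15104) F54470
theorem F69083 : act 4 n15104 = n11794 := d32_1 D15104 (iv D11794) (iv F54471)
def n15105 : Q := act 7 n11766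
theorem D15105 : act 7 n11766 = n15105 := rfl
theorem F69084 : act 0 n15105 = n12611 := d6_1 D15105 (iv D12611) (iv F54472)
theorem F69085 : act 2 n15105 = n11768 := d21_1 D15105 (iv D11768) (iv F54473)
theorem F69086 : act 4 n15105 = n15105 := d32_1 D15105 (iv D15105) F54474
theorem F69087 : act 5 n15105 = n11767 := d36_1 D15105 (iv D11767) D11766
def n15106 : Q := act 8 n11766
theorem D15106 : act 8 n11766 = n15106 := rfl
theorem F69088 : act 0 n15106 = n12612 := d7_1 D15106 (iv D12612) (iv F54472)
theorem F69089 : act 2 n15106 = n11769 := d22_1 D15106 (iv D11769) (iv F54473)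
theorem F69090 : act 4 n15106 = n15106 := d33_1 D15106 (iv D15106) F54474
theorem F69091 : act 6 n15106 = n12014 := d40_1 D15106 (iv D12014) (iv F54475)
def n15107 : Q := act 6 n11768
theorem D15107 : act 6 n11768 = n15107 := rfl
theorem F69092 : act 0 n15107 = n12613 := d5_1 D15107 (iv D12613) (iv F54479)
theorem F69093 : act 1 n15107 = n15107 := d13_1 D15107 (iv D15107) F54480
theorem F69094 : act 3 n15107 = n11770 := d26_1 D15107 (iv D11770) (iv F54481)
theorem F69095 : act 4 n15107 = n15107 := d31_1 D15107 (iv D15107) F54482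
theorem F69096 : act 7 n15107 = n12015 := d39_2 D11768 D15107 (iv D12015) (iv D9396) (iv F43250)
def n15108 : Q := act 8 n11768
theorem D15108 : act 8 n11768 = n15108 := rfl
theorem F69097 : act 0 n15108 = n12614 := d7_1 D15108 (iv D12614) (iv F54479)
theorem F69098 : act 1 n15108 = n15108 := d15_1 D15108 (iv D15108) F54480
theorem F69099 : act 3 n15108 = n11771 := d28_1 D15108 (iv D11771) (iv F54481)
theorem F69100 : act 4 n15108 = n15108 := d33_1 D15108 (iv D15108) F54482
theorem F69101 : act 7 n15108 = n11769 := d42_1 D15108 (iv D11769) D11768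
def n15109 : Q := act 9 n11769
theorem D15109 : act 9 n11769 = n15109 := rfl
theorem F69102 : act 0 n15109 = n12615 := d8_1 D15109 (iv D12615) (iv F54484)
theorem F69103 : act 1 n15109 = n15109 := d16_1 D15109 (iv D15109) F54485
theorem F69104 : act 3 n15109 = n11772 := d29_1 D15109 (iv D11772) (iv F54486)
theorem F69105 : act 4 n15109 = n15109 := d34_1 D15109 (iv D15109) F54487
theorem F69106 : act 6 n15109 = n12017 := d41_1 D15109 (iv D12017) (iv F54488)
def n15110 : Q := act 8 n11770
theorem D15110 : act 8 n11770 = n15110 := rfl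
theorem F69107 : act 0 n15110 = n12616 := d7_1 D15110 (iv D12616) (iv F54489)
theorem F69108 : act 1 n15110 = n15110 := d15_1 D15110 (iv D15110) F54490
theorem F69109 : act 4 n15110 = n11773 := d33_1 D15110 (iv D11773) (iv F54491)
theorem F69110 : act 6 n15110 = n11771 := d40_1 D15110 (iv D11771) D11770
theorem F69111 : act 7 n15110 = n12018 := d42_1 D15110 (iv D12018) (iv F54492)
def n15111 : Q := act 9 n11771
theorem D15111 : act 9 n11771 = n15111 := rfl
theorem F69112 : act 0 n15111 = n12617 := d8_1 D15111 (iv D12617) (iv F54493)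
theorem F69113 : act 1 n15111 = n15111 := d16_1 D15111 (iv D15111) F54494
theorem F69114 : act 4 n15111 = n11774 := d34_1 D15111 (iv D11774) (iv F54495)
theorem F69115 : act 7 n15111 = n11772 := d43_1 D15111 (iv D11772) (iv F54496)
def n15113 : Q := act 9 n11773
theorem D15113 : act 9 n11773 = n15113 := rfl
theorem F69122 : act 0 n15113 = n12619 := d8_1 D15113 (iv D12619) (iv F54501)
theorem F69123 : act 1 n15113 = n15113 := d16_1 D15113 (iv D15113) F54502
theorem F69124 : act 3 n15113 = n15113 := d29_1 D15113 (iv D15113) F54503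
theorem F69125 : act 6 n15113 = n11774 := d41_1 D15113 (iv D11774) (iv F54504)
theorem F69126 : act 7 n15113 = n12021 := d43_1 D15113 (iv D12021) (iv F54505)
def n15114 : Q := act 0 n11775
theorem D15114 : act 0 n11775 = n15114 := rfl
theorem F69130 : act 5 n15114 = n11798 := d4_2 (iv F54513) D15114 (iv D11798)
theorem F69131 : act 7 n15114 = n12197 := d6_2 (iv F54514) D15114 (iv D12197)
theorem F69132 : act 9 n15114 = n11781 := d8_2 (iv F54515) D15114 (iv D11781)
def n15115 : Q := act 6 n11775
theorem D15115 : act 6 n11775 = n15115 := rfl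
def n15116 : Q := act 5 n11776
theorem D15116 : act 5 n11776 = n15116 := rfl
theorem F69140 : act 6 n15116 = n11800 := d35_2 D11776 D15116 (iv D11800) (iv D9239) (iv F43280)
theorem F69141 : act 9 n15116 = n11783 := d38_2 (iv F54519) D15116 (iv D11783)
def n15117 : Q := act 7 n11776
theorem D15117 : act 7 n11776 = n15117 := rfl
theorem F69142 : act 0 n15117 = n12623 := d6_1 D15117 (iv D12623) (iv F54516)
theorem F69143 : act 2 n15117 = n11778 := d21_1 D15117 (iv D11778) (iv F54517)
theorem F69145 : act 6 n15117 = n12199 := d39_1 D15117 (iv D12199) (iv D9537) (iv F43281) D11776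
theorem F69146 : act 9 n15117 = n11784 := d43_2 (iv F54519) D15117 (iv D11784)
def n15118 : Q := act 4 n11777
theorem D15118 : act 4 n11777 = n15118 := rfl
theorem F69147 : act 0 n15118 = n12624 := d3_1 D15118 (iv D12624) (iv F54520)
theorem F69148 : act 1 n15118 = n15118 := d11_1 D15118 (iv D15118) F54521
theorem F69149 : act 3 n15118 = n15118 := d24_1 D15118 (iv D15118) F54522 F43290 (iv F54522)
theorem F69150 : act 6 n15118 = n11801 := d31_2 (iv F54523) D15118 (iv D11801)
theorem F69151 : act 9 n15118 = n11785 := d34_2 (iv F54524) D15118 (iv D11785)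
def n15119 : Q := act 7 n11777
theorem D15119 : act 7 n11777 = n15119 := rfl
theorem F69152 : act 0 n15119 = n12625 := d6_1 D15119 (iv D12625) (iv F54520)
theorem F69153 : act 1 n15119 = n15119 := d14_1 D15119 (iv D15119) F54521
theorem F69154 : act 3 n15119 = n11779 := d27_1 D15119 (iv D11779) (iv F54522)
theorem F69155 : act 5 n15119 = n11778 := d36_1 D15119 (iv D11778) D11777
theorem F69156 : act 6 n15119 = n15119 := d39_1 D15119 (iv D15119) F54523 F43399 (iv F54523)
theorem F69157 : act 9 n15119 = n11786 := d43_2 (iv F54524) D15119 (iv D11786)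
def n15120 : Q := act 8 n11777
theorem D15120 : act 8 n11777 = n15120 := rfl
theorem F69158 : act 0 n15120 = n12626 := d7_1 D15120 (iv D12626) (iv F54520)
theorem F69159 : act 1 n15120 = n15120 := d15_1 D15120 (iv D15120) F54521
theorem F69160 : act 3 n15120 = n11780 := d28_1 D15120 (iv D11780) (iv F54522)
theorem F69161 : act 6 n15120 = n11802 := d40_1 D15120 (iv D11802) (iv F54523)
theorem F69162 : act 9 n15120 = n15120 := d44_2 (iv F54524) D15120 (iv D15120) F54524 F43312
def n15121 : Q := act 8 n11779
theorem D15121 : act 8 n11779 = n15121 := rfl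
theorem F69163 : act 0 n15121 = n12627 := d7_1 D15121 (iv D12627) (iv F54530)
theorem F69164 : act 1 n15121 = n15121 := d15_1 D15121 (iv D15121) F54531
theorem F69165 : act 2 n15121 = n12498 := d22_1 D15121 (iv D12498) (iv F54532)
theorem F69166 : act 4 n15121 = n15121 := d33_1 D15121 (iv D15121) F54533
theorem F69167 : act 6 n15121 = n15121 := d40_1 D15121 (iv D15121) F54535
theorem F69168 : act 7 n15121 = n11780 := d42_1 D15121 (iv D11780) D11779
theorem F69169 : act 9 n15121 = n15121 := d44_2 (iv F54536) D15121 (iv D15121) F54536 F43324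
def n15122 : Q := act 6 n11781
theorem D15122 : act 6 n11781 = n15122 := rfl
theorem F69170 : act 0 n15122 = n11782 := d5_1 D15122 (iv D11782) D11781
theorem F69174 : act 8 n15122 = n11793 := d40_2 (iv F54548) D15122 (iv D11793)
def n15123 : Q := act 5 n11782
theorem D15123 : act 5 n11782 = n15123 := rfl
theorem F69178 : act 6 n15123 = n11804 := d35_2 D11782 D15123 (iv D11804) (iv D9243) (iv F43301)
def n15124 : Q := act 7 n11782
theorem D15124 : act 7 n11782 = n15124 := rfl
theorem F69184 : act 8 n15124 = n11794 := d42_2 (iv F54552) D15124 (iv D11794)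
def n15125 : Q := act 4 n11783
theorem D15125 : act 4 n11783 = n15125 := rfl
def n15127 : Q := act 7 n11785
theorem D15127 : act 7 n11785 = n15127 := rfl
theorem F69195 : act 0 n15127 = n12633 := d6_1 D15127 (iv D12633) (iv F54563)
theorem F69196 : act 1 n15127 = n15127 := d14_1 D15127 (iv D15127) F54564
theorem F69197 : act 3 n15127 = n15127 := d27_1 D15127 (iv D15127) F54565
theorem F69198 : act 4 n15127 = n11786 := d32_1 D15127 (iv D11786) D11785
theorem F69199 : act 6 n15127 = n15127 := d39_1 D15127 (iv D15127) F54566 F43429 (iv F54566)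
theorem F69200 : act 8 n15127 = n15127 := d42_2 F54567 D15127 (iv D15127)
def n15128 : Q := act 6 n11787
theorem D15128 : act 6 n11787 = n15128 := rfl
theorem F69204 : act 3 n15128 = n12628 := d26_1 D15128 (iv D12628) (iv F54576)
theorem F69205 : act 8 n15128 = n12239 := d40_2 (iv F54579) D15128 (iv D12239)
def n15129 : Q := act 5 n11788
theorem D15129 : act 5 n11788 = n15129 := rfl
theorem F69206 : act 1 n15129 = n11789 := d12_1 D15129 (iv D11789) (iv F54580)
theorem F69208 : act 3 n15129 = n12629 := d25_1 D15129 (iv D12629) (iv F54582)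
theorem F69209 : act 6 n15129 = n11796 := d35_2 D11788 D15129 (iv D11796) (iv D9235) (iv F43327)
def n15130 : Q := act 7 n11788
theorem D15130 : act 7 n11788 = n15130 := rfl
theorem F69214 : act 6 n15130 = n11794 := d39_1 D15130 (iv D11794) (iv D9232) (iv F43328) D11788
def n15131 : Q := act 4 n11789
theorem D15131 : act 4 n11789 = n15131 := rfl
theorem F69218 : act 6 n15131 = n11797 := d31_2 (iv F54587) D15131 (iv D11797)
def n15134 : Q := act 7 n11793
theorem D15134 : act 7 n11793 = n15134 := rfl
theorem F69232 : act 0 n15134 = n11794 := d6_1 D15134 (iv D11794) (iv F54605)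
def n15135 : Q := act 5 n11795
theorem D15135 : act 5 n11795 = n15135 := rfl
theorem F69239 : act 3 n15135 = n12649 := d25_1 D15135 (iv D12649) (iv F54615)
def n15136 : Q := act 4 n11796
theorem D15136 : act 4 n11796 = n15136 := rfl
theorem F69244 : act 5 n15136 = n12035 := d30_2 D11796 D15136 (iv D12035) (iv D9415) (iv F43369)
def n15137 : Q := act 3 n11797
theorem D15137 : act 3 n11797 = n15137 := rfl
theorem F69249 : act 4 n15137 = n12651 := d24_2 D11797 D15137 (iv D12651) (iv D9868) (iv F43374)
def n15138 : Q := act 6 n11798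
theorem D15138 : act 6 n11798 = n15138 := rfl
theorem F69256 : act 3 n15138 = n12501 := d26_1 D15138 (iv D12501) (iv F54631)
def n15139 : Q := act 5 n11799
theorem D15139 : act 5 n11799 = n15139 := rfl
theorem F69261 : act 1 n15139 = n11800 := d12_1 D15139 (iv D11800) (iv F54636)
def n15140 : Q := act 4 n11800
theorem D15140 : act 4 n11800 = n15140 := rfl
theorem F69267 : act 2 n15140 = n11801 := d18_1 D15140 (iv D11801) (iv F54644)
def n15142 : Q := act 8 n11801
theorem D15142 : act 8 n11801 = n15142 := rfl
theorem F69277 : act 0 n15142 = n12648 := d7_1 D15142 (iv D12648) (iv F54648)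
theorem F69278 : act 1 n15142 = n15142 := d15_1 D15142 (iv D15142) F54649
theorem F69279 : act 3 n15142 = n15142 := d28_1 D15142 (iv D15142) F54650
theorem F69280 : act 4 n15142 = n11802 := d33_1 D15142 (iv D11802) D11801
theorem F69281 : act 7 n15142 = n15142 := d42_1 D15142 (iv D15142) F54652
theorem F69282 : act 9 n15142 = n15142 := d44_2 (iv F54653) D15142 (iv D15142) F54653 F43430
theorem F69283 : act 5 n13136 = n15142 := d4_0 F69277 F59993 (iv F60036)
def n15143 : Q := act 5 n11803
theorem D15143 : act 5 n11803 = n15143 := rfl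
theorem F69287 : act 3 n15143 = n12641 := d25_1 D15143 (iv D12641) (iv F54663)
def n15144 : Q := act 4 n11804
theorem D15144 : act 4 n11804 = n15144 := rfl
theorem F69290 : act 1 n15144 = n11805 := d11_1 D15144 (iv D11805) (iv F54667)
def n15146 : Q := act 4 n11806
theorem D15146 : act 4 n11806 = n15146 := rfl
theorem F69301 : act 0 n15146 = n11821 := d3_1 D15146 (iv D11821) (iv F54677)
theorem F69302 : act 1 n15146 = n12103 := d11_1 D15146 (iv D12103) (iv F54678)
theorem F69303 : act 2 n15146 = n15146 := d18_1 D15146 (iv D15146) F54679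
theorem F69304 : act 5 n15146 = n11808 := d30_2 D11806 D15146 (iv D11808) (iv D9250) (iv F43451)
theorem F69305 : act 7 n15146 = n12094 := d32_2 (iv F54681) D15146 (iv D12094)
theorem F69306 : act 9 n15146 = n15146 := d34_2 F54682 D15146 (iv D15146)
def n15147 : Q := act 6 n11806
theorem D15147 : act 6 n11806 = n15147 := rfl
theorem F69307 : act 0 n15147 = n11822 := d5_1 D15147 (iv D11822) (iv F54677)
theorem F69308 : act 1 n15147 = n12104 := d13_1 D15147 (iv D12104) (iv F54678)
theorem F69309 : act 2 n15147 = n15147 := d20_1 D15147 (iv D15147) F54679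
theorem F69310 : act 3 n15147 = n12253 := d26_1 D15147 (iv D12253) (iv F54680)
theorem F69311 : act 5 n15147 = n15147 := d35_1 D15147 (iv D15147) (iv D11806) F43452 D11806
theorem F69312 : act 9 n15147 = n15147 := d41_2 F54682 D15147 (iv D15147)
def n15148 : Q := act 4 n11807
theorem D15148 : act 4 n11807 = n15148 := rfl
theorem F69313 : act 0 n15148 = n11824 := d3_1 D15148 (iv D11824) (iv F54683)
theorem F69314 : act 1 n15148 = n12074 := d11_1 D15148 (iv D12074) (iv F54684)
theorem F69315 : act 2 n15148 = n15148 := d18_1 D15148 (iv D15148) F54685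
theorem F69316 : act 5 n15148 = n12094 := d30_2 D11807 D15148 (iv D12094) (iv D9462) (iv F43459)
theorem F69317 : act 7 n15148 = n11808 := d32_2 (iv F54687) D15148 (iv D11808)
theorem F69318 : act 8 n15148 = n11810 := d33_2 (iv F54688) D15148 (iv D11810)
theorem F69319 : act 9 n15148 = n15148 := d34_2 F54689 D15148 (iv D15148)
def n15149 : Q := act 6 n11807
theorem D15149 : act 6 n11807 = n15149 := rfl
theorem F69320 : act 0 n15149 = n11825 := d5_1 D15149 (iv D11825) (iv F54683)
theorem F69321 : act 1 n15149 = n12075 := d13_1 D15149 (iv D12075) (iv F54684)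
theorem F69322 : act 2 n15149 = n15149 := d20_1 D15149 (iv D15149) F54685
theorem F69323 : act 3 n15149 = n15149 := d26_1 D15149 (iv D15149) F54686
theorem F69324 : act 5 n15149 = n12073 := d35_1 D15149 (iv D12073) (iv D9446) (iv F43460) D11807
theorem F69325 : act 8 n15149 = n11811 := d40_2 (iv F54688) D15149 (iv D11811)
theorem F69326 : act 9 n15149 = n15149 := d41_2 F54689 D15149 (iv D15149)
def n15150 : Q := act 3 n11808
theorem D15150 : act 3 n11808 = n15150 := rfl
theorem F69327 : act 0 n15150 = n11826 := d2_1 D15150 (iv D11826) (iv F54690)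
theorem F69328 : act 1 n15150 = n12652 := d10_1 D15150 (iv D12652) (iv F54691)
theorem F69329 : act 4 n15150 = n15150 := d24_2 D11808 D15150 (iv D15150) (iv D11808) F43466
theorem F69330 : act 8 n15150 = n11812 := d28_2 (iv F54693) D15150 (iv D11812)
theorem F69331 : act 9 n15150 = n15150 := d29_2 F54694 D15150 (iv D15150)
def n15151 : Q := act 6 n11808
theorem D15151 : act 6 n11808 = n15151 := rfl
theorem F69332 : act 0 n15151 = n11827 := d5_1 D15151 (iv D11827) (iv F54690)
theorem F69333 : act 1 n15151 = n12653 := d13_1 D15151 (iv D12653) (iv F54691)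
theorem F69334 : act 2 n15151 = n15151 := d20_1 D15151 (iv D15151) F54692
theorem F69335 : act 4 n15151 = n11809 := d31_1 D15151 (iv D11809) D11808
theorem F69336 : act 8 n15151 = n11813 := d40_2 (iv F54693) D15151 (iv D11813)
theorem F69337 : act 9 n15151 = n15151 := d41_2 F54694 D15151 (iv D15151)
def n15152 : Q := act 7 n11809
theorem D15152 : act 7 n11809 = n15152 := rfl
theorem F69338 : act 0 n15152 = n11828 := d6_1 D15152 (iv D11828) (iv F54695)
theorem F69339 : act 1 n15152 = n12654 := d14_1 D15152 (iv D12654) (iv F54696)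
def n15153 : Q := act 3 n11810
theorem D15153 : act 3 n11810 = n15153 := rfl
theorem F69345 : act 0 n15153 = n11829 := d2_1 D15153 (iv D11829) (iv F54702)
theorem F69346 : act 1 n15153 = n12655 := d10_1 D15153 (iv D12655) (iv F54703)
theorem F69347 : act 4 n15153 = n15153 := d24_2 D11810 D15153 (iv D15153) (iv D11810) F43472
theorem F69348 : act 7 n15153 = n11812 := d27_2 (iv F54705) D15153 (iv D11812)
theorem F69349 : act 9 n15153 = n11946 := d29_2 (iv F54706) D15153 (iv D11946)
def n15154 : Q := act 6 n11810
theorem D15154 : act 6 n11810 = n15154 := rfl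
theorem F69350 : act 0 n15154 = n11830 := d5_1 D15154 (iv D11830) (iv F54702)
theorem F69351 : act 1 n15154 = n12656 := d13_1 D15154 (iv D12656) (iv F54703)
theorem F69352 : act 2 n15154 = n15154 := d20_1 D15154 (iv D15154) F54704
theorem F69353 : act 4 n15154 = n11811 := d31_1 D15154 (iv D11811) D11810
theorem F69354 : act 9 n15154 = n11947 := d41_2 (iv F54706) D15154 (iv D11947)
def n15155 : Q := act 7 n11811
theorem D15155 : act 7 n11811 = n15155 := rfl
theorem F69355 : act 0 n15155 = n11831 := d6_1 D15155 (iv D11831) (iv F54707)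
theorem F69360 : act 6 n15155 = n11814 := d39_1 D15155 (iv D11814) (iv D9253) (iv F43473) D11811
def n15156 : Q := act 2 n11812
theorem D15156 : act 2 n11812 = n15156 := rfl
theorem F69362 : act 0 n15156 = n11832 := d1_1 D15156 (iv D11832) (iv F54713)
theorem F69363 : act 3 n15156 = n15156 := d17_2 D11812 D15156 (iv D15156) (iv D11812) F43477
theorem F69364 : act 4 n15156 = n15156 := d18_2 F54715 D15156 (iv D15156)
theorem F69365 : act 9 n15156 = n11949 := d23_2 (iv F54716) D15156 (iv D11949)
def n15157 : Q := act 6 n11812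
theorem D15157 : act 6 n11812 = n15157 := rfl
theorem F69366 : act 0 n15157 = n11833 := d5_1 D15157 (iv D11833) (iv F54713)
theorem F69367 : act 1 n15157 = n12659 := d13_1 D15157 (iv D12659) (iv F54714)
theorem F69368 : act 3 n15157 = n11813 := d26_1 D15157 (iv D11813) D11812
theorem F69369 : act 4 n15157 = n15157 := d31_1 D15157 (iv D15157) F54715
theorem F69370 : act 9 n15157 = n11950 := d41_2 (iv F54716) D15157 (iv D11950)
def n15158 : Q := act 5 n11813
theorem D15158 : act 5 n11813 = n15158 := rfl
theorem F69371 : act 0 n15158 = n11834 := d4_1 D15158 (iv D11834) (iv F54717)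
theorem F69372 : act 1 n15158 = n12660 := d12_1 D15158 (iv D12660) (iv F54718)
theorem F69375 : act 9 n15158 = n11951 := d38_2 (iv F54721) D15158 (iv D11951)
def n15159 : Q := act 7 n11813
theorem D15159 : act 7 n11813 = n15159 := rfl
theorem F69376 : act 0 n15159 = n11835 := d6_1 D15159 (iv D11835) (iv F54717)
def n15160 : Q := act 1 n11815
theorem D15160 : act 1 n11815 = n15160 := rfl
theorem F69382 : act 2 n15160 = n12662 := d9_2 D11815 D15160 (iv D12662) (iv D9876) (iv F43486)
theorem F69387 : act 9 n15160 = n11953 := d16_2 (iv F54733) D15160 (iv D11953)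
def n15161 : Q := act 6 n11815
theorem D15161 : act 6 n11815 = n15161 := rfl
theorem F69389 : act 2 n15161 = n11816 := d20_1 D15161 (iv D11816) D11815
theorem F69393 : act 9 n15161 = n11954 := d41_2 (iv F54733) D15161 (iv D11954)
def n15162 : Q := act 5 n11816
theorem D15162 : act 5 n11816 = n15162 := rfl
theorem F69394 : act 0 n15162 = n11837 := d4_1 D15162 (iv D11837) (iv F54734)
theorem F69395 : act 1 n15162 = n12664 := d12_1 D15162 (iv D12664) (iv F54735)
theorem F69397 : act 9 n15162 = n11955 := d38_2 (iv F54739) D15162 (iv D11955)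
def n15165 : Q := act 8 n11817
theorem D15165 : act 8 n11817 = n15165 := rfl
theorem F69410 : act 0 n15165 = n11840 := d7_1 D15165 (iv D11840) (iv F54740)
theorem F69411 : act 1 n15165 = n12667 := d15_1 D15165 (iv D12667) (iv F54741)
def n15166 : Q := act 4 n11819
theorem D15166 : act 4 n11819 = n15166 := rfl
theorem F69414 : act 0 n15166 = n12252 := d3_1 D15166 (iv D12252) (iv F54751)
theorem F69415 : act 1 n15166 = n11841 := d11_1 D15166 (iv D11841) (iv F54752)
theorem F69416 : act 2 n15166 = n13004 := d18_1 D15166 (iv D13004) (iv F54753)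
theorem F69417 : act 5 n15166 = n15166 := d30_2 D11819 D15166 (iv D15166) (iv D11819) F43508
theorem F69418 : act 7 n15166 = n12242 := d32_2 (iv F54755) D15166 (iv D12242)
theorem F69419 : act 9 n15166 = n15166 := d34_2 F54756 D15166 (iv D15166)
def n15167 : Q := act 6 n11819
theorem D15167 : act 6 n11819 = n15167 := rfl
theorem F69420 : act 0 n15167 = n12253 := d5_1 D15167 (iv D12253) (iv F54751)
theorem F69421 : act 1 n15167 = n11842 := d13_1 D15167 (iv D11842) (iv F54752)
theorem F69422 : act 2 n15167 = n13005 := d20_1 D15167 (iv D13005) (iv F54753)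
theorem F69423 : act 3 n15167 = n11822 := d26_1 D15167 (iv D11822) (iv F54754)
theorem F69424 : act 5 n15167 = n15167 := d35_1 D15167 (iv D15167) (iv D11819) F43509 D11819
theorem F69425 : act 9 n15167 = n15167 := d41_2 F54756 D15167 (iv D15167)
def n15168 : Q := act 4 n11820
theorem D15168 : act 4 n11820 = n15168 := rfl
theorem F69426 : act 0 n15168 = n12094 := d3_1 D15168 (iv D12094) (iv F54757)
theorem F69427 : act 1 n15168 = n11843 := d11_1 D15168 (iv D11843) (iv F54758)
theorem F69428 : act 2 n15168 = n15168 := d18_1 D15168 (iv D15168) F54759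
theorem F69429 : act 5 n15168 = n11824 := d30_2 D11820 D15168 (iv D11824) (iv D9261) (iv F43516)
theorem F69430 : act 7 n15168 = n11821 := d32_2 (iv F54761) D15168 (iv D11821)
theorem F69431 : act 9 n15168 = n15168 := d34_2 F54762 D15168 (iv D15168)
def n15169 : Q := act 6 n11820
theorem D15169 : act 6 n11820 = n15169 := rfl
theorem F69432 : act 0 n15169 = n12095 := d5_1 D15169 (iv D12095) (iv F54757)
theorem F69433 : act 1 n15169 = n11844 := d13_1 D15169 (iv D11844) (iv F54758)
theorem F69434 : act 2 n15169 = n15169 := d20_1 D15169 (iv D15169) F54759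
theorem F69435 : act 3 n15169 = n12243 := d26_1 D15169 (iv D12243) (iv F54760)
theorem F69436 : act 5 n15169 = n12092 := d35_1 D15169 (iv D12092) (iv D9460) (iv F43517) D11820
theorem F69437 : act 9 n15169 = n15169 := d41_2 F54762 D15169 (iv D15169)
def n15170 : Q := act 3 n11821
theorem D15170 : act 3 n11821 = n15170 := rfl
theorem F69438 : act 1 n15170 = n11845 := d10_1 D15170 (iv D11845) (iv F54763)
theorem F69439 : act 5 n15170 = n11826 := d25_2 (iv F54765) D15170 (iv D11826)
theorem F69440 : act 9 n15170 = n15170 := d29_2 F54766 D15170 (iv D15170)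
def n15171 : Q := act 6 n11821
theorem D15171 : act 6 n11821 = n15171 := rfl
theorem F69441 : act 1 n15171 = n11846 := d13_1 D15171 (iv D11846) (iv F54763)
theorem F69442 : act 2 n15171 = n15171 := d20_1 D15171 (iv D15171) F54764
theorem F69443 : act 4 n15171 = n11822 := d31_1 D15171 (iv D11822) D11821
theorem F69444 : act 9 n15171 = n15171 := d41_2 F54766 D15171 (iv D15171)
def n15172 : Q := act 7 n11822
theorem D15172 : act 7 n11822 = n15172 := rfl
theorem F69445 : act 1 n15172 = n11847 := d14_1 D15172 (iv D11847) (iv F54767)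
theorem F69446 : act 2 n15172 = n15172 := d21_1 D15172 (iv D15172) F54768
theorem F69447 : act 5 n15172 = n15172 := d36_1 D15172 (iv D15172) F54769
theorem F69448 : act 9 n15172 = n15172 := d43_2 F54770 D15172 (iv D15172)
def n15173 : Q := act 4 n11823
theorem D15173 : act 4 n11823 = n15173 := rfl
theorem F69449 : act 0 n15173 = n12072 := d3_1 D15173 (iv D12072) (iv F54771)
theorem F69450 : act 1 n15173 = n11848 := d11_1 D15173 (iv D11848) (iv F54772)
theorem F69451 : act 2 n15173 = n15173 := d18_1 D15173 (iv D15173) F54773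
theorem F69452 : act 5 n15173 = n12091 := d30_2 D11823 D15173 (iv D12091) (iv D9460) (iv F43527)
theorem F69453 : act 7 n15173 = n15173 := d32_2 F54775 D15173 (iv D15173)
theorem F69454 : act 8 n15173 = n15173 := d33_2 F54776 D15173 (iv D15173)
theorem F69455 : act 9 n15173 = n15173 := d34_2 F54777 D15173 (iv D15173)
def n15174 : Q := act 6 n11823
theorem D15174 : act 6 n11823 = n15174 := rfl
theorem F69456 : act 0 n15174 = n12073 := d5_1 D15174 (iv D12073) (iv F54771)
theorem F69457 : act 1 n15174 = n11849 := d13_1 D15174 (iv D11849) (iv F54772)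
theorem F69458 : act 2 n15174 = n15174 := d20_1 D15174 (iv D15174) F54773
theorem F69459 : act 3 n15174 = n15174 := d26_1 D15174 (iv D15174) F54774
theorem F69460 : act 5 n15174 = n11825 := d35_1 D15174 (iv D11825) (iv D9261) (iv F43528) D11823
theorem F69461 : act 8 n15174 = n15174 := d40_2 F54776 D15174 (iv D15174)
theorem F69462 : act 9 n15174 = n15174 := d41_2 F54777 D15174 (iv D15174)
def n15175 : Q := act 3 n11824
theorem D15175 : act 3 n11824 = n15175 := rfl
theorem F69463 : act 1 n15175 = n11850 := d10_1 D15175 (iv D11850) (iv F54778)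
theorem F69464 : act 4 n15175 = n15175 := d24_2 D11824 D15175 (iv D15175) (iv D11824) F43533
theorem F69465 : act 7 n15175 = n11826 := d27_2 (iv F54780) D15175 (iv D11826)
theorem F69466 : act 8 n15175 = n11829 := d28_2 (iv F54781) D15175 (iv D11829)
theorem F69467 : act 9 n15175 = n15175 := d29_2 F54782 D15175 (iv D15175)
def n15176 : Q := act 6 n11824
theorem D15176 : act 6 n11824 = n15176 := rfl
theorem F69468 : act 1 n15176 = n11851 := d13_1 D15176 (iv D11851) (iv F54778)
theorem F69469 : act 2 n15176 = n15176 := d20_1 D15176 (iv D15176) F54779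
theorem F69470 : act 4 n15176 = n11825 := d31_1 D15176 (iv D11825) D11824
theorem F69471 : act 8 n15176 = n11830 := d40_2 (iv F54781) D15176 (iv D11830)
theorem F69472 : act 9 n15176 = n15176 := d41_2 F54782 D15176 (iv D15176)
def n15177 : Q := act 7 n11825
theorem D15177 : act 7 n11825 = n15177 := rfl
theorem F69473 : act 1 n15177 = n11852 := d14_1 D15177 (iv D11852) (iv F54783)
theorem F69474 : act 2 n15177 = n15177 := d21_1 D15177 (iv D15177) F54784
theorem F69475 : act 3 n15177 = n15177 := d27_1 D15177 (iv D15177) F54785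
theorem F69476 : act 6 n15177 = n11828 := d39_1 D15177 (iv D11828) (iv D9263) (iv F43534) D11825
theorem F69477 : act 8 n15177 = n11831 := d42_2 (iv F54786) D15177 (iv D11831)
theorem F69478 : act 9 n15177 = n15177 := d43_2 F54787 D15177 (iv D15177)
def n15178 : Q := act 2 n11826
theorem D15178 : act 2 n11826 = n15178 := rfl
theorem F69479 : act 3 n15178 = n15178 := d17_2 D11826 D15178 (iv D15178) (iv D11826) F43538
theorem F69480 : act 4 n15178 = n15178 := d18_2 F54789 D15178 (iv D15178)
theorem F69481 : act 8 n15178 = n11832 := d22_2 (iv F54790) D15178 (iv D11832)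
theorem F69482 : act 9 n15178 = n15178 := d23_2 F54791 D15178 (iv D15178)
def n15179 : Q := act 6 n11826
theorem D15179 : act 6 n11826 = n15179 := rfl
theorem F69483 : act 1 n15179 = n11854 := d13_1 D15179 (iv D11854) (iv F54788)
theorem F69484 : act 3 n15179 = n11827 := d26_1 D15179 (iv D11827) D11826
theorem F69485 : act 4 n15179 = n15179 := d31_1 D15179 (iv D15179) F54789
theorem F69486 : act 8 n15179 = n11833 := d40_2 (iv F54790) D15179 (iv D11833)
theorem F69487 : act 9 n15179 = n15179 := d41_2 F54791 D15179 (iv D15179)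
def n15180 : Q := act 5 n11827
theorem D15180 : act 5 n11827 = n15180 := rfl
theorem F69488 : act 1 n15180 = n11855 := d12_1 D15180 (iv D11855) (iv F54792)
theorem F69489 : act 2 n15180 = n15180 := d19_1 D15180 (iv D15180) F54793
theorem F69490 : act 4 n15180 = n15180 := d30_1 D15180 (iv D15180) F54794 F43544 (iv F54794)
theorem F69491 : act 9 n15180 = n15180 := d38_2 F54796 D15180 (iv D15180)
def n15181 : Q := act 7 n11827
theorem D15181 : act 7 n11827 = n15181 := rfl
theorem F69492 : act 1 n15181 = n11856 := d14_1 D15181 (iv D11856) (iv F54792)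
theorem F69493 : act 2 n15181 = n15181 := d21_1 D15181 (iv D15181) F54793
theorem F69494 : act 4 n15181 = n11828 := d32_1 D15181 (iv D11828) (iv F54794)
theorem F69495 : act 8 n15181 = n11835 := d42_2 (iv F54795) D15181 (iv D11835)
theorem F69496 : act 9 n15181 = n15181 := d43_2 F54796 D15181 (iv D15181)
def n15182 : Q := act 2 n11829
theorem D15182 : act 2 n11829 = n15182 := rfl
theorem F69497 : act 3 n15182 = n15182 := d17_2 D11829 D15182 (iv D15182) (iv D11829) F43548
theorem F69498 : act 4 n15182 = n15182 := d18_2 F54804 D15182 (iv D15182)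
theorem F69499 : act 7 n15182 = n11832 := d21_2 (iv F54805) D15182 (iv D11832)
theorem F69500 : act 9 n15182 = n11959 := d23_2 (iv F54806) D15182 (iv D11959)
def n15183 : Q := act 6 n11829
theorem D15183 : act 6 n11829 = n15183 := rfl
theorem F69501 : act 1 n15183 = n11858 := d13_1 D15183 (iv D11858) (iv F54803)
theorem F69502 : act 3 n15183 = n11830 := d26_1 D15183 (iv D11830) D11829
theorem F69503 : act 4 n15183 = n15183 := d31_1 D15183 (iv D15183) F54804
theorem F69504 : act 9 n15183 = n11960 := d41_2 (iv F54806) D15183 (iv D11960)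
def n15184 : Q := act 5 n11830
theorem D15184 : act 5 n11830 = n15184 := rfl
theorem F69505 : act 1 n15184 = n11859 := d12_1 D15184 (iv D11859) (iv F54807)
theorem F69506 : act 2 n15184 = n15184 := d19_1 D15184 (iv D15184) F54808
theorem F69507 : act 4 n15184 = n15184 := d30_1 D15184 (iv D15184) F54809 F43554 (iv F54809)
theorem F69508 : act 9 n15184 = n11961 := d38_2 (iv F54810) D15184 (iv D11961)
def n15185 : Q := act 7 n11830
theorem D15185 : act 7 n11830 = n15185 := rfl
theorem F69509 : act 1 n15185 = n11860 := d14_1 D15185 (iv D11860) (iv F54807)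
theorem F69510 : act 2 n15185 = n15185 := d21_1 D15185 (iv D15185) F54808
theorem F69511 : act 4 n15185 = n11831 := d32_1 D15185 (iv D11831) (iv F54809)
theorem F69512 : act 6 n15185 = n11835 := d39_1 D15185 (iv D11835) (iv D9267) (iv F43549) D11830
theorem F69513 : act 9 n15185 = n11962 := d43_2 (iv F54810) D15185 (iv D11962)
def n15186 : Q := act 1 n11832
theorem D15186 : act 1 n11832 = n15186 := rfl
theorem F69514 : act 2 n15186 = n11861 := d9_2 D11832 D15186 (iv D11861) (iv D9286) (iv F43556)
theorem F69515 : act 3 n15186 = n15186 := d10_2 F54817 D15186 (iv D15186)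
theorem F69516 : act 4 n15186 = n15186 := d11_2 F54818 D15186 (iv D15186)
theorem F69517 : act 9 n15186 = n11963 := d16_2 (iv F54819) D15186 (iv D11963)
def n15187 : Q := act 6 n11832
theorem D15187 : act 6 n11832 = n15187 := rfl
theorem F69518 : act 2 n15187 = n11833 := d20_1 D15187 (iv D11833) D11832
theorem F69519 : act 3 n15187 = n15187 := d26_1 D15187 (iv D15187) F54817
theorem F69520 : act 4 n15187 = n15187 := d31_1 D15187 (iv D15187) F54818
theorem F69521 : act 9 n15187 = n11964 := d41_2 (iv F54819) D15187 (iv D11964)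
def n15188 : Q := act 5 n11833
theorem D15188 : act 5 n11833 = n15188 := rfl
theorem F69522 : act 1 n15188 = n11863 := d12_1 D15188 (iv D11863) (iv F54820)
theorem F69523 : act 3 n15188 = n11834 := d25_1 D15188 (iv D11834) (iv F54821)
theorem F69524 : act 9 n15188 = n11965 := d38_2 (iv F54823) D15188 (iv D11965)
def n15189 : Q := act 7 n11833
theorem D15189 : act 7 n11833 = n15189 := rfl
theorem F69525 : act 1 n15189 = n11864 := d14_1 D15189 (iv D11864) (iv F54820)
theorem F69526 : act 3 n15189 = n11835 := d27_1 D15189 (iv D11835) (iv F54821)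
theorem F69527 : act 4 n15189 = n15189 := d32_1 D15189 (iv D15189) F54822
theorem F69528 : act 9 n15189 = n11966 := d43_2 (iv F54823) D15189 (iv D11966)
def n15190 : Q := act 7 n11834
theorem D15190 : act 7 n11834 = n15190 := rfl
theorem F69529 : act 1 n15190 = n11865 := d14_1 D15190 (iv D11865) (iv F54824)
theorem F69532 : act 5 n15190 = n11835 := d36_1 D15190 (iv D11835) D11834
def n15191 : Q := act 8 n11834
theorem D15191 : act 8 n11834 = n15191 := rfl
theorem F69534 : act 1 n15191 = n11866 := d15_1 D15191 (iv D11866) (iv F54824)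
theorem F69535 : act 2 n15191 = n15191 := d22_1 D15191 (iv D15191) F54825
theorem F69536 : act 4 n15191 = n11840 := d33_1 D15191 (iv D11840) (iv F54826)
def n15194 : Q := act 4 n11837
theorem D15194 : act 4 n11837 = n15194 := rfl
theorem F69548 : act 1 n15194 = n11867 := d11_1 D15194 (iv D11867) (iv F54838)
theorem F69549 : act 5 n15194 = n15194 := d30_2 D11837 D15194 (iv D15194) (iv D11837) F43576
theorem F69550 : act 9 n15194 = n11971 := d34_2 (iv F54840) D15194 (iv D11971)
def n15195 : Q := act 7 n11837
theorem D15195 : act 7 n11837 = n15195 := rfl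
theorem F69551 : act 1 n15195 = n11868 := d14_1 D15195 (iv D11868) (iv F54838)
theorem F69552 : act 3 n15195 = n11839 := d27_1 D15195 (iv D11839) (iv F54839)
theorem F69554 : act 9 n15195 = n11972 := d43_2 (iv F54840) D15195 (iv D11972)
def n15196 : Q := act 8 n11837
theorem D15196 : act 8 n11837 = n15196 := rfl
theorem F69555 : act 1 n15196 = n11869 := d15_1 D15196 (iv D11869) (iv F54838)
theorem F69556 : act 3 n15196 = n11840 := d28_1 D15196 (iv D11840) (iv F54839)
theorem F69557 : act 5 n15196 = n15196 := d37_1 D15196 (iv D15196) (iv D11837) F43577 D11837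
def n15197 : Q := act 6 n11839
theorem D15197 : act 6 n11839 = n15197 := rfl
theorem F69558 : act 1 n15197 = n11870 := d13_1 D15197 (iv D11870) (iv F54847)
theorem F69561 : act 9 n15197 = n11974 := d41_2 (iv F54850) D15197 (iv D11974)
def n15198 : Q := act 8 n11839
theorem D15198 : act 8 n11839 = n15198 := rfl
theorem F69565 : act 7 n15198 = n11840 := d42_1 D15198 (iv D11840) D11839
def n15199 : Q := act 9 n11840
theorem D15199 : act 9 n11840 = n15199 := rfl
theorem F69566 : act 1 n15199 = n11872 := d16_1 D15199 (iv D11872) (iv F54851)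
theorem F69567 : act 2 n15199 = n15199 := d23_1 D15199 (iv D15199) F54852
theorem F69568 : act 5 n15199 = n15199 := d38_1 D15199 (iv D15199) F54853
def n15200 : Q := act 3 n11841
theorem D15200 : act 3 n11841 = n15200 := rfl
theorem F69570 : act 0 n15200 = n12696 := d2_1 D15200 (iv D12696) (iv F54854)
theorem F69571 : act 4 n15200 = n11845 := d24_2 D11841 D15200 (iv D11845) (iv D9275) (iv F43590)
theorem F69572 : act 5 n15200 = n15200 := d25_2 F54856 D15200 (iv D15200)
theorem F69573 : act 9 n15200 = n15200 := d29_2 F54857 D15200 (iv D15200)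
def n15201 : Q := act 6 n11841
theorem D15201 : act 6 n11841 = n15201 := rfl
theorem F69574 : act 0 n15201 = n12697 := d5_1 D15201 (iv D12697) (iv F54854)
theorem F69575 : act 2 n15201 = n15201 := d20_1 D15201 (iv D15201) F54855
theorem F69576 : act 4 n15201 = n11842 := d31_1 D15201 (iv D11842) D11841
theorem F69577 : act 9 n15201 = n15201 := d41_2 F54857 D15201 (iv D15201)
def n15202 : Q := act 7 n11842
theorem D15202 : act 7 n11842 = n15202 := rfl
theorem F69578 : act 0 n15202 = n12698 := d6_1 D15202 (iv D12698) (iv F54858)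
theorem F69579 : act 2 n15202 = n15202 := d21_1 D15202 (iv D15202) F54859
theorem F69580 : act 3 n15202 = n11847 := d27_1 D15202 (iv D11847) (iv F54860)
theorem F69581 : act 5 n15202 = n15202 := d36_1 D15202 (iv D15202) F54861
theorem F69582 : act 9 n15202 = n15202 := d43_2 F54862 D15202 (iv D15202)
def n15203 : Q := act 3 n11843
theorem D15203 : act 3 n11843 = n15203 := rfl
theorem F69583 : act 0 n15203 = n12699 := d2_1 D15203 (iv D12699) (iv F54863)
theorem F69584 : act 5 n15203 = n11850 := d25_2 (iv F54865) D15203 (iv D11850)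
theorem F69585 : act 7 n15203 = n11845 := d27_2 (iv F54866) D15203 (iv D11845)
theorem F69586 : act 9 n15203 = n15203 := d29_2 F54867 D15203 (iv D15203)
def n15204 : Q := act 6 n11843
theorem D15204 : act 6 n11843 = n15204 := rfl
theorem F69587 : act 0 n15204 = n12700 := d5_1 D15204 (iv D12700) (iv F54863)
theorem F69588 : act 2 n15204 = n11876 := d20_1 D15204 (iv D11876) (iv F54864)
theorem F69589 : act 4 n15204 = n11844 := d31_1 D15204 (iv D11844) D11843
theorem F69590 : act 9 n15204 = n15204 := d41_2 F54867 D15204 (iv D15204)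
def n15205 : Q := act 7 n11844
theorem D15205 : act 7 n11844 = n15205 := rfl
theorem F69591 : act 0 n15205 = n12701 := d6_1 D15205 (iv D12701) (iv F54868)
theorem F69592 : act 2 n15205 = n11877 := d21_1 D15205 (iv D11877) (iv F54869)
theorem F69593 : act 6 n15205 = n11847 := d39_1 D15205 (iv D11847) (iv D9276) (iv F43594) D11844
theorem F69594 : act 9 n15205 = n15205 := d43_2 F54870 D15205 (iv D15205)
def n15206 : Q := act 2 n11845
theorem D15206 : act 2 n11845 = n15206 := rfl
theorem F69595 : act 0 n15206 = n12702 := d1_1 D15206 (iv D12702) (iv F54871)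
theorem F69596 : act 3 n15206 = n11878 := d17_2 D11845 D15206 (iv D11878) (iv D9297) (iv F43597)
theorem F69597 : act 5 n15206 = n11853 := d19_2 (iv F54872) D15206 (iv D11853)
theorem F69598 : act 9 n15206 = n15206 := d23_2 F54873 D15206 (iv D15206)
def n15207 : Q := act 6 n11845
theorem D15207 : act 6 n11845 = n15207 := rfl
theorem F69599 : act 0 n15207 = n12703 := d5_1 D15207 (iv D12703) (iv F54871)
theorem F69600 : act 3 n15207 = n11846 := d26_1 D15207 (iv D11846) D11845
theorem F69601 : act 9 n15207 = n15207 := d41_2 F54873 D15207 (iv D15207)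
def n15208 : Q := act 5 n11846
theorem D15208 : act 5 n11846 = n15208 := rfl
theorem F69602 : act 0 n15208 = n12704 := d4_1 D15208 (iv D12704) (iv F54874)
theorem F69603 : act 2 n15208 = n11880 := d19_1 D15208 (iv D11880) (iv F54875)
theorem F69604 : act 4 n15208 = n15208 := d30_1 D15208 (iv D15208) F54876 F43602 (iv F54876)
theorem F69605 : act 6 n15208 = n11855 := d35_2 D11846 D15208 (iv D11855) (iv D9281) (iv F43598)
theorem F69606 : act 9 n15208 = n15208 := d38_2 F54877 D15208 (iv D15208)
def n15209 : Q := act 7 n11846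
theorem D15209 : act 7 n11846 = n15209 := rfl
theorem F69607 : act 0 n15209 = n12705 := d6_1 D15209 (iv D12705) (iv F54874)
theorem F69608 : act 2 n15209 = n11881 := d21_1 D15209 (iv D11881) (iv F54875)
theorem F69609 : act 4 n15209 = n11847 := d32_1 D15209 (iv D11847) (iv F54876)
theorem F69610 : act 9 n15209 = n15209 := d43_2 F54877 D15209 (iv D15209)
def n15211 : Q := act 6 n11848
theorem D15211 : act 6 n11848 = n15211 := rfl
theorem F69618 : act 4 n15211 = n11849 := d31_1 D15211 (iv D11849) D11848
def n15212 : Q := act 7 n11849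
theorem D15212 : act 7 n11849 = n15212 := rfl
theorem F69624 : act 5 n15212 = n11852 := d36_1 D15212 (iv D11852) (iv F54890)
def n15213 : Q := act 2 n11850
theorem D15213 : act 2 n11850 = n15213 := rfl
theorem F69629 : act 3 n15213 = n11885 := d17_2 D11850 D15213 (iv D11885) (iv D9302) (iv F43611)
theorem F69630 : act 4 n15213 = n15213 := d18_2 F54894 D15213 (iv D15213)
theorem F69631 : act 7 n15213 = n11853 := d21_2 (iv F54895) D15213 (iv D11853)
theorem F69632 : act 8 n15213 = n11857 := d22_2 (iv F54896) D15213 (iv D11857)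
theorem F69633 : act 9 n15213 = n15213 := d23_2 F54897 D15213 (iv D15213)
def n15214 : Q := act 6 n11850
theorem D15214 : act 6 n11850 = n15214 := rfl
theorem F69634 : act 0 n15214 = n12710 := d5_1 D15214 (iv D12710) (iv F54893)
theorem F69635 : act 3 n15214 = n11851 := d26_1 D15214 (iv D11851) D11850
theorem F69636 : act 4 n15214 = n15214 := d31_1 D15214 (iv D15214) F54894
theorem F69637 : act 8 n15214 = n11858 := d40_2 (iv F54896) D15214 (iv D11858)
theorem F69638 : act 9 n15214 = n15214 := d41_2 F54897 D15214 (iv D15214)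
def n15215 : Q := act 5 n11851
theorem D15215 : act 5 n11851 = n15215 := rfl
theorem F69639 : act 0 n15215 = n12711 := d4_1 D15215 (iv D12711) (iv F54898)
theorem F69640 : act 2 n15215 = n11887 := d19_1 D15215 (iv D11887) (iv F54899)
theorem F69641 : act 9 n15215 = n15215 := d38_2 F54902 D15215 (iv D15215)
def n15216 : Q := act 7 n11851
theorem D15216 : act 7 n11851 = n15216 := rfl
theorem F69642 : act 0 n15216 = n12712 := d6_1 D15216 (iv D12712) (iv F54898)
theorem F69643 : act 2 n15216 = n11888 := d21_1 D15216 (iv D11888) (iv F54899)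
theorem F69644 : act 4 n15216 = n11852 := d32_1 D15216 (iv D11852) (iv F54900)
theorem F69645 : act 6 n15216 = n11856 := d39_1 D15216 (iv D11856) (iv D9281) (iv F43612) D11851
theorem F69646 : act 8 n15216 = n11860 := d42_2 (iv F54901) D15216 (iv D11860)
theorem F69647 : act 9 n15216 = n15216 := d43_2 F54902 D15216 (iv D15216)
def n15217 : Q := act 1 n11853
theorem D15217 : act 1 n11853 = n15217 := rfl
theorem F69648 : act 3 n15217 = n11889 := d10_2 (iv F54910) D15217 (iv D11889)
theorem F69649 : act 4 n15217 = n15217 := d11_2 F54911 D15217 (iv D15217)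
theorem F69650 : act 8 n15217 = n11861 := d15_2 (iv F54912) D15217 (iv D11861)
theorem F69651 : act 9 n15217 = n15217 := d16_2 F54913 D15217 (iv D15217)
def n15218 : Q := act 6 n11853
theorem D15218 : act 6 n11853 = n15218 := rfl
theorem F69652 : act 0 n15218 = n12714 := d5_1 D15218 (iv D12714) (iv F54909)
theorem F69653 : act 2 n15218 = n11854 := d20_1 D15218 (iv D11854) D11853
theorem F69654 : act 3 n15218 = n11890 := d26_1 D15218 (iv D11890) (iv F54910)
theorem F69655 : act 4 n15218 = n15218 := d31_1 D15218 (iv D15218) F54911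
theorem F69656 : act 8 n15218 = n11862 := d40_2 (iv F54912) D15218 (iv D11862)
theorem F69657 : act 9 n15218 = n15218 := d41_2 F54913 D15218 (iv D15218)
def n15219 : Q := act 5 n11854
theorem D15219 : act 5 n11854 = n15219 := rfl
theorem F69658 : act 0 n15219 = n12715 := d4_1 D15219 (iv D12715) (iv F54914)
theorem F69659 : act 3 n15219 = n11855 := d25_1 D15219 (iv D11855) (iv F54915)
theorem F69660 : act 9 n15219 = n15219 := d38_2 F54918 D15219 (iv D15219)
def n15220 : Q := act 7 n11854
theorem D15220 : act 7 n11854 = n15220 := rfl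
theorem F69661 : act 0 n15220 = n12716 := d6_1 D15220 (iv D12716) (iv F54914)
theorem F69662 : act 3 n15220 = n11856 := d27_1 D15220 (iv D11856) (iv F54915)
theorem F69663 : act 4 n15220 = n15220 := d32_1 D15220 (iv D15220) F54916
theorem F69664 : act 8 n15220 = n11864 := d42_2 (iv F54917) D15220 (iv D11864)
theorem F69665 : act 9 n15220 = n15220 := d43_2 F54918 D15220 (iv D15220)
def n15221 : Q := act 7 n11855
theorem D15221 : act 7 n11855 = n15221 := rfl
theorem F69666 : act 0 n15221 = n12717 := d6_1 D15221 (iv D12717) (iv F54919)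
theorem F69667 : act 2 n15221 = n11893 := d21_1 D15221 (iv D11893) (iv F54920)
theorem F69668 : act 4 n15221 = n15221 := d32_1 D15221 (iv D15221) F54921
theorem F69669 : act 5 n15221 = n11856 := d36_1 D15221 (iv D11856) D11855
theorem F69670 : act 9 n15221 = n15221 := d43_2 F54922 D15221 (iv D15221)
def n15222 : Q := act 8 n11855
theorem D15222 : act 8 n11855 = n15222 := rfl
theorem F69671 : act 0 n15222 = n12718 := d7_1 D15222 (iv D12718) (iv F54919)
theorem F69672 : act 2 n15222 = n11894 := d22_1 D15222 (iv D11894) (iv F54920)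
theorem F69673 : act 4 n15222 = n15222 := d33_1 D15222 (iv D15222) F54921
theorem F69674 : act 5 n15222 = n11866 := d37_1 D15222 (iv D11866) (iv D9288) (iv F43627) D11855
def n15223 : Q := act 1 n11857
theorem D15223 : act 1 n11857 = n15223 := rfl
theorem F69675 : act 3 n15223 = n11895 := d10_2 (iv F54929) D15223 (iv D11895)
theorem F69677 : act 7 n15223 = n11861 := d14_2 (iv F54931) D15223 (iv D11861)
def n15224 : Q := act 6 n11857
theorem D15224 : act 6 n11857 = n15224 := rfl
theorem F69679 : act 0 n15224 = n12720 := d5_1 D15224 (iv D12720) (iv F54928)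
theorem F69680 : act 2 n15224 = n11858 := d20_1 D15224 (iv D11858) D11857
theorem F69681 : act 3 n15224 = n11896 := d26_1 D15224 (iv D11896) (iv F54929)
def n15225 : Q := act 5 n11858
theorem D15225 : act 5 n11858 = n15225 := rfl
theorem F69684 : act 0 n15225 = n12721 := d4_1 D15225 (iv D12721) (iv F54933)
theorem F69685 : act 3 n15225 = n11859 := d25_1 D15225 (iv D11859) (iv F54934)
theorem F69686 : act 9 n15225 = n11979 := d38_2 (iv F54936) D15225 (iv D11979)
def n15226 : Q := act 7 n11858
theorem D15226 : act 7 n11858 = n15226 := rfl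
theorem F69687 : act 0 n15226 = n12722 := d6_1 D15226 (iv D12722) (iv F54933)
theorem F69688 : act 3 n15226 = n11860 := d27_1 D15226 (iv D11860) (iv F54934)
theorem F69689 : act 4 n15226 = n15226 := d32_1 D15226 (iv D15226) F54935
theorem F69690 : act 6 n15226 = n11864 := d39_1 D15226 (iv D11864) (iv D9287) (iv F43637) D11858
theorem F69691 : act 9 n15226 = n11980 := d43_2 (iv F54936) D15226 (iv D11980)
def n15227 : Q := act 7 n11859
theorem D15227 : act 7 n11859 = n15227 := rfl
theorem F69692 : act 0 n15227 = n12723 := d6_1 D15227 (iv D12723) (iv F54937)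
theorem F69693 : act 2 n15227 = n11899 := d21_1 D15227 (iv D11899) (iv F54938)
theorem F69694 : act 4 n15227 = n15227 := d32_1 D15227 (iv D15227) F54939
theorem F69695 : act 5 n15227 = n11860 := d36_1 D15227 (iv D11860) D11859
theorem F69696 : act 9 n15227 = n11981 := d43_2 (iv F54940) D15227 (iv D11981)
def n15228 : Q := act 8 n11859
theorem D15228 : act 8 n11859 = n15228 := rfl
theorem F69697 : act 0 n15228 = n12724 := d7_1 D15228 (iv D12724) (iv F54937)
theorem F69698 : act 2 n15228 = n11900 := d22_1 D15228 (iv D11900) (iv F54938)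
theorem F69699 : act 4 n15228 = n15228 := d33_1 D15228 (iv D15228) F54939
def n15229 : Q := act 0 n11861
theorem D15229 : act 0 n11861 = n15229 := rfl
theorem F69701 : act 3 n15229 = n11901 := d2_2 (iv F54946) D15229 (iv D11901)
def n15230 : Q := act 6 n11861
theorem D15230 : act 6 n11861 = n15230 := rfl
theorem F69704 : act 1 n15230 = n11862 := d13_1 D15230 (iv D11862) D11861
theorem F69705 : act 3 n15230 = n11902 := d26_1 D15230 (iv D11902) (iv F54946)
theorem F69706 : act 4 n15230 = n15230 := d31_1 D15230 (iv D15230) F54947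
theorem F69707 : act 9 n15230 = n11984 := d41_2 (iv F54948) D15230 (iv D11984)
def n15231 : Q := act 5 n11862
theorem D15231 : act 5 n11862 = n15231 := rfl
theorem F69708 : act 0 n15231 = n12727 := d4_1 D15231 (iv D12727) (iv F54949)
theorem F69709 : act 2 n15231 = n11863 := d19_1 D15231 (iv D11863) (iv F54950)
theorem F69710 : act 3 n15231 = n11903 := d25_1 D15231 (iv D11903) (iv F54951)
theorem F69711 : act 9 n15231 = n11985 := d38_2 (iv F54953) D15231 (iv D11985)
def n15232 : Q := act 7 n11862
theorem D15232 : act 7 n11862 = n15232 := rfl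
theorem F69712 : act 0 n15232 = n12728 := d6_1 D15232 (iv D12728) (iv F54949)
theorem F69713 : act 2 n15232 = n11864 := d21_1 D15232 (iv D11864) (iv F54950)
theorem F69714 : act 3 n15232 = n11904 := d27_1 D15232 (iv D11904) (iv F54951)
theorem F69715 : act 4 n15232 = n15232 := d32_1 D15232 (iv D15232) F54952
theorem F69716 : act 9 n15232 = n11986 := d43_2 (iv F54953) D15232 (iv D11986)
def n15233 : Q := act 4 n11863
theorem D15233 : act 4 n11863 = n15233 := rfl
theorem F69717 : act 0 n15233 = n12729 := d3_1 D15233 (iv D12729) (iv F54954)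
theorem F69718 : act 3 n15233 = n11867 := d24_1 D15233 (iv D11867) F43667 (iv F43659) (iv F54955)
theorem F69719 : act 5 n15233 = n15233 := d30_2 D11863 D15233 (iv D15233) (iv D11863) F43655
theorem F69720 : act 9 n15233 = n11987 := d34_2 (iv F54956) D15233 (iv D11987)
def n15234 : Q := act 7 n11863
theorem D15234 : act 7 n11863 = n15234 := rfl
theorem F69721 : act 0 n15234 = n12730 := d6_1 D15234 (iv D12730) (iv F54954)
theorem F69722 : act 3 n15234 = n11865 := d27_1 D15234 (iv D11865) (iv F54955)
theorem F69723 : act 5 n15234 = n11864 := d36_1 D15234 (iv D11864) D11863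
theorem F69724 : act 9 n15234 = n11988 := d43_2 (iv F54956) D15234 (iv D11988)
def n15235 : Q := act 8 n11863
theorem D15235 : act 8 n11863 = n15235 := rfl
theorem F69725 : act 0 n15235 = n12731 := d7_1 D15235 (iv D12731) (iv F54954)
theorem F69726 : act 3 n15235 = n11866 := d28_1 D15235 (iv D11866) (iv F54955)
def n15236 : Q := act 6 n11865
theorem D15236 : act 6 n11865 = n15236 := rfl
theorem F69727 : act 0 n15236 = n12732 := d5_1 D15236 (iv D12732) (iv F54961)
theorem F69728 : act 2 n15236 = n11907 := d20_1 D15236 (iv D11907) (iv F54962)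
theorem F69729 : act 4 n15236 = n11870 := d31_1 D15236 (iv D11870) (iv F54963)
theorem F69730 : act 9 n15236 = n11990 := d41_2 (iv F54965) D15236 (iv D11990)
def n15237 : Q := act 8 n11865
theorem D15237 : act 8 n11865 = n15237 := rfl
theorem F69731 : act 0 n15237 = n12733 := d7_1 D15237 (iv D12733) (iv F54961)
theorem F69732 : act 2 n15237 = n11908 := d22_1 D15237 (iv D11908) (iv F54962)
theorem F69733 : act 4 n15237 = n11871 := d33_1 D15237 (iv D11871) (iv F54963)
theorem F69734 : act 7 n15237 = n11866 := d42_1 D15237 (iv D11866) D11865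
def n15238 : Q := act 9 n11866
theorem D15238 : act 9 n11866 = n15238 := rfl
theorem F69735 : act 0 n15238 = n12734 := d8_1 D15238 (iv D12734) (iv F54966)
theorem F69736 : act 2 n15238 = n11909 := d23_1 D15238 (iv D11909) (iv F54967)
theorem F69737 : act 4 n15238 = n11872 := d34_1 D15238 (iv D11872) (iv F54968)
theorem F69738 : act 8 n15238 = n11992 := d44_1 D15238 (iv D11992) (iv D9379) (iv F43660) D11866
def n15239 : Q := act 7 n11867
theorem D15239 : act 7 n11867 = n15239 := rfl
theorem F69739 : act 0 n15239 = n12735 := d6_1 D15239 (iv D12735) (iv F54969)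
theorem F69740 : act 2 n15239 = n15239 := d21_1 D15239 (iv D15239) F54970
theorem F69741 : act 4 n15239 = n11868 := d32_1 D15239 (iv D11868) D11867
theorem F69742 : act 5 n15239 = n15239 := d36_1 D15239 (iv D15239) F54971
theorem F69743 : act 9 n15239 = n11993 := d43_2 (iv F54972) D15239 (iv D11993)
def n15240 : Q := act 8 n11867
theorem D15240 : act 8 n11867 = n15240 := rfl
theorem F69744 : act 0 n15240 = n12736 := d7_1 D15240 (iv D12736) (iv F54969)
theorem F69745 : act 2 n15240 = n15240 := d22_1 D15240 (iv D15240) F54970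
theorem F69746 : act 4 n15240 = n11869 := d33_1 D15240 (iv D11869) D11867
def n15241 : Q := act 6 n11868
theorem D15241 : act 6 n11868 = n15241 := rfl
theorem F69749 : act 3 n15241 = n11870 := d26_1 D15241 (iv D11870) (iv F54975)
theorem F69751 : act 9 n15241 = n11995 := d41_2 (iv F54977) D15241 (iv D11995)
def n15242 : Q := act 8 n11868
theorem D15242 : act 8 n11868 = n15242 := rfl
theorem F69754 : act 3 n15242 = n11871 := d28_1 D15242 (iv D11871) (iv F54975)
theorem F69756 : act 7 n15242 = n11869 := d42_1 D15242 (iv D11869) D11868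
def n15244 : Q := act 8 n11870
theorem D15244 : act 8 n11870 = n15244 := rfl
theorem F69763 : act 2 n15244 = n11910 := d22_1 D15244 (iv D11910) (iv F54983)
theorem F69764 : act 6 n15244 = n11871 := d40_1 D15244 (iv D11871) D11870
def n15245 : Q := act 9 n11871
theorem D15245 : act 9 n11871 = n15245 := rfl
theorem F69768 : act 7 n15245 = n11872 := d43_1 D15245 (iv D11872) (iv F54989)
theorem F69769 : act 8 n15245 = n11999 := d44_1 D15245 (iv D11999) (iv D9384) (iv F43679) D11871
def n15247 : Q := act 6 n11873
theorem D15247 : act 6 n11873 = n15247 := rfl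
theorem F69776 : act 0 n15247 = n12743 := d5_1 D15247 (iv D12743) (iv F54994)
theorem F69777 : act 1 n15247 = n15247 := d13_1 D15247 (iv D15247) F54995
theorem F69778 : act 4 n15247 = n11874 := d31_1 D15247 (iv D11874) D11873
theorem F69779 : act 9 n15247 = n15247 := d41_2 F54998 D15247 (iv D15247)
def n15248 : Q := act 7 n11874
theorem D15248 : act 7 n11874 = n15248 := rfl
theorem F69780 : act 0 n15248 = n12744 := d6_1 D15248 (iv D12744) (iv F54999)
theorem F69781 : act 1 n15248 = n15248 := d14_1 D15248 (iv D15248) F55000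
theorem F69782 : act 3 n15248 = n15248 := d27_1 D15248 (iv D15248) F55001
theorem F69783 : act 5 n15248 = n11877 := d36_1 D15248 (iv D11877) (iv F55002)
theorem F69784 : act 6 n15248 = n15248 := d39_1 D15248 (iv D15248) (iv D11874) F43686 D11874
theorem F69785 : act 9 n15248 = n15248 := d43_2 F55003 D15248 (iv D15248)
def n15249 : Q := act 2 n11875
theorem D15249 : act 2 n11875 = n15249 := rfl
theorem F69787 : act 4 n15249 = n15249 := d18_2 F55006 D15249 (iv D15249)
theorem F69788 : act 5 n15249 = n11885 := d19_2 (iv F55007) D15249 (iv D11885)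
theorem F69789 : act 7 n15249 = n11878 := d21_2 (iv F55008) D15249 (iv D11878)
theorem F69790 : act 9 n15249 = n15249 := d23_2 F55009 D15249 (iv D15249)
def n15250 : Q := act 6 n11875
theorem D15250 : act 6 n11875 = n15250 := rfl
theorem F69791 : act 0 n15250 = n12746 := d5_1 D15250 (iv D12746) (iv F55004)
theorem F69792 : act 1 n15250 = n15250 := d13_1 D15250 (iv D15250) F55005
theorem F69793 : act 3 n15250 = n11876 := d26_1 D15250 (iv D11876) D11875
theorem F69794 : act 4 n15250 = n15250 := d31_1 D15250 (iv D15250) F55006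
theorem F69795 : act 9 n15250 = n15250 := d41_2 F55009 D15250 (iv D15250)
def n15251 : Q := act 5 n11876
theorem D15251 : act 5 n11876 = n15251 := rfl
theorem F69796 : act 0 n15251 = n12747 := d4_1 D15251 (iv D12747) (iv F55010)
theorem F69797 : act 1 n15251 = n15251 := d12_1 D15251 (iv D15251) F55011
theorem F69798 : act 6 n15251 = n11887 := d35_2 D11876 D15251 (iv D11887) (iv D9303) (iv F43690)
theorem F69799 : act 9 n15251 = n15251 := d38_2 F55013 D15251 (iv D15251)
def n15252 : Q := act 7 n11876
theorem D15252 : act 7 n11876 = n15252 := rfl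
theorem F69800 : act 0 n15252 = n12748 := d6_1 D15252 (iv D12748) (iv F55010)
theorem F69801 : act 1 n15252 = n15252 := d14_1 D15252 (iv D15252) F55011
theorem F69802 : act 4 n15252 = n11877 := d32_1 D15252 (iv D11877) (iv F55012)
theorem F69803 : act 6 n15252 = n11881 := d39_1 D15252 (iv D11881) (iv D9298) (iv F43691) D11876
theorem F69804 : act 9 n15252 = n15252 := d43_2 F55013 D15252 (iv D15252)
def n15253 : Q := act 1 n11878
theorem D15253 : act 1 n11878 = n15253 := rfl
theorem F69805 : act 2 n15253 = n15253 := d9_2 D11878 D15253 (iv D15253) (iv D11878) F43698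
theorem F69806 : act 4 n15253 = n15253 := d11_2 F55020 D15253 (iv D15253)
theorem F69807 : act 5 n15253 = n11889 := d12_2 (iv F55021) D15253 (iv D11889)
theorem F69808 : act 9 n15253 = n15253 := d16_2 F55022 D15253 (iv D15253)
def n15254 : Q := act 6 n11878
theorem D15254 : act 6 n11878 = n15254 := rfl
theorem F69809 : act 0 n15254 = n12750 := d5_1 D15254 (iv D12750) (iv F55019)
theorem F69810 : act 2 n15254 = n11879 := d20_1 D15254 (iv D11879) D11878
theorem F69811 : act 4 n15254 = n15254 := d31_1 D15254 (iv D15254) F55020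
theorem F69812 : act 9 n15254 = n15254 := d41_2 F55022 D15254 (iv D15254)
def n15255 : Q := act 5 n11879
theorem D15255 : act 5 n11879 = n15255 := rfl
theorem F69813 : act 0 n15255 = n12751 := d4_1 D15255 (iv D12751) (iv F55023)
theorem F69814 : act 1 n15255 = n15255 := d12_1 D15255 (iv D15255) F55024
theorem F69815 : act 3 n15255 = n11880 := d25_1 D15255 (iv D11880) (iv F55025)
theorem F69816 : act 6 n15255 = n11891 := d35_2 D11879 D15255 (iv D11891) (iv D9306) (iv F43700)
theorem F69817 : act 9 n15255 = n15255 := d38_2 F55027 D15255 (iv D15255)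
def n15256 : Q := act 7 n11879
theorem D15256 : act 7 n11879 = n15256 := rfl
theorem F69818 : act 0 n15256 = n12752 := d6_1 D15256 (iv D12752) (iv F55023)
theorem F69819 : act 1 n15256 = n15256 := d14_1 D15256 (iv D15256) F55024
theorem F69820 : act 3 n15256 = n11881 := d27_1 D15256 (iv D11881) (iv F55025)
theorem F69821 : act 4 n15256 = n15256 := d32_1 D15256 (iv D15256) F55026
theorem F69822 : act 9 n15256 = n15256 := d43_2 F55027 D15256 (iv D15256)
def n15257 : Q := act 7 n11880
theorem D15257 : act 7 n11880 = n15257 := rfl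
theorem F69823 : act 0 n15257 = n12753 := d6_1 D15257 (iv D12753) (iv F55028)
theorem F69824 : act 1 n15257 = n15257 := d14_1 D15257 (iv D15257) F55029
theorem F69825 : act 4 n15257 = n15257 := d32_1 D15257 (iv D15257) F55030
theorem F69826 : act 5 n15257 = n11881 := d36_1 D15257 (iv D11881) D11880
theorem F69827 : act 9 n15257 = n15257 := d43_2 F55032 D15257 (iv D15257)
def n15258 : Q := act 8 n11880
theorem D15258 : act 8 n11880 = n15258 := rfl
theorem F69828 : act 0 n15258 = n12754 := d7_1 D15258 (iv D12754) (iv F55028)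
theorem F69829 : act 1 n15258 = n15258 := d15_1 D15258 (iv D15258) F55029
theorem F69830 : act 4 n15258 = n15258 := d33_1 D15258 (iv D15258) F55030
theorem F69831 : act 6 n15258 = n11894 := d40_1 D15258 (iv D11894) (iv F55031)
def n15260 : Q := act 6 n11882
theorem D15260 : act 6 n11882 = n15260 := rfl
theorem F69839 : act 3 n15260 = n11883 := d26_1 D15260 (iv D11883) D11882
theorem F69840 : act 4 n15260 = n11913 := d31_1 D15260 (iv D11913) (iv F55039)
def n15261 : Q := act 5 n11883
theorem D15261 : act 5 n11883 = n15261 := rfl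
theorem F69845 : act 4 n15261 = n11887 := d30_1 D15261 (iv D11887) F43730 (iv F43719) (iv F55045)
def n15262 : Q := act 7 n11883
theorem D15262 : act 7 n11883 = n15262 := rfl
theorem F69849 : act 4 n15262 = n11884 := d32_1 D15262 (iv D11884) (iv F55045)
def n15263 : Q := act 1 n11885
theorem D15263 : act 1 n11885 = n15263 := rfl
theorem F69855 : act 7 n15263 = n11889 := d14_2 (iv F55057) D15263 (iv D11889)
theorem F69856 : act 8 n15263 = n11895 := d15_2 (iv F55058) D15263 (iv D11895)
def n15264 : Q := act 6 n11885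
theorem D15264 : act 6 n11885 = n15264 := rfl
theorem F69860 : act 4 n15264 = n11917 := d31_1 D15264 (iv D11917) (iv F55056)
def n15265 : Q := act 5 n11886
theorem D15265 : act 5 n11886 = n15265 := rfl
theorem F69865 : act 3 n15265 = n11887 := d25_1 D15265 (iv D11887) (iv F55062)
def n15266 : Q := act 7 n11886
theorem D15266 : act 7 n11886 = n15266 := rfl
theorem F69869 : act 3 n15266 = n11888 := d27_1 D15266 (iv D11888) (iv F55062)
theorem F69870 : act 4 n15266 = n11919 := d32_1 D15266 (iv D11919) (iv F55063)
theorem F69871 : act 6 n15266 = n11892 := d39_1 D15266 (iv D11892) (iv D9306) (iv F43725) D11886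
def n15267 : Q := act 7 n11887
theorem D15267 : act 7 n11887 = n15267 := rfl
theorem F69874 : act 0 n15267 = n12763 := d6_1 D15267 (iv D12763) (iv F55066)
theorem F69876 : act 5 n15267 = n11888 := d36_1 D15267 (iv D11888) D11887
def n15268 : Q := act 8 n11887
theorem D15268 : act 8 n11887 = n15268 := rfl
theorem F69878 : act 0 n15268 = n12764 := d7_1 D15268 (iv D12764) (iv F55066)
theorem F69879 : act 1 n15268 = n15268 := d15_1 D15268 (iv D15268) F55067
theorem F69880 : act 5 n15268 = n11900 := d37_1 D15268 (iv D11900) (iv D9311) (iv F43731) D11887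
def n15269 : Q := act 0 n11889
theorem D15269 : act 0 n11889 = n15269 := rfl
theorem F69884 : act 8 n15269 = n11901 := d7_2 (iv F55077) D15269 (iv D11901)
def n15270 : Q := act 6 n11889
theorem D15270 : act 6 n11889 = n15270 := rfl
theorem F69886 : act 1 n15270 = n11890 := d13_1 D15270 (iv D11890) D11889
theorem F69887 : act 2 n15270 = n15270 := d20_1 D15270 (iv D15270) F55075
theorem F69888 : act 4 n15270 = n11923 := d31_1 D15270 (iv D11923) (iv F55076)
theorem F69889 : act 8 n15270 = n11902 := d40_2 (iv F55077) D15270 (iv D11902)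
theorem F69890 : act 9 n15270 = n15270 := d41_2 F55078 D15270 (iv D15270)
def n15271 : Q := act 5 n11890
theorem D15271 : act 5 n11890 = n15271 := rfl
theorem F69891 : act 0 n15271 = n12767 := d4_1 D15271 (iv D12767) (iv F55079)
theorem F69892 : act 2 n15271 = n11891 := d19_1 D15271 (iv D11891) (iv F55080)
theorem F69893 : act 9 n15271 = n15271 := d38_2 F55083 D15271 (iv D15271)
def n15272 : Q := act 7 n11890
theorem D15272 : act 7 n11890 = n15272 := rfl
theorem F69895 : act 2 n15272 = n11892 := d21_1 D15272 (iv D11892) (iv F55080)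
theorem F69896 : act 4 n15272 = n11925 := d32_1 D15272 (iv D11925) (iv F55081)
theorem F69897 : act 8 n15272 = n11904 := d42_2 (iv F55082) D15272 (iv D11904)
theorem F69898 : act 9 n15272 = n15272 := d43_2 F55083 D15272 (iv D15272)
def n15273 : Q := act 4 n11891
theorem D15273 : act 4 n11891 = n15273 := rfl
theorem F69899 : act 0 n15273 = n12769 := d3_1 D15273 (iv D12769) (iv F55084)
theorem F69900 : act 1 n15273 = n15273 := d11_1 D15273 (iv D15273) F55085
theorem F69901 : act 3 n15273 = n15273 := d24_1 D15273 (iv D15273) F55086 F43751 (iv F55086)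
theorem F69902 : act 5 n15273 = n11926 := d30_2 D11891 D15273 (iv D11926) (iv D9331) (iv F43746)
theorem F69903 : act 9 n15273 = n15273 := d34_2 F55087 D15273 (iv D15273)
def n15274 : Q := act 7 n11891
theorem D15274 : act 7 n11891 = n15274 := rfl
theorem F69904 : act 0 n15274 = n12770 := d6_1 D15274 (iv D12770) (iv F55084)
theorem F69905 : act 1 n15274 = n15274 := d14_1 D15274 (iv D15274) F55085
theorem F69906 : act 3 n15274 = n11893 := d27_1 D15274 (iv D11893) (iv F55086)
theorem F69907 : act 5 n15274 = n11892 := d36_1 D15274 (iv D11892) D11891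
theorem F69908 : act 9 n15274 = n15274 := d43_2 F55087 D15274 (iv D15274)
def n15275 : Q := act 8 n11891
theorem D15275 : act 8 n11891 = n15275 := rfl
theorem F69909 : act 0 n15275 = n12771 := d7_1 D15275 (iv D12771) (iv F55084)
theorem F69910 : act 1 n15275 = n15275 := d15_1 D15275 (iv D15275) F55085
theorem F69911 : act 3 n15275 = n11894 := d28_1 D15275 (iv D11894) (iv F55086)
theorem F69912 : act 5 n15275 = n11906 := d37_1 D15275 (iv D11906) (iv D9315) (iv F43747) D11891
def n15276 : Q := act 6 n11893
theorem D15276 : act 6 n11893 = n15276 := rfl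
theorem F69913 : act 0 n15276 = n12772 := d5_1 D15276 (iv D12772) (iv F55094)
theorem F69914 : act 1 n15276 = n15276 := d13_1 D15276 (iv D15276) F55095
theorem F69915 : act 4 n15276 = n15276 := d31_1 D15276 (iv D15276) F55096
theorem F69916 : act 9 n15276 = n15276 := d41_2 F55098 D15276 (iv D15276)
def n15277 : Q := act 8 n11893
theorem D15277 : act 8 n11893 = n15277 := rfl
theorem F69917 : act 0 n15277 = n12773 := d7_1 D15277 (iv D12773) (iv F55094)
theorem F69918 : act 1 n15277 = n15277 := d15_1 D15277 (iv D15277) F55095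
theorem F69919 : act 4 n15277 = n15277 := d33_1 D15277 (iv D15277) F55096
theorem F69920 : act 5 n15277 = n11908 := d37_1 D15277 (iv D11908) F43796 (iv F43756) (iv F55097)
theorem F69921 : act 7 n15277 = n11894 := d42_1 D15277 (iv D11894) D11893
def n15278 : Q := act 9 n11894
theorem D15278 : act 9 n11894 = n15278 := rfl
theorem F69922 : act 0 n15278 = n12774 := d8_1 D15278 (iv D12774) (iv F55099)
theorem F69923 : act 1 n15278 = n15278 := d16_1 D15278 (iv D15278) F55100
theorem F69924 : act 4 n15278 = n15278 := d34_1 D15278 (iv D15278) F55101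
theorem F69925 : act 5 n15278 = n11909 := d38_1 D15278 (iv D11909) (iv F55102)
theorem F69926 : act 8 n15278 = n15278 := d44_1 D15278 (iv D15278) (iv D11894) F43752 D11894
def n15279 : Q := act 0 n11895
theorem D15279 : act 0 n11895 = n15279 := rfl
theorem F69929 : act 4 n15279 = n11929 := d3_2 (iv F55104) D15279 (iv D11929)
theorem F69930 : act 7 n15279 = n11901 := d6_2 (iv F55105) D15279 (iv D11901)
def n15280 : Q := act 6 n11895
theorem D15280 : act 6 n11895 = n15280 := rfl
theorem F69932 : act 1 n15280 = n11896 := d13_1 D15280 (iv D11896) D11895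
theorem F69934 : act 4 n15280 = n11930 := d31_1 D15280 (iv D11930) (iv F55104)
def n15281 : Q := act 5 n11896
theorem D15281 : act 5 n11896 = n15281 := rfl
theorem F69936 : act 0 n15281 = n12777 := d4_1 D15281 (iv D12777) (iv F55107)
def n15282 : Q := act 7 n11896
theorem D15282 : act 7 n11896 = n15282 := rfl
theorem F69939 : act 0 n15282 = n12778 := d6_1 D15282 (iv D12778) (iv F55107)
theorem F69942 : act 6 n15282 = n11904 := d39_1 D15282 (iv D11904) (iv D9314) (iv F43760) D11896
def n15283 : Q := act 4 n11897
theorem D15283 : act 4 n11897 = n15283 := rfl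
theorem F69944 : act 0 n15283 = n12779 := d3_1 D15283 (iv D12779) (iv F55111)
def n15284 : Q := act 7 n11897
theorem D15284 : act 7 n11897 = n15284 := rfl
theorem F69951 : act 3 n15284 = n11899 := d27_1 D15284 (iv D11899) (iv F55113)
theorem F69952 : act 5 n15284 = n11898 := d36_1 D15284 (iv D11898) D11897
def n15286 : Q := act 6 n11899
theorem D15286 : act 6 n11899 = n15286 := rfl
theorem F69957 : act 0 n15286 = n12782 := d5_1 D15286 (iv D12782) (iv F55121)
theorem F69958 : act 1 n15286 = n15286 := d13_1 D15286 (iv D15286) F55122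
theorem F69959 : act 4 n15286 = n15286 := d31_1 D15286 (iv D15286) F55123
theorem F69960 : act 5 n15286 = n11907 := d35_1 D15286 (iv D11907) F43796 (iv F43774) (iv F55124)
theorem F69961 : act 9 n15286 = n12007 := d41_2 (iv F55125) D15286 (iv D12007)
def n15287 : Q := act 8 n11899
theorem D15287 : act 8 n11899 = n15287 := rfl
theorem F69962 : act 0 n15287 = n12783 := d7_1 D15287 (iv D12783) (iv F55121)
theorem F69963 : act 1 n15287 = n15287 := d15_1 D15287 (iv D15287) F55122
theorem F69964 : act 4 n15287 = n15287 := d33_1 D15287 (iv D15287) F55123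
theorem F69965 : act 7 n15287 = n11900 := d42_1 D15287 (iv D11900) D11899
def n15288 : Q := act 9 n11900
theorem D15288 : act 9 n11900 = n15288 := rfl
theorem F69966 : act 0 n15288 = n12784 := d8_1 D15288 (iv D12784) (iv F55126)
theorem F69967 : act 1 n15288 = n15288 := d16_1 D15288 (iv D15288) F55127
theorem F69968 : act 4 n15288 = n15288 := d34_1 D15288 (iv D15288) F55128
theorem F69969 : act 8 n15288 = n12009 := d44_1 D15288 (iv D12009) (iv D9391) (iv F43770) D11900
def n15289 : Q := act 6 n11901
theorem D15289 : act 6 n11901 = n15289 := rfl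
theorem F69970 : act 0 n15289 = n11902 := d5_1 D15289 (iv D11902) D11901
def n15290 : Q := act 5 n11902
theorem D15290 : act 5 n11902 = n15290 := rfl
theorem F69975 : act 1 n15290 = n11903 := d12_1 D15290 (iv D11903) (iv F55133)
theorem F69976 : act 2 n15290 = n15290 := d19_1 D15290 (iv D15290) F55134
theorem F69977 : act 4 n15290 = n15290 := d30_1 D15290 (iv D15290) F55135 F43925 (iv F55135)
theorem F69978 : act 9 n15290 = n12011 := d38_2 (iv F55136) D15290 (iv D12011)
def n15291 : Q := act 7 n11902
theorem D15291 : act 7 n11902 = n15291 := rfl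
def n15292 : Q := act 7 n11903
theorem D15292 : act 7 n11903 = n15292 := rfl
theorem F69983 : act 0 n15292 = n12788 := d6_1 D15292 (iv D12788) (iv F55137)
theorem F69984 : act 2 n15292 = n11905 := d21_1 D15292 (iv D11905) (iv F55138)
theorem F69985 : act 4 n15292 = n15292 := d32_1 D15292 (iv D15292) F55139
theorem F69986 : act 5 n15292 = n11904 := d36_1 D15292 (iv D11904) D11903
theorem F69987 : act 9 n15292 = n12013 := d43_2 (iv F55140) D15292 (iv D12013)
def n15293 : Q := act 8 n11903
theorem D15293 : act 8 n11903 = n15293 := rfl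
theorem F69988 : act 0 n15293 = n12789 := d7_1 D15293 (iv D12789) (iv F55137)
theorem F69989 : act 2 n15293 = n11906 := d22_1 D15293 (iv D11906) (iv F55138)
theorem F69990 : act 4 n15293 = n15293 := d33_1 D15293 (iv D15293) F55139
def n15294 : Q := act 6 n11905
theorem D15294 : act 6 n11905 = n15294 := rfl
theorem F69991 : act 0 n15294 = n12790 := d5_1 D15294 (iv D12790) (iv F55145)
theorem F69992 : act 1 n15294 = n15294 := d13_1 D15294 (iv D15294) F55146
theorem F69993 : act 3 n15294 = n11907 := d26_1 D15294 (iv D11907) (iv F55147)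
theorem F69994 : act 4 n15294 = n15294 := d31_1 D15294 (iv D15294) F55148
theorem F69995 : act 9 n15294 = n12015 := d41_2 (iv F55150) D15294 (iv D12015)
def n15295 : Q := act 8 n11905
theorem D15295 : act 8 n11905 = n15295 := rfl
theorem F69996 : act 0 n15295 = n12791 := d7_1 D15295 (iv D12791) (iv F55145)
theorem F69997 : act 1 n15295 = n15295 := d15_1 D15295 (iv D15295) F55146
theorem F69998 : act 3 n15295 = n11908 := d28_1 D15295 (iv D11908) (iv F55147)
theorem F69999 : act 4 n15295 = n15295 := d33_1 D15295 (iv D15295) F55148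
theorem F70000 : act 7 n15295 = n11906 := d42_1 D15295 (iv D11906) D11905
def n15296 : Q := act 9 n11906
theorem D15296 : act 9 n11906 = n15296 := rfl
theorem F70001 : act 0 n15296 = n12792 := d8_1 D15296 (iv D12792) (iv F55151)
theorem F70002 : act 1 n15296 = n15296 := d16_1 D15296 (iv D15296) F55152
theorem F70003 : act 3 n15296 = n11909 := d29_1 D15296 (iv D11909) (iv F55153)
theorem F70004 : act 4 n15296 = n15296 := d34_1 D15296 (iv D15296) F55154
theorem F70005 : act 8 n15296 = n12017 := d44_1 D15296 (iv D12017) (iv D9397) (iv F43787) D11906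
def n15297 : Q := act 8 n11907
theorem D15297 : act 8 n11907 = n15297 := rfl
theorem F70006 : act 0 n15297 = n12793 := d7_1 D15297 (iv D12793) (iv F55155)
theorem F70007 : act 1 n15297 = n15297 := d15_1 D15297 (iv D15297) F55156
theorem F70008 : act 4 n15297 = n11910 := d33_1 D15297 (iv D11910) (iv F55157)
theorem F70009 : act 6 n15297 = n11908 := d40_1 D15297 (iv D11908) D11907
def n15298 : Q := act 9 n11908
theorem D15298 : act 9 n11908 = n15298 := rfl
theorem F70010 : act 0 n15298 = n12794 := d8_1 D15298 (iv D12794) (iv F55159)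
theorem F70011 : act 1 n15298 = n15298 := d16_1 D15298 (iv D15298) F55160
theorem F70012 : act 4 n15298 = n11911 := d34_1 D15298 (iv D11911) (iv F55161)
theorem F70013 : act 7 n15298 = n11909 := d43_1 D15298 (iv D11909) (iv F55162)
theorem F70014 : act 8 n15298 = n12019 := d44_1 D15298 (iv D12019) (iv D9399) (iv F43797) D11908
def n15299 : Q := act 5 n11910
theorem D15299 : act 5 n11910 = n15299 := rfl
theorem F70015 : act 0 n15299 = n12795 := d4_1 D15299 (iv D12795) (iv F55167)
theorem F70016 : act 1 n15299 = n15299 := d12_1 D15299 (iv D15299) F55168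
theorem F70017 : act 3 n15299 = n15299 := d25_1 D15299 (iv D15299) F55169
theorem F70018 : act 6 n15299 = n15299 := d35_2 (iv F55170) D15299 (iv D15299) F55170 F43809
theorem F70019 : act 8 n15299 = n15299 := d37_2 D11910 D15299 (iv D15299) (iv D11910) F43804
def n15300 : Q := act 9 n11910
theorem D15300 : act 9 n11910 = n15300 := rfl
theorem F70020 : act 0 n15300 = n12796 := d8_1 D15300 (iv D12796) (iv F55167)
theorem F70021 : act 1 n15300 = n15300 := d16_1 D15300 (iv D15300) F55168
theorem F70022 : act 3 n15300 = n15300 := d29_1 D15300 (iv D15300) F55169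
theorem F70023 : act 6 n15300 = n11911 := d41_1 D15300 (iv D11911) (iv F55170)
theorem F70024 : act 8 n15300 = n12021 := d44_1 D15300 (iv D12021) (iv D9401) (iv F43805) D11910
def n15303 : Q := act 5 n11913
theorem D15303 : act 5 n11913 = n15303 := rfl
theorem F70039 : act 3 n15303 = n11914 := d25_1 D15303 (iv D11914) (iv F55185)
def n15306 : Q := act 8 n11914
theorem D15306 : act 8 n11914 = n15306 := rfl
theorem F70057 : act 4 n15306 = n11921 := d33_1 D15306 (iv D11921) (iv F55191)
def n15307 : Q := act 0 n11916
theorem D15307 : act 0 n11916 = n15307 := rfl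
theorem F70064 : act 7 n15307 = n11922 := d6_2 (iv F55204) D15307 (iv D11922)
theorem F70065 : act 8 n15307 = n11929 := d7_2 (iv F55205) D15307 (iv D11929)
def n15308 : Q := act 6 n11916
theorem D15308 : act 6 n11916 = n15308 := rfl
theorem F70070 : act 8 n15308 = n11930 := d40_2 (iv F55205) D15308 (iv D11930)
def n15309 : Q := act 5 n11917
theorem D15309 : act 5 n11917 = n15309 := rfl
theorem F70072 : act 0 n15309 = n12804 := d4_1 D15309 (iv D12804) (iv F55207)
def n15310 : Q := act 7 n11917
theorem D15310 : act 7 n11917 = n15310 := rfl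
theorem F70080 : act 6 n15310 = n11925 := d39_1 D15310 (iv D11925) (iv D9330) (iv F43838) D11917
theorem F70081 : act 8 n15310 = n11932 := d42_2 (iv F55210) D15310 (iv D11932)
def n15311 : Q := act 4 n11918
theorem D15311 : act 4 n11918 = n15311 := rfl
theorem F70083 : act 0 n15311 = n12806 := d3_1 D15311 (iv D12806) (iv F55212)
def n15312 : Q := act 7 n11918
theorem D15312 : act 7 n11918 = n15312 := rfl
theorem F70090 : act 5 n15312 = n11919 := d36_1 D15312 (iv D11919) D11918
def n15313 : Q := act 8 n11918
theorem D15313 : act 8 n11918 = n15313 := rfl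
theorem F70095 : act 5 n15313 = n11935 := d37_1 D15313 (iv D11935) (iv D9336) (iv F43844) D11918
def n15315 : Q := act 8 n11920
theorem D15315 : act 8 n11920 = n15315 := rfl
theorem F70107 : act 7 n15315 = n11921 := d42_1 D15315 (iv D11921) D11920
def n15316 : Q := act 9 n11921
theorem D15316 : act 9 n11921 = n15316 := rfl
theorem F70111 : act 5 n15316 = n11937 := d38_1 D15316 (iv D11937) (iv F55231)
def n15317 : Q := act 6 n11922
theorem D15317 : act 6 n11922 = n15317 := rfl
theorem F70114 : act 0 n15317 = n11923 := d5_1 D15317 (iv D11923) D11922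
def n15318 : Q := act 5 n11923
theorem D15318 : act 5 n11923 = n15318 := rfl
theorem F70120 : act 1 n15318 = n11924 := d12_1 D15318 (iv D11924) (iv F55239)
theorem F70121 : act 2 n15318 = n15318 := d19_1 D15318 (iv D15318) F55240
theorem F70122 : act 3 n15318 = n15318 := d25_1 D15318 (iv D15318) F55241
theorem F70123 : act 6 n15318 = n15318 := d35_2 D11923 D15318 (iv D15318) (iv D11923) F43860
theorem F70124 : act 8 n15318 = n15318 := d37_2 (iv F55242) D15318 (iv D15318) F55242 F43925
theorem F70125 : act 9 n15318 = n15318 := d38_2 F55243 D15318 (iv D15318)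
def n15319 : Q := act 7 n11923
theorem D15319 : act 7 n11923 = n15319 := rfl
def n15320 : Q := act 4 n11924
theorem D15320 : act 4 n11924 = n15320 := rfl
theorem F70131 : act 0 n15320 = n12815 := d3_1 D15320 (iv D12815) (iv F55244)
def n15321 : Q := act 7 n11924
theorem D15321 : act 7 n11924 = n15321 := rfl
theorem F70139 : act 5 n15321 = n11925 := d36_1 D15321 (iv D11925) D11924
def n15323 : Q := act 6 n11927
theorem D15323 : act 6 n11927 = n15323 := rfl
def n15324 : Q := act 6 n11929
theorem D15324 : act 6 n11929 = n15324 := rfl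
theorem F70154 : act 0 n15324 = n11930 := d5_1 D15324 (iv D11930) D11929
theorem F70155 : act 1 n15324 = n12819 := d13_1 D15324 (iv D12819) (iv F55274)
def n15325 : Q := act 5 n11930
theorem D15325 : act 5 n11930 = n15325 := rfl
def n15326 : Q := act 7 n11930
theorem D15326 : act 7 n11930 = n15326 := rfl
theorem F70167 : act 6 n15326 = n11939 := d39_1 D15326 (iv D11939) (iv D9341) (iv F43889) D11930
def n15327 : Q := act 4 n11931
theorem D15327 : act 4 n11931 = n15327 := rfl
theorem F70169 : act 0 n15327 = n12822 := d3_1 D15327 (iv D12822) (iv F55284)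
def n15328 : Q := act 7 n11931
theorem D15328 : act 7 n11931 = n15328 := rfl
theorem F70173 : act 0 n15328 = n12823 := d6_1 D15328 (iv D12823) (iv F55284)
theorem F70176 : act 5 n15328 = n11932 := d36_1 D15328 (iv D11932) D11931
def n15329 : Q := act 8 n11931
theorem D15329 : act 8 n11931 = n15329 := rfl
theorem F70179 : act 0 n15329 = n12824 := d7_1 D15329 (iv D12824) (iv F55284)
def n15330 : Q := act 7 n11933
theorem D15330 : act 7 n11933 = n15330 := rfl
theorem F70183 : act 0 n15330 = n12825 := d6_1 D15330 (iv D12825) (iv F55294)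
def n15331 : Q := act 8 n11933
theorem D15331 : act 8 n11933 = n15331 := rfl
theorem F70189 : act 0 n15331 = n12826 := d7_1 D15331 (iv D12826) (iv F55294)
def n15332 : Q := act 8 n11934
theorem D15332 : act 8 n11934 = n15332 := rfl
theorem F70198 : act 7 n15332 = n11935 := d42_1 D15332 (iv D11935) D11934
def n15333 : Q := act 9 n11935
theorem D15333 : act 9 n11935 = n15333 := rfl
theorem F70199 : act 0 n15333 = n12828 := d8_1 D15333 (iv D12828) (iv F55305)
def n15334 : Q := act 9 n11936
theorem D15334 : act 9 n11936 = n15334 := rfl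
theorem F70209 : act 7 n15334 = n11937 := d43_1 D15334 (iv D11937) (iv F55314)
def n15335 : Q := act 7 n11938
theorem D15335 : act 7 n11938 = n15335 := rfl
def n15336 : Q := act 5 n11940
theorem D15336 : act 5 n11940 = n15336 := rfl
theorem F70217 : act 0 n15336 = n11941 := d4_1 D15336 (iv D11941) (iv F55332)
theorem F70218 : act 1 n15336 = n12831 := d12_1 D15336 (iv D12831) (iv F55333)
def n15337 : Q := act 4 n11941
theorem D15337 : act 4 n11941 = n15337 := rfl
theorem F70223 : act 1 n15337 = n11942 := d11_1 D15337 (iv D11942) (iv F55339)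
def n15339 : Q := act 3 n11942
theorem D15339 : act 3 n11942 = n15339 := rfl
def n15344 : Q := act 2 n11946
theorem D15344 : act 2 n11946 = n15344 := rfl
theorem F70258 : act 0 n15344 = n11959 := d1_1 D15344 (iv D11959) (iv F55364)
theorem F70259 : act 3 n15344 = n15344 := d17_2 D11946 D15344 (iv D15344) (iv D11946) F43968
theorem F70260 : act 4 n15344 = n15344 := d18_2 F55366 D15344 (iv D15344)
theorem F70261 : act 7 n15344 = n11949 := d21_2 (iv F55367) D15344 (iv D11949)
theorem F70262 : act 8 n15344 = n15344 := d22_2 F55368 D15344 (iv D15344)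
def n15345 : Q := act 6 n11946
theorem D15345 : act 6 n11946 = n15345 := rfl
theorem F70263 : act 0 n15345 = n11960 := d5_1 D15345 (iv D11960) (iv F55364)
theorem F70264 : act 1 n15345 = n12840 := d13_1 D15345 (iv D12840) (iv F55365)
theorem F70265 : act 3 n15345 = n11947 := d26_1 D15345 (iv D11947) D11946
theorem F70266 : act 4 n15345 = n15345 := d31_1 D15345 (iv D15345) F55366
theorem F70267 : act 8 n15345 = n15345 := d40_2 F55368 D15345 (iv D15345)
def n15346 : Q := act 5 n11947
theorem D15346 : act 5 n11947 = n15346 := rfl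
theorem F70268 : act 0 n15346 = n11961 := d4_1 D15346 (iv D11961) (iv F55369)
theorem F70269 : act 1 n15346 = n12841 := d12_1 D15346 (iv D12841) (iv F55370)
theorem F70270 : act 2 n15346 = n15346 := d19_1 D15346 (iv D15346) F55371
theorem F70271 : act 4 n15346 = n15346 := d30_1 D15346 (iv D15346) F55372 F43975 (iv F55372)
def n15347 : Q := act 7 n11947
theorem D15347 : act 7 n11947 = n15347 := rfl
theorem F70272 : act 0 n15347 = n11962 := d6_1 D15347 (iv D11962) (iv F55369)
def n15348 : Q := act 1 n11949
theorem D15348 : act 1 n11949 = n15348 := rfl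
theorem F70278 : act 2 n15348 = n12843 := d9_2 D11949 D15348 (iv D12843) (iv D10007) (iv F43978)
theorem F70279 : act 3 n15348 = n15348 := d10_2 F55382 D15348 (iv D15348)
theorem F70280 : act 4 n15348 = n15348 := d11_2 F55383 D15348 (iv D15348)
theorem F70281 : act 8 n15348 = n15348 := d15_2 F55384 D15348 (iv D15348)
def n15349 : Q := act 6 n11949
theorem D15349 : act 6 n11949 = n15349 := rfl
theorem F70282 : act 0 n15349 = n11964 := d5_1 D15349 (iv D11964) (iv F55381)
theorem F70283 : act 2 n15349 = n11950 := d20_1 D15349 (iv D11950) D11949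
theorem F70284 : act 3 n15349 = n15349 := d26_1 D15349 (iv D15349) F55382
theorem F70285 : act 4 n15349 = n15349 := d31_1 D15349 (iv D15349) F55383
theorem F70286 : act 8 n15349 = n15349 := d40_2 F55384 D15349 (iv D15349)
def n15350 : Q := act 5 n11950
theorem D15350 : act 5 n11950 = n15350 := rfl
theorem F70287 : act 0 n15350 = n11965 := d4_1 D15350 (iv D11965) (iv F55385)
theorem F70288 : act 1 n15350 = n12845 := d12_1 D15350 (iv D12845) (iv F55386)
theorem F70289 : act 3 n15350 = n11951 := d25_1 D15350 (iv D11951) (iv F55387)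
def n15351 : Q := act 7 n11950
theorem D15351 : act 7 n11950 = n15351 := rfl
theorem F70290 : act 0 n15351 = n11966 := d6_1 D15351 (iv D11966) (iv F55385)
theorem F70291 : act 1 n15351 = n12846 := d14_1 D15351 (iv D12846) (iv F55386)
def n15352 : Q := act 7 n11951
theorem D15352 : act 7 n11951 = n15352 := rfl
theorem F70295 : act 0 n15352 = n11967 := d6_1 D15352 (iv D11967) (iv F55390)
theorem F70296 : act 1 n15352 = n12847 := d14_1 D15352 (iv D12847) (iv F55391)
theorem F70298 : act 4 n15352 = n11957 := d32_1 D15352 (iv D11957) (iv F55393)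
def n15353 : Q := act 8 n11951
theorem D15353 : act 8 n11951 = n15353 := rfl
theorem F70300 : act 0 n15353 = n11968 := d7_1 D15353 (iv D11968) (iv F55390)
theorem F70301 : act 1 n15353 = n12848 := d15_1 D15353 (iv D12848) (iv F55391)
theorem F70303 : act 4 n15353 = n11958 := d33_1 D15353 (iv D11958) (iv F55393)
def n15354 : Q := act 6 n11953
theorem D15354 : act 6 n11953 = n15354 := rfl
theorem F70307 : act 2 n15354 = n12849 := d20_1 D15354 (iv D12849) (iv F55400)
theorem F70310 : act 8 n15354 = n12043 := d40_2 (iv F55404) D15354 (iv D12043)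
theorem F70311 : act 5 n13900 = n15354 := d37_5 F70310 F66009 (iv D11178) (iv F49764) D13900
def n15355 : Q := act 5 n11954
theorem D15355 : act 5 n11954 = n15355 := rfl
theorem F70312 : act 0 n15355 = n11969 := d4_1 D15355 (iv D11969) (iv F55405)
theorem F70314 : act 2 n15355 = n11955 := d19_1 D15355 (iv D11955) (iv F55406)
theorem F70316 : act 8 n15355 = n13860 := d37_2 (iv F55409) D15355 F62956 (iv F65945) (iv D12044)
theorem F70317 : act 4 n13862 = n15355 := d33_3 F70316 (iv D13860) D13862
def n15356 : Q := act 7 n11954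
theorem D15356 : act 7 n11954 = n15356 := rfl
theorem F70319 : act 2 n15356 = n11956 := d21_1 D15356 (iv D11956) (iv F55406)
theorem F70323 : act 8 n15356 = n12045 := d42_2 (iv F55409) D15356 (iv D12045)
def n15357 : Q := act 4 n11955
theorem D15357 : act 4 n11955 = n15357 := rfl
theorem F70324 : act 0 n15357 = n11971 := d3_1 D15357 (iv D11971) (iv F55410)
theorem F70325 : act 1 n15357 = n12852 := d11_1 D15357 (iv D12852) (iv F55411)
theorem F70326 : act 2 n15357 = n13862 := d18_1 D15357 F70317 F70314
theorem F70328 : act 8 n13858 = n15357 := d22_0 F70326 (iv D13862) (iv F62949)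
def n15358 : Q := act 7 n11955
theorem D15358 : act 7 n11955 = n15358 := rfl
theorem F70331 : act 3 n15358 = n11957 := d27_1 D15358 (iv D11957) (iv F55412)
theorem F70332 : act 5 n15358 = n11956 := d36_1 D15358 (iv D11956) D11955
def n15359 : Q := act 8 n11955
theorem D15359 : act 8 n11955 = n15359 := rfl
theorem F70334 : act 1 n15359 = n12854 := d15_1 D15359 (iv D12854) (iv F55411)
theorem F70337 : act 4 n15359 = n13858 := d33_1 D15359 F70328 (iv D15357)
theorem F70338 : act 5 n15359 = n12048 := d37_1 D15359 (iv D12048) (iv D9425) (iv F44001) D11955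
def n15360 : Q := act 6 n11957
theorem D15360 : act 6 n11957 = n15360 := rfl
def n15361 : Q := act 8 n11957
theorem D15361 : act 8 n11957 = n15361 := rfl
theorem F70346 : act 5 n15361 = n12050 := d37_1 D15361 (iv D12050) F44322 (iv F44010) (iv F55422)
def n15362 : Q := act 9 n11958
theorem D15362 : act 9 n11958 = n15362 := rfl
theorem F70349 : act 1 n15362 = n12857 := d16_1 D15362 (iv D12857) (iv F55424)
def n15363 : Q := act 1 n11959
theorem D15363 : act 1 n11959 = n15363 := rfl
theorem F70352 : act 2 n15363 = n11977 := d9_2 D11959 D15363 (iv D11977) (iv D9370) (iv F44011)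
theorem F70355 : act 7 n15363 = n11963 := d14_2 (iv F55429) D15363 (iv D11963)
def n15364 : Q := act 6 n11959
theorem D15364 : act 6 n11959 = n15364 := rfl
theorem F70357 : act 2 n15364 = n11960 := d20_1 D15364 (iv D11960) D11959
def n15365 : Q := act 5 n11960
theorem D15365 : act 5 n11960 = n15365 := rfl
theorem F70361 : act 1 n15365 = n11979 := d12_1 D15365 (iv D11979) (iv F55431)
theorem F70362 : act 3 n15365 = n11961 := d25_1 D15365 (iv D11961) (iv F55432)
def n15366 : Q := act 7 n11960
theorem D15366 : act 7 n11960 = n15366 := rfl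
theorem F70363 : act 1 n15366 = n11980 := d14_1 D15366 (iv D11980) (iv F55431)
theorem F70364 : act 3 n15366 = n11962 := d27_1 D15366 (iv D11962) (iv F55432)
theorem F70365 : act 4 n15366 = n15366 := d32_1 D15366 (iv D15366) F55433
theorem F70366 : act 6 n15366 = n11966 := d39_1 D15366 (iv D11966) (iv D9362) (iv F44013) D11960
theorem F70367 : act 8 n15366 = n15366 := d42_2 F55434 D15366 (iv D15366)
def n15367 : Q := act 7 n11961
theorem D15367 : act 7 n11961 = n15367 := rfl
theorem F70368 : act 1 n15367 = n11981 := d14_1 D15367 (iv D11981) (iv F55435)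
theorem F70369 : act 2 n15367 = n15367 := d21_1 D15367 (iv D15367) F55436
theorem F70370 : act 4 n15367 = n15367 := d32_1 D15367 (iv D15367) F55437
theorem F70371 : act 5 n15367 = n11962 := d36_1 D15367 (iv D11962) D11961
def n15368 : Q := act 8 n11961
theorem D15368 : act 8 n11961 = n15368 := rfl
theorem F70372 : act 1 n15368 = n11982 := d15_1 D15368 (iv D11982) (iv F55435)
theorem F70373 : act 2 n15368 = n15368 := d22_1 D15368 (iv D15368) F55436
theorem F70374 : act 4 n15368 = n15368 := d33_1 D15368 (iv D15368) F55437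
theorem F70375 : act 5 n15368 = n15368 := d37_1 D15368 (iv D15368) (iv D11961) F44018 D11961
def n15369 : Q := act 0 n11963
theorem D15369 : act 0 n11963 = n15369 := rfl
theorem F70376 : act 2 n15369 = n11983 := d1_2 (iv F55443) D15369 (iv D11983)
theorem F70377 : act 3 n15369 = n15369 := d2_2 F55444 D15369 (iv D15369)
theorem F70378 : act 4 n15369 = n15369 := d3_2 F55445 D15369 (iv D15369)
theorem F70379 : act 8 n15369 = n15369 := d7_2 F55446 D15369 (iv D15369)
def n15370 : Q := act 6 n11963
theorem D15370 : act 6 n11963 = n15370 := rfl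
theorem F70380 : act 1 n15370 = n11964 := d13_1 D15370 (iv D11964) D11963
theorem F70381 : act 2 n15370 = n11984 := d20_1 D15370 (iv D11984) (iv F55443)
theorem F70382 : act 3 n15370 = n15370 := d26_1 D15370 (iv D15370) F55444
theorem F70383 : act 4 n15370 = n15370 := d31_1 D15370 (iv D15370) F55445
theorem F70384 : act 8 n15370 = n15370 := d40_2 F55446 D15370 (iv D15370)
def n15371 : Q := act 5 n11964
theorem D15371 : act 5 n11964 = n15371 := rfl
theorem F70385 : act 2 n15371 = n11965 := d19_1 D15371 (iv D11965) (iv F55447)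
theorem F70386 : act 3 n15371 = n15371 := d25_1 D15371 (iv D15371) F55448
def n15372 : Q := act 7 n11964
theorem D15372 : act 7 n11964 = n15372 := rfl
theorem F70387 : act 2 n15372 = n11966 := d21_1 D15372 (iv D11966) (iv F55447)
def n15373 : Q := act 4 n11965
theorem D15373 : act 4 n11965 = n15373 := rfl
theorem F70391 : act 1 n15373 = n11987 := d11_1 D15373 (iv D11987) (iv F55451)
theorem F70392 : act 3 n15373 = n11971 := d24_1 D15373 (iv D11971) F44045 (iv F44034) (iv F55452)
theorem F70393 : act 5 n15373 = n15373 := d30_2 D11965 D15373 (iv D15373) (iv D11965) F44030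
def n15374 : Q := act 7 n11965
theorem D15374 : act 7 n11965 = n15374 := rfl
theorem F70396 : act 5 n15374 = n11966 := d36_1 D15374 (iv D11966) D11965
def n15375 : Q := act 8 n11965
theorem D15375 : act 8 n11965 = n15375 := rfl
theorem F70397 : act 1 n15375 = n11989 := d15_1 D15375 (iv D11989) (iv F55451)
theorem F70398 : act 3 n15375 = n11968 := d28_1 D15375 (iv D11968) (iv F55452)
theorem F70399 : act 5 n15375 = n15375 := d37_1 D15375 (iv D15375) (iv D11965) F44031 D11965
def n15376 : Q := act 6 n11967
theorem D15376 : act 6 n11967 = n15376 := rfl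
theorem F70400 : act 1 n15376 = n11990 := d13_1 D15376 (iv D11990) (iv F55457)
theorem F70402 : act 4 n15376 = n11974 := d31_1 D15376 (iv D11974) (iv F55459)
def n15377 : Q := act 8 n11967
theorem D15377 : act 8 n11967 = n15377 := rfl
theorem F70405 : act 4 n15377 = n11975 := d33_1 D15377 (iv D11975) (iv F55459)
theorem F70407 : act 7 n15377 = n11968 := d42_1 D15377 (iv D11968) D11967
def n15378 : Q := act 9 n11968
theorem D15378 : act 9 n11968 = n15378 := rfl
theorem F70408 : act 1 n15378 = n11992 := d16_1 D15378 (iv D11992) (iv F55461)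
def n15379 : Q := act 4 n11969
theorem D15379 : act 4 n11969 = n15379 := rfl
theorem F70412 : act 0 n15379 = n13862 := d3_1 D15379 F70317 F70312
theorem F70414 : act 2 n15379 = n11971 := d18_1 D15379 (iv D11971) (iv F55466)
theorem F70416 : act 3 n13833 = n15379 := d2_0 F70412 F62961 (iv F62854)
theorem F70417 : act 8 n13830 = n15379 := d7_0 F70412 (iv D13862) (iv F62841)
def n15382 : Q := act 7 n11971
theorem D15382 : act 7 n11971 = n15382 := rfl
def n15383 : Q := act 8 n11971
theorem D15383 : act 8 n11971 = n15383 := rfl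
theorem F70434 : act 4 n15383 = n11973 := d33_1 D15383 (iv D11973) D11971
theorem F70435 : act 5 n13829 = n15383 := d30_0 F70434 F55481 (iv F55853) F65951 (iv F62839)
def n15384 : Q := act 6 n11972
theorem D15384 : act 6 n11972 = n15384 := rfl
def n15385 : Q := act 8 n11972
theorem D15385 : act 8 n11972 = n15385 := rfl
theorem F70441 : act 5 n15385 = n12058 := d37_1 D15385 (iv D12058) F44347 (iv F44050) (iv F55478)
def n15387 : Q := act 8 n11974
theorem D15387 : act 8 n11974 = n15387 := rfl
theorem F70448 : act 6 n15387 = n11975 := d40_1 D15387 (iv D11975) D11974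
def n15388 : Q := act 9 n11975
theorem D15388 : act 9 n11975 = n15388 := rfl
theorem F70451 : act 5 n15388 = n12061 := d38_1 D15388 (iv D12061) (iv F55487)
theorem F70452 : act 7 n15388 = n11976 := d43_1 D15388 (iv D11976) (iv F55488)
def n15389 : Q := act 0 n11977
theorem D15389 : act 0 n11977 = n15389 := rfl
theorem F70454 : act 3 n15389 = n12000 := d2_2 (iv F55492) D15389 (iv D12000)
theorem F70456 : act 7 n15389 = n11983 := d6_2 (iv F55494) D15389 (iv D11983)
def n15390 : Q := act 6 n11977
theorem D15390 : act 6 n11977 = n15390 := rfl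
theorem F70458 : act 1 n15390 = n11978 := d13_1 D15390 (iv D11978) D11977
theorem F70459 : act 3 n15390 = n12001 := d26_1 D15390 (iv D12001) (iv F55492)
def n15391 : Q := act 5 n11978
theorem D15391 : act 5 n11978 = n15391 := rfl
theorem F70462 : act 0 n15391 = n12886 := d4_1 D15391 (iv D12886) (iv F55496)
theorem F70463 : act 2 n15391 = n11979 := d19_1 D15391 (iv D11979) (iv F55497)
theorem F70464 : act 3 n15391 = n12002 := d25_1 D15391 (iv D12002) (iv F55498)
def n15392 : Q := act 7 n11978
theorem D15392 : act 7 n11978 = n15392 := rfl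
theorem F70469 : act 6 n15392 = n11986 := d39_1 D15392 (iv D11986) (iv D9375) (iv F44060) D11978
def n15393 : Q := act 4 n11979
theorem D15393 : act 4 n11979 = n15393 := rfl
theorem F70471 : act 0 n15393 = n12888 := d3_1 D15393 (iv D12888) (iv F55501)
theorem F70472 : act 3 n15393 = n15393 := d24_1 D15393 (iv D15393) F55502 F44068 (iv F55502)
theorem F70473 : act 5 n15393 = n15393 := d30_2 D11979 D15393 (iv D15393) (iv D11979) F44064
def n15394 : Q := act 7 n11979
theorem D15394 : act 7 n11979 = n15394 := rfl
theorem F70474 : act 0 n15394 = n12889 := d6_1 D15394 (iv D12889) (iv F55501)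
theorem F70475 : act 3 n15394 = n11981 := d27_1 D15394 (iv D11981) (iv F55502)
theorem F70476 : act 5 n15394 = n11980 := d36_1 D15394 (iv D11980) D11979
def n15395 : Q := act 8 n11979
theorem D15395 : act 8 n11979 = n15395 := rfl
theorem F70478 : act 3 n15395 = n11982 := d28_1 D15395 (iv D11982) (iv F55502)
theorem F70479 : act 5 n15395 = n15395 := d37_1 D15395 (iv D15395) (iv D11979) F44065 D11979
def n15396 : Q := act 6 n11981
theorem D15396 : act 6 n11981 = n15396 := rfl
theorem F70480 : act 0 n15396 = n12891 := d5_1 D15396 (iv D12891) (iv F55508)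
theorem F70481 : act 2 n15396 = n12007 := d20_1 D15396 (iv D12007) (iv F55509)
theorem F70482 : act 4 n15396 = n15396 := d31_1 D15396 (iv D15396) F55510
theorem F70483 : act 5 n15396 = n11990 := d35_1 D15396 (iv D11990) F44091 (iv F44072) (iv F55511)
def n15397 : Q := act 8 n11981
theorem D15397 : act 8 n11981 = n15397 := rfl
theorem F70484 : act 0 n15397 = n12892 := d7_1 D15397 (iv D12892) (iv F55508)
theorem F70485 : act 2 n15397 = n12008 := d22_1 D15397 (iv D12008) (iv F55509)
theorem F70486 : act 4 n15397 = n15397 := d33_1 D15397 (iv D15397) F55510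
theorem F70487 : act 5 n15397 = n15397 := d37_1 D15397 (iv D15397) F55511 F44073 (iv F55511)
theorem F70488 : act 7 n15397 = n11982 := d42_1 D15397 (iv D11982) D11981
def n15398 : Q := act 9 n11982
theorem D15398 : act 9 n11982 = n15398 := rfl
theorem F70489 : act 0 n15398 = n12893 := d8_1 D15398 (iv D12893) (iv F55512)
theorem F70490 : act 2 n15398 = n12009 := d23_1 D15398 (iv D12009) (iv F55513)
theorem F70491 : act 4 n15398 = n15398 := d34_1 D15398 (iv D15398) F55514
theorem F70492 : act 5 n15398 = n15398 := d38_1 D15398 (iv D15398) F55515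
def n15399 : Q := act 6 n11983
theorem D15399 : act 6 n11983 = n15399 := rfl
theorem F70494 : act 1 n15399 = n12894 := d13_1 D15399 (iv D12894) (iv F55516)
def n15400 : Q := act 5 n11984
theorem D15400 : act 5 n11984 = n15400 := rfl
theorem F70498 : act 1 n15400 = n11985 := d12_1 D15400 (iv D11985) (iv F55520)
theorem F70499 : act 3 n15400 = n12011 := d25_1 D15400 (iv D12011) (iv F55521)
def n15401 : Q := act 7 n11984
theorem D15401 : act 7 n11984 = n15401 := rfl
def n15402 : Q := act 4 n11985
theorem D15402 : act 4 n11985 = n15402 := rfl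
theorem F70504 : act 0 n15402 = n12897 := d3_1 D15402 (iv D12897) (iv F55524)
theorem F70505 : act 2 n15402 = n11987 := d18_1 D15402 (iv D11987) (iv F55525)
theorem F70506 : act 3 n15402 = n15402 := d24_1 D15402 (iv D15402) F55526 F44152 (iv F55526)
theorem F70507 : act 5 n15402 = n15402 := d30_2 D11985 D15402 (iv D15402) (iv D11985) F44080
def n15403 : Q := act 7 n11985
theorem D15403 : act 7 n11985 = n15403 := rfl
theorem F70508 : act 0 n15403 = n12898 := d6_1 D15403 (iv D12898) (iv F55524)
theorem F70509 : act 2 n15403 = n11988 := d21_1 D15403 (iv D11988) (iv F55525)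
theorem F70510 : act 3 n15403 = n12013 := d27_1 D15403 (iv D12013) (iv F55526)
theorem F70511 : act 5 n15403 = n11986 := d36_1 D15403 (iv D11986) D11985
def n15404 : Q := act 8 n11985
theorem D15404 : act 8 n11985 = n15404 := rfl
theorem F70512 : act 0 n15404 = n12899 := d7_1 D15404 (iv D12899) (iv F55524)
theorem F70513 : act 2 n15404 = n11989 := d22_1 D15404 (iv D11989) (iv F55525)
theorem F70514 : act 3 n15404 = n12014 := d28_1 D15404 (iv D12014) (iv F55526)
theorem F70515 : act 5 n15404 = n15404 := d37_1 D15404 (iv D15404) (iv D11985) F44081 D11985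
def n15405 : Q := act 7 n11987
theorem D15405 : act 7 n11987 = n15405 := rfl
theorem F70517 : act 3 n15405 = n11993 := d27_1 D15405 (iv D11993) (iv F55533)
theorem F70518 : act 4 n15405 = n11988 := d32_1 D15405 (iv D11988) D11987
def n15406 : Q := act 8 n11987
theorem D15406 : act 8 n11987 = n15406 := rfl
theorem F70520 : act 0 n15406 = n12901 := d7_1 D15406 (iv D12901) (iv F55532)
theorem F70521 : act 3 n15406 = n11994 := d28_1 D15406 (iv D11994) (iv F55533)
def n15407 : Q := act 6 n11988
theorem D15407 : act 6 n11988 = n15407 := rfl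
theorem F70523 : act 0 n15407 = n12902 := d5_1 D15407 (iv D12902) (iv F55535)
theorem F70524 : act 3 n15407 = n11990 := d26_1 D15407 (iv D11990) (iv F55536)
def n15408 : Q := act 8 n11988
theorem D15408 : act 8 n11988 = n15408 := rfl
theorem F70528 : act 7 n15408 = n11989 := d42_1 D15408 (iv D11989) D11988
def n15409 : Q := act 9 n11989
theorem D15409 : act 9 n11989 = n15409 := rfl
theorem F70529 : act 0 n15409 = n12904 := d8_1 D15409 (iv D12904) (iv F55538)
theorem F70530 : act 3 n15409 = n11992 := d29_1 D15409 (iv D11992) (iv F55539)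
theorem F70531 : act 5 n15409 = n15409 := d38_1 D15409 (iv D15409) F55540
def n15410 : Q := act 8 n11990
theorem D15410 : act 8 n11990 = n15410 := rfl
theorem F70533 : act 2 n15410 = n12018 := d22_1 D15410 (iv D12018) (iv F55542)
theorem F70534 : act 4 n15410 = n11998 := d33_1 D15410 (iv D11998) (iv F55543)
def n15411 : Q := act 9 n11991
theorem D15411 : act 9 n11991 = n15411 := rfl
theorem F70538 : act 4 n15411 = n11999 := d34_1 D15411 (iv D11999) (iv F55546)
theorem F70540 : act 7 n15411 = n11992 := d43_1 D15411 (iv D11992) (iv F55548)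
def n15412 : Q := act 6 n11993
theorem D15412 : act 6 n11993 = n15412 := rfl
theorem F70541 : act 0 n15412 = n12907 := d5_1 D15412 (iv D12907) (iv F55553)
def n15413 : Q := act 8 n11993
theorem D15413 : act 8 n11993 = n15413 := rfl
theorem F70547 : act 7 n15413 = n11994 := d42_1 D15413 (iv D11994) D11993
def n15414 : Q := act 5 n11994
theorem D15414 : act 5 n11994 = n15414 := rfl
theorem F70551 : act 4 n15414 = n12064 := d30_1 D15414 (iv D12064) F44376 (iv F44106) (iv F55559)
theorem F70553 : act 6 n13828 = n15414 := d31_0 F70551 F66039 (iv F62834)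
def n15415 : Q := act 9 n11994
theorem D15415 : act 9 n11994 = n15415 := rfl
theorem F70554 : act 0 n15415 = n12910 := d8_1 D15415 (iv D12910) (iv F55557)
def n15416 : Q := act 8 n11995
theorem D15416 : act 8 n11995 = n15416 := rfl
theorem F70560 : act 6 n15416 = n11996 := d40_1 D15416 (iv D11996) D11995
def n15417 : Q := act 9 n11996
theorem D15417 : act 9 n11996 = n15417 := rfl
theorem F70563 : act 3 n15417 = n11999 := d29_1 D15417 (iv D11999) (iv F55566)
theorem F70564 : act 5 n15417 = n12067 := d38_1 D15417 (iv D12067) (iv F55567)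
def n15418 : Q := act 5 n11998
theorem D15418 : act 5 n11998 = n15418 := rfl
theorem F70567 : act 2 n15418 = n12020 := d19_1 D15418 (iv D12020) (iv F55574)
theorem F70568 : act 6 n15418 = n12068 := d35_2 (iv F55575) D15418 (iv D12068) F44396 (iv F44112)
def n15419 : Q := act 9 n11998
theorem D15419 : act 9 n11998 = n15419 := rfl
theorem F70571 : act 2 n15419 = n12021 := d23_1 D15419 (iv D12021) (iv F55574)
def n15420 : Q := act 6 n12000
theorem D15420 : act 6 n12000 = n15420 := rfl
theorem F70573 : act 0 n15420 = n12001 := d5_1 D15420 (iv D12001) D12000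
theorem F70576 : act 4 n15420 = n12022 := d31_1 D15420 (iv D12022) (iv F55582)
def n15421 : Q := act 5 n12001
theorem D15421 : act 5 n12001 = n15421 := rfl
def n15422 : Q := act 7 n12001
theorem D15422 : act 7 n12001 = n15422 := rfl
theorem F70582 : act 4 n15422 = n12024 := d32_1 D15422 (iv D12024) (iv F55587)
theorem F70583 : act 6 n15422 = n12012 := d39_1 D15422 (iv D12012) (iv D9393) (iv F44119) D12001
def n15423 : Q := act 4 n12002
theorem D15423 : act 4 n12002 = n15423 := rfl
theorem F70585 : act 0 n15423 = n12918 := d3_1 D15423 (iv D12918) (iv F55589)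
theorem F70587 : act 5 n15423 = n12025 := d30_2 D12002 D15423 (iv D12025) (iv D9405) (iv F44123)
def n15424 : Q := act 7 n12002
theorem D15424 : act 7 n12002 = n15424 := rfl
theorem F70590 : act 5 n15424 = n12003 := d36_1 D15424 (iv D12003) D12002
def n15426 : Q := act 7 n12004
theorem D15426 : act 7 n12004 = n15426 := rfl
theorem F70594 : act 0 n15426 = n12921 := d6_1 D15426 (iv D12921) (iv F55596)
theorem F70597 : act 4 n15426 = n12005 := d32_1 D15426 (iv D12005) D12004
theorem F70598 : act 5 n15426 = n12028 := d36_1 D15426 (iv D12028) (iv F55599)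
def n15427 : Q := act 8 n12004
theorem D15427 : act 8 n12004 = n15427 := rfl
theorem F70599 : act 0 n15427 = n12922 := d7_1 D15427 (iv D12922) (iv F55596)
theorem F70602 : act 4 n15427 = n12006 := d33_1 D15427 (iv D12006) D12004
def n15428 : Q := act 6 n12005
theorem D15428 : act 6 n12005 = n15428 := rfl
theorem F70605 : act 3 n15428 = n12007 := d26_1 D15428 (iv D12007) (iv F55602)
theorem F70606 : act 5 n15428 = n12015 := d35_1 D15428 (iv D12015) F44161 (iv F44132) (iv F55603)
def n15429 : Q := act 8 n12005
theorem D15429 : act 8 n12005 = n15429 := rfl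
def n15431 : Q := act 8 n12007
theorem D15431 : act 8 n12007 = n15431 := rfl
theorem F70616 : act 0 n15431 = n12926 := d7_1 D15431 (iv D12926) (iv F55608)
theorem F70617 : act 1 n15431 = n15431 := d15_1 D15431 (iv D15431) F55609
theorem F70618 : act 4 n15431 = n15431 := d33_1 D15431 (iv D15431) F55610
theorem F70619 : act 6 n15431 = n12008 := d40_1 D15431 (iv D12008) D12007
def n15432 : Q := act 9 n12008
theorem D15432 : act 9 n12008 = n15432 := rfl
theorem F70620 : act 0 n15432 = n12927 := d8_1 D15432 (iv D12927) (iv F55612)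
theorem F70621 : act 1 n15432 = n15432 := d16_1 D15432 (iv D15432) F55613
theorem F70622 : act 4 n15432 = n15432 := d34_1 D15432 (iv D15432) F55614
theorem F70623 : act 5 n15432 = n15432 := d38_1 D15432 (iv D15432) F55615
theorem F70624 : act 7 n15432 = n12009 := d43_1 D15432 (iv D12009) (iv F55616)
def n15433 : Q := act 5 n12010
theorem D15433 : act 5 n12010 = n15433 := rfl
theorem F70625 : act 0 n15433 = n12011 := d4_1 D15433 (iv D12011) (iv F55621)
def n15434 : Q := act 7 n12010
theorem D15434 : act 7 n12010 = n15434 := rfl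
def n15435 : Q := act 7 n12011
theorem D15435 : act 7 n12011 = n15435 := rfl
theorem F70634 : act 1 n15435 = n12013 := d14_1 D15435 (iv D12013) (iv F55626)
theorem F70637 : act 5 n15435 = n12012 := d36_1 D15435 (iv D12012) D12011
def n15436 : Q := act 8 n12011
theorem D15436 : act 8 n12011 = n15436 := rfl
theorem F70638 : act 1 n15436 = n12014 := d15_1 D15436 (iv D12014) (iv F55626)
theorem F70639 : act 2 n15436 = n15436 := d22_1 D15436 (iv D15436) F55627
theorem F70640 : act 4 n15436 = n15436 := d33_1 D15436 (iv D15436) F55628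
theorem F70641 : act 5 n15436 = n15436 := d37_1 D15436 (iv D15436) (iv D12011) F44149 D12011
def n15437 : Q := act 6 n12013
theorem D15437 : act 6 n12013 = n15437 := rfl
theorem F70642 : act 0 n15437 = n12932 := d5_1 D15437 (iv D12932) (iv F55633)
theorem F70643 : act 2 n15437 = n12015 := d20_1 D15437 (iv D12015) (iv F55634)
theorem F70644 : act 4 n15437 = n15437 := d31_1 D15437 (iv D15437) F55635
def n15438 : Q := act 8 n12013
theorem D15438 : act 8 n12013 = n15438 := rfl
theorem F70645 : act 0 n15438 = n12933 := d7_1 D15438 (iv D12933) (iv F55633)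
theorem F70646 : act 2 n15438 = n12016 := d22_1 D15438 (iv D12016) (iv F55634)
theorem F70647 : act 4 n15438 = n15438 := d33_1 D15438 (iv D15438) F55635
theorem F70648 : act 5 n15438 = n15438 := d37_1 D15438 (iv D15438) F55636 F44156 (iv F55636)
theorem F70649 : act 7 n15438 = n12014 := d42_1 D15438 (iv D12014) D12013
def n15439 : Q := act 9 n12014
theorem D15439 : act 9 n12014 = n15439 := rfl
theorem F70650 : act 0 n15439 = n12934 := d8_1 D15439 (iv D12934) (iv F55637)
theorem F70651 : act 2 n15439 = n12017 := d23_1 D15439 (iv D12017) (iv F55638)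
theorem F70652 : act 4 n15439 = n15439 := d34_1 D15439 (iv D15439) F55639
theorem F70653 : act 5 n15439 = n15439 := d38_1 D15439 (iv D15439) F55640
def n15440 : Q := act 8 n12015
theorem D15440 : act 8 n12015 = n15440 := rfl
theorem F70654 : act 0 n15440 = n12935 := d7_1 D15440 (iv D12935) (iv F55641)
theorem F70655 : act 1 n15440 = n15440 := d15_1 D15440 (iv D15440) F55642
theorem F70656 : act 3 n15440 = n12018 := d28_1 D15440 (iv D12018) (iv F55643)
theorem F70657 : act 4 n15440 = n15440 := d33_1 D15440 (iv D15440) F55644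
theorem F70658 : act 6 n15440 = n12016 := d40_1 D15440 (iv D12016) D12015
def n15441 : Q := act 9 n12016
theorem D15441 : act 9 n12016 = n15441 := rfl
theorem F70659 : act 0 n15441 = n12936 := d8_1 D15441 (iv D12936) (iv F55645)
theorem F70660 : act 1 n15441 = n15441 := d16_1 D15441 (iv D15441) F55646
theorem F70661 : act 3 n15441 = n12019 := d29_1 D15441 (iv D12019) (iv F55647)
theorem F70662 : act 4 n15441 = n15441 := d34_1 D15441 (iv D15441) F55648
theorem F70663 : act 5 n15441 = n15441 := d38_1 D15441 (iv D15441) F55649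
theorem F70664 : act 7 n15441 = n12017 := d43_1 D15441 (iv D12017) (iv F55650)
def n15442 : Q := act 5 n12018
theorem D15442 : act 5 n12018 = n15442 := rfl
theorem F70665 : act 0 n15442 = n12937 := d4_1 D15442 (iv D12937) (iv F55656)
theorem F70666 : act 1 n15442 = n15442 := d12_1 D15442 (iv D15442) F55657
theorem F70667 : act 6 n15442 = n15442 := d35_2 (iv F55659) D15442 (iv D15442) F55659 F44173
def n15443 : Q := act 9 n12018
theorem D15443 : act 9 n12018 = n15443 := rfl
theorem F70668 : act 0 n15443 = n12938 := d8_1 D15443 (iv D12938) (iv F55656)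
theorem F70669 : act 1 n15443 = n15443 := d16_1 D15443 (iv D15443) F55657
theorem F70670 : act 4 n15443 = n12021 := d34_1 D15443 (iv D12021) (iv F55658)
theorem F70671 : act 6 n15443 = n12019 := d41_1 D15443 (iv D12019) (iv F55659)
def n15444 : Q := act 4 n12020
theorem D15444 : act 4 n12020 = n15444 := rfl
theorem F70674 : act 6 n15444 = n12070 := d31_2 (iv F55668) D15444 (iv D12070)
def n15446 : Q := act 5 n12022
theorem D15446 : act 5 n12022 = n15446 := rfl
theorem F70681 : act 0 n15446 = n12023 := d4_1 D15446 (iv D12023) (iv F55674)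
theorem F70682 : act 1 n15446 = n12941 := d12_1 D15446 (iv D12941) (iv F55675)
def n15447 : Q := act 7 n12022
theorem D15447 : act 7 n12022 = n15447 := rfl
theorem F70690 : act 6 n15447 = n12033 := d39_1 D15447 (iv D12033) (iv D9412) (iv F44192) D12022
def n15448 : Q := act 4 n12023
theorem D15448 : act 4 n12023 = n15448 := rfl
def n15449 : Q := act 7 n12023
theorem D15449 : act 7 n12023 = n15449 := rfl
theorem F70698 : act 5 n15449 = n12024 := d36_1 D15449 (iv D12024) D12023
def n15450 : Q := act 8 n12023
theorem D15450 : act 8 n12023 = n15450 := rfl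
def n15451 : Q := act 3 n12025
theorem D15451 : act 3 n12025 = n15451 := rfl
theorem F70706 : act 2 n15451 = n15451 := d17_1 D15451 (iv D15451) F55689 F44209 (iv F55689)
def n15452 : Q := act 7 n12025
theorem D15452 : act 7 n12025 = n15452 := rfl
theorem F70709 : act 0 n15452 = n12947 := d6_1 D15452 (iv D12947) (iv F55688)
def n15453 : Q := act 8 n12025
theorem D15453 : act 8 n12025 = n15453 := rfl
theorem F70713 : act 0 n15453 = n12948 := d7_1 D15453 (iv D12948) (iv F55688)
theorem F70715 : act 4 n15453 = n12027 := d33_1 D15453 (iv D12027) D12025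
theorem F70716 : act 6 n15453 = n12038 := d40_1 D15453 (iv D12038) (iv F55690)
def n15454 : Q := act 8 n12026
theorem D15454 : act 8 n12026 = n15454 := rfl
theorem F70722 : act 7 n15454 = n12027 := d42_1 D15454 (iv D12027) D12026
def n15455 : Q := act 9 n12027
theorem D15455 : act 9 n12027 = n15455 := rfl
theorem F70723 : act 0 n15455 = n12950 := d8_1 D15455 (iv D12950) (iv F55696)
def n15456 : Q := act 8 n12028
theorem D15456 : act 8 n12028 = n15456 := rfl
theorem F70728 : act 0 n15456 = n12951 := d7_1 D15456 (iv D12951) (iv F55701)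
def n15459 : Q := act 9 n12030
theorem D15459 : act 9 n12030 = n15459 := rfl
theorem F70749 : act 7 n15459 = n12031 := d43_1 D15459 (iv D12031) (iv F55716)
def n15460 : Q := act 4 n12034
theorem D15460 : act 4 n12034 = n15460 := rfl
theorem F70750 : act 0 n15460 = n12035 := d3_1 D15460 (iv D12035) (iv F55735)
theorem F70751 : act 1 n15460 = n12955 := d11_1 D15460 (iv D12955) (iv F55736)
def n15461 : Q := act 8 n12034
theorem D15461 : act 8 n12034 = n15461 := rfl
theorem F70754 : act 0 n15461 = n12036 := d7_1 D15461 (iv D12036) (iv F55735)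
theorem F70755 : act 1 n15461 = n12956 := d15_1 D15461 (iv D12956) (iv F55736)
def n15462 : Q := act 3 n12035
theorem D15462 : act 3 n12035 = n15462 := rfl
def n15468 : Q := act 7 n12043
theorem D15468 : act 7 n12043 = n15468 := rfl
theorem F70794 : act 2 n15468 = n12964 := d21_1 D15468 (iv D12964) (iv F55784)
theorem F70797 : act 5 n15468 = n14357 := d36_1 D15468 F65216 (iv F66009)
def n15469 : Q := act 7 n12044
theorem D15469 : act 7 n12044 = n15469 := rfl
theorem F70804 : act 4 n15469 = n14307 := d32_1 D15469 F65012 (iv F65944)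
theorem F70805 : act 5 n15469 = n12045 := d36_1 D15469 (iv D12045) D12044
def n15470 : Q := act 7 n12046
theorem D15470 : act 7 n12046 = n15470 := rfl
theorem F70809 : act 1 n15470 = n12968 := d14_1 D15470 (iv D12968) (iv F55800)
theorem F70812 : act 4 n15470 = n12047 := d32_1 D15470 (iv D12047) D12046
theorem F70814 : act 8 n15470 = n14302 := d42_2 (iv F65960) D15470 (iv D14302)
def n15471 : Q := act 6 n12047
theorem D15471 : act 6 n12047 = n15471 := rfl
theorem F70818 : act 3 n15471 = n12049 := d26_1 D15471 (iv D12049) (iv F55807)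
def n15472 : Q := act 8 n12047
theorem D15472 : act 8 n12047 = n15472 := rfl
def n15473 : Q := act 9 n12048
theorem D15473 : act 9 n12048 = n15473 := rfl
theorem F70829 : act 1 n15473 = n12972 := d16_1 D15473 (iv D12972) (iv F55811)
def n15474 : Q := act 8 n12049
theorem D15474 : act 8 n12049 = n15474 := rfl
theorem F70836 : act 1 n15474 = n12973 := d15_1 D15474 (iv D12973) (iv F55815)
theorem F70839 : act 6 n15474 = n12050 := d40_1 D15474 (iv D12050) D12049
def n15475 : Q := act 9 n12050
theorem D15475 : act 9 n12050 = n15475 := rfl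
def n15476 : Q := act 7 n12052
theorem D15476 : act 7 n12052 = n15476 := rfl
theorem F70849 : act 2 n15476 = n12055 := d21_1 D15476 (iv D12055) (iv F55833)
theorem F70851 : act 4 n15476 = n12053 := d32_1 D15476 (iv D12053) D12052
theorem F70853 : act 8 n15476 = n14264 := d42_2 (iv F65948) D15476 (iv D14264)
def n15477 : Q := act 6 n12053
theorem D15477 : act 6 n12053 = n15477 := rfl
def n15480 : Q := act 6 n12055
theorem D15480 : act 6 n12055 = n15480 := rfl
theorem F70874 : act 1 n15480 = n12062 := d13_1 D15480 (iv D12062) (iv F55846)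
theorem F70876 : act 4 n15480 = n12057 := d31_1 D15480 (iv D12057) (iv F55848)
def n15481 : Q := act 8 n12055
theorem D15481 : act 8 n12055 = n15481 := rfl
theorem F70884 : act 7 n15481 = n12056 := d42_1 D15481 (iv D12056) D12055
theorem F70885 : act 5 n14262 = n15481 := d36_3 F70884 F65951 D14262
def n15483 : Q := act 8 n12057
theorem D15483 : act 8 n12057 = n15483 := rfl
theorem F70895 : act 3 n15483 = n12060 := d28_1 D15483 (iv D12060) (iv F55856)
theorem F70896 : act 6 n15483 = n12058 := d40_1 D15483 (iv D12058) D12057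
def n15485 : Q := act 5 n12060
theorem D15485 : act 5 n12060 = n15485 := rfl
def n15486 : Q := act 9 n12060
theorem D15486 : act 9 n12060 = n15486 := rfl
theorem F70909 : act 6 n15486 = n12061 := d41_1 D15486 (iv D12061) (iv F55870)
def n15487 : Q := act 5 n12062
theorem D15487 : act 5 n12062 = n15487 := rfl
theorem F70912 : act 0 n15487 = n12989 := d4_1 D15487 (iv D12989) (iv F55877)
def n15488 : Q := act 8 n12062
theorem D15488 : act 8 n12062 = n15488 := rfl
theorem F70919 : act 0 n15488 = n12990 := d7_1 D15488 (iv D12990) (iv F55877)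
theorem F70922 : act 4 n15488 = n12066 := d33_1 D15488 (iv D12066) (iv F55880)
theorem F70923 : act 6 n15488 = n12063 := d40_1 D15488 (iv D12063) D12062
def n15489 : Q := act 5 n12063
theorem D15489 : act 5 n12063 = n15489 := rfl
theorem F70929 : act 7 n15489 = n12064 := d36_2 (iv F55887) D15489 (iv D12064)
theorem F70931 : act 6 n14270 = n15489 := d39_5 F70929 F66039 F51200 D11114 D14270
def n15490 : Q := act 9 n12063
theorem D15490 : act 9 n12063 = n15490 := rfl
theorem F70936 : act 7 n15490 = n12065 := d43_1 D15490 (iv D12065) (iv F55887)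
def n15491 : Q := act 9 n12064
theorem D15491 : act 9 n12064 = n15491 := rfl
theorem F70938 : act 0 n15491 = n12994 := d8_1 D15491 (iv D12994) (iv F55888)
theorem F70942 : act 5 n15491 = n12065 := d38_1 D15491 (iv D12065) D12064
theorem F70943 : act 6 n15491 = n14041 := d41_1 D15491 F63686 (iv F66039)
def n15492 : Q := act 5 n12066
theorem D15492 : act 5 n12066 = n15492 := rfl
theorem F70946 : act 3 n15492 = n12068 := d25_1 D15492 (iv D12068) (iv F55900)
def n15493 : Q := act 9 n12066
theorem D15493 : act 9 n12066 = n15493 := rfl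
theorem F70951 : act 3 n15493 = n12069 := d29_1 D15493 (iv D12069) (iv F55900)
theorem F70952 : act 6 n15493 = n12067 := d41_1 D15493 (iv D12067) (iv F55901)
def n15494 : Q := act 4 n12068
theorem D15494 : act 4 n12068 = n15494 := rfl
theorem F70956 : act 2 n15494 = n12070 := d18_1 D15494 (iv D12070) (iv F55909)
def n15495 : Q := act 9 n12068
theorem D15495 : act 9 n12068 = n15495 := rfl
theorem F70961 : act 2 n15495 = n12071 := d23_1 D15495 (iv D12071) (iv F55909)
def n15496 : Q := act 3 n12070
theorem D15496 : act 3 n12070 = n15496 := rfl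
def n15499 : Q := act 3 n12072
theorem D15499 : act 3 n12072 = n15499 := rfl
theorem F70981 : act 1 n15499 = n12076 := d10_1 D15499 (iv D12076) (iv F55928)
theorem F70982 : act 4 n15499 = n15499 := d24_2 D12072 D15499 (iv D15499) (iv D12072) F44417
theorem F70983 : act 5 n15499 = n12096 := d25_2 (iv F55930) D15499 (iv D12096)
theorem F70984 : act 7 n15499 = n15499 := d27_2 F55931 D15499 (iv D15499)
theorem F70985 : act 8 n15499 = n15499 := d28_2 F55932 D15499 (iv D15499)
theorem F70986 : act 9 n15499 = n15499 := d29_2 F55933 D15499 (iv D15499)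
def n15500 : Q := act 6 n12072
theorem D15500 : act 6 n12072 = n15500 := rfl
theorem F70987 : act 1 n15500 = n12077 := d13_1 D15500 (iv D12077) (iv F55928)
theorem F70988 : act 2 n15500 = n15500 := d20_1 D15500 (iv D15500) F55929
theorem F70989 : act 4 n15500 = n12073 := d31_1 D15500 (iv D12073) D12072
theorem F70990 : act 8 n15500 = n15500 := d40_2 F55932 D15500 (iv D15500)
theorem F70991 : act 9 n15500 = n15500 := d41_2 F55933 D15500 (iv D15500)
def n15501 : Q := act 7 n12073
theorem D15501 : act 7 n12073 = n15501 := rfl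
def n15502 : Q := act 3 n12074
theorem D15502 : act 3 n12074 = n15502 := rfl
theorem F70998 : act 0 n15502 = n12671 := d2_1 D15502 (iv D12671) (iv F55939)
theorem F70999 : act 4 n15502 = n15502 := d24_2 D12074 D15502 (iv D15502) (iv D12074) F44423
theorem F71000 : act 5 n15502 = n12105 := d25_2 (iv F55941) D15502 (iv D12105)
theorem F71001 : act 7 n15502 = n12652 := d27_2 (iv F55942) D15502 (iv D12652)
theorem F71002 : act 8 n15502 = n12655 := d28_2 (iv F55943) D15502 (iv D12655)
theorem F71003 : act 9 n15502 = n15502 := d29_2 F55944 D15502 (iv D15502)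
def n15503 : Q := act 6 n12074
theorem D15503 : act 6 n12074 = n15503 := rfl
theorem F71004 : act 0 n15503 = n12672 := d5_1 D15503 (iv D12672) (iv F55939)
theorem F71006 : act 4 n15503 = n12075 := d31_1 D15503 (iv D12075) D12074
def n15504 : Q := act 7 n12075
theorem D15504 : act 7 n12075 = n15504 := rfl
theorem F71012 : act 5 n15504 = n12078 := d36_1 D15504 (iv D12078) (iv F55948)
theorem F71013 : act 6 n15504 = n12654 := d39_1 D15504 (iv D12654) (iv D9870) (iv F44424) D12075
def n15505 : Q := act 6 n12076
theorem D15505 : act 6 n12076 = n15505 := rfl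
theorem F71017 : act 3 n15505 = n12077 := d26_1 D15505 (iv D12077) D12076
def n15506 : Q := act 5 n12077
theorem D15506 : act 5 n12077 = n15506 := rfl
theorem F71021 : act 2 n15506 = n12082 := d19_1 D15506 (iv D12082) (iv F55957)
theorem F71022 : act 6 n15506 = n12109 := d35_2 D12077 D15506 (iv D12109) (iv D9472) (iv F44428)
theorem F71023 : act 9 n15506 = n15506 := d38_2 F55960 D15506 (iv D15506)
def n15507 : Q := act 7 n12077
theorem D15507 : act 7 n12077 = n15507 := rfl
theorem F71024 : act 2 n15507 = n12083 := d21_1 D15507 (iv D12083) (iv F55957)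
theorem F71025 : act 4 n15507 = n12078 := d32_1 D15507 (iv D12078) (iv F55958)
def n15508 : Q := act 2 n12079
theorem D15508 : act 2 n12079 = n15508 := rfl
theorem F71031 : act 5 n15508 = n12121 := d19_2 (iv F55969) D15508 (iv D12121)
theorem F71032 : act 7 n15508 = n13579 := d21_2 (iv F55970) D15508 (iv D13579)
theorem F71033 : act 8 n15508 = n13583 := d22_2 (iv F55971) D15508 (iv D13583)
def n15509 : Q := act 6 n12079
theorem D15509 : act 6 n12079 = n15509 := rfl
def n15510 : Q := act 5 n12080
theorem D15510 : act 5 n12080 = n15510 := rfl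
theorem F71041 : act 0 n15510 = n13608 := d4_1 D15510 (iv D13608) (iv F55973)
theorem F71043 : act 4 n15510 = n12082 := d30_1 D15510 (iv D12082) F44450 (iv F44445) (iv F55975)
theorem F71044 : act 6 n15510 = n12123 := d35_2 D12080 D15510 (iv D12123) (iv D9481) (iv F44438)
def n15511 : Q := act 7 n12080
theorem D15511 : act 7 n12080 = n15511 := rfl
theorem F71049 : act 6 n15511 = n13582 := d39_1 D15511 (iv D13582) (iv D10571) (iv F44439) D12080
def n15512 : Q := act 7 n12082
theorem D15512 : act 7 n12082 = n15512 := rfl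
def n15513 : Q := act 8 n12082
theorem D15513 : act 8 n12082 = n15513 := rfl
theorem F71056 : act 1 n15513 = n15513 := d15_1 D15513 (iv D15513) F55985
theorem F71057 : act 3 n15513 = n15513 := d28_1 D15513 (iv D15513) F55986
theorem F71058 : act 5 n15513 = n15513 := d37_1 D15513 (iv D15513) (iv D12082) F44451 D12082
theorem F71059 : act 6 n15513 = n12126 := d40_1 D15513 (iv D12126) (iv F55987)
def n15514 : Q := act 1 n12084
theorem D15514 : act 1 n12084 = n15514 := rfl
theorem F71062 : act 5 n15514 = n12090 := d12_2 (iv F55997) D15514 (iv D12090)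
theorem F71064 : act 8 n15514 = n14041 := d15_2 (iv F55999) D15514 (iv D14041)
def n15515 : Q := act 6 n12084
theorem D15515 : act 6 n12084 = n15515 := rfl
def n15517 : Q := act 1 n12087
theorem D15517 : act 1 n12087 = n15517 := rfl
theorem F71081 : act 4 n15517 = n12141 := d11_2 (iv F56017) D15517 (iv D12141)
theorem F71082 : act 5 n15517 = n14035 := d12_2 (iv F56018) D15517 (iv D14035)
theorem F71083 : act 7 n15517 = n12090 := d14_2 (iv F56019) D15517 (iv D12090)
def n15521 : Q := act 0 n12090
theorem D15521 : act 0 n12090 = n15521 := rfl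
theorem F71108 : act 4 n15521 = n12145 := d3_2 (iv F56038) D15521 (iv D12145)
def n15522 : Q := act 3 n12091
theorem D15522 : act 3 n12091 = n15522 := rfl
theorem F71112 : act 0 n15522 = n12096 := d2_1 D15522 (iv D12096) (iv F56042)
theorem F71113 : act 4 n15522 = n12244 := d24_2 D12091 D15522 (iv D12244) (iv D9574) (iv F44499)
theorem F71114 : act 7 n15522 = n15522 := d27_2 F56044 D15522 (iv D15522)
theorem F71115 : act 8 n15522 = n12149 := d28_2 (iv F56045) D15522 (iv D12149)
theorem F71116 : act 9 n15522 = n15522 := d29_2 F56046 D15522 (iv D15522)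
def n15523 : Q := act 6 n12091
theorem D15523 : act 6 n12091 = n15523 := rfl
theorem F71117 : act 0 n15523 = n12097 := d5_1 D15523 (iv D12097) (iv F56042)
theorem F71118 : act 2 n15523 = n15523 := d20_1 D15523 (iv D15523) F56043
theorem F71119 : act 4 n15523 = n12092 := d31_1 D15523 (iv D12092) D12091
theorem F71120 : act 8 n15523 = n12150 := d40_2 (iv F56045) D15523 (iv D12150)
theorem F71121 : act 9 n15523 = n15523 := d41_2 F56046 D15523 (iv D15523)
def n15524 : Q := act 7 n12092
theorem D15524 : act 7 n12092 = n15524 := rfl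
theorem F71122 : act 0 n15524 = n12098 := d6_1 D15524 (iv D12098) (iv F56047)
theorem F71123 : act 2 n15524 = n15524 := d21_1 D15524 (iv D15524) F56048
theorem F71124 : act 3 n15524 = n12246 := d27_1 D15524 (iv D12246) (iv F56049)
theorem F71125 : act 6 n15524 = n15524 := d39_1 D15524 (iv D15524) (iv D12092) F44500 D12092
theorem F71126 : act 8 n15524 = n12151 := d42_2 (iv F56050) D15524 (iv D12151)
theorem F71127 : act 9 n15524 = n15524 := d43_2 F56051 D15524 (iv D15524)
def n15525 : Q := act 4 n12093
theorem D15525 : act 4 n12093 = n15525 := rfl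
theorem F71128 : act 1 n15525 = n12101 := d11_1 D15525 (iv D12101) (iv F56052)
theorem F71129 : act 2 n15525 = n15525 := d18_1 D15525 (iv D15525) F56053
theorem F71130 : act 8 n15525 = n12094 := d33_2 (iv F56055) D15525 (iv D12094)
def n15526 : Q := act 6 n12093
theorem D15526 : act 6 n12093 = n15526 := rfl
theorem F71131 : act 1 n15526 = n12102 := d13_1 D15526 (iv D12102) (iv F56052)
theorem F71132 : act 2 n15526 = n15526 := d20_1 D15526 (iv D15526) F56053
theorem F71133 : act 3 n15526 = n12251 := d26_1 D15526 (iv D12251) (iv F56054)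
theorem F71134 : act 5 n15526 = n12154 := d35_1 D15526 (iv D12154) (iv D9505) (iv F44506) D12093
theorem F71135 : act 8 n15526 = n12095 := d40_2 (iv F56055) D15526 (iv D12095)
def n15527 : Q := act 3 n12094
theorem D15527 : act 3 n12094 = n15527 := rfl
theorem F71136 : act 1 n15527 = n12105 := d10_1 D15527 (iv D12105) (iv F56056)
theorem F71137 : act 4 n15527 = n12254 := d24_2 D12094 D15527 (iv D12254) (iv D9581) (iv F44509)
theorem F71138 : act 9 n15527 = n15527 := d29_2 F56058 D15527 (iv D15527)
def n15528 : Q := act 6 n12094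
theorem D15528 : act 6 n12094 = n15528 := rfl
theorem F71139 : act 1 n15528 = n12106 := d13_1 D15528 (iv D12106) (iv F56056)
theorem F71140 : act 2 n15528 = n15528 := d20_1 D15528 (iv D15528) F56057
theorem F71141 : act 4 n15528 = n12095 := d31_1 D15528 (iv D12095) D12094
theorem F71142 : act 9 n15528 = n15528 := d41_2 F56058 D15528 (iv D15528)
def n15529 : Q := act 7 n12095
theorem D15529 : act 7 n12095 = n15529 := rfl
theorem F71143 : act 1 n15529 = n12107 := d14_1 D15529 (iv D12107) (iv F56059)
theorem F71144 : act 2 n15529 = n15529 := d21_1 D15529 (iv D15529) F56060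
theorem F71145 : act 3 n15529 = n12256 := d27_1 D15529 (iv D12256) (iv F56061)
theorem F71146 : act 5 n15529 = n12098 := d36_1 D15529 (iv D12098) (iv F56062)
theorem F71147 : act 9 n15529 = n15529 := d43_2 F56063 D15529 (iv D15529)
def n15530 : Q := act 2 n12096
theorem D15530 : act 2 n12096 = n15530 := rfl
theorem F71152 : act 8 n15530 = n12158 := d22_2 (iv F56067) D15530 (iv D12158)
def n15531 : Q := act 6 n12096
theorem D15531 : act 6 n12096 = n15531 := rfl
theorem F71154 : act 1 n15531 = n12108 := d13_1 D15531 (iv D12108) (iv F56064)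
theorem F71155 : act 3 n15531 = n12097 := d26_1 D15531 (iv D12097) D12096
theorem F71156 : act 4 n15531 = n12258 := d31_1 D15531 (iv D12258) (iv F56065)
theorem F71157 : act 8 n15531 = n12159 := d40_2 (iv F56067) D15531 (iv D12159)
theorem F71158 : act 9 n15531 = n15531 := d41_2 F56068 D15531 (iv D15531)
def n15532 : Q := act 5 n12097
theorem D15532 : act 5 n12097 = n15532 := rfl
theorem F71159 : act 1 n15532 = n12109 := d12_1 D15532 (iv D12109) (iv F56069)
theorem F71160 : act 2 n15532 = n15532 := d19_1 D15532 (iv D15532) F56070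
theorem F71161 : act 9 n15532 = n15532 := d38_2 F56073 D15532 (iv D15532)
def n15533 : Q := act 7 n12097
theorem D15533 : act 7 n12097 = n15533 := rfl
theorem F71162 : act 1 n15533 = n12110 := d14_1 D15533 (iv D12110) (iv F56069)
theorem F71163 : act 2 n15533 = n15533 := d21_1 D15533 (iv D15533) F56070
theorem F71164 : act 4 n15533 = n12098 := d32_1 D15533 (iv D12098) (iv F56071)
theorem F71165 : act 6 n15533 = n15533 := d39_1 D15533 (iv D15533) (iv D12097) F44513 D12097
theorem F71166 : act 8 n15533 = n12161 := d42_2 (iv F56072) D15533 (iv D12161)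
theorem F71167 : act 9 n15533 = n15533 := d43_2 F56073 D15533 (iv D15533)
def n15534 : Q := act 4 n12099
theorem D15534 : act 4 n12099 = n15534 := rfl
theorem F71168 : act 0 n15534 = n12365 := d3_1 D15534 (iv D12365) (iv F56080)
theorem F71169 : act 2 n15534 = n12111 := d18_1 D15534 (iv D12111) (iv F56081)
theorem F71170 : act 5 n15534 = n12101 := d30_2 D12099 D15534 (iv D12101) (iv D9467) (iv F44523)
theorem F71171 : act 7 n15534 = n12352 := d32_2 (iv F56082) D15534 (iv D12352)
theorem F71172 : act 8 n15534 = n12354 := d33_2 (iv F56083) D15534 (iv D12354)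
def n15535 : Q := act 6 n12099
theorem D15535 : act 6 n12099 = n15535 := rfl
theorem F71173 : act 0 n15535 = n12366 := d5_1 D15535 (iv D12366) (iv F56080)
theorem F71174 : act 2 n15535 = n12112 := d20_1 D15535 (iv D12112) (iv F56081)
theorem F71175 : act 5 n15535 = n12164 := d35_1 D15535 (iv D12164) (iv D9512) (iv F44524) D12099
theorem F71176 : act 8 n15535 = n12355 := d40_2 (iv F56083) D15535 (iv D12355)
def n15536 : Q := act 4 n12100
theorem D15536 : act 4 n12100 = n15536 := rfl
theorem F71177 : act 0 n15536 = n12363 := d3_1 D15536 (iv D12363) (iv F56084)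
theorem F71178 : act 2 n15536 = n12113 := d18_1 D15536 (iv D12113) (iv F56085)
theorem F71179 : act 5 n15536 = n12352 := d30_2 D12100 D15536 (iv D12352) (iv D9650) (iv F44529)
theorem F71180 : act 7 n15536 = n12101 := d32_2 (iv F56087) D15536 (iv D12101)
theorem F71181 : act 8 n15536 = n12103 := d33_2 (iv F56088) D15536 (iv D12103)
def n15537 : Q := act 6 n12100
theorem D15537 : act 6 n12100 = n15537 := rfl
theorem F71182 : act 0 n15537 = n12364 := d5_1 D15537 (iv D12364) (iv F56084)
theorem F71183 : act 2 n15537 = n12114 := d20_1 D15537 (iv D12114) (iv F56085)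
theorem F71184 : act 3 n15537 = n12266 := d26_1 D15537 (iv D12266) (iv F56086)
theorem F71185 : act 8 n15537 = n12104 := d40_2 (iv F56088) D15537 (iv D12104)
def n15538 : Q := act 3 n12101
theorem D15538 : act 3 n12101 = n15538 := rfl
theorem F71186 : act 4 n15538 = n12269 := d24_2 D12101 D15538 (iv D12269) (iv D9591) (iv F44532)
theorem F71187 : act 8 n15538 = n12105 := d28_2 (iv F56090) D15538 (iv D12105)
def n15539 : Q := act 6 n12101
theorem D15539 : act 6 n12101 = n15539 := rfl
theorem F71188 : act 2 n15539 = n12116 := d20_1 D15539 (iv D12116) (iv F56089)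
theorem F71189 : act 4 n15539 = n12102 := d31_1 D15539 (iv D12102) D12101
theorem F71190 : act 8 n15539 = n12106 := d40_2 (iv F56090) D15539 (iv D12106)
def n15540 : Q := act 7 n12102
theorem D15540 : act 7 n12102 = n15540 := rfl
theorem F71191 : act 2 n15540 = n12117 := d21_1 D15540 (iv D12117) (iv F56091)
theorem F71192 : act 3 n15540 = n12271 := d27_1 D15540 (iv D12271) (iv F56092)
theorem F71193 : act 5 n15540 = n12167 := d36_1 D15540 (iv D12167) (iv F56093)
theorem F71194 : act 8 n15540 = n12107 := d42_2 (iv F56094) D15540 (iv D12107)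
def n15541 : Q := act 3 n12103
theorem D15541 : act 3 n12103 = n15541 := rfl
theorem F71195 : act 0 n15541 = n12668 := d2_1 D15541 (iv D12668) (iv F56095)
theorem F71196 : act 4 n15541 = n12272 := d24_2 D12103 D15541 (iv D12272) (iv D9593) (iv F44536)
theorem F71197 : act 5 n15541 = n12652 := d25_2 (iv F56097) D15541 (iv D12652)
theorem F71198 : act 7 n15541 = n12105 := d27_2 (iv F56098) D15541 (iv D12105)
theorem F71199 : act 9 n15541 = n15541 := d29_2 F56099 D15541 (iv D15541)
def n15542 : Q := act 6 n12103
theorem D15542 : act 6 n12103 = n15542 := rfl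
theorem F71200 : act 0 n15542 = n12669 := d5_1 D15542 (iv D12669) (iv F56095)
theorem F71201 : act 2 n15542 = n12119 := d20_1 D15542 (iv D12119) (iv F56096)
theorem F71202 : act 4 n15542 = n12104 := d31_1 D15542 (iv D12104) D12103
theorem F71203 : act 9 n15542 = n15542 := d41_2 F56099 D15542 (iv D15542)

end Cfsg.Agent.Helper17.SP6TC
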