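import Cfsg.Agent.Helper17.SP6TC.Facts5

set_option autoImplicit false
set_option linter.all false

noncomputable section

namespace Cfsg.Agent.Helper17.SP6TC

def n15543 : Q := act 7 n12104
theorem D15543 : act 7 n12104 = n15543 := rfl
theorem F71204 : act 0 n15543 = n12670 := d6_1 D15543 (iv D12670) (iv F56100)
theorem F71205 : act 2 n15543 = n12120 := d21_1 D15543 (iv D12120) (iv F56101)
theorem F71206 : act 3 n15543 = n12274 := d27_1 D15543 (iv D12274) (iv F56102)
theorem F71207 : act 5 n15543 = n15543 := d36_1 D15543 (iv D15543) F56103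
theorem F71208 : act 6 n15543 = n12107 := d39_1 D15543 (iv D12107) (iv D9470) (iv F44537) D12104
theorem F71209 : act 9 n15543 = n15543 := d43_2 F56104 D15543 (iv D15543)
def n15544 : Q := act 2 n12105
theorem D15544 : act 2 n12105 = n15544 := rfl
theorem F71210 : act 3 n15544 = n12121 := d17_2 D12105 D15544 (iv D12121) (iv D9480) (iv F44539)
theorem F71211 : act 4 n15544 = n12275 := d18_2 (iv F56105) D15544 (iv D12275)
theorem F71212 : act 9 n15544 = n15544 := d23_2 F56106 D15544 (iv D15544)
def n15545 : Q := act 6 n12105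
theorem D15545 : act 6 n12105 = n15545 := rfl
theorem F71213 : act 3 n15545 = n12106 := d26_1 D15545 (iv D12106) D12105
theorem F71214 : act 4 n15545 = n12276 := d31_1 D15545 (iv D12276) (iv F56105)
theorem F71215 : act 9 n15545 = n15545 := d41_2 F56106 D15545 (iv D15545)
def n15546 : Q := act 5 n12106
theorem D15546 : act 5 n12106 = n15546 := rfl
theorem F71216 : act 2 n15546 = n12123 := d19_1 D15546 (iv D12123) (iv F56107)
theorem F71217 : act 4 n15546 = n12109 := d30_1 D15546 (iv D12109) F44551 (iv F44543) (iv F56108)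
theorem F71218 : act 9 n15546 = n15546 := d38_2 F56109 D15546 (iv D15546)
def n15547 : Q := act 7 n12106
theorem D15547 : act 7 n12106 = n15547 := rfl
theorem F71219 : act 2 n15547 = n12124 := d21_1 D15547 (iv D12124) (iv F56107)
theorem F71220 : act 4 n15547 = n12107 := d32_1 D15547 (iv D12107) (iv F56108)
theorem F71221 : act 9 n15547 = n15547 := d43_2 F56109 D15547 (iv D15547)
def n15548 : Q := act 5 n12108
theorem D15548 : act 5 n12108 = n15548 := rfl
theorem F71222 : act 2 n15548 = n15548 := d19_1 D15548 (iv D15548) F56114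
theorem F71223 : act 3 n15548 = n12109 := d25_1 D15548 (iv D12109) (iv F56115)
theorem F71224 : act 9 n15548 = n15548 := d38_2 F56118 D15548 (iv D15548)
def n15549 : Q := act 7 n12108
theorem D15549 : act 7 n12108 = n15549 := rfl
theorem F71225 : act 2 n15549 = n15549 := d21_1 D15549 (iv D15549) F56114
theorem F71226 : act 3 n15549 = n12110 := d27_1 D15549 (iv D12110) (iv F56115)
theorem F71227 : act 4 n15549 = n12280 := d32_1 D15549 (iv D12280) (iv F56116)
theorem F71228 : act 6 n15549 = n15549 := d39_1 D15549 (iv D15549) (iv D12108) F44547 D12108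
theorem F71229 : act 8 n15549 = n12173 := d42_2 (iv F56117) D15549 (iv D12173)
theorem F71230 : act 9 n15549 = n15549 := d43_2 F56118 D15549 (iv D15549)
def n15550 : Q := act 7 n12109
theorem D15550 : act 7 n12109 = n15550 := rfl
theorem F71231 : act 2 n15550 = n12125 := d21_1 D15550 (iv D12125) (iv F56119)
theorem F71232 : act 5 n15550 = n12110 := d36_1 D15550 (iv D12110) D12109
theorem F71233 : act 9 n15550 = n15550 := d43_2 F56120 D15550 (iv D15550)
def n15551 : Q := act 8 n12109
theorem D15551 : act 8 n12109 = n15551 := rfl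
theorem F71234 : act 2 n15551 = n12126 := d22_1 D15551 (iv D12126) (iv F56119)
theorem F71235 : act 5 n15551 = n12175 := d37_1 D15551 (iv D12175) (iv D9519) (iv F44552) D12109
def n15552 : Q := act 3 n12111
theorem D15552 : act 3 n12111 = n15552 := rfl
theorem F71236 : act 0 n15552 = n13158 := d2_1 D15552 (iv D13158) (iv F56126)
theorem F71239 : act 5 n15552 = n12115 := d25_2 (iv F56128) D15552 (iv D12115)
theorem F71241 : act 8 n15552 = n13142 := d28_2 (iv F56130) D15552 (iv D13142)
def n15553 : Q := act 6 n12111
theorem D15553 : act 6 n12111 = n15553 := rfl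
theorem F71242 : act 0 n15553 = n13159 := d5_1 D15553 (iv D13159) (iv F56126)
theorem F71243 : act 1 n15553 = n15553 := d13_1 D15553 (iv D15553) F56127
theorem F71244 : act 4 n15553 = n12112 := d31_1 D15553 (iv D12112) D12111
theorem F71245 : act 8 n15553 = n13143 := d40_2 (iv F56130) D15553 (iv D13143)
def n15554 : Q := act 7 n12112
theorem D15554 : act 7 n12112 = n15554 := rfl
theorem F71246 : act 0 n15554 = n13160 := d6_1 D15554 (iv D13160) (iv F56131)
theorem F71247 : act 1 n15554 = n15554 := d14_1 D15554 (iv D15554) F56132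
theorem F71248 : act 3 n15554 = n15554 := d27_1 D15554 (iv D15554) F56133
theorem F71249 : act 5 n15554 = n12178 := d36_1 D15554 (iv D12178) (iv F56134)
theorem F71250 : act 6 n15554 = n13141 := d39_1 D15554 (iv D13141) (iv D10234) (iv F44562) D12112
theorem F71251 : act 8 n15554 = n13144 := d42_2 (iv F56135) D15554 (iv D13144)
def n15555 : Q := act 3 n12113
theorem D15555 : act 3 n12113 = n15555 := rfl
theorem F71254 : act 4 n15555 = n12127 := d24_2 D12113 D15555 (iv D12127) (iv D9485) (iv F44566)
theorem F71255 : act 5 n15555 = n13139 := d25_2 (iv F56138) D15555 (iv D13139)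
theorem F71256 : act 7 n15555 = n12115 := d27_2 (iv F56139) D15555 (iv D12115)
theorem F71257 : act 8 n15555 = n12118 := d28_2 (iv F56140) D15555 (iv D12118)
def n15556 : Q := act 6 n12113
theorem D15556 : act 6 n12113 = n15556 := rfl
theorem F71258 : act 0 n15556 = n13156 := d5_1 D15556 (iv D13156) (iv F56136)
theorem F71259 : act 1 n15556 = n15556 := d13_1 D15556 (iv D15556) F56137
theorem F71260 : act 4 n15556 = n12114 := d31_1 D15556 (iv D12114) D12113
theorem F71261 : act 8 n15556 = n12119 := d40_2 (iv F56140) D15556 (iv D12119)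
def n15557 : Q := act 7 n12114
theorem D15557 : act 7 n12114 = n15557 := rfl
theorem F71262 : act 0 n15557 = n13157 := d6_1 D15557 (iv D13157) (iv F56141)
theorem F71263 : act 1 n15557 = n15557 := d14_1 D15557 (iv D15557) F56142
theorem F71264 : act 3 n15557 = n12129 := d27_1 D15557 (iv D12129) (iv F56143)
theorem F71265 : act 6 n15557 = n12117 := d39_1 D15557 (iv D12117) (iv D9477) (iv F44567) D12114
theorem F71266 : act 8 n15557 = n12120 := d42_2 (iv F56144) D15557 (iv D12120)
def n15558 : Q := act 2 n12115
theorem D15558 : act 2 n12115 = n15558 := rfl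
theorem F71267 : act 4 n15558 = n12130 := d18_2 (iv F56146) D15558 (iv D12130)
theorem F71268 : act 8 n15558 = n12121 := d22_2 (iv F56147) D15558 (iv D12121)
def n15559 : Q := act 6 n12115
theorem D15559 : act 6 n12115 = n15559 := rfl
theorem F71269 : act 1 n15559 = n15559 := d13_1 D15559 (iv D15559) F56145
theorem F71270 : act 3 n15559 = n12116 := d26_1 D15559 (iv D12116) D12115
theorem F71271 : act 4 n15559 = n12131 := d31_1 D15559 (iv D12131) (iv F56146)
theorem F71272 : act 8 n15559 = n12122 := d40_2 (iv F56147) D15559 (iv D12122)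
def n15560 : Q := act 5 n12116
theorem D15560 : act 5 n12116 = n15560 := rfl
theorem F71273 : act 1 n15560 = n15560 := d12_1 D15560 (iv D15560) F56148
theorem F71274 : act 4 n15560 = n12181 := d30_1 D15560 (iv D12181) F44754 (iv F44573) (iv F56149)
def n15561 : Q := act 7 n12116
theorem D15561 : act 7 n12116 = n15561 := rfl
theorem F71275 : act 1 n15561 = n15561 := d14_1 D15561 (iv D15561) F56148
theorem F71276 : act 4 n15561 = n12117 := d32_1 D15561 (iv D12117) (iv F56149)
theorem F71277 : act 8 n15561 = n12124 := d42_2 (iv F56150) D15561 (iv D12124)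
def n15562 : Q := act 2 n12118
theorem D15562 : act 2 n12118 = n15562 := rfl
theorem F71279 : act 4 n15562 = n12134 := d18_2 (iv F56157) D15562 (iv D12134)
theorem F71280 : act 5 n15562 = n13579 := d19_2 (iv F56158) D15562 (iv D13579)
theorem F71281 : act 7 n15562 = n12121 := d21_2 (iv F56159) D15562 (iv D12121)
def n15563 : Q := act 6 n12118
theorem D15563 : act 6 n12118 = n15563 := rfl
theorem F71285 : act 3 n15563 = n12119 := d26_1 D15563 (iv D12119) D12118
def n15564 : Q := act 5 n12119
theorem D15564 : act 5 n12119 = n15564 := rfl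
def n15565 : Q := act 7 n12119
theorem D15565 : act 7 n12119 = n15565 := rfl
theorem F71293 : act 0 n15565 = n13605 := d6_1 D15565 (iv D13605) (iv F56161)
theorem F71294 : act 1 n15565 = n15565 := d14_1 D15565 (iv D15565) F56162
theorem F71295 : act 4 n15565 = n12120 := d32_1 D15565 (iv D12120) (iv F56163)
theorem F71296 : act 6 n15565 = n12124 := d39_1 D15565 (iv D12124) (iv D9481) (iv F44578) D12119
theorem F71297 : act 9 n15565 = n15565 := d43_2 F56164 D15565 (iv D15565)
def n15566 : Q := act 1 n12121
theorem D15566 : act 1 n12121 = n15566 := rfl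
theorem F71298 : act 2 n15566 = n15566 := d9_2 D12121 D15566 (iv D15566) (iv D12121) F44585
theorem F71299 : act 4 n15566 = n12138 := d11_2 (iv F56171) D15566 (iv D12138)
theorem F71300 : act 9 n15566 = n15566 := d16_2 F56172 D15566 (iv D15566)
def n15567 : Q := act 6 n12121
theorem D15567 : act 6 n12121 = n15567 := rfl
theorem F71301 : act 2 n15567 = n12122 := d20_1 D15567 (iv D12122) D12121
theorem F71302 : act 4 n15567 = n12139 := d31_1 D15567 (iv D12139) (iv F56171)
theorem F71303 : act 9 n15567 = n15567 := d41_2 F56172 D15567 (iv D15567)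
def n15568 : Q := act 5 n12122
theorem D15568 : act 5 n12122 = n15568 := rfl
theorem F71305 : act 3 n15568 = n12123 := d25_1 D15568 (iv D12123) (iv F56174)
def n15569 : Q := act 7 n12122
theorem D15569 : act 7 n12122 = n15569 := rfl
theorem F71308 : act 1 n15569 = n15569 := d14_1 D15569 (iv D15569) F56173
theorem F71309 : act 3 n15569 = n12124 := d27_1 D15569 (iv D12124) (iv F56174)
theorem F71310 : act 4 n15569 = n12140 := d32_1 D15569 (iv D12140) (iv F56175)
theorem F71311 : act 9 n15569 = n15569 := d43_2 F56176 D15569 (iv D15569)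
def n15570 : Q := act 7 n12123
theorem D15570 : act 7 n12123 = n15570 := rfl
theorem F71312 : act 1 n15570 = n15570 := d14_1 D15570 (iv D15570) F56177
theorem F71313 : act 4 n15570 = n12125 := d32_1 D15570 (iv D12125) (iv F56178)
theorem F71314 : act 5 n15570 = n12124 := d36_1 D15570 (iv D12124) D12123
theorem F71315 : act 9 n15570 = n15570 := d43_2 F56179 D15570 (iv D15570)
def n15571 : Q := act 8 n12123
theorem D15571 : act 8 n12123 = n15571 := rfl
theorem F71316 : act 1 n15571 = n15571 := d15_1 D15571 (iv D15571) F56177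
theorem F71317 : act 4 n15571 = n12126 := d33_1 D15571 (iv D12126) (iv F56178)
def n15572 : Q := act 6 n12125
theorem D15572 : act 6 n12125 = n15572 := rfl
theorem F71318 : act 1 n15572 = n15572 := d13_1 D15572 (iv D15572) F56183
theorem F71319 : act 3 n15572 = n15572 := d26_1 D15572 (iv D15572) F56184
theorem F71320 : act 5 n15572 = n15572 := d35_1 D15572 (iv D15572) F56185 F44601 (iv F56185)
theorem F71321 : act 9 n15572 = n15572 := d41_2 F56186 D15572 (iv D15572)
def n15573 : Q := act 8 n12125
theorem D15573 : act 8 n12125 = n15573 := rfl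
theorem F71322 : act 1 n15573 = n15573 := d15_1 D15573 (iv D15573) F56183
theorem F71323 : act 3 n15573 = n15573 := d28_1 D15573 (iv D15573) F56184
theorem F71324 : act 5 n15573 = n12190 := d37_1 D15573 (iv D12190) F44775 (iv F44602) (iv F56185)
theorem F71325 : act 7 n15573 = n12126 := d42_1 D15573 (iv D12126) D12125
def n15574 : Q := act 9 n12126
theorem D15574 : act 9 n12126 = n15574 := rfl
theorem F71326 : act 1 n15574 = n15574 := d16_1 D15574 (iv D15574) F56187
theorem F71327 : act 3 n15574 = n15574 := d29_1 D15574 (iv D15574) F56188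
theorem F71328 : act 5 n15574 = n12191 := d38_1 D15574 (iv D12191) (iv F56189)
theorem F71329 : act 8 n15574 = n15574 := d44_1 D15574 (iv D15574) (iv D12126) F44597 D12126
def n15575 : Q := act 2 n12127
theorem D15575 : act 2 n12127 = n15575 := rfl
theorem F71330 : act 3 n15575 = n12323 := d17_2 D12127 D15575 (iv D12323) (iv D9627) (iv F44605)
theorem F71331 : act 5 n15575 = n15575 := d19_2 F56191 D15575 (iv D15575)
theorem F71332 : act 7 n15575 = n12130 := d21_2 (iv F56192) D15575 (iv D12130)
theorem F71333 : act 8 n15575 = n12134 := d22_2 (iv F56193) D15575 (iv D12134)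
def n15576 : Q := act 6 n12127
theorem D15576 : act 6 n12127 = n15576 := rfl
theorem F71334 : act 1 n15576 = n15576 := d13_1 D15576 (iv D15576) F56190
theorem F71335 : act 3 n15576 = n12128 := d26_1 D15576 (iv D12128) D12127
theorem F71336 : act 8 n15576 = n12135 := d40_2 (iv F56193) D15576 (iv D12135)
def n15577 : Q := act 5 n12128
theorem D15577 : act 5 n12128 = n15577 := rfl
theorem F71337 : act 1 n15577 = n15577 := d12_1 D15577 (iv D15577) F56194
theorem F71338 : act 2 n15577 = n12325 := d19_1 D15577 (iv D12325) (iv F56195)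
theorem F71339 : act 6 n15577 = n15577 := d35_2 D12128 D15577 (iv D15577) (iv D12128) F44606
def n15578 : Q := act 7 n12128
theorem D15578 : act 7 n12128 = n15578 := rfl
theorem F71340 : act 1 n15578 = n15578 := d14_1 D15578 (iv D15578) F56194
theorem F71341 : act 2 n15578 = n12326 := d21_1 D15578 (iv D12326) (iv F56195)
theorem F71342 : act 4 n15578 = n12129 := d32_1 D15578 (iv D12129) (iv F56196)
theorem F71343 : act 6 n15578 = n12133 := d39_1 D15578 (iv D12133) (iv D9488) (iv F44607) D12128
theorem F71344 : act 8 n15578 = n12137 := d42_2 (iv F56197) D15578 (iv D12137)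
def n15579 : Q := act 1 n12130
theorem D15579 : act 1 n12130 = n15579 := rfl
theorem F71345 : act 2 n15579 = n15579 := d9_2 D12130 D15579 (iv D15579) (iv D12130) F44612
theorem F71346 : act 3 n15579 = n12331 := d10_2 (iv F56202) D15579 (iv D12331)
theorem F71347 : act 5 n15579 = n15579 := d12_2 F56203 D15579 (iv D15579)
theorem F71348 : act 8 n15579 = n12138 := d15_2 (iv F56204) D15579 (iv D12138)
def n15580 : Q := act 6 n12130
theorem D15580 : act 6 n12130 = n15580 := rfl
theorem F71349 : act 2 n15580 = n12131 := d20_1 D15580 (iv D12131) D12130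
theorem F71350 : act 3 n15580 = n12332 := d26_1 D15580 (iv D12332) (iv F56202)
theorem F71351 : act 8 n15580 = n12139 := d40_2 (iv F56204) D15580 (iv D12139)
def n15581 : Q := act 5 n12131
theorem D15581 : act 5 n12131 = n15581 := rfl
theorem F71352 : act 1 n15581 = n15581 := d12_1 D15581 (iv D15581) F56205
theorem F71353 : act 3 n15581 = n12132 := d25_1 D15581 (iv D12132) (iv F56206)
theorem F71354 : act 6 n15581 = n15581 := d35_2 D12131 D15581 (iv D15581) (iv D12131) F44613
theorem F71355 : act 8 n15581 = n15581 := d37_2 (iv F56207) D15581 (iv D15581) F56207 F44641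
def n15582 : Q := act 7 n12131
theorem D15582 : act 7 n12131 = n15582 := rfl
theorem F71356 : act 1 n15582 = n15582 := d14_1 D15582 (iv D15582) F56205
theorem F71357 : act 3 n15582 = n12133 := d27_1 D15582 (iv D12133) (iv F56206)
theorem F71358 : act 8 n15582 = n12140 := d42_2 (iv F56207) D15582 (iv D12140)
def n15583 : Q := act 7 n12132
theorem D15583 : act 7 n12132 = n15583 := rfl
theorem F71359 : act 1 n15583 = n15583 := d14_1 D15583 (iv D15583) F56208
theorem F71360 : act 2 n15583 = n12335 := d21_1 D15583 (iv D12335) (iv F56209)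
theorem F71361 : act 4 n15583 = n12196 := d32_1 D15583 (iv D12196) (iv F56210)
theorem F71362 : act 5 n15583 = n12133 := d36_1 D15583 (iv D12133) D12132
theorem F71363 : act 8 n15583 = n15583 := d42_2 F56212 D15583 (iv D15583)
def n15584 : Q := act 1 n12134
theorem D15584 : act 1 n12134 = n15584 := rfl
theorem F71364 : act 2 n15584 = n15584 := d9_2 D12134 D15584 (iv D15584) (iv D12134) F44623
theorem F71365 : act 3 n15584 = n12336 := d10_2 (iv F56217) D15584 (iv D12336)
theorem F71366 : act 5 n15584 = n12141 := d12_2 (iv F56218) D15584 (iv D12141)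
theorem F71367 : act 7 n15584 = n12138 := d14_2 (iv F56219) D15584 (iv D12138)
theorem F71368 : act 9 n15584 = n15584 := d16_2 F56220 D15584 (iv D15584)
def n15585 : Q := act 6 n12134
theorem D15585 : act 6 n12134 = n15585 := rfl
theorem F71369 : act 2 n15585 = n12135 := d20_1 D15585 (iv D12135) D12134
theorem F71370 : act 3 n15585 = n12337 := d26_1 D15585 (iv D12337) (iv F56217)
theorem F71371 : act 9 n15585 = n15585 := d41_2 F56220 D15585 (iv D15585)
def n15586 : Q := act 5 n12135
theorem D15586 : act 5 n12135 = n15586 := rfl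
theorem F71373 : act 3 n15586 = n12136 := d25_1 D15586 (iv D12136) (iv F56222)
def n15587 : Q := act 7 n12135
theorem D15587 : act 7 n12135 = n15587 := rfl
theorem F71376 : act 1 n15587 = n15587 := d14_1 D15587 (iv D15587) F56221
theorem F71377 : act 3 n15587 = n12137 := d27_1 D15587 (iv D12137) (iv F56222)
theorem F71378 : act 6 n15587 = n12140 := d39_1 D15587 (iv D12140) (iv D9494) (iv F44625) D12135
theorem F71379 : act 9 n15587 = n15587 := d43_2 F56223 D15587 (iv D15587)
def n15588 : Q := act 7 n12136
theorem D15588 : act 7 n12136 = n15588 := rfl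
theorem F71380 : act 1 n15588 = n15588 := d14_1 D15588 (iv D15588) F56224
theorem F71381 : act 2 n15588 = n12340 := d21_1 D15588 (iv D12340) (iv F56225)
theorem F71382 : act 4 n15588 = n15588 := d32_1 D15588 (iv D15588) F56226
theorem F71383 : act 5 n15588 = n12137 := d36_1 D15588 (iv D12137) D12136
theorem F71384 : act 6 n15588 = n15588 := d39_1 D15588 (iv D15588) F56227 F44660 (iv F56227)
theorem F71385 : act 9 n15588 = n15588 := d43_2 F56228 D15588 (iv D15588)
def n15589 : Q := act 8 n12136
theorem D15589 : act 8 n12136 = n15589 := rfl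
theorem F71386 : act 1 n15589 = n15589 := d15_1 D15589 (iv D15589) F56224
theorem F71387 : act 2 n15589 = n12341 := d22_1 D15589 (iv D12341) (iv F56225)
theorem F71388 : act 4 n15589 = n15589 := d33_1 D15589 (iv D15589) F56226
theorem F71389 : act 6 n15589 = n12144 := d40_1 D15589 (iv D12144) (iv F56227)
def n15590 : Q := act 0 n12138
theorem D15590 : act 0 n12138 = n15590 := rfl
theorem F71390 : act 2 n15590 = n15590 := d1_2 F56234 D15590 (iv D15590)
theorem F71391 : act 3 n15590 = n12342 := d2_2 (iv F56235) D15590 (iv D12342)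
theorem F71392 : act 5 n15590 = n12145 := d4_2 (iv F56236) D15590 (iv D12145)
theorem F71393 : act 9 n15590 = n15590 := d8_2 F56237 D15590 (iv D15590)
def n15591 : Q := act 6 n12138
theorem D15591 : act 6 n12138 = n15591 := rfl
theorem F71394 : act 1 n15591 = n12139 := d13_1 D15591 (iv D12139) D12138
theorem F71395 : act 2 n15591 = n15591 := d20_1 D15591 (iv D15591) F56234
theorem F71396 : act 3 n15591 = n12343 := d26_1 D15591 (iv D12343) (iv F56235)
theorem F71397 : act 5 n15591 = n15591 := d35_1 D15591 (iv D15591) F56236 F44664 (iv F56236)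
theorem F71398 : act 9 n15591 = n15591 := d41_2 F56237 D15591 (iv D15591)
def n15592 : Q := act 7 n12139
theorem D15592 : act 7 n12139 = n15592 := rfl
theorem F71399 : act 2 n15592 = n12140 := d21_1 D15592 (iv D12140) (iv F56238)
theorem F71400 : act 3 n15592 = n12344 := d27_1 D15592 (iv D12344) (iv F56239)
theorem F71401 : act 5 n15592 = n15592 := d36_1 D15592 (iv D15592) F56240
theorem F71402 : act 9 n15592 = n15592 := d43_2 F56241 D15592 (iv D15592)
def n15593 : Q := act 0 n12141
theorem D15593 : act 0 n12141 = n15593 := rfl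
theorem F71405 : act 7 n15593 = n12145 := d6_2 (iv F56248) D15593 (iv D12145)
def n15594 : Q := act 6 n12141
theorem D15594 : act 6 n12141 = n15594 := rfl
theorem F71410 : act 3 n15594 = n12346 := d26_1 D15594 (iv D12346) (iv F56247)
def n15595 : Q := act 5 n12142
theorem D15595 : act 5 n12142 = n15595 := rfl
theorem F71414 : act 2 n15595 = n12143 := d19_1 D15595 (iv D12143) (iv F56251)
theorem F71415 : act 3 n15595 = n12347 := d25_1 D15595 (iv D12347) (iv F56252)
def n15596 : Q := act 4 n12143
theorem D15596 : act 4 n12143 = n15596 := rfl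
def n15597 : Q := act 8 n12143
theorem D15597 : act 8 n12143 = n15597 := rfl
theorem F71423 : act 3 n15597 = n12144 := d28_1 D15597 (iv D12144) (iv F56257)
def n15598 : Q := act 9 n12144
theorem D15598 : act 9 n12144 = n15598 := rfl
theorem F71427 : act 2 n15598 = n12350 := d23_1 D15598 (iv D12350) (iv F56261)
def n15599 : Q := act 4 n12146
theorem D15599 : act 4 n12146 = n15599 := rfl
theorem F71432 : act 0 n15599 = n12153 := d3_1 D15599 (iv D12153) (iv F56270)
theorem F71433 : act 2 n15599 = n15599 := d18_1 D15599 (iv D15599) F56271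
theorem F71434 : act 8 n15599 = n12147 := d33_2 (iv F56273) D15599 (iv D12147)
def n15600 : Q := act 6 n12146
theorem D15600 : act 6 n12146 = n15600 := rfl
theorem F71435 : act 0 n15600 = n12154 := d5_1 D15600 (iv D12154) (iv F56270)
theorem F71436 : act 2 n15600 = n15600 := d20_1 D15600 (iv D15600) F56271
theorem F71437 : act 3 n15600 = n12353 := d26_1 D15600 (iv D12353) (iv F56272)
theorem F71438 : act 8 n15600 = n12148 := d40_2 (iv F56273) D15600 (iv D12148)
def n15601 : Q := act 3 n12147
theorem D15601 : act 3 n12147 = n15601 := rfl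
theorem F71439 : act 0 n15601 = n12155 := d2_1 D15601 (iv D12155) (iv F56274)
theorem F71440 : act 4 n15601 = n12356 := d24_2 D12147 D15601 (iv D12356) (iv D9652) (iv F44672)
theorem F71441 : act 5 n15601 = n15601 := d25_2 F56276 D15601 (iv D15601)
theorem F71442 : act 9 n15601 = n12200 := d29_2 (iv F56277) D15601 (iv D12200)
def n15602 : Q := act 6 n12147
theorem D15602 : act 6 n12147 = n15602 := rfl
theorem F71443 : act 0 n15602 = n12156 := d5_1 D15602 (iv D12156) (iv F56274)
theorem F71444 : act 2 n15602 = n15602 := d20_1 D15602 (iv D15602) F56275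
theorem F71445 : act 4 n15602 = n12148 := d31_1 D15602 (iv D12148) D12147
theorem F71446 : act 9 n15602 = n12201 := d41_2 (iv F56277) D15602 (iv D12201)
def n15603 : Q := act 7 n12148
theorem D15603 : act 7 n12148 = n15603 := rfl
theorem F71447 : act 0 n15603 = n12157 := d6_1 D15603 (iv D12157) (iv F56278)
theorem F71448 : act 2 n15603 = n15603 := d21_1 D15603 (iv D15603) F56279
theorem F71449 : act 3 n15603 = n12358 := d27_1 D15603 (iv D12358) (iv F56280)
theorem F71450 : act 5 n15603 = n12151 := d36_1 D15603 (iv D12151) (iv F56281)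
theorem F71451 : act 9 n15603 = n12202 := d43_2 (iv F56282) D15603 (iv D12202)
def n15604 : Q := act 2 n12149
theorem D15604 : act 2 n12149 = n15604 := rfl
theorem F71457 : act 9 n15604 = n12203 := d23_2 (iv F56287) D15604 (iv D12203)
def n15605 : Q := act 6 n12149
theorem D15605 : act 6 n12149 = n15605 := rfl
theorem F71458 : act 0 n15605 = n12159 := d5_1 D15605 (iv D12159) (iv F56283)
theorem F71459 : act 3 n15605 = n12150 := d26_1 D15605 (iv D12150) D12149
theorem F71460 : act 4 n15605 = n12360 := d31_1 D15605 (iv D12360) (iv F56284)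
theorem F71461 : act 9 n15605 = n12204 := d41_2 (iv F56287) D15605 (iv D12204)
def n15606 : Q := act 5 n12150
theorem D15606 : act 5 n12150 = n15606 := rfl
theorem F71462 : act 0 n15606 = n12160 := d4_1 D15606 (iv D12160) (iv F56288)
theorem F71463 : act 2 n15606 = n15606 := d19_1 D15606 (iv D15606) F56289
theorem F71464 : act 6 n15606 = n15606 := d35_2 D12150 D15606 (iv D15606) (iv D12150) F44676
theorem F71465 : act 9 n15606 = n12205 := d38_2 (iv F56291) D15606 (iv D12205)
def n15607 : Q := act 7 n12150
theorem D15607 : act 7 n12150 = n15607 := rfl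
theorem F71466 : act 0 n15607 = n12161 := d6_1 D15607 (iv D12161) (iv F56288)
theorem F71467 : act 2 n15607 = n15607 := d21_1 D15607 (iv D15607) F56289
theorem F71468 : act 4 n15607 = n12151 := d32_1 D15607 (iv D12151) (iv F56290)
theorem F71469 : act 6 n15607 = n15607 := d39_1 D15607 (iv D15607) (iv D12150) F44677 D12150
theorem F71470 : act 9 n15607 = n12206 := d43_2 (iv F56291) D15607 (iv D12206)
def n15608 : Q := act 4 n12152
theorem D15608 : act 4 n12152 = n15608 := rfl
theorem F71471 : act 1 n15608 = n12163 := d11_1 D15608 (iv D12163) (iv F56297)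
theorem F71472 : act 2 n15608 = n15608 := d18_1 D15608 (iv D15608) F56298
theorem F71473 : act 5 n15608 = n12153 := d30_2 D12152 D15608 (iv D12153) (iv D9505) (iv F44685)
theorem F71474 : act 8 n15608 = n15608 := d33_2 F56299 D15608 (iv D15608)
def n15609 : Q := act 6 n12152
theorem D15609 : act 6 n12152 = n15609 := rfl
theorem F71475 : act 1 n15609 = n12164 := d13_1 D15609 (iv D12164) (iv F56297)
theorem F71476 : act 2 n15609 = n15609 := d20_1 D15609 (iv D15609) F56298
theorem F71477 : act 8 n15609 = n15609 := d40_2 F56299 D15609 (iv D15609)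
def n15610 : Q := act 3 n12153
theorem D15610 : act 3 n12153 = n15610 := rfl
theorem F71478 : act 1 n15610 = n12165 := d10_1 D15610 (iv D12165) (iv F56300)
theorem F71479 : act 4 n15610 = n12369 := d24_2 D12153 D15610 (iv D12369) (iv D9660) (iv F44688)
theorem F71480 : act 8 n15610 = n12155 := d28_2 (iv F56302) D15610 (iv D12155)
def n15611 : Q := act 6 n12153
theorem D15611 : act 6 n12153 = n15611 := rfl
theorem F71481 : act 1 n15611 = n12166 := d13_1 D15611 (iv D12166) (iv F56300)
theorem F71482 : act 2 n15611 = n15611 := d20_1 D15611 (iv D15611) F56301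
theorem F71483 : act 4 n15611 = n12154 := d31_1 D15611 (iv D12154) D12153
theorem F71484 : act 8 n15611 = n12156 := d40_2 (iv F56302) D15611 (iv D12156)
def n15612 : Q := act 7 n12154
theorem D15612 : act 7 n12154 = n15612 := rfl
theorem F71485 : act 1 n15612 = n12167 := d14_1 D15612 (iv D12167) (iv F56303)
theorem F71486 : act 2 n15612 = n15612 := d21_1 D15612 (iv D15612) F56304
theorem F71487 : act 3 n15612 = n12371 := d27_1 D15612 (iv D12371) (iv F56305)
theorem F71488 : act 8 n15612 = n12157 := d42_2 (iv F56306) D15612 (iv D12157)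
def n15613 : Q := act 2 n12155
theorem D15613 : act 2 n12155 = n15613 := rfl
theorem F71489 : act 3 n15613 = n15613 := d17_2 D12155 D15613 (iv D15613) (iv D12155) F44691
theorem F71490 : act 4 n15613 = n12375 := d18_2 (iv F56308) D15613 (iv D12375)
theorem F71491 : act 5 n15613 = n15613 := d19_2 F56309 D15613 (iv D15613)
theorem F71492 : act 9 n15613 = n12207 := d23_2 (iv F56310) D15613 (iv D12207)
def n15614 : Q := act 6 n12155
theorem D15614 : act 6 n12155 = n15614 := rfl
theorem F71493 : act 1 n15614 = n12169 := d13_1 D15614 (iv D12169) (iv F56307)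
theorem F71494 : act 3 n15614 = n12156 := d26_1 D15614 (iv D12156) D12155
theorem F71495 : act 4 n15614 = n12376 := d31_1 D15614 (iv D12376) (iv F56308)
theorem F71496 : act 9 n15614 = n12208 := d41_2 (iv F56310) D15614 (iv D12208)
def n15615 : Q := act 5 n12156
theorem D15615 : act 5 n12156 = n15615 := rfl
theorem F71497 : act 1 n15615 = n12170 := d12_1 D15615 (iv D12170) (iv F56311)
theorem F71498 : act 2 n15615 = n15615 := d19_1 D15615 (iv D15615) F56312
theorem F71499 : act 4 n15615 = n12160 := d30_1 D15615 (iv D12160) F44706 (iv F44697) (iv F56313)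
theorem F71500 : act 6 n15615 = n15615 := d35_2 D12156 D15615 (iv D15615) (iv D12156) F44692
theorem F71501 : act 9 n15615 = n12209 := d38_2 (iv F56314) D15615 (iv D12209)
def n15616 : Q := act 7 n12156
theorem D15616 : act 7 n12156 = n15616 := rfl
theorem F71502 : act 1 n15616 = n12171 := d14_1 D15616 (iv D12171) (iv F56311)
theorem F71503 : act 2 n15616 = n15616 := d21_1 D15616 (iv D15616) F56312
theorem F71504 : act 4 n15616 = n12157 := d32_1 D15616 (iv D12157) (iv F56313)
theorem F71505 : act 9 n15616 = n12210 := d43_2 (iv F56314) D15616 (iv D12210)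
def n15617 : Q := act 6 n12158
theorem D15617 : act 6 n12158 = n15617 := rfl
theorem F71507 : act 2 n15617 = n12159 := d20_1 D15617 (iv D12159) D12158
theorem F71510 : act 9 n15617 = n12211 := d41_2 (iv F56325) D15617 (iv D12211)
def n15618 : Q := act 5 n12159
theorem D15618 : act 5 n12159 = n15618 := rfl
theorem F71511 : act 1 n15618 = n12172 := d12_1 D15618 (iv D12172) (iv F56326)
theorem F71512 : act 3 n15618 = n12160 := d25_1 D15618 (iv D12160) (iv F56327)
theorem F71513 : act 6 n15618 = n15618 := d35_2 D12159 D15618 (iv D15618) (iv D12159) F44701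
theorem F71514 : act 9 n15618 = n12212 := d38_2 (iv F56329) D15618 (iv D12212)
def n15619 : Q := act 7 n12159
theorem D15619 : act 7 n12159 = n15619 := rfl
theorem F71515 : act 1 n15619 = n12173 := d14_1 D15619 (iv D12173) (iv F56326)
theorem F71516 : act 3 n15619 = n12161 := d27_1 D15619 (iv D12161) (iv F56327)
theorem F71517 : act 4 n15619 = n12381 := d32_1 D15619 (iv D12381) (iv F56328)
theorem F71518 : act 6 n15619 = n15619 := d39_1 D15619 (iv D15619) (iv D12159) F44702 D12159
theorem F71519 : act 9 n15619 = n12213 := d43_2 (iv F56329) D15619 (iv D12213)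
def n15620 : Q := act 7 n12160
theorem D15620 : act 7 n12160 = n15620 := rfl
theorem F71520 : act 1 n15620 = n12174 := d14_1 D15620 (iv D12174) (iv F56330)
theorem F71521 : act 2 n15620 = n15620 := d21_1 D15620 (iv D15620) F56331
theorem F71522 : act 5 n15620 = n12161 := d36_1 D15620 (iv D12161) D12160
theorem F71523 : act 9 n15620 = n12214 := d43_2 (iv F56333) D15620 (iv D12214)
def n15621 : Q := act 8 n12160
theorem D15621 : act 8 n12160 = n15621 := rfl
theorem F71524 : act 1 n15621 = n12175 := d15_1 D15621 (iv D12175) (iv F56330)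
theorem F71525 : act 2 n15621 = n15621 := d22_1 D15621 (iv D15621) F56331
theorem F71526 : act 6 n15621 = n15621 := d40_1 D15621 (iv D15621) F56332
def n15622 : Q := act 4 n12162
theorem D15622 : act 4 n12162 = n15622 := rfl
theorem F71527 : act 2 n15622 = n15622 := d18_1 D15622 (iv D15622) F56339
theorem F71528 : act 5 n15622 = n12385 := d30_2 D12162 D15622 (iv D12385) (iv D9672) (iv F44715)
theorem F71529 : act 8 n15622 = n15622 := d33_2 F56341 D15622 (iv D15622)
def n15623 : Q := act 6 n12162
theorem D15623 : act 6 n12162 = n15623 := rfl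
theorem F71530 : act 2 n15623 = n15623 := d20_1 D15623 (iv D15623) F56339
theorem F71531 : act 3 n15623 = n12164 := d26_1 D15623 (iv D12164) (iv F56340)
theorem F71532 : act 8 n15623 = n15623 := d40_2 F56341 D15623 (iv D15623)
def n15624 : Q := act 3 n12163
theorem D15624 : act 3 n12163 = n15624 := rfl
theorem F71533 : act 5 n15624 = n12165 := d25_2 (iv F56343) D15624 (iv D12165)
theorem F71534 : act 8 n15624 = n15624 := d28_2 F56344 D15624 (iv D15624)
def n15625 : Q := act 6 n12163
theorem D15625 : act 6 n12163 = n15625 := rfl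
theorem F71535 : act 2 n15625 = n12177 := d20_1 D15625 (iv D12177) (iv F56342)
theorem F71536 : act 4 n15625 = n12164 := d31_1 D15625 (iv D12164) D12163
theorem F71537 : act 8 n15625 = n15625 := d40_2 F56344 D15625 (iv D15625)
def n15626 : Q := act 7 n12164
theorem D15626 : act 7 n12164 = n15626 := rfl
theorem F71538 : act 2 n15626 = n12178 := d21_1 D15626 (iv D12178) (iv F56345)
theorem F71539 : act 8 n15626 = n15626 := d42_2 F56346 D15626 (iv D15626)
def n15627 : Q := act 2 n12165
theorem D15627 : act 2 n12165 = n15627 := rfl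
theorem F71540 : act 3 n15627 = n12179 := d17_2 D12165 D15627 (iv D12179) (iv D9523) (iv F44718)
theorem F71541 : act 4 n15627 = n12402 := d18_2 (iv F56347) D15627 (iv D12402)
theorem F71542 : act 8 n15627 = n12168 := d22_2 (iv F56348) D15627 (iv D12168)
def n15628 : Q := act 6 n12165
theorem D15628 : act 6 n12165 = n15628 := rfl
theorem F71543 : act 3 n15628 = n12166 := d26_1 D15628 (iv D12166) D12165
theorem F71544 : act 4 n15628 = n12403 := d31_1 D15628 (iv D12403) (iv F56347)
theorem F71545 : act 8 n15628 = n12169 := d40_2 (iv F56348) D15628 (iv D12169)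
def n15629 : Q := act 5 n12166
theorem D15629 : act 5 n12166 = n15629 := rfl
theorem F71546 : act 2 n15629 = n12181 := d19_1 D15629 (iv D12181) (iv F56349)
def n15630 : Q := act 7 n12166
theorem D15630 : act 7 n12166 = n15630 := rfl
theorem F71547 : act 2 n15630 = n12182 := d21_1 D15630 (iv D12182) (iv F56349)
theorem F71548 : act 4 n15630 = n12167 := d32_1 D15630 (iv D12167) (iv F56350)
theorem F71549 : act 8 n15630 = n12171 := d42_2 (iv F56351) D15630 (iv D12171)
def n15631 : Q := act 1 n12168
theorem D15631 : act 1 n12168 = n15631 := rfl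
theorem F71550 : act 3 n15631 = n12183 := d10_2 (iv F56355) D15631 (iv D12183)
theorem F71551 : act 4 n15631 = n12410 := d11_2 (iv F56356) D15631 (iv D12410)
theorem F71552 : act 5 n15631 = n15631 := d12_2 F56357 D15631 (iv D15631)
theorem F71553 : act 9 n15631 = n12216 := d16_2 (iv F56358) D15631 (iv D12216)
def n15632 : Q := act 6 n12168
theorem D15632 : act 6 n12168 = n15632 := rfl
theorem F71554 : act 2 n15632 = n12169 := d20_1 D15632 (iv D12169) D12168
theorem F71555 : act 3 n15632 = n12184 := d26_1 D15632 (iv D12184) (iv F56355)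
theorem F71556 : act 4 n15632 = n12411 := d31_1 D15632 (iv D12411) (iv F56356)
theorem F71557 : act 9 n15632 = n12217 := d41_2 (iv F56358) D15632 (iv D12217)
def n15633 : Q := act 5 n12169
theorem D15633 : act 5 n12169 = n15633 := rfl
theorem F71558 : act 3 n15633 = n12170 := d25_1 D15633 (iv D12170) (iv F56359)
theorem F71559 : act 6 n15633 = n15633 := d35_2 D12169 D15633 (iv D15633) (iv D12169) F44724
theorem F71560 : act 9 n15633 = n12218 := d38_2 (iv F56361) D15633 (iv D12218)
def n15634 : Q := act 7 n12169
theorem D15634 : act 7 n12169 = n15634 := rfl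
theorem F71561 : act 3 n15634 = n12171 := d27_1 D15634 (iv D12171) (iv F56359)
theorem F71562 : act 4 n15634 = n12413 := d32_1 D15634 (iv D12413) (iv F56360)
theorem F71563 : act 9 n15634 = n12219 := d43_2 (iv F56361) D15634 (iv D12219)
def n15635 : Q := act 7 n12170
theorem D15635 : act 7 n12170 = n15635 := rfl
theorem F71564 : act 2 n15635 = n12187 := d21_1 D15635 (iv D12187) (iv F56362)
theorem F71565 : act 4 n15635 = n12174 := d32_1 D15635 (iv D12174) (iv F56363)
theorem F71566 : act 5 n15635 = n12171 := d36_1 D15635 (iv D12171) D12170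
theorem F71567 : act 9 n15635 = n12220 := d43_2 (iv F56365) D15635 (iv D12220)
def n15636 : Q := act 8 n12170
theorem D15636 : act 8 n12170 = n15636 := rfl
theorem F71568 : act 2 n15636 = n12188 := d22_1 D15636 (iv D12188) (iv F56362)
theorem F71569 : act 4 n15636 = n12175 := d33_1 D15636 (iv D12175) (iv F56363)
theorem F71570 : act 6 n15636 = n15636 := d40_1 D15636 (iv D15636) F56364
def n15637 : Q := act 4 n12172
theorem D15637 : act 4 n12172 = n15637 := rfl
theorem F71571 : act 2 n15637 = n15637 := d18_1 D15637 (iv D15637) F56369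
theorem F71572 : act 5 n15637 = n12416 := d30_2 D12172 D15637 (iv D12416) (iv D9692) (iv F44735)
theorem F71573 : act 6 n15637 = n15637 := d31_2 F56371 D15637 (iv D15637)
theorem F71574 : act 9 n15637 = n12222 := d34_2 (iv F56372) D15637 (iv D12222)
def n15638 : Q := act 7 n12172
theorem D15638 : act 7 n12172 = n15638 := rfl
theorem F71575 : act 2 n15638 = n15638 := d21_1 D15638 (iv D15638) F56369
theorem F71576 : act 3 n15638 = n12174 := d27_1 D15638 (iv D12174) (iv F56370)
theorem F71577 : act 5 n15638 = n12173 := d36_1 D15638 (iv D12173) D12172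
theorem F71578 : act 9 n15638 = n12223 := d43_2 (iv F56372) D15638 (iv D12223)
def n15639 : Q := act 8 n12172
theorem D15639 : act 8 n12172 = n15639 := rfl
theorem F71579 : act 2 n15639 = n15639 := d22_1 D15639 (iv D15639) F56369
theorem F71580 : act 3 n15639 = n12175 := d28_1 D15639 (iv D12175) (iv F56370)
theorem F71581 : act 6 n15639 = n15639 := d40_1 D15639 (iv D15639) F56371
def n15640 : Q := act 6 n12174
theorem D15640 : act 6 n12174 = n15640 := rfl
theorem F71582 : act 2 n15640 = n12189 := d20_1 D15640 (iv D12189) (iv F56378)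
theorem F71583 : act 5 n15640 = n15640 := d35_1 D15640 (iv D15640) F56379 F44742 (iv F56379)
theorem F71584 : act 7 n15640 = n15640 := d39_2 D12174 D15640 (iv D15640) (iv D12174) F44738
theorem F71585 : act 9 n15640 = n12225 := d41_2 (iv F56380) D15640 (iv D12225)
def n15641 : Q := act 8 n12174
theorem D15641 : act 8 n12174 = n15641 := rfl
theorem F71586 : act 2 n15641 = n12190 := d22_1 D15641 (iv D12190) (iv F56378)
theorem F71587 : act 7 n15641 = n12175 := d42_1 D15641 (iv D12175) D12174
def n15642 : Q := act 9 n12175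
theorem D15642 : act 9 n12175 = n15642 := rfl
theorem F71588 : act 2 n15642 = n12191 := d23_1 D15642 (iv D12191) (iv F56381)
theorem F71589 : act 6 n15642 = n15642 := d41_1 D15642 (iv D15642) F56382
theorem F71590 : act 8 n15642 = n12227 := d44_1 D15642 (iv D12227) (iv D9559) (iv F44739) D12175
def n15643 : Q := act 2 n12176
theorem D15643 : act 2 n12176 = n15643 := rfl
theorem F71591 : act 4 n15643 = n15643 := d18_2 F56384 D15643 (iv D15643)
theorem F71592 : act 5 n15643 = n12179 := d19_2 (iv F56385) D15643 (iv D12179)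
theorem F71593 : act 8 n15643 = n15643 := d22_2 F56386 D15643 (iv D15643)
def n15644 : Q := act 6 n12176
theorem D15644 : act 6 n12176 = n15644 := rfl
theorem F71594 : act 1 n15644 = n15644 := d13_1 D15644 (iv D15644) F56383
theorem F71595 : act 3 n15644 = n12177 := d26_1 D15644 (iv D12177) D12176
theorem F71596 : act 4 n15644 = n15644 := d31_1 D15644 (iv D15644) F56384
theorem F71597 : act 8 n15644 = n15644 := d40_2 F56386 D15644 (iv D15644)
def n15645 : Q := act 5 n12177
theorem D15645 : act 5 n12177 = n15645 := rfl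
theorem F71598 : act 1 n15645 = n15645 := d12_1 D15645 (iv D15645) F56387
theorem F71599 : act 6 n15645 = n12181 := d35_2 D12177 D15645 (iv D12181) (iv D9524) (iv F44745)
def n15646 : Q := act 7 n12177
theorem D15646 : act 7 n12177 = n15646 := rfl
theorem F71600 : act 1 n15646 = n15646 := d14_1 D15646 (iv D15646) F56387
theorem F71601 : act 4 n15646 = n12178 := d32_1 D15646 (iv D12178) (iv F56388)
theorem F71602 : act 8 n15646 = n15646 := d42_2 F56389 D15646 (iv D15646)
def n15647 : Q := act 1 n12179
theorem D15647 : act 1 n12179 = n15647 := rfl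
theorem F71603 : act 2 n15647 = n15647 := d9_2 D12179 D15647 (iv D15647) (iv D12179) F44750
theorem F71604 : act 4 n15647 = n12192 := d11_2 (iv F56393) D15647 (iv D12192)
theorem F71605 : act 8 n15647 = n12183 := d15_2 (iv F56394) D15647 (iv D12183)
def n15648 : Q := act 6 n12179
theorem D15648 : act 6 n12179 = n15648 := rfl
theorem F71606 : act 2 n15648 = n12180 := d20_1 D15648 (iv D12180) D12179
theorem F71607 : act 4 n15648 = n12193 := d31_1 D15648 (iv D12193) (iv F56393)
theorem F71608 : act 8 n15648 = n12184 := d40_2 (iv F56394) D15648 (iv D12184)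
def n15649 : Q := act 5 n12180
theorem D15649 : act 5 n12180 = n15649 := rfl
theorem F71609 : act 1 n15649 = n15649 := d12_1 D15649 (iv D15649) F56395
theorem F71610 : act 3 n15649 = n12181 := d25_1 D15649 (iv D12181) (iv F56396)
def n15650 : Q := act 7 n12180
theorem D15650 : act 7 n12180 = n15650 := rfl
theorem F71611 : act 1 n15650 = n15650 := d14_1 D15650 (iv D15650) F56395
theorem F71612 : act 3 n15650 = n12182 := d27_1 D15650 (iv D12182) (iv F56396)
theorem F71613 : act 4 n15650 = n12195 := d32_1 D15650 (iv D12195) (iv F56397)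
theorem F71614 : act 8 n15650 = n12186 := d42_2 (iv F56398) D15650 (iv D12186)
def n15651 : Q := act 7 n12181
theorem D15651 : act 7 n12181 = n15651 := rfl
theorem F71615 : act 1 n15651 = n15651 := d14_1 D15651 (iv D15651) F56399
theorem F71616 : act 5 n15651 = n12182 := d36_1 D15651 (iv D12182) D12181
def n15652 : Q := act 8 n12181
theorem D15652 : act 8 n12181 = n15652 := rfl
theorem F71617 : act 1 n15652 = n15652 := d15_1 D15652 (iv D15652) F56399
theorem F71618 : act 5 n15652 = n12188 := d37_1 D15652 (iv D12188) (iv D9528) (iv F44755) D12181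
def n15653 : Q := act 0 n12183
theorem D15653 : act 0 n12183 = n15653 := rfl
theorem F71620 : act 4 n15653 = n12197 := d3_2 (iv F56404) D15653 (iv D12197)
theorem F71622 : act 9 n15653 = n12228 := d8_2 (iv F56406) D15653 (iv D12228)
def n15654 : Q := act 6 n12183
theorem D15654 : act 6 n12183 = n15654 := rfl
theorem F71623 : act 1 n15654 = n12184 := d13_1 D15654 (iv D12184) D12183
theorem F71624 : act 2 n15654 = n15654 := d20_1 D15654 (iv D15654) F56403
theorem F71625 : act 4 n15654 = n12198 := d31_1 D15654 (iv D12198) (iv F56404)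
theorem F71626 : act 9 n15654 = n12229 := d41_2 (iv F56406) D15654 (iv D12229)
def n15655 : Q := act 5 n12184
theorem D15655 : act 5 n12184 = n15655 := rfl
theorem F71627 : act 2 n15655 = n12185 := d19_1 D15655 (iv D12185) (iv F56407)
theorem F71628 : act 4 n15655 = n15655 := d30_1 D15655 (iv D15655) F56408 F44800 (iv F56408)
theorem F71629 : act 6 n15655 = n15655 := d35_2 D12184 D15655 (iv D15655) (iv D12184) F44760
theorem F71630 : act 9 n15655 = n12230 := d38_2 (iv F56409) D15655 (iv D12230)
def n15656 : Q := act 7 n12184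
theorem D15656 : act 7 n12184 = n15656 := rfl
theorem F71631 : act 2 n15656 = n12186 := d21_1 D15656 (iv D12186) (iv F56407)
theorem F71632 : act 4 n15656 = n12199 := d32_1 D15656 (iv D12199) (iv F56408)
theorem F71633 : act 9 n15656 = n12231 := d43_2 (iv F56409) D15656 (iv D12231)
def n15657 : Q := act 7 n12185
theorem D15657 : act 7 n12185 = n15657 := rfl
theorem F71634 : act 1 n15657 = n15657 := d14_1 D15657 (iv D15657) F56410
theorem F71635 : act 3 n15657 = n12187 := d27_1 D15657 (iv D12187) (iv F56411)
theorem F71636 : act 4 n15657 = n15657 := d32_1 D15657 (iv D15657) F56412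
theorem F71637 : act 5 n15657 = n12186 := d36_1 D15657 (iv D12186) D12185
theorem F71638 : act 9 n15657 = n12232 := d43_2 (iv F56414) D15657 (iv D12232)
def n15658 : Q := act 8 n12185
theorem D15658 : act 8 n12185 = n15658 := rfl
theorem F71639 : act 1 n15658 = n15658 := d15_1 D15658 (iv D15658) F56410
theorem F71640 : act 3 n15658 = n12188 := d28_1 D15658 (iv D12188) (iv F56411)
theorem F71641 : act 4 n15658 = n15658 := d33_1 D15658 (iv D15658) F56412
theorem F71642 : act 6 n15658 = n15658 := d40_1 D15658 (iv D15658) F56413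
def n15659 : Q := act 6 n12187
theorem D15659 : act 6 n12187 = n15659 := rfl
theorem F71643 : act 1 n15659 = n15659 := d13_1 D15659 (iv D15659) F56419
theorem F71644 : act 4 n15659 = n12189 := d31_1 D15659 (iv D12189) (iv F56420)
theorem F71645 : act 7 n15659 = n15659 := d39_2 D12187 D15659 (iv D15659) (iv D12187) F44768
theorem F71646 : act 9 n15659 = n12234 := d41_2 (iv F56422) D15659 (iv D12234)
def n15660 : Q := act 8 n12187
theorem D15660 : act 8 n12187 = n15660 := rfl
theorem F71647 : act 1 n15660 = n15660 := d15_1 D15660 (iv D15660) F56419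
theorem F71648 : act 4 n15660 = n12190 := d33_1 D15660 (iv D12190) (iv F56420)
theorem F71649 : act 7 n15660 = n12188 := d42_1 D15660 (iv D12188) D12187
def n15661 : Q := act 9 n12188
theorem D15661 : act 9 n12188 = n15661 := rfl
theorem F71650 : act 1 n15661 = n15661 := d16_1 D15661 (iv D15661) F56423
theorem F71651 : act 4 n15661 = n12191 := d34_1 D15661 (iv D12191) (iv F56424)
theorem F71652 : act 6 n15661 = n15661 := d41_1 D15661 (iv D15661) F56425
theorem F71653 : act 8 n15661 = n12236 := d44_1 D15661 (iv D12236) (iv D9565) (iv F44769) D12188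
def n15662 : Q := act 8 n12189
theorem D15662 : act 8 n12189 = n15662 := rfl
theorem F71654 : act 1 n15662 = n15662 := d15_1 D15662 (iv D15662) F56426
theorem F71655 : act 3 n15662 = n15662 := d28_1 D15662 (iv D15662) F56427
theorem F71656 : act 6 n15662 = n12190 := d40_1 D15662 (iv D12190) D12189
theorem F71657 : act 7 n15662 = n15662 := d42_1 D15662 (iv D15662) F56429
def n15663 : Q := act 9 n12190
theorem D15663 : act 9 n12190 = n15663 := rfl
theorem F71658 : act 1 n15663 = n15663 := d16_1 D15663 (iv D15663) F56431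
theorem F71659 : act 3 n15663 = n15663 := d29_1 D15663 (iv D15663) F56432
theorem F71660 : act 7 n15663 = n12191 := d43_1 D15663 (iv D12191) (iv F56433)
theorem F71661 : act 8 n15663 = n12238 := d44_1 D15663 (iv D12238) (iv D9567) (iv F44776) D12190
def n15664 : Q := act 0 n12192
theorem D15664 : act 0 n12192 = n15664 := rfl
theorem F71665 : act 8 n15664 = n12197 := d7_2 (iv F56441) D15664 (iv D12197)
def n15665 : Q := act 6 n12192
theorem D15665 : act 6 n12192 = n15665 := rfl
theorem F71666 : act 1 n15665 = n12193 := d13_1 D15665 (iv D12193) D12192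
theorem F71667 : act 2 n15665 = n15665 := d20_1 D15665 (iv D15665) F56438
theorem F71668 : act 3 n15665 = n12485 := d26_1 D15665 (iv D12485) (iv F56439)
theorem F71669 : act 8 n15665 = n12198 := d40_2 (iv F56441) D15665 (iv D12198)
def n15666 : Q := act 5 n12193
theorem D15666 : act 5 n12193 = n15666 := rfl
theorem F71670 : act 2 n15666 = n12194 := d19_1 D15666 (iv D12194) (iv F56442)
theorem F71671 : act 3 n15666 = n12486 := d25_1 D15666 (iv D12486) (iv F56443)
theorem F71672 : act 6 n15666 = n15666 := d35_2 D12193 D15666 (iv D15666) (iv D12193) F44781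
theorem F71673 : act 8 n15666 = n15666 := d37_2 (iv F56444) D15666 (iv D15666) F56444 F44800
def n15667 : Q := act 7 n12193
theorem D15667 : act 7 n12193 = n15667 := rfl
theorem F71674 : act 2 n15667 = n12195 := d21_1 D15667 (iv D12195) (iv F56442)
theorem F71675 : act 3 n15667 = n12487 := d27_1 D15667 (iv D12487) (iv F56443)
theorem F71676 : act 8 n15667 = n12199 := d42_2 (iv F56444) D15667 (iv D12199)
def n15668 : Q := act 4 n12194
theorem D15668 : act 4 n12194 = n15668 := rfl
theorem F71677 : act 1 n15668 = n15668 := d11_1 D15668 (iv D15668) F56445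
theorem F71678 : act 6 n15668 = n15668 := d31_2 F56447 D15668 (iv D15668)
theorem F71679 : act 8 n15668 = n15668 := d33_2 F56448 D15668 (iv D15668)
def n15669 : Q := act 7 n12194
theorem D15669 : act 7 n12194 = n15669 := rfl
theorem F71680 : act 1 n15669 = n15669 := d14_1 D15669 (iv D15669) F56445
theorem F71681 : act 3 n15669 = n12196 := d27_1 D15669 (iv D12196) (iv F56446)
theorem F71682 : act 5 n15669 = n12195 := d36_1 D15669 (iv D12195) D12194
theorem F71683 : act 8 n15669 = n15669 := d42_2 F56448 D15669 (iv D15669)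
def n15670 : Q := act 6 n12196
theorem D15670 : act 6 n12196 = n15670 := rfl
theorem F71684 : act 1 n15670 = n15670 := d13_1 D15670 (iv D15670) F56452
theorem F71685 : act 2 n15670 = n12490 := d20_1 D15670 (iv D12490) (iv F56453)
theorem F71686 : act 7 n15670 = n15670 := d39_2 D12196 D15670 (iv D15670) (iv D12196) F44788
theorem F71687 : act 8 n15670 = n15670 := d40_2 F56455 D15670 (iv D15670)
def n15671 : Q := act 6 n12197
theorem D15671 : act 6 n12197 = n15671 := rfl
theorem F71692 : act 9 n15671 = n12239 := d41_2 (iv F56459) D15671 (iv D12239)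
def n15672 : Q := act 7 n12198
theorem D15672 : act 7 n12198 = n15672 := rfl
theorem F71693 : act 1 n15672 = n12199 := d14_1 D15672 (iv D12199) (iv F56460)
theorem F71694 : act 2 n15672 = n15672 := d21_1 D15672 (iv D15672) F56461
theorem F71696 : act 5 n15672 = n15672 := d36_1 D15672 (iv D15672) F56463
theorem F71697 : act 9 n15672 = n12240 := d43_2 (iv F56464) D15672 (iv D12240)
def n15673 : Q := act 2 n12200
theorem D15673 : act 2 n12200 = n15673 := rfl
theorem F71698 : act 0 n15673 = n12207 := d1_1 D15673 (iv D12207) (iv F56469)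
theorem F71700 : act 4 n15673 = n12514 := d18_2 (iv F56470) D15673 (iv D12514)
def n15674 : Q := act 6 n12200
theorem D15674 : act 6 n12200 = n15674 := rfl
theorem F71702 : act 0 n15674 = n12208 := d5_1 D15674 (iv D12208) (iv F56469)
theorem F71703 : act 3 n15674 = n12201 := d26_1 D15674 (iv D12201) D12200
theorem F71704 : act 4 n15674 = n12515 := d31_1 D15674 (iv D12515) (iv F56470)
def n15675 : Q := act 5 n12201
theorem D15675 : act 5 n12201 = n15675 := rfl
theorem F71705 : act 0 n15675 = n12209 := d4_1 D15675 (iv D12209) (iv F56472)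
theorem F71706 : act 2 n15675 = n15675 := d19_1 D15675 (iv D15675) F56473
theorem F71707 : act 4 n15675 = n12205 := d30_1 D15675 (iv D12205) F44826 (iv F44818) (iv F56474)
theorem F71708 : act 6 n15675 = n15675 := d35_2 D12201 D15675 (iv D15675) (iv D12201) F44814
def n15676 : Q := act 7 n12201
theorem D15676 : act 7 n12201 = n15676 := rfl
theorem F71709 : act 0 n15676 = n12210 := d6_1 D15676 (iv D12210) (iv F56472)
theorem F71710 : act 2 n15676 = n15676 := d21_1 D15676 (iv D15676) F56473
theorem F71711 : act 4 n15676 = n12202 := d32_1 D15676 (iv D12202) (iv F56474)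
def n15677 : Q := act 1 n12203
theorem D15677 : act 1 n12203 = n15677 := rfl
theorem F71714 : act 4 n15677 = n12518 := d11_2 (iv F56481) D15677 (iv D12518)
def n15678 : Q := act 6 n12203
theorem D15678 : act 6 n12203 = n15678 := rfl
theorem F71719 : act 2 n15678 = n12204 := d20_1 D15678 (iv D12204) D12203
theorem F71721 : act 4 n15678 = n12519 := d31_1 D15678 (iv D12519) (iv F56481)
def n15679 : Q := act 5 n12204
theorem D15679 : act 5 n12204 = n15679 := rfl
theorem F71723 : act 0 n15679 = n12212 := d4_1 D15679 (iv D12212) (iv F56485)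
theorem F71724 : act 3 n15679 = n12205 := d25_1 D15679 (iv D12205) (iv F56486)
theorem F71725 : act 6 n15679 = n15679 := d35_2 D12204 D15679 (iv D15679) (iv D12204) F44821
def n15680 : Q := act 7 n12204
theorem D15680 : act 7 n12204 = n15680 := rfl
theorem F71726 : act 0 n15680 = n12213 := d6_1 D15680 (iv D12213) (iv F56485)
theorem F71727 : act 3 n15680 = n12206 := d27_1 D15680 (iv D12206) (iv F56486)
theorem F71728 : act 4 n15680 = n12521 := d32_1 D15680 (iv D12521) (iv F56487)
theorem F71729 : act 6 n15680 = n15680 := d39_1 D15680 (iv D15680) (iv D12204) F44822 D12204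
theorem F71730 : act 8 n15680 = n15680 := d42_2 F56488 D15680 (iv D15680)
def n15681 : Q := act 7 n12205
theorem D15681 : act 7 n12205 = n15681 := rfl
theorem F71731 : act 0 n15681 = n12214 := d6_1 D15681 (iv D12214) (iv F56489)
theorem F71732 : act 2 n15681 = n15681 := d21_1 D15681 (iv D15681) F56490
theorem F71733 : act 5 n15681 = n12206 := d36_1 D15681 (iv D12206) D12205
def n15682 : Q := act 8 n12205
theorem D15682 : act 8 n12205 = n15682 := rfl
theorem F71734 : act 0 n15682 = n12215 := d7_1 D15682 (iv D12215) (iv F56489)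
theorem F71735 : act 2 n15682 = n15682 := d22_1 D15682 (iv D15682) F56490
theorem F71736 : act 5 n15682 = n15682 := d37_1 D15682 (iv D15682) (iv D12205) F44827 D12205
theorem F71737 : act 6 n15682 = n15682 := d40_1 D15682 (iv D15682) F56491
def n15683 : Q := act 1 n12207
theorem D15683 : act 1 n12207 = n15683 := rfl
theorem F71738 : act 2 n15683 = n12216 := d9_2 D12207 D15683 (iv D12216) (iv D9552) (iv F44833)
theorem F71739 : act 3 n15683 = n15683 := d10_2 F56497 D15683 (iv D15683)
theorem F71740 : act 4 n15683 = n12535 := d11_2 (iv F56498) D15683 (iv D12535)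
theorem F71741 : act 5 n15683 = n15683 := d12_2 F56499 D15683 (iv D15683)
def n15684 : Q := act 6 n12207
theorem D15684 : act 6 n12207 = n15684 := rfl
theorem F71742 : act 2 n15684 = n12208 := d20_1 D15684 (iv D12208) D12207
theorem F71743 : act 3 n15684 = n15684 := d26_1 D15684 (iv D15684) F56497
theorem F71744 : act 4 n15684 = n12536 := d31_1 D15684 (iv D12536) (iv F56498)
def n15685 : Q := act 5 n12208
theorem D15685 : act 5 n12208 = n15685 := rfl
theorem F71745 : act 1 n15685 = n12218 := d12_1 D15685 (iv D12218) (iv F56500)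
theorem F71746 : act 3 n15685 = n12209 := d25_1 D15685 (iv D12209) (iv F56501)
theorem F71747 : act 6 n15685 = n15685 := d35_2 D12208 D15685 (iv D15685) (iv D12208) F44835
def n15686 : Q := act 7 n12208
theorem D15686 : act 7 n12208 = n15686 := rfl
theorem F71748 : act 1 n15686 = n12219 := d14_1 D15686 (iv D12219) (iv F56500)
theorem F71749 : act 3 n15686 = n12210 := d27_1 D15686 (iv D12210) (iv F56501)
theorem F71750 : act 4 n15686 = n12538 := d32_1 D15686 (iv D12538) (iv F56502)
def n15687 : Q := act 7 n12209
theorem D15687 : act 7 n12209 = n15687 := rfl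
theorem F71751 : act 1 n15687 = n12220 := d14_1 D15687 (iv D12220) (iv F56503)
theorem F71752 : act 2 n15687 = n15687 := d21_1 D15687 (iv D15687) F56504
theorem F71753 : act 4 n15687 = n12214 := d32_1 D15687 (iv D12214) (iv F56505)
theorem F71754 : act 5 n15687 = n12210 := d36_1 D15687 (iv D12210) D12209
def n15688 : Q := act 8 n12209
theorem D15688 : act 8 n12209 = n15688 := rfl
theorem F71755 : act 1 n15688 = n12221 := d15_1 D15688 (iv D12221) (iv F56503)
theorem F71756 : act 2 n15688 = n15688 := d22_1 D15688 (iv D15688) F56504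
theorem F71757 : act 4 n15688 = n12215 := d33_1 D15688 (iv D12215) (iv F56505)
theorem F71758 : act 6 n15688 = n15688 := d40_1 D15688 (iv D15688) F56506
def n15689 : Q := act 5 n12211
theorem D15689 : act 5 n12211 = n15689 := rfl
theorem F71760 : act 2 n15689 = n12212 := d19_1 D15689 (iv D12212) (iv F56511)
def n15690 : Q := act 7 n12211
theorem D15690 : act 7 n12211 = n15690 := rfl
theorem F71764 : act 2 n15690 = n12213 := d21_1 D15690 (iv D12213) (iv F56511)
def n15691 : Q := act 4 n12212
theorem D15691 : act 4 n12212 = n15691 := rfl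
theorem F71769 : act 1 n15691 = n12222 := d11_1 D15691 (iv D12222) (iv F56515)
theorem F71770 : act 5 n15691 = n12543 := d30_2 D12212 D15691 (iv D12543) (iv D9784) (iv F44851)
def n15692 : Q := act 7 n12212
theorem D15692 : act 7 n12212 = n15692 := rfl
theorem F71772 : act 1 n15692 = n12223 := d14_1 D15692 (iv D12223) (iv F56515)
theorem F71773 : act 3 n15692 = n12214 := d27_1 D15692 (iv D12214) (iv F56516)
theorem F71774 : act 5 n15692 = n12213 := d36_1 D15692 (iv D12213) D12212
def n15693 : Q := act 8 n12212
theorem D15693 : act 8 n12212 = n15693 := rfl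
theorem F71775 : act 1 n15693 = n12224 := d15_1 D15693 (iv D12224) (iv F56515)
theorem F71776 : act 3 n15693 = n12215 := d28_1 D15693 (iv D12215) (iv F56516)
theorem F71777 : act 5 n15693 = n15693 := d37_1 D15693 (iv D15693) (iv D12212) F44852 D12212
theorem F71778 : act 6 n15693 = n15693 := d40_1 D15693 (iv D15693) F56517
def n15694 : Q := act 6 n12214
theorem D15694 : act 6 n12214 = n15694 := rfl
theorem F71779 : act 1 n15694 = n12225 := d13_1 D15694 (iv D12225) (iv F56523)
theorem F71780 : act 2 n15694 = n15694 := d20_1 D15694 (iv D15694) F56524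
theorem F71781 : act 5 n15694 = n15694 := d35_1 D15694 (iv D15694) F56525 F44859 (iv F56525)
theorem F71782 : act 7 n15694 = n15694 := d39_2 D12214 D15694 (iv D15694) (iv D12214) F44855
def n15695 : Q := act 8 n12214
theorem D15695 : act 8 n12214 = n15695 := rfl
theorem F71783 : act 1 n15695 = n12226 := d15_1 D15695 (iv D12226) (iv F56523)
theorem F71784 : act 2 n15695 = n15695 := d22_1 D15695 (iv D15695) F56524
theorem F71785 : act 5 n15695 = n15695 := d37_1 D15695 (iv D15695) F56525 F44860 (iv F56525)
theorem F71786 : act 7 n15695 = n12215 := d42_1 D15695 (iv D12215) D12214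
def n15696 : Q := act 9 n12215
theorem D15696 : act 9 n12215 = n15696 := rfl
theorem F71787 : act 1 n15696 = n12227 := d16_1 D15696 (iv D12227) (iv F56526)
theorem F71788 : act 2 n15696 = n15696 := d23_1 D15696 (iv D15696) F56527
theorem F71789 : act 5 n15696 = n15696 := d38_1 D15696 (iv D15696) F56528
theorem F71790 : act 6 n15696 = n15696 := d41_1 D15696 (iv D15696) F56529
def n15697 : Q := act 0 n12216
theorem D15697 : act 0 n12216 = n15697 := rfl
theorem F71791 : act 3 n15697 = n12228 := d2_2 (iv F56530) D15697 (iv D12228)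
def n15698 : Q := act 6 n12216
theorem D15698 : act 6 n12216 = n15698 := rfl
theorem F71794 : act 1 n15698 = n12217 := d13_1 D15698 (iv D12217) D12216
theorem F71795 : act 3 n15698 = n12229 := d26_1 D15698 (iv D12229) (iv F56530)
theorem F71796 : act 4 n15698 = n12566 := d31_1 D15698 (iv D12566) (iv F56531)
def n15699 : Q := act 5 n12217
theorem D15699 : act 5 n12217 = n15699 := rfl
theorem F71797 : act 2 n15699 = n12218 := d19_1 D15699 (iv D12218) (iv F56533)
theorem F71798 : act 3 n15699 = n12230 := d25_1 D15699 (iv D12230) (iv F56534)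
theorem F71799 : act 6 n15699 = n15699 := d35_2 D12217 D15699 (iv D15699) (iv D12217) F44863
def n15700 : Q := act 7 n12217
theorem D15700 : act 7 n12217 = n15700 := rfl
theorem F71800 : act 2 n15700 = n12219 := d21_1 D15700 (iv D12219) (iv F56533)
theorem F71801 : act 3 n15700 = n12231 := d27_1 D15700 (iv D12231) (iv F56534)
theorem F71802 : act 4 n15700 = n12568 := d32_1 D15700 (iv D12568) (iv F56535)
def n15701 : Q := act 4 n12218
theorem D15701 : act 4 n12218 = n15701 := rfl
theorem F71803 : act 3 n15701 = n12222 := d24_1 D15701 (iv D12222) F44872 (iv F44867) (iv F56536)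
theorem F71804 : act 5 n15701 = n12569 := d30_2 D12218 D15701 (iv D12569) (iv D9801) (iv F44865)
theorem F71805 : act 6 n15701 = n15701 := d31_2 F56537 D15701 (iv D15701)
def n15702 : Q := act 7 n12218
theorem D15702 : act 7 n12218 = n15702 := rfl
theorem F71806 : act 3 n15702 = n12220 := d27_1 D15702 (iv D12220) (iv F56536)
theorem F71807 : act 5 n15702 = n12219 := d36_1 D15702 (iv D12219) D12218
def n15703 : Q := act 8 n12218
theorem D15703 : act 8 n12218 = n15703 := rfl
theorem F71808 : act 3 n15703 = n12221 := d28_1 D15703 (iv D12221) (iv F56536)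
theorem F71809 : act 6 n15703 = n15703 := d40_1 D15703 (iv D15703) F56537
def n15704 : Q := act 6 n12220
theorem D15704 : act 6 n12220 = n15704 := rfl
theorem F71810 : act 2 n15704 = n12234 := d20_1 D15704 (iv D12234) (iv F56540)
theorem F71811 : act 4 n15704 = n12225 := d31_1 D15704 (iv D12225) (iv F56541)
theorem F71812 : act 7 n15704 = n15704 := d39_2 D12220 D15704 (iv D15704) (iv D12220) F44868
def n15705 : Q := act 8 n12220
theorem D15705 : act 8 n12220 = n15705 := rfl
theorem F71813 : act 2 n15705 = n12235 := d22_1 D15705 (iv D12235) (iv F56540)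
theorem F71814 : act 4 n15705 = n12226 := d33_1 D15705 (iv D12226) (iv F56541)
theorem F71815 : act 7 n15705 = n12221 := d42_1 D15705 (iv D12221) D12220
def n15706 : Q := act 9 n12221
theorem D15706 : act 9 n12221 = n15706 := rfl
theorem F71816 : act 2 n15706 = n12236 := d23_1 D15706 (iv D12236) (iv F56543)
theorem F71817 : act 4 n15706 = n12227 := d34_1 D15706 (iv D12227) (iv F56544)
theorem F71818 : act 6 n15706 = n15706 := d41_1 D15706 (iv D15706) F56545
def n15707 : Q := act 7 n12222
theorem D15707 : act 7 n12222 = n15707 := rfl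
theorem F71819 : act 2 n15707 = n15707 := d21_1 D15707 (iv D15707) F56546
theorem F71820 : act 4 n15707 = n12223 := d32_1 D15707 (iv D12223) D12222
theorem F71821 : act 5 n15707 = n12575 := d36_1 D15707 (iv D12575) (iv F56547)
def n15708 : Q := act 8 n12222
theorem D15708 : act 8 n12222 = n15708 := rfl
theorem F71822 : act 2 n15708 = n15708 := d22_1 D15708 (iv D15708) F56546
theorem F71823 : act 4 n15708 = n12224 := d33_1 D15708 (iv D12224) D12222
theorem F71824 : act 6 n15708 = n15708 := d40_1 D15708 (iv D15708) F56548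
def n15709 : Q := act 6 n12223
theorem D15709 : act 6 n12223 = n15709 := rfl
theorem F71825 : act 2 n15709 = n15709 := d20_1 D15709 (iv D15709) F56549
theorem F71826 : act 3 n15709 = n12225 := d26_1 D15709 (iv D12225) (iv F56550)
theorem F71827 : act 5 n15709 = n15709 := d35_1 D15709 (iv D15709) F56551 F44877 (iv F56551)
theorem F71828 : act 7 n15709 = n15709 := d39_2 D12223 D15709 (iv D15709) (iv D12223) F44873
def n15710 : Q := act 8 n12223
theorem D15710 : act 8 n12223 = n15710 := rfl
theorem F71829 : act 2 n15710 = n15710 := d22_1 D15710 (iv D15710) F56549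
theorem F71830 : act 3 n15710 = n12226 := d28_1 D15710 (iv D12226) (iv F56550)
theorem F71831 : act 5 n15710 = n15710 := d37_1 D15710 (iv D15710) F56551 F44878 (iv F56551)
theorem F71832 : act 7 n15710 = n12224 := d42_1 D15710 (iv D12224) D12223
def n15711 : Q := act 9 n12224
theorem D15711 : act 9 n12224 = n15711 := rfl
theorem F71833 : act 2 n15711 = n15711 := d23_1 D15711 (iv D15711) F56552
theorem F71834 : act 3 n15711 = n12227 := d29_1 D15711 (iv D12227) (iv F56553)
theorem F71835 : act 5 n15711 = n15711 := d38_1 D15711 (iv D15711) F56554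
theorem F71836 : act 6 n15711 = n15711 := d41_1 D15711 (iv D15711) F56555
def n15712 : Q := act 8 n12225
theorem D15712 : act 8 n12225 = n15712 := rfl
theorem F71837 : act 2 n15712 = n12237 := d22_1 D15712 (iv D12237) (iv F56556)
theorem F71838 : act 6 n15712 = n12226 := d40_1 D15712 (iv D12226) D12225
theorem F71839 : act 7 n15712 = n15712 := d42_1 D15712 (iv D15712) F56558
def n15713 : Q := act 9 n12226
theorem D15713 : act 9 n12226 = n15713 := rfl
theorem F71840 : act 2 n15713 = n12238 := d23_1 D15713 (iv D12238) (iv F56559)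
theorem F71841 : act 5 n15713 = n15713 := d38_1 D15713 (iv D15713) F56560
theorem F71842 : act 7 n15713 = n12227 := d43_1 D15713 (iv D12227) (iv F56561)
def n15714 : Q := act 6 n12228
theorem D15714 : act 6 n12228 = n15714 := rfl
theorem F71843 : act 0 n15714 = n12229 := d5_1 D15714 (iv D12229) D12228
theorem F71845 : act 4 n15714 = n12239 := d31_1 D15714 (iv D12239) (iv F56566)
def n15715 : Q := act 5 n12229
theorem D15715 : act 5 n12229 = n15715 := rfl
theorem F71846 : act 1 n15715 = n12230 := d12_1 D15715 (iv D12230) (iv F56568)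
theorem F71847 : act 2 n15715 = n15715 := d19_1 D15715 (iv D15715) F56569
theorem F71848 : act 4 n15715 = n15715 := d30_1 D15715 (iv D15715) F56570 F44920 (iv F56570)
theorem F71849 : act 6 n15715 = n15715 := d35_2 D12229 D15715 (iv D15715) (iv D12229) F44886
def n15716 : Q := act 7 n12229
theorem D15716 : act 7 n12229 = n15716 := rfl
theorem F71850 : act 1 n15716 = n12231 := d14_1 D15716 (iv D12231) (iv F56568)
theorem F71851 : act 2 n15716 = n15716 := d21_1 D15716 (iv D15716) F56569
theorem F71852 : act 4 n15716 = n12240 := d32_1 D15716 (iv D12240) (iv F56570)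
def n15717 : Q := act 7 n12230
theorem D15717 : act 7 n12230 = n15717 := rfl
theorem F71853 : act 2 n15717 = n12232 := d21_1 D15717 (iv D12232) (iv F56571)
theorem F71854 : act 4 n15717 = n15717 := d32_1 D15717 (iv D15717) F56572
theorem F71855 : act 5 n15717 = n12231 := d36_1 D15717 (iv D12231) D12230
def n15718 : Q := act 8 n12230
theorem D15718 : act 8 n12230 = n15718 := rfl
theorem F71856 : act 2 n15718 = n12233 := d22_1 D15718 (iv D12233) (iv F56571)
theorem F71857 : act 4 n15718 = n15718 := d33_1 D15718 (iv D15718) F56572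
theorem F71858 : act 6 n15718 = n15718 := d40_1 D15718 (iv D15718) F56573
def n15719 : Q := act 6 n12232
theorem D15719 : act 6 n12232 = n15719 := rfl
theorem F71859 : act 1 n15719 = n15719 := d13_1 D15719 (iv D15719) F56576
theorem F71860 : act 3 n15719 = n12234 := d26_1 D15719 (iv D12234) (iv F56577)
theorem F71861 : act 4 n15719 = n15719 := d31_1 D15719 (iv D15719) F56578
theorem F71862 : act 7 n15719 = n15719 := d39_2 D12232 D15719 (iv D15719) (iv D12232) F44892
def n15720 : Q := act 8 n12232
theorem D15720 : act 8 n12232 = n15720 := rfl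
theorem F71863 : act 1 n15720 = n15720 := d15_1 D15720 (iv D15720) F56576
theorem F71864 : act 3 n15720 = n12235 := d28_1 D15720 (iv D12235) (iv F56577)
theorem F71865 : act 4 n15720 = n15720 := d33_1 D15720 (iv D15720) F56578
theorem F71866 : act 7 n15720 = n12233 := d42_1 D15720 (iv D12233) D12232
def n15721 : Q := act 9 n12233
theorem D15721 : act 9 n12233 = n15721 := rfl
theorem F71867 : act 1 n15721 = n15721 := d16_1 D15721 (iv D15721) F56580
theorem F71868 : act 3 n15721 = n12236 := d29_1 D15721 (iv D12236) (iv F56581)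
theorem F71869 : act 4 n15721 = n15721 := d34_1 D15721 (iv D15721) F56582
theorem F71870 : act 6 n15721 = n15721 := d41_1 D15721 (iv D15721) F56583
def n15722 : Q := act 8 n12234
theorem D15722 : act 8 n12234 = n15722 := rfl
theorem F71871 : act 1 n15722 = n15722 := d15_1 D15722 (iv D15722) F56584
theorem F71872 : act 4 n15722 = n12237 := d33_1 D15722 (iv D12237) (iv F56585)
theorem F71873 : act 6 n15722 = n12235 := d40_1 D15722 (iv D12235) D12234
theorem F71874 : act 7 n15722 = n15722 := d42_1 D15722 (iv D15722) F56586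
def n15723 : Q := act 9 n12235
theorem D15723 : act 9 n12235 = n15723 := rfl
theorem F71875 : act 1 n15723 = n15723 := d16_1 D15723 (iv D15723) F56587
theorem F71876 : act 4 n15723 = n12238 := d34_1 D15723 (iv D12238) (iv F56588)
theorem F71877 : act 7 n15723 = n12236 := d43_1 D15723 (iv D12236) (iv F56589)
def n15724 : Q := act 5 n12237
theorem D15724 : act 5 n12237 = n15724 := rfl
theorem F71878 : act 1 n15724 = n15724 := d12_1 D15724 (iv D15724) F56593
theorem F71879 : act 3 n15724 = n15724 := d25_1 D15724 (iv D15724) F56594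
theorem F71880 : act 6 n15724 = n15724 := d35_2 (iv F56595) D15724 (iv D15724) F56595 F44908
theorem F71881 : act 7 n15724 = n15724 := d36_2 F56596 D15724 (iv D15724)
theorem F71882 : act 8 n15724 = n15724 := d37_2 D12237 D15724 (iv D15724) (iv D12237) F44904
def n15725 : Q := act 9 n12237
theorem D15725 : act 9 n12237 = n15725 := rfl
theorem F71883 : act 1 n15725 = n15725 := d16_1 D15725 (iv D15725) F56593
theorem F71884 : act 3 n15725 = n15725 := d29_1 D15725 (iv D15725) F56594
theorem F71885 : act 6 n15725 = n12238 := d41_1 D15725 (iv D12238) (iv F56595)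
theorem F71886 : act 7 n15725 = n15725 := d43_1 D15725 (iv D15725) F56596
def n15726 : Q := act 7 n12239
theorem D15726 : act 7 n12239 = n15726 := rfl
def n15727 : Q := act 4 n12241
theorem D15727 : act 4 n12241 = n15727 := rfl
theorem F71891 : act 0 n15727 = n12250 := d3_1 D15727 (iv D12250) (iv F56609)
theorem F71892 : act 2 n15727 = n13002 := d18_1 D15727 (iv D13002) (iv F56610)
theorem F71893 : act 8 n15727 = n12242 := d33_2 (iv F56611) D15727 (iv D12242)
def n15728 : Q := act 6 n12241
theorem D15728 : act 6 n12241 = n15728 := rfl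
theorem F71894 : act 0 n15728 = n12251 := d5_1 D15728 (iv D12251) (iv F56609)
theorem F71895 : act 2 n15728 = n13003 := d20_1 D15728 (iv D13003) (iv F56610)
theorem F71896 : act 5 n15728 = n12353 := d35_1 D15728 (iv D12353) (iv D9650) (iv F44926) D12241
theorem F71897 : act 8 n15728 = n12243 := d40_2 (iv F56611) D15728 (iv D12243)
def n15729 : Q := act 3 n12242
theorem D15729 : act 3 n12242 = n15729 := rfl
theorem F71898 : act 0 n15729 = n12254 := d2_1 D15729 (iv D12254) (iv F56612)
theorem F71899 : act 5 n15729 = n15729 := d25_2 F56614 D15729 (iv D15729)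
theorem F71900 : act 9 n15729 = n15729 := d29_2 F56615 D15729 (iv D15729)
def n15730 : Q := act 6 n12242
theorem D15730 : act 6 n12242 = n15730 := rfl
theorem F71901 : act 0 n15730 = n12255 := d5_1 D15730 (iv D12255) (iv F56612)
theorem F71902 : act 2 n15730 = n13007 := d20_1 D15730 (iv D13007) (iv F56613)
theorem F71903 : act 4 n15730 = n12243 := d31_1 D15730 (iv D12243) D12242
theorem F71904 : act 9 n15730 = n15730 := d41_2 F56615 D15730 (iv D15730)
def n15731 : Q := act 7 n12243
theorem D15731 : act 7 n12243 = n15731 := rfl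
theorem F71905 : act 0 n15731 = n12256 := d6_1 D15731 (iv D12256) (iv F56616)
theorem F71906 : act 2 n15731 = n13008 := d21_1 D15731 (iv D13008) (iv F56617)
theorem F71907 : act 5 n15731 = n12246 := d36_1 D15731 (iv D12246) (iv F56618)
theorem F71908 : act 9 n15731 = n15731 := d43_2 F56619 D15731 (iv D15731)
def n15732 : Q := act 2 n12244
theorem D15732 : act 2 n12244 = n15732 := rfl
theorem F71913 : act 8 n15732 = n12359 := d22_2 (iv F56623) D15732 (iv D12359)
def n15733 : Q := act 6 n12244
theorem D15733 : act 6 n12244 = n15733 := rfl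
theorem F71915 : act 0 n15733 = n12258 := d5_1 D15733 (iv D12258) (iv F56620)
theorem F71916 : act 3 n15733 = n12245 := d26_1 D15733 (iv D12245) D12244
theorem F71917 : act 8 n15733 = n12360 := d40_2 (iv F56623) D15733 (iv D12360)
theorem F71918 : act 9 n15733 = n15733 := d41_2 F56624 D15733 (iv D15733)
def n15734 : Q := act 5 n12245
theorem D15734 : act 5 n12245 = n15734 := rfl
theorem F71919 : act 0 n15734 = n12259 := d4_1 D15734 (iv D12259) (iv F56625)
theorem F71920 : act 2 n15734 = n13011 := d19_1 D15734 (iv D13011) (iv F56626)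
theorem F71921 : act 6 n15734 = n15734 := d35_2 D12245 D15734 (iv D15734) (iv D12245) F44932
theorem F71922 : act 9 n15734 = n15734 := d38_2 F56629 D15734 (iv D15734)
def n15735 : Q := act 7 n12245
theorem D15735 : act 7 n12245 = n15735 := rfl
theorem F71923 : act 0 n15735 = n12260 := d6_1 D15735 (iv D12260) (iv F56625)
theorem F71924 : act 2 n15735 = n13012 := d21_1 D15735 (iv D13012) (iv F56626)
theorem F71925 : act 4 n15735 = n12246 := d32_1 D15735 (iv D12246) (iv F56627)
theorem F71926 : act 6 n15735 = n15735 := d39_1 D15735 (iv D15735) (iv D12245) F44933 D12245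
theorem F71927 : act 8 n15735 = n12362 := d42_2 (iv F56628) D15735 (iv D12362)
theorem F71928 : act 9 n15735 = n15735 := d43_2 F56629 D15735 (iv D15735)
def n15736 : Q := act 4 n12247
theorem D15736 : act 4 n12247 = n15736 := rfl
theorem F71929 : act 1 n15736 = n12262 := d11_1 D15736 (iv D12262) (iv F56635)
theorem F71930 : act 2 n15736 = n12292 := d18_1 D15736 (iv D12292) (iv F56636)
theorem F71931 : act 5 n15736 = n12250 := d30_2 D12247 D15736 (iv D12250) (iv D9579) (iv F44942)
theorem F71932 : act 7 n15736 = n12267 := d32_2 (iv F56637) D15736 (iv D12267)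
theorem F71933 : act 8 n15736 = n15736 := d33_2 F56638 D15736 (iv D15736)
theorem F71934 : act 9 n15736 = n12265 := d34_2 (iv F56639) D15736 (iv D12265)
def n15737 : Q := act 6 n12247
theorem D15737 : act 6 n12247 = n15737 := rfl
theorem F71935 : act 1 n15737 = n12263 := d13_1 D15737 (iv D12263) (iv F56635)
theorem F71936 : act 2 n15737 = n12293 := d20_1 D15737 (iv D12293) (iv F56636)
theorem F71937 : act 5 n15737 = n12364 := d35_1 D15737 (iv D12364) (iv D9657) (iv F44943) D12247
theorem F71938 : act 8 n15737 = n15737 := d40_2 F56638 D15737 (iv D15737)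
theorem F71939 : act 9 n15737 = n12266 := d41_2 (iv F56639) D15737 (iv D12266)
def n15738 : Q := act 4 n12248
theorem D15738 : act 4 n12248 = n15738 := rfl
theorem F71940 : act 1 n15738 = n12265 := d11_1 D15738 (iv D12265) (iv F56640)
theorem F71941 : act 2 n15738 = n12285 := d18_1 D15738 (iv D12285) (iv F56641)
theorem F71942 : act 5 n15738 = n12267 := d30_2 D12248 D15738 (iv D12267) (iv D9590) (iv F44948)
theorem F71943 : act 7 n15738 = n12250 := d32_2 (iv F56642) D15738 (iv D12250)
theorem F71944 : act 8 n15738 = n12252 := d33_2 (iv F56643) D15738 (iv D12252)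
theorem F71945 : act 9 n15738 = n12262 := d34_2 (iv F56644) D15738 (iv D12262)
def n15739 : Q := act 6 n12248
theorem D15739 : act 6 n12248 = n15739 := rfl
theorem F71946 : act 1 n15739 = n12266 := d13_1 D15739 (iv D12266) (iv F56640)
theorem F71947 : act 2 n15739 = n12286 := d20_1 D15739 (iv D12286) (iv F56641)
theorem F71948 : act 5 n15739 = n12390 := d35_1 D15739 (iv D12390) (iv D9674) (iv F44949) D12248
theorem F71949 : act 8 n15739 = n12253 := d40_2 (iv F56643) D15739 (iv D12253)
theorem F71950 : act 9 n15739 = n12263 := d41_2 (iv F56644) D15739 (iv D12263)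
def n15740 : Q := act 4 n12249
theorem D15740 : act 4 n12249 = n15740 := rfl
theorem F71951 : act 1 n15740 = n12267 := d11_1 D15740 (iv D12267) (iv F56645)
theorem F71952 : act 2 n15740 = n12283 := d18_1 D15740 (iv D12283) (iv F56646)
theorem F71953 : act 5 n15740 = n12265 := d30_2 D12249 D15740 (iv D12265) (iv D9589) (iv F44954)
theorem F71954 : act 7 n15740 = n12262 := d32_2 (iv F56647) D15740 (iv D12262)
theorem F71955 : act 8 n15740 = n15740 := d33_2 F56648 D15740 (iv D15740)
theorem F71956 : act 9 n15740 = n12250 := d34_2 (iv F56649) D15740 (iv D12250)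
def n15741 : Q := act 6 n12249
theorem D15741 : act 6 n12249 = n15741 := rfl
theorem F71957 : act 1 n15741 = n12268 := d13_1 D15741 (iv D12268) (iv F56645)
theorem F71958 : act 2 n15741 = n12284 := d20_1 D15741 (iv D12284) (iv F56646)
theorem F71959 : act 5 n15741 = n12368 := d35_1 D15741 (iv D12368) (iv D9659) (iv F44955) D12249
theorem F71960 : act 8 n15741 = n15741 := d40_2 F56648 D15741 (iv D15741)
theorem F71961 : act 9 n15741 = n12251 := d41_2 (iv F56649) D15741 (iv D12251)
def n15742 : Q := act 3 n12250
theorem D15742 : act 3 n12250 = n15742 := rfl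
theorem F71962 : act 1 n15742 = n12269 := d10_1 D15742 (iv D12269) (iv F56650)
theorem F71963 : act 8 n15742 = n12254 := d28_2 (iv F56652) D15742 (iv D12254)
def n15743 : Q := act 6 n12250
theorem D15743 : act 6 n12250 = n15743 := rfl
theorem F71964 : act 1 n15743 = n12270 := d13_1 D15743 (iv D12270) (iv F56650)
theorem F71965 : act 2 n15743 = n13014 := d20_1 D15743 (iv D13014) (iv F56651)
theorem F71966 : act 4 n15743 = n12251 := d31_1 D15743 (iv D12251) D12250
theorem F71967 : act 8 n15743 = n12255 := d40_2 (iv F56652) D15743 (iv D12255)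
def n15744 : Q := act 7 n12251
theorem D15744 : act 7 n12251 = n15744 := rfl
theorem F71968 : act 1 n15744 = n12271 := d14_1 D15744 (iv D12271) (iv F56653)
theorem F71969 : act 2 n15744 = n13015 := d21_1 D15744 (iv D13015) (iv F56654)
theorem F71970 : act 5 n15744 = n12371 := d36_1 D15744 (iv D12371) (iv F56655)
theorem F71971 : act 8 n15744 = n12256 := d42_2 (iv F56656) D15744 (iv D12256)
def n15745 : Q := act 3 n12252
theorem D15745 : act 3 n12252 = n15745 := rfl
theorem F71972 : act 1 n15745 = n12272 := d10_1 D15745 (iv D12272) (iv F56657)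
theorem F71973 : act 5 n15745 = n15745 := d25_2 F56659 D15745 (iv D15745)
theorem F71974 : act 7 n15745 = n12254 := d27_2 (iv F56660) D15745 (iv D12254)
theorem F71975 : act 9 n15745 = n15745 := d29_2 F56661 D15745 (iv D15745)
def n15746 : Q := act 6 n12252
theorem D15746 : act 6 n12252 = n15746 := rfl
theorem F71976 : act 1 n15746 = n12273 := d13_1 D15746 (iv D12273) (iv F56657)
theorem F71977 : act 2 n15746 = n13017 := d20_1 D15746 (iv D13017) (iv F56658)
theorem F71978 : act 4 n15746 = n12253 := d31_1 D15746 (iv D12253) D12252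
theorem F71979 : act 9 n15746 = n15746 := d41_2 F56661 D15746 (iv D15746)
def n15747 : Q := act 7 n12253
theorem D15747 : act 7 n12253 = n15747 := rfl
theorem F71980 : act 1 n15747 = n12274 := d14_1 D15747 (iv D12274) (iv F56662)
theorem F71981 : act 2 n15747 = n13018 := d21_1 D15747 (iv D13018) (iv F56663)
theorem F71982 : act 5 n15747 = n15747 := d36_1 D15747 (iv D15747) F56664
theorem F71983 : act 6 n15747 = n12256 := d39_1 D15747 (iv D12256) (iv D9582) (iv F44963) D12253
theorem F71984 : act 9 n15747 = n15747 := d43_2 F56665 D15747 (iv D15747)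
def n15748 : Q := act 2 n12254
theorem D15748 : act 2 n12254 = n15748 := rfl
theorem F71985 : act 3 n15748 = n13019 := d17_2 D12254 D15748 (iv D13019) (iv D10141) (iv F44966)
theorem F71986 : act 5 n15748 = n15748 := d19_2 F56667 D15748 (iv D15748)
theorem F71987 : act 9 n15748 = n15748 := d23_2 F56668 D15748 (iv D15748)
def n15749 : Q := act 6 n12254
theorem D15749 : act 6 n12254 = n15749 := rfl
theorem F71988 : act 1 n15749 = n12276 := d13_1 D15749 (iv D12276) (iv F56666)
theorem F71989 : act 3 n15749 = n12255 := d26_1 D15749 (iv D12255) D12254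
theorem F71990 : act 9 n15749 = n15749 := d41_2 F56668 D15749 (iv D15749)
def n15750 : Q := act 5 n12255
theorem D15750 : act 5 n12255 = n15750 := rfl
theorem F71991 : act 1 n15750 = n12277 := d12_1 D15750 (iv D12277) (iv F56669)
theorem F71992 : act 2 n15750 = n13021 := d19_1 D15750 (iv D13021) (iv F56670)
theorem F71993 : act 4 n15750 = n12259 := d30_1 D15750 (iv D12259) F44980 (iv F44971) (iv F56671)
theorem F71994 : act 6 n15750 = n15750 := d35_2 D12255 D15750 (iv D15750) (iv D12255) F44967
theorem F71995 : act 9 n15750 = n15750 := d38_2 F56672 D15750 (iv D15750)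
def n15751 : Q := act 7 n12255
theorem D15751 : act 7 n12255 = n15751 := rfl
theorem F71996 : act 1 n15751 = n12278 := d14_1 D15751 (iv D12278) (iv F56669)
theorem F71997 : act 2 n15751 = n13022 := d21_1 D15751 (iv D13022) (iv F56670)
theorem F71998 : act 4 n15751 = n12256 := d32_1 D15751 (iv D12256) (iv F56671)
theorem F71999 : act 9 n15751 = n15751 := d43_2 F56672 D15751 (iv D15751)
def n15752 : Q := act 6 n12257
theorem D15752 : act 6 n12257 = n15752 := rfl
theorem F72001 : act 2 n15752 = n12258 := d20_1 D15752 (iv D12258) D12257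
theorem F72003 : act 8 n15752 = n12379 := d40_2 (iv F56681) D15752 (iv D12379)
def n15753 : Q := act 5 n12258
theorem D15753 : act 5 n12258 = n15753 := rfl
theorem F72005 : act 1 n15753 = n12279 := d12_1 D15753 (iv D12279) (iv F56683)
theorem F72006 : act 3 n15753 = n12259 := d25_1 D15753 (iv D12259) (iv F56684)
theorem F72007 : act 6 n15753 = n15753 := d35_2 D12258 D15753 (iv D15753) (iv D12258) F44974
theorem F72008 : act 9 n15753 = n15753 := d38_2 F56686 D15753 (iv D15753)
def n15754 : Q := act 7 n12258
theorem D15754 : act 7 n12258 = n15754 := rfl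
theorem F72009 : act 1 n15754 = n12280 := d14_1 D15754 (iv D12280) (iv F56683)
theorem F72010 : act 3 n15754 = n12260 := d27_1 D15754 (iv D12260) (iv F56684)
theorem F72011 : act 6 n15754 = n15754 := d39_1 D15754 (iv D15754) (iv D12258) F44975 D12258
theorem F72012 : act 8 n15754 = n12381 := d42_2 (iv F56685) D15754 (iv D12381)
theorem F72013 : act 9 n15754 = n15754 := d43_2 F56686 D15754 (iv D15754)
def n15755 : Q := act 7 n12259
theorem D15755 : act 7 n12259 = n15755 := rfl
theorem F72014 : act 1 n15755 = n12281 := d14_1 D15755 (iv D12281) (iv F56687)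
theorem F72015 : act 2 n15755 = n13026 := d21_1 D15755 (iv D13026) (iv F56688)
theorem F72016 : act 5 n15755 = n12260 := d36_1 D15755 (iv D12260) D12259
theorem F72017 : act 9 n15755 = n15755 := d43_2 F56690 D15755 (iv D15755)
def n15756 : Q := act 8 n12259
theorem D15756 : act 8 n12259 = n15756 := rfl
theorem F72018 : act 1 n15756 = n12282 := d15_1 D15756 (iv D12282) (iv F56687)
theorem F72019 : act 2 n15756 = n13027 := d22_1 D15756 (iv D13027) (iv F56688)
theorem F72020 : act 5 n15756 = n12383 := d37_1 D15756 (iv D12383) (iv D9669) (iv F44981) D12259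
theorem F72021 : act 6 n15756 = n15756 := d40_1 D15756 (iv D15756) F56689
def n15757 : Q := act 4 n12261
theorem D15757 : act 4 n12261 = n15757 := rfl
theorem F72022 : act 2 n15757 = n15757 := d18_1 D15757 (iv D15757) F56697
theorem F72023 : act 8 n15757 = n15757 := d33_2 F56699 D15757 (iv D15757)
def n15758 : Q := act 6 n12261
theorem D15758 : act 6 n12261 = n15758 := rfl
theorem F72024 : act 2 n15758 = n15758 := d20_1 D15758 (iv D15758) F56697
theorem F72025 : act 3 n15758 = n12263 := d26_1 D15758 (iv D12263) (iv F56698)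
theorem F72026 : act 5 n15758 = n12386 := d35_1 D15758 (iv D12386) (iv D9672) (iv F44990) D12261
theorem F72027 : act 8 n15758 = n15758 := d40_2 F56699 D15758 (iv D15758)
def n15759 : Q := act 3 n12262
theorem D15759 : act 3 n12262 = n15759 := rfl
theorem F72028 : act 5 n15759 = n12269 := d25_2 (iv F56701) D15759 (iv D12269)
theorem F72029 : act 8 n15759 = n15759 := d28_2 F56702 D15759 (iv D15759)
def n15760 : Q := act 6 n12262
theorem D15760 : act 6 n12262 = n15760 := rfl
theorem F72030 : act 2 n15760 = n12288 := d20_1 D15760 (iv D12288) (iv F56700)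
theorem F72031 : act 4 n15760 = n12263 := d31_1 D15760 (iv D12263) D12262
theorem F72032 : act 8 n15760 = n15760 := d40_2 F56702 D15760 (iv D15760)
def n15761 : Q := act 7 n12263
theorem D15761 : act 7 n12263 = n15761 := rfl
theorem F72033 : act 2 n15761 = n12289 := d21_1 D15761 (iv D12289) (iv F56703)
theorem F72034 : act 5 n15761 = n12393 := d36_1 D15761 (iv D12393) (iv F56704)
theorem F72035 : act 8 n15761 = n15761 := d42_2 F56705 D15761 (iv D15761)
def n15762 : Q := act 4 n12264
theorem D15762 : act 4 n12264 = n15762 := rfl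
theorem F72036 : act 1 n15762 = n12389 := d11_1 D15762 (iv D12389) (iv F56706)
theorem F72037 : act 2 n15762 = n12290 := d18_1 D15762 (iv D12290) (iv F56707)
theorem F72038 : act 5 n15762 = n12367 := d30_2 D12264 D15762 (iv D12367) (iv D9659) (iv F44995)
theorem F72039 : act 7 n15762 = n12394 := d32_2 (iv F56708) D15762 (iv D12394)
theorem F72040 : act 8 n15762 = n15762 := d33_2 F56709 D15762 (iv D15762)
theorem F72041 : act 9 n15762 = n12363 := d34_2 (iv F56710) D15762 (iv D12363)
def n15763 : Q := act 6 n12264
theorem D15763 : act 6 n12264 = n15763 := rfl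
theorem F72042 : act 1 n15763 = n12390 := d13_1 D15763 (iv D12390) (iv F56706)
theorem F72043 : act 2 n15763 = n12291 := d20_1 D15763 (iv D12291) (iv F56707)
theorem F72044 : act 5 n15763 = n12266 := d35_1 D15763 (iv D12266) (iv D9589) (iv F44996) D12264
theorem F72045 : act 8 n15763 = n15763 := d40_2 F56709 D15763 (iv D15763)
theorem F72046 : act 9 n15763 = n12364 := d41_2 (iv F56710) D15763 (iv D12364)
def n15764 : Q := act 3 n12265
theorem D15764 : act 3 n12265 = n15764 := rfl
theorem F72047 : act 7 n15764 = n12269 := d27_2 (iv F56712) D15764 (iv D12269)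
theorem F72048 : act 8 n15764 = n12272 := d28_2 (iv F56713) D15764 (iv D12272)
def n15765 : Q := act 6 n12265
theorem D15765 : act 6 n12265 = n15765 := rfl
theorem F72049 : act 2 n15765 = n12295 := d20_1 D15765 (iv D12295) (iv F56711)
theorem F72050 : act 4 n15765 = n12266 := d31_1 D15765 (iv D12266) D12265
theorem F72051 : act 8 n15765 = n12273 := d40_2 (iv F56713) D15765 (iv D12273)
def n15766 : Q := act 7 n12266
theorem D15766 : act 7 n12266 = n15766 := rfl
theorem F72052 : act 2 n15766 = n12296 := d21_1 D15766 (iv D12296) (iv F56714)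
theorem F72053 : act 6 n15766 = n12271 := d39_1 D15766 (iv D12271) (iv D9592) (iv F45000) D12266
theorem F72054 : act 8 n15766 = n12274 := d42_2 (iv F56715) D15766 (iv D12274)
def n15767 : Q := act 3 n12267
theorem D15767 : act 3 n12267 = n15767 := rfl
theorem F72055 : act 8 n15767 = n15767 := d28_2 F56717 D15767 (iv D15767)
theorem F72056 : act 9 n15767 = n12269 := d29_2 (iv F56718) D15767 (iv D12269)
def n15768 : Q := act 6 n12267
theorem D15768 : act 6 n12267 = n15768 := rfl
theorem F72057 : act 2 n15768 = n12298 := d20_1 D15768 (iv D12298) (iv F56716)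
theorem F72058 : act 4 n15768 = n12268 := d31_1 D15768 (iv D12268) D12267
theorem F72059 : act 8 n15768 = n15768 := d40_2 F56717 D15768 (iv D15768)
theorem F72060 : act 9 n15768 = n12270 := d41_2 (iv F56718) D15768 (iv D12270)
def n15769 : Q := act 7 n12268
theorem D15769 : act 7 n12268 = n15769 := rfl
theorem F72061 : act 2 n15769 = n12299 := d21_1 D15769 (iv D12299) (iv F56719)
theorem F72062 : act 5 n15769 = n12401 := d36_1 D15769 (iv D12401) (iv F56720)
theorem F72063 : act 8 n15769 = n15769 := d42_2 F56721 D15769 (iv D15769)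
theorem F72064 : act 9 n15769 = n12271 := d43_2 (iv F56722) D15769 (iv D12271)
def n15770 : Q := act 2 n12269
theorem D15770 : act 2 n12269 = n15770 := rfl
theorem F72065 : act 3 n15770 = n12300 := d17_2 D12269 D15770 (iv D12300) (iv D9611) (iv F45005)
theorem F72066 : act 8 n15770 = n12275 := d22_2 (iv F56723) D15770 (iv D12275)
def n15771 : Q := act 6 n12269
theorem D15771 : act 6 n12269 = n15771 := rfl
theorem F72067 : act 3 n15771 = n12270 := d26_1 D15771 (iv D12270) D12269
theorem F72068 : act 8 n15771 = n12276 := d40_2 (iv F56723) D15771 (iv D12276)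
def n15772 : Q := act 5 n12270
theorem D15772 : act 5 n12270 = n15772 := rfl
theorem F72069 : act 2 n15772 = n12302 := d19_1 D15772 (iv D12302) (iv F56724)
theorem F72070 : act 4 n15772 = n12404 := d30_1 D15772 (iv D12404) F45335 (iv F45008) (iv F56725)
def n15773 : Q := act 7 n12270
theorem D15773 : act 7 n12270 = n15773 := rfl
theorem F72071 : act 2 n15773 = n12303 := d21_1 D15773 (iv D12303) (iv F56724)
theorem F72072 : act 4 n15773 = n12271 := d32_1 D15773 (iv D12271) (iv F56725)
theorem F72073 : act 8 n15773 = n12278 := d42_2 (iv F56726) D15773 (iv D12278)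
def n15774 : Q := act 2 n12272
theorem D15774 : act 2 n12272 = n15774 := rfl
theorem F72074 : act 3 n15774 = n12304 := d17_2 D12272 D15774 (iv D12304) (iv D9614) (iv F45010)
theorem F72075 : act 5 n15774 = n15774 := d19_2 F56730 D15774 (iv D15774)
theorem F72076 : act 7 n15774 = n12275 := d21_2 (iv F56731) D15774 (iv D12275)
theorem F72077 : act 9 n15774 = n15774 := d23_2 F56732 D15774 (iv D15774)
def n15775 : Q := act 6 n12272
theorem D15775 : act 6 n12272 = n15775 := rfl
theorem F72078 : act 3 n15775 = n12273 := d26_1 D15775 (iv D12273) D12272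
theorem F72079 : act 9 n15775 = n15775 := d41_2 F56732 D15775 (iv D15775)
def n15776 : Q := act 5 n12273
theorem D15776 : act 5 n12273 = n15776 := rfl
theorem F72080 : act 2 n15776 = n12306 := d19_1 D15776 (iv D12306) (iv F56733)
theorem F72081 : act 4 n15776 = n15776 := d30_1 D15776 (iv D15776) F56734 F45015 (iv F56734)
theorem F72082 : act 6 n15776 = n15776 := d35_2 D12273 D15776 (iv D15776) (iv D12273) F45011
theorem F72083 : act 9 n15776 = n15776 := d38_2 F56735 D15776 (iv D15776)
def n15777 : Q := act 7 n12273
theorem D15777 : act 7 n12273 = n15777 := rfl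
theorem F72084 : act 2 n15777 = n12307 := d21_1 D15777 (iv D12307) (iv F56733)
theorem F72085 : act 4 n15777 = n12274 := d32_1 D15777 (iv D12274) (iv F56734)
theorem F72086 : act 6 n15777 = n12278 := d39_1 D15777 (iv D12278) (iv D9596) (iv F45012) D12273
theorem F72087 : act 9 n15777 = n15777 := d43_2 F56735 D15777 (iv D15777)
def n15778 : Q := act 1 n12275
theorem D15778 : act 1 n12275 = n15778 := rfl
theorem F72088 : act 3 n15778 = n12308 := d10_2 (iv F56740) D15778 (iv D12308)
theorem F72089 : act 5 n15778 = n15778 := d12_2 F56741 D15778 (iv D15778)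
theorem F72090 : act 9 n15778 = n15778 := d16_2 F56742 D15778 (iv D15778)
def n15779 : Q := act 6 n12275
theorem D15779 : act 6 n12275 = n15779 := rfl
theorem F72091 : act 2 n15779 = n12276 := d20_1 D15779 (iv D12276) D12275
theorem F72092 : act 3 n15779 = n12309 := d26_1 D15779 (iv D12309) (iv F56740)
theorem F72093 : act 9 n15779 = n15779 := d41_2 F56742 D15779 (iv D15779)
def n15780 : Q := act 5 n12276
theorem D15780 : act 5 n12276 = n15780 := rfl
theorem F72094 : act 3 n15780 = n12277 := d25_1 D15780 (iv D12277) (iv F56743)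
theorem F72095 : act 6 n15780 = n15780 := d35_2 D12276 D15780 (iv D15780) (iv D12276) F45017
theorem F72096 : act 9 n15780 = n15780 := d38_2 F56744 D15780 (iv D15780)
def n15781 : Q := act 7 n12276
theorem D15781 : act 7 n12276 = n15781 := rfl
theorem F72097 : act 3 n15781 = n12278 := d27_1 D15781 (iv D12278) (iv F56743)
theorem F72098 : act 9 n15781 = n15781 := d43_2 F56744 D15781 (iv D15781)
def n15782 : Q := act 7 n12277
theorem D15782 : act 7 n12277 = n15782 := rfl
theorem F72099 : act 2 n15782 = n12312 := d21_1 D15782 (iv D12312) (iv F56745)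
theorem F72100 : act 4 n15782 = n12281 := d32_1 D15782 (iv D12281) (iv F56746)
theorem F72101 : act 5 n15782 = n12278 := d36_1 D15782 (iv D12278) D12277
theorem F72102 : act 9 n15782 = n15782 := d43_2 F56748 D15782 (iv D15782)
def n15783 : Q := act 8 n12277
theorem D15783 : act 8 n12277 = n15783 := rfl
theorem F72103 : act 2 n15783 = n12313 := d22_1 D15783 (iv D12313) (iv F56745)
theorem F72104 : act 4 n15783 = n12282 := d33_1 D15783 (iv D12282) (iv F56746)
theorem F72105 : act 6 n15783 = n15783 := d40_1 D15783 (iv D15783) F56747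
def n15784 : Q := act 4 n12279
theorem D15784 : act 4 n12279 = n15784 := rfl
theorem F72106 : act 2 n15784 = n15784 := d18_1 D15784 (iv D15784) F56752
theorem F72107 : act 6 n15784 = n15784 := d31_2 F56754 D15784 (iv D15784)
theorem F72108 : act 9 n15784 = n15784 := d34_2 F56755 D15784 (iv D15784)
def n15785 : Q := act 7 n12279
theorem D15785 : act 7 n12279 = n15785 := rfl
theorem F72109 : act 2 n15785 = n15785 := d21_1 D15785 (iv D15785) F56752
theorem F72110 : act 3 n15785 = n12281 := d27_1 D15785 (iv D12281) (iv F56753)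
theorem F72111 : act 5 n15785 = n12280 := d36_1 D15785 (iv D12280) D12279
theorem F72112 : act 9 n15785 = n15785 := d43_2 F56755 D15785 (iv D15785)
def n15786 : Q := act 8 n12279
theorem D15786 : act 8 n12279 = n15786 := rfl
theorem F72113 : act 2 n15786 = n15786 := d22_1 D15786 (iv D15786) F56752
theorem F72114 : act 3 n15786 = n12282 := d28_1 D15786 (iv D12282) (iv F56753)
theorem F72115 : act 5 n15786 = n12418 := d37_1 D15786 (iv D12418) (iv D9692) (iv F45027) D12279
theorem F72116 : act 6 n15786 = n15786 := d40_1 D15786 (iv D15786) F56754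
def n15787 : Q := act 6 n12281
theorem D15787 : act 6 n12281 = n15787 := rfl
theorem F72117 : act 2 n15787 = n12314 := d20_1 D15787 (iv D12314) (iv F56761)
theorem F72118 : act 5 n15787 = n15787 := d35_1 D15787 (iv D15787) F56762 F45034 (iv F56762)
theorem F72119 : act 7 n15787 = n15787 := d39_2 D12281 D15787 (iv D15787) (iv D12281) F45030
theorem F72120 : act 9 n15787 = n15787 := d41_2 F56763 D15787 (iv D15787)
def n15788 : Q := act 8 n12281
theorem D15788 : act 8 n12281 = n15788 := rfl
theorem F72121 : act 2 n15788 = n12315 := d22_1 D15788 (iv D12315) (iv F56761)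
theorem F72122 : act 5 n15788 = n12420 := d37_1 D15788 (iv D12420) F45370 (iv F45035) (iv F56762)
theorem F72123 : act 7 n15788 = n12282 := d42_1 D15788 (iv D12282) D12281
def n15789 : Q := act 9 n12282
theorem D15789 : act 9 n12282 = n15789 := rfl
theorem F72124 : act 2 n15789 = n12316 := d23_1 D15789 (iv D12316) (iv F56764)
theorem F72125 : act 5 n15789 = n12421 := d38_1 D15789 (iv D12421) (iv F56765)
theorem F72126 : act 6 n15789 = n15789 := d41_1 D15789 (iv D15789) F56766
theorem F72127 : act 8 n15789 = n15789 := d44_1 D15789 (iv D15789) (iv D12282) F45031 D12282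
def n15790 : Q := act 3 n12283
theorem D15790 : act 3 n12283 = n15790 := rfl
theorem F72128 : act 1 n15790 = n13034 := d10_1 D15790 (iv D13034) (iv F56767)
theorem F72129 : act 4 n15790 = n15790 := d24_2 D12283 D15790 (iv D15790) (iv D12283) F45038
theorem F72130 : act 5 n15790 = n12294 := d25_2 (iv F56768) D15790 (iv D12294)
theorem F72131 : act 7 n15790 = n12287 := d27_2 (iv F56769) D15790 (iv D12287)
theorem F72132 : act 8 n15790 = n15790 := d28_2 F56770 D15790 (iv D15790)
theorem F72133 : act 9 n15790 = n13013 := d29_2 (iv F56771) D15790 (iv D13013)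
def n15791 : Q := act 6 n12283
theorem D15791 : act 6 n12283 = n15791 := rfl
theorem F72134 : act 1 n15791 = n13035 := d13_1 D15791 (iv D13035) (iv F56767)
theorem F72135 : act 4 n15791 = n12284 := d31_1 D15791 (iv D12284) D12283
theorem F72136 : act 8 n15791 = n15791 := d40_2 F56770 D15791 (iv D15791)
theorem F72137 : act 9 n15791 = n13014 := d41_2 (iv F56771) D15791 (iv D13014)
def n15792 : Q := act 7 n12284
theorem D15792 : act 7 n12284 = n15792 := rfl
theorem F72138 : act 1 n15792 = n13036 := d14_1 D15792 (iv D13036) (iv F56772)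
theorem F72139 : act 3 n15792 = n15792 := d27_1 D15792 (iv D15792) F56773
theorem F72140 : act 5 n15792 = n13163 := d36_1 D15792 (iv D13163) (iv F56774)
theorem F72141 : act 6 n15792 = n12289 := d39_1 D15792 (iv D12289) (iv D9604) (iv F45039) D12284
theorem F72142 : act 8 n15792 = n15792 := d42_2 F56775 D15792 (iv D15792)
theorem F72143 : act 9 n15792 = n13015 := d43_2 (iv F56776) D15792 (iv D13015)
def n15793 : Q := act 3 n12285
theorem D15793 : act 3 n12285 = n15793 := rfl
theorem F72144 : act 1 n15793 = n13031 := d10_1 D15793 (iv D13031) (iv F56777)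
theorem F72145 : act 4 n15793 = n15793 := d24_2 D12285 D15793 (iv D15793) (iv D12285) F45043
theorem F72146 : act 5 n15793 = n12297 := d25_2 (iv F56778) D15793 (iv D12297)
theorem F72147 : act 7 n15793 = n13013 := d27_2 (iv F56779) D15793 (iv D13013)
theorem F72148 : act 8 n15793 = n13016 := d28_2 (iv F56780) D15793 (iv D13016)
theorem F72149 : act 9 n15793 = n12287 := d29_2 (iv F56781) D15793 (iv D12287)
def n15794 : Q := act 6 n12285
theorem D15794 : act 6 n12285 = n15794 := rfl
theorem F72150 : act 1 n15794 = n13032 := d13_1 D15794 (iv D13032) (iv F56777)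
theorem F72151 : act 4 n15794 = n12286 := d31_1 D15794 (iv D12286) D12285
theorem F72152 : act 8 n15794 = n13017 := d40_2 (iv F56780) D15794 (iv D13017)
theorem F72153 : act 9 n15794 = n12288 := d41_2 (iv F56781) D15794 (iv D12288)
def n15795 : Q := act 7 n12286
theorem D15795 : act 7 n12286 = n15795 := rfl
theorem F72154 : act 1 n15795 = n13033 := d14_1 D15795 (iv D13033) (iv F56782)
theorem F72155 : act 3 n15795 = n15795 := d27_1 D15795 (iv D15795) F56783
theorem F72156 : act 5 n15795 = n12429 := d36_1 D15795 (iv D12429) (iv F56784)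
theorem F72157 : act 6 n15795 = n13015 := d39_1 D15795 (iv D13015) (iv D10138) (iv F45044) D12286
theorem F72158 : act 8 n15795 = n13018 := d42_2 (iv F56785) D15795 (iv D13018)
theorem F72159 : act 9 n15795 = n12289 := d43_2 (iv F56786) D15795 (iv D12289)
def n15796 : Q := act 2 n12287
theorem D15796 : act 2 n12287 = n15796 := rfl
theorem F72160 : act 4 n15796 = n15796 := d18_2 F56788 D15796 (iv D15796)
theorem F72161 : act 5 n15796 = n12300 := d19_2 (iv F56789) D15796 (iv D12300)
theorem F72162 : act 8 n15796 = n15796 := d22_2 F56790 D15796 (iv D15796)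
def n15797 : Q := act 6 n12287
theorem D15797 : act 6 n12287 = n15797 := rfl
theorem F72163 : act 1 n15797 = n13058 := d13_1 D15797 (iv D13058) (iv F56787)
theorem F72164 : act 3 n15797 = n12288 := d26_1 D15797 (iv D12288) D12287
theorem F72165 : act 4 n15797 = n15797 := d31_1 D15797 (iv D15797) F56788
theorem F72166 : act 8 n15797 = n15797 := d40_2 F56790 D15797 (iv D15797)
def n15798 : Q := act 5 n12288
theorem D15798 : act 5 n12288 = n15798 := rfl
theorem F72167 : act 1 n15798 = n13059 := d12_1 D15798 (iv D13059) (iv F56791)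
theorem F72168 : act 4 n15798 = n12432 := d30_1 D15798 (iv D12432) F45399 (iv F45052) (iv F56792)
theorem F72169 : act 6 n15798 = n12302 := d35_2 D12288 D15798 (iv D12302) (iv D9612) (iv F45048)
def n15799 : Q := act 7 n12288
theorem D15799 : act 7 n12288 = n15799 := rfl
theorem F72170 : act 1 n15799 = n13060 := d14_1 D15799 (iv D13060) (iv F56791)
theorem F72171 : act 4 n15799 = n12289 := d32_1 D15799 (iv D12289) (iv F56792)
theorem F72172 : act 8 n15799 = n15799 := d42_2 F56793 D15799 (iv D15799)
def n15800 : Q := act 3 n12290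
theorem D15800 : act 3 n12290 = n15800 := rfl
theorem F72173 : act 1 n15800 = n13061 := d10_1 D15800 (iv D13061) (iv F56798)
theorem F72174 : act 4 n15800 = n12317 := d24_2 D12290 D15800 (iv D12317) (iv D9623) (iv F45055)
theorem F72176 : act 7 n15800 = n12434 := d27_2 (iv F56800) D15800 (iv D12434)
theorem F72177 : act 8 n15800 = n15800 := d28_2 F56801 D15800 (iv D15800)
theorem F72178 : act 9 n15800 = n13155 := d29_2 (iv F56802) D15800 (iv D13155)
def n15801 : Q := act 6 n12290
theorem D15801 : act 6 n12290 = n15801 := rfl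
theorem F72179 : act 1 n15801 = n13062 := d13_1 D15801 (iv D13062) (iv F56798)
theorem F72180 : act 4 n15801 = n12291 := d31_1 D15801 (iv D12291) D12290
theorem F72181 : act 8 n15801 = n15801 := d40_2 F56801 D15801 (iv D15801)
theorem F72182 : act 9 n15801 = n13156 := d41_2 (iv F56802) D15801 (iv D13156)
def n15802 : Q := act 7 n12291
theorem D15802 : act 7 n12291 = n15802 := rfl
theorem F72183 : act 1 n15802 = n13063 := d14_1 D15802 (iv D13063) (iv F56803)
theorem F72184 : act 3 n15802 = n12319 := d27_1 D15802 (iv D12319) (iv F56804)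
theorem F72185 : act 5 n15802 = n12296 := d36_1 D15802 (iv D12296) (iv F56805)
theorem F72186 : act 6 n15802 = n12436 := d39_1 D15802 (iv D12436) (iv D9705) (iv F45056) D12291
theorem F72187 : act 8 n15802 = n15802 := d42_2 F56806 D15802 (iv D15802)
theorem F72188 : act 9 n15802 = n13157 := d43_2 (iv F56807) D15802 (iv D13157)
def n15803 : Q := act 3 n12292
theorem D15803 : act 3 n12292 = n15803 := rfl
theorem F72189 : act 1 n15803 = n13028 := d10_1 D15803 (iv D13028) (iv F56808)
theorem F72190 : act 4 n15803 = n12320 := d24_2 D12292 D15803 (iv D12320) (iv D9625) (iv F45060)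
theorem F72191 : act 5 n15803 = n13013 := d25_2 (iv F56809) D15803 (iv D13013)
theorem F72192 : act 7 n15803 = n12297 := d27_2 (iv F56810) D15803 (iv D12297)
theorem F72193 : act 8 n15803 = n15803 := d28_2 F56811 D15803 (iv D15803)
theorem F72194 : act 9 n15803 = n12294 := d29_2 (iv F56812) D15803 (iv D12294)
def n15804 : Q := act 6 n12292
theorem D15804 : act 6 n12292 = n15804 := rfl
theorem F72195 : act 1 n15804 = n13029 := d13_1 D15804 (iv D13029) (iv F56808)
theorem F72196 : act 4 n15804 = n12293 := d31_1 D15804 (iv D12293) D12292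
theorem F72197 : act 8 n15804 = n15804 := d40_2 F56811 D15804 (iv D15804)
theorem F72198 : act 9 n15804 = n12295 := d41_2 (iv F56812) D15804 (iv D12295)
def n15805 : Q := act 7 n12293
theorem D15805 : act 7 n12293 = n15805 := rfl
theorem F72199 : act 1 n15805 = n13030 := d14_1 D15805 (iv D13030) (iv F56813)
theorem F72200 : act 3 n15805 = n12322 := d27_1 D15805 (iv D12322) (iv F56814)
theorem F72201 : act 5 n15805 = n13157 := d36_1 D15805 (iv D13157) (iv F56815)
theorem F72202 : act 6 n15805 = n12299 := d39_1 D15805 (iv D12299) (iv D9610) (iv F45061) D12293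
theorem F72203 : act 8 n15805 = n15805 := d42_2 F56816 D15805 (iv D15805)
theorem F72204 : act 9 n15805 = n12296 := d43_2 (iv F56817) D15805 (iv D12296)
def n15806 : Q := act 2 n12294
theorem D15806 : act 2 n12294 = n15806 := rfl
theorem F72205 : act 4 n15806 = n12323 := d18_2 (iv F56819) D15806 (iv D12323)
theorem F72206 : act 7 n15806 = n12300 := d21_2 (iv F56820) D15806 (iv D12300)
theorem F72207 : act 8 n15806 = n12304 := d22_2 (iv F56821) D15806 (iv D12304)
def n15807 : Q := act 6 n12294
theorem D15807 : act 6 n12294 = n15807 := rfl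
theorem F72208 : act 1 n15807 = n13065 := d13_1 D15807 (iv D13065) (iv F56818)
theorem F72209 : act 3 n15807 = n12295 := d26_1 D15807 (iv D12295) D12294
theorem F72210 : act 4 n15807 = n12324 := d31_1 D15807 (iv D12324) (iv F56819)
theorem F72211 : act 8 n15807 = n12305 := d40_2 (iv F56821) D15807 (iv D12305)
def n15808 : Q := act 5 n12295
theorem D15808 : act 5 n12295 = n15808 := rfl
theorem F72212 : act 1 n15808 = n13066 := d12_1 D15808 (iv D13066) (iv F56822)
def n15809 : Q := act 7 n12295
theorem D15809 : act 7 n12295 = n15809 := rfl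
theorem F72213 : act 1 n15809 = n13067 := d14_1 D15809 (iv D13067) (iv F56822)
theorem F72214 : act 4 n15809 = n12296 := d32_1 D15809 (iv D12296) (iv F56823)
theorem F72215 : act 6 n15809 = n12303 := d39_1 D15809 (iv D12303) (iv D9612) (iv F45065) D12295
theorem F72216 : act 8 n15809 = n12307 := d42_2 (iv F56824) D15809 (iv D12307)
def n15810 : Q := act 2 n12297
theorem D15810 : act 2 n12297 = n15810 := rfl
theorem F72217 : act 4 n15810 = n12327 := d18_2 (iv F56830) D15810 (iv D12327)
theorem F72218 : act 8 n15810 = n15810 := d22_2 F56831 D15810 (iv D15810)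
theorem F72219 : act 9 n15810 = n12300 := d23_2 (iv F56832) D15810 (iv D12300)
def n15811 : Q := act 6 n12297
theorem D15811 : act 6 n12297 = n15811 := rfl
theorem F72220 : act 1 n15811 = n13069 := d13_1 D15811 (iv D13069) (iv F56829)
theorem F72221 : act 3 n15811 = n12298 := d26_1 D15811 (iv D12298) D12297
theorem F72222 : act 4 n15811 = n12328 := d31_1 D15811 (iv D12328) (iv F56830)
theorem F72223 : act 8 n15811 = n15811 := d40_2 F56831 D15811 (iv D15811)
theorem F72224 : act 9 n15811 = n12301 := d41_2 (iv F56832) D15811 (iv D12301)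
def n15812 : Q := act 5 n12298
theorem D15812 : act 5 n12298 = n15812 := rfl
theorem F72225 : act 1 n15812 = n13070 := d12_1 D15812 (iv D13070) (iv F56833)
theorem F72226 : act 4 n15812 = n12443 := d30_1 D15812 (iv D12443) F45426 (iv F45075) (iv F56834)
theorem F72227 : act 9 n15812 = n12302 := d38_2 (iv F56836) D15812 (iv D12302)
def n15813 : Q := act 7 n12298
theorem D15813 : act 7 n12298 = n15813 := rfl
theorem F72228 : act 1 n15813 = n13071 := d14_1 D15813 (iv D13071) (iv F56833)
theorem F72229 : act 4 n15813 = n12299 := d32_1 D15813 (iv D12299) (iv F56834)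
theorem F72230 : act 8 n15813 = n15813 := d42_2 F56835 D15813 (iv D15813)
theorem F72231 : act 9 n15813 = n12303 := d43_2 (iv F56836) D15813 (iv D12303)
def n15814 : Q := act 1 n12300
theorem D15814 : act 1 n12300 = n15814 := rfl
theorem F72232 : act 2 n15814 = n13072 := d9_2 D12300 D15814 (iv D13072) (iv D10179) (iv F45078)
theorem F72233 : act 4 n15814 = n12331 := d11_2 (iv F56842) D15814 (iv D12331)
theorem F72234 : act 8 n15814 = n12308 := d15_2 (iv F56843) D15814 (iv D12308)
def n15815 : Q := act 6 n12300
theorem D15815 : act 6 n12300 = n15815 := rfl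
theorem F72235 : act 2 n15815 = n12301 := d20_1 D15815 (iv D12301) D12300
theorem F72236 : act 4 n15815 = n12332 := d31_1 D15815 (iv D12332) (iv F56842)
theorem F72237 : act 8 n15815 = n12309 := d40_2 (iv F56843) D15815 (iv D12309)
def n15816 : Q := act 5 n12301
theorem D15816 : act 5 n12301 = n15816 := rfl
theorem F72238 : act 1 n15816 = n13074 := d12_1 D15816 (iv D13074) (iv F56844)
theorem F72239 : act 3 n15816 = n12302 := d25_1 D15816 (iv D12302) (iv F56845)
def n15817 : Q := act 7 n12301
theorem D15817 : act 7 n12301 = n15817 := rfl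
theorem F72240 : act 1 n15817 = n13075 := d14_1 D15817 (iv D13075) (iv F56844)
theorem F72241 : act 3 n15817 = n12303 := d27_1 D15817 (iv D12303) (iv F56845)
theorem F72242 : act 4 n15817 = n12334 := d32_1 D15817 (iv D12334) (iv F56846)
theorem F72243 : act 8 n15817 = n12311 := d42_2 (iv F56847) D15817 (iv D12311)
def n15818 : Q := act 7 n12302
theorem D15818 : act 7 n12302 = n15818 := rfl
theorem F72244 : act 1 n15818 = n13076 := d14_1 D15818 (iv D13076) (iv F56848)
theorem F72245 : act 4 n15818 = n12449 := d32_1 D15818 (iv D12449) (iv F56849)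
theorem F72246 : act 5 n15818 = n12303 := d36_1 D15818 (iv D12303) D12302
def n15819 : Q := act 8 n12302
theorem D15819 : act 8 n12302 = n15819 := rfl
theorem F72247 : act 1 n15819 = n13077 := d15_1 D15819 (iv D13077) (iv F56848)
theorem F72248 : act 4 n15819 = n12450 := d33_1 D15819 (iv D12450) (iv F56849)
theorem F72249 : act 5 n15819 = n12313 := d37_1 D15819 (iv D12313) (iv D9619) (iv F45083) D12302
def n15820 : Q := act 1 n12304
theorem D15820 : act 1 n12304 = n15820 := rfl
theorem F72250 : act 2 n15820 = n13078 := d9_2 D12304 D15820 (iv D13078) (iv D10183) (iv F45088)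
theorem F72251 : act 4 n15820 = n12336 := d11_2 (iv F56853) D15820 (iv D12336)
theorem F72252 : act 5 n15820 = n15820 := d12_2 F56854 D15820 (iv D15820)
theorem F72253 : act 7 n15820 = n12308 := d14_2 (iv F56855) D15820 (iv D12308)
theorem F72254 : act 9 n15820 = n15820 := d16_2 F56856 D15820 (iv D15820)
def n15821 : Q := act 6 n12304
theorem D15821 : act 6 n12304 = n15821 := rfl
theorem F72255 : act 2 n15821 = n12305 := d20_1 D15821 (iv D12305) D12304
theorem F72256 : act 4 n15821 = n12337 := d31_1 D15821 (iv D12337) (iv F56853)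
theorem F72257 : act 9 n15821 = n15821 := d41_2 F56856 D15821 (iv D15821)
def n15822 : Q := act 5 n12305
theorem D15822 : act 5 n12305 = n15822 := rfl
theorem F72258 : act 1 n15822 = n13080 := d12_1 D15822 (iv D13080) (iv F56857)
theorem F72259 : act 3 n15822 = n12306 := d25_1 D15822 (iv D12306) (iv F56858)
theorem F72260 : act 6 n15822 = n15822 := d35_2 D12305 D15822 (iv D15822) (iv D12305) F45090
theorem F72261 : act 9 n15822 = n15822 := d38_2 F56860 D15822 (iv D15822)
def n15823 : Q := act 7 n12305
theorem D15823 : act 7 n12305 = n15823 := rfl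
theorem F72262 : act 1 n15823 = n13081 := d14_1 D15823 (iv D13081) (iv F56857)
theorem F72263 : act 3 n15823 = n12307 := d27_1 D15823 (iv D12307) (iv F56858)
theorem F72264 : act 4 n15823 = n12339 := d32_1 D15823 (iv D12339) (iv F56859)
theorem F72265 : act 6 n15823 = n12311 := d39_1 D15823 (iv D12311) (iv D9618) (iv F45091) D12305
theorem F72266 : act 9 n15823 = n15823 := d43_2 F56860 D15823 (iv D15823)
def n15824 : Q := act 7 n12306
theorem D15824 : act 7 n12306 = n15824 := rfl
theorem F72267 : act 1 n15824 = n13082 := d14_1 D15824 (iv D13082) (iv F56861)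
theorem F72268 : act 4 n15824 = n15824 := d32_1 D15824 (iv D15824) F56862
theorem F72269 : act 5 n15824 = n12307 := d36_1 D15824 (iv D12307) D12306
theorem F72270 : act 9 n15824 = n15824 := d43_2 F56864 D15824 (iv D15824)
def n15825 : Q := act 8 n12306
theorem D15825 : act 8 n12306 = n15825 := rfl
theorem F72271 : act 1 n15825 = n13083 := d15_1 D15825 (iv D13083) (iv F56861)
theorem F72272 : act 4 n15825 = n15825 := d33_1 D15825 (iv D15825) F56862
theorem F72273 : act 6 n15825 = n15825 := d40_1 D15825 (iv D15825) F56863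
def n15826 : Q := act 0 n12308
theorem D15826 : act 0 n12308 = n15826 := rfl
theorem F72274 : act 2 n15826 = n13084 := d1_2 (iv F56869) D15826 (iv D13084)
theorem F72275 : act 4 n15826 = n12342 := d3_2 (iv F56870) D15826 (iv D12342)
theorem F72276 : act 5 n15826 = n15826 := d4_2 F56871 D15826 (iv D15826)
theorem F72277 : act 9 n15826 = n15826 := d8_2 F56872 D15826 (iv D15826)
def n15827 : Q := act 6 n12308
theorem D15827 : act 6 n12308 = n15827 := rfl
theorem F72278 : act 1 n15827 = n12309 := d13_1 D15827 (iv D12309) D12308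
theorem F72279 : act 2 n15827 = n13085 := d20_1 D15827 (iv D13085) (iv F56869)
theorem F72280 : act 4 n15827 = n12343 := d31_1 D15827 (iv D12343) (iv F56870)
theorem F72281 : act 9 n15827 = n15827 := d41_2 F56872 D15827 (iv D15827)
def n15828 : Q := act 5 n12309
theorem D15828 : act 5 n12309 = n15828 := rfl
theorem F72282 : act 2 n15828 = n12310 := d19_1 D15828 (iv D12310) (iv F56873)
theorem F72283 : act 4 n15828 = n15828 := d30_1 D15828 (iv D15828) F56874 F45190 (iv F56874)
theorem F72284 : act 6 n15828 = n15828 := d35_2 D12309 D15828 (iv D15828) (iv D12309) F45102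
theorem F72285 : act 9 n15828 = n15828 := d38_2 F56875 D15828 (iv D15828)
def n15829 : Q := act 7 n12309
theorem D15829 : act 7 n12309 = n15829 := rfl
theorem F72286 : act 2 n15829 = n12311 := d21_1 D15829 (iv D12311) (iv F56873)
theorem F72287 : act 4 n15829 = n12344 := d32_1 D15829 (iv D12344) (iv F56874)
theorem F72288 : act 9 n15829 = n15829 := d43_2 F56875 D15829 (iv D15829)
def n15830 : Q := act 7 n12310
theorem D15830 : act 7 n12310 = n15830 := rfl
theorem F72289 : act 1 n15830 = n13088 := d14_1 D15830 (iv D13088) (iv F56876)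
theorem F72290 : act 3 n15830 = n12312 := d27_1 D15830 (iv D12312) (iv F56877)
theorem F72291 : act 4 n15830 = n15830 := d32_1 D15830 (iv D15830) F56878
theorem F72292 : act 5 n15830 = n12311 := d36_1 D15830 (iv D12311) D12310
theorem F72293 : act 9 n15830 = n15830 := d43_2 F56880 D15830 (iv D15830)
def n15831 : Q := act 8 n12310
theorem D15831 : act 8 n12310 = n15831 := rfl
theorem F72294 : act 1 n15831 = n13089 := d15_1 D15831 (iv D13089) (iv F56876)
theorem F72295 : act 3 n15831 = n12313 := d28_1 D15831 (iv D12313) (iv F56877)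
theorem F72296 : act 4 n15831 = n15831 := d33_1 D15831 (iv D15831) F56878
theorem F72297 : act 6 n15831 = n15831 := d40_1 D15831 (iv D15831) F56879
def n15832 : Q := act 6 n12312
theorem D15832 : act 6 n12312 = n15832 := rfl
theorem F72298 : act 1 n15832 = n13090 := d13_1 D15832 (iv D13090) (iv F56885)
theorem F72299 : act 4 n15832 = n12314 := d31_1 D15832 (iv D12314) (iv F56886)
theorem F72300 : act 7 n15832 = n15832 := d39_2 D12312 D15832 (iv D15832) (iv D12312) F45110
theorem F72301 : act 9 n15832 = n15832 := d41_2 F56888 D15832 (iv D15832)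
def n15833 : Q := act 8 n12312
theorem D15833 : act 8 n12312 = n15833 := rfl
theorem F72302 : act 1 n15833 = n13091 := d15_1 D15833 (iv D13091) (iv F56885)
theorem F72303 : act 4 n15833 = n12315 := d33_1 D15833 (iv D12315) (iv F56886)
theorem F72304 : act 7 n15833 = n12313 := d42_1 D15833 (iv D12313) D12312
def n15834 : Q := act 9 n12313
theorem D15834 : act 9 n12313 = n15834 := rfl
theorem F72305 : act 1 n15834 = n13092 := d16_1 D15834 (iv D13092) (iv F56889)
theorem F72306 : act 4 n15834 = n12316 := d34_1 D15834 (iv D12316) (iv F56890)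
theorem F72307 : act 6 n15834 = n15834 := d41_1 D15834 (iv D15834) F56891
theorem F72308 : act 8 n15834 = n15834 := d44_1 D15834 (iv D15834) (iv D12313) F45111 D12313
def n15835 : Q := act 8 n12314
theorem D15835 : act 8 n12314 = n15835 := rfl
theorem F72309 : act 1 n15835 = n13093 := d15_1 D15835 (iv D13093) (iv F56892)
theorem F72310 : act 3 n15835 = n15835 := d28_1 D15835 (iv D15835) F56893
theorem F72311 : act 6 n15835 = n12315 := d40_1 D15835 (iv D12315) D12314
theorem F72312 : act 7 n15835 = n15835 := d42_1 D15835 (iv D15835) F56895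
def n15836 : Q := act 9 n12315
theorem D15836 : act 9 n12315 = n15836 := rfl
theorem F72313 : act 1 n15836 = n13094 := d16_1 D15836 (iv D13094) (iv F56897)
theorem F72314 : act 3 n15836 = n15836 := d29_1 D15836 (iv D15836) F56898
theorem F72315 : act 5 n15836 = n12467 := d38_1 D15836 (iv D12467) (iv F56899)
theorem F72316 : act 7 n15836 = n12316 := d43_1 D15836 (iv D12316) (iv F56900)
theorem F72317 : act 8 n15836 = n15836 := d44_1 D15836 (iv D15836) (iv D12315) F45118 D12315
def n15837 : Q := act 2 n12317
theorem D15837 : act 2 n12317 = n15837 := rfl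
theorem F72318 : act 5 n15837 = n15837 := d19_2 F56907 D15837 (iv D15837)
theorem F72319 : act 7 n15837 = n12468 := d21_2 (iv F56908) D15837 (iv D12468)
theorem F72320 : act 8 n15837 = n15837 := d22_2 F56909 D15837 (iv D15837)
def n15838 : Q := act 6 n12317
theorem D15838 : act 6 n12317 = n15838 := rfl
theorem F72321 : act 1 n15838 = n13099 := d13_1 D15838 (iv D13099) (iv F56906)
theorem F72322 : act 3 n15838 = n12318 := d26_1 D15838 (iv D12318) D12317
theorem F72323 : act 8 n15838 = n15838 := d40_2 F56909 D15838 (iv D15838)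
def n15839 : Q := act 5 n12318
theorem D15839 : act 5 n12318 = n15839 := rfl
theorem F72324 : act 1 n15839 = n13100 := d12_1 D15839 (iv D13100) (iv F56910)
theorem F72325 : act 4 n15839 = n12325 := d30_1 D15839 (iv D12325) F45143 (iv F45128) (iv F56911)
theorem F72326 : act 6 n15839 = n15839 := d35_2 D12318 D15839 (iv D15839) (iv D12318) F45124
def n15840 : Q := act 7 n12318
theorem D15840 : act 7 n12318 = n15840 := rfl
theorem F72327 : act 1 n15840 = n13101 := d14_1 D15840 (iv D13101) (iv F56910)
theorem F72328 : act 4 n15840 = n12319 := d32_1 D15840 (iv D12319) (iv F56911)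
theorem F72329 : act 6 n15840 = n12471 := d39_1 D15840 (iv D12471) (iv D9730) (iv F45125) D12318
theorem F72330 : act 8 n15840 = n15840 := d42_2 F56912 D15840 (iv D15840)
def n15841 : Q := act 2 n12320
theorem D15841 : act 2 n12320 = n15841 := rfl
theorem F72331 : act 5 n15841 = n15841 := d19_2 F56918 D15841 (iv D15841)
theorem F72332 : act 7 n15841 = n12327 := d21_2 (iv F56919) D15841 (iv D12327)
theorem F72333 : act 8 n15841 = n15841 := d22_2 F56920 D15841 (iv D15841)
theorem F72334 : act 9 n15841 = n12323 := d23_2 (iv F56921) D15841 (iv D12323)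
def n15842 : Q := act 6 n12320
theorem D15842 : act 6 n12320 = n15842 := rfl
theorem F72335 : act 1 n15842 = n13103 := d13_1 D15842 (iv D13103) (iv F56917)
theorem F72336 : act 3 n15842 = n12321 := d26_1 D15842 (iv D12321) D12320
theorem F72337 : act 8 n15842 = n15842 := d40_2 F56920 D15842 (iv D15842)
theorem F72338 : act 9 n15842 = n12324 := d41_2 (iv F56921) D15842 (iv D12324)
def n15843 : Q := act 5 n12321
theorem D15843 : act 5 n12321 = n15843 := rfl
theorem F72339 : act 1 n15843 = n13104 := d12_1 D15843 (iv D13104) (iv F56922)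
theorem F72340 : act 6 n15843 = n15843 := d35_2 D12321 D15843 (iv D15843) (iv D12321) F45131
theorem F72341 : act 9 n15843 = n12325 := d38_2 (iv F56925) D15843 (iv D12325)
def n15844 : Q := act 7 n12321
theorem D15844 : act 7 n12321 = n15844 := rfl
theorem F72342 : act 1 n15844 = n13105 := d14_1 D15844 (iv D13105) (iv F56922)
theorem F72343 : act 4 n15844 = n12322 := d32_1 D15844 (iv D12322) (iv F56923)
theorem F72344 : act 6 n15844 = n12330 := d39_1 D15844 (iv D12330) (iv D9631) (iv F45132) D12321
theorem F72345 : act 8 n15844 = n15844 := d42_2 F56924 D15844 (iv D15844)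
theorem F72346 : act 9 n15844 = n12326 := d43_2 (iv F56925) D15844 (iv D12326)
def n15845 : Q := act 1 n12323
theorem D15845 : act 1 n12323 = n15845 := rfl
theorem F72347 : act 2 n15845 = n13106 := d9_2 D12323 D15845 (iv D13106) (iv D10204) (iv F45138)
theorem F72348 : act 5 n15845 = n15845 := d12_2 F56930 D15845 (iv D15845)
theorem F72349 : act 7 n15845 = n12331 := d14_2 (iv F56931) D15845 (iv D12331)
theorem F72350 : act 8 n15845 = n12336 := d15_2 (iv F56932) D15845 (iv D12336)
def n15846 : Q := act 6 n12323
theorem D15846 : act 6 n12323 = n15846 := rfl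
theorem F72351 : act 2 n15846 = n12324 := d20_1 D15846 (iv D12324) D12323
theorem F72352 : act 8 n15846 = n12337 := d40_2 (iv F56932) D15846 (iv D12337)
def n15847 : Q := act 5 n12324
theorem D15847 : act 5 n12324 = n15847 := rfl
theorem F72353 : act 1 n15847 = n13108 := d12_1 D15847 (iv D13108) (iv F56933)
theorem F72354 : act 3 n15847 = n12325 := d25_1 D15847 (iv D12325) (iv F56934)
theorem F72355 : act 6 n15847 = n15847 := d35_2 D12324 D15847 (iv D15847) (iv D12324) F45139
def n15848 : Q := act 7 n12324
theorem D15848 : act 7 n12324 = n15848 := rfl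
theorem F72356 : act 1 n15848 = n13109 := d14_1 D15848 (iv D13109) (iv F56933)
theorem F72357 : act 3 n15848 = n12326 := d27_1 D15848 (iv D12326) (iv F56934)
theorem F72358 : act 6 n15848 = n12334 := d39_1 D15848 (iv D12334) (iv D9634) (iv F45140) D12324
theorem F72359 : act 8 n15848 = n12339 := d42_2 (iv F56935) D15848 (iv D12339)
def n15849 : Q := act 7 n12325
theorem D15849 : act 7 n12325 = n15849 := rfl
theorem F72360 : act 1 n15849 = n13110 := d14_1 D15849 (iv D13110) (iv F56936)
theorem F72361 : act 5 n15849 = n12326 := d36_1 D15849 (iv D12326) D12325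
def n15850 : Q := act 8 n12325
theorem D15850 : act 8 n12325 = n15850 := rfl
theorem F72362 : act 1 n15850 = n13111 := d15_1 D15850 (iv D13111) (iv F56936)
theorem F72363 : act 5 n15850 = n12341 := d37_1 D15850 (iv D12341) (iv D9639) (iv F45144) D12325
theorem F72364 : act 6 n15850 = n15850 := d40_1 D15850 (iv D15850) F56937
def n15851 : Q := act 1 n12327
theorem D15851 : act 1 n12327 = n15851 := rfl
theorem F72365 : act 2 n15851 = n13112 := d9_2 D12327 D15851 (iv D13112) (iv D10208) (iv F45148)
theorem F72366 : act 5 n15851 = n15851 := d12_2 F56942 D15851 (iv D15851)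
theorem F72367 : act 8 n15851 = n15851 := d15_2 F56943 D15851 (iv D15851)
theorem F72368 : act 9 n15851 = n12331 := d16_2 (iv F56944) D15851 (iv D12331)
def n15852 : Q := act 6 n12327
theorem D15852 : act 6 n12327 = n15852 := rfl
theorem F72369 : act 2 n15852 = n12328 := d20_1 D15852 (iv D12328) D12327
theorem F72370 : act 8 n15852 = n15852 := d40_2 F56943 D15852 (iv D15852)
theorem F72371 : act 9 n15852 = n12332 := d41_2 (iv F56944) D15852 (iv D12332)
def n15853 : Q := act 5 n12328
theorem D15853 : act 5 n12328 = n15853 := rfl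
theorem F72372 : act 1 n15853 = n13114 := d12_1 D15853 (iv D13114) (iv F56945)
theorem F72373 : act 3 n15853 = n12329 := d25_1 D15853 (iv D12329) (iv F56946)
theorem F72374 : act 6 n15853 = n15853 := d35_2 D12328 D15853 (iv D15853) (iv D12328) F45149
theorem F72375 : act 9 n15853 = n12333 := d38_2 (iv F56948) D15853 (iv D12333)
def n15854 : Q := act 7 n12328
theorem D15854 : act 7 n12328 = n15854 := rfl
theorem F72376 : act 1 n15854 = n13115 := d14_1 D15854 (iv D13115) (iv F56945)
theorem F72377 : act 3 n15854 = n12330 := d27_1 D15854 (iv D12330) (iv F56946)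
theorem F72378 : act 8 n15854 = n15854 := d42_2 F56947 D15854 (iv D15854)
theorem F72379 : act 9 n15854 = n12334 := d43_2 (iv F56948) D15854 (iv D12334)
def n15855 : Q := act 7 n12329
theorem D15855 : act 7 n12329 = n15855 := rfl
theorem F72380 : act 1 n15855 = n13116 := d14_1 D15855 (iv D13116) (iv F56949)
theorem F72381 : act 4 n15855 = n12482 := d32_1 D15855 (iv D12482) (iv F56950)
theorem F72382 : act 5 n15855 = n12330 := d36_1 D15855 (iv D12330) D12329
theorem F72383 : act 9 n15855 = n12335 := d43_2 (iv F56952) D15855 (iv D12335)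
def n15856 : Q := act 8 n12329
theorem D15856 : act 8 n12329 = n15856 := rfl
theorem F72384 : act 1 n15856 = n13117 := d15_1 D15856 (iv D13117) (iv F56949)
theorem F72385 : act 4 n15856 = n12483 := d33_1 D15856 (iv D12483) (iv F56950)
theorem F72386 : act 5 n15856 = n15856 := d37_1 D15856 (iv D15856) (iv D12329) F45154 D12329
theorem F72387 : act 6 n15856 = n15856 := d40_1 D15856 (iv D15856) F56951
theorem F72388 : act 9 n15856 = n15856 := d44_2 (iv F56952) D15856 (iv D15856) F56952 F45168
def n15857 : Q := act 0 n12331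
theorem D15857 : act 0 n12331 = n15857 := rfl
theorem F72389 : act 2 n15857 = n13118 := d1_2 (iv F56957) D15857 (iv D13118)
theorem F72390 : act 5 n15857 = n15857 := d4_2 F56958 D15857 (iv D15857)
theorem F72391 : act 8 n15857 = n12342 := d7_2 (iv F56959) D15857 (iv D12342)
def n15858 : Q := act 6 n12331
theorem D15858 : act 6 n12331 = n15858 := rfl
theorem F72392 : act 1 n15858 = n12332 := d13_1 D15858 (iv D12332) D12331
theorem F72393 : act 2 n15858 = n13119 := d20_1 D15858 (iv D13119) (iv F56957)
theorem F72394 : act 8 n15858 = n12343 := d40_2 (iv F56959) D15858 (iv D12343)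
def n15859 : Q := act 5 n12332
theorem D15859 : act 5 n12332 = n15859 := rfl
theorem F72395 : act 2 n15859 = n12333 := d19_1 D15859 (iv D12333) (iv F56960)
theorem F72396 : act 6 n15859 = n15859 := d35_2 D12332 D15859 (iv D15859) (iv D12332) F45160
theorem F72397 : act 8 n15859 = n15859 := d37_2 (iv F56961) D15859 (iv D15859) F56961 F45190
def n15860 : Q := act 7 n12332
theorem D15860 : act 7 n12332 = n15860 := rfl
theorem F72398 : act 2 n15860 = n12334 := d21_1 D15860 (iv D12334) (iv F56960)
theorem F72399 : act 8 n15860 = n12344 := d42_2 (iv F56961) D15860 (iv D12344)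
def n15861 : Q := act 4 n12333
theorem D15861 : act 4 n12333 = n15861 := rfl
theorem F72400 : act 1 n15861 = n13122 := d11_1 D15861 (iv D13122) (iv F56962)
theorem F72401 : act 3 n15861 = n12488 := d24_1 D15861 (iv D12488) F45535 (iv F45166) (iv F56963)
theorem F72402 : act 6 n15861 = n15861 := d31_2 F56964 D15861 (iv D15861)
theorem F72403 : act 8 n15861 = n15861 := d33_2 F56965 D15861 (iv D15861)
def n15862 : Q := act 7 n12333
theorem D15862 : act 7 n12333 = n15862 := rfl
theorem F72404 : act 1 n15862 = n13123 := d14_1 D15862 (iv D13123) (iv F56962)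
theorem F72405 : act 3 n15862 = n12335 := d27_1 D15862 (iv D12335) (iv F56963)
theorem F72406 : act 5 n15862 = n12334 := d36_1 D15862 (iv D12334) D12333
theorem F72407 : act 8 n15862 = n15862 := d42_2 F56965 D15862 (iv D15862)
def n15863 : Q := act 6 n12335
theorem D15863 : act 6 n12335 = n15863 := rfl
theorem F72408 : act 1 n15863 = n13124 := d13_1 D15863 (iv D13124) (iv F56969)
theorem F72409 : act 4 n15863 = n12490 := d31_1 D15863 (iv D12490) (iv F56970)
theorem F72410 : act 7 n15863 = n15863 := d39_2 D12335 D15863 (iv D15863) (iv D12335) F45167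
theorem F72411 : act 8 n15863 = n15863 := d40_2 F56972 D15863 (iv D15863)
def n15864 : Q := act 0 n12336
theorem D15864 : act 0 n12336 = n15864 := rfl
theorem F72412 : act 2 n15864 = n13125 := d1_2 (iv F56973) D15864 (iv D13125)
theorem F72413 : act 5 n15864 = n12345 := d4_2 (iv F56974) D15864 (iv D12345)
theorem F72414 : act 7 n15864 = n12342 := d6_2 (iv F56975) D15864 (iv D12342)
theorem F72415 : act 9 n15864 = n15864 := d8_2 F56976 D15864 (iv D15864)
def n15865 : Q := act 6 n12336
theorem D15865 : act 6 n12336 = n15865 := rfl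
theorem F72416 : act 1 n15865 = n12337 := d13_1 D15865 (iv D12337) D12336
theorem F72417 : act 2 n15865 = n13126 := d20_1 D15865 (iv D13126) (iv F56973)
theorem F72418 : act 9 n15865 = n15865 := d41_2 F56976 D15865 (iv D15865)
def n15866 : Q := act 5 n12337
theorem D15866 : act 5 n12337 = n15866 := rfl
theorem F72419 : act 2 n15866 = n12338 := d19_1 D15866 (iv D12338) (iv F56977)
theorem F72420 : act 6 n15866 = n12347 := d35_2 D12337 D15866 (iv D12347) (iv D9645) (iv F45172)
theorem F72421 : act 9 n15866 = n15866 := d38_2 F56978 D15866 (iv D15866)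
def n15867 : Q := act 7 n12337
theorem D15867 : act 7 n12337 = n15867 := rfl
theorem F72422 : act 2 n15867 = n12339 := d21_1 D15867 (iv D12339) (iv F56977)
theorem F72423 : act 6 n15867 = n12344 := d39_1 D15867 (iv D12344) (iv D9642) (iv F45173) D12337
theorem F72424 : act 9 n15867 = n15867 := d43_2 F56978 D15867 (iv D15867)
def n15868 : Q := act 4 n12338
theorem D15868 : act 4 n12338 = n15868 := rfl
theorem F72425 : act 1 n15868 = n13129 := d11_1 D15868 (iv D13129) (iv F56979)
theorem F72426 : act 3 n15868 = n15868 := d24_1 D15868 (iv D15868) F56980 F45179 (iv F56980)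
theorem F72427 : act 6 n15868 = n12348 := d31_2 (iv F56981) D15868 (iv D12348)
theorem F72428 : act 9 n15868 = n15868 := d34_2 F56982 D15868 (iv D15868)
theorem F72429 : act 8 n13559 = n15868 := d40_0 F72427 (iv F59990) (iv F61724)
def n15869 : Q := act 7 n12338
theorem D15869 : act 7 n12338 = n15869 := rfl
theorem F72430 : act 1 n15869 = n13130 := d14_1 D15869 (iv D13130) (iv F56979)
theorem F72431 : act 3 n15869 = n12340 := d27_1 D15869 (iv D12340) (iv F56980)
theorem F72432 : act 5 n15869 = n12339 := d36_1 D15869 (iv D12339) D12338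
theorem F72433 : act 6 n15869 = n15869 := d39_1 D15869 (iv D15869) F56981 F45208 (iv F56981)
theorem F72434 : act 9 n15869 = n15869 := d43_2 F56982 D15869 (iv D15869)
def n15870 : Q := act 8 n12338
theorem D15870 : act 8 n12338 = n15870 := rfl
theorem F72435 : act 1 n15870 = n13131 := d15_1 D15870 (iv D13131) (iv F56979)
theorem F72436 : act 3 n15870 = n12341 := d28_1 D15870 (iv D12341) (iv F56980)
theorem F72437 : act 4 n15870 = n13559 := d33_1 D15870 F72429 (iv D15868)
theorem F72438 : act 6 n15870 = n12349 := d40_1 D15870 (iv D12349) (iv F56981)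
theorem F72439 : act 9 n13566 = n15870 := d41_0 F72438 (iv F59986) (iv F61755)
def n15871 : Q := act 8 n12340
theorem D15871 : act 8 n12340 = n15871 := rfl
theorem F72440 : act 1 n15871 = n13132 := d15_1 D15871 (iv D13132) (iv F56987)
theorem F72441 : act 4 n15871 = n15871 := d33_1 D15871 (iv D15871) F56988
theorem F72442 : act 6 n15871 = n15871 := d40_1 D15871 (iv D15871) F56990
theorem F72443 : act 7 n15871 = n12341 := d42_1 D15871 (iv D12341) D12340
def n15872 : Q := act 9 n12341
theorem D15872 : act 9 n12341 = n15872 := rfl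
theorem F72444 : act 1 n15872 = n13133 := d16_1 D15872 (iv D13133) (iv F56992)
theorem F72446 : act 4 n15872 = n15872 := d34_1 D15872 (iv D15872) F56993
theorem F72447 : act 6 n15872 = n12350 := d41_1 D15872 (iv D12350) (iv F56994)
theorem F72448 : act 8 n15872 = n15872 := d44_1 D15872 (iv D15872) (iv D12341) F45181 D12341
def n15873 : Q := act 6 n12342
theorem D15873 : act 6 n12342 = n15873 := rfl
theorem F72449 : act 0 n15873 = n12343 := d5_1 D15873 (iv D12343) D12342
theorem F72450 : act 2 n15873 = n13134 := d20_1 D15873 (iv D13134) (iv F56995)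
theorem F72451 : act 5 n15873 = n15873 := d35_1 D15873 (iv D15873) F56996 F45216 (iv F56996)
theorem F72452 : act 9 n15873 = n15873 := d41_2 F56997 D15873 (iv D15873)
def n15874 : Q := act 7 n12343
theorem D15874 : act 7 n12343 = n15874 := rfl
theorem F72453 : act 1 n15874 = n12344 := d14_1 D15874 (iv D12344) (iv F56998)
theorem F72454 : act 2 n15874 = n13135 := d21_1 D15874 (iv D13135) (iv F56999)
theorem F72455 : act 5 n15874 = n15874 := d36_1 D15874 (iv D15874) F57000
theorem F72456 : act 9 n15874 = n15874 := d43_2 F57001 D15874 (iv D15874)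
def n15875 : Q := act 6 n12345
theorem D15875 : act 6 n12345 = n15875 := rfl
theorem F72458 : act 2 n15875 = n13136 := d20_1 D15875 (iv D13136) (iv F57005)
def n15876 : Q := act 5 n12346
theorem D15876 : act 5 n12346 = n15876 := rfl
theorem F72463 : act 1 n15876 = n12347 := d12_1 D15876 (iv D12347) (iv F57010)
theorem F72464 : act 2 n15876 = n12648 := d19_1 D15876 F59993 (iv F57011)
theorem F72467 : act 4 n12647 = n15876 := d18_0 F72464 F58051 (iv F58045)
theorem F72468 : act 8 n12646 = n15876 := d22_0 F72464 (iv D12648) (iv F58041)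
def n15877 : Q := act 4 n12347
theorem D15877 : act 4 n12347 = n15877 := rfl
theorem F72470 : act 2 n15877 = n12348 := d18_1 D15877 (iv D12348) (iv F57016)
theorem F72474 : act 8 n12645 = n15877 := d22_0 F72470 (iv F59990) (iv F58038)
def n15878 : Q := act 8 n12347
theorem D15878 : act 8 n12347 = n15878 := rfl
theorem F72475 : act 1 n15878 = n12646 := d15_1 D15878 F72468 F72463
theorem F72476 : act 2 n15878 = n12349 := d22_1 D15878 (iv D12349) (iv F57016)
theorem F72477 : act 4 n15878 = n12645 := d33_1 D15878 F72474 (iv D15877)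
theorem F72480 : act 9 n12650 = n15878 := d34_0 F72477 F58040 D12650
def n15879 : Q := act 4 n12351
theorem D15879 : act 4 n12351 = n15879 := rfl
theorem F72481 : act 0 n15879 = n12367 := d3_1 D15879 (iv D12367) (iv F57033)
theorem F72482 : act 2 n15879 = n13137 := d18_1 D15879 (iv D13137) (iv F57034)
theorem F72483 : act 8 n15879 = n12506 := d33_2 (iv F57035) D15879 (iv D12506)
theorem F72484 : act 9 n15879 = n12352 := d34_2 (iv F57036) D15879 (iv D12352)
def n15880 : Q := act 6 n12351
theorem D15880 : act 6 n12351 = n15880 := rfl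
theorem F72485 : act 0 n15880 = n12368 := d5_1 D15880 (iv D12368) (iv F57033)
theorem F72486 : act 2 n15880 = n13138 := d20_1 D15880 (iv D13138) (iv F57034)
theorem F72487 : act 8 n15880 = n12507 := d40_2 (iv F57035) D15880 (iv D12507)
theorem F72488 : act 9 n15880 = n12353 := d41_2 (iv F57036) D15880 (iv D12353)
def n15881 : Q := act 3 n12352
theorem D15881 : act 3 n12352 = n15881 := rfl
theorem F72489 : act 0 n15881 = n12369 := d2_1 D15881 (iv D12369) (iv F57037)
theorem F72490 : act 8 n15881 = n12356 := d28_2 (iv F57039) D15881 (iv D12356)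
def n15882 : Q := act 6 n12352
theorem D15882 : act 6 n12352 = n15882 := rfl
theorem F72491 : act 0 n15882 = n12370 := d5_1 D15882 (iv D12370) (iv F57037)
theorem F72492 : act 2 n15882 = n13140 := d20_1 D15882 (iv D13140) (iv F57038)
theorem F72493 : act 4 n15882 = n12353 := d31_1 D15882 (iv D12353) D12352
theorem F72494 : act 8 n15882 = n12357 := d40_2 (iv F57039) D15882 (iv D12357)
def n15883 : Q := act 7 n12353
theorem D15883 : act 7 n12353 = n15883 := rfl
theorem F72495 : act 0 n15883 = n12371 := d6_1 D15883 (iv D12371) (iv F57040)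
theorem F72496 : act 2 n15883 = n13141 := d21_1 D15883 (iv D13141) (iv F57041)
theorem F72497 : act 8 n15883 = n12358 := d42_2 (iv F57042) D15883 (iv D12358)
def n15884 : Q := act 3 n12354
theorem D15884 : act 3 n12354 = n15884 := rfl
theorem F72498 : act 0 n15884 = n12372 := d2_1 D15884 (iv D12372) (iv F57043)
theorem F72499 : act 5 n15884 = n12655 := d25_2 (iv F57045) D15884 (iv D12655)
theorem F72500 : act 7 n15884 = n12356 := d27_2 (iv F57046) D15884 (iv D12356)
theorem F72501 : act 9 n15884 = n12511 := d29_2 (iv F57047) D15884 (iv D12511)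
def n15885 : Q := act 6 n12354
theorem D15885 : act 6 n12354 = n15885 := rfl
theorem F72502 : act 0 n15885 = n12373 := d5_1 D15885 (iv D12373) (iv F57043)
theorem F72503 : act 2 n15885 = n13143 := d20_1 D15885 (iv D13143) (iv F57044)
theorem F72504 : act 4 n15885 = n12355 := d31_1 D15885 (iv D12355) D12354
theorem F72505 : act 9 n15885 = n12512 := d41_2 (iv F57047) D15885 (iv D12512)
def n15886 : Q := act 7 n12355
theorem D15886 : act 7 n12355 = n15886 := rfl
theorem F72506 : act 0 n15886 = n12374 := d6_1 D15886 (iv D12374) (iv F57048)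
theorem F72507 : act 2 n15886 = n13144 := d21_1 D15886 (iv D13144) (iv F57049)
theorem F72508 : act 5 n15886 = n15886 := d36_1 D15886 (iv D15886) F57050
theorem F72509 : act 6 n15886 = n12358 := d39_1 D15886 (iv D12358) (iv D9653) (iv F45227) D12355
theorem F72510 : act 9 n15886 = n12513 := d43_2 (iv F57051) D15886 (iv D12513)
def n15887 : Q := act 2 n12356
theorem D15887 : act 2 n12356 = n15887 := rfl
theorem F72511 : act 0 n15887 = n12375 := d1_1 D15887 (iv D12375) (iv F57052)
theorem F72513 : act 5 n15887 = n12658 := d19_2 (iv F57053) D15887 (iv D12658)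
def n15888 : Q := act 6 n12356
theorem D15888 : act 6 n12356 = n15888 := rfl
theorem F72515 : act 0 n15888 = n12376 := d5_1 D15888 (iv D12376) (iv F57052)
theorem F72516 : act 3 n15888 = n12357 := d26_1 D15888 (iv D12357) D12356
theorem F72517 : act 9 n15888 = n12515 := d41_2 (iv F57054) D15888 (iv D12515)
def n15889 : Q := act 5 n12357
theorem D15889 : act 5 n12357 = n15889 := rfl
theorem F72518 : act 0 n15889 = n12377 := d4_1 D15889 (iv D12377) (iv F57055)
theorem F72521 : act 6 n15889 = n12660 := d35_2 D12357 D15889 (iv D12660) (iv D9874) (iv F45231)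
def n15890 : Q := act 7 n12357
theorem D15890 : act 7 n12357 = n15890 := rfl
theorem F72523 : act 0 n15890 = n12378 := d6_1 D15890 (iv D12378) (iv F57055)
theorem F72524 : act 2 n15890 = n13148 := d21_1 D15890 (iv D13148) (iv F57056)
theorem F72525 : act 4 n15890 = n12358 := d32_1 D15890 (iv D12358) (iv F57057)
theorem F72526 : act 9 n15890 = n12517 := d43_2 (iv F57058) D15890 (iv D12517)
def n15891 : Q := act 1 n12359
theorem D15891 : act 1 n12359 = n15891 := rfl
theorem F72529 : act 5 n15891 = n12662 := d12_2 (iv F57065) D15891 (iv D12662)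
def n15892 : Q := act 6 n12359
theorem D15892 : act 6 n12359 = n15892 := rfl
theorem F72533 : act 2 n15892 = n12360 := d20_1 D15892 (iv D12360) D12359
theorem F72535 : act 9 n15892 = n12519 := d41_2 (iv F57067) D15892 (iv D12519)
def n15893 : Q := act 5 n12360
theorem D15893 : act 5 n12360 = n15893 := rfl
theorem F72538 : act 6 n15893 = n12664 := d35_2 D12360 D15893 (iv D12664) (iv D9877) (iv F45238)
theorem F72539 : act 9 n15893 = n12520 := d38_2 (iv F57070) D15893 (iv D12520)
def n15894 : Q := act 7 n12360
theorem D15894 : act 7 n12360 = n15894 := rfl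
theorem F72540 : act 0 n15894 = n12381 := d6_1 D15894 (iv D12381) (iv F57068)
theorem F72541 : act 3 n15894 = n12362 := d27_1 D15894 (iv D12362) (iv F57069)
theorem F72542 : act 6 n15894 = n15894 := d39_1 D15894 (iv D15894) (iv D12360) F45239 D12360
theorem F72543 : act 9 n15894 = n12521 := d43_2 (iv F57070) D15894 (iv D12521)
def n15895 : Q := act 7 n12361
theorem D15895 : act 7 n12361 = n15895 := rfl
theorem F72544 : act 0 n15895 = n12382 := d6_1 D15895 (iv D12382) (iv F57071)
theorem F72546 : act 5 n15895 = n12362 := d36_1 D15895 (iv D12362) D12361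
theorem F72547 : act 9 n15895 = n12522 := d43_2 (iv F57074) D15895 (iv D12522)
def n15896 : Q := act 8 n12361
theorem D15896 : act 8 n12361 = n15896 := rfl
theorem F72548 : act 0 n15896 = n12383 := d7_1 D15896 (iv D12383) (iv F57071)
theorem F72550 : act 6 n15896 = n12667 := d40_1 D15896 (iv D12667) (iv F57073)
def n15897 : Q := act 3 n12363
theorem D15897 : act 3 n12363 = n15897 := rfl
theorem F72551 : act 1 n15897 = n12391 := d10_1 D15897 (iv D12391) (iv F57080)
theorem F72552 : act 5 n15897 = n12369 := d25_2 (iv F57082) D15897 (iv D12369)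
theorem F72553 : act 8 n15897 = n12668 := d28_2 (iv F57083) D15897 (iv D12668)
def n15898 : Q := act 6 n12363
theorem D15898 : act 6 n12363 = n15898 := rfl
theorem F72554 : act 1 n15898 = n12392 := d13_1 D15898 (iv D12392) (iv F57080)
theorem F72555 : act 2 n15898 = n13156 := d20_1 D15898 (iv D13156) (iv F57081)
theorem F72556 : act 4 n15898 = n12364 := d31_1 D15898 (iv D12364) D12363
theorem F72557 : act 8 n15898 = n12669 := d40_2 (iv F57083) D15898 (iv D12669)
def n15899 : Q := act 7 n12364
theorem D15899 : act 7 n12364 = n15899 := rfl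
theorem F72558 : act 1 n15899 = n12393 := d14_1 D15899 (iv D12393) (iv F57084)
theorem F72559 : act 2 n15899 = n13157 := d21_1 D15899 (iv D13157) (iv F57085)
theorem F72560 : act 8 n15899 = n12670 := d42_2 (iv F57086) D15899 (iv D12670)
def n15900 : Q := act 3 n12365
theorem D15900 : act 3 n12365 = n15900 := rfl
theorem F72561 : act 1 n15900 = n12396 := d10_1 D15900 (iv D12396) (iv F57087)
theorem F72562 : act 7 n15900 = n12369 := d27_2 (iv F57089) D15900 (iv D12369)
theorem F72563 : act 8 n15900 = n12372 := d28_2 (iv F57090) D15900 (iv D12372)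
def n15901 : Q := act 6 n12365
theorem D15901 : act 6 n12365 = n15901 := rfl
theorem F72564 : act 1 n15901 = n12397 := d13_1 D15901 (iv D12397) (iv F57087)
theorem F72565 : act 2 n15901 = n13159 := d20_1 D15901 (iv D13159) (iv F57088)
theorem F72566 : act 4 n15901 = n12366 := d31_1 D15901 (iv D12366) D12365
theorem F72567 : act 8 n15901 = n12373 := d40_2 (iv F57090) D15901 (iv D12373)
def n15902 : Q := act 7 n12366
theorem D15902 : act 7 n12366 = n15902 := rfl
theorem F72568 : act 1 n15902 = n12398 := d14_1 D15902 (iv D12398) (iv F57091)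
theorem F72569 : act 2 n15902 = n13160 := d21_1 D15902 (iv D13160) (iv F57092)
theorem F72570 : act 6 n15902 = n12371 := d39_1 D15902 (iv D12371) (iv D9661) (iv F45254) D12366
theorem F72571 : act 8 n15902 = n12374 := d42_2 (iv F57093) D15902 (iv D12374)
def n15903 : Q := act 3 n12367
theorem D15903 : act 3 n12367 = n15903 := rfl
theorem F72572 : act 1 n15903 = n12399 := d10_1 D15903 (iv D12399) (iv F57094)
theorem F72573 : act 8 n15903 = n12524 := d28_2 (iv F57096) D15903 (iv D12524)
theorem F72574 : act 9 n15903 = n12369 := d29_2 (iv F57097) D15903 (iv D12369)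
def n15904 : Q := act 6 n12367
theorem D15904 : act 6 n12367 = n15904 := rfl
theorem F72575 : act 1 n15904 = n12400 := d13_1 D15904 (iv D12400) (iv F57094)
theorem F72576 : act 2 n15904 = n13162 := d20_1 D15904 (iv D13162) (iv F57095)
theorem F72577 : act 4 n15904 = n12368 := d31_1 D15904 (iv D12368) D12367
theorem F72578 : act 8 n15904 = n12525 := d40_2 (iv F57096) D15904 (iv D12525)
theorem F72579 : act 9 n15904 = n12370 := d41_2 (iv F57097) D15904 (iv D12370)
def n15905 : Q := act 7 n12368
theorem D15905 : act 7 n12368 = n15905 := rfl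
theorem F72580 : act 1 n15905 = n12401 := d14_1 D15905 (iv D12401) (iv F57098)
theorem F72581 : act 2 n15905 = n13163 := d21_1 D15905 (iv D13163) (iv F57099)
theorem F72582 : act 8 n15905 = n12526 := d42_2 (iv F57100) D15905 (iv D12526)
theorem F72583 : act 9 n15905 = n12371 := d43_2 (iv F57101) D15905 (iv D12371)
def n15906 : Q := act 2 n12369
theorem D15906 : act 2 n12369 = n15906 := rfl
theorem F72584 : act 3 n15906 = n13164 := d17_2 D12369 D15906 (iv D13164) (iv D10250) (iv F45261)
theorem F72585 : act 8 n15906 = n12375 := d22_2 (iv F57103) D15906 (iv D12375)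
def n15907 : Q := act 6 n12369
theorem D15907 : act 6 n12369 = n15907 := rfl
theorem F72586 : act 1 n15907 = n12403 := d13_1 D15907 (iv D12403) (iv F57102)
theorem F72587 : act 3 n15907 = n12370 := d26_1 D15907 (iv D12370) D12369
theorem F72588 : act 8 n15907 = n12376 := d40_2 (iv F57103) D15907 (iv D12376)
def n15908 : Q := act 5 n12370
theorem D15908 : act 5 n12370 = n15908 := rfl
theorem F72589 : act 1 n15908 = n12404 := d12_1 D15908 (iv D12404) (iv F57104)
theorem F72590 : act 2 n15908 = n13166 := d19_1 D15908 (iv D13166) (iv F57105)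
def n15909 : Q := act 7 n12370
theorem D15909 : act 7 n12370 = n15909 := rfl
theorem F72591 : act 1 n15909 = n12405 := d14_1 D15909 (iv D12405) (iv F57104)
theorem F72592 : act 2 n15909 = n13167 := d21_1 D15909 (iv D13167) (iv F57105)
theorem F72593 : act 4 n15909 = n12371 := d32_1 D15909 (iv D12371) (iv F57106)
theorem F72594 : act 8 n15909 = n12378 := d42_2 (iv F57107) D15909 (iv D12378)
def n15910 : Q := act 2 n12372
theorem D15910 : act 2 n12372 = n15910 := rfl
theorem F72596 : act 5 n15910 = n12678 := d19_2 (iv F57112) D15910 (iv D12678)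
theorem F72597 : act 7 n15910 = n12375 := d21_2 (iv F57113) D15910 (iv D12375)
theorem F72598 : act 9 n15910 = n12531 := d23_2 (iv F57114) D15910 (iv D12531)
def n15911 : Q := act 6 n12372
theorem D15911 : act 6 n12372 = n15911 := rfl
theorem F72599 : act 1 n15911 = n12407 := d13_1 D15911 (iv D12407) (iv F57111)
theorem F72600 : act 3 n15911 = n12373 := d26_1 D15911 (iv D12373) D12372
theorem F72601 : act 9 n15911 = n12532 := d41_2 (iv F57114) D15911 (iv D12532)
def n15912 : Q := act 5 n12373
theorem D15912 : act 5 n12373 = n15912 := rfl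
theorem F72602 : act 1 n15912 = n12408 := d12_1 D15912 (iv D12408) (iv F57115)
theorem F72604 : act 4 n15912 = n15912 := d30_1 D15912 (iv D15912) F57117 F45273 (iv F57117)
theorem F72605 : act 6 n15912 = n12680 := d35_2 D12373 D15912 (iv D12680) (iv D9888) (iv F45268)
theorem F72606 : act 9 n15912 = n12533 := d38_2 (iv F57118) D15912 (iv D12533)
def n15913 : Q := act 7 n12373
theorem D15913 : act 7 n12373 = n15913 := rfl
theorem F72607 : act 1 n15913 = n12409 := d14_1 D15913 (iv D12409) (iv F57115)
theorem F72608 : act 2 n15913 = n13171 := d21_1 D15913 (iv D13171) (iv F57116)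
theorem F72609 : act 4 n15913 = n12374 := d32_1 D15913 (iv D12374) (iv F57117)
theorem F72610 : act 6 n15913 = n12378 := d39_1 D15913 (iv D12378) (iv D9665) (iv F45269) D12373
theorem F72611 : act 9 n15913 = n12534 := d43_2 (iv F57118) D15913 (iv D12534)
def n15914 : Q := act 1 n12375
theorem D15914 : act 1 n12375 = n15914 := rfl
theorem F72612 : act 2 n15914 = n12410 := d9_2 D12375 D15914 (iv D12410) (iv D9688) (iv F45275)
theorem F72613 : act 3 n15914 = n13172 := d10_2 (iv F57124) D15914 (iv D13172)
theorem F72615 : act 9 n15914 = n12535 := d16_2 (iv F57126) D15914 (iv D12535)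
def n15915 : Q := act 6 n12375
theorem D15915 : act 6 n12375 = n15915 := rfl
theorem F72616 : act 2 n15915 = n12376 := d20_1 D15915 (iv D12376) D12375
theorem F72617 : act 3 n15915 = n13173 := d26_1 D15915 (iv D13173) (iv F57124)
theorem F72618 : act 9 n15915 = n12536 := d41_2 (iv F57126) D15915 (iv D12536)
def n15916 : Q := act 5 n12376
theorem D15916 : act 5 n12376 = n15916 := rfl
theorem F72619 : act 1 n15916 = n12412 := d12_1 D15916 (iv D12412) (iv F57127)
theorem F72620 : act 3 n15916 = n12377 := d25_1 D15916 (iv D12377) (iv F57128)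
theorem F72621 : act 6 n15916 = n12684 := d35_2 D12376 D15916 (iv D12684) (iv D9891) (iv F45276)
theorem F72622 : act 9 n15916 = n12537 := d38_2 (iv F57129) D15916 (iv D12537)
def n15917 : Q := act 7 n12376
theorem D15917 : act 7 n12376 = n15917 := rfl
theorem F72623 : act 1 n15917 = n12413 := d14_1 D15917 (iv D12413) (iv F57127)
theorem F72624 : act 3 n15917 = n12378 := d27_1 D15917 (iv D12378) (iv F57128)
theorem F72625 : act 9 n15917 = n12538 := d43_2 (iv F57129) D15917 (iv D12538)
def n15918 : Q := act 7 n12377
theorem D15918 : act 7 n12377 = n15918 := rfl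
theorem F72626 : act 1 n15918 = n12414 := d14_1 D15918 (iv D12414) (iv F57130)
theorem F72627 : act 2 n15918 = n13176 := d21_1 D15918 (iv D13176) (iv F57131)
theorem F72628 : act 4 n15918 = n12382 := d32_1 D15918 (iv D12382) (iv F57132)
theorem F72629 : act 5 n15918 = n12378 := d36_1 D15918 (iv D12378) D12377
theorem F72630 : act 9 n15918 = n12539 := d43_2 (iv F57134) D15918 (iv D12539)
def n15919 : Q := act 8 n12377
theorem D15919 : act 8 n12377 = n15919 := rfl
theorem F72631 : act 1 n15919 = n12415 := d15_1 D15919 (iv D12415) (iv F57130)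
theorem F72632 : act 2 n15919 = n13177 := d22_1 D15919 (iv D13177) (iv F57131)
theorem F72633 : act 4 n15919 = n12383 := d33_1 D15919 (iv D12383) (iv F57132)
def n15921 : Q := act 7 n12379
theorem D15921 : act 7 n12379 = n15921 := rfl
theorem F72641 : act 2 n15921 = n12381 := d21_1 D15921 (iv D12381) (iv F57140)
theorem F72644 : act 9 n15921 = n12542 := d43_2 (iv F57142) D15921 (iv D12542)
def n15922 : Q := act 4 n12380
theorem D15922 : act 4 n12380 = n15922 := rfl
theorem F72645 : act 1 n15922 = n12416 := d11_1 D15922 (iv D12416) (iv F57143)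
theorem F72646 : act 6 n15922 = n12690 := d31_2 (iv F57145) D15922 (iv D12690)
theorem F72647 : act 9 n15922 = n12543 := d34_2 (iv F57146) D15922 (iv D12543)
def n15923 : Q := act 7 n12380
theorem D15923 : act 7 n12380 = n15923 := rfl
theorem F72648 : act 1 n15923 = n12417 := d14_1 D15923 (iv D12417) (iv F57143)
theorem F72649 : act 3 n15923 = n12382 := d27_1 D15923 (iv D12382) (iv F57144)
theorem F72650 : act 5 n15923 = n12381 := d36_1 D15923 (iv D12381) D12380
def n15924 : Q := act 8 n12380
theorem D15924 : act 8 n12380 = n15924 := rfl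
theorem F72652 : act 1 n15924 = n12418 := d15_1 D15924 (iv D12418) (iv F57143)
theorem F72653 : act 3 n15924 = n12383 := d28_1 D15924 (iv D12383) (iv F57144)
theorem F72654 : act 6 n15924 = n12692 := d40_1 D15924 (iv D12692) (iv F57145)
def n15925 : Q := act 6 n12382
theorem D15925 : act 6 n12382 = n15925 := rfl
theorem F72655 : act 1 n15925 = n12419 := d13_1 D15925 (iv D12419) (iv F57151)
theorem F72658 : act 7 n15925 = n12693 := d39_2 D12382 D15925 (iv D12693) (iv D9897) (iv F45296)
def n15926 : Q := act 8 n12382
theorem D15926 : act 8 n12382 = n15926 := rfl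
theorem F72660 : act 1 n15926 = n12420 := d15_1 D15926 (iv D12420) (iv F57151)
theorem F72661 : act 2 n15926 = n13184 := d22_1 D15926 (iv D13184) (iv F57152)
theorem F72662 : act 7 n15926 = n12383 := d42_1 D15926 (iv D12383) D12382
def n15927 : Q := act 9 n12383
theorem D15927 : act 9 n12383 = n15927 := rfl
theorem F72663 : act 1 n15927 = n12421 := d16_1 D15927 (iv D12421) (iv F57155)
def n15928 : Q := act 4 n12384
theorem D15928 : act 4 n12384 = n15928 := rfl
theorem F72667 : act 2 n15928 = n15928 := d18_1 D15928 (iv D15928) F57158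
theorem F72668 : act 8 n15928 = n15928 := d33_2 F57160 D15928 (iv D15928)
theorem F72669 : act 9 n15928 = n12385 := d34_2 (iv F57161) D15928 (iv D12385)
def n15929 : Q := act 6 n12384
theorem D15929 : act 6 n12384 = n15929 := rfl
theorem F72670 : act 2 n15929 = n15929 := d20_1 D15929 (iv D15929) F57158
theorem F72671 : act 3 n15929 = n12390 := d26_1 D15929 (iv D12390) (iv F57159)
theorem F72672 : act 8 n15929 = n15929 := d40_2 F57160 D15929 (iv D15929)
theorem F72673 : act 9 n15929 = n12386 := d41_2 (iv F57161) D15929 (iv D12386)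
def n15930 : Q := act 3 n12385
theorem D15930 : act 3 n12385 = n15930 := rfl
theorem F72674 : act 4 n15930 = n12391 := d24_2 D12385 D15930 (iv D12391) (iv D9675) (iv F45307)
theorem F72675 : act 8 n15930 = n12696 := d28_2 (iv F57163) D15930 (iv D12696)
def n15931 : Q := act 6 n12385
theorem D15931 : act 6 n12385 = n15931 := rfl
theorem F72676 : act 2 n15931 = n15931 := d20_1 D15931 (iv D15931) F57162
theorem F72677 : act 4 n15931 = n12386 := d31_1 D15931 (iv D12386) D12385
theorem F72678 : act 8 n15931 = n12697 := d40_2 (iv F57163) D15931 (iv D12697)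
def n15932 : Q := act 7 n12386
theorem D15932 : act 7 n12386 = n15932 := rfl
theorem F72679 : act 2 n15932 = n15932 := d21_1 D15932 (iv D15932) F57164
theorem F72680 : act 3 n15932 = n12393 := d27_1 D15932 (iv D12393) (iv F57165)
theorem F72681 : act 8 n15932 = n12698 := d42_2 (iv F57166) D15932 (iv D12698)
def n15933 : Q := act 3 n12387
theorem D15933 : act 3 n12387 = n15933 := rfl
theorem F72682 : act 5 n15933 = n12396 := d25_2 (iv F57168) D15933 (iv D12396)
theorem F72683 : act 7 n15933 = n12391 := d27_2 (iv F57169) D15933 (iv D12391)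
theorem F72684 : act 8 n15933 = n12699 := d28_2 (iv F57170) D15933 (iv D12699)
def n15934 : Q := act 6 n12387
theorem D15934 : act 6 n12387 = n15934 := rfl
theorem F72685 : act 2 n15934 = n12425 := d20_1 D15934 (iv D12425) (iv F57167)
theorem F72686 : act 4 n15934 = n12388 := d31_1 D15934 (iv D12388) D12387
theorem F72687 : act 8 n15934 = n12700 := d40_2 (iv F57170) D15934 (iv D12700)
def n15935 : Q := act 7 n12388
theorem D15935 : act 7 n12388 = n15935 := rfl
theorem F72688 : act 2 n15935 = n12426 := d21_1 D15935 (iv D12426) (iv F57171)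
theorem F72689 : act 6 n15935 = n12393 := d39_1 D15935 (iv D12393) (iv D9676) (iv F45310) D12388
theorem F72690 : act 8 n15935 = n12701 := d42_2 (iv F57172) D15935 (iv D12701)
def n15936 : Q := act 3 n12389
theorem D15936 : act 3 n12389 = n15936 := rfl
theorem F72691 : act 5 n15936 = n12399 := d25_2 (iv F57174) D15936 (iv D12399)
theorem F72692 : act 8 n15936 = n15936 := d28_2 F57175 D15936 (iv D15936)
theorem F72693 : act 9 n15936 = n12391 := d29_2 (iv F57176) D15936 (iv D12391)
def n15937 : Q := act 6 n12389
theorem D15937 : act 6 n12389 = n15937 := rfl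
theorem F72694 : act 2 n15937 = n12428 := d20_1 D15937 (iv D12428) (iv F57173)
theorem F72695 : act 4 n15937 = n12390 := d31_1 D15937 (iv D12390) D12389
theorem F72696 : act 8 n15937 = n15937 := d40_2 F57175 D15937 (iv D15937)
theorem F72697 : act 9 n15937 = n12392 := d41_2 (iv F57176) D15937 (iv D12392)
def n15938 : Q := act 7 n12390
theorem D15938 : act 7 n12390 = n15938 := rfl
theorem F72698 : act 2 n15938 = n12429 := d21_1 D15938 (iv D12429) (iv F57177)
theorem F72699 : act 8 n15938 = n15938 := d42_2 F57178 D15938 (iv D15938)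
theorem F72700 : act 9 n15938 = n12393 := d43_2 (iv F57179) D15938 (iv D12393)
def n15939 : Q := act 2 n12391
theorem D15939 : act 2 n12391 = n15939 := rfl
theorem F72701 : act 3 n15939 = n12430 := d17_2 D12391 D15939 (iv D12430) (iv D9701) (iv F45315)
theorem F72702 : act 5 n15939 = n12402 := d19_2 (iv F57180) D15939 (iv D12402)
theorem F72703 : act 8 n15939 = n12702 := d22_2 (iv F57181) D15939 (iv D12702)
def n15940 : Q := act 6 n12391
theorem D15940 : act 6 n12391 = n15940 := rfl
theorem F72704 : act 3 n15940 = n12392 := d26_1 D15940 (iv D12392) D12391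
theorem F72705 : act 8 n15940 = n12703 := d40_2 (iv F57181) D15940 (iv D12703)
def n15941 : Q := act 5 n12392
theorem D15941 : act 5 n12392 = n15941 := rfl
theorem F72706 : act 2 n15941 = n12432 := d19_1 D15941 (iv D12432) (iv F57182)
theorem F72707 : act 6 n15941 = n12404 := d35_2 D12392 D15941 (iv D12404) (iv D9683) (iv F45316)
def n15942 : Q := act 7 n12392
theorem D15942 : act 7 n12392 = n15942 := rfl
theorem F72708 : act 2 n15942 = n12433 := d21_1 D15942 (iv D12433) (iv F57182)
theorem F72709 : act 4 n15942 = n12393 := d32_1 D15942 (iv D12393) (iv F57183)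
theorem F72710 : act 8 n15942 = n12705 := d42_2 (iv F57184) D15942 (iv D12705)
def n15943 : Q := act 3 n12394
theorem D15943 : act 3 n12394 = n15943 := rfl
theorem F72711 : act 8 n15943 = n15943 := d28_2 F57188 D15943 (iv D15943)
def n15944 : Q := act 6 n12394
theorem D15944 : act 6 n12394 = n15944 := rfl
theorem F72712 : act 2 n15944 = n12435 := d20_1 D15944 (iv D12435) (iv F57187)
theorem F72713 : act 4 n15944 = n12395 := d31_1 D15944 (iv D12395) D12394
theorem F72714 : act 8 n15944 = n15944 := d40_2 F57188 D15944 (iv D15944)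
def n15945 : Q := act 7 n12395
theorem D15945 : act 7 n12395 = n15945 := rfl
theorem F72715 : act 2 n15945 = n12436 := d21_1 D15945 (iv D12436) (iv F57189)
theorem F72716 : act 5 n15945 = n12398 := d36_1 D15945 (iv D12398) (iv F57190)
theorem F72717 : act 8 n15945 = n15945 := d42_2 F57191 D15945 (iv D15945)
def n15946 : Q := act 2 n12396
theorem D15946 : act 2 n12396 = n15946 := rfl
theorem F72718 : act 3 n15946 = n12437 := d17_2 D12396 D15946 (iv D12437) (iv D9706) (iv F45322)
theorem F72719 : act 7 n15946 = n12402 := d21_2 (iv F57192) D15946 (iv D12402)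
theorem F72720 : act 8 n15946 = n12406 := d22_2 (iv F57193) D15946 (iv D12406)
def n15947 : Q := act 6 n12396
theorem D15947 : act 6 n12396 = n15947 := rfl
theorem F72721 : act 3 n15947 = n12397 := d26_1 D15947 (iv D12397) D12396
theorem F72722 : act 8 n15947 = n12407 := d40_2 (iv F57193) D15947 (iv D12407)
def n15948 : Q := act 5 n12397
theorem D15948 : act 5 n12397 = n15948 := rfl
theorem F72723 : act 2 n15948 = n12439 := d19_1 D15948 (iv D12439) (iv F57194)
def n15949 : Q := act 7 n12397
theorem D15949 : act 7 n12397 = n15949 := rfl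
theorem F72724 : act 2 n15949 = n12440 := d21_1 D15949 (iv D12440) (iv F57194)
theorem F72725 : act 4 n15949 = n12398 := d32_1 D15949 (iv D12398) (iv F57195)
theorem F72726 : act 6 n15949 = n12405 := d39_1 D15949 (iv D12405) (iv D9683) (iv F45323) D12397
theorem F72727 : act 8 n15949 = n12409 := d42_2 (iv F57196) D15949 (iv D12409)
def n15950 : Q := act 2 n12399
theorem D15950 : act 2 n12399 = n15950 := rfl
theorem F72728 : act 3 n15950 = n12441 := d17_2 D12399 D15950 (iv D12441) (iv D9709) (iv F45327)
theorem F72729 : act 8 n15950 = n12549 := d22_2 (iv F57200) D15950 (iv D12549)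
theorem F72730 : act 9 n15950 = n12402 := d23_2 (iv F57201) D15950 (iv D12402)
def n15951 : Q := act 6 n12399
theorem D15951 : act 6 n12399 = n15951 := rfl
theorem F72731 : act 3 n15951 = n12400 := d26_1 D15951 (iv D12400) D12399
theorem F72732 : act 8 n15951 = n12550 := d40_2 (iv F57200) D15951 (iv D12550)
theorem F72733 : act 9 n15951 = n12403 := d41_2 (iv F57201) D15951 (iv D12403)
def n15952 : Q := act 5 n12400
theorem D15952 : act 5 n12400 = n15952 := rfl
theorem F72734 : act 2 n15952 = n12443 := d19_1 D15952 (iv D12443) (iv F57202)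
theorem F72735 : act 9 n15952 = n12404 := d38_2 (iv F57205) D15952 (iv D12404)
def n15953 : Q := act 7 n12400
theorem D15953 : act 7 n12400 = n15953 := rfl
theorem F72736 : act 2 n15953 = n12444 := d21_1 D15953 (iv D12444) (iv F57202)
theorem F72737 : act 4 n15953 = n12401 := d32_1 D15953 (iv D12401) (iv F57203)
theorem F72738 : act 8 n15953 = n12552 := d42_2 (iv F57204) D15953 (iv D12552)
theorem F72739 : act 9 n15953 = n12405 := d43_2 (iv F57205) D15953 (iv D12405)
def n15954 : Q := act 1 n12402
theorem D15954 : act 1 n12402 = n15954 := rfl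
theorem F72740 : act 3 n15954 = n12445 := d10_2 (iv F57209) D15954 (iv D12445)
theorem F72741 : act 8 n15954 = n12410 := d15_2 (iv F57210) D15954 (iv D12410)
def n15955 : Q := act 6 n12402
theorem D15955 : act 6 n12402 = n15955 := rfl
theorem F72742 : act 2 n15955 = n12403 := d20_1 D15955 (iv D12403) D12402
theorem F72743 : act 3 n15955 = n12446 := d26_1 D15955 (iv D12446) (iv F57209)
theorem F72744 : act 8 n15955 = n12411 := d40_2 (iv F57210) D15955 (iv D12411)
def n15956 : Q := act 5 n12403
theorem D15956 : act 5 n12403 = n15956 := rfl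
theorem F72745 : act 3 n15956 = n12404 := d25_1 D15956 (iv D12404) (iv F57211)
def n15957 : Q := act 7 n12403
theorem D15957 : act 7 n12403 = n15957 := rfl
theorem F72746 : act 3 n15957 = n12405 := d27_1 D15957 (iv D12405) (iv F57211)
theorem F72747 : act 8 n15957 = n12413 := d42_2 (iv F57212) D15957 (iv D12413)
def n15958 : Q := act 7 n12404
theorem D15958 : act 7 n12404 = n15958 := rfl
theorem F72748 : act 2 n15958 = n12449 := d21_1 D15958 (iv D12449) (iv F57213)
theorem F72749 : act 5 n15958 = n12405 := d36_1 D15958 (iv D12405) D12404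
def n15959 : Q := act 8 n12404
theorem D15959 : act 8 n12404 = n15959 := rfl
theorem F72750 : act 2 n15959 = n12450 := d22_1 D15959 (iv D12450) (iv F57213)
theorem F72751 : act 5 n15959 = n12415 := d37_1 D15959 (iv D12415) (iv D9690) (iv F45336) D12404
def n15960 : Q := act 1 n12406
theorem D15960 : act 1 n12406 = n15960 := rfl
theorem F72753 : act 5 n15960 = n12719 := d12_2 (iv F57218) D15960 (iv D12719)
theorem F72754 : act 7 n15960 = n12410 := d14_2 (iv F57219) D15960 (iv D12410)
def n15961 : Q := act 6 n12406
theorem D15961 : act 6 n12406 = n15961 := rfl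
def n15962 : Q := act 5 n12407
theorem D15962 : act 5 n12407 = n15962 := rfl
theorem F72759 : act 3 n15962 = n12408 := d25_1 D15962 (iv D12408) (iv F57221)
theorem F72760 : act 6 n15962 = n12721 := d35_2 D12407 D15962 (iv D12721) (iv D9916) (iv F45339)
def n15963 : Q := act 7 n12407
theorem D15963 : act 7 n12407 = n15963 := rfl
theorem F72762 : act 3 n15963 = n12409 := d27_1 D15963 (iv D12409) (iv F57221)
theorem F72763 : act 6 n15963 = n12413 := d39_1 D15963 (iv D12413) (iv D9689) (iv F45340) D12407
theorem F72764 : act 9 n15963 = n12562 := d43_2 (iv F57222) D15963 (iv D12562)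
def n15964 : Q := act 7 n12408
theorem D15964 : act 7 n12408 = n15964 := rfl
theorem F72765 : act 2 n15964 = n12455 := d21_1 D15964 (iv D12455) (iv F57223)
theorem F72766 : act 4 n15964 = n15964 := d32_1 D15964 (iv D15964) F57224
theorem F72767 : act 5 n15964 = n12409 := d36_1 D15964 (iv D12409) D12408
theorem F72768 : act 9 n15964 = n12563 := d43_2 (iv F57226) D15964 (iv D12563)
def n15965 : Q := act 8 n12408
theorem D15965 : act 8 n12408 = n15965 := rfl
theorem F72769 : act 2 n15965 = n12456 := d22_1 D15965 (iv D12456) (iv F57223)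
theorem F72770 : act 4 n15965 = n15965 := d33_1 D15965 (iv D15965) F57224
theorem F72771 : act 6 n15965 = n12724 := d40_1 D15965 (iv D12724) (iv F57225)
def n15966 : Q := act 0 n12410
theorem D15966 : act 0 n12410 = n15966 := rfl
theorem F72773 : act 5 n15966 = n12725 := d4_2 (iv F57232) D15966 (iv D12725)
def n15967 : Q := act 6 n12410
theorem D15967 : act 6 n12410 = n15967 := rfl
theorem F72775 : act 1 n15967 = n12411 := d13_1 D15967 (iv D12411) D12410
theorem F72776 : act 3 n15967 = n12458 := d26_1 D15967 (iv D12458) (iv F57231)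
theorem F72777 : act 9 n15967 = n12566 := d41_2 (iv F57233) D15967 (iv D12566)
def n15968 : Q := act 5 n12411
theorem D15968 : act 5 n12411 = n15968 := rfl
theorem F72778 : act 2 n15968 = n12412 := d19_1 D15968 (iv D12412) (iv F57234)
theorem F72779 : act 3 n15968 = n12459 := d25_1 D15968 (iv D12459) (iv F57235)
theorem F72780 : act 6 n15968 = n12727 := d35_2 D12411 D15968 (iv D12727) (iv D9920) (iv F45350)
theorem F72781 : act 9 n15968 = n12567 := d38_2 (iv F57236) D15968 (iv D12567)
def n15969 : Q := act 7 n12411
theorem D15969 : act 7 n12411 = n15969 := rfl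
theorem F72782 : act 2 n15969 = n12413 := d21_1 D15969 (iv D12413) (iv F57234)
theorem F72783 : act 3 n15969 = n12460 := d27_1 D15969 (iv D12460) (iv F57235)
theorem F72784 : act 9 n15969 = n12568 := d43_2 (iv F57236) D15969 (iv D12568)
def n15970 : Q := act 4 n12412
theorem D15970 : act 4 n12412 = n15970 := rfl
theorem F72785 : act 3 n15970 = n12416 := d24_1 D15970 (iv D12416) F45362 (iv F45355) (iv F57237)
theorem F72786 : act 6 n15970 = n12729 := d31_2 (iv F57238) D15970 (iv D12729)
theorem F72787 : act 9 n15970 = n12569 := d34_2 (iv F57239) D15970 (iv D12569)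
def n15971 : Q := act 7 n12412
theorem D15971 : act 7 n12412 = n15971 := rfl
theorem F72788 : act 3 n15971 = n12414 := d27_1 D15971 (iv D12414) (iv F57237)
theorem F72789 : act 5 n15971 = n12413 := d36_1 D15971 (iv D12413) D12412
theorem F72790 : act 9 n15971 = n12570 := d43_2 (iv F57239) D15971 (iv D12570)
def n15972 : Q := act 8 n12412
theorem D15972 : act 8 n12412 = n15972 := rfl
theorem F72791 : act 3 n15972 = n12415 := d28_1 D15972 (iv D12415) (iv F57237)
theorem F72792 : act 6 n15972 = n12731 := d40_1 D15972 (iv D12731) (iv F57238)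
def n15973 : Q := act 6 n12414
theorem D15973 : act 6 n12414 = n15973 := rfl
theorem F72793 : act 2 n15973 = n12463 := d20_1 D15973 (iv D12463) (iv F57242)
theorem F72794 : act 4 n15973 = n12419 := d31_1 D15973 (iv D12419) (iv F57243)
theorem F72795 : act 7 n15973 = n12732 := d39_2 D12414 D15973 (iv D12732) (iv D9923) (iv F45356)
theorem F72796 : act 9 n15973 = n12572 := d41_2 (iv F57245) D15973 (iv D12572)
def n15974 : Q := act 8 n12414
theorem D15974 : act 8 n12414 = n15974 := rfl
theorem F72797 : act 2 n15974 = n12464 := d22_1 D15974 (iv D12464) (iv F57242)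
theorem F72798 : act 4 n15974 = n12420 := d33_1 D15974 (iv D12420) (iv F57243)
theorem F72799 : act 7 n15974 = n12415 := d42_1 D15974 (iv D12415) D12414
def n15975 : Q := act 9 n12415
theorem D15975 : act 9 n12415 = n15975 := rfl
theorem F72800 : act 2 n15975 = n12465 := d23_1 D15975 (iv D12465) (iv F57246)
theorem F72801 : act 4 n15975 = n12421 := d34_1 D15975 (iv D12421) (iv F57247)
theorem F72802 : act 6 n15975 = n12734 := d41_1 D15975 (iv D12734) (iv F57248)
theorem F72803 : act 8 n15975 = n12574 := d44_1 D15975 (iv D12574) (iv D9804) (iv F45357) D12415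
def n15976 : Q := act 7 n12416
theorem D15976 : act 7 n12416 = n15976 := rfl
theorem F72804 : act 2 n15976 = n15976 := d21_1 D15976 (iv D15976) F57249
theorem F72805 : act 4 n15976 = n12417 := d32_1 D15976 (iv D12417) D12416
theorem F72806 : act 9 n15976 = n12575 := d43_2 (iv F57251) D15976 (iv D12575)
def n15977 : Q := act 8 n12416
theorem D15977 : act 8 n12416 = n15977 := rfl
theorem F72807 : act 2 n15977 = n15977 := d22_1 D15977 (iv D15977) F57249
theorem F72808 : act 4 n15977 = n12418 := d33_1 D15977 (iv D12418) D12416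
theorem F72809 : act 6 n15977 = n12736 := d40_1 D15977 (iv D12736) (iv F57250)
def n15978 : Q := act 6 n12417
theorem D15978 : act 6 n12417 = n15978 := rfl
theorem F72811 : act 3 n15978 = n12419 := d26_1 D15978 (iv D12419) (iv F57253)
theorem F72813 : act 7 n15978 = n12737 := d39_2 D12417 D15978 (iv D12737) (iv D9926) (iv F45363)
theorem F72814 : act 9 n15978 = n12577 := d41_2 (iv F57255) D15978 (iv D12577)
def n15979 : Q := act 8 n12417
theorem D15979 : act 8 n12417 = n15979 := rfl
theorem F72815 : act 2 n15979 = n15979 := d22_1 D15979 (iv D15979) F57252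
theorem F72816 : act 3 n15979 = n12420 := d28_1 D15979 (iv D12420) (iv F57253)
theorem F72817 : act 7 n15979 = n12418 := d42_1 D15979 (iv D12418) D12417
def n15980 : Q := act 9 n12418
theorem D15980 : act 9 n12418 = n15980 := rfl
theorem F72819 : act 3 n15980 = n12421 := d29_1 D15980 (iv D12421) (iv F57257)
def n15981 : Q := act 8 n12419
theorem D15981 : act 8 n12419 = n15981 := rfl
theorem F72822 : act 2 n15981 = n12466 := d22_1 D15981 (iv D12466) (iv F57259)
theorem F72823 : act 6 n15981 = n12420 := d40_1 D15981 (iv D12420) D12419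
def n15982 : Q := act 9 n12420
theorem D15982 : act 9 n12420 = n15982 := rfl
theorem F72825 : act 2 n15982 = n12467 := d23_1 D15982 (iv D12467) (iv F57263)
theorem F72826 : act 7 n15982 = n12421 := d43_1 D15982 (iv D12421) (iv F57264)
theorem F72827 : act 8 n15982 = n12581 := d44_1 D15982 (iv D12581) (iv D9809) (iv F45371) D12420
def n15983 : Q := act 3 n12422
theorem D15983 : act 3 n12422 = n15983 := rfl
theorem F72828 : act 1 n15983 = n13196 := d10_1 D15983 (iv D13196) (iv F57268)
theorem F72829 : act 4 n15983 = n15983 := d24_2 D12422 D15983 (iv D15983) (iv D12422) F45375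
theorem F72830 : act 5 n15983 = n12434 := d25_2 (iv F57269) D15983 (iv D12434)
theorem F72831 : act 7 n15983 = n13161 := d27_2 (iv F57270) D15983 (iv D13161)
theorem F72833 : act 9 n15983 = n13158 := d29_2 (iv F57272) D15983 (iv D13158)
def n15984 : Q := act 6 n12422
theorem D15984 : act 6 n12422 = n15984 := rfl
theorem F72834 : act 1 n15984 = n13197 := d13_1 D15984 (iv D13197) (iv F57268)
theorem F72835 : act 4 n15984 = n12423 := d31_1 D15984 (iv D12423) D12422
theorem F72836 : act 8 n15984 = n13390 := d40_2 (iv F57271) D15984 (iv D13390)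
theorem F72837 : act 9 n15984 = n13159 := d41_2 (iv F57272) D15984 (iv D13159)
def n15985 : Q := act 7 n12423
theorem D15985 : act 7 n12423 = n15985 := rfl
theorem F72838 : act 1 n15985 = n13198 := d14_1 D15985 (iv D13198) (iv F57273)
theorem F72839 : act 3 n15985 = n15985 := d27_1 D15985 (iv D15985) F57274
theorem F72840 : act 5 n15985 = n12426 := d36_1 D15985 (iv D12426) (iv F57275)
theorem F72841 : act 6 n15985 = n13163 := d39_1 D15985 (iv D13163) (iv D10249) (iv F45376) D12423
theorem F72842 : act 8 n15985 = n13391 := d42_2 (iv F57276) D15985 (iv D13391)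
theorem F72843 : act 9 n15985 = n13160 := d43_2 (iv F57277) D15985 (iv D13160)
def n15986 : Q := act 2 n12424
theorem D15986 : act 2 n12424 = n15986 := rfl
theorem F72844 : act 4 n15986 = n15986 := d18_2 F57279 D15986 (iv D15986)
theorem F72845 : act 5 n15986 = n12437 := d19_2 (iv F57280) D15986 (iv D12437)
theorem F72846 : act 7 n15986 = n12430 := d21_2 (iv F57281) D15986 (iv D12430)
def n15987 : Q := act 6 n12424
theorem D15987 : act 6 n12424 = n15987 := rfl
theorem F72848 : act 1 n15987 = n13237 := d13_1 D15987 (iv D13237) (iv F57278)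
theorem F72849 : act 3 n15987 = n12425 := d26_1 D15987 (iv D12425) D12424
theorem F72850 : act 4 n15987 = n15987 := d31_1 D15987 (iv D15987) F57279
theorem F72851 : act 8 n15987 = n12746 := d40_2 (iv F57282) D15987 (iv D12746)
def n15988 : Q := act 5 n12425
theorem D15988 : act 5 n12425 = n15988 := rfl
theorem F72852 : act 1 n15988 = n13238 := d12_1 D15988 (iv D13238) (iv F57283)
theorem F72853 : act 6 n15988 = n12439 := d35_2 D12425 D15988 (iv D12439) (iv D9707) (iv F45380)
def n15989 : Q := act 7 n12425
theorem D15989 : act 7 n12425 = n15989 := rfl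
theorem F72854 : act 1 n15989 = n13239 := d14_1 D15989 (iv D13239) (iv F57283)
theorem F72855 : act 4 n15989 = n12426 := d32_1 D15989 (iv D12426) (iv F57284)
theorem F72856 : act 6 n15989 = n12433 := d39_1 D15989 (iv D12433) (iv D9702) (iv F45381) D12425
theorem F72857 : act 8 n15989 = n12748 := d42_2 (iv F57285) D15989 (iv D12748)
def n15990 : Q := act 2 n12427
theorem D15990 : act 2 n12427 = n15990 := rfl
theorem F72858 : act 4 n15990 = n15990 := d18_2 F57291 D15990 (iv D15990)
theorem F72859 : act 5 n15990 = n12441 := d19_2 (iv F57292) D15990 (iv D12441)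
theorem F72860 : act 8 n15990 = n15990 := d22_2 F57293 D15990 (iv D15990)
theorem F72861 : act 9 n15990 = n12430 := d23_2 (iv F57294) D15990 (iv D12430)
def n15991 : Q := act 6 n12427
theorem D15991 : act 6 n12427 = n15991 := rfl
theorem F72862 : act 1 n15991 = n13241 := d13_1 D15991 (iv D13241) (iv F57290)
theorem F72863 : act 3 n15991 = n12428 := d26_1 D15991 (iv D12428) D12427
theorem F72864 : act 4 n15991 = n15991 := d31_1 D15991 (iv D15991) F57291
theorem F72865 : act 8 n15991 = n15991 := d40_2 F57293 D15991 (iv D15991)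
theorem F72866 : act 9 n15991 = n12431 := d41_2 (iv F57294) D15991 (iv D12431)
def n15992 : Q := act 5 n12428
theorem D15992 : act 5 n12428 = n15992 := rfl
theorem F72867 : act 1 n15992 = n13242 := d12_1 D15992 (iv D13242) (iv F57295)
theorem F72868 : act 6 n15992 = n12443 := d35_2 D12428 D15992 (iv D12443) (iv D9710) (iv F45387)
theorem F72869 : act 9 n15992 = n12432 := d38_2 (iv F57298) D15992 (iv D12432)
def n15993 : Q := act 7 n12428
theorem D15993 : act 7 n12428 = n15993 := rfl
theorem F72870 : act 1 n15993 = n13243 := d14_1 D15993 (iv D13243) (iv F57295)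
theorem F72871 : act 4 n15993 = n12429 := d32_1 D15993 (iv D12429) (iv F57296)
theorem F72872 : act 8 n15993 = n15993 := d42_2 F57297 D15993 (iv D15993)
theorem F72873 : act 9 n15993 = n12433 := d43_2 (iv F57298) D15993 (iv D12433)
def n15994 : Q := act 1 n12430
theorem D15994 : act 1 n12430 = n15994 := rfl
theorem F72874 : act 2 n15994 = n13244 := d9_2 D12430 D15994 (iv D13244) (iv D10306) (iv F45394)
theorem F72875 : act 4 n15994 = n15994 := d11_2 F57303 D15994 (iv D15994)
theorem F72876 : act 5 n15994 = n12445 := d12_2 (iv F57304) D15994 (iv D12445)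
def n15995 : Q := act 6 n12430
theorem D15995 : act 6 n12430 = n15995 := rfl
theorem F72878 : act 2 n15995 = n12431 := d20_1 D15995 (iv D12431) D12430
theorem F72879 : act 4 n15995 = n15995 := d31_1 D15995 (iv D15995) F57303
theorem F72880 : act 8 n15995 = n12750 := d40_2 (iv F57305) D15995 (iv D12750)
def n15996 : Q := act 5 n12431
theorem D15996 : act 5 n12431 = n15996 := rfl
theorem F72881 : act 1 n15996 = n13246 := d12_1 D15996 (iv D13246) (iv F57306)
theorem F72882 : act 3 n15996 = n12432 := d25_1 D15996 (iv D12432) (iv F57307)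
theorem F72883 : act 6 n15996 = n12447 := d35_2 D12431 D15996 (iv D12447) (iv D9713) (iv F45396)
def n15997 : Q := act 7 n12431
theorem D15997 : act 7 n12431 = n15997 := rfl
theorem F72884 : act 1 n15997 = n13247 := d14_1 D15997 (iv D13247) (iv F57306)
theorem F72885 : act 3 n15997 = n12433 := d27_1 D15997 (iv D12433) (iv F57307)
theorem F72886 : act 4 n15997 = n15997 := d32_1 D15997 (iv D15997) F57308
theorem F72887 : act 8 n15997 = n12752 := d42_2 (iv F57309) D15997 (iv D12752)
def n15998 : Q := act 7 n12432
theorem D15998 : act 7 n12432 = n15998 := rfl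
theorem F72888 : act 1 n15998 = n13248 := d14_1 D15998 (iv D13248) (iv F57310)
theorem F72889 : act 5 n15998 = n12433 := d36_1 D15998 (iv D12433) D12432
def n15999 : Q := act 8 n12432
theorem D15999 : act 8 n12432 = n15999 := rfl
theorem F72890 : act 1 n15999 = n13249 := d15_1 D15999 (iv D13249) (iv F57310)
theorem F72891 : act 5 n15999 = n12754 := d37_1 D15999 (iv D12754) (iv D9938) (iv F45400) D12432
theorem F72892 : act 6 n15999 = n12450 := d40_1 D15999 (iv D12450) (iv F57311)
def n16000 : Q := act 2 n12434
theorem D16000 : act 2 n12434 = n16000 := rfl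
theorem F72893 : act 4 n16000 = n12468 := d18_2 (iv F57316) D16000 (iv D12468)
theorem F72894 : act 8 n16000 = n16000 := d22_2 F57317 D16000 (iv D16000)
def n16001 : Q := act 6 n12434
theorem D16001 : act 6 n12434 = n16001 := rfl
theorem F72895 : act 1 n16001 = n13251 := d13_1 D16001 (iv D13251) (iv F57315)
theorem F72896 : act 3 n16001 = n12435 := d26_1 D16001 (iv D12435) D12434
theorem F72897 : act 4 n16001 = n12469 := d31_1 D16001 (iv D12469) (iv F57316)
theorem F72898 : act 8 n16001 = n16001 := d40_2 F57317 D16001 (iv D16001)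
def n16002 : Q := act 5 n12435
theorem D16002 : act 5 n12435 = n16002 := rfl
theorem F72899 : act 1 n16002 = n13252 := d12_1 D16002 (iv D13252) (iv F57318)
theorem F72900 : act 4 n16002 = n12439 := d30_1 D16002 (iv D12439) F45415 (iv F45408) (iv F57319)
def n16003 : Q := act 7 n12435
theorem D16003 : act 7 n12435 = n16003 := rfl
theorem F72901 : act 1 n16003 = n13253 := d14_1 D16003 (iv D13253) (iv F57318)
theorem F72902 : act 4 n16003 = n12436 := d32_1 D16003 (iv D12436) (iv F57319)
theorem F72903 : act 8 n16003 = n16003 := d42_2 F57320 D16003 (iv D16003)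
def n16004 : Q := act 1 n12437
theorem D16004 : act 1 n12437 = n16004 := rfl
theorem F72906 : act 7 n16004 = n12445 := d14_2 (iv F57326) D16004 (iv D12445)
def n16005 : Q := act 6 n12437
theorem D16005 : act 6 n12437 = n16005 := rfl
theorem F72910 : act 8 n16005 = n12452 := d40_2 (iv F57327) D16005 (iv D12452)
def n16006 : Q := act 5 n12438
theorem D16006 : act 5 n12438 = n16006 := rfl
theorem F72912 : act 3 n16006 = n12439 := d25_1 D16006 (iv D12439) (iv F57329)
def n16007 : Q := act 7 n12438
theorem D16007 : act 7 n12438 = n16007 := rfl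
theorem F72914 : act 3 n16007 = n12440 := d27_1 D16007 (iv D12440) (iv F57329)
theorem F72915 : act 4 n16007 = n12475 := d32_1 D16007 (iv D12475) (iv F57330)
theorem F72916 : act 6 n16007 = n12448 := d39_1 D16007 (iv D12448) (iv D9713) (iv F45412) D12438
theorem F72917 : act 8 n16007 = n12454 := d42_2 (iv F57331) D16007 (iv D12454)
def n16008 : Q := act 7 n12439
theorem D16008 : act 7 n12439 = n16008 := rfl
theorem F72918 : act 1 n16008 = n13262 := d14_1 D16008 (iv D13262) (iv F57332)
theorem F72919 : act 5 n16008 = n12440 := d36_1 D16008 (iv D12440) D12439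
def n16009 : Q := act 8 n12439
theorem D16009 : act 8 n12439 = n16009 := rfl
theorem F72921 : act 5 n16009 = n12456 := d37_1 D16009 (iv D12456) (iv D9718) (iv F45416) D12439
def n16010 : Q := act 1 n12441
theorem D16010 : act 1 n12441 = n16010 := rfl
theorem F72922 : act 2 n16010 = n13264 := d9_2 D12441 D16010 (iv D13264) (iv D10320) (iv F45421)
theorem F72923 : act 4 n16010 = n12478 := d11_2 (iv F57337) D16010 (iv D12478)
theorem F72924 : act 8 n16010 = n12582 := d15_2 (iv F57338) D16010 (iv D12582)
theorem F72925 : act 9 n16010 = n12445 := d16_2 (iv F57339) D16010 (iv D12445)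
def n16011 : Q := act 6 n12441
theorem D16011 : act 6 n12441 = n16011 := rfl
theorem F72926 : act 2 n16011 = n12442 := d20_1 D16011 (iv D12442) D12441
theorem F72927 : act 4 n16011 = n12479 := d31_1 D16011 (iv D12479) (iv F57337)
theorem F72928 : act 8 n16011 = n12583 := d40_2 (iv F57338) D16011 (iv D12583)
theorem F72929 : act 9 n16011 = n12446 := d41_2 (iv F57339) D16011 (iv D12446)
def n16012 : Q := act 5 n12442
theorem D16012 : act 5 n12442 = n16012 := rfl
theorem F72930 : act 1 n16012 = n13266 := d12_1 D16012 (iv D13266) (iv F57340)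
theorem F72931 : act 3 n16012 = n12443 := d25_1 D16012 (iv D12443) (iv F57341)
theorem F72932 : act 9 n16012 = n12447 := d38_2 (iv F57344) D16012 (iv D12447)
def n16013 : Q := act 7 n12442
theorem D16013 : act 7 n12442 = n16013 := rfl
theorem F72933 : act 1 n16013 = n13267 := d14_1 D16013 (iv D13267) (iv F57340)
theorem F72934 : act 3 n16013 = n12444 := d27_1 D16013 (iv D12444) (iv F57341)
theorem F72935 : act 4 n16013 = n12481 := d32_1 D16013 (iv D12481) (iv F57342)
theorem F72936 : act 8 n16013 = n12585 := d42_2 (iv F57343) D16013 (iv D12585)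
theorem F72937 : act 9 n16013 = n12448 := d43_2 (iv F57344) D16013 (iv D12448)
def n16014 : Q := act 7 n12443
theorem D16014 : act 7 n12443 = n16014 := rfl
theorem F72938 : act 1 n16014 = n13268 := d14_1 D16014 (iv D13268) (iv F57345)
theorem F72939 : act 5 n16014 = n12444 := d36_1 D16014 (iv D12444) D12443
theorem F72940 : act 9 n16014 = n12449 := d43_2 (iv F57346) D16014 (iv D12449)
def n16015 : Q := act 8 n12443
theorem D16015 : act 8 n12443 = n16015 := rfl
theorem F72941 : act 1 n16015 = n13269 := d15_1 D16015 (iv D13269) (iv F57345)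
theorem F72942 : act 5 n16015 = n12587 := d37_1 D16015 (iv D12587) (iv D9813) (iv F45427) D12443
def n16016 : Q := act 0 n12445
theorem D16016 : act 0 n12445 = n16016 := rfl
theorem F72945 : act 8 n16016 = n12457 := d7_2 (iv F57353) D16016 (iv D12457)
def n16017 : Q := act 6 n12445
theorem D16017 : act 6 n12445 = n16017 := rfl
theorem F72946 : act 1 n16017 = n12446 := d13_1 D16017 (iv D12446) D12445
theorem F72947 : act 2 n16017 = n13271 := d20_1 D16017 (iv D13271) (iv F57351)
theorem F72948 : act 4 n16017 = n12485 := d31_1 D16017 (iv D12485) (iv F57352)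
theorem F72949 : act 8 n16017 = n12458 := d40_2 (iv F57353) D16017 (iv D12458)
def n16018 : Q := act 5 n12446
theorem D16018 : act 5 n12446 = n16018 := rfl
theorem F72950 : act 2 n16018 = n12447 := d19_1 D16018 (iv D12447) (iv F57354)
def n16019 : Q := act 7 n12446
theorem D16019 : act 7 n12446 = n16019 := rfl
theorem F72951 : act 2 n16019 = n12448 := d21_1 D16019 (iv D12448) (iv F57354)
theorem F72952 : act 4 n16019 = n12487 := d32_1 D16019 (iv D12487) (iv F57355)
theorem F72953 : act 8 n16019 = n12460 := d42_2 (iv F57356) D16019 (iv D12460)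
def n16020 : Q := act 4 n12447
theorem D16020 : act 4 n12447 = n16020 := rfl
theorem F72954 : act 1 n16020 = n13274 := d11_1 D16020 (iv D13274) (iv F57357)
theorem F72955 : act 5 n16020 = n12488 := d30_2 D12447 D16020 (iv D12488) (iv D9742) (iv F45437)
def n16021 : Q := act 7 n12447
theorem D16021 : act 7 n12447 = n16021 := rfl
theorem F72956 : act 1 n16021 = n13275 := d14_1 D16021 (iv D13275) (iv F57357)
theorem F72957 : act 3 n16021 = n12449 := d27_1 D16021 (iv D12449) (iv F57358)
theorem F72958 : act 5 n16021 = n12448 := d36_1 D16021 (iv D12448) D12447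
def n16022 : Q := act 8 n12447
theorem D16022 : act 8 n12447 = n16022 := rfl
theorem F72959 : act 1 n16022 = n13276 := d15_1 D16022 (iv D13276) (iv F57357)
theorem F72960 : act 3 n16022 = n12450 := d28_1 D16022 (iv D12450) (iv F57358)
theorem F72961 : act 5 n16022 = n12462 := d37_1 D16022 (iv D12462) (iv D9722) (iv F45438) D12447
def n16023 : Q := act 6 n12449
theorem D16023 : act 6 n12449 = n16023 := rfl
theorem F72962 : act 1 n16023 = n13277 := d13_1 D16023 (iv D13277) (iv F57363)
def n16024 : Q := act 8 n12449
theorem D16024 : act 8 n12449 = n16024 := rfl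
theorem F72963 : act 1 n16024 = n13278 := d15_1 D16024 (iv D13278) (iv F57363)
theorem F72964 : act 5 n16024 = n12464 := d37_1 D16024 (iv D12464) F45477 (iv F45442) (iv F57364)
theorem F72965 : act 7 n16024 = n12450 := d42_1 D16024 (iv D12450) D12449
def n16025 : Q := act 9 n12450
theorem D16025 : act 9 n12450 = n16025 := rfl
theorem F72966 : act 1 n16025 = n13279 := d16_1 D16025 (iv D13279) (iv F57365)
theorem F72967 : act 5 n16025 = n12465 := d38_1 D16025 (iv D12465) (iv F57366)
def n16026 : Q := act 0 n12451
theorem D16026 : act 0 n12451 = n16026 := rfl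
theorem F72970 : act 5 n16026 = n12775 := d4_2 (iv F57369) D16026 (iv D12775)
theorem F72971 : act 7 n16026 = n12457 := d6_2 (iv F57370) D16026 (iv D12457)
def n16028 : Q := act 5 n12452
theorem D16028 : act 5 n12452 = n16028 := rfl
theorem F72978 : act 6 n16028 = n12777 := d35_2 D12452 D16028 (iv D12777) (iv D9954) (iv F45444)
def n16029 : Q := act 7 n12452
theorem D16029 : act 7 n12452 = n16029 := rfl
theorem F72982 : act 6 n16029 = n12460 := d39_1 D16029 (iv D12460) (iv D9721) (iv F45445) D12452
def n16030 : Q := act 4 n12453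
theorem D16030 : act 4 n12453 = n16030 := rfl
theorem F72987 : act 6 n16030 = n12779 := d31_2 (iv F57377) D16030 (iv D12779)
def n16031 : Q := act 7 n12453
theorem D16031 : act 7 n12453 = n16031 := rfl
theorem F72990 : act 3 n16031 = n12455 := d27_1 D16031 (iv D12455) (iv F57376)
theorem F72991 : act 5 n16031 = n12454 := d36_1 D16031 (iv D12454) D12453
def n16033 : Q := act 6 n12455
theorem D16033 : act 6 n12455 = n16033 := rfl
theorem F72996 : act 1 n16033 = n13287 := d13_1 D16033 (iv D13287) (iv F57384)
theorem F72997 : act 4 n16033 = n16033 := d31_1 D16033 (iv D16033) F57385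
theorem F72998 : act 5 n16033 = n12463 := d35_1 D16033 (iv D12463) F45477 (iv F45457) (iv F57386)
theorem F72999 : act 7 n16033 = n12782 := d39_2 D12455 D16033 (iv D12782) (iv D9957) (iv F45453)
theorem F73000 : act 9 n16033 = n12605 := d41_2 (iv F57387) D16033 (iv D12605)
def n16034 : Q := act 8 n12455
theorem D16034 : act 8 n12455 = n16034 := rfl
theorem F73002 : act 4 n16034 = n16034 := d33_1 D16034 (iv D16034) F57385
theorem F73003 : act 7 n16034 = n12456 := d42_1 D16034 (iv D12456) D12455
def n16035 : Q := act 9 n12456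
theorem D16035 : act 9 n12456 = n16035 := rfl
theorem F73005 : act 4 n16035 = n16035 := d34_1 D16035 (iv D16035) F57389
theorem F73006 : act 6 n16035 = n12784 := d41_1 D16035 (iv D12784) (iv F57390)
theorem F73007 : act 8 n16035 = n12607 := d44_1 D16035 (iv D12607) (iv D9826) (iv F45454) D12456
def n16036 : Q := act 6 n12457
theorem D16036 : act 6 n12457 = n16036 := rfl
theorem F73008 : act 0 n16036 = n12458 := d5_1 D16036 (iv D12458) D12457
def n16037 : Q := act 5 n12458
theorem D16037 : act 5 n12458 = n16037 := rfl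
theorem F73012 : act 1 n16037 = n12459 := d12_1 D16037 (iv D12459) (iv F57395)
theorem F73013 : act 2 n16037 = n13291 := d19_1 D16037 (iv D13291) (iv F57396)
theorem F73014 : act 4 n16037 = n16037 := d30_1 D16037 (iv D16037) F57397 F45572 (iv F57397)
theorem F73016 : act 9 n16037 = n12609 := d38_2 (iv F57398) D16037 (iv D12609)
def n16038 : Q := act 7 n12458
theorem D16038 : act 7 n12458 = n16038 := rfl
def n16039 : Q := act 7 n12459
theorem D16039 : act 7 n12459 = n16039 := rfl
theorem F73021 : act 2 n16039 = n12461 := d21_1 D16039 (iv D12461) (iv F57399)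
theorem F73022 : act 4 n16039 = n16039 := d32_1 D16039 (iv D16039) F57400
theorem F73023 : act 5 n16039 = n12460 := d36_1 D16039 (iv D12460) D12459
theorem F73024 : act 9 n16039 = n12611 := d43_2 (iv F57402) D16039 (iv D12611)
def n16040 : Q := act 8 n12459
theorem D16040 : act 8 n12459 = n16040 := rfl
theorem F73025 : act 2 n16040 = n12462 := d22_1 D16040 (iv D12462) (iv F57399)
theorem F73026 : act 4 n16040 = n16040 := d33_1 D16040 (iv D16040) F57400
theorem F73027 : act 6 n16040 = n12789 := d40_1 D16040 (iv D12789) (iv F57401)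
def n16041 : Q := act 6 n12461
theorem D16041 : act 6 n12461 = n16041 := rfl
theorem F73028 : act 1 n16041 = n13295 := d13_1 D16041 (iv D13295) (iv F57406)
theorem F73029 : act 3 n16041 = n12463 := d26_1 D16041 (iv D12463) (iv F57407)
theorem F73030 : act 4 n16041 = n16041 := d31_1 D16041 (iv D16041) F57408
theorem F73031 : act 7 n16041 = n12790 := d39_2 D12461 D16041 (iv D12790) (iv D9963) (iv F45469)
theorem F73032 : act 9 n16041 = n12613 := d41_2 (iv F57410) D16041 (iv D12613)
def n16042 : Q := act 8 n12461
theorem D16042 : act 8 n12461 = n16042 := rfl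
theorem F73033 : act 1 n16042 = n13296 := d15_1 D16042 (iv D13296) (iv F57406)
theorem F73034 : act 3 n16042 = n12464 := d28_1 D16042 (iv D12464) (iv F57407)
theorem F73035 : act 4 n16042 = n16042 := d33_1 D16042 (iv D16042) F57408
theorem F73036 : act 7 n16042 = n12462 := d42_1 D16042 (iv D12462) D12461
def n16043 : Q := act 9 n12462
theorem D16043 : act 9 n12462 = n16043 := rfl
theorem F73037 : act 1 n16043 = n13297 := d16_1 D16043 (iv D13297) (iv F57411)
theorem F73038 : act 3 n16043 = n12465 := d29_1 D16043 (iv D12465) (iv F57412)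
theorem F73039 : act 4 n16043 = n16043 := d34_1 D16043 (iv D16043) F57413
theorem F73040 : act 6 n16043 = n12792 := d41_1 D16043 (iv D12792) (iv F57414)
theorem F73041 : act 8 n16043 = n12615 := d44_1 D16043 (iv D12615) (iv D9832) (iv F45470) D12462
def n16044 : Q := act 8 n12463
theorem D16044 : act 8 n12463 = n16044 := rfl
theorem F73043 : act 4 n16044 = n12466 := d33_1 D16044 (iv D12466) (iv F57416)
theorem F73044 : act 6 n16044 = n12464 := d40_1 D16044 (iv D12464) D12463
theorem F73045 : act 7 n16044 = n12793 := d42_1 D16044 (iv D12793) (iv F57417)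
def n16045 : Q := act 9 n12464
theorem D16045 : act 9 n12464 = n16045 := rfl
theorem F73046 : act 1 n16045 = n13299 := d16_1 D16045 (iv D13299) (iv F57419)
theorem F73047 : act 4 n16045 = n12467 := d34_1 D16045 (iv D12467) (iv F57420)
theorem F73048 : act 7 n16045 = n12465 := d43_1 D16045 (iv D12465) (iv F57421)
theorem F73049 : act 8 n16045 = n12617 := d44_1 D16045 (iv D12617) (iv D9834) (iv F45478) D12464
def n16046 : Q := act 5 n12466
theorem D16046 : act 5 n12466 = n16046 := rfl
theorem F73050 : act 1 n16046 = n13300 := d12_1 D16046 (iv D13300) (iv F57426)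
theorem F73051 : act 3 n16046 = n16046 := d25_1 D16046 (iv D16046) F57427
theorem F73052 : act 7 n16046 = n12795 := d36_2 (iv F57429) D16046 (iv D12795)
theorem F73053 : act 8 n16046 = n16046 := d37_2 D12466 D16046 (iv D16046) (iv D12466) F45484
def n16047 : Q := act 9 n12466
theorem D16047 : act 9 n12466 = n16047 := rfl
theorem F73054 : act 1 n16047 = n13301 := d16_1 D16047 (iv D13301) (iv F57426)
theorem F73055 : act 3 n16047 = n16047 := d29_1 D16047 (iv D16047) F57427
theorem F73056 : act 6 n16047 = n12467 := d41_1 D16047 (iv D12467) (iv F57428)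
theorem F73057 : act 7 n16047 = n12796 := d43_1 D16047 (iv D12796) (iv F57429)
theorem F73058 : act 8 n16047 = n12619 := d44_1 D16047 (iv D12619) (iv D9836) (iv F45486) D12466
def n16048 : Q := act 1 n12468
theorem D16048 : act 1 n12468 = n16048 := rfl
theorem F73059 : act 2 n16048 = n13306 := d9_2 D12468 D16048 (iv D13306) (iv D10350) (iv F45494)
theorem F73060 : act 5 n16048 = n16048 := d12_2 F57434 D16048 (iv D16048)
theorem F73061 : act 8 n16048 = n16048 := d15_2 F57435 D16048 (iv D16048)
def n16049 : Q := act 6 n12468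
theorem D16049 : act 6 n12468 = n16049 := rfl
theorem F73062 : act 2 n16049 = n12469 := d20_1 D16049 (iv D12469) D12468
theorem F73063 : act 8 n16049 = n16049 := d40_2 F57435 D16049 (iv D16049)
def n16050 : Q := act 5 n12469
theorem D16050 : act 5 n12469 = n16050 := rfl
theorem F73064 : act 1 n16050 = n13308 := d12_1 D16050 (iv D13308) (iv F57436)
theorem F73065 : act 3 n16050 = n12470 := d25_1 D16050 (iv D12470) (iv F57437)
theorem F73066 : act 6 n16050 = n16050 := d35_2 D12469 D16050 (iv D16050) (iv D12469) F45495
def n16051 : Q := act 7 n12469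
theorem D16051 : act 7 n12469 = n16051 := rfl
theorem F73067 : act 1 n16051 = n13309 := d14_1 D16051 (iv D13309) (iv F57436)
theorem F73068 : act 3 n16051 = n12471 := d27_1 D16051 (iv D12471) (iv F57437)
theorem F73069 : act 8 n16051 = n16051 := d42_2 F57438 D16051 (iv D16051)
def n16052 : Q := act 7 n12470
theorem D16052 : act 7 n12470 = n16052 := rfl
theorem F73070 : act 1 n16052 = n13310 := d14_1 D16052 (iv D13310) (iv F57439)
theorem F73071 : act 4 n16052 = n12476 := d32_1 D16052 (iv D12476) (iv F57440)
theorem F73072 : act 5 n16052 = n12471 := d36_1 D16052 (iv D12471) D12470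
def n16053 : Q := act 8 n12470
theorem D16053 : act 8 n12470 = n16053 := rfl
theorem F73074 : act 4 n16053 = n12477 := d33_1 D16053 (iv D12477) (iv F57440)
theorem F73075 : act 5 n16053 = n16053 := d37_1 D16053 (iv D16053) (iv D12470) F45499 D12470
theorem F73076 : act 6 n16053 = n16053 := d40_1 D16053 (iv D16053) F57441
theorem F73077 : act 9 n16053 = n16053 := d44_2 F66775 D16053 (iv D16053) (iv F66775) F66774
def n16056 : Q := act 5 n12473
theorem D16056 : act 5 n12473 = n16056 := rfl
def n16057 : Q := act 7 n12473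
theorem D16057 : act 7 n12473 = n16057 := rfl
theorem F73088 : act 6 n16057 = n12487 := d39_1 D16057 (iv D12487) (iv D9741) (iv F45504) D12473
def n16058 : Q := act 4 n12474
theorem D16058 : act 4 n12474 = n16058 := rfl
theorem F73091 : act 6 n16058 = n16058 := d31_2 F57453 D16058 (iv D16058)
def n16059 : Q := act 7 n12474
theorem D16059 : act 7 n12474 = n16059 := rfl
theorem F73093 : act 3 n16059 = n12476 := d27_1 D16059 (iv D12476) (iv F57452)
theorem F73094 : act 5 n16059 = n12475 := d36_1 D16059 (iv D12475) D12474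
def n16061 : Q := act 6 n12476
theorem D16061 : act 6 n12476 = n16061 := rfl
theorem F73100 : act 1 n16061 = n13324 := d13_1 D16061 (iv D13324) (iv F57458)
theorem F73101 : act 5 n16061 = n12490 := d35_1 D16061 (iv D12490) F45542 (iv F45513) (iv F57459)
theorem F73102 : act 7 n16061 = n16061 := d39_2 D12476 D16061 (iv D16061) (iv D12476) F45510
def n16062 : Q := act 8 n12476
theorem D16062 : act 8 n12476 = n16062 := rfl
theorem F73104 : act 5 n16062 = n12498 := d37_1 D16062 (iv D12498) F45560 (iv F45514) (iv F57459)
theorem F73105 : act 7 n16062 = n12477 := d42_1 D16062 (iv D12477) D12476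
theorem F73106 : act 9 n16062 = n16062 := d44_2 F67106 D16062 (iv D16062) (iv F67106) F67105
def n16063 : Q := act 0 n12478
theorem D16063 : act 0 n12478 = n16063 := rfl
theorem F73107 : act 2 n16063 = n13326 := d1_2 (iv F57464) D16063 (iv D13326)
theorem F73109 : act 8 n16063 = n12620 := d7_2 (iv F57466) D16063 (iv D12620)
def n16064 : Q := act 6 n12478
theorem D16064 : act 6 n12478 = n16064 := rfl
theorem F73111 : act 1 n16064 = n12479 := d13_1 D16064 (iv D12479) D12478
theorem F73112 : act 2 n16064 = n13327 := d20_1 D16064 (iv D13327) (iv F57464)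
theorem F73113 : act 8 n16064 = n12621 := d40_2 (iv F57466) D16064 (iv D12621)
theorem F73114 : act 9 n16064 = n12485 := d41_2 (iv F57467) D16064 (iv D12485)
def n16065 : Q := act 5 n12479
theorem D16065 : act 5 n12479 = n16065 := rfl
theorem F73115 : act 2 n16065 = n12480 := d19_1 D16065 (iv D12480) (iv F57468)
theorem F73116 : act 6 n16065 = n16065 := d35_2 D12479 D16065 (iv D16065) (iv D12479) F45515
theorem F73117 : act 9 n16065 = n12486 := d38_2 (iv F57470) D16065 (iv D12486)
def n16066 : Q := act 7 n12479
theorem D16066 : act 7 n12479 = n16066 := rfl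
theorem F73118 : act 2 n16066 = n12481 := d21_1 D16066 (iv D12481) (iv F57468)
theorem F73119 : act 8 n16066 = n12623 := d42_2 (iv F57469) D16066 (iv D12623)
theorem F73120 : act 9 n16066 = n12487 := d43_2 (iv F57470) D16066 (iv D12487)
def n16067 : Q := act 4 n12480
theorem D16067 : act 4 n12480 = n16067 := rfl
theorem F73121 : act 1 n16067 = n13330 := d11_1 D16067 (iv D13330) (iv F57471)
theorem F73122 : act 6 n16067 = n16067 := d31_2 F57473 D16067 (iv D16067)
theorem F73123 : act 9 n16067 = n12488 := d34_2 (iv F57474) D16067 (iv D12488)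
def n16068 : Q := act 7 n12480
theorem D16068 : act 7 n12480 = n16068 := rfl
theorem F73124 : act 1 n16068 = n13331 := d14_1 D16068 (iv D13331) (iv F57471)
theorem F73125 : act 3 n16068 = n12482 := d27_1 D16068 (iv D12482) (iv F57472)
theorem F73126 : act 5 n16068 = n12481 := d36_1 D16068 (iv D12481) D12480
theorem F73127 : act 9 n16068 = n12489 := d43_2 (iv F57474) D16068 (iv D12489)
def n16069 : Q := act 8 n12480
theorem D16069 : act 8 n12480 = n16069 := rfl
theorem F73128 : act 1 n16069 = n13332 := d15_1 D16069 (iv D13332) (iv F57471)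
theorem F73129 : act 3 n16069 = n12483 := d28_1 D16069 (iv D12483) (iv F57472)
theorem F73130 : act 5 n16069 = n12626 := d37_1 D16069 (iv D12626) (iv D9840) (iv F45520) D12480
theorem F73131 : act 6 n16069 = n16069 := d40_1 D16069 (iv D16069) F57473
theorem F73132 : act 9 n16069 = n16069 := d44_2 (iv F57474) D16069 (iv D16069) F57474 F45537
def n16070 : Q := act 6 n12482
theorem D16070 : act 6 n12482 = n16070 := rfl
theorem F73133 : act 1 n16070 = n13333 := d13_1 D16070 (iv D13333) (iv F57479)
theorem F73134 : act 7 n16070 = n16070 := d39_2 D12482 D16070 (iv D16070) (iv D12482) F45523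
theorem F73135 : act 9 n16070 = n12490 := d41_2 (iv F57481) D16070 (iv D12490)
def n16071 : Q := act 8 n12482
theorem D16071 : act 8 n12482 = n16071 := rfl
theorem F73136 : act 1 n16071 = n13334 := d15_1 D16071 (iv D13334) (iv F57479)
theorem F73137 : act 5 n16071 = n12627 := d37_1 D16071 (iv D12627) F45865 (iv F45527) (iv F57480)
theorem F73138 : act 7 n16071 = n12483 := d42_1 D16071 (iv D12483) D12482
theorem F73139 : act 9 n16071 = n16071 := d44_2 (iv F57481) D16071 (iv D16071) F57481 F45543
def n16072 : Q := act 6 n12484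
theorem D16072 : act 6 n12484 = n16072 := rfl
theorem F73140 : act 0 n16072 = n12485 := d5_1 D16072 (iv D12485) D12484
theorem F73142 : act 8 n16072 = n12499 := d40_2 (iv F57488) D16072 (iv D12499)
def n16073 : Q := act 5 n12485
theorem D16073 : act 5 n12485 = n16073 := rfl
theorem F73143 : act 1 n16073 = n12486 := d12_1 D16073 (iv D12486) (iv F57489)
theorem F73144 : act 2 n16073 = n13336 := d19_1 D16073 (iv D13336) (iv F57490)
theorem F73145 : act 6 n16073 = n16073 := d35_2 D12485 D16073 (iv D16073) (iv D12485) F45530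
theorem F73146 : act 8 n16073 = n16073 := d37_2 (iv F57491) D16073 (iv D16073) F57491 F45572
def n16074 : Q := act 7 n12485
theorem D16074 : act 7 n12485 = n16074 := rfl
theorem F73149 : act 8 n16074 = n12500 := d42_2 (iv F57491) D16074 (iv D12500)
def n16075 : Q := act 4 n12486
theorem D16075 : act 4 n12486 = n16075 := rfl
theorem F73150 : act 2 n16075 = n12488 := d18_1 D16075 (iv D12488) (iv F57492)
theorem F73151 : act 6 n16075 = n16075 := d31_2 F57493 D16075 (iv D16075)
theorem F73152 : act 8 n16075 = n16075 := d33_2 F57494 D16075 (iv D16075)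
def n16076 : Q := act 7 n12486
theorem D16076 : act 7 n12486 = n16076 := rfl
theorem F73153 : act 2 n16076 = n12489 := d21_1 D16076 (iv D12489) (iv F57492)
theorem F73154 : act 5 n16076 = n12487 := d36_1 D16076 (iv D12487) D12486
theorem F73155 : act 8 n16076 = n16076 := d42_2 F57494 D16076 (iv D16076)
def n16077 : Q := act 7 n12488
theorem D16077 : act 7 n12488 = n16077 := rfl
theorem F73156 : act 1 n16077 = n13340 := d14_1 D16077 (iv D13340) (iv F57497)
theorem F73157 : act 4 n16077 = n12489 := d32_1 D16077 (iv D12489) D12488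
theorem F73158 : act 8 n16077 = n16077 := d42_2 F57499 D16077 (iv D16077)
def n16078 : Q := act 6 n12489
theorem D16078 : act 6 n12489 = n16078 := rfl
theorem F73159 : act 1 n16078 = n13341 := d13_1 D16078 (iv D13341) (iv F57500)
theorem F73160 : act 3 n16078 = n12490 := d26_1 D16078 (iv D12490) (iv F57501)
theorem F73161 : act 7 n16078 = n16078 := d39_2 D12489 D16078 (iv D16078) (iv D12489) F45536
theorem F73162 : act 8 n16078 = n16078 := d40_2 F57503 D16078 (iv D16078)
def n16095 : Q := act 3 n12506
theorem D16095 : act 3 n12506 = n16095 := rfl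
theorem F73231 : act 0 n16095 = n12524 := d2_1 D16095 (iv D12524) (iv F57569)
theorem F73232 : act 5 n16095 = n16095 := d25_2 F57571 D16095 (iv D16095)
theorem F73233 : act 9 n16095 = n12508 := d29_2 (iv F57572) D16095 (iv D12508)
def n16096 : Q := act 6 n12506
theorem D16096 : act 6 n12506 = n16096 := rfl
theorem F73234 : act 0 n16096 = n12525 := d5_1 D16096 (iv D12525) (iv F57569)
theorem F73235 : act 2 n16096 = n13364 := d20_1 D16096 (iv D13364) (iv F57570)
theorem F73236 : act 4 n16096 = n12507 := d31_1 D16096 (iv D12507) D12506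
theorem F73237 : act 9 n16096 = n12509 := d41_2 (iv F57572) D16096 (iv D12509)
def n16097 : Q := act 7 n12507
theorem D16097 : act 7 n12507 = n16097 := rfl
theorem F73238 : act 0 n16097 = n12526 := d6_1 D16097 (iv D12526) (iv F57573)
theorem F73239 : act 2 n16097 = n13365 := d21_1 D16097 (iv D13365) (iv F57574)
theorem F73240 : act 5 n16097 = n16097 := d36_1 D16097 (iv D16097) F57575
theorem F73241 : act 9 n16097 = n12510 := d43_2 (iv F57576) D16097 (iv D12510)
def n16098 : Q := act 2 n12508
theorem D16098 : act 2 n12508 = n16098 := rfl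
theorem F73242 : act 0 n16098 = n12527 := d1_1 D16098 (iv D12527) (iv F57577)
theorem F73245 : act 8 n16098 = n12514 := d22_2 (iv F57579) D16098 (iv D12514)
def n16099 : Q := act 6 n12508
theorem D16099 : act 6 n12508 = n16099 := rfl
theorem F73246 : act 0 n16099 = n12528 := d5_1 D16099 (iv D12528) (iv F57577)
theorem F73247 : act 3 n16099 = n12509 := d26_1 D16099 (iv D12509) D12508
theorem F73248 : act 8 n16099 = n12515 := d40_2 (iv F57579) D16099 (iv D12515)
def n16100 : Q := act 5 n12509
theorem D16100 : act 5 n12509 = n16100 := rfl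
theorem F73249 : act 0 n16100 = n12529 := d4_1 D16100 (iv D12529) (iv F57580)
def n16101 : Q := act 7 n12509
theorem D16101 : act 7 n12509 = n16101 := rfl
theorem F73253 : act 0 n16101 = n12530 := d6_1 D16101 (iv D12530) (iv F57580)
theorem F73254 : act 2 n16101 = n13369 := d21_1 D16101 (iv D13369) (iv F57581)
theorem F73255 : act 4 n16101 = n12510 := d32_1 D16101 (iv D12510) (iv F57582)
theorem F73256 : act 8 n16101 = n12517 := d42_2 (iv F57583) D16101 (iv D12517)
def n16102 : Q := act 2 n12511
theorem D16102 : act 2 n12511 = n16102 := rfl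
theorem F73257 : act 0 n16102 = n12531 := d1_1 D16102 (iv D12531) (iv F57588)
theorem F73258 : act 3 n16102 = n13370 := d17_2 D12511 D16102 (iv D13370) (iv D10400) (iv F45613)
theorem F73259 : act 5 n16102 = n12839 := d19_2 (iv F57589) D16102 (iv D12839)
theorem F73260 : act 7 n16102 = n12514 := d21_2 (iv F57590) D16102 (iv D12514)
def n16103 : Q := act 6 n12511
theorem D16103 : act 6 n12511 = n16103 := rfl
theorem F73261 : act 0 n16103 = n12532 := d5_1 D16103 (iv D12532) (iv F57588)
theorem F73262 : act 3 n16103 = n12512 := d26_1 D16103 (iv D12512) D12511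
def n16104 : Q := act 5 n12512
theorem D16104 : act 5 n12512 = n16104 := rfl
theorem F73266 : act 6 n16104 = n12841 := d35_2 D12512 D16104 (iv D12841) (iv D10005) (iv F45614)
def n16105 : Q := act 7 n12512
theorem D16105 : act 7 n12512 = n16105 := rfl
theorem F73267 : act 0 n16105 = n12534 := d6_1 D16105 (iv D12534) (iv F57591)
theorem F73268 : act 2 n16105 = n13373 := d21_1 D16105 (iv D13373) (iv F57592)
theorem F73269 : act 4 n16105 = n12513 := d32_1 D16105 (iv D12513) (iv F57593)
theorem F73270 : act 6 n16105 = n12517 := d39_1 D16105 (iv D12517) (iv D9765) (iv F45615) D12512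
def n16106 : Q := act 1 n12514
theorem D16106 : act 1 n12514 = n16106 := rfl
theorem F73272 : act 5 n16106 = n12843 := d12_2 (iv F57600) D16106 (iv D12843)
def n16107 : Q := act 6 n12514
theorem D16107 : act 6 n12514 = n16107 := rfl
theorem F73273 : act 0 n16107 = n12536 := d5_1 D16107 (iv D12536) (iv F57598)
theorem F73274 : act 2 n16107 = n12515 := d20_1 D16107 (iv D12515) D12514
def n16108 : Q := act 5 n12515
theorem D16108 : act 5 n12515 = n16108 := rfl
theorem F73276 : act 0 n16108 = n12537 := d4_1 D16108 (iv D12537) (iv F57601)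
theorem F73278 : act 6 n16108 = n12845 := d35_2 D12515 D16108 (iv D12845) (iv D10008) (iv F45620)
def n16109 : Q := act 7 n12515
theorem D16109 : act 7 n12515 = n16109 := rfl
theorem F73279 : act 0 n16109 = n12538 := d6_1 D16109 (iv D12538) (iv F57601)
theorem F73280 : act 3 n16109 = n12517 := d27_1 D16109 (iv D12517) (iv F57602)
def n16110 : Q := act 7 n12516
theorem D16110 : act 7 n12516 = n16110 := rfl
theorem F73281 : act 0 n16110 = n12539 := d6_1 D16110 (iv D12539) (iv F57603)
theorem F73284 : act 5 n16110 = n12517 := d36_1 D16110 (iv D12517) D12516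
def n16111 : Q := act 8 n12516
theorem D16111 : act 8 n12516 = n16111 := rfl
theorem F73288 : act 6 n16111 = n12848 := d40_1 D16111 (iv D12848) (iv F57606)
def n16112 : Q := act 6 n12518
theorem D16112 : act 6 n12518 = n16112 := rfl
def n16113 : Q := act 5 n12519
theorem D16113 : act 5 n12519 = n16113 := rfl
theorem F73296 : act 6 n16113 = n12850 := d35_2 D12519 D16113 (iv D12850) (iv D10012) (iv F45629)
def n16114 : Q := act 7 n12519
theorem D16114 : act 7 n12519 = n16114 := rfl
theorem F73298 : act 2 n16114 = n12521 := d21_1 D16114 (iv D12521) (iv F57616)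
def n16115 : Q := act 4 n12520
theorem D16115 : act 4 n12520 = n16115 := rfl
theorem F73302 : act 0 n16115 = n12543 := d3_1 D16115 (iv D12543) (iv F57619)
theorem F73303 : act 6 n16115 = n12852 := d31_2 (iv F57621) D16115 (iv D12852)
def n16116 : Q := act 7 n12520
theorem D16116 : act 7 n12520 = n16116 := rfl
theorem F73306 : act 5 n16116 = n12521 := d36_1 D16116 (iv D12521) D12520
def n16117 : Q := act 8 n12520
theorem D16117 : act 8 n12520 = n16117 := rfl
theorem F73310 : act 6 n16117 = n12854 := d40_1 D16117 (iv D12854) (iv F57621)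
def n16119 : Q := act 8 n12522
theorem D16119 : act 8 n12522 = n16119 := rfl
theorem F73318 : act 7 n16119 = n12523 := d42_1 D16119 (iv D12523) D12522
def n16120 : Q := act 9 n12523
theorem D16120 : act 9 n12523 = n16120 := rfl
theorem F73322 : act 6 n16120 = n12857 := d41_1 D16120 (iv D12857) (iv F57632)
def n16121 : Q := act 2 n12524
theorem D16121 : act 2 n12524 = n16121 := rfl
theorem F73323 : act 3 n16121 = n13396 := d17_2 D12524 D16121 (iv D13396) (iv D10418) (iv F45644)
theorem F73324 : act 5 n16121 = n16121 := d19_2 F57634 D16121 (iv D16121)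
theorem F73325 : act 9 n16121 = n12527 := d23_2 (iv F57635) D16121 (iv D12527)
def n16122 : Q := act 6 n12524
theorem D16122 : act 6 n12524 = n16122 := rfl
theorem F73326 : act 1 n16122 = n12550 := d13_1 D16122 (iv D12550) (iv F57633)
theorem F73327 : act 3 n16122 = n12525 := d26_1 D16122 (iv D12525) D12524
theorem F73328 : act 9 n16122 = n12528 := d41_2 (iv F57635) D16122 (iv D12528)
def n16123 : Q := act 5 n12525
theorem D16123 : act 5 n12525 = n16123 := rfl
theorem F73329 : act 1 n16123 = n12551 := d12_1 D16123 (iv D12551) (iv F57636)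
theorem F73330 : act 2 n16123 = n13398 := d19_1 D16123 (iv D13398) (iv F57637)
theorem F73331 : act 4 n16123 = n16123 := d30_1 D16123 (iv D16123) F57638 F45649 (iv F57638)
theorem F73332 : act 6 n16123 = n16123 := d35_2 D12525 D16123 (iv D16123) (iv D12525) F45645
theorem F73333 : act 9 n16123 = n12529 := d38_2 (iv F57639) D16123 (iv D12529)
def n16124 : Q := act 7 n12525
theorem D16124 : act 7 n12525 = n16124 := rfl
theorem F73334 : act 1 n16124 = n12552 := d14_1 D16124 (iv D12552) (iv F57636)
theorem F73335 : act 2 n16124 = n13399 := d21_1 D16124 (iv D13399) (iv F57637)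
theorem F73336 : act 4 n16124 = n12526 := d32_1 D16124 (iv D12526) (iv F57638)
theorem F73337 : act 9 n16124 = n12530 := d43_2 (iv F57639) D16124 (iv D12530)
def n16125 : Q := act 1 n12527
theorem D16125 : act 1 n12527 = n16125 := rfl
theorem F73338 : act 2 n16125 = n12553 := d9_2 D12527 D16125 (iv D12553) (iv D9791) (iv F45651)
theorem F73339 : act 3 n16125 = n13400 := d10_2 (iv F57644) D16125 (iv D13400)
theorem F73340 : act 5 n16125 = n16125 := d12_2 F57645 D16125 (iv D16125)
theorem F73341 : act 8 n16125 = n12535 := d15_2 (iv F57646) D16125 (iv D12535)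
def n16126 : Q := act 6 n12527
theorem D16126 : act 6 n12527 = n16126 := rfl
theorem F73342 : act 2 n16126 = n12528 := d20_1 D16126 (iv D12528) D12527
theorem F73343 : act 3 n16126 = n13401 := d26_1 D16126 (iv D13401) (iv F57644)
theorem F73344 : act 8 n16126 = n12536 := d40_2 (iv F57646) D16126 (iv D12536)
def n16127 : Q := act 5 n12528
theorem D16127 : act 5 n12528 = n16127 := rfl
theorem F73345 : act 1 n16127 = n12555 := d12_1 D16127 (iv D12555) (iv F57647)
theorem F73346 : act 3 n16127 = n12529 := d25_1 D16127 (iv D12529) (iv F57648)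
theorem F73347 : act 6 n16127 = n16127 := d35_2 D12528 D16127 (iv D16127) (iv D12528) F45652
def n16128 : Q := act 7 n12528
theorem D16128 : act 7 n12528 = n16128 := rfl
theorem F73348 : act 1 n16128 = n12556 := d14_1 D16128 (iv D12556) (iv F57647)
theorem F73349 : act 3 n16128 = n12530 := d27_1 D16128 (iv D12530) (iv F57648)
theorem F73350 : act 8 n16128 = n12538 := d42_2 (iv F57649) D16128 (iv D12538)
def n16129 : Q := act 7 n12529
theorem D16129 : act 7 n12529 = n16129 := rfl
theorem F73351 : act 1 n16129 = n12557 := d14_1 D16129 (iv D12557) (iv F57650)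
theorem F73352 : act 2 n16129 = n13404 := d21_1 D16129 (iv D13404) (iv F57651)
theorem F73353 : act 4 n16129 = n16129 := d32_1 D16129 (iv D16129) F57652
theorem F73354 : act 5 n16129 = n12530 := d36_1 D16129 (iv D12530) D12529
def n16130 : Q := act 8 n12529
theorem D16130 : act 8 n12529 = n16130 := rfl
theorem F73355 : act 1 n16130 = n12558 := d15_1 D16130 (iv D12558) (iv F57650)
theorem F73358 : act 5 n16130 = n12540 := d37_1 D16130 (iv D12540) (iv D9781) (iv F45657) D12529
def n16131 : Q := act 1 n12531
theorem D16131 : act 1 n12531 = n16131 := rfl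
theorem F73360 : act 2 n16131 = n12559 := d9_2 D12531 D16131 (iv D12559) (iv D9795) (iv F45662)
theorem F73361 : act 3 n16131 = n13406 := d10_2 (iv F57658) D16131 (iv D13406)
theorem F73362 : act 5 n16131 = n12858 := d12_2 (iv F57659) D16131 (iv D12858)
def n16132 : Q := act 6 n12531
theorem D16132 : act 6 n12531 = n16132 := rfl
theorem F73364 : act 2 n16132 = n12532 := d20_1 D16132 (iv D12532) D12531
def n16133 : Q := act 5 n12532
theorem D16133 : act 5 n12532 = n16133 := rfl
theorem F73367 : act 3 n16133 = n12533 := d25_1 D16133 (iv D12533) (iv F57662)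
theorem F73368 : act 6 n16133 = n12860 := d35_2 D12532 D16133 (iv D12860) (iv D10018) (iv F45663)
def n16134 : Q := act 7 n12532
theorem D16134 : act 7 n12532 = n16134 := rfl
theorem F73369 : act 1 n16134 = n12562 := d14_1 D16134 (iv D12562) (iv F57661)
theorem F73370 : act 3 n16134 = n12534 := d27_1 D16134 (iv D12534) (iv F57662)
theorem F73371 : act 6 n16134 = n12538 := d39_1 D16134 (iv D12538) (iv D9780) (iv F45664) D12532
def n16135 : Q := act 7 n12533
theorem D16135 : act 7 n12533 = n16135 := rfl
theorem F73372 : act 1 n16135 = n12563 := d14_1 D16135 (iv D12563) (iv F57663)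
theorem F73374 : act 4 n16135 = n16135 := d32_1 D16135 (iv D16135) F57665
theorem F73375 : act 5 n16135 = n12534 := d36_1 D16135 (iv D12534) D12533
def n16136 : Q := act 8 n12533
theorem D16136 : act 8 n12533 = n16136 := rfl
theorem F73376 : act 1 n16136 = n12564 := d15_1 D16136 (iv D12564) (iv F57663)
theorem F73377 : act 2 n16136 = n13411 := d22_1 D16136 (iv D13411) (iv F57664)
theorem F73378 : act 4 n16136 = n16136 := d33_1 D16136 (iv D16136) F57665
theorem F73379 : act 6 n16136 = n12863 := d40_1 D16136 (iv D12863) (iv F57666)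
def n16138 : Q := act 6 n12535
theorem D16138 : act 6 n12535 = n16138 := rfl
theorem F73383 : act 1 n16138 = n12536 := d13_1 D16138 (iv D12536) D12535
theorem F73384 : act 2 n16138 = n12566 := d20_1 D16138 (iv D12566) (iv F57671)
theorem F73385 : act 3 n16138 = n13413 := d26_1 D16138 (iv D13413) (iv F57672)
def n16139 : Q := act 5 n12536
theorem D16139 : act 5 n12536 = n16139 := rfl
theorem F73386 : act 2 n16139 = n12537 := d19_1 D16139 (iv D12537) (iv F57674)
def n16140 : Q := act 7 n12536
theorem D16140 : act 7 n12536 = n16140 := rfl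
theorem F73389 : act 2 n16140 = n12538 := d21_1 D16140 (iv D12538) (iv F57674)
theorem F73390 : act 3 n16140 = n13415 := d27_1 D16140 (iv D13415) (iv F57675)
def n16141 : Q := act 4 n12537
theorem D16141 : act 4 n12537 = n16141 := rfl
theorem F73391 : act 1 n16141 = n12569 := d11_1 D16141 (iv D12569) (iv F57676)
theorem F73392 : act 3 n16141 = n12543 := d24_1 D16141 (iv D12543) F45688 (iv F45678) (iv F57677)
theorem F73393 : act 6 n16141 = n12868 := d31_2 (iv F57678) D16141 (iv D12868)
def n16142 : Q := act 7 n12537
theorem D16142 : act 7 n12537 = n16142 := rfl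
theorem F73394 : act 1 n16142 = n12570 := d14_1 D16142 (iv D12570) (iv F57676)
theorem F73395 : act 3 n16142 = n12539 := d27_1 D16142 (iv D12539) (iv F57677)
theorem F73396 : act 5 n16142 = n12538 := d36_1 D16142 (iv D12538) D12537
def n16143 : Q := act 8 n12537
theorem D16143 : act 8 n12537 = n16143 := rfl
theorem F73397 : act 1 n16143 = n12571 := d15_1 D16143 (iv D12571) (iv F57676)
def n16144 : Q := act 6 n12539
theorem D16144 : act 6 n12539 = n16144 := rfl
theorem F73400 : act 1 n16144 = n12572 := d13_1 D16144 (iv D12572) (iv F57681)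
theorem F73403 : act 7 n16144 = n12871 := d39_2 D12539 D16144 (iv D12871) (iv D10025) (iv F45679)
def n16145 : Q := act 8 n12539
theorem D16145 : act 8 n12539 = n16145 := rfl
theorem F73404 : act 1 n16145 = n12573 := d15_1 D16145 (iv D12573) (iv F57681)
def n16146 : Q := act 9 n12540
theorem D16146 : act 9 n12540 = n16146 := rfl
theorem F73408 : act 1 n16146 = n12574 := d16_1 D16146 (iv D12574) (iv F57685)
def n16147 : Q := act 4 n12541
theorem D16147 : act 4 n12541 = n16147 := rfl
theorem F73414 : act 6 n16147 = n12874 := d31_2 (iv F57692) D16147 (iv D12874)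
def n16150 : Q := act 7 n12543
theorem D16150 : act 7 n12543 = n16150 := rfl
theorem F73424 : act 1 n16150 = n12575 := d14_1 D16150 (iv D12575) (iv F57698)
def n16151 : Q := act 8 n12543
theorem D16151 : act 8 n12543 = n16151 := rfl
theorem F73426 : act 1 n16151 = n12576 := d15_1 D16151 (iv D12576) (iv F57698)
theorem F73428 : act 6 n16151 = n12878 := d40_1 D16151 (iv D12878) (iv F57699)
def n16156 : Q := act 9 n12547
theorem D16156 : act 9 n12547 = n16156 := rfl
theorem F73445 : act 1 n16156 = n12581 := d16_1 D16156 (iv D12581) (iv F57711)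
def n16157 : Q := act 1 n12549
theorem D16157 : act 1 n12549 = n16157 := rfl
theorem F73449 : act 3 n16157 = n12582 := d10_2 (iv F57719) D16157 (iv D12582)
theorem F73450 : act 5 n16157 = n16157 := d12_2 F57720 D16157 (iv D16157)
theorem F73451 : act 9 n16157 = n12553 := d16_2 (iv F57721) D16157 (iv D12553)
def n16158 : Q := act 6 n12549
theorem D16158 : act 6 n12549 = n16158 := rfl
theorem F73452 : act 2 n16158 = n12550 := d20_1 D16158 (iv D12550) D12549
theorem F73453 : act 3 n16158 = n12583 := d26_1 D16158 (iv D12583) (iv F57719)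
theorem F73454 : act 9 n16158 = n12554 := d41_2 (iv F57721) D16158 (iv D12554)
def n16159 : Q := act 5 n12550
theorem D16159 : act 5 n12550 = n16159 := rfl
theorem F73455 : act 3 n16159 = n12551 := d25_1 D16159 (iv D12551) (iv F57722)
theorem F73456 : act 6 n16159 = n16159 := d35_2 D12550 D16159 (iv D16159) (iv D12550) F45701
theorem F73457 : act 9 n16159 = n12555 := d38_2 (iv F57723) D16159 (iv D12555)
def n16160 : Q := act 7 n12550
theorem D16160 : act 7 n12550 = n16160 := rfl
theorem F73458 : act 3 n16160 = n12552 := d27_1 D16160 (iv D12552) (iv F57722)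
theorem F73459 : act 9 n16160 = n12556 := d43_2 (iv F57723) D16160 (iv D12556)
def n16161 : Q := act 7 n12551
theorem D16161 : act 7 n12551 = n16161 := rfl
theorem F73460 : act 2 n16161 = n12586 := d21_1 D16161 (iv D12586) (iv F57724)
theorem F73461 : act 4 n16161 = n16161 := d32_1 D16161 (iv D16161) F57725
theorem F73462 : act 5 n16161 = n12552 := d36_1 D16161 (iv D12552) D12551
theorem F73463 : act 9 n16161 = n12557 := d43_2 (iv F57727) D16161 (iv D12557)
def n16162 : Q := act 8 n12551
theorem D16162 : act 8 n12551 = n16162 := rfl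
theorem F73464 : act 2 n16162 = n12587 := d22_1 D16162 (iv D12587) (iv F57724)
theorem F73465 : act 4 n16162 = n16162 := d33_1 D16162 (iv D16162) F57725
theorem F73466 : act 6 n16162 = n16162 := d40_1 D16162 (iv D16162) F57726
def n16163 : Q := act 0 n12553
theorem D16163 : act 0 n12553 = n16163 := rfl
theorem F73467 : act 3 n16163 = n12588 := d2_2 (iv F57731) D16163 (iv D12588)
theorem F73469 : act 8 n16163 = n12565 := d7_2 (iv F57733) D16163 (iv D12565)
def n16164 : Q := act 6 n12553
theorem D16164 : act 6 n12553 = n16164 := rfl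
theorem F73470 : act 1 n16164 = n12554 := d13_1 D16164 (iv D12554) D12553
theorem F73471 : act 3 n16164 = n12589 := d26_1 D16164 (iv D12589) (iv F57731)
theorem F73472 : act 8 n16164 = n12566 := d40_2 (iv F57733) D16164 (iv D12566)
def n16165 : Q := act 5 n12554
theorem D16165 : act 5 n12554 = n16165 := rfl
theorem F73473 : act 2 n16165 = n12555 := d19_1 D16165 (iv D12555) (iv F57734)
theorem F73474 : act 3 n16165 = n12590 := d25_1 D16165 (iv D12590) (iv F57735)
theorem F73475 : act 6 n16165 = n16165 := d35_2 D12554 D16165 (iv D16165) (iv D12554) F45710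
def n16166 : Q := act 7 n12554
theorem D16166 : act 7 n12554 = n16166 := rfl
theorem F73476 : act 2 n16166 = n12556 := d21_1 D16166 (iv D12556) (iv F57734)
theorem F73477 : act 3 n16166 = n12591 := d27_1 D16166 (iv D12591) (iv F57735)
theorem F73478 : act 8 n16166 = n12568 := d42_2 (iv F57736) D16166 (iv D12568)
def n16167 : Q := act 4 n12555
theorem D16167 : act 4 n12555 = n16167 := rfl
theorem F73479 : act 3 n16167 = n16167 := d24_1 D16167 (iv D16167) F57737 F45715 (iv F57737)
theorem F73480 : act 6 n16167 = n16167 := d31_2 F57738 D16167 (iv D16167)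
def n16168 : Q := act 7 n12555
theorem D16168 : act 7 n12555 = n16168 := rfl
theorem F73481 : act 3 n16168 = n12557 := d27_1 D16168 (iv D12557) (iv F57737)
theorem F73482 : act 5 n16168 = n12556 := d36_1 D16168 (iv D12556) D12555
def n16169 : Q := act 8 n12555
theorem D16169 : act 8 n12555 = n16169 := rfl
theorem F73483 : act 3 n16169 = n12558 := d28_1 D16169 (iv D12558) (iv F57737)
theorem F73484 : act 5 n16169 = n12571 := d37_1 D16169 (iv D12571) (iv D9801) (iv F45713) D12555
theorem F73485 : act 6 n16169 = n16169 := d40_1 D16169 (iv D16169) F57738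
def n16170 : Q := act 6 n12557
theorem D16170 : act 6 n12557 = n16170 := rfl
theorem F73486 : act 2 n16170 = n12595 := d20_1 D16170 (iv D12595) (iv F57741)
theorem F73487 : act 4 n16170 = n16170 := d31_1 D16170 (iv D16170) F57742
theorem F73488 : act 7 n16170 = n16170 := d39_2 D12557 D16170 (iv D16170) (iv D12557) F45716
def n16171 : Q := act 8 n12557
theorem D16171 : act 8 n12557 = n16171 := rfl
theorem F73489 : act 2 n16171 = n12596 := d22_1 D16171 (iv D12596) (iv F57741)
theorem F73490 : act 4 n16171 = n16171 := d33_1 D16171 (iv D16171) F57742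
theorem F73491 : act 5 n16171 = n12573 := d37_1 D16171 (iv D12573) F45739 (iv F45719) (iv F57743)
theorem F73492 : act 7 n16171 = n12558 := d42_1 D16171 (iv D12558) D12557
def n16172 : Q := act 9 n12558
theorem D16172 : act 9 n12558 = n16172 := rfl
theorem F73493 : act 2 n16172 = n12597 := d23_1 D16172 (iv D12597) (iv F57744)
theorem F73494 : act 4 n16172 = n16172 := d34_1 D16172 (iv D16172) F57745
theorem F73495 : act 5 n16172 = n12574 := d38_1 D16172 (iv D12574) (iv F57746)
theorem F73496 : act 6 n16172 = n16172 := d41_1 D16172 (iv D16172) F57747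
def n16173 : Q := act 0 n12559
theorem D16173 : act 0 n12559 = n16173 := rfl
theorem F73498 : act 5 n16173 = n12884 := d4_2 (iv F57749) D16173 (iv D12884)
theorem F73499 : act 7 n16173 = n12565 := d6_2 (iv F57750) D16173 (iv D12565)
def n16174 : Q := act 6 n12559
theorem D16174 : act 6 n12559 = n16174 := rfl
def n16175 : Q := act 5 n12560
theorem D16175 : act 5 n12560 = n16175 := rfl
theorem F73502 : act 2 n16175 = n12561 := d19_1 D16175 (iv D12561) (iv F57751)
theorem F73503 : act 3 n16175 = n12600 := d25_1 D16175 (iv D12600) (iv F57752)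
theorem F73504 : act 6 n16175 = n12886 := d35_2 D12560 D16175 (iv D12886) (iv D10036) (iv F45721)
def n16177 : Q := act 4 n12561
theorem D16177 : act 4 n12561 = n16177 := rfl
theorem F73509 : act 6 n16177 = n12888 := d31_2 (iv F57754) D16177 (iv D12888)
def n16178 : Q := act 7 n12561
theorem D16178 : act 7 n12561 = n16178 := rfl
theorem F73510 : act 3 n16178 = n12563 := d27_1 D16178 (iv D12563) (iv F57753)
theorem F73511 : act 5 n16178 = n12562 := d36_1 D16178 (iv D12562) D12561
def n16179 : Q := act 8 n12561
theorem D16179 : act 8 n12561 = n16179 := rfl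
def n16180 : Q := act 6 n12563
theorem D16180 : act 6 n12563 = n16180 := rfl
theorem F73514 : act 2 n16180 = n12605 := d20_1 D16180 (iv D12605) (iv F57757)
theorem F73515 : act 4 n16180 = n16180 := d31_1 D16180 (iv D16180) F57758
theorem F73516 : act 5 n16180 = n12572 := d35_1 D16180 (iv D12572) F45739 (iv F45729) (iv F57759)
def n16181 : Q := act 8 n12563
theorem D16181 : act 8 n12563 = n16181 := rfl
theorem F73518 : act 2 n16181 = n12606 := d22_1 D16181 (iv D12606) (iv F57757)
theorem F73519 : act 4 n16181 = n16181 := d33_1 D16181 (iv D16181) F57758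
theorem F73520 : act 7 n16181 = n12564 := d42_1 D16181 (iv D12564) D12563
def n16182 : Q := act 9 n12564
theorem D16182 : act 9 n12564 = n16182 := rfl
theorem F73521 : act 2 n16182 = n12607 := d23_1 D16182 (iv D12607) (iv F57760)
theorem F73522 : act 4 n16182 = n16182 := d34_1 D16182 (iv D16182) F57761
theorem F73523 : act 6 n16182 = n12893 := d41_1 D16182 (iv D12893) (iv F57762)
def n16183 : Q := act 6 n12565
theorem D16183 : act 6 n12565 = n16183 := rfl
theorem F73524 : act 0 n16183 = n12566 := d5_1 D16183 (iv D12566) D12565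
def n16184 : Q := act 5 n12566
theorem D16184 : act 5 n12566 = n16184 := rfl
theorem F73526 : act 1 n16184 = n12567 := d12_1 D16184 (iv D12567) (iv F57765)
theorem F73527 : act 3 n16184 = n12609 := d25_1 D16184 (iv D12609) (iv F57766)
theorem F73528 : act 6 n16184 = n12895 := d35_2 D12566 D16184 (iv D12895) (iv D10042) (iv F45731)
def n16185 : Q := act 7 n12566
theorem D16185 : act 7 n12566 = n16185 := rfl
theorem F73529 : act 1 n16185 = n12568 := d14_1 D16185 (iv D12568) (iv F57765)
def n16186 : Q := act 4 n12567
theorem D16186 : act 4 n12567 = n16186 := rfl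
theorem F73531 : act 2 n16186 = n12569 := d18_1 D16186 (iv D12569) (iv F57767)
theorem F73532 : act 3 n16186 = n16186 := d24_1 D16186 (iv D16186) F57768 F45822 (iv F57768)
theorem F73533 : act 6 n16186 = n12897 := d31_2 (iv F57769) D16186 (iv D12897)
def n16187 : Q := act 7 n12567
theorem D16187 : act 7 n12567 = n16187 := rfl
theorem F73534 : act 2 n16187 = n12570 := d21_1 D16187 (iv D12570) (iv F57767)
theorem F73535 : act 3 n16187 = n12611 := d27_1 D16187 (iv D12611) (iv F57768)
theorem F73536 : act 5 n16187 = n12568 := d36_1 D16187 (iv D12568) D12567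
def n16188 : Q := act 8 n12567
theorem D16188 : act 8 n12567 = n16188 := rfl
theorem F73537 : act 2 n16188 = n12571 := d22_1 D16188 (iv D12571) (iv F57767)
theorem F73538 : act 3 n16188 = n12612 := d28_1 D16188 (iv D12612) (iv F57768)
theorem F73539 : act 6 n16188 = n12899 := d40_1 D16188 (iv D12899) (iv F57769)
def n16189 : Q := act 7 n12569
theorem D16189 : act 7 n12569 = n16189 := rfl
theorem F73540 : act 3 n16189 = n12575 := d27_1 D16189 (iv D12575) (iv F57772)
theorem F73541 : act 4 n16189 = n12570 := d32_1 D16189 (iv D12570) D12569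
def n16190 : Q := act 8 n12569
theorem D16190 : act 8 n12569 = n16190 := rfl
theorem F73543 : act 4 n16190 = n12571 := d33_1 D16190 (iv D12571) D12569
theorem F73544 : act 6 n16190 = n12901 := d40_1 D16190 (iv D12901) (iv F57773)
def n16191 : Q := act 6 n12570
theorem D16191 : act 6 n12570 = n16191 := rfl
theorem F73545 : act 3 n16191 = n12572 := d26_1 D16191 (iv D12572) (iv F57774)
theorem F73546 : act 7 n16191 = n12902 := d39_2 D12570 D16191 (iv D12902) (iv D10046) (iv F45735)
def n16192 : Q := act 8 n12570
theorem D16192 : act 8 n12570 = n16192 := rfl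
theorem F73547 : act 3 n16192 = n12573 := d28_1 D16192 (iv D12573) (iv F57774)
theorem F73548 : act 7 n16192 = n12571 := d42_1 D16192 (iv D12571) D12570
def n16193 : Q := act 9 n12571
theorem D16193 : act 9 n12571 = n16193 := rfl
theorem F73549 : act 3 n16193 = n12574 := d29_1 D16193 (iv D12574) (iv F57776)
theorem F73550 : act 6 n16193 = n12904 := d41_1 D16193 (iv D12904) (iv F57777)
def n16194 : Q := act 8 n12572
theorem D16194 : act 8 n12572 = n16194 := rfl
theorem F73551 : act 2 n16194 = n12616 := d22_1 D16194 (iv D12616) (iv F57778)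
theorem F73552 : act 4 n16194 = n12580 := d33_1 D16194 (iv D12580) (iv F57779)
theorem F73553 : act 6 n16194 = n12573 := d40_1 D16194 (iv D12573) D12572
theorem F73554 : act 7 n16194 = n12905 := d42_1 D16194 (iv D12905) (iv F57780)
def n16195 : Q := act 9 n12573
theorem D16195 : act 9 n12573 = n16195 := rfl
theorem F73555 : act 2 n16195 = n12617 := d23_1 D16195 (iv D12617) (iv F57781)
theorem F73556 : act 4 n16195 = n12581 := d34_1 D16195 (iv D12581) (iv F57782)
theorem F73557 : act 7 n16195 = n12574 := d43_1 D16195 (iv D12574) (iv F57783)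
def n16196 : Q := act 6 n12575
theorem D16196 : act 6 n12575 = n16196 := rfl
theorem F73560 : act 7 n16196 = n12907 := d39_2 D12575 D16196 (iv D12907) (iv D10051) (iv F45744)
def n16197 : Q := act 8 n12575
theorem D16197 : act 8 n12575 = n16197 := rfl
theorem F73563 : act 7 n16197 = n12576 := d42_1 D16197 (iv D12576) D12575
def n16198 : Q := act 5 n12576
theorem D16198 : act 5 n12576 = n16198 := rfl
def n16199 : Q := act 9 n12576
theorem D16199 : act 9 n12576 = n16199 := rfl
theorem F73568 : act 6 n16199 = n12910 := d41_1 D16199 (iv D12910) (iv F57791)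
def n16200 : Q := act 8 n12577
theorem D16200 : act 8 n12577 = n16200 := rfl
theorem F73572 : act 7 n16200 = n12911 := d42_1 D16200 (iv D12911) (iv F57795)
def n16201 : Q := act 9 n12578
theorem D16201 : act 9 n12578 = n16201 := rfl
theorem F73574 : act 3 n16201 = n12581 := d29_1 D16201 (iv D12581) (iv F57797)
def n16202 : Q := act 5 n12580
theorem D16202 : act 5 n12580 = n16202 := rfl
theorem F73577 : act 2 n16202 = n12618 := d19_1 D16202 (iv D12618) (iv F57804)
theorem F73579 : act 7 n16202 = n12913 := d36_2 (iv F57806) D16202 (iv D12913)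
def n16203 : Q := act 9 n12580
theorem D16203 : act 9 n12580 = n16203 := rfl
theorem F73581 : act 2 n16203 = n12619 := d23_1 D16203 (iv D12619) (iv F57804)
theorem F73582 : act 6 n16203 = n12581 := d41_1 D16203 (iv D12581) (iv F57805)
def n16204 : Q := act 0 n12582
theorem D16204 : act 0 n12582 = n16204 := rfl
theorem F73584 : act 2 n16204 = n13504 := d1_2 (iv F57810) D16204 (iv D13504)
theorem F73585 : act 4 n16204 = n12620 := d3_2 (iv F57811) D16204 (iv D12620)
theorem F73587 : act 9 n16204 = n12588 := d8_2 (iv F57813) D16204 (iv D12588)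
def n16205 : Q := act 6 n12582
theorem D16205 : act 6 n12582 = n16205 := rfl
theorem F73588 : act 1 n16205 = n12583 := d13_1 D16205 (iv D12583) D12582
theorem F73589 : act 2 n16205 = n13505 := d20_1 D16205 (iv D13505) (iv F57810)
theorem F73590 : act 4 n16205 = n12621 := d31_1 D16205 (iv D12621) (iv F57811)
theorem F73591 : act 9 n16205 = n12589 := d41_2 (iv F57813) D16205 (iv D12589)
def n16206 : Q := act 5 n12583
theorem D16206 : act 5 n12583 = n16206 := rfl
theorem F73592 : act 2 n16206 = n12584 := d19_1 D16206 (iv D12584) (iv F57814)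
theorem F73593 : act 6 n16206 = n16206 := d35_2 D12583 D16206 (iv D16206) (iv D12583) F45762
theorem F73594 : act 9 n16206 = n12590 := d38_2 (iv F57816) D16206 (iv D12590)
def n16207 : Q := act 7 n12583
theorem D16207 : act 7 n12583 = n16207 := rfl
theorem F73595 : act 2 n16207 = n12585 := d21_1 D16207 (iv D12585) (iv F57814)
theorem F73596 : act 4 n16207 = n12623 := d32_1 D16207 (iv D12623) (iv F57815)
theorem F73597 : act 9 n16207 = n12591 := d43_2 (iv F57816) D16207 (iv D12591)
def n16208 : Q := act 4 n12584
theorem D16208 : act 4 n12584 = n16208 := rfl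
theorem F73598 : act 1 n16208 = n13508 := d11_1 D16208 (iv D13508) (iv F57817)
theorem F73599 : act 3 n16208 = n16208 := d24_1 D16208 (iv D16208) F57818 F45769 (iv F57818)
theorem F73600 : act 5 n16208 = n12624 := d30_2 D12584 D16208 (iv D12624) (iv D9840) (iv F45766)
theorem F73601 : act 6 n16208 = n16208 := d31_2 F57819 D16208 (iv D16208)
theorem F73602 : act 9 n16208 = n12592 := d34_2 (iv F57820) D16208 (iv D12592)
def n16209 : Q := act 7 n12584
theorem D16209 : act 7 n12584 = n16209 := rfl
theorem F73603 : act 1 n16209 = n13509 := d14_1 D16209 (iv D13509) (iv F57817)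
theorem F73604 : act 3 n16209 = n12586 := d27_1 D16209 (iv D12586) (iv F57818)
theorem F73605 : act 5 n16209 = n12585 := d36_1 D16209 (iv D12585) D12584
theorem F73606 : act 9 n16209 = n12593 := d43_2 (iv F57820) D16209 (iv D12593)
def n16210 : Q := act 8 n12584
theorem D16210 : act 8 n12584 = n16210 := rfl
theorem F73607 : act 1 n16210 = n13510 := d15_1 D16210 (iv D13510) (iv F57817)
theorem F73608 : act 3 n16210 = n12587 := d28_1 D16210 (iv D12587) (iv F57818)
theorem F73609 : act 6 n16210 = n16210 := d40_1 D16210 (iv D16210) F57819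
def n16211 : Q := act 6 n12586
theorem D16211 : act 6 n12586 = n16211 := rfl
theorem F73610 : act 1 n16211 = n13511 := d13_1 D16211 (iv D13511) (iv F57825)
theorem F73611 : act 4 n16211 = n16211 := d31_1 D16211 (iv D16211) F57826
theorem F73612 : act 7 n16211 = n16211 := d39_2 D12586 D16211 (iv D16211) (iv D12586) F45770
theorem F73613 : act 9 n16211 = n12595 := d41_2 (iv F57828) D16211 (iv D12595)
def n16212 : Q := act 8 n12586
theorem D16212 : act 8 n12586 = n16212 := rfl
theorem F73614 : act 1 n16212 = n13512 := d15_1 D16212 (iv D13512) (iv F57825)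
theorem F73615 : act 4 n16212 = n16212 := d33_1 D16212 (iv D16212) F57826
theorem F73616 : act 7 n16212 = n12587 := d42_1 D16212 (iv D12587) D12586
def n16213 : Q := act 9 n12587
theorem D16213 : act 9 n12587 = n16213 := rfl
theorem F73617 : act 1 n16213 = n13513 := d16_1 D16213 (iv D13513) (iv F57829)
theorem F73618 : act 4 n16213 = n16213 := d34_1 D16213 (iv D16213) F57830
theorem F73619 : act 6 n16213 = n16213 := d41_1 D16213 (iv D16213) F57831
theorem F73620 : act 8 n16213 = n12597 := d44_1 D16213 (iv D12597) (iv D9820) (iv F45771) D12587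
def n16214 : Q := act 6 n12588
theorem D16214 : act 6 n12588 = n16214 := rfl
theorem F73622 : act 2 n16214 = n13514 := d20_1 D16214 (iv D13514) (iv F57832)
theorem F73623 : act 4 n16214 = n12628 := d31_1 D16214 (iv D12628) (iv F57833)
def n16215 : Q := act 5 n12589
theorem D16215 : act 5 n12589 = n16215 := rfl
theorem F73625 : act 1 n16215 = n12590 := d12_1 D16215 (iv D12590) (iv F57836)
theorem F73626 : act 2 n16215 = n13515 := d19_1 D16215 (iv D13515) (iv F57837)
theorem F73627 : act 6 n16215 = n16215 := d35_2 D12589 D16215 (iv D16215) (iv D12589) F45777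
def n16216 : Q := act 7 n12589
theorem D16216 : act 7 n12589 = n16216 := rfl
theorem F73628 : act 1 n16216 = n12591 := d14_1 D16216 (iv D12591) (iv F57836)
theorem F73631 : act 8 n16216 = n12610 := d42_2 (iv F57839) D16216 (iv D12610)
def n16217 : Q := act 4 n12590
theorem D16217 : act 4 n12590 = n16217 := rfl
theorem F73632 : act 2 n16217 = n12592 := d18_1 D16217 (iv D12592) (iv F57840)
theorem F73633 : act 5 n16217 = n12631 := d30_2 D12590 D16217 (iv D12631) (iv D9846) (iv F45780)
def n16218 : Q := act 7 n12590
theorem D16218 : act 7 n12590 = n16218 := rfl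
theorem F73635 : act 2 n16218 = n12593 := d21_1 D16218 (iv D12593) (iv F57840)
theorem F73636 : act 5 n16218 = n12591 := d36_1 D16218 (iv D12591) D12590
def n16219 : Q := act 8 n12590
theorem D16219 : act 8 n12590 = n16219 := rfl
theorem F73637 : act 2 n16219 = n12594 := d22_1 D16219 (iv D12594) (iv F57840)
theorem F73638 : act 5 n16219 = n12612 := d37_1 D16219 (iv D12612) (iv D9829) (iv F45781) D12590
theorem F73639 : act 6 n16219 = n16219 := d40_1 D16219 (iv D16219) F57841
def n16220 : Q := act 7 n12592
theorem D16220 : act 7 n12592 = n16220 := rfl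
theorem F73640 : act 1 n16220 = n13520 := d14_1 D16220 (iv D13520) (iv F57845)
theorem F73641 : act 3 n16220 = n16220 := d27_1 D16220 (iv D16220) F57846
theorem F73642 : act 4 n16220 = n12593 := d32_1 D16220 (iv D12593) D12592
theorem F73643 : act 5 n16220 = n12633 := d36_1 D16220 (iv D12633) (iv F57847)
def n16221 : Q := act 8 n12592
theorem D16221 : act 8 n12592 = n16221 := rfl
theorem F73644 : act 1 n16221 = n13521 := d15_1 D16221 (iv D13521) (iv F57845)
theorem F73645 : act 3 n16221 = n16221 := d28_1 D16221 (iv D16221) F57846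
theorem F73646 : act 4 n16221 = n12594 := d33_1 D16221 (iv D12594) D12592
theorem F73647 : act 5 n16221 = n16221 := d37_1 D16221 (iv D16221) F57847 F45886 (iv F57847)
theorem F73648 : act 6 n16221 = n16221 := d40_1 D16221 (iv D16221) F57848
def n16222 : Q := act 6 n12593
theorem D16222 : act 6 n12593 = n16222 := rfl
theorem F73649 : act 1 n16222 = n13522 := d13_1 D16222 (iv D13522) (iv F57849)
theorem F73650 : act 3 n16222 = n12595 := d26_1 D16222 (iv D12595) (iv F57850)
theorem F73651 : act 7 n16222 = n16222 := d39_2 D12593 D16222 (iv D16222) (iv D12593) F45784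
def n16223 : Q := act 8 n12593
theorem D16223 : act 8 n12593 = n16223 := rfl
theorem F73652 : act 1 n16223 = n13523 := d15_1 D16223 (iv D13523) (iv F57849)
theorem F73653 : act 3 n16223 = n12596 := d28_1 D16223 (iv D12596) (iv F57850)
theorem F73654 : act 5 n16223 = n12614 := d37_1 D16223 (iv D12614) F45829 (iv F45788) (iv F57851)
theorem F73655 : act 7 n16223 = n12594 := d42_1 D16223 (iv D12594) D12593
def n16224 : Q := act 9 n12594
theorem D16224 : act 9 n12594 = n16224 := rfl
theorem F73656 : act 1 n16224 = n13524 := d16_1 D16224 (iv D13524) (iv F57852)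
theorem F73657 : act 3 n16224 = n12597 := d29_1 D16224 (iv D12597) (iv F57853)
theorem F73658 : act 5 n16224 = n12615 := d38_1 D16224 (iv D12615) (iv F57854)
theorem F73659 : act 6 n16224 = n16224 := d41_1 D16224 (iv D16224) F57855
def n16225 : Q := act 8 n12595
theorem D16225 : act 8 n12595 = n16225 := rfl
theorem F73660 : act 1 n16225 = n13525 := d15_1 D16225 (iv D13525) (iv F57856)
theorem F73661 : act 4 n16225 = n16225 := d33_1 D16225 (iv D16225) F57857
theorem F73662 : act 6 n16225 = n12596 := d40_1 D16225 (iv D12596) D12595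
theorem F73663 : act 7 n16225 = n16225 := d42_1 D16225 (iv D16225) F57858
def n16226 : Q := act 9 n12596
theorem D16226 : act 9 n12596 = n16226 := rfl
theorem F73664 : act 1 n16226 = n13526 := d16_1 D16226 (iv D13526) (iv F57859)
theorem F73665 : act 4 n16226 = n16226 := d34_1 D16226 (iv D16226) F57860
theorem F73666 : act 5 n16226 = n12617 := d38_1 D16226 (iv D12617) (iv F57861)
theorem F73667 : act 7 n16226 = n12597 := d43_1 D16226 (iv D12597) (iv F57862)
def n16227 : Q := act 6 n12598
theorem D16227 : act 6 n12598 = n16227 := rfl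
def n16228 : Q := act 5 n12599
theorem D16228 : act 5 n12599 = n16228 := rfl
theorem F73673 : act 6 n16228 = n12916 := d35_2 D12599 D16228 (iv D12916) (iv D10059) (iv F45798)
def n16229 : Q := act 7 n12599
theorem D16229 : act 7 n12599 = n16229 := rfl
theorem F73677 : act 6 n16229 = n12610 := d39_1 D16229 (iv D12610) (iv D9828) (iv F45799) D12599
def n16231 : Q := act 7 n12600
theorem D16231 : act 7 n12600 = n16231 := rfl
theorem F73682 : act 5 n16231 = n12601 := d36_1 D16231 (iv D12601) D12600
def n16232 : Q := act 8 n12600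
theorem D16232 : act 8 n12600 = n16232 := rfl
theorem F73683 : act 2 n16232 = n12604 := d22_1 D16232 (iv D12604) (iv F57874)
def n16234 : Q := act 8 n12602
theorem D16234 : act 8 n12602 = n16234 := rfl
theorem F73691 : act 4 n16234 = n12604 := d33_1 D16234 (iv D12604) D12602
theorem F73693 : act 6 n16234 = n12922 := d40_1 D16234 (iv D12922) (iv F57882)
def n16235 : Q := act 6 n12603
theorem D16235 : act 6 n12603 = n16235 := rfl
theorem F73695 : act 3 n16235 = n12605 := d26_1 D16235 (iv D12605) (iv F57884)
theorem F73696 : act 5 n16235 = n12613 := d35_1 D16235 (iv D12613) F45829 (iv F45808) (iv F57885)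
theorem F73697 : act 7 n16235 = n12923 := d39_2 D12603 D16235 (iv D12923) (iv D10063) (iv F45804)
def n16238 : Q := act 8 n12605
theorem D16238 : act 8 n12605 = n16238 := rfl
theorem F73705 : act 4 n16238 = n16238 := d33_1 D16238 (iv D16238) F57890
theorem F73706 : act 6 n16238 = n12606 := d40_1 D16238 (iv D12606) D12605
theorem F73707 : act 7 n16238 = n12926 := d42_1 D16238 (iv D12926) (iv F57892)
def n16239 : Q := act 9 n12606
theorem D16239 : act 9 n12606 = n16239 := rfl
theorem F73709 : act 4 n16239 = n16239 := d34_1 D16239 (iv D16239) F57894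
theorem F73710 : act 7 n16239 = n12607 := d43_1 D16239 (iv D12607) (iv F57895)
def n16240 : Q := act 5 n12608
theorem D16240 : act 5 n12608 = n16240 := rfl
theorem F73714 : act 6 n16240 = n12928 := d35_2 D12608 D16240 (iv D12928) (iv D10068) (iv F45817)
def n16242 : Q := act 7 n12609
theorem D16242 : act 7 n12609 = n16242 := rfl
theorem F73718 : act 1 n16242 = n12611 := d14_1 D16242 (iv D12611) (iv F57902)
theorem F73721 : act 5 n16242 = n12610 := d36_1 D16242 (iv D12610) D12609
def n16243 : Q := act 8 n12609
theorem D16243 : act 8 n12609 = n16243 := rfl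
theorem F73722 : act 1 n16243 = n12612 := d15_1 D16243 (iv D12612) (iv F57902)
theorem F73724 : act 4 n16243 = n16243 := d33_1 D16243 (iv D16243) F57904
def n16244 : Q := act 6 n12611
theorem D16244 : act 6 n12611 = n16244 := rfl
theorem F73726 : act 2 n16244 = n12613 := d20_1 D16244 (iv D12613) (iv F57909)
def n16245 : Q := act 8 n12611
theorem D16245 : act 8 n12611 = n16245 := rfl
theorem F73729 : act 2 n16245 = n12614 := d22_1 D16245 (iv D12614) (iv F57909)
theorem F73730 : act 4 n16245 = n16245 := d33_1 D16245 (iv D16245) F57910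
theorem F73731 : act 7 n16245 = n12612 := d42_1 D16245 (iv D12612) D12611
def n16246 : Q := act 9 n12612
theorem D16246 : act 9 n12612 = n16246 := rfl
theorem F73732 : act 2 n16246 = n12615 := d23_1 D16246 (iv D12615) (iv F57912)
theorem F73733 : act 4 n16246 = n16246 := d34_1 D16246 (iv D16246) F57913
theorem F73734 : act 6 n16246 = n12934 := d41_1 D16246 (iv D12934) (iv F57914)
def n16247 : Q := act 8 n12613
theorem D16247 : act 8 n12613 = n16247 := rfl
theorem F73735 : act 1 n16247 = n13547 := d15_1 D16247 (iv D13547) (iv F57915)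
theorem F73736 : act 3 n16247 = n12616 := d28_1 D16247 (iv D12616) (iv F57916)
theorem F73737 : act 4 n16247 = n16247 := d33_1 D16247 (iv D16247) F57917
theorem F73738 : act 6 n16247 = n12614 := d40_1 D16247 (iv D12614) D12613
theorem F73739 : act 7 n16247 = n12935 := d42_1 D16247 (iv D12935) (iv F57918)
def n16248 : Q := act 9 n12614
theorem D16248 : act 9 n12614 = n16248 := rfl
theorem F73740 : act 1 n16248 = n13548 := d16_1 D16248 (iv D13548) (iv F57919)
theorem F73741 : act 3 n16248 = n12617 := d29_1 D16248 (iv D12617) (iv F57920)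
theorem F73742 : act 4 n16248 = n16248 := d34_1 D16248 (iv D16248) F57921
theorem F73743 : act 7 n16248 = n12615 := d43_1 D16248 (iv D12615) (iv F57922)
def n16249 : Q := act 5 n12616
theorem D16249 : act 5 n12616 = n16249 := rfl
theorem F73744 : act 1 n16249 = n13549 := d12_1 D16249 (iv D13549) (iv F57927)
theorem F73745 : act 7 n16249 = n12937 := d36_2 (iv F57930) D16249 (iv D12937)
def n16250 : Q := act 9 n12616
theorem D16250 : act 9 n12616 = n16250 := rfl
theorem F73747 : act 4 n16250 = n12619 := d34_1 D16250 (iv D12619) (iv F57928)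
theorem F73748 : act 6 n16250 = n12617 := d41_1 D16250 (iv D12617) (iv F57929)
theorem F73749 : act 7 n16250 = n12938 := d43_1 D16250 (iv D12938) (iv F57930)
def n16251 : Q := act 4 n12618
theorem D16251 : act 4 n12618 = n16251 := rfl
theorem F73750 : act 1 n16251 = n13551 := d11_1 D16251 (iv D13551) (iv F57934)
theorem F73751 : act 6 n16251 = n16251 := d31_2 F57936 D16251 (iv D16251)
theorem F73752 : act 7 n16251 = n12939 := d32_2 (iv F57937) D16251 (iv D12939)
theorem F73753 : act 8 n16251 = n16251 := d33_2 F57938 D16251 (iv D16251)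
def n16252 : Q := act 9 n12618
theorem D16252 : act 9 n12618 = n16252 := rfl
theorem F73754 : act 1 n16252 = n13552 := d16_1 D16252 (iv D13552) (iv F57934)
theorem F73755 : act 3 n16252 = n16252 := d29_1 D16252 (iv D16252) F57935
theorem F73756 : act 5 n16252 = n12619 := d38_1 D16252 (iv D12619) D12618
theorem F73757 : act 6 n16252 = n16252 := d41_1 D16252 (iv D16252) F57936
theorem F73758 : act 7 n16252 = n12940 := d43_1 D16252 (iv D12940) (iv F57937)
def n16253 : Q := act 6 n12620
theorem D16253 : act 6 n12620 = n16253 := rfl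
theorem F73761 : act 9 n16253 = n12628 := d41_2 (iv F57945) D16253 (iv D12628)
def n16254 : Q := act 5 n12621
theorem D16254 : act 5 n12621 = n16254 := rfl
theorem F73764 : act 6 n16254 = n12645 := d35_2 D12621 D16254 (iv D12645) (iv D9862) (iv F45852)
theorem F73765 : act 9 n16254 = n12629 := d38_2 (iv F57948) D16254 (iv D12629)
def n16255 : Q := act 7 n12621
theorem D16255 : act 7 n12621 = n16255 := rfl
theorem F73766 : act 1 n16255 = n12623 := d14_1 D16255 (iv D12623) (iv F57946)
theorem F73768 : act 9 n16255 = n12630 := d43_2 (iv F57948) D16255 (iv D12630)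
def n16256 : Q := act 4 n12622
theorem D16256 : act 4 n12622 = n16256 := rfl
theorem F73770 : act 6 n16256 = n12646 := d31_2 (iv F57950) D16256 (iv D12646)
theorem F73771 : act 9 n16256 = n12631 := d34_2 (iv F57951) D16256 (iv D12631)
def n16257 : Q := act 7 n12622
theorem D16257 : act 7 n12622 = n16257 := rfl
theorem F73773 : act 5 n16257 = n12623 := d36_1 D16257 (iv D12623) D12622
theorem F73775 : act 9 n16257 = n12632 := d43_2 (iv F57951) D16257 (iv D12632)
def n16258 : Q := act 8 n12622
theorem D16258 : act 8 n12622 = n16258 := rfl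
theorem F73777 : act 6 n16258 = n12647 := d40_1 D16258 (iv D12647) (iv F57950)
def n16259 : Q := act 7 n12624
theorem D16259 : act 7 n12624 = n16259 := rfl
theorem F73779 : act 1 n16259 = n13562 := d14_1 D16259 (iv D13562) (iv F57954)
theorem F73780 : act 3 n16259 = n16259 := d27_1 D16259 (iv D16259) F57955
theorem F73781 : act 4 n16259 = n12625 := d32_1 D16259 (iv D12625) D12624
theorem F73782 : act 6 n16259 = n16259 := d39_1 D16259 (iv D16259) F57956 F45946 (iv F57956)
theorem F73783 : act 9 n16259 = n12633 := d43_2 (iv F57957) D16259 (iv D12633)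
def n16260 : Q := act 8 n12624
theorem D16260 : act 8 n12624 = n16260 := rfl
theorem F73784 : act 1 n16260 = n13127 := d15_1 D16260 F59982 (iv F57954)
theorem F73785 : act 3 n16260 = n16260 := d28_1 D16260 (iv D16260) F57955
theorem F73786 : act 4 n16260 = n12626 := d33_1 D16260 (iv D12626) D12624
theorem F73787 : act 6 n16260 = n12648 := d40_1 D16260 (iv D12648) (iv F57956)
theorem F73788 : act 9 n16260 = n16260 := d44_2 (iv F57957) D16260 (iv D16260) F57957 F45886
theorem F73789 : act 5 n13126 = n16260 := d35_5 F73787 F59993 (iv D10227) (iv F47385) D13126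
def n16261 : Q := act 8 n12625
theorem D16261 : act 8 n12625 = n16261 := rfl
theorem F73790 : act 1 n16261 = n13563 := d15_1 D16261 (iv D13563) (iv F57958)
theorem F73791 : act 3 n16261 = n12627 := d28_1 D16261 (iv D12627) (iv F57959)
theorem F73792 : act 6 n16261 = n16261 := d40_1 D16261 (iv D16261) F57961
theorem F73793 : act 7 n16261 = n12626 := d42_1 D16261 (iv D12626) D12625
theorem F73794 : act 9 n16261 = n16261 := d44_2 (iv F57962) D16261 (iv D16261) F57962 F45891
def n16262 : Q := act 5 n12628
theorem D16262 : act 5 n12628 = n16262 := rfl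
theorem F73796 : act 2 n16262 = n13564 := d19_1 D16262 (iv D13564) (iv F57973)
theorem F73797 : act 6 n16262 = n12649 := d35_2 D12628 D16262 (iv D12649) (iv D9866) (iv F45873)
def n16263 : Q := act 7 n12628
theorem D16263 : act 7 n12628 = n16263 := rfl
def n16264 : Q := act 4 n12629
theorem D16264 : act 4 n12629 = n16264 := rfl
theorem F73802 : act 1 n16264 = n12631 := d11_1 D16264 (iv D12631) (iv F57975)
theorem F73804 : act 6 n16264 = n12650 := d31_2 (iv F57977) D16264 (iv D12650)
def n16265 : Q := act 7 n12629
theorem D16265 : act 7 n12629 = n16265 := rfl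
def n16266 : Q := act 3 n12631
theorem D16266 : act 3 n12631 = n16266 := rfl
theorem F73812 : act 6 n16266 = n12651 := d26_2 (iv F57983) D16266 (iv D12651)
def n16267 : Q := act 7 n12631
theorem D16267 : act 7 n12631 = n16267 := rfl
def n16268 : Q := act 5 n12634
theorem D16268 : act 5 n12634 = n16268 := rfl
theorem F73820 : act 6 n16268 = n12641 := d35_2 D12634 D16268 (iv D12641) (iv D9858) (iv F45893)
def n16269 : Q := act 7 n12634
theorem D16269 : act 7 n12634 = n16269 := rfl
def n16274 : Q := act 4 n12641
theorem D16274 : act 4 n12641 = n16274 := rfl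
theorem F73843 : act 5 n16274 = n12955 := d30_2 D12641 D16274 (iv D12955) (iv D10092) (iv F45919)
def n16276 : Q := act 5 n12644
theorem D16276 : act 5 n12644 = n16276 := rfl
theorem F73851 : act 2 n16276 = n13577 := d19_1 D16276 (iv D13577) (iv F58032)
theorem F73853 : act 9 n16276 = n12649 := d38_2 (iv F58036) D16276 (iv D12649)
def n16277 : Q := act 3 n12646
theorem D16277 : act 3 n12646 = n16277 := rfl
theorem F73857 : act 9 n16277 = n12651 := d29_2 (iv F58044) D16277 (iv D12651)
def n16278 : Q := act 4 n12649
theorem D16278 : act 4 n12649 = n16278 := rfl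
theorem F73859 : act 2 n16278 = n13578 := d18_1 D16278 (iv D13578) (iv F58055)
def n16279 : Q := act 3 n12650
theorem D16279 : act 3 n12650 = n16279 := rfl
def n16280 : Q := act 2 n12652
theorem D16280 : act 2 n12652 = n16280 := rfl
theorem F73867 : act 0 n16280 = n12674 := d1_1 D16280 (iv D12674) (iv F58067)
def n16281 : Q := act 6 n12652
theorem D16281 : act 6 n12652 = n16281 := rfl
theorem F73872 : act 0 n16281 = n12675 := d5_1 D16281 (iv D12675) (iv F58067)
def n16282 : Q := act 5 n12653
theorem D16282 : act 5 n12653 = n16282 := rfl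
theorem F73877 : act 0 n16282 = n12676 := d4_1 D16282 (iv D12676) (iv F58071)
def n16283 : Q := act 7 n12653
theorem D16283 : act 7 n12653 = n16283 := rfl
theorem F73882 : act 2 n16283 = n13582 := d21_1 D16283 (iv D13582) (iv F58072)
def n16284 : Q := act 2 n12655
theorem D16284 : act 2 n12655 = n16284 := rfl
theorem F73887 : act 3 n16284 = n13583 := d17_2 D12655 D16284 (iv D13583) (iv D10573) (iv F45977)
theorem F73889 : act 7 n16284 = n12658 := d21_2 (iv F58084) D16284 (iv D12658)
theorem F73890 : act 9 n16284 = n12839 := d23_2 (iv F58085) D16284 (iv D12839)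
def n16285 : Q := act 6 n12655
theorem D16285 : act 6 n12655 = n16285 := rfl
theorem F73891 : act 0 n16285 = n12679 := d5_1 D16285 (iv D12679) (iv F58082)
theorem F73892 : act 3 n16285 = n12656 := d26_1 D16285 (iv D12656) D12655
theorem F73894 : act 9 n16285 = n12840 := d41_2 (iv F58085) D16285 (iv D12840)
def n16286 : Q := act 5 n12656
theorem D16286 : act 5 n12656 = n16286 := rfl
theorem F73895 : act 0 n16286 = n12680 := d4_1 D16286 (iv D12680) (iv F58086)
def n16288 : Q := act 1 n12658
theorem D16288 : act 1 n12658 = n16288 := rfl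
theorem F73904 : act 3 n16288 = n13587 := d10_2 (iv F58097) D16288 (iv D13587)
def n16289 : Q := act 6 n12658
theorem D16289 : act 6 n12658 = n16289 := rfl
theorem F73908 : act 2 n16289 = n12659 := d20_1 D16289 (iv D12659) D12658
theorem F73909 : act 3 n16289 = n13588 := d26_1 D16289 (iv D13588) (iv F58097)
def n16290 : Q := act 5 n12659
theorem D16290 : act 5 n12659 = n16290 := rfl
theorem F73913 : act 3 n16290 = n12660 := d25_1 D16290 (iv D12660) (iv F58101)
theorem F73914 : act 9 n16290 = n12845 := d38_2 (iv F58103) D16290 (iv D12845)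
def n16291 : Q := act 7 n12659
theorem D16291 : act 7 n12659 = n16291 := rfl
def n16292 : Q := act 7 n12660
theorem D16292 : act 7 n12660 = n16292 := rfl
theorem F73920 : act 2 n16292 = n13591 := d21_1 D16292 (iv D13591) (iv F58105)
def n16293 : Q := act 8 n12660
theorem D16293 : act 8 n12660 = n16293 := rfl
def n16294 : Q := act 6 n12662
theorem D16294 : act 6 n12662 = n16294 := rfl
theorem F73929 : act 3 n16294 = n13593 := d26_1 D16294 (iv D13593) (iv F58113)
theorem F73932 : act 9 n16294 = n12849 := d41_2 (iv F58117) D16294 (iv D12849)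
def n16295 : Q := act 5 n12663
theorem D16295 : act 5 n12663 = n16295 := rfl
theorem F73934 : act 2 n16295 = n12664 := d19_1 D16295 (iv D12664) (iv F58119)
theorem F73935 : act 3 n16295 = n13594 := d25_1 D16295 (iv D13594) (iv F58120)
theorem F73936 : act 9 n16295 = n12850 := d38_2 (iv F58123) D16295 (iv D12850)
def n16297 : Q := act 4 n12664
theorem D16297 : act 4 n12664 = n16297 := rfl
theorem F73946 : act 9 n16297 = n12852 := d34_2 (iv F58126) D16297 (iv D12852)
def n16298 : Q := act 7 n12664
theorem D16298 : act 7 n12664 = n16298 := rfl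
theorem F73950 : act 9 n16298 = n12853 := d43_2 (iv F58126) D16298 (iv D12853)
def n16299 : Q := act 8 n12664
theorem D16299 : act 8 n12664 = n16299 := rfl
def n16302 : Q := act 9 n12667
theorem D16302 : act 9 n12667 = n16302 := rfl
theorem F73965 : act 8 n16302 = n12857 := d44_1 D16302 (iv D12857) (iv D10016) (iv F46010) D12667
def n16303 : Q := act 2 n12668
theorem D16303 : act 2 n12668 = n16303 := rfl
theorem F73966 : act 3 n16303 = n13602 := d17_2 D12668 D16303 (iv D13602) (iv D10586) (iv F46018)
theorem F73967 : act 5 n16303 = n12674 := d19_2 (iv F58141) D16303 (iv D12674)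
theorem F73968 : act 9 n16303 = n16303 := d23_2 F58142 D16303 (iv D16303)
def n16304 : Q := act 6 n12668
theorem D16304 : act 6 n12668 = n16304 := rfl
theorem F73969 : act 1 n16304 = n12703 := d13_1 D16304 (iv D12703) (iv F58140)
theorem F73970 : act 3 n16304 = n12669 := d26_1 D16304 (iv D12669) D12668
theorem F73971 : act 9 n16304 = n16304 := d41_2 F58142 D16304 (iv D16304)
def n16305 : Q := act 5 n12669
theorem D16305 : act 5 n12669 = n16305 := rfl
theorem F73972 : act 1 n16305 = n12704 := d12_1 D16305 (iv D12704) (iv F58143)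
theorem F73973 : act 2 n16305 = n13604 := d19_1 D16305 (iv D13604) (iv F58144)
theorem F73974 : act 4 n16305 = n16305 := d30_1 D16305 (iv D16305) F58145 F46023 (iv F58145)
theorem F73975 : act 6 n16305 = n12676 := d35_2 D12669 D16305 (iv D12676) (iv D9885) (iv F46019)
theorem F73976 : act 9 n16305 = n16305 := d38_2 F58146 D16305 (iv D16305)
def n16306 : Q := act 7 n12669
theorem D16306 : act 7 n12669 = n16306 := rfl
theorem F73977 : act 1 n16306 = n12705 := d14_1 D16306 (iv D12705) (iv F58143)
theorem F73978 : act 2 n16306 = n13605 := d21_1 D16306 (iv D13605) (iv F58144)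
theorem F73979 : act 4 n16306 = n12670 := d32_1 D16306 (iv D12670) (iv F58145)
theorem F73980 : act 9 n16306 = n16306 := d43_2 F58146 D16306 (iv D16306)
def n16307 : Q := act 2 n12671
theorem D16307 : act 2 n12671 = n16307 := rfl
theorem F73982 : act 4 n16307 = n16307 := d18_2 F58152 D16307 (iv D16307)
theorem F73983 : act 7 n16307 = n12674 := d21_2 (iv F58153) D16307 (iv D12674)
theorem F73984 : act 8 n16307 = n12678 := d22_2 (iv F58154) D16307 (iv D12678)
theorem F73985 : act 9 n16307 = n16307 := d23_2 F58155 D16307 (iv D16307)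
def n16308 : Q := act 6 n12671
theorem D16308 : act 6 n12671 = n16308 := rfl
theorem F73987 : act 3 n16308 = n12672 := d26_1 D16308 (iv D12672) D12671
theorem F73988 : act 4 n16308 = n16308 := d31_1 D16308 (iv D16308) F58152
theorem F73989 : act 8 n16308 = n12679 := d40_2 (iv F58154) D16308 (iv D12679)
theorem F73990 : act 9 n16308 = n16308 := d41_2 F58155 D16308 (iv D16308)
def n16309 : Q := act 5 n12672
theorem D16309 : act 5 n12672 = n16309 := rfl
theorem F73991 : act 1 n16309 = n12711 := d12_1 D16309 (iv D12711) (iv F58156)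
theorem F73992 : act 2 n16309 = n13608 := d19_1 D16309 (iv D13608) (iv F58157)
theorem F73993 : act 9 n16309 = n16309 := d38_2 F58160 D16309 (iv D16309)
def n16310 : Q := act 7 n12672
theorem D16310 : act 7 n12672 = n16310 := rfl
theorem F73994 : act 1 n16310 = n12712 := d14_1 D16310 (iv D12712) (iv F58156)
theorem F73995 : act 2 n16310 = n13609 := d21_1 D16310 (iv D13609) (iv F58157)
theorem F73997 : act 6 n16310 = n12677 := d39_1 D16310 (iv D12677) (iv D9885) (iv F46027) D12672
def n16311 : Q := act 1 n12674
theorem D16311 : act 1 n12674 = n16311 := rfl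
theorem F74000 : act 2 n16311 = n12713 := d9_2 D12674 D16311 (iv D12713) (iv D9911) (iv F46035)
theorem F74001 : act 3 n16311 = n13610 := d10_2 (iv F58167) D16311 (iv D13610)
theorem F74003 : act 8 n16311 = n12682 := d15_2 (iv F58169) D16311 (iv D12682)
def n16312 : Q := act 6 n12674
theorem D16312 : act 6 n12674 = n16312 := rfl
theorem F74005 : act 2 n16312 = n12675 := d20_1 D16312 (iv D12675) D12674
theorem F74006 : act 3 n16312 = n13611 := d26_1 D16312 (iv D13611) (iv F58167)
def n16313 : Q := act 5 n12675
theorem D16313 : act 5 n12675 = n16313 := rfl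
theorem F74010 : act 1 n16313 = n12715 := d12_1 D16313 (iv D12715) (iv F58171)
theorem F74011 : act 3 n16313 = n12676 := d25_1 D16313 (iv D12676) (iv F58172)
theorem F74012 : act 9 n16313 = n16313 := d38_2 F58175 D16313 (iv D16313)
def n16314 : Q := act 7 n12675
theorem D16314 : act 7 n12675 = n16314 := rfl
theorem F74013 : act 1 n16314 = n12716 := d14_1 D16314 (iv D12716) (iv F58171)
def n16315 : Q := act 7 n12676
theorem D16315 : act 7 n12676 = n16315 := rfl
theorem F74018 : act 1 n16315 = n12717 := d14_1 D16315 (iv D12717) (iv F58176)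
theorem F74021 : act 5 n16315 = n12677 := d36_1 D16315 (iv D12677) D12676
def n16316 : Q := act 8 n12676
theorem D16316 : act 8 n12676 = n16316 := rfl
theorem F74023 : act 1 n16316 = n12718 := d15_1 D16316 (iv D12718) (iv F58176)
theorem F74026 : act 5 n16316 = n12687 := d37_1 D16316 (iv D12687) (iv D9892) (iv F46042) D12676
def n16317 : Q := act 1 n12678
theorem D16317 : act 1 n12678 = n16317 := rfl
theorem F74027 : act 2 n16317 = n12719 := d9_2 D12678 D16317 (iv D12719) (iv D9915) (iv F46050)
theorem F74028 : act 3 n16317 = n13616 := d10_2 (iv F58185) D16317 (iv D13616)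
theorem F74030 : act 7 n16317 = n12682 := d14_2 (iv F58187) D16317 (iv D12682)
def n16318 : Q := act 6 n12678
theorem D16318 : act 6 n12678 = n16318 := rfl
theorem F74032 : act 2 n16318 = n12679 := d20_1 D16318 (iv D12679) D12678
theorem F74033 : act 3 n16318 = n13617 := d26_1 D16318 (iv D13617) (iv F58185)
def n16319 : Q := act 5 n12679
theorem D16319 : act 5 n12679 = n16319 := rfl
theorem F74037 : act 3 n16319 = n12680 := d25_1 D16319 (iv D12680) (iv F58190)
def n16320 : Q := act 7 n12679
theorem D16320 : act 7 n12679 = n16320 := rfl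
theorem F74042 : act 6 n16320 = n12685 := d39_1 D16320 (iv D12685) (iv D9891) (iv F46052) D12679
theorem F74043 : act 9 n16320 = n12861 := d43_2 (iv F58192) D16320 (iv D12861)
def n16321 : Q := act 7 n12680
theorem D16321 : act 7 n12680 = n16321 := rfl
theorem F74047 : act 5 n16321 = n12681 := d36_1 D16321 (iv D12681) D12680
def n16322 : Q := act 8 n12680
theorem D16322 : act 8 n12680 = n16322 := rfl
theorem F74049 : act 1 n16322 = n12724 := d15_1 D16322 (iv D12724) (iv F58193)
theorem F74051 : act 4 n16322 = n16322 := d33_1 D16322 (iv D16322) F58195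
def n16323 : Q := act 0 n12682
theorem D16323 : act 0 n12682 = n16323 := rfl
theorem F74055 : act 9 n16323 = n12864 := d8_2 (iv F58205) D16323 (iv D12864)
def n16324 : Q := act 6 n12682
theorem D16324 : act 6 n12682 = n16324 := rfl
theorem F74057 : act 2 n16324 = n12726 := d20_1 D16324 (iv D12726) (iv F58202)
theorem F74058 : act 3 n16324 = n13623 := d26_1 D16324 (iv D13623) (iv F58203)
theorem F74060 : act 9 n16324 = n12865 := d41_2 (iv F58205) D16324 (iv D12865)
def n16325 : Q := act 5 n12683
theorem D16325 : act 5 n12683 = n16325 := rfl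
theorem F74061 : act 2 n16325 = n12684 := d19_1 D16325 (iv D12684) (iv F58206)
theorem F74062 : act 3 n16325 = n13624 := d25_1 D16325 (iv D13624) (iv F58207)
def n16326 : Q := act 7 n12683
theorem D16326 : act 7 n12683 = n16326 := rfl
theorem F74064 : act 2 n16326 = n12685 := d21_1 D16326 (iv D12685) (iv F58206)
theorem F74065 : act 3 n16326 = n13625 := d27_1 D16326 (iv D13625) (iv F58207)
def n16327 : Q := act 4 n12684
theorem D16327 : act 4 n12684 = n16327 := rfl
theorem F74068 : act 1 n16327 = n12729 := d11_1 D16327 (iv D12729) (iv F58210)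
theorem F74071 : act 9 n16327 = n12868 := d34_2 (iv F58212) D16327 (iv D12868)
def n16328 : Q := act 7 n12684
theorem D16328 : act 7 n12684 = n16328 := rfl
theorem F74072 : act 1 n16328 = n12730 := d14_1 D16328 (iv D12730) (iv F58210)
theorem F74073 : act 3 n16328 = n12686 := d27_1 D16328 (iv D12686) (iv F58211)
def n16329 : Q := act 8 n12684
theorem D16329 : act 8 n12684 = n16329 := rfl
theorem F74076 : act 1 n16329 = n12731 := d15_1 D16329 (iv D12731) (iv F58210)
def n16330 : Q := act 6 n12686
theorem D16330 : act 6 n12686 = n16330 := rfl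
theorem F74078 : act 1 n16330 = n12732 := d13_1 D16330 (iv D12732) (iv F58217)
def n16331 : Q := act 8 n12686
theorem D16331 : act 8 n12686 = n16331 := rfl
theorem F74082 : act 1 n16331 = n12733 := d15_1 D16331 (iv D12733) (iv F58217)
theorem F74083 : act 2 n16331 = n13630 := d22_1 D16331 (iv D13630) (iv F58218)
def n16332 : Q := act 9 n12687
theorem D16332 : act 9 n12687 = n16332 := rfl
theorem F74086 : act 1 n16332 = n12734 := d16_1 D16332 (iv D12734) (iv F58222)
def n16334 : Q := act 7 n12688
theorem D16334 : act 7 n12688 = n16334 := rfl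
theorem F74095 : act 2 n16334 = n12691 := d21_1 D16334 (iv D12691) (iv F58226)
theorem F74096 : act 3 n16334 = n13633 := d27_1 D16334 (iv D13633) (iv F58227)
def n16336 : Q := act 7 n12690
theorem D16336 : act 7 n12690 = n16336 := rfl
theorem F74103 : act 1 n16336 = n12735 := d14_1 D16336 (iv D12735) (iv F58236)
theorem F74106 : act 9 n16336 = n12877 := d43_2 (iv F58238) D16336 (iv D12877)
def n16337 : Q := act 8 n12690
theorem D16337 : act 8 n12690 = n16337 := rfl
theorem F74107 : act 1 n16337 = n12736 := d15_1 D16337 (iv D12736) (iv F58236)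
theorem F74108 : act 4 n16337 = n12692 := d33_1 D16337 (iv D12692) D12690
def n16338 : Q := act 6 n12691
theorem D16338 : act 6 n12691 = n16338 := rfl
theorem F74109 : act 1 n16338 = n12737 := d13_1 D16338 (iv D12737) (iv F58239)
theorem F74110 : act 3 n16338 = n12693 := d26_1 D16338 (iv D12693) (iv F58240)
def n16339 : Q := act 8 n12691
theorem D16339 : act 8 n12691 = n16339 := rfl
theorem F74113 : act 1 n16339 = n12738 := d15_1 D16339 (iv D12738) (iv F58239)
def n16341 : Q := act 8 n12693
theorem D16341 : act 8 n12693 = n16341 := rfl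
theorem F74121 : act 1 n16341 = n12740 := d15_1 D16341 (iv D12740) (iv F58246)
theorem F74122 : act 2 n16341 = n13640 := d22_1 D16341 (iv D13640) (iv F58247)
def n16343 : Q := act 2 n12696
theorem D16343 : act 2 n12696 = n16343 := rfl
theorem F74129 : act 3 n16343 = n16343 := d17_2 D12696 D16343 (iv D16343) (iv D12696) F46101
theorem F74130 : act 4 n16343 = n12702 := d18_2 (iv F58258) D16343 (iv D12702)
theorem F74131 : act 5 n16343 = n16343 := d19_2 F58259 D16343 (iv D16343)
theorem F74132 : act 9 n16343 = n16343 := d23_2 F58260 D16343 (iv D16343)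
def n16344 : Q := act 6 n12696
theorem D16344 : act 6 n12696 = n16344 := rfl
theorem F74133 : act 3 n16344 = n12697 := d26_1 D16344 (iv D12697) D12696
theorem F74134 : act 4 n16344 = n12703 := d31_1 D16344 (iv D12703) (iv F58258)
theorem F74135 : act 9 n16344 = n16344 := d41_2 F58260 D16344 (iv D16344)
def n16345 : Q := act 5 n12697
theorem D16345 : act 5 n12697 = n16345 := rfl
theorem F74136 : act 2 n16345 = n16345 := d19_1 D16345 (iv D16345) F58261
theorem F74137 : act 4 n16345 = n16345 := d30_1 D16345 (iv D16345) F58262 F46106 (iv F58262)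
theorem F74138 : act 6 n16345 = n16345 := d35_2 D12697 D16345 (iv D16345) (iv D12697) F46102
theorem F74139 : act 9 n16345 = n16345 := d38_2 F58263 D16345 (iv D16345)
def n16346 : Q := act 7 n12697
theorem D16346 : act 7 n12697 = n16346 := rfl
theorem F74140 : act 2 n16346 = n16346 := d21_1 D16346 (iv D16346) F58261
theorem F74141 : act 4 n16346 = n12698 := d32_1 D16346 (iv D12698) (iv F58262)
theorem F74142 : act 9 n16346 = n16346 := d43_2 F58263 D16346 (iv D16346)
def n16347 : Q := act 2 n12699
theorem D16347 : act 2 n12699 = n16347 := rfl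
theorem F74144 : act 5 n16347 = n12709 := d19_2 (iv F58268) D16347 (iv D12709)
theorem F74145 : act 7 n16347 = n12702 := d21_2 (iv F58269) D16347 (iv D12702)
def n16348 : Q := act 6 n12699
theorem D16348 : act 6 n12699 = n16348 := rfl
theorem F74147 : act 3 n16348 = n12700 := d26_1 D16348 (iv D12700) D12699
theorem F74148 : act 9 n16348 = n16348 := d41_2 F58270 D16348 (iv D16348)
def n16349 : Q := act 5 n12700
theorem D16349 : act 5 n12700 = n16349 := rfl
theorem F74149 : act 2 n16349 = n12747 := d19_1 D16349 (iv D12747) (iv F58271)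
theorem F74150 : act 6 n16349 = n12711 := d35_2 D12700 D16349 (iv D12711) (iv D9909) (iv F46109)
theorem F74151 : act 9 n16349 = n16349 := d38_2 F58273 D16349 (iv D16349)
def n16350 : Q := act 7 n12700
theorem D16350 : act 7 n12700 = n16350 := rfl
theorem F74152 : act 2 n16350 = n12748 := d21_1 D16350 (iv D12748) (iv F58271)
theorem F74153 : act 4 n16350 = n12701 := d32_1 D16350 (iv D12701) (iv F58272)
theorem F74154 : act 6 n16350 = n12705 := d39_1 D16350 (iv D12705) (iv D9904) (iv F46110) D12700
theorem F74155 : act 9 n16350 = n16350 := d43_2 F58273 D16350 (iv D16350)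
def n16351 : Q := act 1 n12702
theorem D16351 : act 1 n12702 = n16351 := rfl
theorem F74156 : act 3 n16351 = n12749 := d10_2 (iv F58277) D16351 (iv D12749)
theorem F74157 : act 5 n16351 = n12713 := d12_2 (iv F58278) D16351 (iv D12713)
theorem F74158 : act 9 n16351 = n16351 := d16_2 F58279 D16351 (iv D16351)
def n16352 : Q := act 6 n12702
theorem D16352 : act 6 n12702 = n16352 := rfl
theorem F74159 : act 2 n16352 = n12703 := d20_1 D16352 (iv D12703) D12702
theorem F74160 : act 3 n16352 = n12750 := d26_1 D16352 (iv D12750) (iv F58277)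
theorem F74161 : act 9 n16352 = n16352 := d41_2 F58279 D16352 (iv D16352)
def n16353 : Q := act 5 n12703
theorem D16353 : act 5 n12703 = n16353 := rfl
theorem F74162 : act 3 n16353 = n12704 := d25_1 D16353 (iv D12704) (iv F58280)
theorem F74163 : act 6 n16353 = n12715 := d35_2 D12703 D16353 (iv D12715) (iv D9912) (iv F46114)
theorem F74164 : act 9 n16353 = n16353 := d38_2 F58281 D16353 (iv D16353)
def n16354 : Q := act 7 n12703
theorem D16354 : act 7 n12703 = n16354 := rfl
theorem F74165 : act 3 n16354 = n12705 := d27_1 D16354 (iv D12705) (iv F58280)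
theorem F74166 : act 9 n16354 = n16354 := d43_2 F58281 D16354 (iv D16354)
def n16355 : Q := act 7 n12704
theorem D16355 : act 7 n12704 = n16355 := rfl
theorem F74167 : act 2 n16355 = n12753 := d21_1 D16355 (iv D12753) (iv F58282)
theorem F74168 : act 4 n16355 = n16355 := d32_1 D16355 (iv D16355) F58283
theorem F74169 : act 5 n16355 = n12705 := d36_1 D16355 (iv D12705) D12704
theorem F74170 : act 9 n16355 = n16355 := d43_2 F58285 D16355 (iv D16355)
def n16356 : Q := act 8 n12704
theorem D16356 : act 8 n12704 = n16356 := rfl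
theorem F74171 : act 2 n16356 = n12754 := d22_1 D16356 (iv D12754) (iv F58282)
theorem F74172 : act 4 n16356 = n16356 := d33_1 D16356 (iv D16356) F58283
theorem F74173 : act 6 n16356 = n12718 := d40_1 D16356 (iv D12718) (iv F58284)
def n16359 : Q := act 5 n12707
theorem D16359 : act 5 n12707 = n16359 := rfl
theorem F74185 : act 4 n16359 = n12711 := d30_1 D16359 (iv D12711) F46136 (iv F46128) (iv F58294)
def n16361 : Q := act 1 n12709
theorem D16361 : act 1 n12709 = n16361 := rfl
theorem F74192 : act 3 n16361 = n12759 := d10_2 (iv F58303) D16361 (iv D12759)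
theorem F74194 : act 7 n16361 = n12713 := d14_2 (iv F58305) D16361 (iv D12713)
def n16362 : Q := act 6 n12709
theorem D16362 : act 6 n12709 = n16362 := rfl
theorem F74197 : act 2 n16362 = n12710 := d20_1 D16362 (iv D12710) D12709
theorem F74198 : act 3 n16362 = n12760 := d26_1 D16362 (iv D12760) (iv F58303)
theorem F74200 : act 8 n16362 = n12720 := d40_2 (iv F58306) D16362 (iv D12720)
def n16363 : Q := act 5 n12710
theorem D16363 : act 5 n12710 = n16363 := rfl
def n16364 : Q := act 7 n12710
theorem D16364 : act 7 n12710 = n16364 := rfl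
theorem F74204 : act 3 n16364 = n12712 := d27_1 D16364 (iv D12712) (iv F58308)
def n16365 : Q := act 7 n12711
theorem D16365 : act 7 n12711 = n16365 := rfl
theorem F74210 : act 5 n16365 = n12712 := d36_1 D16365 (iv D12712) D12711
def n16366 : Q := act 8 n12711
theorem D16366 : act 8 n12711 = n16366 := rfl
theorem F74212 : act 2 n16366 = n12764 := d22_1 D16366 (iv D12764) (iv F58312)
theorem F74213 : act 5 n16366 = n12724 := d37_1 D16366 (iv D12724) (iv D9917) (iv F46137) D12711
def n16367 : Q := act 0 n12713
theorem D16367 : act 0 n12713 = n16367 := rfl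
theorem F74214 : act 3 n16367 = n12765 := d2_2 (iv F58319) D16367 (iv D12765)
def n16368 : Q := act 6 n12713
theorem D16368 : act 6 n12713 = n16368 := rfl
theorem F74218 : act 1 n16368 = n12714 := d13_1 D16368 (iv D12714) D12713
theorem F74221 : act 8 n16368 = n12726 := d40_2 (iv F58321) D16368 (iv D12726)
def n16369 : Q := act 5 n12714
theorem D16369 : act 5 n12714 = n16369 := rfl
theorem F74223 : act 2 n16369 = n12715 := d19_1 D16369 (iv D12715) (iv F58323)
theorem F74224 : act 3 n16369 = n12767 := d25_1 D16369 (iv D12767) (iv F58324)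
theorem F74225 : act 9 n16369 = n16369 := d38_2 F58327 D16369 (iv D16369)
def n16370 : Q := act 7 n12714
theorem D16370 : act 7 n12714 = n16370 := rfl
theorem F74229 : act 8 n16370 = n12728 := d42_2 (iv F58326) D16370 (iv D12728)
def n16371 : Q := act 4 n12715
theorem D16371 : act 4 n12715 = n16371 := rfl
theorem F74231 : act 3 n16371 = n16371 := d24_1 D16371 (iv D16371) F58328 F46153 (iv F58328)
theorem F74232 : act 5 n16371 = n16371 := d30_2 D12715 D16371 (iv D16371) (iv D12715) F46149
theorem F74233 : act 9 n16371 = n16371 := d34_2 F58329 D16371 (iv D16371)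
def n16372 : Q := act 7 n12715
theorem D16372 : act 7 n12715 = n16372 := rfl
theorem F74234 : act 3 n16372 = n12717 := d27_1 D16372 (iv D12717) (iv F58328)
theorem F74235 : act 5 n16372 = n12716 := d36_1 D16372 (iv D12716) D12715
def n16373 : Q := act 8 n12715
theorem D16373 : act 8 n12715 = n16373 := rfl
theorem F74237 : act 3 n16373 = n12718 := d28_1 D16373 (iv D12718) (iv F58328)
theorem F74238 : act 5 n16373 = n12731 := d37_1 D16373 (iv D12731) (iv D9921) (iv F46150) D12715
def n16374 : Q := act 6 n12717
theorem D16374 : act 6 n12717 = n16374 := rfl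
theorem F74239 : act 2 n16374 = n12772 := d20_1 D16374 (iv D12772) (iv F58334)
theorem F74240 : act 4 n16374 = n16374 := d31_1 D16374 (iv D16374) F58335
theorem F74241 : act 9 n16374 = n16374 := d41_2 F58337 D16374 (iv D16374)
def n16375 : Q := act 8 n12717
theorem D16375 : act 8 n12717 = n16375 := rfl
theorem F74244 : act 5 n16375 = n12733 := d37_1 D16375 (iv D12733) F46187 (iv F46157) (iv F58336)
theorem F74245 : act 7 n16375 = n12718 := d42_1 D16375 (iv D12718) D12717
def n16376 : Q := act 9 n12718
theorem D16376 : act 9 n12718 = n16376 := rfl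
theorem F74246 : act 2 n16376 = n12774 := d23_1 D16376 (iv D12774) (iv F58338)
theorem F74247 : act 4 n16376 = n16376 := d34_1 D16376 (iv D16376) F58339
theorem F74248 : act 5 n16376 = n12734 := d38_1 D16376 (iv D12734) (iv F58340)
theorem F74249 : act 8 n16376 = n16376 := d44_1 D16376 (iv D16376) (iv D12718) F46154 D12718
def n16377 : Q := act 0 n12719
theorem D16377 : act 0 n12719 = n16377 := rfl
theorem F74250 : act 3 n16377 = n12775 := d2_2 (iv F58341) D16377 (iv D12775)
theorem F74252 : act 7 n16377 = n12725 := d6_2 (iv F58343) D16377 (iv D12725)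
def n16378 : Q := act 6 n12719
theorem D16378 : act 6 n12719 = n16378 := rfl
theorem F74255 : act 3 n16378 = n12776 := d26_1 D16378 (iv D12776) (iv F58341)
def n16379 : Q := act 5 n12720
theorem D16379 : act 5 n12720 = n16379 := rfl
theorem F74258 : act 2 n16379 = n12721 := d19_1 D16379 (iv D12721) (iv F58345)
theorem F74259 : act 3 n16379 = n12777 := d25_1 D16379 (iv D12777) (iv F58346)
theorem F74260 : act 9 n16379 = n12886 := d38_2 (iv F58348) D16379 (iv D12886)
def n16380 : Q := act 7 n12720
theorem D16380 : act 7 n12720 = n16380 := rfl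
theorem F74261 : act 2 n16380 = n12722 := d21_1 D16380 (iv D12722) (iv F58345)
theorem F74262 : act 3 n16380 = n12778 := d27_1 D16380 (iv D12778) (iv F58346)
theorem F74264 : act 6 n16380 = n12728 := d39_1 D16380 (iv D12728) (iv D9920) (iv F46161) D12720
theorem F74265 : act 9 n16380 = n12887 := d43_2 (iv F58348) D16380 (iv D12887)
def n16381 : Q := act 4 n12721
theorem D16381 : act 4 n12721 = n16381 := rfl
def n16382 : Q := act 7 n12721
theorem D16382 : act 7 n12721 = n16382 := rfl
theorem F74269 : act 3 n16382 = n12723 := d27_1 D16382 (iv D12723) (iv F58349)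
def n16384 : Q := act 6 n12723
theorem D16384 : act 6 n12723 = n16384 := rfl
theorem F74273 : act 2 n16384 = n12782 := d20_1 D16384 (iv D12782) (iv F58355)
theorem F74275 : act 5 n16384 = n12732 := d35_1 D16384 (iv D12732) F46187 (iv F46171) (iv F58357)
def n16385 : Q := act 8 n12723
theorem D16385 : act 8 n12723 = n16385 := rfl
theorem F74277 : act 2 n16385 = n12783 := d22_1 D16385 (iv D12783) (iv F58355)
theorem F74278 : act 4 n16385 = n16385 := d33_1 D16385 (iv D16385) F58356
theorem F74279 : act 7 n16385 = n12724 := d42_1 D16385 (iv D12724) D12723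
def n16386 : Q := act 9 n12724
theorem D16386 : act 9 n12724 = n16386 := rfl
theorem F74280 : act 2 n16386 = n12784 := d23_1 D16386 (iv D12784) (iv F58359)
theorem F74281 : act 4 n16386 = n16386 := d34_1 D16386 (iv D16386) F58360
theorem F74282 : act 8 n16386 = n12893 := d44_1 D16386 (iv D12893) (iv D10040) (iv F46168) D12724
def n16387 : Q := act 6 n12725
theorem D16387 : act 6 n12725 = n16387 := rfl
def n16388 : Q := act 5 n12726
theorem D16388 : act 5 n12726 = n16388 := rfl
theorem F74287 : act 1 n16388 = n12727 := d12_1 D16388 (iv D12727) (iv F58364)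
theorem F74289 : act 9 n16388 = n12895 := d38_2 (iv F58367) D16388 (iv D12895)
def n16389 : Q := act 7 n12726
theorem D16389 : act 7 n12726 = n16389 := rfl
def n16390 : Q := act 4 n12727
theorem D16390 : act 4 n12727 = n16390 := rfl
theorem F74294 : act 2 n16390 = n12729 := d18_1 D16390 (iv D12729) (iv F58368)
theorem F74295 : act 3 n16390 = n16390 := d24_1 D16390 (iv D16390) F58369 F46327 (iv F58369)
theorem F74296 : act 5 n16390 = n16390 := d30_2 D12727 D16390 (iv D16390) (iv D12727) F46178
theorem F74297 : act 9 n16390 = n12897 := d34_2 (iv F58370) D16390 (iv D12897)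
def n16391 : Q := act 7 n12727
theorem D16391 : act 7 n12727 = n16391 := rfl
theorem F74300 : act 5 n16391 = n12728 := d36_1 D16391 (iv D12728) D12727
def n16392 : Q := act 8 n12727
theorem D16392 : act 8 n12727 = n16392 := rfl
theorem F74302 : act 2 n16392 = n12731 := d22_1 D16392 (iv D12731) (iv F58368)
theorem F74303 : act 3 n16392 = n12789 := d28_1 D16392 (iv D12789) (iv F58369)
def n16393 : Q := act 7 n12729
theorem D16393 : act 7 n12729 = n16393 := rfl
def n16394 : Q := act 8 n12729
theorem D16394 : act 8 n12729 = n16394 := rfl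
theorem F74308 : act 3 n16394 = n12736 := d28_1 D16394 (iv D12736) (iv F58375)
theorem F74309 : act 4 n16394 = n12731 := d33_1 D16394 (iv D12731) D12729
def n16395 : Q := act 6 n12730
theorem D16395 : act 6 n12730 = n16395 := rfl
def n16396 : Q := act 8 n12730
theorem D16396 : act 8 n12730 = n16396 := rfl
theorem F74312 : act 3 n16396 = n12733 := d28_1 D16396 (iv D12733) (iv F58378)
theorem F74313 : act 7 n16396 = n12731 := d42_1 D16396 (iv D12731) D12730
def n16397 : Q := act 9 n12731
theorem D16397 : act 9 n12731 = n16397 := rfl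
theorem F74314 : act 3 n16397 = n12734 := d29_1 D16397 (iv D12734) (iv F58381)
theorem F74315 : act 8 n16397 = n12904 := d44_1 D16397 (iv D12904) (iv D10047) (iv F46181) D12731
def n16398 : Q := act 8 n12732
theorem D16398 : act 8 n12732 = n16398 := rfl
theorem F74318 : act 6 n16398 = n12733 := d40_1 D16398 (iv D12733) D12732
def n16399 : Q := act 9 n12733
theorem D16399 : act 9 n12733 = n16399 := rfl
theorem F74321 : act 7 n16399 = n12734 := d43_1 D16399 (iv D12734) (iv F58387)
def n16401 : Q := act 8 n12735
theorem D16401 : act 8 n12735 = n16401 := rfl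
theorem F74328 : act 7 n16401 = n12736 := d42_1 D16401 (iv D12736) D12735
def n16402 : Q := act 5 n12736
theorem D16402 : act 5 n12736 = n16402 := rfl
theorem F74329 : act 2 n16402 = n16402 := d19_1 D16402 (iv D16402) F58395
theorem F74330 : act 4 n16402 = n16402 := d30_1 D16402 (iv D16402) F58396 F46200 (iv F58396)
theorem F74331 : act 8 n16402 = n16402 := d37_2 D12736 D16402 (iv D16402) (iv D12736) F46192
def n16403 : Q := act 9 n12736
theorem D16403 : act 9 n12736 = n16403 := rfl
theorem F74334 : act 8 n16403 = n12910 := d44_1 D16403 (iv D12910) (iv D10052) (iv F46193) D12736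
def n16404 : Q := act 8 n12737
theorem D16404 : act 8 n12737 = n16404 := rfl
def n16406 : Q := act 5 n12740
theorem D16406 : act 5 n12740 = n16406 := rfl
def n16409 : Q := act 6 n12742
theorem D16409 : act 6 n12742 = n16409 := rfl
def n16410 : Q := act 5 n12743
theorem D16410 : act 5 n12743 = n16410 := rfl
theorem F74359 : act 4 n16410 = n12747 := d30_1 D16410 (iv D12747) F46224 (iv F46216) (iv F58421)
theorem F74360 : act 6 n16410 = n12757 := d35_2 D12743 D16410 (iv D12757) (iv D9941) (iv F46211)
def n16411 : Q := act 7 n12743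
theorem D16411 : act 7 n12743 = n16411 := rfl
theorem F74362 : act 1 n16411 = n13707 := d14_1 D16411 (iv D13707) (iv F58420)
theorem F74363 : act 4 n16411 = n12744 := d32_1 D16411 (iv D12744) (iv F58421)
theorem F74364 : act 6 n16411 = n16411 := d39_1 D16411 (iv D16411) (iv D12743) F46212 D12743
theorem F74365 : act 9 n16411 = n16411 := d43_2 F58422 D16411 (iv D16411)
def n16412 : Q := act 1 n12745
theorem D16412 : act 1 n12745 = n16412 := rfl
theorem F74368 : act 5 n16412 = n12759 := d12_2 (iv F58429) D16412 (iv D12759)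
theorem F74369 : act 7 n16412 = n12749 := d14_2 (iv F58430) D16412 (iv D12749)
def n16413 : Q := act 6 n12745
theorem D16413 : act 6 n12745 = n16413 := rfl
def n16414 : Q := act 5 n12746
theorem D16414 : act 5 n12746 = n16414 := rfl
theorem F74376 : act 6 n16414 = n12761 := d35_2 D12746 D16414 (iv D12761) (iv D9944) (iv F46220)
def n16415 : Q := act 7 n12746
theorem D16415 : act 7 n12746 = n16415 := rfl
theorem F74379 : act 3 n16415 = n12748 := d27_1 D16415 (iv D12748) (iv F58433)
theorem F74380 : act 4 n16415 = n16415 := d32_1 D16415 (iv D16415) F58434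
theorem F74381 : act 6 n16415 = n12752 := d39_1 D16415 (iv D12752) (iv D9937) (iv F46221) D12746
theorem F74382 : act 9 n16415 = n16415 := d43_2 F58435 D16415 (iv D16415)
def n16416 : Q := act 7 n12747
theorem D16416 : act 7 n12747 = n16416 := rfl
theorem F74384 : act 5 n16416 = n12748 := d36_1 D16416 (iv D12748) D12747
theorem F74385 : act 9 n16416 = n16416 := d43_2 F58438 D16416 (iv D16416)
def n16417 : Q := act 8 n12747
theorem D16417 : act 8 n12747 = n16417 := rfl
theorem F74387 : act 6 n16417 = n12764 := d40_1 D16417 (iv D12764) (iv F58437)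
def n16418 : Q := act 0 n12749
theorem D16418 : act 0 n12749 = n16418 := rfl
theorem F74388 : act 2 n16418 = n13714 := d1_2 (iv F58443) D16418 (iv D13714)
theorem F74390 : act 5 n16418 = n12765 := d4_2 (iv F58445) D16418 (iv D12765)
def n16419 : Q := act 6 n12749
theorem D16419 : act 6 n12749 = n16419 := rfl
theorem F74392 : act 1 n16419 = n12750 := d13_1 D16419 (iv D12750) D12749
def n16420 : Q := act 5 n12750
theorem D16420 : act 5 n12750 = n16420 := rfl
theorem F74396 : act 2 n16420 = n12751 := d19_1 D16420 (iv D12751) (iv F58447)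
theorem F74397 : act 6 n16420 = n12767 := d35_2 D12750 D16420 (iv D12767) (iv D9948) (iv F46231)
theorem F74398 : act 9 n16420 = n16420 := d38_2 F58449 D16420 (iv D16420)
def n16421 : Q := act 7 n12750
theorem D16421 : act 7 n12750 = n16421 := rfl
theorem F74399 : act 2 n16421 = n12752 := d21_1 D16421 (iv D12752) (iv F58447)
theorem F74400 : act 4 n16421 = n16421 := d32_1 D16421 (iv D16421) F58448
theorem F74401 : act 9 n16421 = n16421 := d43_2 F58449 D16421 (iv D16421)
def n16422 : Q := act 4 n12751
theorem D16422 : act 4 n12751 = n16422 := rfl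
theorem F74402 : act 1 n16422 = n13718 := d11_1 D16422 (iv D13718) (iv F58450)
theorem F74403 : act 3 n16422 = n16422 := d24_1 D16422 (iv D16422) F58451 F46238 (iv F58451)
theorem F74404 : act 5 n16422 = n16422 := d30_2 D12751 D16422 (iv D16422) (iv D12751) F46235
theorem F74405 : act 6 n16422 = n12769 := d31_2 (iv F58452) D16422 (iv D12769)
theorem F74406 : act 9 n16422 = n16422 := d34_2 F58453 D16422 (iv D16422)
def n16423 : Q := act 7 n12751
theorem D16423 : act 7 n12751 = n16423 := rfl
theorem F74407 : act 1 n16423 = n13719 := d14_1 D16423 (iv D13719) (iv F58450)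
theorem F74408 : act 3 n16423 = n12753 := d27_1 D16423 (iv D12753) (iv F58451)
theorem F74409 : act 5 n16423 = n12752 := d36_1 D16423 (iv D12752) D12751
theorem F74410 : act 9 n16423 = n16423 := d43_2 F58453 D16423 (iv D16423)
def n16424 : Q := act 8 n12751
theorem D16424 : act 8 n12751 = n16424 := rfl
theorem F74411 : act 1 n16424 = n13720 := d15_1 D16424 (iv D13720) (iv F58450)
theorem F74412 : act 3 n16424 = n12754 := d28_1 D16424 (iv D12754) (iv F58451)
theorem F74413 : act 6 n16424 = n12771 := d40_1 D16424 (iv D12771) (iv F58452)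
def n16425 : Q := act 6 n12753
theorem D16425 : act 6 n12753 = n16425 := rfl
theorem F74414 : act 1 n16425 = n13721 := d13_1 D16425 (iv D13721) (iv F58458)
theorem F74415 : act 4 n16425 = n16425 := d31_1 D16425 (iv D16425) F58459
theorem F74416 : act 7 n16425 = n12772 := d39_2 D12753 D16425 (iv D12772) (iv D9951) (iv F46239)
theorem F74417 : act 9 n16425 = n16425 := d41_2 F58461 D16425 (iv D16425)
def n16426 : Q := act 8 n12753
theorem D16426 : act 8 n12753 = n16426 := rfl
theorem F74418 : act 1 n16426 = n13722 := d15_1 D16426 (iv D13722) (iv F58458)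
theorem F74419 : act 4 n16426 = n16426 := d33_1 D16426 (iv D16426) F58459
theorem F74420 : act 7 n16426 = n12754 := d42_1 D16426 (iv D12754) D12753
def n16427 : Q := act 9 n12754
theorem D16427 : act 9 n12754 = n16427 := rfl
theorem F74421 : act 1 n16427 = n13723 := d16_1 D16427 (iv D13723) (iv F58462)
theorem F74422 : act 4 n16427 = n16427 := d34_1 D16427 (iv D16427) F58463
theorem F74423 : act 6 n16427 = n12774 := d41_1 D16427 (iv D12774) (iv F58464)
theorem F74424 : act 8 n16427 = n16427 := d44_1 D16427 (iv D16427) (iv D12754) F46240 D12754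
def n16429 : Q := act 5 n12756
theorem D16429 : act 5 n12756 = n16429 := rfl
theorem F74430 : act 1 n16429 = n13724 := d12_1 D16429 (iv D13724) (iv F58470)
def n16432 : Q := act 8 n12757
theorem D16432 : act 8 n12757 = n16432 := rfl
theorem F74444 : act 4 n16432 = n12764 := d33_1 D16432 (iv D12764) (iv F58476)
def n16433 : Q := act 0 n12759
theorem D16433 : act 0 n12759 = n16433 := rfl
theorem F74447 : act 4 n16433 = n12802 := d3_2 (iv F58484) D16433 (iv D12802)
theorem F74448 : act 7 n16433 = n12765 := d6_2 (iv F58485) D16433 (iv D12765)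
def n16434 : Q := act 6 n12759
theorem D16434 : act 6 n12759 = n16434 := rfl
theorem F74453 : act 4 n16434 = n12803 := d31_1 D16434 (iv D12803) (iv F58484)
def n16435 : Q := act 5 n12760
theorem D16435 : act 5 n12760 = n16435 := rfl
def n16436 : Q := act 7 n12760
theorem D16436 : act 7 n12760 = n16436 := rfl
theorem F74459 : act 4 n16436 = n12805 := d32_1 D16436 (iv D12805) (iv F58489)
theorem F74460 : act 6 n16436 = n12768 := d39_1 D16436 (iv D12768) (iv D9948) (iv F46260) D12760
def n16437 : Q := act 4 n12761
theorem D16437 : act 4 n12761 = n16437 := rfl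
theorem F74464 : act 5 n16437 = n12806 := d30_2 D12761 D16437 (iv D12806) (iv D9976) (iv F46265)
def n16440 : Q := act 6 n12763
theorem D16440 : act 6 n12763 = n16440 := rfl
theorem F74474 : act 5 n16440 = n12772 := d35_1 D16440 (iv D12772) F46293 (iv F46272) (iv F58502)
def n16441 : Q := act 8 n12763
theorem D16441 : act 8 n12763 = n16441 := rfl
theorem F74477 : act 5 n16441 = n12783 := d37_1 D16441 (iv D12783) F46315 (iv F46273) (iv F58502)
def n16442 : Q := act 9 n12764
theorem D16442 : act 9 n12764 = n16442 := rfl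
theorem F74480 : act 5 n16442 = n12784 := d38_1 D16442 (iv D12784) (iv F58505)
def n16443 : Q := act 6 n12765
theorem D16443 : act 6 n12765 = n16443 := rfl
def n16444 : Q := act 5 n12766
theorem D16444 : act 5 n12766 = n16444 := rfl
theorem F74487 : act 1 n16444 = n12767 := d12_1 D16444 (iv D12767) (iv F58510)
def n16445 : Q := act 7 n12766
theorem D16445 : act 7 n12766 = n16445 := rfl
def n16446 : Q := act 4 n12767
theorem D16446 : act 4 n12767 = n16446 := rfl
theorem F74495 : act 2 n16446 = n12769 := d18_1 D16446 (iv D12769) (iv F58515)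
def n16447 : Q := act 7 n12767
theorem D16447 : act 7 n12767 = n16447 := rfl
theorem F74498 : act 2 n16447 = n12770 := d21_1 D16447 (iv D12770) (iv F58515)
theorem F74499 : act 5 n16447 = n12768 := d36_1 D16447 (iv D12768) D12767
def n16448 : Q := act 8 n12767
theorem D16448 : act 8 n12767 = n16448 := rfl
theorem F74501 : act 2 n16448 = n12771 := d22_1 D16448 (iv D12771) (iv F58515)
theorem F74502 : act 5 n16448 = n12789 := d37_1 D16448 (iv D12789) (iv D9961) (iv F46281) D12767
def n16449 : Q := act 7 n12769
theorem D16449 : act 7 n12769 = n16449 := rfl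
theorem F74505 : act 4 n16449 = n12770 := d32_1 D16449 (iv D12770) D12769
def n16450 : Q := act 8 n12769
theorem D16450 : act 8 n12769 = n16450 := rfl
theorem F74508 : act 1 n16450 = n13745 := d15_1 D16450 (iv D13745) (iv F58521)
theorem F74509 : act 3 n16450 = n16450 := d28_1 D16450 (iv D16450) F58522
theorem F74510 : act 4 n16450 = n12771 := d33_1 D16450 (iv D12771) D12769
theorem F74511 : act 5 n16450 = n16450 := d37_1 D16450 (iv D16450) F58523 F46427 (iv F58523)
def n16451 : Q := act 6 n12770
theorem D16451 : act 6 n12770 = n16451 := rfl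
theorem F74513 : act 3 n16451 = n12772 := d26_1 D16451 (iv D12772) (iv F58526)
def n16452 : Q := act 8 n12770
theorem D16452 : act 8 n12770 = n16452 := rfl
theorem F74515 : act 1 n16452 = n13747 := d15_1 D16452 (iv D13747) (iv F58525)
theorem F74516 : act 3 n16452 = n12773 := d28_1 D16452 (iv D12773) (iv F58526)
theorem F74517 : act 5 n16452 = n12791 := d37_1 D16452 (iv D12791) F46335 (iv F46289) (iv F58527)
theorem F74518 : act 7 n16452 = n12771 := d42_1 D16452 (iv D12771) D12770
def n16453 : Q := act 9 n12771
theorem D16453 : act 9 n12771 = n16453 := rfl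
theorem F74519 : act 1 n16453 = n13748 := d16_1 D16453 (iv D13748) (iv F58529)
theorem F74520 : act 3 n16453 = n12774 := d29_1 D16453 (iv D12774) (iv F58530)
theorem F74521 : act 5 n16453 = n12792 := d38_1 D16453 (iv D12792) (iv F58531)
theorem F74522 : act 8 n16453 = n16453 := d44_1 D16453 (iv D16453) (iv D12771) F46285 D12771
def n16454 : Q := act 8 n12772
theorem D16454 : act 8 n12772 = n16454 := rfl
theorem F74523 : act 1 n16454 = n13749 := d15_1 D16454 (iv D13749) (iv F58532)
theorem F74524 : act 4 n16454 = n16454 := d33_1 D16454 (iv D16454) F58533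
theorem F74525 : act 6 n16454 = n12773 := d40_1 D16454 (iv D12773) D12772
def n16455 : Q := act 9 n12773
theorem D16455 : act 9 n12773 = n16455 := rfl
theorem F74526 : act 1 n16455 = n13750 := d16_1 D16455 (iv D13750) (iv F58535)
theorem F74527 : act 4 n16455 = n16455 := d34_1 D16455 (iv D16455) F58536
theorem F74528 : act 5 n16455 = n12794 := d38_1 D16455 (iv D12794) (iv F58537)
theorem F74529 : act 7 n16455 = n12774 := d43_1 D16455 (iv D12774) (iv F58538)
theorem F74530 : act 8 n16455 = n16455 := d44_1 D16455 (iv D16455) (iv D12773) F46294 D12773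
def n16456 : Q := act 6 n12775
theorem D16456 : act 6 n12775 = n16456 := rfl
theorem F74533 : act 4 n16456 = n12819 := d31_1 D16456 (iv D12819) (iv F58544)
def n16457 : Q := act 5 n12776
theorem D16457 : act 5 n12776 = n16457 := rfl
def n16458 : Q := act 7 n12776
theorem D16458 : act 7 n12776 = n16458 := rfl
theorem F74540 : act 4 n16458 = n12821 := d32_1 D16458 (iv D12821) (iv F58549)
theorem F74541 : act 6 n16458 = n12787 := d39_1 D16458 (iv D12787) (iv D9960) (iv F46300) D12776
def n16459 : Q := act 4 n12777
theorem D16459 : act 4 n12777 = n16459 := rfl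
theorem F74544 : act 5 n16459 = n12822 := d30_2 D12777 D16459 (iv D12822) (iv D9989) (iv F46303)
def n16460 : Q := act 7 n12777
theorem D16460 : act 7 n12777 = n16460 := rfl
theorem F74547 : act 5 n16460 = n12778 := d36_1 D16460 (iv D12778) D12777
def n16462 : Q := act 7 n12779
theorem D16462 : act 7 n12779 = n16462 := rfl
theorem F74552 : act 4 n16462 = n12780 := d32_1 D16462 (iv D12780) D12779
theorem F74553 : act 5 n16462 = n12825 := d36_1 D16462 (iv D12825) (iv F58559)
def n16463 : Q := act 8 n12779
theorem D16463 : act 8 n12779 = n16463 := rfl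
theorem F74557 : act 4 n16463 = n12781 := d33_1 D16463 (iv D12781) D12779
def n16464 : Q := act 6 n12780
theorem D16464 : act 6 n12780 = n16464 := rfl
theorem F74559 : act 3 n16464 = n12782 := d26_1 D16464 (iv D12782) (iv F58562)
theorem F74560 : act 5 n16464 = n12790 := d35_1 D16464 (iv D12790) F46335 (iv F46311) (iv F58563)
def n16465 : Q := act 8 n12780
theorem D16465 : act 8 n12780 = n16465 := rfl
theorem F74563 : act 3 n16465 = n12783 := d28_1 D16465 (iv D12783) (iv F58562)
def n16467 : Q := act 8 n12782
theorem D16467 : act 8 n12782 = n16467 := rfl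
theorem F74568 : act 1 n16467 = n13762 := d15_1 D16467 (iv D13762) (iv F58567)
theorem F74569 : act 4 n16467 = n16467 := d33_1 D16467 (iv D16467) F58568
theorem F74570 : act 6 n16467 = n12783 := d40_1 D16467 (iv D12783) D12782
def n16468 : Q := act 9 n12783
theorem D16468 : act 9 n12783 = n16468 := rfl
theorem F74574 : act 8 n16468 = n12927 := d44_1 D16468 (iv D12927) (iv D10066) (iv F46316) D12783
def n16469 : Q := act 5 n12785
theorem D16469 : act 5 n12785 = n16469 := rfl
def n16470 : Q := act 7 n12785
theorem D16470 : act 7 n12785 = n16470 := rfl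
def n16471 : Q := act 7 n12786
theorem D16471 : act 7 n12786 = n16471 := rfl
theorem F74583 : act 1 n16471 = n12788 := d14_1 D16471 (iv D12788) (iv F58581)
theorem F74586 : act 5 n16471 = n12787 := d36_1 D16471 (iv D12787) D12786
def n16472 : Q := act 8 n12786
theorem D16472 : act 8 n12786 = n16472 := rfl
theorem F74588 : act 1 n16472 = n12789 := d15_1 D16472 (iv D12789) (iv F58581)
def n16473 : Q := act 6 n12788
theorem D16473 : act 6 n12788 = n16473 := rfl
theorem F74591 : act 2 n16473 = n12790 := d20_1 D16473 (iv D12790) (iv F58589)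
def n16474 : Q := act 8 n12788
theorem D16474 : act 8 n12788 = n16474 := rfl
theorem F74594 : act 2 n16474 = n12791 := d22_1 D16474 (iv D12791) (iv F58589)
theorem F74596 : act 7 n16474 = n12789 := d42_1 D16474 (iv D12789) D12788
def n16475 : Q := act 9 n12789
theorem D16475 : act 9 n12789 = n16475 := rfl
theorem F74597 : act 2 n16475 = n12792 := d23_1 D16475 (iv D12792) (iv F58593)
theorem F74598 : act 4 n16475 = n16475 := d34_1 D16475 (iv D16475) F58594
theorem F74599 : act 8 n16475 = n12934 := d44_1 D16475 (iv D12934) (iv D10072) (iv F46328) D12789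
def n16476 : Q := act 8 n12790
theorem D16476 : act 8 n12790 = n16476 := rfl
theorem F74600 : act 1 n16476 = n13771 := d15_1 D16476 (iv D13771) (iv F58595)
theorem F74601 : act 3 n16476 = n12793 := d28_1 D16476 (iv D12793) (iv F58596)
theorem F74602 : act 4 n16476 = n16476 := d33_1 D16476 (iv D16476) F58597
theorem F74603 : act 6 n16476 = n12791 := d40_1 D16476 (iv D12791) D12790
def n16477 : Q := act 9 n12791
theorem D16477 : act 9 n12791 = n16477 := rfl
theorem F74604 : act 1 n16477 = n13772 := d16_1 D16477 (iv D13772) (iv F58599)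
theorem F74605 : act 3 n16477 = n12794 := d29_1 D16477 (iv D12794) (iv F58600)
theorem F74606 : act 4 n16477 = n16477 := d34_1 D16477 (iv D16477) F58601
theorem F74607 : act 7 n16477 = n12792 := d43_1 D16477 (iv D12792) (iv F58602)
theorem F74608 : act 8 n16477 = n12936 := d44_1 D16477 (iv D12936) (iv D10074) (iv F46336) D12791
def n16478 : Q := act 5 n12793
theorem D16478 : act 5 n12793 = n16478 := rfl
def n16479 : Q := act 9 n12793
theorem D16479 : act 9 n12793 = n16479 := rfl
theorem F74611 : act 4 n16479 = n12796 := d34_1 D16479 (iv D12796) (iv F58608)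
theorem F74612 : act 6 n16479 = n12794 := d41_1 D16479 (iv D12794) (iv F58609)
theorem F74613 : act 8 n16479 = n12938 := d44_1 D16479 (iv D12938) (iv D10076) (iv F46342) D12793
def n16480 : Q := act 4 n12795
theorem D16480 : act 4 n12795 = n16480 := rfl
theorem F74615 : act 6 n16480 = n16480 := d31_2 F58616 D16480 (iv D16480)
theorem F74616 : act 8 n16480 = n16480 := d33_2 F58617 D16480 (iv D16480)
def n16481 : Q := act 9 n12795
theorem D16481 : act 9 n12795 = n16481 := rfl
theorem F74618 : act 3 n16481 = n16481 := d29_1 D16481 (iv D16481) F58615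
theorem F74619 : act 5 n16481 = n12796 := d38_1 D16481 (iv D12796) D12795
theorem F74620 : act 6 n16481 = n16481 := d41_1 D16481 (iv D16481) F58616
def n16486 : Q := act 8 n12798
theorem D16486 : act 8 n12798 = n16486 := rfl
theorem F74641 : act 3 n16486 = n12801 := d28_1 D16486 (iv D12801) (iv F58628)
def n16489 : Q := act 9 n12801
theorem D16489 : act 9 n12801 = n16489 := rfl
theorem F74657 : act 4 n16489 = n12811 := d34_1 D16489 (iv D12811) (iv F58643)
def n16490 : Q := act 6 n12802
theorem D16490 : act 6 n12802 = n16490 := rfl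
theorem F74664 : act 8 n16490 = n12819 := d40_2 (iv F58650) D16490 (iv D12819)
def n16491 : Q := act 5 n12803
theorem D16491 : act 5 n12803 = n16491 := rfl
def n16492 : Q := act 7 n12803
theorem D16492 : act 7 n12803 = n16492 := rfl
theorem F74674 : act 6 n16492 = n12814 := d39_1 D16492 (iv D12814) (iv D9981) (iv F46381) D12803
def n16493 : Q := act 4 n12804
theorem D16493 : act 4 n12804 = n16493 := rfl
def n16494 : Q := act 7 n12804
theorem D16494 : act 7 n12804 = n16494 := rfl
theorem F74682 : act 5 n16494 = n12805 := d36_1 D16494 (iv D12805) D12804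
def n16495 : Q := act 8 n12804
theorem D16495 : act 8 n12804 = n16495 := rfl
theorem F74686 : act 5 n16495 = n12824 := d37_1 D16495 (iv D12824) (iv D9989) (iv F46386) D12804
def n16497 : Q := act 8 n12806
theorem D16497 : act 8 n12806 = n16497 := rfl
theorem F74692 : act 4 n16497 = n12808 := d33_1 D16497 (iv D12808) D12806
def n16499 : Q := act 8 n12807
theorem D16499 : act 8 n12807 = n16499 := rfl
theorem F74702 : act 7 n16499 = n12808 := d42_1 D16499 (iv D12808) D12807
def n16500 : Q := act 9 n12808
theorem D16500 : act 9 n12808 = n16500 := rfl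
theorem F74705 : act 5 n16500 = n12828 := d38_1 D16500 (iv D12828) (iv F58675)
def n16502 : Q := act 9 n12810
theorem D16502 : act 9 n12810 = n16502 := rfl
theorem F74716 : act 7 n16502 = n12811 := d43_1 D16502 (iv D12811) (iv F58685)
def n16506 : Q := act 7 n12813
theorem D16506 : act 7 n12813 = n16506 := rfl
theorem F74737 : act 5 n16506 = n12814 := d36_1 D16506 (iv D12814) D12813
def n16507 : Q := act 3 n12815
theorem D16507 : act 3 n12815 = n16507 := rfl
def n16508 : Q := act 7 n12815
theorem D16508 : act 7 n12815 = n16508 := rfl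
theorem F74746 : act 4 n16508 = n12816 := d32_1 D16508 (iv D12816) D12815
def n16509 : Q := act 6 n12816
theorem D16509 : act 6 n12816 = n16509 := rfl
def n16511 : Q := act 5 n12819
theorem D16511 : act 5 n12819 = n16511 := rfl
theorem F74761 : act 2 n16511 = n13804 := d19_1 D16511 (iv D13804) (iv F58727)
def n16512 : Q := act 7 n12819
theorem D16512 : act 7 n12819 = n16512 := rfl
def n16513 : Q := act 4 n12820
theorem D16513 : act 4 n12820 = n16513 := rfl
theorem F74770 : act 1 n16513 = n12822 := d11_1 D16513 (iv D12822) (iv F58730)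
theorem F74771 : act 2 n16513 = n13806 := d18_1 D16513 (iv D13806) (iv F58731)
def n16514 : Q := act 7 n12820
theorem D16514 : act 7 n12820 = n16514 := rfl
theorem F74777 : act 5 n16514 = n12821 := d36_1 D16514 (iv D12821) D12820
def n16515 : Q := act 8 n12820
theorem D16515 : act 8 n12820 = n16515 := rfl
theorem F74780 : act 1 n16515 = n12824 := d15_1 D16515 (iv D12824) (iv F58730)
theorem F74783 : act 6 n16515 = n12833 := d40_1 D16515 (iv D12833) (iv F58733)
def n16517 : Q := act 7 n12822
theorem D16517 : act 7 n12822 = n16517 := rfl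
def n16518 : Q := act 8 n12822
theorem D16518 : act 8 n12822 = n16518 := rfl
def n16519 : Q := act 8 n12823
theorem D16519 : act 8 n12823 = n16519 := rfl
theorem F74798 : act 7 n16519 = n12824 := d42_1 D16519 (iv D12824) D12823
def n16520 : Q := act 9 n12824
theorem D16520 : act 9 n12824 = n16520 := rfl
def n16521 : Q := act 8 n12825
theorem D16521 : act 8 n12825 = n16521 := rfl
theorem F74807 : act 7 n16521 = n12826 := d42_1 D16521 (iv D12826) D12825
def n16523 : Q := act 9 n12826
theorem D16523 : act 9 n12826 = n16523 := rfl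
theorem F74810 : act 1 n16523 = n13816 := d16_1 D16523 (iv D13816) (iv F58756)
def n16524 : Q := act 9 n12827
theorem D16524 : act 9 n12827 = n16524 := rfl
theorem F74818 : act 7 n16524 = n12828 := d43_1 D16524 (iv D12828) (iv F58763)
def n16526 : Q := act 8 n12831
theorem D16526 : act 8 n12831 = n16526 := rfl
theorem F74825 : act 2 n16526 = n13819 := d22_1 D16526 (iv D13819) (iv F58780)
def n16529 : Q := act 9 n12833
theorem D16529 : act 9 n12833 = n16529 := rfl
theorem F74838 : act 2 n16529 = n13822 := d23_1 D16529 (iv D13822) (iv F58789)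
def n16535 : Q := act 1 n12839
theorem D16535 : act 1 n12839 = n16535 := rfl
theorem F74863 : act 3 n16535 = n13828 := d10_2 (iv F58815) D16535 (iv D13828)
theorem F74865 : act 7 n16535 = n12843 := d14_2 (iv F58817) D16535 (iv D12843)
def n16536 : Q := act 6 n12839
theorem D16536 : act 6 n12839 = n16536 := rfl
theorem F74869 : act 3 n16536 = n13829 := d26_1 D16536 (iv D13829) (iv F58815)
def n16537 : Q := act 5 n12840
theorem D16537 : act 5 n12840 = n16537 := rfl
theorem F74873 : act 3 n16537 = n12841 := d25_1 D16537 (iv D12841) (iv F58820)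
def n16538 : Q := act 7 n12840
theorem D16538 : act 7 n12840 = n16538 := rfl
theorem F74877 : act 6 n16538 = n12846 := d39_1 D16538 (iv D12846) (iv D10008) (iv F46518) D12840
def n16539 : Q := act 7 n12841
theorem D16539 : act 7 n12841 = n16539 := rfl
theorem F74879 : act 0 n16539 = n12862 := d6_1 D16539 (iv D12862) (iv F58823)
theorem F74882 : act 5 n16539 = n12842 := d36_1 D16539 (iv D12842) D12841
def n16540 : Q := act 8 n12841
theorem D16540 : act 8 n12841 = n16540 := rfl
theorem F74884 : act 2 n16540 = n13833 := d22_1 D16540 (iv D13833) (iv F58824)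
def n16541 : Q := act 0 n12843
theorem D16541 : act 0 n12843 = n16541 := rfl
theorem F74888 : act 3 n16541 = n13834 := d2_2 (iv F58831) D16541 (iv D13834)
def n16542 : Q := act 6 n12843
theorem D16542 : act 6 n12843 = n16542 := rfl
theorem F74891 : act 1 n16542 = n12844 := d13_1 D16542 (iv D12844) D12843
theorem F74892 : act 3 n16542 = n13835 := d26_1 D16542 (iv D13835) (iv F58831)
def n16543 : Q := act 5 n12844
theorem D16543 : act 5 n12844 = n16543 := rfl
theorem F74896 : act 2 n16543 = n12845 := d19_1 D16543 (iv D12845) (iv F58835)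
theorem F74897 : act 3 n16543 = n13836 := d25_1 D16543 (iv D13836) (iv F58836)
def n16544 : Q := act 7 n12844
theorem D16544 : act 7 n12844 = n16544 := rfl
theorem F74899 : act 2 n16544 = n12846 := d21_1 D16544 (iv D12846) (iv F58835)
theorem F74900 : act 3 n16544 = n13837 := d27_1 D16544 (iv D13837) (iv F58836)
def n16545 : Q := act 4 n12845
theorem D16545 : act 4 n12845 = n16545 := rfl
theorem F74904 : act 3 n16545 = n12852 := d24_1 D16545 (iv D12852) F46556 (iv F46540) (iv F58840)
def n16546 : Q := act 7 n12845
theorem D16546 : act 7 n12845 = n16546 := rfl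
def n16547 : Q := act 8 n12845
theorem D16547 : act 8 n12845 = n16547 := rfl
def n16548 : Q := act 6 n12847
theorem D16548 : act 6 n12847 = n16548 := rfl
def n16550 : Q := act 9 n12848
theorem D16550 : act 9 n12848 = n16550 := rfl
def n16551 : Q := act 5 n12849
theorem D16551 : act 5 n12849 = n16551 := rfl
theorem F74925 : act 1 n16551 = n12850 := d12_1 D16551 (iv D12850) (iv F58854)
theorem F74926 : act 2 n16551 = n13900 := d19_1 D16551 F70311 F70307
theorem F74927 : act 3 n16551 = n13844 := d25_1 D16551 (iv D13844) (iv F58855)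
theorem F74928 : act 8 n16551 = n13896 := d37_2 (iv F58857) D16551 F63067 (iv F66008) (iv D12963)
theorem F74929 : act 4 n13898 = n16551 := d33_3 F74928 (iv D13896) D13898
def n16553 : Q := act 4 n12850
theorem D16553 : act 4 n12850 = n16553 := rfl
theorem F74936 : act 0 n16553 = n12874 := d3_1 D16553 (iv D12874) (iv F58858)
theorem F74937 : act 1 n16553 = n13898 := d11_1 D16553 F74929 F74925
theorem F74938 : act 2 n16553 = n12852 := d18_1 D16553 (iv D12852) (iv F58859)
theorem F74940 : act 3 n13938 = n16553 := d10_0 F74937 F63074 (iv F63227)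
theorem F74941 : act 8 n13894 = n16553 := d15_0 F74937 (iv D13898) (iv F63058)
def n16554 : Q := act 7 n12850
theorem D16554 : act 7 n12850 = n16554 := rfl
theorem F74943 : act 2 n16554 = n12853 := d21_1 D16554 (iv D12853) (iv F58859)
theorem F74944 : act 3 n16554 = n13847 := d27_1 D16554 (iv D13847) (iv F58860)
def n16555 : Q := act 8 n12850
theorem D16555 : act 8 n12850 = n16555 := rfl
theorem F74948 : act 2 n16555 = n12854 := d22_1 D16555 (iv D12854) (iv F58859)
theorem F74949 : act 3 n16555 = n13848 := d28_1 D16555 (iv D13848) (iv F58860)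
theorem F74950 : act 4 n16555 = n13894 := d33_1 D16555 F74941 (iv D16553)
def n16556 : Q := act 7 n12852
theorem D16556 : act 7 n12852 = n16556 := rfl
theorem F74952 : act 0 n16556 = n12877 := d6_1 D16556 (iv D12877) (iv F58867)
theorem F74953 : act 4 n16556 = n12853 := d32_1 D16556 (iv D12853) D12852
def n16557 : Q := act 8 n12852
theorem D16557 : act 8 n12852 = n16557 := rfl
theorem F74956 : act 1 n16557 = n13858 := d15_1 D16557 F70328 F70325
theorem F74957 : act 2 n16557 = n13894 := d22_1 D16557 F74941 F74938
theorem F74958 : act 4 n16557 = n12854 := d33_1 D16557 (iv D12854) D12852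
theorem F74959 : act 5 n13857 = n16557 := d30_0 F74958 F58874 (iv F59281) F65958 (iv F62947)
def n16558 : Q := act 6 n12853
theorem D16558 : act 6 n12853 = n16558 := rfl
theorem F74961 : act 3 n16558 = n12855 := d26_1 D16558 (iv D12855) (iv F58870)
def n16559 : Q := act 8 n12853
theorem D16559 : act 8 n12853 = n16559 := rfl
theorem F74965 : act 5 n16559 = n12971 := d37_1 D16559 (iv D12971) F46890 (iv F46561) (iv F58871)
def n16560 : Q := act 9 n12854
theorem D16560 : act 9 n12854 = n16560 := rfl
def n16561 : Q := act 8 n12855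
theorem D16561 : act 8 n12855 = n16561 := rfl
theorem F74972 : act 6 n16561 = n12856 := d40_1 D16561 (iv D12856) D12855
def n16563 : Q := act 0 n12858
theorem D16563 : act 0 n12858 = n16563 := rfl
theorem F74977 : act 2 n16563 = n12884 := d1_2 (iv F58885) D16563 (iv D12884)
theorem F74980 : act 7 n16563 = n12864 := d6_2 (iv F58888) D16563 (iv D12864)
def n16564 : Q := act 6 n12858
theorem D16564 : act 6 n12858 = n16564 := rfl
theorem F74982 : act 1 n16564 = n12859 := d13_1 D16564 (iv D12859) D12858
theorem F74983 : act 2 n16564 = n12885 := d20_1 D16564 (iv D12885) (iv F58885)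
theorem F74984 : act 3 n16564 = n13857 := d26_1 D16564 (iv D13857) (iv F58886)
def n16565 : Q := act 5 n12859
theorem D16565 : act 5 n12859 = n16565 := rfl
theorem F74987 : act 2 n16565 = n12860 := d19_1 D16565 (iv D12860) (iv F58890)
theorem F74988 : act 3 n16565 = n13858 := d25_1 D16565 (iv D13858) (iv F58891)
def n16566 : Q := act 7 n12859
theorem D16566 : act 7 n12859 = n16566 := rfl
theorem F74992 : act 6 n16566 = n12867 := d39_1 D16566 (iv D12867) (iv D10022) (iv F46570) D12859
def n16567 : Q := act 4 n12860
theorem D16567 : act 4 n12860 = n16567 := rfl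
def n16568 : Q := act 7 n12860
theorem D16568 : act 7 n12860 = n16568 := rfl
theorem F74999 : act 5 n16568 = n12861 := d36_1 D16568 (iv D12861) D12860
def n16569 : Q := act 8 n12860
theorem D16569 : act 8 n12860 = n16569 := rfl
theorem F75000 : act 1 n16569 = n12890 := d15_1 D16569 (iv D12890) (iv F58894)
theorem F75001 : act 3 n16569 = n12863 := d28_1 D16569 (iv D12863) (iv F58895)
def n16570 : Q := act 6 n12862
theorem D16570 : act 6 n12862 = n16570 := rfl
theorem F75006 : act 5 n16570 = n12871 := d35_1 D16570 (iv D12871) F46601 (iv F46582) (iv F58904)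
def n16571 : Q := act 8 n12862
theorem D16571 : act 8 n12862 = n16571 := rfl
theorem F75008 : act 2 n16571 = n13864 := d22_1 D16571 (iv D13864) (iv F58902)
def n16572 : Q := act 9 n12863
theorem D16572 : act 9 n12863 = n16572 := rfl
theorem F75012 : act 1 n16572 = n12893 := d16_1 D16572 (iv D12893) (iv F58905)
theorem F75014 : act 4 n16572 = n16572 := d34_1 D16572 (iv D16572) F58907
theorem F75015 : act 5 n16572 = n16572 := d38_1 D16572 (iv D16572) F58908
def n16573 : Q := act 6 n12864
theorem D16573 : act 6 n12864 = n16573 := rfl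
theorem F75016 : act 0 n16573 = n12865 := d5_1 D16573 (iv D12865) D12864
theorem F75018 : act 3 n16573 = n13866 := d26_1 D16573 (iv D13866) (iv F58910)
def n16574 : Q := act 5 n12865
theorem D16574 : act 5 n12865 = n16574 := rfl
theorem F75021 : act 1 n16574 = n12866 := d12_1 D16574 (iv D12866) (iv F58913)
theorem F75022 : act 2 n16574 = n12895 := d19_1 D16574 (iv D12895) (iv F58914)
theorem F75023 : act 3 n16574 = n13867 := d25_1 D16574 (iv D13867) (iv F58915)
def n16575 : Q := act 7 n12865
theorem D16575 : act 7 n12865 = n16575 := rfl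
theorem F75025 : act 2 n16575 = n12896 := d21_1 D16575 (iv D12896) (iv F58914)
theorem F75026 : act 3 n16575 = n13868 := d27_1 D16575 (iv D13868) (iv F58915)
def n16576 : Q := act 4 n12866
theorem D16576 : act 4 n12866 = n16576 := rfl
theorem F75029 : act 2 n16576 = n12868 := d18_1 D16576 (iv D12868) (iv F58918)
def n16577 : Q := act 7 n12866
theorem D16577 : act 7 n12866 = n16577 := rfl
theorem F75031 : act 2 n16577 = n12869 := d21_1 D16577 (iv D12869) (iv F58918)
theorem F75032 : act 3 n16577 = n13870 := d27_1 D16577 (iv D13870) (iv F58919)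
def n16578 : Q := act 8 n12866
theorem D16578 : act 8 n12866 = n16578 := rfl
theorem F75035 : act 3 n16578 = n13871 := d28_1 D16578 (iv D13871) (iv F58919)
def n16579 : Q := act 7 n12868
theorem D16579 : act 7 n12868 = n16579 := rfl
theorem F75037 : act 1 n16579 = n12900 := d14_1 D16579 (iv D12900) (iv F58924)
def n16580 : Q := act 8 n12868
theorem D16580 : act 8 n12868 = n16580 := rfl
theorem F75041 : act 1 n16580 = n12901 := d15_1 D16580 (iv D12901) (iv F58924)
def n16581 : Q := act 6 n12869
theorem D16581 : act 6 n12869 = n16581 := rfl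
theorem F75044 : act 1 n16581 = n12902 := d13_1 D16581 (iv D12902) (iv F58927)
def n16582 : Q := act 8 n12869
theorem D16582 : act 8 n12869 = n16582 := rfl
theorem F75046 : act 1 n16582 = n12903 := d15_1 D16582 (iv D12903) (iv F58927)
def n16583 : Q := act 9 n12870
theorem D16583 : act 9 n12870 = n16583 := rfl
theorem F75050 : act 1 n16583 = n12904 := d16_1 D16583 (iv D12904) (iv F58930)
def n16584 : Q := act 8 n12871
theorem D16584 : act 8 n12871 = n16584 := rfl
theorem F75053 : act 1 n16584 = n12905 := d15_1 D16584 (iv D12905) (iv F58933)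
theorem F75054 : act 2 n16584 = n13877 := d22_1 D16584 (iv D13877) (iv F58934)
theorem F75056 : act 6 n16584 = n12872 := d40_1 D16584 (iv D12872) D12871
def n16585 : Q := act 9 n12872
theorem D16585 : act 9 n12872 = n16585 := rfl
theorem F75057 : act 1 n16585 = n12906 := d16_1 D16585 (iv D12906) (iv F58936)
def n16586 : Q := act 3 n12874
theorem D16586 : act 3 n12874 = n16586 := rfl
theorem F75062 : act 0 n16586 = n13938 := d2_1 D16586 F74940 F74936
theorem F75064 : act 4 n16586 = n13879 := d24_2 D12874 D16586 (iv D13879) (iv D10789) (iv F46608)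
theorem F75066 : act 8 n13934 = n16586 := d7_0 F75062 (iv D13938) (iv F63216)
def n16587 : Q := act 7 n12874
theorem D16587 : act 7 n12874 = n16587 := rfl
theorem F75068 : act 2 n16587 = n12877 := d21_1 D16587 (iv D12877) (iv F58946)
def n16588 : Q := act 8 n12874
theorem D16588 : act 8 n12874 = n16588 := rfl
theorem F75073 : act 2 n16588 = n12878 := d22_1 D16588 (iv D12878) (iv F58946)
theorem F75074 : act 3 n16588 = n13934 := d28_1 D16588 F75066 (iv D16586)
theorem F75075 : act 4 n16588 = n12876 := d33_1 D16588 (iv D12876) D12874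
theorem F75076 : act 5 n13893 = n16588 := d30_0 F75075 F58955 (iv F59318) F65966 (iv F63056)
def n16590 : Q := act 8 n12875
theorem D16590 : act 8 n12875 = n16590 := rfl
theorem F75082 : act 2 n16590 = n12880 := d22_1 D16590 (iv D12880) (iv F58949)
theorem F75083 : act 3 n16590 = n13883 := d28_1 D16590 (iv D13883) (iv F58950)
def n16592 : Q := act 6 n12877
theorem D16592 : act 6 n12877 = n16592 := rfl
theorem F75090 : act 1 n16592 = n12907 := d13_1 D16592 (iv D12907) (iv F58956)
def n16593 : Q := act 8 n12877
theorem D16593 : act 8 n12877 = n16593 := rfl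
theorem F75092 : act 1 n16593 = n12908 := d15_1 D16593 (iv D12908) (iv F58956)
theorem F75094 : act 7 n16593 = n12878 := d42_1 D16593 (iv D12878) D12877
def n16594 : Q := act 5 n12878
theorem D16594 : act 5 n12878 = n16594 := rfl
theorem F75097 : act 2 n16594 = n13893 := d19_1 D16594 F75076 F75073
theorem F75098 : act 4 n16594 = n12983 := d30_1 D16594 (iv D12983) F46931 (iv F46622) (iv F58960)
theorem F75100 : act 6 n13856 = n16594 := d31_0 F75098 F66034 (iv F62942)
def n16595 : Q := act 9 n12878
theorem D16595 : act 9 n12878 = n16595 := rfl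
theorem F75101 : act 1 n16595 = n12910 := d16_1 D16595 (iv D12910) (iv F58959)
def n16596 : Q := act 8 n12879
theorem D16596 : act 8 n12879 = n16596 := rfl
theorem F75103 : act 1 n16596 = n12911 := d15_1 D16596 (iv D12911) (iv F58961)
theorem F75105 : act 6 n16596 = n12880 := d40_1 D16596 (iv D12880) D12879
def n16597 : Q := act 9 n12880
theorem D16597 : act 9 n12880 = n16597 := rfl
theorem F75106 : act 1 n16597 = n12912 := d16_1 D16597 (iv D12912) (iv F58964)
def n16598 : Q := act 5 n12882
theorem D16598 : act 5 n12882 = n16598 := rfl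
theorem F75112 : act 6 n16598 = n12987 := d35_2 (iv F58973) D16598 (iv D12987) F46948 (iv F46628)
def n16600 : Q := act 6 n12884
theorem D16600 : act 6 n12884 = n16600 := rfl
theorem F75118 : act 3 n16600 = n12915 := d26_1 D16600 (iv D12915) (iv F58978)
def n16601 : Q := act 5 n12885
theorem D16601 : act 5 n12885 = n16601 := rfl
theorem F75122 : act 3 n16601 = n12916 := d25_1 D16601 (iv D12916) (iv F58983)
def n16602 : Q := act 7 n12885
theorem D16602 : act 7 n12885 = n16602 := rfl
theorem F75124 : act 3 n16602 = n12917 := d27_1 D16602 (iv D12917) (iv F58983)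
theorem F75126 : act 6 n16602 = n12896 := d39_1 D16602 (iv D12896) (iv D10042) (iv F46635) D12885
def n16603 : Q := act 4 n12886
theorem D16603 : act 4 n12886 = n16603 := rfl
theorem F75128 : act 2 n16603 = n12888 := d18_1 D16603 (iv D12888) (iv F58986)
def n16604 : Q := act 7 n12886
theorem D16604 : act 7 n12886 = n16604 := rfl
theorem F75130 : act 2 n16604 = n12889 := d21_1 D16604 (iv D12889) (iv F58986)
theorem F75131 : act 3 n16604 = n12919 := d27_1 D16604 (iv D12919) (iv F58987)
theorem F75132 : act 5 n16604 = n12887 := d36_1 D16604 (iv D12887) D12886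
def n16605 : Q := act 8 n12886
theorem D16605 : act 8 n12886 = n16605 := rfl
theorem F75133 : act 2 n16605 = n12890 := d22_1 D16605 (iv D12890) (iv F58986)
def n16606 : Q := act 7 n12888
theorem D16606 : act 7 n12888 = n16606 := rfl
def n16607 : Q := act 8 n12888
theorem D16607 : act 8 n12888 = n16607 := rfl
theorem F75140 : act 4 n16607 = n12890 := d33_1 D16607 (iv D12890) D12888
def n16608 : Q := act 6 n12889
theorem D16608 : act 6 n12889 = n16608 := rfl
def n16609 : Q := act 8 n12889
theorem D16609 : act 8 n12889 = n16609 := rfl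
theorem F75143 : act 3 n16609 = n12892 := d28_1 D16609 (iv D12892) (iv F58995)
def n16611 : Q := act 8 n12891
theorem D16611 : act 8 n12891 = n16611 := rfl
theorem F75148 : act 2 n16611 = n12926 := d22_1 D16611 (iv D12926) (iv F58999)
theorem F75150 : act 6 n16611 = n12892 := d40_1 D16611 (iv D12892) D12891
def n16612 : Q := act 9 n12892
theorem D16612 : act 9 n12892 = n16612 := rfl
theorem F75151 : act 2 n16612 = n12927 := d23_1 D16612 (iv D12927) (iv F59002)
theorem F75152 : act 4 n16612 = n16612 := d34_1 D16612 (iv D16612) F59003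
theorem F75153 : act 5 n16612 = n16612 := d38_1 D16612 (iv D16612) F59004
theorem F75154 : act 7 n16612 = n12893 := d43_1 D16612 (iv D12893) (iv F59005)
def n16613 : Q := act 5 n12894
theorem D16613 : act 5 n12894 = n16613 := rfl
theorem F75155 : act 0 n16613 = n12895 := d4_1 D16613 (iv D12895) (iv F59009)
theorem F75156 : act 3 n16613 = n12928 := d25_1 D16613 (iv D12928) (iv F59010)
def n16614 : Q := act 7 n12894
theorem D16614 : act 7 n12894 = n16614 := rfl
def n16615 : Q := act 4 n12895
theorem D16615 : act 4 n12895 = n16615 := rfl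
theorem F75161 : act 1 n16615 = n12897 := d11_1 D16615 (iv D12897) (iv F59013)
def n16616 : Q := act 7 n12895
theorem D16616 : act 7 n12895 = n16616 := rfl
theorem F75164 : act 1 n16616 = n12898 := d14_1 D16616 (iv D12898) (iv F59013)
theorem F75166 : act 5 n16616 = n12896 := d36_1 D16616 (iv D12896) D12895
def n16617 : Q := act 8 n12895
theorem D16617 : act 8 n12895 = n16617 := rfl
def n16618 : Q := act 7 n12897
theorem D16618 : act 7 n12897 = n16618 := rfl
theorem F75170 : act 2 n16618 = n12900 := d21_1 D16618 (iv D12900) (iv F59019)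
def n16619 : Q := act 8 n12897
theorem D16619 : act 8 n12897 = n16619 := rfl
theorem F75174 : act 2 n16619 = n12901 := d22_1 D16619 (iv D12901) (iv F59019)
theorem F75176 : act 4 n16619 = n12899 := d33_1 D16619 (iv D12899) D12897
def n16620 : Q := act 6 n12898
theorem D16620 : act 6 n12898 = n16620 := rfl
theorem F75178 : act 3 n16620 = n12932 := d26_1 D16620 (iv D12932) (iv F59023)
def n16621 : Q := act 8 n12898
theorem D16621 : act 8 n12898 = n16621 := rfl
theorem F75182 : act 7 n16621 = n12899 := d42_1 D16621 (iv D12899) D12898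
def n16622 : Q := act 9 n12899
theorem D16622 : act 9 n12899 = n16622 := rfl
theorem F75183 : act 2 n16622 = n12904 := d23_1 D16622 (iv D12904) (iv F59025)
theorem F75184 : act 3 n16622 = n12934 := d29_1 D16622 (iv D12934) (iv F59026)
theorem F75185 : act 5 n16622 = n16622 := d38_1 D16622 (iv D16622) F59027
def n16623 : Q := act 6 n12900
theorem D16623 : act 6 n12900 = n16623 := rfl
theorem F75186 : act 3 n16623 = n12907 := d26_1 D16623 (iv D12907) (iv F59028)
def n16624 : Q := act 8 n12900
theorem D16624 : act 8 n12900 = n16624 := rfl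
theorem F75188 : act 3 n16624 = n12908 := d28_1 D16624 (iv D12908) (iv F59028)
theorem F75190 : act 7 n16624 = n12901 := d42_1 D16624 (iv D12901) D12900
def n16625 : Q := act 5 n12901
theorem D16625 : act 5 n12901 = n16625 := rfl
def n16626 : Q := act 9 n12901
theorem D16626 : act 9 n12901 = n16626 := rfl
theorem F75195 : act 4 n16626 = n12904 := d34_1 D16626 (iv D12904) (iv F59032)
def n16627 : Q := act 8 n12902
theorem D16627 : act 8 n12902 = n16627 := rfl
def n16628 : Q := act 9 n12903
theorem D16628 : act 9 n12903 = n16628 := rfl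
theorem F75200 : act 7 n16628 = n12904 := d43_1 D16628 (iv D12904) (iv F59036)
def n16629 : Q := act 5 n12905
theorem D16629 : act 5 n12905 = n16629 := rfl
def n16631 : Q := act 5 n12907
theorem D16631 : act 5 n12907 = n16631 := rfl
def n16632 : Q := act 8 n12907
theorem D16632 : act 8 n12907 = n16632 := rfl
def n16633 : Q := act 5 n12908
theorem D16633 : act 5 n12908 = n16633 := rfl
theorem F75213 : act 4 n16633 = n12991 := d30_1 D16633 (iv D12991) F46962 (iv F46690) (iv F59049)
theorem F75214 : act 7 n16633 = n12909 := d36_2 (iv F59050) D16633 (iv D12909)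
def n16634 : Q := act 9 n12908
theorem D16634 : act 9 n12908 = n16634 := rfl
def n16635 : Q := act 6 n12909
theorem D16635 : act 6 n12909 = n16635 := rfl
theorem F75222 : act 4 n16635 = n12993 := d31_1 D16635 (iv D12993) (iv F59052)
theorem F75224 : act 7 n13834 = n16635 := d32_0 F75222 F66037 (iv F62860)
def n16637 : Q := act 5 n12911
theorem D16637 : act 5 n12911 = n16637 := rfl
theorem F75230 : act 6 n16637 = n12995 := d35_2 (iv F59058) D16637 (iv D12995) F46974 (iv F46690)
def n16638 : Q := act 9 n12911
theorem D16638 : act 9 n12911 = n16638 := rfl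
def n16639 : Q := act 4 n12913
theorem D16639 : act 4 n12913 = n16639 := rfl
theorem F75236 : act 6 n16639 = n12997 := d31_2 (iv F59064) D16639 (iv D12997)
def n16641 : Q := act 5 n12915
theorem D16641 : act 5 n12915 = n16641 := rfl
theorem F75242 : act 2 n16641 = n13934 := d19_1 D16641 (iv D13934) (iv F59069)
def n16642 : Q := act 7 n12915
theorem D16642 : act 7 n12915 = n16642 := rfl
theorem F75245 : act 4 n16642 = n12942 := d32_1 D16642 (iv D12942) (iv F59070)
theorem F75246 : act 6 n16642 = n12929 := d39_1 D16642 (iv D12929) (iv D10068) (iv F46702) D12915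
def n16643 : Q := act 4 n12916
theorem D16643 : act 4 n12916 = n16643 := rfl
theorem F75249 : act 2 n16643 = n13936 := d18_1 D16643 (iv D13936) (iv F59073)
theorem F75250 : act 5 n16643 = n12943 := d30_2 D12916 D16643 (iv D12943) (iv D10081) (iv F46706)
def n16644 : Q := act 7 n12916
theorem D16644 : act 7 n12916 = n16644 := rfl
theorem F75253 : act 5 n16644 = n12917 := d36_1 D16644 (iv D12917) D12916
def n16645 : Q := act 8 n12916
theorem D16645 : act 8 n12916 = n16645 := rfl
theorem F75255 : act 2 n16645 = n13938 := d22_1 D16645 (iv D13938) (iv F59073)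
def n16646 : Q := act 3 n12918
theorem D16646 : act 3 n12918 = n16646 := rfl
theorem F75258 : act 5 n16646 = n12946 := d25_2 (iv F59080) D16646 (iv D12946)
def n16647 : Q := act 7 n12918
theorem D16647 : act 7 n12918 = n16647 := rfl
theorem F75260 : act 4 n16647 = n12919 := d32_1 D16647 (iv D12919) D12918
theorem F75261 : act 5 n16647 = n12947 := d36_1 D16647 (iv D12947) (iv F59080)
def n16649 : Q := act 6 n12919
theorem D16649 : act 6 n12919 = n16649 := rfl
theorem F75265 : act 5 n16649 = n12932 := d35_1 D16649 (iv D12932) F46745 (iv F46711) (iv F59082)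
def n16650 : Q := act 8 n12919
theorem D16650 : act 8 n12919 = n16650 := rfl
def n16652 : Q := act 6 n12921
theorem D16652 : act 6 n12921 = n16652 := rfl
theorem F75273 : act 4 n16652 = n12923 := d31_1 D16652 (iv D12923) (iv F59087)
def n16653 : Q := act 8 n12921
theorem D16653 : act 8 n12921 = n16653 := rfl
theorem F75277 : act 4 n16653 = n12924 := d33_1 D16653 (iv D12924) (iv F59087)
def n16654 : Q := act 5 n12922
theorem D16654 : act 5 n12922 = n16654 := rfl
theorem F75283 : act 8 n16654 = n12952 := d37_2 D12922 D16654 (iv D12952) (iv D10087) (iv F46715)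
def n16655 : Q := act 9 n12922
theorem D16655 : act 9 n12922 = n16655 := rfl
theorem F75286 : act 4 n16655 = n12925 := d34_1 D16655 (iv D12925) (iv F59091)
def n16656 : Q := act 8 n12923
theorem D16656 : act 8 n12923 = n16656 := rfl
theorem F75287 : act 1 n16656 = n13949 := d15_1 D16656 (iv D13949) (iv F59092)
def n16658 : Q := act 5 n12926
theorem D16658 : act 5 n12926 = n16658 := rfl
theorem F75295 : act 6 n16658 = n16658 := d35_2 (iv F59104) D16658 (iv D16658) F59104 F46727
theorem F75296 : act 8 n16658 = n12937 := d37_2 D12926 D16658 (iv D12937) (iv D10076) (iv F46724)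
def n16659 : Q := act 9 n12926
theorem D16659 : act 9 n12926 = n16659 := rfl
theorem F75298 : act 4 n16659 = n16659 := d34_1 D16659 (iv D16659) F59103
theorem F75299 : act 6 n16659 = n12927 := d41_1 D16659 (iv D12927) (iv F59104)
def n16660 : Q := act 7 n12928
theorem D16660 : act 7 n12928 = n16660 := rfl
theorem F75303 : act 5 n16660 = n12929 := d36_1 D16660 (iv D12929) D12928
def n16661 : Q := act 8 n12928
theorem D16661 : act 8 n12928 = n16661 := rfl
theorem F75305 : act 2 n16661 = n13954 := d22_1 D16661 (iv D13954) (iv F59110)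
def n16662 : Q := act 6 n12930
theorem D16662 : act 6 n12930 = n16662 := rfl
theorem F75308 : act 1 n16662 = n12932 := d13_1 D16662 (iv D12932) (iv F59116)
def n16663 : Q := act 8 n12930
theorem D16663 : act 8 n12930 = n16663 := rfl
theorem F75315 : act 7 n16663 = n12931 := d42_1 D16663 (iv D12931) D12930
def n16664 : Q := act 9 n12931
theorem D16664 : act 9 n12931 = n16664 := rfl
theorem F75316 : act 1 n16664 = n12934 := d16_1 D16664 (iv D12934) (iv F59120)
def n16665 : Q := act 8 n12932
theorem D16665 : act 8 n12932 = n16665 := rfl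
theorem F75320 : act 2 n16665 = n12935 := d22_1 D16665 (iv D12935) (iv F59124)
def n16666 : Q := act 9 n12933
theorem D16666 : act 9 n12933 = n16666 := rfl
theorem F75323 : act 2 n16666 = n12936 := d23_1 D16666 (iv D12936) (iv F59126)
theorem F75326 : act 7 n16666 = n12934 := d43_1 D16666 (iv D12934) (iv F59129)
def n16667 : Q := act 5 n12935
theorem D16667 : act 5 n12935 = n16667 := rfl
theorem F75328 : act 3 n16667 = n12937 := d25_1 D16667 (iv D12937) (iv F59134)
theorem F75329 : act 6 n16667 = n16667 := d35_2 (iv F59136) D16667 (iv D16667) F59136 F46755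
def n16668 : Q := act 9 n12935
theorem D16668 : act 9 n12935 = n16668 := rfl
theorem F75330 : act 1 n16668 = n13961 := d16_1 D16668 (iv D13961) (iv F59133)
theorem F75331 : act 3 n16668 = n12938 := d29_1 D16668 (iv D12938) (iv F59134)
theorem F75332 : act 4 n16668 = n16668 := d34_1 D16668 (iv D16668) F59135
theorem F75333 : act 6 n16668 = n12936 := d41_1 D16668 (iv D12936) (iv F59136)
def n16669 : Q := act 4 n12937
theorem D16669 : act 4 n12937 = n16669 := rfl
theorem F75334 : act 1 n16669 = n13962 := d11_1 D16669 (iv D13962) (iv F59142)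
theorem F75335 : act 5 n16669 = n12939 := d30_2 D12937 D16669 (iv D12939) (iv D10078) (iv F46762)
theorem F75336 : act 6 n16669 = n16669 := d31_2 F59143 D16669 (iv D16669)
def n16670 : Q := act 9 n12937
theorem D16670 : act 9 n12937 = n16670 := rfl
theorem F75338 : act 5 n16670 = n12938 := d38_1 D16670 (iv D12938) D12937
theorem F75339 : act 6 n16670 = n16670 := d41_1 D16670 (iv D16670) F59143
def n16671 : Q := act 3 n12939
theorem D16671 : act 3 n12939 = n16671 := rfl
def n16672 : Q := act 9 n12939
theorem D16672 : act 9 n12939 = n16672 := rfl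
theorem F75345 : act 4 n16672 = n12940 := d34_1 D16672 (iv D12940) D12939
def n16673 : Q := act 8 n12940
theorem D16673 : act 8 n12940 = n16673 := rfl
def n16674 : Q := act 4 n12941
theorem D16674 : act 4 n12941 = n16674 := rfl
theorem F75352 : act 2 n16674 = n13967 := d18_1 D16674 (iv D13967) (iv F59155)
def n16675 : Q := act 7 n12941
theorem D16675 : act 7 n12941 = n16675 := rfl
theorem F75357 : act 5 n16675 = n12942 := d36_1 D16675 (iv D12942) D12941
def n16676 : Q := act 8 n12941
theorem D16676 : act 8 n12941 = n16676 := rfl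
theorem F75363 : act 6 n16676 = n12956 := d40_1 D16676 (iv D12956) (iv F59157)
def n16677 : Q := act 3 n12943
theorem D16677 : act 3 n12943 = n16677 := rfl
theorem F75364 : act 1 n16677 = n12946 := d10_1 D16677 (iv D12946) (iv F59163)
theorem F75366 : act 6 n16677 = n12957 := d26_2 (iv F59165) D16677 (iv D12957)
def n16678 : Q := act 7 n12943
theorem D16678 : act 7 n12943 = n16678 := rfl
theorem F75367 : act 1 n16678 = n12947 := d14_1 D16678 (iv D12947) (iv F59163)
theorem F75368 : act 2 n16678 = n13971 := d21_1 D16678 (iv D13971) (iv F59164)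
def n16679 : Q := act 8 n12943
theorem D16679 : act 8 n12943 = n16679 := rfl
theorem F75371 : act 1 n16679 = n12948 := d15_1 D16679 (iv D12948) (iv F59163)
theorem F75374 : act 6 n16679 = n12958 := d40_1 D16679 (iv D12958) (iv F59165)
def n16680 : Q := act 8 n12944
theorem D16680 : act 8 n12944 = n16680 := rfl
theorem F75380 : act 7 n16680 = n12945 := d42_1 D16680 (iv D12945) D12944
def n16681 : Q := act 9 n12945
theorem D16681 : act 9 n12945 = n16681 := rfl
theorem F75385 : act 6 n16681 = n12959 := d41_1 D16681 (iv D12959) (iv F59175)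
def n16682 : Q := act 7 n12946
theorem D16682 : act 7 n12946 = n16682 := rfl
def n16684 : Q := act 8 n12947
theorem D16684 : act 8 n12947 = n16684 := rfl
theorem F75397 : act 7 n16684 = n12948 := d42_1 D16684 (iv D12948) D12947
def n16686 : Q := act 9 n12948
theorem D16686 : act 9 n12948 = n16686 := rfl
def n16687 : Q := act 9 n12949
theorem D16687 : act 9 n12949 = n16687 := rfl
theorem F75408 : act 7 n16687 = n12950 := d43_1 D16687 (iv D12950) (iv F59189)
def n16688 : Q := act 5 n12951
theorem D16688 : act 5 n12951 = n16688 := rfl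
theorem F75409 : act 1 n16688 = n13981 := d12_1 D16688 (iv D13981) (iv F59194)
def n16689 : Q := act 9 n12951
theorem D16689 : act 9 n12951 = n16689 := rfl
theorem F75417 : act 7 n16689 = n12953 := d43_1 D16689 (iv D12953) (iv F59198)
def n16692 : Q := act 8 n12955
theorem D16692 : act 8 n12955 = n16692 := rfl
theorem F75427 : act 2 n16692 = n13985 := d22_1 D16692 (iv D13985) (iv F59213)
def n16693 : Q := act 9 n12956
theorem D16693 : act 9 n12956 = n16693 := rfl
theorem F75432 : act 2 n16693 = n13986 := d23_1 D16693 (iv D13986) (iv F59216)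
def n16694 : Q := act 2 n12957
theorem D16694 : act 2 n12957 = n16694 := rfl
theorem F75437 : act 3 n16694 = n13987 := d17_2 D12957 D16694 (iv D13987) (iv D10872) (iv F46831)
def n16696 : Q := act 9 n12958
theorem D16696 : act 9 n12958 = n16696 := rfl
theorem F75446 : act 2 n16696 = n13989 := d23_1 D16696 (iv D13989) (iv F59224)
def n16698 : Q := act 7 n12963
theorem D16698 : act 7 n12963 = n16698 := rfl
theorem F75456 : act 1 n16698 = n12966 := d14_1 D16698 (iv D12966) (iv F59250)
theorem F75458 : act 3 n16698 = n13992 := d27_1 D16698 (iv D13992) (iv F59251)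
theorem F75459 : act 4 n16698 = n14355 := d32_1 D16698 F65207 (iv F66007)
theorem F75461 : act 8 n16698 = n14352 := d42_2 (iv F66008) D16698 (iv D14352)
def n16699 : Q := act 7 n12965
theorem D16699 : act 7 n12965 = n16699 := rfl
theorem F75465 : act 2 n16699 = n12968 := d21_1 D16699 (iv D12968) (iv F59261)
theorem F75466 : act 3 n16699 = n14399 := d27_1 D16699 F65415 (iv F65962)
theorem F75467 : act 4 n16699 = n12966 := d32_1 D16699 (iv D12966) D12965
theorem F75469 : act 8 n16699 = n14349 := d42_2 (iv F65963) D16699 (iv D14349)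
def n16700 : Q := act 6 n12966
theorem D16700 : act 6 n12966 = n16700 := rfl
theorem F75471 : act 0 n16700 = n12978 := d5_1 D16700 (iv D12978) (iv F59265)
def n16701 : Q := act 8 n12966
theorem D16701 : act 8 n12966 = n16701 := rfl
theorem F75479 : act 2 n16701 = n12971 := d22_1 D16701 (iv D12971) (iv F59266)
theorem F75480 : act 3 n16701 = n13998 := d28_1 D16701 (iv D13998) (iv F59267)
def n16702 : Q := act 9 n12967
theorem D16702 : act 9 n12967 = n16702 := rfl
theorem F75485 : act 2 n16702 = n12972 := d23_1 D16702 (iv D12972) (iv F59271)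
theorem F75486 : act 3 n16702 = n13999 := d29_1 D16702 (iv D13999) (iv F59272)
def n16703 : Q := act 6 n12968
theorem D16703 : act 6 n12968 = n16703 := rfl
theorem F75490 : act 0 n16703 = n12981 := d5_1 D16703 (iv D12981) (iv F59274)
theorem F75492 : act 4 n16703 = n12970 := d31_1 D16703 (iv D12970) (iv F59276)
def n16704 : Q := act 8 n12968
theorem D16704 : act 8 n12968 = n16704 := rfl
theorem F75497 : act 2 n16704 = n14349 := d22_1 D16704 (iv F75469) F75465
theorem F75500 : act 7 n16704 = n12969 := d42_1 D16704 (iv D12969) D12968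
theorem F75501 : act 5 n14300 = n16704 := d36_3 F75500 F65958 D14300
def n16705 : Q := act 9 n12969
theorem D16705 : act 9 n12969 = n16705 := rfl
theorem F75503 : act 1 n16705 = n14086 := d16_1 D16705 F63909 (iv F65956)
theorem F75504 : act 2 n16705 = n14144 := d23_1 D16705 F64179 (iv F65957)
def n16706 : Q := act 8 n12970
theorem D16706 : act 8 n12970 = n16706 := rfl
theorem F75510 : act 0 n16706 = n12985 := d7_1 D16706 (iv D12985) (iv F59283)
theorem F75511 : act 3 n16706 = n12973 := d28_1 D16706 (iv D12973) (iv F59284)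
theorem F75512 : act 6 n16706 = n12971 := d40_1 D16706 (iv D12971) D12970
def n16707 : Q := act 9 n12971
theorem D16707 : act 9 n12971 = n16707 := rfl
def n16708 : Q := act 5 n12973
theorem D16708 : act 5 n12973 = n16708 := rfl
def n16709 : Q := act 9 n12973
theorem D16709 : act 9 n12973 = n16709 := rfl
def n16710 : Q := act 7 n12975
theorem D16710 : act 7 n12975 = n16710 := rfl
theorem F75531 : act 3 n16710 = n12976 := d27_1 D16710 (iv D12976) D12975
theorem F75532 : act 4 n16710 = n14008 := d32_1 D16710 (iv D14008) (iv F59307)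
theorem F75534 : act 8 n16710 = n14393 := d42_2 (iv F66030) D16710 (iv D14393)
def n16711 : Q := act 6 n12976
theorem D16711 : act 6 n12976 = n16711 := rfl
theorem F75538 : act 4 n16711 = n12978 := d31_1 D16711 (iv D12978) (iv F59313)
def n16712 : Q := act 8 n12976
theorem D16712 : act 8 n12976 = n16712 := rfl
theorem F75543 : act 2 n16712 = n12982 := d22_1 D16712 (iv D12982) (iv F59312)
theorem F75544 : act 3 n16712 = n14393 := d28_1 D16712 (iv F75534) F75531
theorem F75546 : act 7 n16712 = n12977 := d42_1 D16712 (iv D12977) D12976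
theorem F75547 : act 5 n14347 = n16712 := d36_3 F75546 F65966 D14347
def n16713 : Q := act 9 n12977
theorem D16713 : act 9 n12977 = n16713 := rfl
theorem F75550 : act 2 n16713 = n12984 := d23_1 D16713 (iv D12984) (iv F59317)
theorem F75551 : act 3 n16713 = n14198 := d29_1 D16713 F64455 (iv F65965)
def n16714 : Q := act 8 n12978
theorem D16714 : act 8 n12978 = n16714 := rfl
def n16715 : Q := act 9 n12979
theorem D16715 : act 9 n12979 = n16715 := rfl
theorem F75562 : act 2 n16715 = n12986 := d23_1 D16715 (iv D12986) (iv F59327)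
theorem F75563 : act 3 n16715 = n14015 := d29_1 D16715 (iv D14015) (iv F59328)
def n16716 : Q := act 5 n12981
theorem D16716 : act 5 n12981 = n16716 := rfl
def n16717 : Q := act 8 n12981
theorem D16717 : act 8 n12981 = n16717 := rfl
theorem F75574 : act 4 n16717 = n12985 := d33_1 D16717 (iv D12985) (iv F59337)
def n16718 : Q := act 5 n12982
theorem D16718 : act 5 n12982 = n16718 := rfl
theorem F75579 : act 2 n16718 = n14347 := d19_1 D16718 F75547 F75543
theorem F75581 : act 7 n16718 = n12983 := d36_2 (iv F59343) D16718 (iv D12983)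
theorem F75583 : act 6 n14310 = n16718 := d39_5 F75581 F66034 F51332 D11144 D14310
def n16719 : Q := act 9 n12982
theorem D16719 : act 9 n12982 = n16719 := rfl
theorem F75584 : act 1 n16719 = n12992 := d16_1 D16719 (iv D12992) (iv F59340)
def n16720 : Q := act 9 n12983
theorem D16720 : act 9 n12983 = n16720 := rfl
theorem F75590 : act 1 n16720 = n12994 := d16_1 D16720 (iv D12994) (iv F59344)
theorem F75591 : act 2 n16720 = n14143 := d23_1 D16720 F64174 (iv F66033)
theorem F75594 : act 6 n16720 = n14084 := d41_1 D16720 F63900 (iv F66034)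
def n16721 : Q := act 5 n12985
theorem D16721 : act 5 n12985 = n16721 := rfl
theorem F75596 : act 3 n16721 = n12987 := d25_1 D16721 (iv D12987) (iv F59353)
def n16722 : Q := act 9 n12985
theorem D16722 : act 9 n12985 = n16722 := rfl
def n16723 : Q := act 4 n12987
theorem D16723 : act 4 n12987 = n16723 := rfl
def n16725 : Q := act 8 n12989
theorem D16725 : act 8 n12989 = n16725 := rfl
def n16726 : Q := act 5 n12990
theorem D16726 : act 5 n12990 = n16726 := rfl
def n16727 : Q := act 9 n12990
theorem D16727 : act 9 n12990 = n16727 := rfl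
theorem F75624 : act 6 n16727 = n12992 := d41_1 D16727 (iv D12992) (iv F59379)
def n16728 : Q := act 6 n12991
theorem D16728 : act 6 n12991 = n16728 := rfl
theorem F75631 : act 7 n16728 = n14268 := d39_2 (iv F59383) D16728 (iv D14268) (iv F66037) (iv D12993)
def n16729 : Q := act 9 n12991
theorem D16729 : act 9 n12991 = n16729 := rfl
theorem F75635 : act 5 n16729 = n12992 := d38_1 D16729 (iv D12992) D12991
def n16730 : Q := act 9 n12993
theorem D16730 : act 9 n12993 = n16730 := rfl
theorem F75642 : act 6 n16730 = n12994 := d41_1 D16730 (iv D12994) D12993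
theorem F75643 : act 7 n16730 = n14046 := d43_1 D16730 F63713 (iv F66037)
def n16731 : Q := act 8 n12994
theorem D16731 : act 8 n12994 = n16731 := rfl
def n16732 : Q := act 4 n12995
theorem D16732 : act 4 n12995 = n16732 := rfl
def n16734 : Q := act 3 n12997
theorem D16734 : act 3 n12997 = n16734 := rfl
def n16740 : Q := act 3 n13002
theorem D16740 : act 3 n13002 = n16740 := rfl
theorem F75680 : act 0 n16740 = n13013 := d2_1 D16740 (iv D13013) (iv F59427)
theorem F75681 : act 1 n16740 = n16740 := d10_1 D16740 (iv D16740) F59428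
theorem F75682 : act 4 n16740 = n16740 := d24_2 D13002 D16740 (iv D16740) (iv D13002) F46998
theorem F75683 : act 8 n16740 = n13006 := d28_2 (iv F59429) D16740 (iv D13006)
def n16741 : Q := act 6 n13002
theorem D16741 : act 6 n13002 = n16741 := rfl
theorem F75684 : act 0 n16741 = n13014 := d5_1 D16741 (iv D13014) (iv F59427)
theorem F75685 : act 1 n16741 = n16741 := d13_1 D16741 (iv D16741) F59428
theorem F75686 : act 4 n16741 = n13003 := d31_1 D16741 (iv D13003) D13002
theorem F75687 : act 8 n16741 = n13007 := d40_2 (iv F59429) D16741 (iv D13007)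
def n16742 : Q := act 7 n13003
theorem D16742 : act 7 n13003 = n16742 := rfl
theorem F75688 : act 0 n16742 = n13015 := d6_1 D16742 (iv D13015) (iv F59430)
theorem F75689 : act 1 n16742 = n16742 := d14_1 D16742 (iv D16742) F59431
theorem F75690 : act 3 n16742 = n16742 := d27_1 D16742 (iv D16742) F59432
theorem F75691 : act 5 n16742 = n13141 := d36_1 D16742 (iv D13141) (iv F59433)
theorem F75692 : act 8 n16742 = n13008 := d42_2 (iv F59434) D16742 (iv D13008)
def n16743 : Q := act 3 n13004
theorem D16743 : act 3 n13004 = n16743 := rfl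
theorem F75693 : act 0 n16743 = n13016 := d2_1 D16743 (iv D13016) (iv F59435)
theorem F75694 : act 1 n16743 = n16743 := d10_1 D16743 (iv D16743) F59436
theorem F75695 : act 4 n16743 = n16743 := d24_2 D13004 D16743 (iv D16743) (iv D13004) F47002
theorem F75696 : act 5 n16743 = n16743 := d25_2 F59437 D16743 (iv D16743)
theorem F75697 : act 7 n16743 = n13006 := d27_2 (iv F59438) D16743 (iv D13006)
theorem F75698 : act 9 n16743 = n16743 := d29_2 F59439 D16743 (iv D16743)
def n16744 : Q := act 6 n13004
theorem D16744 : act 6 n13004 = n16744 := rfl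
theorem F75699 : act 0 n16744 = n13017 := d5_1 D16744 (iv D13017) (iv F59435)
theorem F75700 : act 1 n16744 = n16744 := d13_1 D16744 (iv D16744) F59436
theorem F75701 : act 4 n16744 = n13005 := d31_1 D16744 (iv D13005) D13004
theorem F75702 : act 9 n16744 = n16744 := d41_2 F59439 D16744 (iv D16744)
def n16745 : Q := act 7 n13005
theorem D16745 : act 7 n13005 = n16745 := rfl
theorem F75703 : act 0 n16745 = n13018 := d6_1 D16745 (iv D13018) (iv F59440)
theorem F75704 : act 1 n16745 = n16745 := d14_1 D16745 (iv D16745) F59441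
theorem F75705 : act 3 n16745 = n16745 := d27_1 D16745 (iv D16745) F59442
theorem F75706 : act 5 n16745 = n16745 := d36_1 D16745 (iv D16745) F59443
theorem F75707 : act 6 n16745 = n13008 := d39_1 D16745 (iv D13008) (iv D10133) (iv F47003) D13005
theorem F75708 : act 9 n16745 = n16745 := d43_2 F59444 D16745 (iv D16745)
def n16746 : Q := act 2 n13006
theorem D16746 : act 2 n13006 = n16746 := rfl
theorem F75709 : act 0 n16746 = n13019 := d1_1 D16746 (iv D13019) (iv F59445)
theorem F75710 : act 4 n16746 = n16746 := d18_2 F59447 D16746 (iv D16746)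
theorem F75711 : act 5 n16746 = n16746 := d19_2 F59448 D16746 (iv D16746)
theorem F75712 : act 9 n16746 = n16746 := d23_2 F59449 D16746 (iv D16746)
def n16747 : Q := act 6 n13006
theorem D16747 : act 6 n13006 = n16747 := rfl
theorem F75713 : act 0 n16747 = n13020 := d5_1 D16747 (iv D13020) (iv F59445)
theorem F75714 : act 1 n16747 = n16747 := d13_1 D16747 (iv D16747) F59446
theorem F75715 : act 3 n16747 = n13007 := d26_1 D16747 (iv D13007) D13006
theorem F75716 : act 4 n16747 = n16747 := d31_1 D16747 (iv D16747) F59447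
theorem F75717 : act 9 n16747 = n16747 := d41_2 F59449 D16747 (iv D16747)
def n16748 : Q := act 5 n13007
theorem D16748 : act 5 n13007 = n16748 := rfl
theorem F75718 : act 0 n16748 = n13021 := d4_1 D16748 (iv D13021) (iv F59450)
theorem F75719 : act 1 n16748 = n16748 := d12_1 D16748 (iv D16748) F59451
theorem F75720 : act 4 n16748 = n13011 := d30_1 D16748 (iv D13011) F47023 (iv F47012) (iv F59452)
theorem F75721 : act 6 n16748 = n16748 := d35_2 D13007 D16748 (iv D16748) (iv D13007) F47007
theorem F75722 : act 9 n16748 = n16748 := d38_2 F59453 D16748 (iv D16748)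
def n16749 : Q := act 7 n13007
theorem D16749 : act 7 n13007 = n16749 := rfl
theorem F75723 : act 0 n16749 = n13022 := d6_1 D16749 (iv D13022) (iv F59450)
theorem F75724 : act 1 n16749 = n16749 := d14_1 D16749 (iv D16749) F59451
theorem F75725 : act 4 n16749 = n13008 := d32_1 D16749 (iv D13008) (iv F59452)
theorem F75726 : act 9 n16749 = n16749 := d43_2 F59453 D16749 (iv D16749)
def n16752 : Q := act 5 n13010
theorem D16752 : act 5 n13010 = n16752 := rfl
theorem F75741 : act 3 n16752 = n13011 := d25_1 D16752 (iv D13011) (iv F59467)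
def n16753 : Q := act 7 n13010
theorem D16753 : act 7 n13010 = n16753 := rfl
theorem F75746 : act 3 n16753 = n13012 := d27_1 D16753 (iv D13012) (iv F59467)
theorem F75749 : act 8 n16753 = n13152 := d42_2 (iv F59469) D16753 (iv D13152)
def n16754 : Q := act 7 n13011
theorem D16754 : act 7 n13011 = n16754 := rfl
theorem F75751 : act 0 n16754 = n13026 := d6_1 D16754 (iv D13026) (iv F59471)
theorem F75752 : act 1 n16754 = n16754 := d14_1 D16754 (iv D16754) F59472
theorem F75753 : act 5 n16754 = n13012 := d36_1 D16754 (iv D13012) D13011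
theorem F75754 : act 9 n16754 = n16754 := d43_2 F59474 D16754 (iv D16754)
def n16755 : Q := act 8 n13011
theorem D16755 : act 8 n13011 = n16755 := rfl
theorem F75757 : act 5 n16755 = n13154 := d37_1 D16755 (iv D13154) (iv D10242) (iv F47024) D13011
def n16756 : Q := act 2 n13013
theorem D16756 : act 2 n13013 = n16756 := rfl
theorem F75759 : act 4 n16756 = n16756 := d18_2 F59482 D16756 (iv D16756)
theorem F75760 : act 8 n16756 = n13019 := d22_2 (iv F59483) D16756 (iv D13019)
def n16757 : Q := act 6 n13013
theorem D16757 : act 6 n13013 = n16757 := rfl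
theorem F75761 : act 1 n16757 = n13038 := d13_1 D16757 (iv D13038) (iv F59481)
theorem F75762 : act 3 n16757 = n13014 := d26_1 D16757 (iv D13014) D13013
theorem F75763 : act 4 n16757 = n16757 := d31_1 D16757 (iv D16757) F59482
theorem F75764 : act 8 n16757 = n13020 := d40_2 (iv F59483) D16757 (iv D13020)
def n16758 : Q := act 5 n13014
theorem D16758 : act 5 n13014 = n16758 := rfl
theorem F75765 : act 1 n16758 = n13039 := d12_1 D16758 (iv D13039) (iv F59484)
theorem F75766 : act 4 n16758 = n13166 := d30_1 D16758 (iv D13166) F47532 (iv F47036) (iv F59485)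
def n16759 : Q := act 7 n13014
theorem D16759 : act 7 n13014 = n16759 := rfl
theorem F75767 : act 1 n16759 = n13040 := d14_1 D16759 (iv D13040) (iv F59484)
theorem F75768 : act 4 n16759 = n13015 := d32_1 D16759 (iv D13015) (iv F59485)
theorem F75769 : act 8 n16759 = n13022 := d42_2 (iv F59486) D16759 (iv D13022)
def n16760 : Q := act 2 n13016
theorem D16760 : act 2 n13016 = n16760 := rfl
theorem F75770 : act 4 n16760 = n16760 := d18_2 F59492 D16760 (iv D16760)
theorem F75771 : act 5 n16760 = n16760 := d19_2 F59493 D16760 (iv D16760)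
theorem F75772 : act 7 n16760 = n13019 := d21_2 (iv F59494) D16760 (iv D13019)
theorem F75773 : act 9 n16760 = n16760 := d23_2 F59495 D16760 (iv D16760)
def n16761 : Q := act 6 n13016
theorem D16761 : act 6 n13016 = n16761 := rfl
theorem F75774 : act 1 n16761 = n13042 := d13_1 D16761 (iv D13042) (iv F59491)
theorem F75775 : act 3 n16761 = n13017 := d26_1 D16761 (iv D13017) D13016
theorem F75776 : act 4 n16761 = n16761 := d31_1 D16761 (iv D16761) F59492
theorem F75777 : act 9 n16761 = n16761 := d41_2 F59495 D16761 (iv D16761)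
def n16762 : Q := act 5 n13017
theorem D16762 : act 5 n13017 = n16762 := rfl
theorem F75778 : act 1 n16762 = n13043 := d12_1 D16762 (iv D13043) (iv F59496)
theorem F75779 : act 4 n16762 = n16762 := d30_1 D16762 (iv D16762) F59497 F47044 (iv F59497)
theorem F75780 : act 6 n16762 = n16762 := d35_2 D13017 D16762 (iv D16762) (iv D13017) F47039
theorem F75781 : act 9 n16762 = n16762 := d38_2 F59498 D16762 (iv D16762)
def n16763 : Q := act 7 n13017
theorem D16763 : act 7 n13017 = n16763 := rfl
theorem F75782 : act 1 n16763 = n13044 := d14_1 D16763 (iv D13044) (iv F59496)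
theorem F75783 : act 4 n16763 = n13018 := d32_1 D16763 (iv D13018) (iv F59497)
theorem F75784 : act 6 n16763 = n13022 := d39_1 D16763 (iv D13022) (iv D10142) (iv F47040) D13017
theorem F75785 : act 9 n16763 = n16763 := d43_2 F59498 D16763 (iv D16763)
def n16764 : Q := act 1 n13019
theorem D16764 : act 1 n13019 = n16764 := rfl
theorem F75786 : act 2 n16764 = n13045 := d9_2 D13019 D16764 (iv D13045) (iv D10160) (iv F47046)
theorem F75787 : act 4 n16764 = n16764 := d11_2 F59504 D16764 (iv D16764)
theorem F75788 : act 5 n16764 = n16764 := d12_2 F59505 D16764 (iv D16764)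
theorem F75789 : act 9 n16764 = n16764 := d16_2 F59506 D16764 (iv D16764)
def n16765 : Q := act 6 n13019
theorem D16765 : act 6 n13019 = n16765 := rfl
theorem F75790 : act 2 n16765 = n13020 := d20_1 D16765 (iv D13020) D13019
theorem F75791 : act 4 n16765 = n16765 := d31_1 D16765 (iv D16765) F59504
theorem F75792 : act 9 n16765 = n16765 := d41_2 F59506 D16765 (iv D16765)
def n16766 : Q := act 5 n13020
theorem D16766 : act 5 n13020 = n16766 := rfl
theorem F75793 : act 1 n16766 = n13047 := d12_1 D16766 (iv D13047) (iv F59507)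
theorem F75794 : act 3 n16766 = n13021 := d25_1 D16766 (iv D13021) (iv F59508)
theorem F75795 : act 6 n16766 = n16766 := d35_2 D13020 D16766 (iv D16766) (iv D13020) F47048
theorem F75796 : act 9 n16766 = n16766 := d38_2 F59510 D16766 (iv D16766)
def n16767 : Q := act 7 n13020
theorem D16767 : act 7 n13020 = n16767 := rfl
theorem F75797 : act 1 n16767 = n13048 := d14_1 D16767 (iv D13048) (iv F59507)
theorem F75798 : act 3 n16767 = n13022 := d27_1 D16767 (iv D13022) (iv F59508)
theorem F75799 : act 4 n16767 = n16767 := d32_1 D16767 (iv D16767) F59509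
theorem F75800 : act 9 n16767 = n16767 := d43_2 F59510 D16767 (iv D16767)
def n16768 : Q := act 7 n13021
theorem D16768 : act 7 n13021 = n16768 := rfl
theorem F75801 : act 1 n16768 = n13049 := d14_1 D16768 (iv D13049) (iv F59511)
theorem F75802 : act 4 n16768 = n13026 := d32_1 D16768 (iv D13026) (iv F59512)
theorem F75803 : act 5 n16768 = n13022 := d36_1 D16768 (iv D13022) D13021
theorem F75804 : act 9 n16768 = n16768 := d43_2 F59514 D16768 (iv D16768)
def n16769 : Q := act 8 n13021
theorem D16769 : act 8 n13021 = n16769 := rfl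
theorem F75805 : act 1 n16769 = n13050 := d15_1 D16769 (iv D13050) (iv F59511)
theorem F75806 : act 4 n16769 = n13027 := d33_1 D16769 (iv D13027) (iv F59512)
def n16772 : Q := act 4 n13024
theorem D16772 : act 4 n13024 = n16772 := rfl
theorem F75818 : act 1 n16772 = n13051 := d11_1 D16772 (iv D13051) (iv F59523)
def n16773 : Q := act 7 n13024
theorem D16773 : act 7 n13024 = n16773 := rfl
theorem F75822 : act 1 n16773 = n13052 := d14_1 D16773 (iv D13052) (iv F59523)
theorem F75823 : act 3 n16773 = n13026 := d27_1 D16773 (iv D13026) (iv F59524)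
theorem F75824 : act 5 n16773 = n13025 := d36_1 D16773 (iv D13025) D13024
def n16775 : Q := act 6 n13026
theorem D16775 : act 6 n13026 = n16775 := rfl
theorem F75830 : act 1 n16775 = n13054 := d13_1 D16775 (iv D13054) (iv F59533)
theorem F75831 : act 5 n16775 = n16775 := d35_1 D16775 (iv D16775) F59534 F47073 (iv F59534)
theorem F75832 : act 7 n16775 = n16775 := d39_2 D13026 D16775 (iv D16775) (iv D13026) F47069
theorem F75833 : act 9 n16775 = n16775 := d41_2 F59535 D16775 (iv D16775)
def n16776 : Q := act 8 n13026
theorem D16776 : act 8 n13026 = n16776 := rfl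
theorem F75834 : act 1 n16776 = n13055 := d15_1 D16776 (iv D13055) (iv F59533)
theorem F75836 : act 7 n16776 = n13027 := d42_1 D16776 (iv D13027) D13026
def n16777 : Q := act 9 n13027
theorem D16777 : act 9 n13027 = n16777 := rfl
theorem F75837 : act 1 n16777 = n13056 := d16_1 D16777 (iv D13056) (iv F59536)
def n16778 : Q := act 2 n13028
theorem D16778 : act 2 n13028 = n16778 := rfl
theorem F75841 : act 0 n16778 = n16778 := d1_1 D16778 (iv D16778) F59539
theorem F75842 : act 3 n16778 = n13057 := d17_2 D13028 D16778 (iv D13057) (iv D10168) (iv F47077)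
theorem F75843 : act 4 n16778 = n13102 := d18_2 (iv F59540) D16778 (iv D13102)
theorem F75844 : act 5 n16778 = n13037 := d19_2 (iv F59541) D16778 (iv D13037)
theorem F75845 : act 7 n16778 = n13068 := d21_2 (iv F59542) D16778 (iv D13068)
theorem F75846 : act 8 n16778 = n16778 := d22_2 F59543 D16778 (iv D16778)
theorem F75847 : act 9 n16778 = n13064 := d23_2 (iv F59544) D16778 (iv D13064)
def n16779 : Q := act 6 n13028
theorem D16779 : act 6 n13028 = n16779 := rfl
theorem F75848 : act 0 n16779 = n16779 := d5_1 D16779 (iv D16779) F59539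
theorem F75849 : act 3 n16779 = n13029 := d26_1 D16779 (iv D13029) D13028
theorem F75850 : act 4 n16779 = n13103 := d31_1 D16779 (iv D13103) (iv F59540)
theorem F75851 : act 8 n16779 = n16779 := d40_2 F59543 D16779 (iv D16779)
theorem F75852 : act 9 n16779 = n13065 := d41_2 (iv F59544) D16779 (iv D13065)
def n16780 : Q := act 5 n13029
theorem D16780 : act 5 n13029 = n16780 := rfl
theorem F75853 : act 0 n16780 = n16780 := d4_1 D16780 (iv D16780) F59545
theorem F75854 : act 2 n16780 = n13059 := d19_1 D16780 (iv D13059) (iv F59546)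
theorem F75855 : act 4 n16780 = n13191 := d30_1 D16780 (iv D13191) F47599 (iv F47085) (iv F59547)
theorem F75856 : act 6 n16780 = n13039 := d35_2 D13029 D16780 (iv D13039) (iv D10155) (iv F47078)
theorem F75857 : act 9 n16780 = n13066 := d38_2 (iv F59549) D16780 (iv D13066)
def n16781 : Q := act 7 n13029
theorem D16781 : act 7 n13029 = n16781 := rfl
theorem F75858 : act 0 n16781 = n16781 := d6_1 D16781 (iv D16781) F59545
theorem F75859 : act 2 n16781 = n13060 := d21_1 D16781 (iv D13060) (iv F59546)
theorem F75860 : act 4 n16781 = n13030 := d32_1 D16781 (iv D13030) (iv F59547)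
theorem F75861 : act 6 n16781 = n13071 := d39_1 D16781 (iv D13071) (iv D10177) (iv F47079) D13029
theorem F75862 : act 8 n16781 = n16781 := d42_2 F59548 D16781 (iv D16781)
theorem F75863 : act 9 n16781 = n13067 := d43_2 (iv F59549) D16781 (iv D13067)
def n16782 : Q := act 2 n13031
theorem D16782 : act 2 n13031 = n16782 := rfl
theorem F75864 : act 0 n16782 = n16782 := d1_1 D16782 (iv D16782) F59557
theorem F75865 : act 3 n16782 = n13064 := d17_2 D13031 D16782 (iv D13064) (iv D10173) (iv F47089)
theorem F75866 : act 4 n16782 = n16782 := d18_2 F59558 D16782 (iv D16782)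
theorem F75867 : act 5 n16782 = n13068 := d19_2 (iv F59559) D16782 (iv D13068)
theorem F75868 : act 7 n16782 = n13037 := d21_2 (iv F59560) D16782 (iv D13037)
theorem F75869 : act 8 n16782 = n13041 := d22_2 (iv F59561) D16782 (iv D13041)
theorem F75870 : act 9 n16782 = n13057 := d23_2 (iv F59562) D16782 (iv D13057)
def n16783 : Q := act 6 n13031
theorem D16783 : act 6 n13031 = n16783 := rfl
theorem F75871 : act 0 n16783 = n16783 := d5_1 D16783 (iv D16783) F59557
theorem F75872 : act 3 n16783 = n13032 := d26_1 D16783 (iv D13032) D13031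
theorem F75873 : act 4 n16783 = n16783 := d31_1 D16783 (iv D16783) F59558
theorem F75874 : act 8 n16783 = n13042 := d40_2 (iv F59561) D16783 (iv D13042)
theorem F75875 : act 9 n16783 = n13058 := d41_2 (iv F59562) D16783 (iv D13058)
def n16784 : Q := act 5 n13032
theorem D16784 : act 5 n13032 = n16784 := rfl
theorem F75876 : act 0 n16784 = n16784 := d4_1 D16784 (iv D16784) F59563
theorem F75877 : act 2 n16784 = n13066 := d19_1 D16784 (iv D13066) (iv F59564)
theorem F75878 : act 4 n16784 = n13242 := d30_1 D16784 (iv D13242) F47759 (iv F47097) (iv F59565)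
theorem F75879 : act 6 n16784 = n13070 := d35_2 D13032 D16784 (iv D13070) (iv D10177) (iv F47090)
theorem F75880 : act 9 n16784 = n13059 := d38_2 (iv F59567) D16784 (iv D13059)
def n16785 : Q := act 7 n13032
theorem D16785 : act 7 n13032 = n16785 := rfl
theorem F75881 : act 0 n16785 = n16785 := d6_1 D16785 (iv D16785) F59563
theorem F75882 : act 2 n16785 = n13067 := d21_1 D16785 (iv D13067) (iv F59564)
theorem F75883 : act 4 n16785 = n13033 := d32_1 D16785 (iv D13033) (iv F59565)
theorem F75884 : act 6 n16785 = n13040 := d39_1 D16785 (iv D13040) (iv D10155) (iv F47091) D13032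
theorem F75885 : act 8 n16785 = n13044 := d42_2 (iv F59566) D16785 (iv D13044)
theorem F75886 : act 9 n16785 = n13060 := d43_2 (iv F59567) D16785 (iv D13060)
def n16786 : Q := act 2 n13034
theorem D16786 : act 2 n13034 = n16786 := rfl
theorem F75887 : act 0 n16786 = n16786 := d1_1 D16786 (iv D16786) F59575
theorem F75888 : act 3 n16786 = n13068 := d17_2 D13034 D16786 (iv D13068) (iv D10176) (iv F47101)
theorem F75889 : act 4 n16786 = n16786 := d18_2 F59576 D16786 (iv D16786)
theorem F75890 : act 5 n16786 = n13064 := d19_2 (iv F59577) D16786 (iv D13064)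
theorem F75891 : act 7 n16786 = n13057 := d21_2 (iv F59578) D16786 (iv D13057)
theorem F75892 : act 8 n16786 = n16786 := d22_2 F59579 D16786 (iv D16786)
theorem F75893 : act 9 n16786 = n13037 := d23_2 (iv F59580) D16786 (iv D13037)
def n16787 : Q := act 6 n13034
theorem D16787 : act 6 n13034 = n16787 := rfl
theorem F75894 : act 0 n16787 = n16787 := d5_1 D16787 (iv D16787) F59575
theorem F75895 : act 3 n16787 = n13035 := d26_1 D16787 (iv D13035) D13034
theorem F75896 : act 4 n16787 = n16787 := d31_1 D16787 (iv D16787) F59576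
theorem F75897 : act 8 n16787 = n16787 := d40_2 F59579 D16787 (iv D16787)
theorem F75898 : act 9 n16787 = n13038 := d41_2 (iv F59580) D16787 (iv D13038)
def n16788 : Q := act 5 n13035
theorem D16788 : act 5 n13035 = n16788 := rfl
theorem F75899 : act 0 n16788 = n16788 := d4_1 D16788 (iv D16788) F59581
theorem F75900 : act 2 n16788 = n13070 := d19_1 D16788 (iv D13070) (iv F59582)
theorem F75901 : act 4 n16788 = n13205 := d30_1 D16788 (iv D13205) F47647 (iv F47109) (iv F59583)
theorem F75902 : act 6 n16788 = n13066 := d35_2 D13035 D16788 (iv D13066) (iv D10174) (iv F47102)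
theorem F75903 : act 9 n16788 = n13039 := d38_2 (iv F59585) D16788 (iv D13039)
def n16789 : Q := act 7 n13035
theorem D16789 : act 7 n13035 = n16789 := rfl
theorem F75904 : act 0 n16789 = n16789 := d6_1 D16789 (iv D16789) F59581
theorem F75905 : act 2 n16789 = n13071 := d21_1 D16789 (iv D13071) (iv F59582)
theorem F75906 : act 4 n16789 = n13036 := d32_1 D16789 (iv D13036) (iv F59583)
theorem F75907 : act 6 n16789 = n13060 := d39_1 D16789 (iv D13060) (iv D10169) (iv F47103) D13035
theorem F75908 : act 8 n16789 = n16789 := d42_2 F59584 D16789 (iv D16789)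
theorem F75909 : act 9 n16789 = n13040 := d43_2 (iv F59585) D16789 (iv D13040)
def n16790 : Q := act 1 n13037
theorem D16790 : act 1 n13037 = n16790 := rfl
theorem F75910 : act 3 n16790 = n13072 := d10_2 (iv F59594) D16790 (iv D13072)
theorem F75911 : act 4 n16790 = n16790 := d11_2 F59595 D16790 (iv D16790)
theorem F75912 : act 8 n16790 = n13045 := d15_2 (iv F59596) D16790 (iv D13045)
def n16791 : Q := act 6 n13037
theorem D16791 : act 6 n13037 = n16791 := rfl
theorem F75913 : act 0 n16791 = n16791 := d5_1 D16791 (iv D16791) F59593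
theorem F75914 : act 2 n16791 = n13038 := d20_1 D16791 (iv D13038) D13037
theorem F75915 : act 3 n16791 = n13073 := d26_1 D16791 (iv D13073) (iv F59594)
theorem F75916 : act 4 n16791 = n16791 := d31_1 D16791 (iv D16791) F59595
theorem F75917 : act 8 n16791 = n13046 := d40_2 (iv F59596) D16791 (iv D13046)
def n16792 : Q := act 5 n13038
theorem D16792 : act 5 n13038 = n16792 := rfl
theorem F75918 : act 0 n16792 = n16792 := d4_1 D16792 (iv D16792) F59597
theorem F75919 : act 3 n16792 = n13039 := d25_1 D16792 (iv D13039) (iv F59598)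
def n16793 : Q := act 7 n13038
theorem D16793 : act 7 n13038 = n16793 := rfl
theorem F75920 : act 0 n16793 = n16793 := d6_1 D16793 (iv D16793) F59597
theorem F75921 : act 3 n16793 = n13040 := d27_1 D16793 (iv D13040) (iv F59598)
theorem F75922 : act 4 n16793 = n16793 := d32_1 D16793 (iv D16793) F59599
theorem F75923 : act 8 n16793 = n13048 := d42_2 (iv F59600) D16793 (iv D13048)
def n16794 : Q := act 7 n13039
theorem D16794 : act 7 n13039 = n16794 := rfl
theorem F75924 : act 0 n16794 = n16794 := d6_1 D16794 (iv D16794) F59601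
theorem F75925 : act 2 n16794 = n13076 := d21_1 D16794 (iv D13076) (iv F59602)
theorem F75926 : act 4 n16794 = n13211 := d32_1 D16794 (iv D13211) (iv F59603)
theorem F75927 : act 5 n16794 = n13040 := d36_1 D16794 (iv D13040) D13039
def n16795 : Q := act 8 n13039
theorem D16795 : act 8 n13039 = n16795 := rfl
theorem F75928 : act 0 n16795 = n16795 := d7_1 D16795 (iv D16795) F59601
theorem F75929 : act 2 n16795 = n13077 := d22_1 D16795 (iv D13077) (iv F59602)
theorem F75930 : act 4 n16795 = n13212 := d33_1 D16795 (iv D13212) (iv F59603)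
theorem F75931 : act 5 n16795 = n13050 := d37_1 D16795 (iv D13050) (iv D10162) (iv F47118) D13039
def n16796 : Q := act 1 n13041
theorem D16796 : act 1 n13041 = n16796 := rfl
theorem F75932 : act 3 n16796 = n13078 := d10_2 (iv F59609) D16796 (iv D13078)
theorem F75933 : act 4 n16796 = n16796 := d11_2 F59610 D16796 (iv D16796)
theorem F75934 : act 5 n16796 = n16796 := d12_2 F59611 D16796 (iv D16796)
theorem F75935 : act 7 n16796 = n13045 := d14_2 (iv F59612) D16796 (iv D13045)
theorem F75936 : act 9 n16796 = n16796 := d16_2 F59613 D16796 (iv D16796)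
def n16797 : Q := act 6 n13041
theorem D16797 : act 6 n13041 = n16797 := rfl
theorem F75937 : act 0 n16797 = n16797 := d5_1 D16797 (iv D16797) F59608
theorem F75938 : act 2 n16797 = n13042 := d20_1 D16797 (iv D13042) D13041
theorem F75939 : act 3 n16797 = n13079 := d26_1 D16797 (iv D13079) (iv F59609)
theorem F75940 : act 4 n16797 = n16797 := d31_1 D16797 (iv D16797) F59610
theorem F75941 : act 9 n16797 = n16797 := d41_2 F59613 D16797 (iv D16797)
def n16798 : Q := act 5 n13042
theorem D16798 : act 5 n13042 = n16798 := rfl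
theorem F75942 : act 0 n16798 = n16798 := d4_1 D16798 (iv D16798) F59614
theorem F75943 : act 3 n16798 = n13043 := d25_1 D16798 (iv D13043) (iv F59615)
theorem F75944 : act 6 n16798 = n16798 := d35_2 D13042 D16798 (iv D16798) (iv D13042) F47126
theorem F75945 : act 9 n16798 = n16798 := d38_2 F59617 D16798 (iv D16798)
def n16799 : Q := act 7 n13042
theorem D16799 : act 7 n13042 = n16799 := rfl
theorem F75946 : act 0 n16799 = n16799 := d6_1 D16799 (iv D16799) F59614
theorem F75947 : act 3 n16799 = n13044 := d27_1 D16799 (iv D13044) (iv F59615)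
theorem F75948 : act 4 n16799 = n16799 := d32_1 D16799 (iv D16799) F59616
theorem F75949 : act 6 n16799 = n13048 := d39_1 D16799 (iv D13048) (iv D10161) (iv F47127) D13042
theorem F75950 : act 9 n16799 = n16799 := d43_2 F59617 D16799 (iv D16799)
def n16800 : Q := act 7 n13043
theorem D16800 : act 7 n13043 = n16800 := rfl
theorem F75951 : act 0 n16800 = n16800 := d6_1 D16800 (iv D16800) F59618
theorem F75952 : act 2 n16800 = n13082 := d21_1 D16800 (iv D13082) (iv F59619)
theorem F75953 : act 4 n16800 = n16800 := d32_1 D16800 (iv D16800) F59620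
theorem F75954 : act 5 n16800 = n13044 := d36_1 D16800 (iv D13044) D13043
theorem F75955 : act 9 n16800 = n16800 := d43_2 F59622 D16800 (iv D16800)
def n16801 : Q := act 8 n13043
theorem D16801 : act 8 n13043 = n16801 := rfl
theorem F75956 : act 0 n16801 = n16801 := d7_1 D16801 (iv D16801) F59618
theorem F75957 : act 2 n16801 = n13083 := d22_1 D16801 (iv D13083) (iv F59619)
theorem F75958 : act 4 n16801 = n16801 := d33_1 D16801 (iv D16801) F59620
theorem F75959 : act 6 n16801 = n16801 := d40_1 D16801 (iv D16801) F59621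
def n16802 : Q := act 0 n13045
theorem D16802 : act 0 n13045 = n16802 := rfl
theorem F75960 : act 1 n16802 = n16802 := d0_2 D13045 D16802 (iv D16802) (iv D13045) F47139
theorem F75961 : act 3 n16802 = n13084 := d2_2 (iv F59628) D16802 (iv D13084)
theorem F75962 : act 4 n16802 = n16802 := d3_2 F59629 D16802 (iv D16802)
theorem F75963 : act 5 n16802 = n16802 := d4_2 F59630 D16802 (iv D16802)
theorem F75964 : act 9 n16802 = n16802 := d8_2 F59631 D16802 (iv D16802)
def n16803 : Q := act 6 n13045
theorem D16803 : act 6 n13045 = n16803 := rfl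
theorem F75965 : act 1 n16803 = n13046 := d13_1 D16803 (iv D13046) D13045
theorem F75966 : act 3 n16803 = n13085 := d26_1 D16803 (iv D13085) (iv F59628)
theorem F75967 : act 4 n16803 = n16803 := d31_1 D16803 (iv D16803) F59629
theorem F75968 : act 9 n16803 = n16803 := d41_2 F59631 D16803 (iv D16803)
def n16804 : Q := act 5 n13046
theorem D16804 : act 5 n13046 = n16804 := rfl
theorem F75969 : act 0 n16804 = n16804 := d4_1 D16804 (iv D16804) F59632
theorem F75970 : act 2 n16804 = n13047 := d19_1 D16804 (iv D13047) (iv F59633)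
theorem F75971 : act 3 n16804 = n13086 := d25_1 D16804 (iv D13086) (iv F59634)
theorem F75972 : act 6 n16804 = n16804 := d35_2 D13046 D16804 (iv D16804) (iv D13046) F47142
theorem F75973 : act 9 n16804 = n16804 := d38_2 F59636 D16804 (iv D16804)
def n16805 : Q := act 7 n13046
theorem D16805 : act 7 n13046 = n16805 := rfl
theorem F75974 : act 0 n16805 = n16805 := d6_1 D16805 (iv D16805) F59632
theorem F75975 : act 2 n16805 = n13048 := d21_1 D16805 (iv D13048) (iv F59633)
theorem F75976 : act 3 n16805 = n13087 := d27_1 D16805 (iv D13087) (iv F59634)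
theorem F75977 : act 4 n16805 = n16805 := d32_1 D16805 (iv D16805) F59635
theorem F75978 : act 9 n16805 = n16805 := d43_2 F59636 D16805 (iv D16805)
def n16806 : Q := act 4 n13047
theorem D16806 : act 4 n13047 = n16806 := rfl
theorem F75979 : act 0 n16806 = n16806 := d3_1 D16806 (iv D16806) F59637
theorem F75980 : act 3 n16806 = n13051 := d24_1 D16806 (iv D13051) F47159 (iv F47150) (iv F59638)
theorem F75981 : act 5 n16806 = n16806 := d30_2 D13047 D16806 (iv D16806) (iv D13047) F47146
theorem F75982 : act 6 n16806 = n16806 := d31_2 F59639 D16806 (iv D16806)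
theorem F75983 : act 9 n16806 = n16806 := d34_2 F59640 D16806 (iv D16806)
def n16807 : Q := act 7 n13047
theorem D16807 : act 7 n13047 = n16807 := rfl
theorem F75984 : act 0 n16807 = n16807 := d6_1 D16807 (iv D16807) F59637
theorem F75985 : act 3 n16807 = n13049 := d27_1 D16807 (iv D13049) (iv F59638)
theorem F75986 : act 5 n16807 = n13048 := d36_1 D16807 (iv D13048) D13047
theorem F75987 : act 9 n16807 = n16807 := d43_2 F59640 D16807 (iv D16807)
def n16808 : Q := act 8 n13047
theorem D16808 : act 8 n13047 = n16808 := rfl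
theorem F75988 : act 0 n16808 = n16808 := d7_1 D16808 (iv D16808) F59637
theorem F75989 : act 3 n16808 = n13050 := d28_1 D16808 (iv D13050) (iv F59638)
theorem F75990 : act 6 n16808 = n16808 := d40_1 D16808 (iv D16808) F59639
def n16809 : Q := act 6 n13049
theorem D16809 : act 6 n13049 = n16809 := rfl
theorem F75991 : act 0 n16809 = n16809 := d5_1 D16809 (iv D16809) F59645
theorem F75992 : act 2 n16809 = n13090 := d20_1 D16809 (iv D13090) (iv F59646)
theorem F75993 : act 4 n16809 = n13054 := d31_1 D16809 (iv D13054) (iv F59647)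
theorem F75994 : act 7 n16809 = n16809 := d39_2 D13049 D16809 (iv D16809) (iv D13049) F47151
theorem F75995 : act 9 n16809 = n16809 := d41_2 F59649 D16809 (iv D16809)
def n16810 : Q := act 8 n13049
theorem D16810 : act 8 n13049 = n16810 := rfl
theorem F75996 : act 0 n16810 = n16810 := d7_1 D16810 (iv D16810) F59645
theorem F75997 : act 2 n16810 = n13091 := d22_1 D16810 (iv D13091) (iv F59646)
theorem F75998 : act 4 n16810 = n13055 := d33_1 D16810 (iv D13055) (iv F59647)
theorem F75999 : act 7 n16810 = n13050 := d42_1 D16810 (iv D13050) D13049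
def n16811 : Q := act 9 n13050
theorem D16811 : act 9 n13050 = n16811 := rfl
theorem F76000 : act 0 n16811 = n16811 := d8_1 D16811 (iv D16811) F59650
theorem F76001 : act 2 n16811 = n13092 := d23_1 D16811 (iv D13092) (iv F59651)
theorem F76002 : act 4 n16811 = n13056 := d34_1 D16811 (iv D13056) (iv F59652)
theorem F76003 : act 6 n16811 = n16811 := d41_1 D16811 (iv D16811) F59653
theorem F76004 : act 8 n16811 = n16811 := d44_1 D16811 (iv D16811) (iv D13050) F47152 D13050
def n16812 : Q := act 7 n13051
theorem D16812 : act 7 n13051 = n16812 := rfl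
theorem F76005 : act 0 n16812 = n16812 := d6_1 D16812 (iv D16812) F59654
theorem F76006 : act 2 n16812 = n16812 := d21_1 D16812 (iv D16812) F59655
theorem F76007 : act 4 n16812 = n13052 := d32_1 D16812 (iv D13052) D13051
theorem F76008 : act 5 n16812 = n16812 := d36_1 D16812 (iv D16812) F59656
theorem F76009 : act 9 n16812 = n16812 := d43_2 F59658 D16812 (iv D16812)
def n16813 : Q := act 8 n13051
theorem D16813 : act 8 n13051 = n16813 := rfl
theorem F76012 : act 4 n16813 = n13053 := d33_1 D16813 (iv D13053) D13051
def n16814 : Q := act 6 n13052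
theorem D16814 : act 6 n13052 = n16814 := rfl
theorem F76014 : act 0 n16814 = n16814 := d5_1 D16814 (iv D16814) F59659
theorem F76015 : act 2 n16814 = n16814 := d20_1 D16814 (iv D16814) F59660
theorem F76016 : act 3 n16814 = n13054 := d26_1 D16814 (iv D13054) (iv F59661)
theorem F76017 : act 5 n16814 = n16814 := d35_1 D16814 (iv D16814) F59662 F47166 (iv F59662)
theorem F76018 : act 7 n16814 = n16814 := d39_2 D13052 D16814 (iv D16814) (iv D13052) F47160
theorem F76019 : act 9 n16814 = n16814 := d41_2 F59663 D16814 (iv D16814)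
def n16815 : Q := act 8 n13052
theorem D16815 : act 8 n13052 = n16815 := rfl
theorem F76022 : act 3 n16815 = n13055 := d28_1 D16815 (iv D13055) (iv F59661)
theorem F76024 : act 7 n16815 = n13053 := d42_1 D16815 (iv D13053) D13052
def n16816 : Q := act 9 n13053
theorem D16816 : act 9 n13053 = n16816 := rfl
theorem F76027 : act 3 n16816 = n13056 := d29_1 D16816 (iv D13056) (iv F59666)
def n16817 : Q := act 8 n13054
theorem D16817 : act 8 n13054 = n16817 := rfl
theorem F76031 : act 0 n16817 = n16817 := d7_1 D16817 (iv D16817) F59669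
theorem F76032 : act 2 n16817 = n13093 := d22_1 D16817 (iv D13093) (iv F59670)
theorem F76033 : act 6 n16817 = n13055 := d40_1 D16817 (iv D13055) D13054
theorem F76034 : act 7 n16817 = n16817 := d42_1 D16817 (iv D16817) F59672
def n16818 : Q := act 9 n13055
theorem D16818 : act 9 n13055 = n16818 := rfl
theorem F76035 : act 0 n16818 = n16818 := d8_1 D16818 (iv D16818) F59674
theorem F76036 : act 2 n16818 = n13094 := d23_1 D16818 (iv D13094) (iv F59675)
theorem F76037 : act 5 n16818 = n13235 := d38_1 D16818 (iv D13235) (iv F59676)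
theorem F76038 : act 7 n16818 = n13056 := d43_1 D16818 (iv D13056) (iv F59677)
theorem F76039 : act 8 n16818 = n16818 := d44_1 D16818 (iv D16818) (iv D13055) F47172 D13055
def n16819 : Q := act 1 n13057
theorem D16819 : act 1 n13057 = n16819 := rfl
theorem F76040 : act 4 n16819 = n16819 := d11_2 F59684 D16819 (iv D16819)
theorem F76041 : act 5 n16819 = n13072 := d12_2 (iv F59685) D16819 (iv D13072)
theorem F76042 : act 8 n16819 = n16819 := d15_2 F59686 D16819 (iv D16819)
def n16820 : Q := act 6 n13057
theorem D16820 : act 6 n13057 = n16820 := rfl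
theorem F76043 : act 0 n16820 = n16820 := d5_1 D16820 (iv D16820) F59683
theorem F76044 : act 2 n16820 = n13058 := d20_1 D16820 (iv D13058) D13057
theorem F76045 : act 4 n16820 = n16820 := d31_1 D16820 (iv D16820) F59684
theorem F76046 : act 8 n16820 = n16820 := d40_2 F59686 D16820 (iv D16820)
def n16821 : Q := act 5 n13058
theorem D16821 : act 5 n13058 = n16821 := rfl
theorem F76047 : act 0 n16821 = n16821 := d4_1 D16821 (iv D16821) F59687
theorem F76048 : act 3 n16821 = n13059 := d25_1 D16821 (iv D13059) (iv F59688)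
theorem F76049 : act 6 n16821 = n13074 := d35_2 D13058 D16821 (iv D13074) (iv D10180) (iv F47179)
def n16822 : Q := act 7 n13058
theorem D16822 : act 7 n13058 = n16822 := rfl
theorem F76050 : act 0 n16822 = n16822 := d6_1 D16822 (iv D16822) F59687
theorem F76051 : act 3 n16822 = n13060 := d27_1 D16822 (iv D13060) (iv F59688)
theorem F76052 : act 4 n16822 = n16822 := d32_1 D16822 (iv D16822) F59689
theorem F76053 : act 8 n16822 = n16822 := d42_2 F59690 D16822 (iv D16822)
def n16823 : Q := act 7 n13059
theorem D16823 : act 7 n13059 = n16823 := rfl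
theorem F76054 : act 0 n16823 = n16823 := d6_1 D16823 (iv D16823) F59691
theorem F76055 : act 4 n16823 = n13248 := d32_1 D16823 (iv D13248) (iv F59692)
theorem F76056 : act 5 n16823 = n13060 := d36_1 D16823 (iv D13060) D13059
def n16824 : Q := act 8 n13059
theorem D16824 : act 8 n13059 = n16824 := rfl
theorem F76057 : act 0 n16824 = n16824 := d7_1 D16824 (iv D16824) F59691
theorem F76058 : act 4 n16824 = n13249 := d33_1 D16824 (iv D13249) (iv F59692)
theorem F76059 : act 5 n16824 = n16824 := d37_1 D16824 (iv D16824) (iv D13059) F47183 D13059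
theorem F76060 : act 6 n16824 = n13077 := d40_1 D16824 (iv D13077) (iv F59693)
def n16825 : Q := act 2 n13061
theorem D16825 : act 2 n13061 = n16825 := rfl
theorem F76061 : act 0 n16825 = n16825 := d1_1 D16825 (iv D16825) F59697
theorem F76062 : act 3 n16825 = n13240 := d17_2 D13061 D16825 (iv D13240) (iv D10303) (iv F47189)
theorem F76063 : act 4 n16825 = n13098 := d18_2 (iv F59698) D16825 (iv D13098)
theorem F76064 : act 5 n16825 = n13203 := d19_2 (iv F59699) D16825 (iv D13203)
theorem F76065 : act 7 n16825 = n13250 := d21_2 (iv F59700) D16825 (iv D13250)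
theorem F76066 : act 8 n16825 = n16825 := d22_2 F59701 D16825 (iv D16825)
theorem F76067 : act 9 n16825 = n13189 := d23_2 (iv F59702) D16825 (iv D13189)
def n16826 : Q := act 6 n13061
theorem D16826 : act 6 n13061 = n16826 := rfl
theorem F76068 : act 0 n16826 = n16826 := d5_1 D16826 (iv D16826) F59697
theorem F76069 : act 3 n16826 = n13062 := d26_1 D16826 (iv D13062) D13061
theorem F76070 : act 4 n16826 = n13099 := d31_1 D16826 (iv D13099) (iv F59698)
theorem F76071 : act 8 n16826 = n16826 := d40_2 F59701 D16826 (iv D16826)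
theorem F76072 : act 9 n16826 = n13190 := d41_2 (iv F59702) D16826 (iv D13190)
def n16827 : Q := act 5 n13062
theorem D16827 : act 5 n13062 = n16827 := rfl
theorem F76073 : act 0 n16827 = n16827 := d4_1 D16827 (iv D16827) F59703
theorem F76074 : act 2 n16827 = n13242 := d19_1 D16827 (iv D13242) (iv F59704)
theorem F76075 : act 4 n16827 = n13066 := d30_1 D16827 (iv D13066) F47205 (iv F47197) (iv F59705)
theorem F76076 : act 6 n16827 = n13205 := d35_2 D13062 D16827 (iv D13205) (iv D10278) (iv F47190)
theorem F76077 : act 9 n16827 = n13191 := d38_2 (iv F59707) D16827 (iv D13191)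
def n16828 : Q := act 7 n13062
theorem D16828 : act 7 n13062 = n16828 := rfl
theorem F76078 : act 0 n16828 = n16828 := d6_1 D16828 (iv D16828) F59703
theorem F76079 : act 2 n16828 = n13243 := d21_1 D16828 (iv D13243) (iv F59704)
theorem F76080 : act 4 n16828 = n13063 := d32_1 D16828 (iv D13063) (iv F59705)
theorem F76081 : act 6 n16828 = n13253 := d39_1 D16828 (iv D13253) (iv D10311) (iv F47191) D13062
theorem F76082 : act 8 n16828 = n16828 := d42_2 F59706 D16828 (iv D16828)
theorem F76083 : act 9 n16828 = n13192 := d43_2 (iv F59707) D16828 (iv D13192)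
def n16829 : Q := act 1 n13064
theorem D16829 : act 1 n13064 = n16829 := rfl
theorem F76084 : act 4 n16829 = n13106 := d11_2 (iv F59716) D16829 (iv D13106)
theorem F76085 : act 7 n16829 = n13072 := d14_2 (iv F59717) D16829 (iv D13072)
theorem F76086 : act 8 n16829 = n13078 := d15_2 (iv F59718) D16829 (iv D13078)
def n16830 : Q := act 6 n13064
theorem D16830 : act 6 n13064 = n16830 := rfl
theorem F76087 : act 0 n16830 = n16830 := d5_1 D16830 (iv D16830) F59715
theorem F76088 : act 2 n16830 = n13065 := d20_1 D16830 (iv D13065) D13064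
theorem F76089 : act 4 n16830 = n13107 := d31_1 D16830 (iv D13107) (iv F59716)
theorem F76090 : act 8 n16830 = n13079 := d40_2 (iv F59718) D16830 (iv D13079)
def n16831 : Q := act 5 n13065
theorem D16831 : act 5 n13065 = n16831 := rfl
theorem F76091 : act 0 n16831 = n16831 := d4_1 D16831 (iv D16831) F59719
theorem F76092 : act 3 n16831 = n13066 := d25_1 D16831 (iv D13066) (iv F59720)
def n16832 : Q := act 7 n13065
theorem D16832 : act 7 n13065 = n16832 := rfl
theorem F76093 : act 0 n16832 = n16832 := d6_1 D16832 (iv D16832) F59719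
theorem F76094 : act 3 n16832 = n13067 := d27_1 D16832 (iv D13067) (iv F59720)
theorem F76095 : act 4 n16832 = n13109 := d32_1 D16832 (iv D13109) (iv F59721)
theorem F76096 : act 6 n16832 = n13075 := d39_1 D16832 (iv D13075) (iv D10180) (iv F47202) D13065
theorem F76097 : act 8 n16832 = n13081 := d42_2 (iv F59722) D16832 (iv D13081)
def n16833 : Q := act 7 n13066
theorem D16833 : act 7 n13066 = n16833 := rfl
theorem F76098 : act 0 n16833 = n16833 := d6_1 D16833 (iv D16833) F59723
theorem F76099 : act 5 n16833 = n13067 := d36_1 D16833 (iv D13067) D13066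
def n16834 : Q := act 8 n13066
theorem D16834 : act 8 n13066 = n16834 := rfl
theorem F76100 : act 0 n16834 = n16834 := d7_1 D16834 (iv D16834) F59723
theorem F76101 : act 5 n16834 = n13083 := d37_1 D16834 (iv D13083) (iv D10185) (iv F47206) D13066
def n16835 : Q := act 1 n13068
theorem D16835 : act 1 n13068 = n16835 := rfl
theorem F76102 : act 4 n16835 = n13112 := d11_2 (iv F59729) D16835 (iv D13112)
theorem F76103 : act 8 n16835 = n16835 := d15_2 F59730 D16835 (iv D16835)
theorem F76104 : act 9 n16835 = n13072 := d16_2 (iv F59731) D16835 (iv D13072)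
def n16836 : Q := act 6 n13068
theorem D16836 : act 6 n13068 = n16836 := rfl
theorem F76105 : act 0 n16836 = n16836 := d5_1 D16836 (iv D16836) F59728
theorem F76106 : act 2 n16836 = n13069 := d20_1 D16836 (iv D13069) D13068
theorem F76107 : act 4 n16836 = n13113 := d31_1 D16836 (iv D13113) (iv F59729)
theorem F76108 : act 8 n16836 = n16836 := d40_2 F59730 D16836 (iv D16836)
theorem F76109 : act 9 n16836 = n13073 := d41_2 (iv F59731) D16836 (iv D13073)
def n16837 : Q := act 5 n13069
theorem D16837 : act 5 n13069 = n16837 := rfl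
theorem F76110 : act 0 n16837 = n16837 := d4_1 D16837 (iv D16837) F59732
theorem F76111 : act 3 n16837 = n13070 := d25_1 D16837 (iv D13070) (iv F59733)
theorem F76112 : act 9 n16837 = n13074 := d38_2 (iv F59736) D16837 (iv D13074)
def n16838 : Q := act 7 n13069
theorem D16838 : act 7 n13069 = n16838 := rfl
theorem F76113 : act 0 n16838 = n16838 := d6_1 D16838 (iv D16838) F59732
theorem F76114 : act 3 n16838 = n13071 := d27_1 D16838 (iv D13071) (iv F59733)
theorem F76115 : act 4 n16838 = n13115 := d32_1 D16838 (iv D13115) (iv F59734)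
theorem F76116 : act 8 n16838 = n16838 := d42_2 F59735 D16838 (iv D16838)
theorem F76117 : act 9 n16838 = n13075 := d43_2 (iv F59736) D16838 (iv D13075)
def n16839 : Q := act 7 n13070
theorem D16839 : act 7 n13070 = n16839 := rfl
theorem F76118 : act 0 n16839 = n16839 := d6_1 D16839 (iv D16839) F59737
theorem F76119 : act 4 n16839 = n13268 := d32_1 D16839 (iv D13268) (iv F59738)
theorem F76120 : act 5 n16839 = n13071 := d36_1 D16839 (iv D13071) D13070
theorem F76121 : act 9 n16839 = n13076 := d43_2 (iv F59739) D16839 (iv D13076)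
def n16840 : Q := act 8 n13070
theorem D16840 : act 8 n13070 = n16840 := rfl
theorem F76122 : act 0 n16840 = n16840 := d7_1 D16840 (iv D16840) F59737
theorem F76123 : act 4 n16840 = n13269 := d33_1 D16840 (iv D13269) (iv F59738)
theorem F76124 : act 5 n16840 = n16840 := d37_1 D16840 (iv D16840) (iv D13070) F47217 D13070
def n16841 : Q := act 0 n13072
theorem D16841 : act 0 n13072 = n16841 := rfl
theorem F76125 : act 1 n16841 = n16841 := d0_2 D13072 D16841 (iv D16841) (iv D13072) F47224
theorem F76126 : act 4 n16841 = n13118 := d3_2 (iv F59744) D16841 (iv D13118)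
theorem F76127 : act 8 n16841 = n13084 := d7_2 (iv F59745) D16841 (iv D13084)
def n16842 : Q := act 6 n13072
theorem D16842 : act 6 n13072 = n16842 := rfl
theorem F76128 : act 1 n16842 = n13073 := d13_1 D16842 (iv D13073) D13072
theorem F76129 : act 4 n16842 = n13119 := d31_1 D16842 (iv D13119) (iv F59744)
theorem F76130 : act 8 n16842 = n13085 := d40_2 (iv F59745) D16842 (iv D13085)
def n16843 : Q := act 5 n13073
theorem D16843 : act 5 n13073 = n16843 := rfl
theorem F76131 : act 0 n16843 = n16843 := d4_1 D16843 (iv D16843) F59746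
theorem F76132 : act 2 n16843 = n13074 := d19_1 D16843 (iv D13074) (iv F59747)
def n16844 : Q := act 7 n13073
theorem D16844 : act 7 n13073 = n16844 := rfl
theorem F76133 : act 0 n16844 = n16844 := d6_1 D16844 (iv D16844) F59746
theorem F76134 : act 2 n16844 = n13075 := d21_1 D16844 (iv D13075) (iv F59747)
theorem F76135 : act 4 n16844 = n13121 := d32_1 D16844 (iv D13121) (iv F59748)
theorem F76136 : act 8 n16844 = n13087 := d42_2 (iv F59749) D16844 (iv D13087)
def n16845 : Q := act 4 n13074
theorem D16845 : act 4 n13074 = n16845 := rfl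
theorem F76137 : act 0 n16845 = n16845 := d3_1 D16845 (iv D16845) F59750
theorem F76138 : act 3 n16845 = n13274 := d24_1 D16845 (iv D13274) F47838 (iv F47232) (iv F59751)
theorem F76139 : act 5 n16845 = n13122 := d30_2 D13074 D16845 (iv D13122) (iv D10214) (iv F47229)
def n16846 : Q := act 7 n13074
theorem D16846 : act 7 n13074 = n16846 := rfl
theorem F76140 : act 0 n16846 = n16846 := d6_1 D16846 (iv D16846) F59750
theorem F76141 : act 3 n16846 = n13076 := d27_1 D16846 (iv D13076) (iv F59751)
theorem F76142 : act 5 n16846 = n13075 := d36_1 D16846 (iv D13075) D13074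
def n16847 : Q := act 8 n13074
theorem D16847 : act 8 n13074 = n16847 := rfl
theorem F76143 : act 0 n16847 = n16847 := d7_1 D16847 (iv D16847) F59750
theorem F76144 : act 3 n16847 = n13077 := d28_1 D16847 (iv D13077) (iv F59751)
theorem F76145 : act 5 n16847 = n13089 := d37_1 D16847 (iv D13089) (iv D10189) (iv F47230) D13074
def n16848 : Q := act 6 n13076
theorem D16848 : act 6 n13076 = n16848 := rfl
theorem F76146 : act 0 n16848 = n16848 := d5_1 D16848 (iv D16848) F59756
theorem F76147 : act 4 n16848 = n13277 := d31_1 D16848 (iv D13277) (iv F59757)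
def n16849 : Q := act 8 n13076
theorem D16849 : act 8 n13076 = n16849 := rfl
theorem F76148 : act 0 n16849 = n16849 := d7_1 D16849 (iv D16849) F59756
theorem F76149 : act 4 n16849 = n13278 := d33_1 D16849 (iv D13278) (iv F59757)
theorem F76150 : act 5 n16849 = n13091 := d37_1 D16849 (iv D13091) F47271 (iv F47235) (iv F59758)
theorem F76151 : act 7 n16849 = n13077 := d42_1 D16849 (iv D13077) D13076
def n16850 : Q := act 9 n13077
theorem D16850 : act 9 n13077 = n16850 := rfl
theorem F76152 : act 0 n16850 = n16850 := d8_1 D16850 (iv D16850) F59759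
theorem F76153 : act 4 n16850 = n13279 := d34_1 D16850 (iv D13279) (iv F59760)
theorem F76154 : act 5 n16850 = n13092 := d38_1 D16850 (iv D13092) (iv F59761)
def n16851 : Q := act 0 n13078
theorem D16851 : act 0 n13078 = n16851 := rfl
theorem F76155 : act 1 n16851 = n16851 := d0_2 D13078 D16851 (iv D16851) (iv D13078) F47236
theorem F76156 : act 4 n16851 = n13125 := d3_2 (iv F59762) D16851 (iv D13125)
theorem F76157 : act 5 n16851 = n16851 := d4_2 F59763 D16851 (iv D16851)
theorem F76158 : act 7 n16851 = n13084 := d6_2 (iv F59764) D16851 (iv D13084)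
theorem F76159 : act 9 n16851 = n16851 := d8_2 F59765 D16851 (iv D16851)
def n16852 : Q := act 6 n13078
theorem D16852 : act 6 n13078 = n16852 := rfl
theorem F76160 : act 1 n16852 = n13079 := d13_1 D16852 (iv D13079) D13078
theorem F76161 : act 4 n16852 = n13126 := d31_1 D16852 (iv D13126) (iv F59762)
theorem F76162 : act 9 n16852 = n16852 := d41_2 F59765 D16852 (iv D16852)
def n16853 : Q := act 5 n13079
theorem D16853 : act 5 n13079 = n16853 := rfl
theorem F76163 : act 0 n16853 = n16853 := d4_1 D16853 (iv D16853) F59766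
theorem F76164 : act 2 n16853 = n13080 := d19_1 D16853 (iv D13080) (iv F59767)
theorem F76165 : act 4 n16853 = n13332 := d30_1 D16853 F60827 F59978 (iv D13127) (iv F59768)
theorem F76166 : act 6 n16853 = n16853 := d35_2 D13079 D16853 (iv D16853) (iv D13079) F47238
theorem F76167 : act 9 n16853 = n16853 := d38_2 F59769 D16853 (iv D16853)
theorem F76168 : act 8 n13330 = n16853 := d33_0 F76165 (iv D13332) D13330
def n16854 : Q := act 7 n13079
theorem D16854 : act 7 n13079 = n16854 := rfl
theorem F76169 : act 0 n16854 = n16854 := d6_1 D16854 (iv D16854) F59766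
theorem F76170 : act 2 n16854 = n13081 := d21_1 D16854 (iv D13081) (iv F59767)
theorem F76171 : act 4 n16854 = n13128 := d32_1 D16854 (iv D13128) (iv F59768)
theorem F76172 : act 6 n16854 = n13087 := d39_1 D16854 (iv D13087) (iv D10188) (iv F47239) D13079
theorem F76173 : act 9 n16854 = n16854 := d43_2 F59769 D16854 (iv D16854)
def n16855 : Q := act 4 n13080
theorem D16855 : act 4 n13080 = n16855 := rfl
theorem F76174 : act 0 n16855 = n16855 := d3_1 D16855 (iv D16855) F59770
theorem F76175 : act 2 n16855 = n13332 := d18_1 D16855 (iv F76165) F76164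
theorem F76176 : act 3 n16855 = n16855 := d24_1 D16855 (iv D16855) F59771 F47246 (iv F59771)
theorem F76177 : act 5 n16855 = n13129 := d30_2 D13080 D16855 (iv D13129) (iv D10219) (iv F47243)
theorem F76178 : act 6 n16855 = n16855 := d31_2 F59772 D16855 (iv D16855)
theorem F76179 : act 9 n16855 = n16855 := d34_2 F59773 D16855 (iv D16855)
theorem F76180 : act 8 n13328 = n16855 := d37_0 F76177 (iv F60004) (iv D10539) (iv F47992) D13328
def n16856 : Q := act 7 n13080
theorem D16856 : act 7 n13080 = n16856 := rfl
theorem F76181 : act 0 n16856 = n16856 := d6_1 D16856 (iv D16856) F59770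
theorem F76182 : act 3 n16856 = n13082 := d27_1 D16856 (iv D13082) (iv F59771)
theorem F76183 : act 5 n16856 = n13081 := d36_1 D16856 (iv D13081) D13080
theorem F76184 : act 9 n16856 = n16856 := d43_2 F59773 D16856 (iv D16856)
def n16857 : Q := act 8 n13080
theorem D16857 : act 8 n13080 = n16857 := rfl
theorem F76185 : act 0 n16857 = n16857 := d7_1 D16857 (iv D16857) F59770
theorem F76186 : act 2 n16857 = n13330 := d22_1 D16857 F76168 F76164
theorem F76187 : act 3 n16857 = n13083 := d28_1 D16857 (iv D13083) (iv F59771)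
theorem F76188 : act 4 n16857 = n13328 := d33_1 D16857 F76180 (iv D16855)
theorem F76189 : act 6 n16857 = n16857 := d40_1 D16857 (iv D16857) F59772
theorem F76190 : act 9 n13338 = n16857 := d34_0 F76188 F60812 D13338
def n16858 : Q := act 6 n13082
theorem D16858 : act 6 n13082 = n16858 := rfl
theorem F76191 : act 0 n16858 = n16858 := d5_1 D16858 (iv D16858) F59779
theorem F76192 : act 4 n16858 = n16858 := d31_1 D16858 (iv D16858) F59780
theorem F76193 : act 5 n16858 = n13090 := d35_1 D16858 (iv D13090) F47271 (iv F47251) (iv F59781)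
theorem F76194 : act 7 n16858 = n16858 := d39_2 D13082 D16858 (iv D16858) (iv D13082) F47247
theorem F76195 : act 9 n16858 = n16858 := d41_2 F59782 D16858 (iv D16858)
def n16859 : Q := act 8 n13082
theorem D16859 : act 8 n13082 = n16859 := rfl
theorem F76196 : act 0 n16859 = n16859 := d7_1 D16859 (iv D16859) F59779
theorem F76197 : act 4 n16859 = n16859 := d33_1 D16859 (iv D16859) F59780
theorem F76198 : act 7 n16859 = n13083 := d42_1 D16859 (iv D13083) D13082
def n16860 : Q := act 9 n13083
theorem D16860 : act 9 n13083 = n16860 := rfl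
theorem F76199 : act 0 n16860 = n16860 := d8_1 D16860 (iv D16860) F59783
theorem F76200 : act 3 n16860 = n13338 := d29_1 D16860 F76190 F76187
theorem F76201 : act 4 n16860 = n16860 := d34_1 D16860 (iv D16860) F59784
theorem F76202 : act 6 n16860 = n16860 := d41_1 D16860 (iv D16860) F59785
theorem F76203 : act 8 n16860 = n16860 := d44_1 D16860 (iv D16860) (iv D13083) F47248 D13083
def n16861 : Q := act 6 n13084
theorem D16861 : act 6 n13084 = n16861 := rfl
theorem F76204 : act 0 n16861 = n13085 := d5_1 D16861 (iv D13085) D13084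
theorem F76205 : act 1 n16861 = n16861 := d13_1 D16861 (iv D16861) F59786
theorem F76206 : act 4 n16861 = n13134 := d31_1 D16861 (iv D13134) (iv F59787)
theorem F76207 : act 9 n16861 = n16861 := d41_2 F59789 D16861 (iv D16861)
def n16862 : Q := act 5 n13085
theorem D16862 : act 5 n13085 = n16862 := rfl
theorem F76208 : act 1 n16862 = n13086 := d12_1 D16862 (iv D13086) (iv F59790)
theorem F76209 : act 4 n16862 = n16862 := d30_1 D16862 (iv D16862) F59791 F47416 (iv F59791)
theorem F76210 : act 6 n16862 = n16862 := d35_2 D13085 D16862 (iv D16862) (iv D13085) F47254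
theorem F76211 : act 9 n16862 = n16862 := d38_2 F59792 D16862 (iv D16862)
def n16863 : Q := act 7 n13085
theorem D16863 : act 7 n13085 = n16863 := rfl
theorem F76212 : act 1 n16863 = n13087 := d14_1 D16863 (iv D13087) (iv F59790)
theorem F76213 : act 4 n16863 = n13135 := d32_1 D16863 (iv D13135) (iv F59791)
theorem F76214 : act 9 n16863 = n16863 := d43_2 F59792 D16863 (iv D16863)
def n16864 : Q := act 7 n13086
theorem D16864 : act 7 n13086 = n16864 := rfl
theorem F76215 : act 0 n16864 = n16864 := d6_1 D16864 (iv D16864) F59793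
theorem F76216 : act 2 n16864 = n13088 := d21_1 D16864 (iv D13088) (iv F59794)
theorem F76217 : act 4 n16864 = n16864 := d32_1 D16864 (iv D16864) F59795
theorem F76218 : act 5 n16864 = n13087 := d36_1 D16864 (iv D13087) D13086
theorem F76219 : act 9 n16864 = n16864 := d43_2 F59797 D16864 (iv D16864)
def n16865 : Q := act 8 n13086
theorem D16865 : act 8 n13086 = n16865 := rfl
theorem F76220 : act 0 n16865 = n16865 := d7_1 D16865 (iv D16865) F59793
theorem F76221 : act 2 n16865 = n13089 := d22_1 D16865 (iv D13089) (iv F59794)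
theorem F76222 : act 4 n16865 = n16865 := d33_1 D16865 (iv D16865) F59795
theorem F76223 : act 6 n16865 = n16865 := d40_1 D16865 (iv D16865) F59796
def n16866 : Q := act 6 n13088
theorem D16866 : act 6 n13088 = n16866 := rfl
theorem F76224 : act 0 n16866 = n16866 := d5_1 D16866 (iv D16866) F59802
theorem F76225 : act 3 n16866 = n13090 := d26_1 D16866 (iv D13090) (iv F59803)
theorem F76226 : act 4 n16866 = n16866 := d31_1 D16866 (iv D16866) F59804
theorem F76227 : act 7 n16866 = n16866 := d39_2 D13088 D16866 (iv D16866) (iv D13088) F47263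
theorem F76228 : act 9 n16866 = n16866 := d41_2 F59806 D16866 (iv D16866)
def n16867 : Q := act 8 n13088
theorem D16867 : act 8 n13088 = n16867 := rfl
theorem F76229 : act 0 n16867 = n16867 := d7_1 D16867 (iv D16867) F59802
theorem F76230 : act 3 n16867 = n13091 := d28_1 D16867 (iv D13091) (iv F59803)
theorem F76231 : act 4 n16867 = n16867 := d33_1 D16867 (iv D16867) F59804
theorem F76232 : act 7 n16867 = n13089 := d42_1 D16867 (iv D13089) D13088
def n16868 : Q := act 9 n13089
theorem D16868 : act 9 n13089 = n16868 := rfl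
theorem F76233 : act 0 n16868 = n16868 := d8_1 D16868 (iv D16868) F59807
theorem F76234 : act 3 n16868 = n13092 := d29_1 D16868 (iv D13092) (iv F59808)
theorem F76235 : act 4 n16868 = n16868 := d34_1 D16868 (iv D16868) F59809
theorem F76236 : act 6 n16868 = n16868 := d41_1 D16868 (iv D16868) F59810
theorem F76237 : act 8 n16868 = n16868 := d44_1 D16868 (iv D16868) (iv D13089) F47264 D13089
def n16869 : Q := act 8 n13090
theorem D16869 : act 8 n13090 = n16869 := rfl
theorem F76238 : act 0 n16869 = n16869 := d7_1 D16869 (iv D16869) F59811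
theorem F76239 : act 4 n16869 = n13093 := d33_1 D16869 (iv D13093) (iv F59812)
theorem F76240 : act 6 n16869 = n13091 := d40_1 D16869 (iv D13091) D13090
theorem F76241 : act 7 n16869 = n16869 := d42_1 D16869 (iv D16869) F59813
def n16870 : Q := act 9 n13091
theorem D16870 : act 9 n13091 = n16870 := rfl
theorem F76242 : act 0 n16870 = n16870 := d8_1 D16870 (iv D16870) F59815
theorem F76243 : act 4 n16870 = n13094 := d34_1 D16870 (iv D13094) (iv F59816)
theorem F76244 : act 7 n16870 = n13092 := d43_1 D16870 (iv D13092) (iv F59817)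
theorem F76245 : act 8 n16870 = n16870 := d44_1 D16870 (iv D16870) (iv D13091) F47272 D13091
def n16871 : Q := act 5 n13093
theorem D16871 : act 5 n13093 = n16871 := rfl
theorem F76246 : act 0 n16871 = n16871 := d4_1 D16871 (iv D16871) F59822
theorem F76247 : act 3 n16871 = n16871 := d25_1 D16871 (iv D16871) F59823
theorem F76248 : act 6 n16871 = n13300 := d35_2 (iv F59824) D16871 (iv D13300) F47909 (iv F47283)
theorem F76249 : act 7 n16871 = n16871 := d36_2 F59825 D16871 (iv D16871)
theorem F76250 : act 8 n16871 = n16871 := d37_2 D13093 D16871 (iv D16871) (iv D13093) F47278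
def n16872 : Q := act 9 n13093
theorem D16872 : act 9 n13093 = n16872 := rfl
theorem F76251 : act 0 n16872 = n16872 := d8_1 D16872 (iv D16872) F59822
theorem F76252 : act 3 n16872 = n16872 := d29_1 D16872 (iv D16872) F59823
theorem F76253 : act 6 n16872 = n13094 := d41_1 D16872 (iv D13094) (iv F59824)
theorem F76254 : act 7 n16872 = n16872 := d43_1 D16872 (iv D16872) F59825
theorem F76255 : act 8 n16872 = n16872 := d44_1 D16872 (iv D16872) (iv D13093) F47280 D13093
def n16873 : Q := act 2 n13095
theorem D16873 : act 2 n13095 = n16873 := rfl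
theorem F76256 : act 0 n16873 = n16873 := d1_1 D16873 (iv D16873) F59831
theorem F76257 : act 3 n16873 = n16873 := d17_2 D13095 D16873 (iv D16873) (iv D13095) F47291
theorem F76258 : act 4 n16873 = n13189 := d18_2 (iv F59832) D16873 (iv D13189)
theorem F76259 : act 5 n16873 = n16873 := d19_2 F59833 D16873 (iv D16873)
theorem F76260 : act 7 n16873 = n13302 := d21_2 (iv F59834) D16873 (iv D13302)
theorem F76261 : act 8 n16873 = n13642 := d22_2 (iv F59835) D16873 (iv D13642)
theorem F76262 : act 9 n16873 = n13098 := d23_2 (iv F59836) D16873 (iv D13098)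
def n16874 : Q := act 6 n13095
theorem D16874 : act 6 n13095 = n16874 := rfl
theorem F76263 : act 0 n16874 = n16874 := d5_1 D16874 (iv D16874) F59831
theorem F76264 : act 3 n16874 = n13096 := d26_1 D16874 (iv D13096) D13095
theorem F76265 : act 4 n16874 = n13190 := d31_1 D16874 (iv D13190) (iv F59832)
theorem F76266 : act 8 n16874 = n13643 := d40_2 (iv F59835) D16874 (iv D13643)
theorem F76267 : act 9 n16874 = n13099 := d41_2 (iv F59836) D16874 (iv D13099)
def n16875 : Q := act 5 n13096
theorem D16875 : act 5 n13096 = n16875 := rfl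
theorem F76268 : act 0 n16875 = n16875 := d4_1 D16875 (iv D16875) F59837
theorem F76269 : act 2 n16875 = n16875 := d19_1 D16875 (iv D16875) F59838
theorem F76270 : act 4 n16875 = n13104 := d30_1 D16875 (iv D13104) F47322 (iv F47299) (iv F59839)
theorem F76271 : act 6 n16875 = n16875 := d35_2 D13096 D16875 (iv D16875) (iv D13096) F47292
theorem F76272 : act 9 n16875 = n13100 := d38_2 (iv F59841) D16875 (iv D13100)
def n16876 : Q := act 7 n13096
theorem D16876 : act 7 n13096 = n16876 := rfl
theorem F76273 : act 0 n16876 = n16876 := d6_1 D16876 (iv D16876) F59837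
theorem F76274 : act 2 n16876 = n16876 := d21_1 D16876 (iv D16876) F59838
theorem F76275 : act 4 n16876 = n13097 := d32_1 D16876 (iv D13097) (iv F59839)
theorem F76276 : act 6 n16876 = n13305 := d39_1 D16876 (iv D13305) (iv D10348) (iv F47293) D13096
theorem F76277 : act 8 n16876 = n13645 := d42_2 (iv F59840) D16876 (iv D13645)
theorem F76278 : act 9 n16876 = n13101 := d43_2 (iv F59841) D16876 (iv D13101)
def n16877 : Q := act 1 n13098
theorem D16877 : act 1 n13098 = n16877 := rfl
theorem F76279 : act 3 n16877 = n16877 := d10_2 F59850 D16877 (iv D16877)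
theorem F76280 : act 5 n16877 = n16877 := d12_2 F59851 D16877 (iv D16877)
theorem F76281 : act 7 n16877 = n13306 := d14_2 (iv F59852) D16877 (iv D13306)
theorem F76282 : act 8 n16877 = n16877 := d15_2 F59853 D16877 (iv D16877)
def n16878 : Q := act 6 n13098
theorem D16878 : act 6 n13098 = n16878 := rfl
theorem F76283 : act 0 n16878 = n16878 := d5_1 D16878 (iv D16878) F59849
theorem F76284 : act 2 n16878 = n13099 := d20_1 D16878 (iv D13099) D13098
theorem F76285 : act 3 n16878 = n16878 := d26_1 D16878 (iv D16878) F59850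
theorem F76286 : act 8 n16878 = n16878 := d40_2 F59853 D16878 (iv D16878)
def n16879 : Q := act 5 n13099
theorem D16879 : act 5 n13099 = n16879 := rfl
theorem F76287 : act 0 n16879 = n16879 := d4_1 D16879 (iv D16879) F59854
theorem F76288 : act 3 n16879 = n13100 := d25_1 D16879 (iv D13100) (iv F59855)
theorem F76289 : act 6 n16879 = n16879 := d35_2 D13099 D16879 (iv D16879) (iv D13099) F47303
def n16880 : Q := act 7 n13099
theorem D16880 : act 7 n13099 = n16880 := rfl
theorem F76290 : act 0 n16880 = n16880 := d6_1 D16880 (iv D16880) F59854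
theorem F76291 : act 3 n16880 = n13101 := d27_1 D16880 (iv D13101) (iv F59855)
theorem F76292 : act 6 n16880 = n13309 := d39_1 D16880 (iv D13309) (iv D10351) (iv F47304) D13099
theorem F76293 : act 8 n16880 = n16880 := d42_2 F59856 D16880 (iv D16880)
def n16881 : Q := act 7 n13100
theorem D16881 : act 7 n13100 = n16881 := rfl
theorem F76294 : act 0 n16881 = n16881 := d6_1 D16881 (iv D16881) F59857
theorem F76295 : act 2 n16881 = n16881 := d21_1 D16881 (iv D16881) F59858
theorem F76296 : act 4 n16881 = n13110 := d32_1 D16881 (iv D13110) (iv F59859)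
theorem F76297 : act 5 n16881 = n13101 := d36_1 D16881 (iv D13101) D13100
def n16882 : Q := act 8 n13100
theorem D16882 : act 8 n13100 = n16882 := rfl
theorem F76298 : act 0 n16882 = n16882 := d7_1 D16882 (iv D16882) F59857
theorem F76299 : act 2 n16882 = n16882 := d22_1 D16882 (iv D16882) F59858
theorem F76300 : act 4 n16882 = n13111 := d33_1 D16882 (iv D13111) (iv F59859)
theorem F76301 : act 5 n16882 = n16882 := d37_1 D16882 (iv D16882) (iv D13100) F47309 D13100
theorem F76302 : act 6 n16882 = n16882 := d40_1 D16882 (iv D16882) F59860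
def n16883 : Q := act 1 n13102
theorem D16883 : act 1 n13102 = n16883 := rfl
theorem F76303 : act 3 n16883 = n16883 := d10_2 F59867 D16883 (iv D16883)
theorem F76304 : act 5 n16883 = n16883 := d12_2 F59868 D16883 (iv D16883)
theorem F76305 : act 7 n16883 = n13112 := d14_2 (iv F59869) D16883 (iv D13112)
theorem F76306 : act 8 n16883 = n16883 := d15_2 F59870 D16883 (iv D16883)
theorem F76307 : act 9 n16883 = n13106 := d16_2 (iv F59871) D16883 (iv D13106)
def n16884 : Q := act 6 n13102
theorem D16884 : act 6 n13102 = n16884 := rfl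
theorem F76308 : act 0 n16884 = n16884 := d5_1 D16884 (iv D16884) F59866
theorem F76309 : act 2 n16884 = n13103 := d20_1 D16884 (iv D13103) D13102
theorem F76310 : act 3 n16884 = n16884 := d26_1 D16884 (iv D16884) F59867
theorem F76311 : act 8 n16884 = n16884 := d40_2 F59870 D16884 (iv D16884)
theorem F76312 : act 9 n16884 = n13107 := d41_2 (iv F59871) D16884 (iv D13107)
def n16885 : Q := act 5 n13103
theorem D16885 : act 5 n13103 = n16885 := rfl
theorem F76313 : act 0 n16885 = n16885 := d4_1 D16885 (iv D16885) F59872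
theorem F76314 : act 3 n16885 = n13104 := d25_1 D16885 (iv D13104) (iv F59873)
theorem F76315 : act 6 n16885 = n16885 := d35_2 D13103 D16885 (iv D16885) (iv D13103) F47316
theorem F76316 : act 9 n16885 = n13108 := d38_2 (iv F59875) D16885 (iv D13108)
def n16886 : Q := act 7 n13103
theorem D16886 : act 7 n13103 = n16886 := rfl
theorem F76317 : act 0 n16886 = n16886 := d6_1 D16886 (iv D16886) F59872
theorem F76318 : act 3 n16886 = n13105 := d27_1 D16886 (iv D13105) (iv F59873)
theorem F76319 : act 6 n16886 = n13115 := d39_1 D16886 (iv D13115) (iv D10209) (iv F47317) D13103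
theorem F76320 : act 8 n16886 = n16886 := d42_2 F59874 D16886 (iv D16886)
theorem F76321 : act 9 n16886 = n13109 := d43_2 (iv F59875) D16886 (iv D13109)
def n16887 : Q := act 7 n13104
theorem D16887 : act 7 n13104 = n16887 := rfl
theorem F76322 : act 0 n16887 = n16887 := d6_1 D16887 (iv D16887) F59876
theorem F76323 : act 2 n16887 = n16887 := d21_1 D16887 (iv D16887) F59877
theorem F76324 : act 5 n16887 = n13105 := d36_1 D16887 (iv D13105) D13104
theorem F76325 : act 9 n16887 = n13110 := d43_2 (iv F59879) D16887 (iv D13110)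
def n16888 : Q := act 8 n13104
theorem D16888 : act 8 n13104 = n16888 := rfl
theorem F76326 : act 0 n16888 = n16888 := d7_1 D16888 (iv D16888) F59876
theorem F76327 : act 2 n16888 = n16888 := d22_1 D16888 (iv D16888) F59877
theorem F76328 : act 5 n16888 = n16888 := d37_1 D16888 (iv D16888) (iv D13104) F47323 D13104
theorem F76329 : act 6 n16888 = n16888 := d40_1 D16888 (iv D16888) F59878
def n16889 : Q := act 0 n13106
theorem D16889 : act 0 n13106 = n16889 := rfl
theorem F76330 : act 1 n16889 = n16889 := d0_2 D13106 D16889 (iv D16889) (iv D13106) F47330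
theorem F76331 : act 3 n16889 = n16889 := d2_2 F59886 D16889 (iv D16889)
theorem F76332 : act 5 n16889 = n16889 := d4_2 F59887 D16889 (iv D16889)
theorem F76333 : act 7 n16889 = n13118 := d6_2 (iv F59888) D16889 (iv D13118)
theorem F76334 : act 8 n16889 = n13125 := d7_2 (iv F59889) D16889 (iv D13125)
def n16890 : Q := act 6 n13106
theorem D16890 : act 6 n13106 = n16890 := rfl
theorem F76335 : act 1 n16890 = n13107 := d13_1 D16890 (iv D13107) D13106
theorem F76336 : act 3 n16890 = n16890 := d26_1 D16890 (iv D16890) F59886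
theorem F76337 : act 8 n16890 = n13126 := d40_2 (iv F59889) D16890 (iv D13126)
def n16891 : Q := act 5 n13107
theorem D16891 : act 5 n13107 = n16891 := rfl
theorem F76338 : act 0 n16891 = n16891 := d4_1 D16891 (iv D16891) F59890
theorem F76339 : act 2 n16891 = n13108 := d19_1 D16891 (iv D13108) (iv F59891)
theorem F76340 : act 3 n16891 = n16891 := d25_1 D16891 (iv D16891) F59892
theorem F76341 : act 6 n16891 = n16891 := d35_2 D13107 D16891 (iv D16891) (iv D13107) F47332
theorem F76342 : act 8 n16891 = n13508 := d37_2 (iv F59893) D16891 F61531 (iv F59982) (iv D13127)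
theorem F76343 : act 4 n13510 = n16891 := d33_3 F76342 (iv D13508) D13510
def n16892 : Q := act 7 n13107
theorem D16892 : act 7 n13107 = n16892 := rfl
theorem F76344 : act 0 n16892 = n16892 := d6_1 D16892 (iv D16892) F59890
theorem F76345 : act 2 n16892 = n13109 := d21_1 D16892 (iv D13109) (iv F59891)
theorem F76346 : act 3 n16892 = n16892 := d27_1 D16892 (iv D16892) F59892
theorem F76347 : act 6 n16892 = n13121 := d39_1 D16892 (iv D13121) (iv D10213) (iv F47333) D13107
theorem F76348 : act 8 n16892 = n13128 := d42_2 (iv F59893) D16892 (iv D13128)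
def n16893 : Q := act 4 n13108
theorem D16893 : act 4 n13108 = n16893 := rfl
theorem F76349 : act 0 n16893 = n16893 := d3_1 D16893 (iv D16893) F59894
theorem F76350 : act 2 n16893 = n13510 := d18_1 D16893 F76343 F76339
theorem F76351 : act 6 n16893 = n16893 := d31_2 F59896 D16893 (iv D16893)
theorem F76352 : act 8 n13506 = n16893 := d22_0 F76350 (iv D13510) (iv F61522)
def n16894 : Q := act 7 n13108
theorem D16894 : act 7 n13108 = n16894 := rfl
theorem F76353 : act 0 n16894 = n16894 := d6_1 D16894 (iv D16894) F59894
theorem F76354 : act 3 n16894 = n13110 := d27_1 D16894 (iv D13110) (iv F59895)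
theorem F76355 : act 5 n16894 = n13109 := d36_1 D16894 (iv D13109) D13108
def n16895 : Q := act 8 n13108
theorem D16895 : act 8 n13108 = n16895 := rfl
theorem F76356 : act 0 n16895 = n16895 := d7_1 D16895 (iv D16895) F59894
theorem F76357 : act 2 n16895 = n13508 := d22_1 D16895 (iv F76342) F76339
theorem F76358 : act 3 n16895 = n13111 := d28_1 D16895 (iv D13111) (iv F59895)
theorem F76359 : act 4 n16895 = n13506 := d33_1 D16895 F76352 (iv D16893)
theorem F76360 : act 5 n16895 = n13131 := d37_1 D16895 (iv D13131) (iv D10219) (iv F47337) D13108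
theorem F76361 : act 6 n16895 = n16895 := d40_1 D16895 (iv D16895) F59896
theorem F76362 : act 9 n13517 = n16895 := d38_0 F76360 (iv F60015) (iv F61563)
def n16896 : Q := act 6 n13110
theorem D16896 : act 6 n13110 = n16896 := rfl
theorem F76363 : act 0 n16896 = n16896 := d5_1 D16896 (iv D16896) F59901
theorem F76364 : act 2 n16896 = n16896 := d20_1 D16896 (iv D16896) F59902
theorem F76365 : act 5 n16896 = n13124 := d35_1 D16896 (iv D13124) F47382 (iv F47344) (iv F59903)
theorem F76366 : act 7 n16896 = n16896 := d39_2 D13110 D16896 (iv D16896) (iv D13110) F47340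
def n16897 : Q := act 8 n13110
theorem D16897 : act 8 n13110 = n16897 := rfl
theorem F76367 : act 0 n16897 = n16897 := d7_1 D16897 (iv D16897) F59901
theorem F76368 : act 2 n16897 = n16897 := d22_1 D16897 (iv D16897) F59902
theorem F76369 : act 5 n16897 = n13132 := d37_1 D16897 (iv D13132) F47403 (iv F47345) (iv F59903)
theorem F76370 : act 7 n16897 = n13111 := d42_1 D16897 (iv D13111) D13110
def n16898 : Q := act 9 n13111
theorem D16898 : act 9 n13111 = n16898 := rfl
theorem F76371 : act 0 n16898 = n16898 := d8_1 D16898 (iv D16898) F59904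
theorem F76372 : act 2 n16898 = n16898 := d23_1 D16898 (iv D16898) F59905
theorem F76373 : act 3 n16898 = n13517 := d29_1 D16898 F76362 F76358
theorem F76374 : act 5 n16898 = n13133 := d38_1 D16898 (iv D13133) (iv F59906)
theorem F76375 : act 6 n16898 = n16898 := d41_1 D16898 (iv D16898) F59907
def n16899 : Q := act 0 n13112
theorem D16899 : act 0 n13112 = n16899 := rfl
theorem F76376 : act 1 n16899 = n16899 := d0_2 D13112 D16899 (iv D16899) (iv D13112) F47346
theorem F76377 : act 3 n16899 = n16899 := d2_2 F59908 D16899 (iv D16899)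
theorem F76378 : act 5 n16899 = n16899 := d4_2 F59909 D16899 (iv D16899)
theorem F76379 : act 8 n16899 = n16899 := d7_2 F59910 D16899 (iv D16899)
theorem F76380 : act 9 n16899 = n13118 := d8_2 (iv F59911) D16899 (iv D13118)
def n16900 : Q := act 6 n13112
theorem D16900 : act 6 n13112 = n16900 := rfl
theorem F76381 : act 1 n16900 = n13113 := d13_1 D16900 (iv D13113) D13112
theorem F76382 : act 3 n16900 = n16900 := d26_1 D16900 (iv D16900) F59908
theorem F76383 : act 8 n16900 = n16900 := d40_2 F59910 D16900 (iv D16900)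
theorem F76384 : act 9 n16900 = n13119 := d41_2 (iv F59911) D16900 (iv D13119)
def n16901 : Q := act 5 n13113
theorem D16901 : act 5 n13113 = n16901 := rfl
theorem F76385 : act 0 n16901 = n16901 := d4_1 D16901 (iv D16901) F59912
theorem F76386 : act 2 n16901 = n13114 := d19_1 D16901 (iv D13114) (iv F59913)
theorem F76387 : act 3 n16901 = n16901 := d25_1 D16901 (iv D16901) F59914
theorem F76388 : act 6 n16901 = n16901 := d35_2 D13113 D16901 (iv D16901) (iv D13113) F47348
theorem F76389 : act 9 n16901 = n13120 := d38_2 (iv F59916) D16901 (iv D13120)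
def n16902 : Q := act 7 n13113
theorem D16902 : act 7 n13113 = n16902 := rfl
theorem F76390 : act 0 n16902 = n16902 := d6_1 D16902 (iv D16902) F59912
theorem F76391 : act 2 n16902 = n13115 := d21_1 D16902 (iv D13115) (iv F59913)
theorem F76392 : act 3 n16902 = n16902 := d27_1 D16902 (iv D16902) F59914
theorem F76393 : act 8 n16902 = n16902 := d42_2 F59915 D16902 (iv D16902)
theorem F76394 : act 9 n16902 = n13121 := d43_2 (iv F59916) D16902 (iv D13121)
def n16903 : Q := act 4 n13114
theorem D16903 : act 4 n13114 = n16903 := rfl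
theorem F76395 : act 0 n16903 = n16903 := d3_1 D16903 (iv D16903) F59917
theorem F76396 : act 3 n16903 = n13330 := d24_1 D16903 (iv D13330) F47995 (iv F47357) (iv F59918)
theorem F76397 : act 6 n16903 = n16903 := d31_2 F59919 D16903 (iv D16903)
theorem F76398 : act 9 n16903 = n13122 := d34_2 (iv F59920) D16903 (iv D13122)
def n16904 : Q := act 7 n13114
theorem D16904 : act 7 n13114 = n16904 := rfl
theorem F76399 : act 0 n16904 = n16904 := d6_1 D16904 (iv D16904) F59917
theorem F76400 : act 3 n16904 = n13116 := d27_1 D16904 (iv D13116) (iv F59918)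
theorem F76401 : act 5 n16904 = n13115 := d36_1 D16904 (iv D13115) D13114
theorem F76402 : act 9 n16904 = n13123 := d43_2 (iv F59920) D16904 (iv D13123)
def n16905 : Q := act 8 n13114
theorem D16905 : act 8 n13114 = n16905 := rfl
theorem F76403 : act 0 n16905 = n16905 := d7_1 D16905 (iv D16905) F59917
theorem F76404 : act 3 n16905 = n13117 := d28_1 D16905 (iv D13117) (iv F59918)
theorem F76405 : act 5 n16905 = n16905 := d37_1 D16905 (iv D16905) (iv D13114) F47353 D13114
theorem F76406 : act 6 n16905 = n16905 := d40_1 D16905 (iv D16905) F59919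
theorem F76407 : act 9 n16905 = n16905 := d44_2 (iv F59920) D16905 (iv D16905) F59920 F47375
def n16906 : Q := act 6 n13116
theorem D16906 : act 6 n13116 = n16906 := rfl
theorem F76408 : act 0 n16906 = n16906 := d5_1 D16906 (iv D16906) F59925
theorem F76409 : act 2 n16906 = n16906 := d20_1 D16906 (iv D16906) F59926
theorem F76410 : act 4 n16906 = n13333 := d31_1 D16906 (iv D13333) (iv F59927)
theorem F76411 : act 7 n16906 = n16906 := d39_2 D13116 D16906 (iv D16906) (iv D13116) F47358
theorem F76412 : act 9 n16906 = n13124 := d41_2 (iv F59929) D16906 (iv D13124)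
def n16907 : Q := act 8 n13116
theorem D16907 : act 8 n13116 = n16907 := rfl
theorem F76413 : act 0 n16907 = n16907 := d7_1 D16907 (iv D16907) F59925
theorem F76414 : act 2 n16907 = n16907 := d22_1 D16907 (iv D16907) F59926
theorem F76415 : act 4 n16907 = n13334 := d33_1 D16907 (iv D13334) (iv F59927)
theorem F76416 : act 5 n16907 = n16907 := d37_1 D16907 (iv D16907) F59928 F47363 (iv F59928)
theorem F76417 : act 7 n16907 = n13117 := d42_1 D16907 (iv D13117) D13116
theorem F76418 : act 9 n16907 = n16907 := d44_2 (iv F59929) D16907 (iv D16907) F59929 F47383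
def n16908 : Q := act 6 n13118
theorem D16908 : act 6 n13118 = n16908 := rfl
theorem F76419 : act 0 n16908 = n13119 := d5_1 D16908 (iv D13119) D13118
theorem F76420 : act 1 n16908 = n16908 := d13_1 D16908 (iv D16908) F59936
theorem F76421 : act 3 n16908 = n16908 := d26_1 D16908 (iv D16908) F59937
theorem F76422 : act 8 n16908 = n13134 := d40_2 (iv F59939) D16908 (iv D13134)
def n16909 : Q := act 5 n13119
theorem D16909 : act 5 n13119 = n16909 := rfl
theorem F76423 : act 1 n16909 = n13120 := d12_1 D16909 (iv D13120) (iv F59940)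
theorem F76424 : act 3 n16909 = n16909 := d25_1 D16909 (iv D16909) F59941
theorem F76425 : act 6 n16909 = n16909 := d35_2 D13119 D16909 (iv D16909) (iv D13119) F47366
theorem F76426 : act 8 n16909 = n16909 := d37_2 (iv F59942) D16909 (iv D16909) F59942 F47416
def n16910 : Q := act 7 n13119
theorem D16910 : act 7 n13119 = n16910 := rfl
theorem F76427 : act 1 n16910 = n13121 := d14_1 D16910 (iv D13121) (iv F59940)
theorem F76428 : act 3 n16910 = n16910 := d27_1 D16910 (iv D16910) F59941
theorem F76429 : act 8 n16910 = n13135 := d42_2 (iv F59942) D16910 (iv D13135)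
def n16911 : Q := act 4 n13120
theorem D16911 : act 4 n13120 = n16911 := rfl
theorem F76430 : act 0 n16911 = n16911 := d3_1 D16911 (iv D16911) F59943
theorem F76431 : act 2 n16911 = n13122 := d18_1 D16911 (iv D13122) (iv F59944)
theorem F76432 : act 6 n16911 = n16911 := d31_2 F59946 D16911 (iv D16911)
theorem F76433 : act 8 n16911 = n16911 := d33_2 F59947 D16911 (iv D16911)
def n16912 : Q := act 7 n13120
theorem D16912 : act 7 n13120 = n16912 := rfl
theorem F76434 : act 0 n16912 = n16912 := d6_1 D16912 (iv D16912) F59943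
theorem F76435 : act 2 n16912 = n13123 := d21_1 D16912 (iv D13123) (iv F59944)
theorem F76436 : act 3 n16912 = n16912 := d27_1 D16912 (iv D16912) F59945
theorem F76437 : act 5 n16912 = n13121 := d36_1 D16912 (iv D13121) D13120
theorem F76438 : act 8 n16912 = n16912 := d42_2 F59947 D16912 (iv D16912)
def n16913 : Q := act 7 n13122
theorem D16913 : act 7 n13122 = n16913 := rfl
theorem F76439 : act 0 n16913 = n16913 := d6_1 D16913 (iv D16913) F59952
theorem F76440 : act 3 n16913 = n13340 := d27_1 D16913 (iv D13340) (iv F59953)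
theorem F76441 : act 4 n16913 = n13123 := d32_1 D16913 (iv D13123) D13122
theorem F76442 : act 8 n16913 = n16913 := d42_2 F59955 D16913 (iv D16913)
def n16914 : Q := act 6 n13123
theorem D16914 : act 6 n13123 = n16914 := rfl
theorem F76443 : act 0 n16914 = n16914 := d5_1 D16914 (iv D16914) F59956
theorem F76444 : act 3 n16914 = n13124 := d26_1 D16914 (iv D13124) (iv F59957)
theorem F76445 : act 7 n16914 = n16914 := d39_2 D13123 D16914 (iv D16914) (iv D13123) F47374
theorem F76446 : act 8 n16914 = n16914 := d40_2 F59959 D16914 (iv D16914)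
def n16915 : Q := act 6 n13125
theorem D16915 : act 6 n13125 = n16915 := rfl
theorem F76447 : act 0 n16915 = n13126 := d5_1 D16915 (iv D13126) D13125
theorem F76448 : act 1 n16915 = n16915 := d13_1 D16915 (iv D16915) F59965
theorem F76449 : act 3 n16915 = n16915 := d26_1 D16915 (iv D16915) F59966
theorem F76450 : act 9 n16915 = n16915 := d41_2 F59969 D16915 (iv D16915)
def n16916 : Q := act 7 n13126
theorem D16916 : act 7 n13126 = n16916 := rfl
theorem F76451 : act 1 n16916 = n13128 := d14_1 D16916 (iv D13128) (iv F59970)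
theorem F76452 : act 3 n16916 = n16916 := d27_1 D16916 (iv D16916) F59971
theorem F76453 : act 6 n16916 = n13135 := d39_1 D16916 (iv D13135) (iv D10224) (iv F47386) D13126
theorem F76454 : act 9 n16916 = n16916 := d43_2 F59972 D16916 (iv D16916)
def n16917 : Q := act 7 n13127
theorem D16917 : act 7 n13127 = n16917 := rfl
theorem F76455 : act 0 n16917 = n16917 := d6_1 D16917 (iv D16917) F59973
theorem F76456 : act 2 n16917 = n13130 := d21_1 D16917 (iv D13130) (iv F59974)
theorem F76457 : act 3 n16917 = n16917 := d27_1 D16917 (iv D16917) F59975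
theorem F76458 : act 4 n16917 = n13563 := d32_1 D16917 F61743 F59978
theorem F76459 : act 5 n16917 = n13128 := d36_1 D16917 (iv D13128) D13127
theorem F76460 : act 6 n16917 = n16917 := d39_1 D16917 (iv D16917) F59976 F47438 (iv F59976)
theorem F76461 : act 8 n16917 = n13562 := d42_2 (iv F59982) D16917 (iv D13562)
theorem F76462 : act 9 n16917 = n16917 := d43_2 F59977 D16917 (iv D16917)
def n16918 : Q := act 7 n13129
theorem D16918 : act 7 n13129 = n16918 := rfl
theorem F76463 : act 0 n16918 = n16918 := d6_1 D16918 (iv D16918) F59999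
theorem F76464 : act 2 n16918 = n13563 := d21_1 D16918 F61743 (iv F60000)
theorem F76465 : act 3 n16918 = n16918 := d27_1 D16918 (iv D16918) F60001
theorem F76466 : act 4 n16918 = n13130 := d32_1 D16918 (iv D13130) D13129
theorem F76467 : act 6 n16918 = n16918 := d39_1 D16918 (iv D16918) F60002 F47443 (iv F60002)
theorem F76468 : act 8 n16918 = n13561 := d42_2 F60004 D16918 (iv D13561)
theorem F76469 : act 9 n16918 = n16918 := d43_2 F60003 D16918 (iv D16918)
def n16919 : Q := act 8 n13130
theorem D16919 : act 8 n13130 = n16919 := rfl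
theorem F76470 : act 0 n16919 = n16919 := d7_1 D16919 (iv D16919) F60005
theorem F76471 : act 2 n16919 = n13562 := d22_1 D16919 (iv F76461) F76456
theorem F76472 : act 3 n16919 = n13132 := d28_1 D16919 (iv D13132) (iv F60006)
theorem F76474 : act 6 n16919 = n16919 := d40_1 D16919 (iv D16919) F60008
theorem F76475 : act 7 n16919 = n13131 := d42_1 D16919 (iv D13131) D13130
theorem F76476 : act 9 n13568 = n16919 := d43_0 F76475 (iv F60015) D13568
def n16920 : Q := act 9 n13132
theorem D16920 : act 9 n13132 = n16920 := rfl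
theorem F76477 : act 0 n16920 = n16920 := d8_1 D16920 (iv D16920) F60016
theorem F76478 : act 2 n16920 = n16920 := d23_1 D16920 (iv D16920) F60017
theorem F76479 : act 3 n16920 = n13568 := d29_1 D16920 F76476 F76472
theorem F76480 : act 4 n16920 = n16920 := d34_1 D16920 (iv D16920) F60018
theorem F76481 : act 6 n16920 = n16920 := d41_1 D16920 (iv D16920) F60019
theorem F76482 : act 7 n16920 = n13133 := d43_1 D16920 (iv D13133) (iv F60020)
theorem F76483 : act 8 n16920 = n16920 := d44_1 D16920 (iv D16920) (iv D13132) F47405 D13132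
def n16921 : Q := act 7 n13134
theorem D16921 : act 7 n13134 = n16921 := rfl
theorem F76484 : act 0 n16921 = n13135 := d6_1 D16921 (iv D13135) (iv F60027)
theorem F76485 : act 1 n16921 = n16921 := d14_1 D16921 (iv D16921) F60028
theorem F76486 : act 3 n16921 = n16921 := d27_1 D16921 (iv D16921) F60029
theorem F76487 : act 5 n16921 = n16921 := d36_1 D16921 (iv D16921) F60030
theorem F76488 : act 9 n16921 = n16921 := d43_2 F60031 D16921 (iv D16921)
def n16922 : Q := act 3 n13137
theorem D16922 : act 3 n13137 = n16922 := rfl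
theorem F76493 : act 9 n16922 = n13139 := d29_2 (iv F60046) D16922 (iv D13139)
def n16923 : Q := act 6 n13137
theorem D16923 : act 6 n13137 = n16923 := rfl
theorem F76494 : act 0 n16923 = n13162 := d5_1 D16923 (iv D13162) (iv F60043)
theorem F76495 : act 1 n16923 = n16923 := d13_1 D16923 (iv D16923) F60044
theorem F76496 : act 4 n16923 = n13138 := d31_1 D16923 (iv D13138) D13137
theorem F76497 : act 8 n16923 = n13364 := d40_2 (iv F60045) D16923 (iv D13364)
theorem F76498 : act 9 n16923 = n13140 := d41_2 (iv F60046) D16923 (iv D13140)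
def n16924 : Q := act 7 n13138
theorem D16924 : act 7 n13138 = n16924 := rfl
theorem F76499 : act 0 n16924 = n13163 := d6_1 D16924 (iv D13163) (iv F60047)
theorem F76500 : act 1 n16924 = n16924 := d14_1 D16924 (iv D16924) F60048
theorem F76501 : act 3 n16924 = n16924 := d27_1 D16924 (iv D16924) F60049
theorem F76502 : act 8 n16924 = n13365 := d42_2 (iv F60050) D16924 (iv D13365)
theorem F76503 : act 9 n16924 = n13141 := d43_2 (iv F60051) D16924 (iv D13141)
def n16925 : Q := act 2 n13139
theorem D16925 : act 2 n13139 = n16925 := rfl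
theorem F76506 : act 8 n16925 = n13145 := d22_2 (iv F60055) D16925 (iv D13145)
def n16926 : Q := act 6 n13139
theorem D16926 : act 6 n13139 = n16926 := rfl
theorem F76509 : act 3 n16926 = n13140 := d26_1 D16926 (iv D13140) D13139
theorem F76511 : act 8 n16926 = n13146 := d40_2 (iv F60055) D16926 (iv D13146)
def n16927 : Q := act 5 n13140
theorem D16927 : act 5 n13140 = n16927 := rfl
theorem F76512 : act 0 n16927 = n13166 := d4_1 D16927 (iv D13166) (iv F60056)
theorem F76513 : act 1 n16927 = n16927 := d12_1 D16927 (iv D16927) F60057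
def n16928 : Q := act 7 n13140
theorem D16928 : act 7 n13140 = n16928 := rfl
theorem F76514 : act 0 n16928 = n13167 := d6_1 D16928 (iv D13167) (iv F60056)
theorem F76515 : act 1 n16928 = n16928 := d14_1 D16928 (iv D16928) F60057
theorem F76516 : act 4 n16928 = n13141 := d32_1 D16928 (iv D13141) (iv F60058)
theorem F76517 : act 8 n16928 = n13148 := d42_2 (iv F60059) D16928 (iv D13148)
def n16929 : Q := act 2 n13142
theorem D16929 : act 2 n13142 = n16929 := rfl
theorem F76520 : act 5 n16929 = n13583 := d19_2 (iv F60067) D16929 (iv D13583)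
theorem F76521 : act 7 n16929 = n13145 := d21_2 (iv F60068) D16929 (iv D13145)
def n16930 : Q := act 6 n13142
theorem D16930 : act 6 n13142 = n16930 := rfl
theorem F76523 : act 0 n16930 = n13169 := d5_1 D16930 (iv D13169) (iv F60064)
theorem F76525 : act 3 n16930 = n13143 := d26_1 D16930 (iv D13143) D13142
def n16931 : Q := act 5 n13143
theorem D16931 : act 5 n13143 = n16931 := rfl
theorem F76531 : act 6 n16931 = n13585 := d35_2 D13143 D16931 (iv D13585) (iv D10574) (iv F47469)
def n16932 : Q := act 7 n13143
theorem D16932 : act 7 n13143 = n16932 := rfl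
theorem F76533 : act 0 n16932 = n13171 := d6_1 D16932 (iv D13171) (iv F60070)
theorem F76534 : act 1 n16932 = n16932 := d14_1 D16932 (iv D16932) F60071
theorem F76535 : act 4 n16932 = n13144 := d32_1 D16932 (iv D13144) (iv F60072)
theorem F76536 : act 6 n16932 = n13148 := d39_1 D16932 (iv D13148) (iv D10238) (iv F47470) D13143
theorem F76537 : act 9 n16932 = n13373 := d43_2 (iv F60073) D16932 (iv D13373)
def n16933 : Q := act 1 n13145
theorem D16933 : act 1 n13145 = n16933 := rfl
theorem F76540 : act 5 n16933 = n13587 := d12_2 (iv F60082) D16933 (iv D13587)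
def n16936 : Q := act 7 n13146
theorem D16936 : act 7 n13146 = n16936 := rfl
theorem F76553 : act 3 n16936 = n13148 := d27_1 D16936 (iv D13148) (iv F60086)
def n16937 : Q := act 7 n13147
theorem D16937 : act 7 n13147 = n16937 := rfl
theorem F76559 : act 5 n16937 = n13148 := d36_1 D16937 (iv D13148) D13147
def n16938 : Q := act 8 n13147
theorem D16938 : act 8 n13147 = n16938 := rfl
def n16948 : Q := act 2 n13155
theorem D16948 : act 2 n13155 = n16948 := rfl
theorem F76605 : act 5 n16948 = n13164 := d19_2 (iv F60127) D16948 (iv D13164)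
theorem F76606 : act 8 n16948 = n13602 := d22_2 (iv F60128) D16948 (iv D13602)
def n16949 : Q := act 6 n13155
theorem D16949 : act 6 n13155 = n16949 := rfl
theorem F76607 : act 1 n16949 = n13190 := d13_1 D16949 (iv D13190) (iv F60126)
theorem F76608 : act 3 n16949 = n13156 := d26_1 D16949 (iv D13156) D13155
def n16950 : Q := act 5 n13156
theorem D16950 : act 5 n13156 = n16950 := rfl
theorem F76610 : act 1 n16950 = n13191 := d12_1 D16950 (iv D13191) (iv F60129)
theorem F76611 : act 6 n16950 = n13166 := d35_2 D13156 D16950 (iv D13166) (iv D10251) (iv F47511)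
def n16951 : Q := act 7 n13156
theorem D16951 : act 7 n13156 = n16951 := rfl
theorem F76612 : act 1 n16951 = n13192 := d14_1 D16951 (iv D13192) (iv F60129)
theorem F76613 : act 4 n16951 = n13157 := d32_1 D16951 (iv D13157) (iv F60130)
theorem F76614 : act 8 n16951 = n13605 := d42_2 (iv F60131) D16951 (iv D13605)
def n16952 : Q := act 2 n13158
theorem D16952 : act 2 n13158 = n16952 := rfl
theorem F76616 : act 7 n16952 = n13164 := d21_2 (iv F60136) D16952 (iv D13164)
theorem F76617 : act 8 n16952 = n13168 := d22_2 (iv F60137) D16952 (iv D13168)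
def n16953 : Q := act 6 n13158
theorem D16953 : act 6 n13158 = n16953 := rfl
theorem F76619 : act 3 n16953 = n13159 := d26_1 D16953 (iv D13159) D13158
def n16954 : Q := act 5 n13159
theorem D16954 : act 5 n13159 = n16954 := rfl
theorem F76622 : act 1 n16954 = n13201 := d12_1 D16954 (iv D13201) (iv F60138)
def n16955 : Q := act 7 n13159
theorem D16955 : act 7 n13159 = n16955 := rfl
theorem F76623 : act 1 n16955 = n13202 := d14_1 D16955 (iv D13202) (iv F60138)
theorem F76624 : act 4 n16955 = n13160 := d32_1 D16955 (iv D13160) (iv F60139)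
theorem F76625 : act 6 n16955 = n13167 := d39_1 D16955 (iv D13167) (iv D10251) (iv F47516) D13159
theorem F76626 : act 8 n16955 = n13171 := d42_2 (iv F60140) D16955 (iv D13171)
def n16956 : Q := act 2 n13161
theorem D16956 : act 2 n13161 = n16956 := rfl
theorem F76629 : act 9 n16956 = n13164 := d23_2 (iv F60148) D16956 (iv D13164)
def n16957 : Q := act 6 n13161
theorem D16957 : act 6 n13161 = n16957 := rfl
theorem F76630 : act 1 n16957 = n13204 := d13_1 D16957 (iv D13204) (iv F60145)
theorem F76631 : act 3 n16957 = n13162 := d26_1 D16957 (iv D13162) D13161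
theorem F76634 : act 9 n16957 = n13165 := d41_2 (iv F60148) D16957 (iv D13165)
def n16958 : Q := act 5 n13162
theorem D16958 : act 5 n13162 = n16958 := rfl
theorem F76635 : act 1 n16958 = n13205 := d12_1 D16958 (iv D13205) (iv F60149)
theorem F76636 : act 9 n16958 = n13166 := d38_2 (iv F60152) D16958 (iv D13166)
def n16959 : Q := act 7 n13162
theorem D16959 : act 7 n13162 = n16959 := rfl
theorem F76637 : act 1 n16959 = n13206 := d14_1 D16959 (iv D13206) (iv F60149)
theorem F76638 : act 4 n16959 = n13163 := d32_1 D16959 (iv D13163) (iv F60150)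
theorem F76639 : act 8 n16959 = n13399 := d42_2 (iv F60151) D16959 (iv D13399)
theorem F76640 : act 9 n16959 = n13167 := d43_2 (iv F60152) D16959 (iv D13167)
def n16960 : Q := act 1 n13164
theorem D16960 : act 1 n13164 = n16960 := rfl
theorem F76643 : act 8 n16960 = n13172 := d15_2 (iv F60158) D16960 (iv D13172)
def n16961 : Q := act 6 n13164
theorem D16961 : act 6 n13164 = n16961 := rfl
theorem F76646 : act 8 n16961 = n13173 := d40_2 (iv F60158) D16961 (iv D13173)
def n16962 : Q := act 5 n13165
theorem D16962 : act 5 n13165 = n16962 := rfl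
theorem F76647 : act 1 n16962 = n13209 := d12_1 D16962 (iv D13209) (iv F60159)
theorem F76648 : act 3 n16962 = n13166 := d25_1 D16962 (iv D13166) (iv F60160)
def n16963 : Q := act 7 n13165
theorem D16963 : act 7 n13165 = n16963 := rfl
theorem F76649 : act 1 n16963 = n13210 := d14_1 D16963 (iv D13210) (iv F60159)
theorem F76650 : act 3 n16963 = n13167 := d27_1 D16963 (iv D13167) (iv F60160)
theorem F76652 : act 8 n16963 = n13175 := d42_2 (iv F60162) D16963 (iv D13175)
def n16964 : Q := act 7 n13166
theorem D16964 : act 7 n13166 = n16964 := rfl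
theorem F76653 : act 1 n16964 = n13211 := d14_1 D16964 (iv D13211) (iv F60163)
theorem F76654 : act 5 n16964 = n13167 := d36_1 D16964 (iv D13167) D13166
def n16965 : Q := act 8 n13166
theorem D16965 : act 8 n13166 = n16965 := rfl
theorem F76655 : act 1 n16965 = n13212 := d15_1 D16965 (iv D13212) (iv F60163)
theorem F76656 : act 5 n16965 = n13177 := d37_1 D16965 (iv D13177) (iv D10258) (iv F47533) D13166
def n16966 : Q := act 1 n13168
theorem D16966 : act 1 n13168 = n16966 := rfl
theorem F76659 : act 5 n16966 = n13616 := d12_2 (iv F60168) D16966 (iv D13616)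
theorem F76661 : act 9 n16966 = n13406 := d16_2 (iv F60170) D16966 (iv D13406)
def n16967 : Q := act 6 n13168
theorem D16967 : act 6 n13168 = n16967 := rfl
theorem F76664 : act 9 n16967 = n13407 := d41_2 (iv F60170) D16967 (iv D13407)
def n16969 : Q := act 7 n13169
theorem D16969 : act 7 n13169 = n16969 := rfl
theorem F76672 : act 6 n16969 = n13175 := d39_1 D16969 (iv D13175) (iv D10257) (iv F47540) D13169
def n16970 : Q := act 7 n13170
theorem D16970 : act 7 n13170 = n16970 := rfl
theorem F76676 : act 5 n16970 = n13171 := d36_1 D16970 (iv D13171) D13170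
def n16971 : Q := act 8 n13170
theorem D16971 : act 8 n13170 = n16971 := rfl
def n16972 : Q := act 0 n13172
theorem D16972 : act 0 n13172 = n16972 := rfl
theorem F76683 : act 5 n16972 = n13622 := d4_2 (iv F60185) D16972 (iv D13622)
def n16973 : Q := act 6 n13172
theorem D16973 : act 6 n13172 = n16973 := rfl
theorem F76688 : act 9 n16973 = n13413 := d41_2 (iv F60186) D16973 (iv D13413)
def n16974 : Q := act 5 n13173
theorem D16974 : act 5 n13173 = n16974 := rfl
theorem F76690 : act 6 n16974 = n13624 := d35_2 D13173 D16974 (iv D13624) (iv D10601) (iv F47551)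
def n16975 : Q := act 7 n13173
theorem D16975 : act 7 n13173 = n16975 := rfl
def n16980 : Q := act 8 n13176
theorem D16980 : act 8 n13176 = n16980 := rfl
theorem F76711 : act 1 n16980 = n13227 := d15_1 D16980 (iv D13227) (iv F60198)
def n16981 : Q := act 9 n13177
theorem D16981 : act 9 n13177 = n16981 := rfl
theorem F76714 : act 1 n16981 = n13228 := d16_1 D16981 (iv D13228) (iv F60202)
def n16991 : Q := act 9 n13184
theorem D16991 : act 9 n13184 = n16991 := rfl
theorem F76752 : act 1 n16991 = n13235 := d16_1 D16991 (iv D13235) (iv F60229)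
def n16992 : Q := act 2 n13186
theorem D16992 : act 2 n13186 = n16992 := rfl
theorem F76756 : act 3 n16992 = n13236 := d17_2 D13186 D16992 (iv D13236) (iv D10300) (iv F47583)
theorem F76757 : act 4 n16992 = n13302 := d18_2 (iv F60235) D16992 (iv D13302)
theorem F76758 : act 5 n16992 = n13199 := d19_2 (iv F60236) D16992 (iv D13199)
theorem F76759 : act 7 n16992 = n13189 := d21_2 (iv F60237) D16992 (iv D13189)
theorem F76760 : act 8 n16992 = n13646 := d22_2 (iv F60238) D16992 (iv D13646)
theorem F76761 : act 9 n16992 = n13250 := d23_2 (iv F60239) D16992 (iv D13250)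
def n16993 : Q := act 6 n13186
theorem D16993 : act 6 n13186 = n16993 := rfl
theorem F76762 : act 0 n16993 = n16993 := d5_1 D16993 (iv D16993) F60234
theorem F76763 : act 3 n16993 = n13187 := d26_1 D16993 (iv D13187) D13186
theorem F76764 : act 4 n16993 = n13303 := d31_1 D16993 (iv D13303) (iv F60235)
theorem F76765 : act 8 n16993 = n13647 := d40_2 (iv F60238) D16993 (iv D13647)
theorem F76766 : act 9 n16993 = n13251 := d41_2 (iv F60239) D16993 (iv D13251)
def n16994 : Q := act 5 n13187
theorem D16994 : act 5 n13187 = n16994 := rfl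
theorem F76767 : act 0 n16994 = n16994 := d4_1 D16994 (iv D16994) F60240
theorem F76768 : act 2 n16994 = n13238 := d19_1 D16994 (iv D13238) (iv F60241)
theorem F76769 : act 4 n16994 = n13256 := d30_1 D16994 (iv D13256) F47795 (iv F47591) (iv F60242)
theorem F76770 : act 6 n16994 = n13201 := d35_2 D13187 D16994 (iv D13201) (iv D10275) (iv F47584)
theorem F76771 : act 9 n16994 = n13252 := d38_2 (iv F60244) D16994 (iv D13252)
def n16995 : Q := act 7 n13187
theorem D16995 : act 7 n13187 = n16995 := rfl
theorem F76772 : act 0 n16995 = n16995 := d6_1 D16995 (iv D16995) F60240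
theorem F76773 : act 2 n16995 = n13239 := d21_1 D16995 (iv D13239) (iv F60241)
theorem F76774 : act 4 n16995 = n13188 := d32_1 D16995 (iv D13188) (iv F60242)
theorem F76775 : act 6 n16995 = n13192 := d39_1 D16995 (iv D13192) (iv D10268) (iv F47585) D13187
theorem F76776 : act 8 n16995 = n13649 := d42_2 (iv F60243) D16995 (iv D13649)
theorem F76777 : act 9 n16995 = n13253 := d43_2 (iv F60244) D16995 (iv D13253)
def n16996 : Q := act 1 n13189
theorem D16996 : act 1 n13189 = n16996 := rfl
theorem F76778 : act 3 n16996 = n13244 := d10_2 (iv F60253) D16996 (iv D13244)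
theorem F76780 : act 8 n16996 = n13650 := d15_2 (iv F60255) D16996 (iv D13650)
def n16997 : Q := act 6 n13189
theorem D16997 : act 6 n13189 = n16997 := rfl
theorem F76781 : act 0 n16997 = n16997 := d5_1 D16997 (iv D16997) F60252
theorem F76782 : act 2 n16997 = n13190 := d20_1 D16997 (iv D13190) D13189
theorem F76783 : act 3 n16997 = n13245 := d26_1 D16997 (iv D13245) (iv F60253)
theorem F76784 : act 8 n16997 = n13651 := d40_2 (iv F60255) D16997 (iv D13651)
def n16998 : Q := act 5 n13190
theorem D16998 : act 5 n13190 = n16998 := rfl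
theorem F76785 : act 0 n16998 = n16998 := d4_1 D16998 (iv D16998) F60256
theorem F76786 : act 3 n16998 = n13191 := d25_1 D16998 (iv D13191) (iv F60257)
theorem F76787 : act 6 n16998 = n13209 := d35_2 D13190 D16998 (iv D13209) (iv D10281) (iv F47595)
def n16999 : Q := act 7 n13190
theorem D16999 : act 7 n13190 = n16999 := rfl
theorem F76788 : act 0 n16999 = n16999 := d6_1 D16999 (iv D16999) F60256
theorem F76789 : act 3 n16999 = n13192 := d27_1 D16999 (iv D13192) (iv F60257)
theorem F76790 : act 8 n16999 = n13653 := d42_2 (iv F60258) D16999 (iv D13653)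
def n17000 : Q := act 7 n13191
theorem D17000 : act 7 n13191 = n17000 := rfl
theorem F76791 : act 0 n17000 = n17000 := d6_1 D17000 (iv D17000) F60259
theorem F76792 : act 2 n17000 = n13248 := d21_1 D17000 (iv D13248) (iv F60260)
theorem F76793 : act 5 n17000 = n13192 := d36_1 D17000 (iv D13192) D13191
def n17001 : Q := act 8 n13191
theorem D17001 : act 8 n13191 = n17001 := rfl
theorem F76794 : act 0 n17001 = n17001 := d7_1 D17001 (iv D17001) F60259
theorem F76795 : act 2 n17001 = n13249 := d22_1 D17001 (iv D13249) (iv F60260)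
theorem F76796 : act 5 n17001 = n13655 := d37_1 D17001 (iv D13655) (iv D10622) (iv F47600) D13191
theorem F76797 : act 6 n17001 = n13212 := d40_1 D17001 (iv D13212) (iv F60261)
def n17003 : Q := act 6 n13193
theorem D17003 : act 6 n13193 = n17003 := rfl
theorem F76805 : act 0 n17003 = n17003 := d5_1 D17003 (iv D17003) F60266
theorem F76806 : act 3 n17003 = n13194 := d26_1 D17003 (iv D13194) D13193
theorem F76807 : act 4 n17003 = n17003 := d31_1 D17003 (iv D17003) F60267
theorem F76808 : act 8 n17003 = n17003 := d40_2 F60270 D17003 (iv D17003)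
theorem F76809 : act 9 n17003 = n13237 := d41_2 (iv F60271) D17003 (iv D13237)
def n17004 : Q := act 5 n13194
theorem D17004 : act 5 n13194 = n17004 := rfl
theorem F76810 : act 0 n17004 = n17004 := d4_1 D17004 (iv D17004) F60272
theorem F76811 : act 2 n17004 = n13252 := d19_1 D17004 (iv D13252) (iv F60273)
theorem F76812 : act 4 n17004 = n13201 := d30_1 D17004 (iv D13201) F47634 (iv F47613) (iv F60274)
theorem F76813 : act 6 n17004 = n13256 := d35_2 D13194 D17004 (iv D13256) (iv D10314) (iv F47606)
theorem F76814 : act 9 n17004 = n13238 := d38_2 (iv F60276) D17004 (iv D13238)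
def n17005 : Q := act 7 n13194
theorem D17005 : act 7 n13194 = n17005 := rfl
theorem F76815 : act 0 n17005 = n17005 := d6_1 D17005 (iv D17005) F60272
theorem F76816 : act 2 n17005 = n13253 := d21_1 D17005 (iv D13253) (iv F60273)
theorem F76817 : act 4 n17005 = n13195 := d32_1 D17005 (iv D13195) (iv F60274)
theorem F76818 : act 6 n17005 = n13243 := d39_1 D17005 (iv D13243) (iv D10304) (iv F47607) D13194
theorem F76819 : act 8 n17005 = n17005 := d42_2 F60275 D17005 (iv D17005)
theorem F76820 : act 9 n17005 = n13239 := d43_2 (iv F60276) D17005 (iv D13239)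
def n17006 : Q := act 2 n13196
theorem D17006 : act 2 n13196 = n17006 := rfl
theorem F76827 : act 9 n17006 = n13199 := d23_2 (iv F60289) D17006 (iv D13199)
def n17007 : Q := act 6 n13196
theorem D17007 : act 6 n13196 = n17007 := rfl
theorem F76828 : act 0 n17007 = n17007 := d5_1 D17007 (iv D17007) F60284
theorem F76829 : act 3 n17007 = n13197 := d26_1 D17007 (iv D13197) D13196
theorem F76830 : act 4 n17007 = n17007 := d31_1 D17007 (iv D17007) F60285
theorem F76831 : act 8 n17007 = n13433 := d40_2 (iv F60288) D17007 (iv D13433)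
theorem F76832 : act 9 n17007 = n13200 := d41_2 (iv F60289) D17007 (iv D13200)
def n17008 : Q := act 5 n13197
theorem D17008 : act 5 n13197 = n17008 := rfl
theorem F76833 : act 0 n17008 = n17008 := d4_1 D17008 (iv D17008) F60290
theorem F76834 : act 2 n17008 = n13256 := d19_1 D17008 (iv D13256) (iv F60291)
theorem F76835 : act 4 n17008 = n13238 := d30_1 D17008 (iv D13238) F47747 (iv F47625) (iv F60292)
theorem F76836 : act 6 n17008 = n13252 := d35_2 D13197 D17008 (iv D13252) (iv D10311) (iv F47618)
theorem F76837 : act 9 n17008 = n13201 := d38_2 (iv F60294) D17008 (iv D13201)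
def n17009 : Q := act 7 n13197
theorem D17009 : act 7 n13197 = n17009 := rfl
theorem F76838 : act 0 n17009 = n17009 := d6_1 D17009 (iv D17009) F60290
theorem F76839 : act 2 n17009 = n13257 := d21_1 D17009 (iv D13257) (iv F60291)
theorem F76840 : act 4 n17009 = n13198 := d32_1 D17009 (iv D13198) (iv F60292)
theorem F76841 : act 6 n17009 = n13206 := d39_1 D17009 (iv D13206) (iv D10278) (iv F47619) D13197
theorem F76842 : act 8 n17009 = n13435 := d42_2 (iv F60293) D17009 (iv D13435)
theorem F76843 : act 9 n17009 = n13202 := d43_2 (iv F60294) D17009 (iv D13202)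
def n17010 : Q := act 1 n13199
theorem D17010 : act 1 n13199 = n17010 := rfl
theorem F76844 : act 3 n17010 = n13258 := d10_2 (iv F60303) D17010 (iv D13258)
theorem F76846 : act 7 n17010 = n13207 := d14_2 (iv F60305) D17010 (iv D13207)
theorem F76847 : act 8 n17010 = n13213 := d15_2 (iv F60306) D17010 (iv D13213)
def n17011 : Q := act 6 n13199
theorem D17011 : act 6 n13199 = n17011 := rfl
theorem F76850 : act 3 n17011 = n13259 := d26_1 D17011 (iv D13259) (iv F60303)
theorem F76852 : act 8 n17011 = n13214 := d40_2 (iv F60306) D17011 (iv D13214)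
def n17012 : Q := act 5 n13200
theorem D17012 : act 5 n13200 = n17012 := rfl
theorem F76853 : act 0 n17012 = n17012 := d4_1 D17012 (iv D17012) F60307
theorem F76854 : act 3 n17012 = n13201 := d25_1 D17012 (iv D13201) (iv F60308)
def n17013 : Q := act 7 n13200
theorem D17013 : act 7 n13200 = n17013 := rfl
theorem F76855 : act 0 n17013 = n17013 := d6_1 D17013 (iv D17013) F60307
theorem F76856 : act 3 n17013 = n13202 := d27_1 D17013 (iv D13202) (iv F60308)
theorem F76857 : act 4 n17013 = n17013 := d32_1 D17013 (iv D17013) F60309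
theorem F76858 : act 6 n17013 = n13210 := d39_1 D17013 (iv D13210) (iv D10281) (iv F47630) D13200
theorem F76859 : act 8 n17013 = n13216 := d42_2 (iv F60310) D17013 (iv D13216)
def n17014 : Q := act 7 n13201
theorem D17014 : act 7 n13201 = n17014 := rfl
theorem F76860 : act 0 n17014 = n17014 := d6_1 D17014 (iv D17014) F60311
theorem F76861 : act 2 n17014 = n13262 := d21_1 D17014 (iv D13262) (iv F60312)
theorem F76862 : act 5 n17014 = n13202 := d36_1 D17014 (iv D13202) D13201
def n17015 : Q := act 8 n13201
theorem D17015 : act 8 n13201 = n17015 := rfl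
theorem F76863 : act 0 n17015 = n17015 := d7_1 D17015 (iv D17015) F60311
def n17017 : Q := act 6 n13203
theorem D17017 : act 6 n13203 = n17017 := rfl
theorem F76870 : act 0 n17017 = n17017 := d5_1 D17017 (iv D17017) F60318
theorem F76871 : act 2 n17017 = n13204 := d20_1 D17017 (iv D13204) D13203
theorem F76872 : act 3 n17017 = n13265 := d26_1 D17017 (iv D13265) (iv F60319)
theorem F76873 : act 4 n17017 = n17017 := d31_1 D17017 (iv D17017) F60320
theorem F76874 : act 8 n17017 = n13443 := d40_2 (iv F60321) D17017 (iv D13443)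
theorem F76875 : act 9 n17017 = n13208 := d41_2 (iv F60322) D17017 (iv D13208)
def n17018 : Q := act 5 n13204
theorem D17018 : act 5 n13204 = n17018 := rfl
theorem F76876 : act 0 n17018 = n17018 := d4_1 D17018 (iv D17018) F60323
theorem F76877 : act 3 n17018 = n13205 := d25_1 D17018 (iv D13205) (iv F60324)
theorem F76878 : act 9 n17018 = n13209 := d38_2 (iv F60327) D17018 (iv D13209)
def n17019 : Q := act 7 n13204
theorem D17019 : act 7 n13204 = n17019 := rfl
theorem F76879 : act 0 n17019 = n17019 := d6_1 D17019 (iv D17019) F60323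
theorem F76880 : act 3 n17019 = n13206 := d27_1 D17019 (iv D13206) (iv F60324)
theorem F76881 : act 4 n17019 = n17019 := d32_1 D17019 (iv D17019) F60325
theorem F76882 : act 8 n17019 = n13445 := d42_2 (iv F60326) D17019 (iv D13445)
theorem F76883 : act 9 n17019 = n13210 := d43_2 (iv F60327) D17019 (iv D13210)
def n17020 : Q := act 7 n13205
theorem D17020 : act 7 n13205 = n17020 := rfl
theorem F76884 : act 0 n17020 = n17020 := d6_1 D17020 (iv D17020) F60328
theorem F76885 : act 2 n17020 = n13268 := d21_1 D17020 (iv D13268) (iv F60329)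
theorem F76886 : act 5 n17020 = n13206 := d36_1 D17020 (iv D13206) D13205
theorem F76887 : act 9 n17020 = n13211 := d43_2 (iv F60330) D17020 (iv D13211)
def n17021 : Q := act 8 n13205
theorem D17021 : act 8 n13205 = n17021 := rfl
theorem F76888 : act 0 n17021 = n17021 := d7_1 D17021 (iv D17021) F60328
theorem F76889 : act 2 n17021 = n13269 := d22_1 D17021 (iv D13269) (iv F60329)
theorem F76890 : act 5 n17021 = n13447 := d37_1 D17021 (iv D13447) (iv D10452) (iv F47648) D13205
def n17022 : Q := act 0 n13207
theorem D17022 : act 0 n13207 = n17022 := rfl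
theorem F76892 : act 3 n17022 = n13270 := d2_2 (iv F60336) D17022 (iv D13270)
def n17024 : Q := act 5 n13208
theorem D17024 : act 5 n13208 = n17024 := rfl
theorem F76900 : act 2 n17024 = n13209 := d19_1 D17024 (iv D13209) (iv F60340)
theorem F76901 : act 3 n17024 = n13272 := d25_1 D17024 (iv D13272) (iv F60341)
def n17025 : Q := act 7 n13208
theorem D17025 : act 7 n13208 = n17025 := rfl
theorem F76902 : act 0 n17025 = n17025 := d6_1 D17025 (iv D17025) F60339
theorem F76903 : act 2 n17025 = n13210 := d21_1 D17025 (iv D13210) (iv F60340)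
theorem F76904 : act 3 n17025 = n13273 := d27_1 D17025 (iv D13273) (iv F60341)
theorem F76905 : act 4 n17025 = n17025 := d32_1 D17025 (iv D17025) F60342
def n17026 : Q := act 4 n13209
theorem D17026 : act 4 n13209 = n17026 := rfl
theorem F76907 : act 0 n17026 = n17026 := d3_1 D17026 (iv D17026) F60344
theorem F76908 : act 5 n17026 = n17026 := d30_2 D13209 D17026 (iv D17026) (iv D13209) F47661
def n17027 : Q := act 7 n13209
theorem D17027 : act 7 n13209 = n17027 := rfl
theorem F76909 : act 0 n17027 = n17027 := d6_1 D17027 (iv D17027) F60344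
theorem F76910 : act 3 n17027 = n13211 := d27_1 D17027 (iv D13211) (iv F60345)
theorem F76911 : act 5 n17027 = n13210 := d36_1 D17027 (iv D13210) D13209
def n17028 : Q := act 8 n13209
theorem D17028 : act 8 n13209 = n17028 := rfl
theorem F76913 : act 3 n17028 = n13212 := d28_1 D17028 (iv D13212) (iv F60345)
theorem F76914 : act 5 n17028 = n13225 := d37_1 D17028 (iv D13225) (iv D10290) (iv F47662) D13209
def n17029 : Q := act 6 n13211
theorem D17029 : act 6 n13211 = n17029 := rfl
theorem F76915 : act 0 n17029 = n17029 := d5_1 D17029 (iv D17029) F60350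
theorem F76916 : act 2 n17029 = n13277 := d20_1 D17029 (iv D13277) (iv F60351)
def n17030 : Q := act 8 n13211
theorem D17030 : act 8 n13211 = n17030 := rfl
theorem F76917 : act 0 n17030 = n17030 := d7_1 D17030 (iv D17030) F60350
theorem F76918 : act 2 n17030 = n13278 := d22_1 D17030 (iv D13278) (iv F60351)
theorem F76919 : act 5 n17030 = n13227 := d37_1 D17030 (iv D13227) F47709 (iv F47668) (iv F60352)
theorem F76920 : act 7 n17030 = n13212 := d42_1 D17030 (iv D13212) D13211
def n17031 : Q := act 9 n13212
theorem D17031 : act 9 n13212 = n17031 := rfl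
theorem F76921 : act 0 n17031 = n17031 := d8_1 D17031 (iv D17031) F60353
theorem F76922 : act 2 n17031 = n13279 := d23_1 D17031 (iv D13279) (iv F60354)
theorem F76923 : act 5 n17031 = n13228 := d38_1 D17031 (iv D13228) (iv F60355)
def n17032 : Q := act 0 n13213
theorem D17032 : act 0 n13213 = n17032 := rfl
theorem F76927 : act 5 n17032 = n13674 := d4_2 (iv F60358) D17032 (iv D13674)
theorem F76928 : act 7 n17032 = n13219 := d6_2 (iv F60359) D17032 (iv D13219)
theorem F76929 : act 9 n17032 = n13458 := d8_2 (iv F60360) D17032 (iv D13458)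
def n17033 : Q := act 6 n13213
theorem D17033 : act 6 n13213 = n17033 := rfl
def n17034 : Q := act 5 n13214
theorem D17034 : act 5 n13214 = n17034 := rfl
theorem F76935 : act 2 n17034 = n13215 := d19_1 D17034 (iv D13215) (iv F60362)
theorem F76937 : act 6 n17034 = n13676 := d35_2 D13214 D17034 (iv D13676) (iv D10637) (iv F47672)
def n17035 : Q := act 7 n13214
theorem D17035 : act 7 n13214 = n17035 := rfl
theorem F76943 : act 6 n17035 = n13222 := d39_1 D17035 (iv D13222) (iv D10289) (iv F47673) D13214
def n17036 : Q := act 4 n13215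
theorem D17036 : act 4 n13215 = n17036 := rfl
theorem F76948 : act 6 n17036 = n13678 := d31_2 (iv F60368) D17036 (iv D13678)
def n17038 : Q := act 8 n13215
theorem D17038 : act 8 n13215 = n17038 := rfl
theorem F76956 : act 6 n17038 = n13680 := d40_1 D17038 (iv D13680) (iv F60368)
def n17039 : Q := act 6 n13217
theorem D17039 : act 6 n13217 = n17039 := rfl
theorem F76960 : act 5 n17039 = n13226 := d35_1 D17039 (iv D13226) F47709 (iv F47687) (iv F60378)
theorem F76961 : act 7 n17039 = n13681 := d39_2 D13217 D17039 (iv D13681) (iv D10640) (iv F47682)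
def n17040 : Q := act 8 n13217
theorem D17040 : act 8 n13217 = n17040 := rfl
theorem F76966 : act 7 n17040 = n13218 := d42_1 D17040 (iv D13218) D13217
def n17042 : Q := act 6 n13219
theorem D17042 : act 6 n13219 = n17042 := rfl
theorem F76976 : act 9 n17042 = n13468 := d41_2 (iv F60388) D17042 (iv D13468)
def n17043 : Q := act 5 n13220
theorem D17043 : act 5 n13220 = n17043 := rfl
theorem F76979 : act 6 n17043 = n13685 := d35_2 D13220 D17043 (iv D13685) (iv D10643) (iv F47691)
def n17045 : Q := act 4 n13221
theorem D17045 : act 4 n13221 = n17045 := rfl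
theorem F76989 : act 6 n17045 = n13687 := d31_2 (iv F60396) D17045 (iv D13687)
def n17046 : Q := act 7 n13221
theorem D17046 : act 7 n13221 = n17046 := rfl
theorem F76994 : act 5 n17046 = n13222 := d36_1 D17046 (iv D13222) D13221
def n17047 : Q := act 8 n13221
theorem D17047 : act 8 n13221 = n17047 := rfl
theorem F76997 : act 2 n17047 = n13225 := d22_1 D17047 (iv D13225) (iv F60394)
theorem F76998 : act 3 n17047 = n13294 := d28_1 D17047 (iv D13294) (iv F60395)
theorem F76999 : act 6 n17047 = n13689 := d40_1 D17047 (iv D13689) (iv F60396)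
def n17049 : Q := act 8 n13223
theorem D17049 : act 8 n13223 = n17049 := rfl
theorem F77006 : act 3 n17049 = n13230 := d28_1 D17049 (iv D13230) (iv F60404)
theorem F77007 : act 4 n17049 = n13225 := d33_1 D17049 (iv D13225) D13223
def n17051 : Q := act 8 n13224
theorem D17051 : act 8 n13224 = n17051 := rfl
theorem F77014 : act 3 n17051 = n13227 := d28_1 D17051 (iv D13227) (iv F60409)
theorem F77015 : act 7 n17051 = n13225 := d42_1 D17051 (iv D13225) D13224
def n17052 : Q := act 9 n13225
theorem D17052 : act 9 n13225 = n17052 := rfl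
theorem F77017 : act 3 n17052 = n13228 := d29_1 D17052 (iv D13228) (iv F60413)
def n17053 : Q := act 8 n13226
theorem D17053 : act 8 n13226 = n17053 := rfl
theorem F77023 : act 6 n17053 = n13227 := d40_1 D17053 (iv D13227) D13226
def n17054 : Q := act 9 n13227
theorem D17054 : act 9 n13227 = n17054 := rfl
theorem F77025 : act 0 n17054 = n17054 := d8_1 D17054 (iv D17054) F60420
theorem F77026 : act 2 n17054 = n13299 := d23_1 D17054 (iv D13299) (iv F60421)
theorem F77027 : act 4 n17054 = n13235 := d34_1 D17054 (iv D13235) (iv F60422)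
theorem F77028 : act 7 n17054 = n13228 := d43_1 D17054 (iv D13228) (iv F60423)
theorem F77029 : act 8 n17054 = n13480 := d44_1 D17054 (iv D13480) (iv D10474) (iv F47710) D13227
def n17057 : Q := act 5 n13230
theorem D17057 : act 5 n13230 = n17057 := rfl
def n17060 : Q := act 9 n13232
theorem D17060 : act 9 n13232 = n17060 := rfl
theorem F77054 : act 3 n17060 = n13235 := d29_1 D17060 (iv D13235) (iv F60446)
def n17061 : Q := act 5 n13234
theorem D17061 : act 5 n13234 = n17061 := rfl
theorem F77058 : act 2 n17061 = n13300 := d19_1 D17061 (iv D13300) (iv F60454)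
def n17062 : Q := act 9 n13234
theorem D17062 : act 9 n13234 = n17062 := rfl
theorem F77062 : act 2 n17062 = n13301 := d23_1 D17062 (iv D13301) (iv F60454)
theorem F77063 : act 6 n17062 = n13235 := d41_1 D17062 (iv D13235) (iv F60455)
def n17064 : Q := act 6 n13236
theorem D17064 : act 6 n13236 = n17064 := rfl
theorem F77071 : act 2 n17064 = n13237 := d20_1 D17064 (iv D13237) D13236
theorem F77073 : act 8 n17064 = n13709 := d40_2 (iv F60465) D17064 (iv D13709)
def n17065 : Q := act 5 n13237
theorem D17065 : act 5 n13237 = n17065 := rfl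
theorem F77075 : act 3 n17065 = n13238 := d25_1 D17065 (iv D13238) (iv F60467)
theorem F77076 : act 6 n17065 = n13260 := d35_2 D13237 D17065 (iv D13260) (iv D10317) (iv F47743)
def n17066 : Q := act 7 n13237
theorem D17066 : act 7 n13237 = n17066 := rfl
theorem F77077 : act 0 n17066 = n17066 := d6_1 D17066 (iv D17066) F60466
theorem F77078 : act 3 n17066 = n13239 := d27_1 D17066 (iv D13239) (iv F60467)
theorem F77079 : act 4 n17066 = n17066 := d32_1 D17066 (iv D17066) F60468
theorem F77080 : act 6 n17066 = n13247 := d39_1 D17066 (iv D13247) (iv D10307) (iv F47744) D13237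
def n17067 : Q := act 7 n13238
theorem D17067 : act 7 n13238 = n17067 := rfl
theorem F77082 : act 0 n17067 = n17067 := d6_1 D17067 (iv D17067) F60470
theorem F77083 : act 5 n17067 = n13239 := d36_1 D17067 (iv D13239) D13238
def n17068 : Q := act 8 n13238
theorem D17068 : act 8 n13238 = n17068 := rfl
theorem F77085 : act 5 n17068 = n13713 := d37_1 D17068 (iv D13713) (iv D10664) (iv F47748) D13238
def n17069 : Q := act 1 n13240
theorem D17069 : act 1 n13240 = n17069 := rfl
theorem F77090 : act 9 n17069 = n13244 := d16_2 (iv F60480) D17069 (iv D13244)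
def n17070 : Q := act 6 n13240
theorem D17070 : act 6 n13240 = n17070 := rfl
theorem F77091 : act 0 n17070 = n17070 := d5_1 D17070 (iv D17070) F60476
theorem F77092 : act 2 n17070 = n13241 := d20_1 D17070 (iv D13241) D13240
theorem F77093 : act 4 n17070 = n17070 := d31_1 D17070 (iv D17070) F60477
theorem F77094 : act 8 n17070 = n17070 := d40_2 F60479 D17070 (iv D17070)
theorem F77095 : act 9 n17070 = n13245 := d41_2 (iv F60480) D17070 (iv D13245)
def n17071 : Q := act 5 n13241
theorem D17071 : act 5 n13241 = n17071 := rfl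
theorem F77096 : act 0 n17071 = n17071 := d4_1 D17071 (iv D17071) F60481
theorem F77097 : act 3 n17071 = n13242 := d25_1 D17071 (iv D13242) (iv F60482)
theorem F77098 : act 6 n17071 = n13266 := d35_2 D13241 D17071 (iv D13266) (iv D10321) (iv F47755)
theorem F77099 : act 9 n17071 = n13246 := d38_2 (iv F60485) D17071 (iv D13246)
def n17072 : Q := act 7 n13241
theorem D17072 : act 7 n13241 = n17072 := rfl
theorem F77100 : act 0 n17072 = n17072 := d6_1 D17072 (iv D17072) F60481
theorem F77101 : act 3 n17072 = n13243 := d27_1 D17072 (iv D13243) (iv F60482)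
theorem F77102 : act 4 n17072 = n17072 := d32_1 D17072 (iv D17072) F60483
theorem F77103 : act 8 n17072 = n17072 := d42_2 F60484 D17072 (iv D17072)
theorem F77104 : act 9 n17072 = n13247 := d43_2 (iv F60485) D17072 (iv D13247)
def n17073 : Q := act 7 n13242
theorem D17073 : act 7 n13242 = n17073 := rfl
theorem F77105 : act 0 n17073 = n17073 := d6_1 D17073 (iv D17073) F60486
theorem F77106 : act 5 n17073 = n13243 := d36_1 D17073 (iv D13243) D13242
theorem F77107 : act 9 n17073 = n13248 := d43_2 (iv F60488) D17073 (iv D13248)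
def n17074 : Q := act 8 n13242
theorem D17074 : act 8 n13242 = n17074 := rfl
theorem F77108 : act 0 n17074 = n17074 := d7_1 D17074 (iv D17074) F60486
theorem F77109 : act 5 n17074 = n17074 := d37_1 D17074 (iv D17074) (iv D13242) F47760 D13242
theorem F77110 : act 6 n17074 = n13269 := d40_1 D17074 (iv D13269) (iv F60487)
def n17075 : Q := act 0 n13244
theorem D17075 : act 0 n13244 = n17075 := rfl
theorem F77114 : act 8 n17075 = n13714 := d7_2 (iv F60495) D17075 (iv D13714)
def n17076 : Q := act 6 n13244
theorem D17076 : act 6 n13244 = n17076 := rfl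
theorem F77115 : act 1 n17076 = n13245 := d13_1 D17076 (iv D13245) D13244
theorem F77117 : act 8 n17076 = n13715 := d40_2 (iv F60495) D17076 (iv D13715)
def n17077 : Q := act 5 n13245
theorem D17077 : act 5 n13245 = n17077 := rfl
theorem F77118 : act 0 n17077 = n17077 := d4_1 D17077 (iv D17077) F60496
theorem F77119 : act 2 n17077 = n13246 := d19_1 D17077 (iv D13246) (iv F60497)
theorem F77120 : act 6 n17077 = n13272 := d35_2 D13245 D17077 (iv D13272) (iv D10325) (iv F47768)
def n17078 : Q := act 7 n13245
theorem D17078 : act 7 n13245 = n17078 := rfl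
theorem F77121 : act 0 n17078 = n17078 := d6_1 D17078 (iv D17078) F60496
theorem F77122 : act 2 n17078 = n13247 := d21_1 D17078 (iv D13247) (iv F60497)
theorem F77123 : act 4 n17078 = n17078 := d32_1 D17078 (iv D17078) F60498
theorem F77124 : act 8 n17078 = n13717 := d42_2 (iv F60499) D17078 (iv D13717)
def n17079 : Q := act 4 n13246
theorem D17079 : act 4 n13246 = n17079 := rfl
theorem F77125 : act 0 n17079 = n17079 := d3_1 D17079 (iv D17079) F60500
theorem F77126 : act 5 n17079 = n17079 := d30_2 D13246 D17079 (iv D17079) (iv D13246) F47772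
theorem F77127 : act 6 n17079 = n13274 := d31_2 (iv F60502) D17079 (iv D13274)
def n17080 : Q := act 7 n13246
theorem D17080 : act 7 n13246 = n17080 := rfl
theorem F77128 : act 0 n17080 = n17080 := d6_1 D17080 (iv D17080) F60500
theorem F77129 : act 3 n17080 = n13248 := d27_1 D17080 (iv D13248) (iv F60501)
theorem F77130 : act 5 n17080 = n13247 := d36_1 D17080 (iv D13247) D13246
def n17081 : Q := act 8 n13246
theorem D17081 : act 8 n13246 = n17081 := rfl
theorem F77131 : act 0 n17081 = n17081 := d7_1 D17081 (iv D17081) F60500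
theorem F77132 : act 3 n17081 = n13249 := d28_1 D17081 (iv D13249) (iv F60501)
theorem F77133 : act 5 n17081 = n13720 := d37_1 D17081 (iv D13720) (iv D10668) (iv F47773) D13246
theorem F77134 : act 6 n17081 = n13276 := d40_1 D17081 (iv D13276) (iv F60502)
def n17082 : Q := act 6 n13248
theorem D17082 : act 6 n13248 = n17082 := rfl
theorem F77135 : act 0 n17082 = n17082 := d5_1 D17082 (iv D17082) F60507
theorem F77136 : act 7 n17082 = n13277 := d39_2 D13248 D17082 (iv D13277) (iv D10328) (iv F47775)
def n17083 : Q := act 8 n13248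
theorem D17083 : act 8 n13248 = n17083 := rfl
theorem F77137 : act 0 n17083 = n17083 := d7_1 D17083 (iv D17083) F60507
theorem F77138 : act 5 n17083 = n13722 := d37_1 D17083 (iv D13722) F49241 (iv F47778) (iv F60508)
theorem F77139 : act 7 n17083 = n13249 := d42_1 D17083 (iv D13249) D13248
def n17084 : Q := act 9 n13249
theorem D17084 : act 9 n13249 = n17084 := rfl
theorem F77140 : act 0 n17084 = n17084 := d8_1 D17084 (iv D17084) F60509
theorem F77141 : act 5 n17084 = n13723 := d38_1 D17084 (iv D13723) (iv F60510)
theorem F77142 : act 6 n17084 = n13279 := d41_1 D17084 (iv D13279) (iv F60511)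
def n17085 : Q := act 1 n13250
theorem D17085 : act 1 n13250 = n17085 := rfl
theorem F77143 : act 4 n17085 = n13306 := d11_2 (iv F60513) D17085 (iv D13306)
def n17086 : Q := act 6 n13250
theorem D17086 : act 6 n13250 = n17086 := rfl
theorem F77145 : act 0 n17086 = n17086 := d5_1 D17086 (iv D17086) F60512
theorem F77146 : act 2 n17086 = n13251 := d20_1 D17086 (iv D13251) D13250
theorem F77147 : act 4 n17086 = n13307 := d31_1 D17086 (iv D13307) (iv F60513)
theorem F77148 : act 8 n17086 = n17086 := d40_2 F60514 D17086 (iv D17086)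
def n17087 : Q := act 5 n13251
theorem D17087 : act 5 n13251 = n17087 := rfl
theorem F77149 : act 0 n17087 = n17087 := d4_1 D17087 (iv D17087) F60515
theorem F77150 : act 3 n17087 = n13252 := d25_1 D17087 (iv D13252) (iv F60516)
def n17088 : Q := act 7 n13251
theorem D17088 : act 7 n13251 = n17088 := rfl
theorem F77151 : act 0 n17088 = n17088 := d6_1 D17088 (iv D17088) F60515
theorem F77152 : act 3 n17088 = n13253 := d27_1 D17088 (iv D13253) (iv F60516)
theorem F77153 : act 4 n17088 = n13309 := d32_1 D17088 (iv D13309) (iv F60517)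
theorem F77154 : act 8 n17088 = n17088 := d42_2 F60518 D17088 (iv D17088)
def n17089 : Q := act 7 n13252
theorem D17089 : act 7 n13252 = n17089 := rfl
theorem F77155 : act 0 n17089 = n17089 := d6_1 D17089 (iv D17089) F60519
theorem F77156 : act 4 n17089 = n13262 := d32_1 D17089 (iv D13262) (iv F60520)
theorem F77157 : act 5 n17089 = n13253 := d36_1 D17089 (iv D13253) D13252
def n17090 : Q := act 8 n13252
theorem D17090 : act 8 n13252 = n17090 := rfl
theorem F77159 : act 4 n17090 = n13263 := d33_1 D17090 (iv D13263) (iv F60520)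
def n17093 : Q := act 5 n13255
theorem D17093 : act 5 n13255 = n17093 := rfl
theorem F77171 : act 3 n17093 = n13256 := d25_1 D17093 (iv D13256) (iv F60530)
theorem F77172 : act 9 n17093 = n13260 := d38_2 (iv F60533) D17093 (iv D13260)
def n17094 : Q := act 7 n13255
theorem D17094 : act 7 n13255 = n17094 := rfl
theorem F77176 : act 6 n17094 = n13267 := d39_1 D17094 (iv D13267) (iv D10321) (iv F47791) D13255
def n17095 : Q := act 7 n13256
theorem D17095 : act 7 n13256 = n17095 := rfl
theorem F77179 : act 0 n17095 = n17095 := d6_1 D17095 (iv D17095) F60534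
theorem F77180 : act 5 n17095 = n13257 := d36_1 D17095 (iv D13257) D13256
theorem F77181 : act 9 n17095 = n13262 := d43_2 (iv F60535) D17095 (iv D13262)
def n17096 : Q := act 8 n13256
theorem D17096 : act 8 n13256 = n17096 := rfl
theorem F77182 : act 0 n17096 = n17096 := d7_1 D17096 (iv D17096) F60534
theorem F77183 : act 5 n17096 = n13494 := d37_1 D17096 (iv D13494) (iv D10485) (iv F47796) D13256
def n17099 : Q := act 5 n13259
theorem D17099 : act 5 n13259 = n17099 := rfl
def n17100 : Q := act 7 n13259
theorem D17100 : act 7 n13259 = n17100 := rfl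
theorem F77196 : act 6 n17100 = n13273 := d39_1 D17100 (iv D13273) (iv D10325) (iv F47805) D13259
theorem F77197 : act 8 n17100 = n13283 := d42_2 (iv F60547) D17100 (iv D13283)
def n17101 : Q := act 4 n13260
theorem D17101 : act 4 n13260 = n17101 := rfl
def n17102 : Q := act 7 n13260
theorem D17102 : act 7 n13260 = n17102 := rfl
theorem F77202 : act 5 n17102 = n13261 := d36_1 D17102 (iv D13261) D13260
def n17104 : Q := act 6 n13262
theorem D17104 : act 6 n13262 = n17104 := rfl
theorem F77206 : act 0 n17104 = n17104 := d5_1 D17104 (iv D17104) F60555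
theorem F77207 : act 5 n17104 = n13277 := d35_1 D17104 (iv D13277) F47844 (iv F47814) (iv F60556)
def n17105 : Q := act 8 n13262
theorem D17105 : act 8 n13262 = n17105 := rfl
theorem F77210 : act 7 n17105 = n13263 := d42_1 D17105 (iv D13263) D13262
def n17107 : Q := act 0 n13264
theorem D17107 : act 0 n13264 = n17107 := rfl
theorem F77216 : act 9 n17107 = n13270 := d8_2 (iv F60561) D17107 (iv D13270)
def n17108 : Q := act 6 n13264
theorem D17108 : act 6 n13264 = n17108 := rfl
theorem F77217 : act 1 n17108 = n13265 := d13_1 D17108 (iv D13265) D13264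
theorem F77219 : act 8 n17108 = n13505 := d40_2 (iv F60560) D17108 (iv D13505)
theorem F77220 : act 9 n17108 = n13271 := d41_2 (iv F60561) D17108 (iv D13271)
def n17109 : Q := act 5 n13265
theorem D17109 : act 5 n13265 = n17109 := rfl
theorem F77221 : act 0 n17109 = n17109 := d4_1 D17109 (iv D17109) F60562
theorem F77222 : act 2 n17109 = n13266 := d19_1 D17109 (iv D13266) (iv F60563)
theorem F77223 : act 9 n17109 = n13272 := d38_2 (iv F60566) D17109 (iv D13272)
def n17110 : Q := act 7 n13265
theorem D17110 : act 7 n13265 = n17110 := rfl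
theorem F77224 : act 0 n17110 = n17110 := d6_1 D17110 (iv D17110) F60562
theorem F77225 : act 2 n17110 = n13267 := d21_1 D17110 (iv D13267) (iv F60563)
theorem F77227 : act 8 n17110 = n13507 := d42_2 (iv F60565) D17110 (iv D13507)
theorem F77228 : act 9 n17110 = n13273 := d43_2 (iv F60566) D17110 (iv D13273)
def n17111 : Q := act 4 n13266
theorem D17111 : act 4 n13266 = n17111 := rfl
theorem F77229 : act 0 n17111 = n17111 := d3_1 D17111 (iv D17111) F60567
theorem F77230 : act 5 n17111 = n13330 := d30_2 D13266 D17111 (iv D13330) (iv D10366) (iv F47822)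
theorem F77231 : act 9 n17111 = n13274 := d34_2 (iv F60569) D17111 (iv D13274)
def n17112 : Q := act 7 n13266
theorem D17112 : act 7 n13266 = n17112 := rfl
theorem F77232 : act 0 n17112 = n17112 := d6_1 D17112 (iv D17112) F60567
theorem F77233 : act 3 n17112 = n13268 := d27_1 D17112 (iv D13268) (iv F60568)
theorem F77234 : act 5 n17112 = n13267 := d36_1 D17112 (iv D13267) D13266
theorem F77235 : act 9 n17112 = n13275 := d43_2 (iv F60569) D17112 (iv D13275)
def n17113 : Q := act 8 n13266
theorem D17113 : act 8 n13266 = n17113 := rfl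
theorem F77236 : act 0 n17113 = n17113 := d7_1 D17113 (iv D17113) F60567
theorem F77237 : act 3 n17113 = n13269 := d28_1 D17113 (iv D13269) (iv F60568)
theorem F77238 : act 5 n17113 = n13510 := d37_1 D17113 (iv D13510) (iv D10495) (iv F47823) D13266
def n17114 : Q := act 6 n13268
theorem D17114 : act 6 n13268 = n17114 := rfl
theorem F77239 : act 0 n17114 = n17114 := d5_1 D17114 (iv D17114) F60575
theorem F77240 : act 9 n17114 = n13277 := d41_2 (iv F60577) D17114 (iv D13277)
def n17115 : Q := act 8 n13268
theorem D17115 : act 8 n13268 = n17115 := rfl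
theorem F77241 : act 0 n17115 = n17115 := d7_1 D17115 (iv D17115) F60575
theorem F77242 : act 5 n17115 = n13512 := d37_1 D17115 (iv D13512) F48522 (iv F47829) (iv F60576)
theorem F77243 : act 7 n17115 = n13269 := d42_1 D17115 (iv D13269) D13268
def n17116 : Q := act 9 n13269
theorem D17116 : act 9 n13269 = n17116 := rfl
theorem F77244 : act 0 n17116 = n17116 := d8_1 D17116 (iv D17116) F60578
theorem F77245 : act 5 n17116 = n13513 := d38_1 D17116 (iv D13513) (iv F60579)
theorem F77246 : act 8 n17116 = n13279 := d44_1 D17116 (iv D13279) (iv D10329) (iv F47826) D13269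
def n17118 : Q := act 5 n13271
theorem D17118 : act 5 n13271 = n17118 := rfl
theorem F77251 : act 1 n17118 = n13272 := d12_1 D17118 (iv D13272) (iv F60583)
def n17119 : Q := act 7 n13271
theorem D17119 : act 7 n13271 = n17119 := rfl
theorem F77252 : act 1 n17119 = n13273 := d14_1 D17119 (iv D13273) (iv F60583)
def n17120 : Q := act 4 n13272
theorem D17120 : act 4 n13272 = n17120 := rfl
theorem F77255 : act 0 n17120 = n17120 := d3_1 D17120 (iv D17120) F60586
theorem F77256 : act 2 n17120 = n13274 := d18_1 D17120 (iv D13274) (iv F60587)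
theorem F77257 : act 5 n17120 = n13338 := d30_2 D13272 D17120 (iv D13338) (iv D10372) (iv F47835)
def n17121 : Q := act 7 n13272
theorem D17121 : act 7 n13272 = n17121 := rfl
theorem F77258 : act 0 n17121 = n17121 := d6_1 D17121 (iv D17121) F60586
theorem F77259 : act 2 n17121 = n13275 := d21_1 D17121 (iv D13275) (iv F60587)
theorem F77260 : act 5 n17121 = n13273 := d36_1 D17121 (iv D13273) D13272
def n17122 : Q := act 8 n13272
theorem D17122 : act 8 n13272 = n17122 := rfl
theorem F77262 : act 2 n17122 = n13276 := d22_1 D17122 (iv D13276) (iv F60587)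
theorem F77263 : act 5 n17122 = n13294 := d37_1 D17122 (iv D13294) (iv D10338) (iv F47836) D13272
def n17123 : Q := act 7 n13274
theorem D17123 : act 7 n13274 = n17123 := rfl
theorem F77264 : act 0 n17123 = n17123 := d6_1 D17123 (iv D17123) F60592
theorem F77265 : act 4 n17123 = n13275 := d32_1 D17123 (iv D13275) D13274
theorem F77266 : act 5 n17123 = n13340 := d36_1 D17123 (iv D13340) (iv F60593)
def n17124 : Q := act 8 n13274
theorem D17124 : act 8 n13274 = n17124 := rfl
theorem F77267 : act 0 n17124 = n17124 := d7_1 D17124 (iv D17124) F60592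
theorem F77268 : act 4 n17124 = n13276 := d33_1 D17124 (iv D13276) D13274
theorem F77269 : act 5 n17124 = n17124 := d37_1 D17124 (iv D17124) F60593 F48029 (iv F60593)
def n17125 : Q := act 6 n13275
theorem D17125 : act 6 n13275 = n17125 := rfl
theorem F77270 : act 0 n17125 = n17125 := d5_1 D17125 (iv D17125) F60594
theorem F77271 : act 3 n17125 = n13277 := d26_1 D17125 (iv D13277) (iv F60595)
def n17126 : Q := act 8 n13275
theorem D17126 : act 8 n13275 = n17126 := rfl
theorem F77272 : act 0 n17126 = n17126 := d7_1 D17126 (iv D17126) F60594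
theorem F77273 : act 3 n17126 = n13278 := d28_1 D17126 (iv D13278) (iv F60595)
theorem F77274 : act 5 n17126 = n13296 := d37_1 D17126 (iv D13296) F47890 (iv F47842) (iv F60596)
theorem F77275 : act 7 n17126 = n13276 := d42_1 D17126 (iv D13276) D13275
def n17127 : Q := act 9 n13276
theorem D17127 : act 9 n13276 = n17127 := rfl
theorem F77276 : act 0 n17127 = n17127 := d8_1 D17127 (iv D17127) F60597
theorem F77277 : act 3 n17127 = n13279 := d29_1 D17127 (iv D13279) (iv F60598)
theorem F77278 : act 5 n17127 = n13297 := d38_1 D17127 (iv D13297) (iv F60599)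
def n17128 : Q := act 8 n13277
theorem D17128 : act 8 n13277 = n17128 := rfl
theorem F77279 : act 0 n17128 = n17128 := d7_1 D17128 (iv D17128) F60600
theorem F77280 : act 6 n17128 = n13278 := d40_1 D17128 (iv D13278) D13277
def n17129 : Q := act 9 n13278
theorem D17129 : act 9 n13278 = n17129 := rfl
theorem F77281 : act 0 n17129 = n17129 := d8_1 D17129 (iv D17129) F60601
theorem F77282 : act 5 n17129 = n13299 := d38_1 D17129 (iv D13299) (iv F60602)
theorem F77283 : act 7 n17129 = n13279 := d43_1 D17129 (iv D13279) (iv F60603)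
def n17138 : Q := act 6 n13285
theorem D17138 : act 6 n13285 = n17138 := rfl
theorem F77318 : act 5 n17138 = n13295 := d35_1 D17138 (iv D13295) F47890 (iv F47862) (iv F60630)
theorem F77319 : act 7 n17138 = n13759 := d39_2 D13285 D17138 (iv D13759) (iv D10696) (iv F47857)
def n17141 : Q := act 8 n13287
theorem D17141 : act 8 n13287 = n17141 := rfl
theorem F77331 : act 7 n17141 = n13762 := d42_1 D17141 (iv D13762) (iv F60638)
def n17145 : Q := act 7 n13291
theorem D17145 : act 7 n13291 = n17145 := rfl
theorem F77348 : act 9 n17145 = n13542 := d43_2 (iv F60654) D17145 (iv D13542)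
def n17146 : Q := act 8 n13291
theorem D17146 : act 8 n13291 = n17146 := rfl
theorem F77351 : act 6 n17146 = n13767 := d40_1 D17146 (iv D13767) (iv F60653)
def n17148 : Q := act 8 n13293
theorem D17148 : act 8 n13293 = n17148 := rfl
theorem F77358 : act 2 n17148 = n13296 := d22_1 D17148 (iv D13296) (iv F60659)
theorem F77360 : act 7 n17148 = n13294 := d42_1 D17148 (iv D13294) D13293
def n17149 : Q := act 9 n13294
theorem D17149 : act 9 n13294 = n17149 := rfl
theorem F77365 : act 8 n17149 = n13546 := d44_1 D17149 (iv D13546) (iv D10523) (iv F47882) D13294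
def n17150 : Q := act 8 n13295
theorem D17150 : act 8 n13295 = n17150 := rfl
theorem F77369 : act 6 n17150 = n13296 := d40_1 D17150 (iv D13296) D13295
theorem F77370 : act 7 n17150 = n13771 := d42_1 D17150 (iv D13771) (iv F60670)
def n17151 : Q := act 9 n13296
theorem D17151 : act 9 n13296 = n17151 := rfl
theorem F77371 : act 0 n17151 = n17151 := d8_1 D17151 (iv D17151) F60672
theorem F77372 : act 3 n17151 = n13299 := d29_1 D17151 (iv D13299) (iv F60673)
theorem F77373 : act 4 n17151 = n17151 := d34_1 D17151 (iv D17151) F60674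
theorem F77374 : act 7 n17151 = n13297 := d43_1 D17151 (iv D13297) (iv F60675)
theorem F77375 : act 8 n17151 = n13548 := d44_1 D17151 (iv D13548) (iv D10525) (iv F47891) D13296
def n17152 : Q := act 5 n13298
theorem D17152 : act 5 n13298 = n17152 := rfl
theorem F77377 : act 7 n17152 = n13773 := d36_2 (iv F60684) D17152 (iv D13773)
def n17153 : Q := act 9 n13298
theorem D17153 : act 9 n13298 = n17153 := rfl
theorem F77379 : act 4 n17153 = n13301 := d34_1 D17153 (iv D13301) (iv F60682)
theorem F77380 : act 6 n17153 = n13299 := d41_1 D17153 (iv D13299) (iv F60683)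
def n17154 : Q := act 4 n13300
theorem D17154 : act 4 n13300 = n17154 := rfl
theorem F77383 : act 0 n17154 = n17154 := d3_1 D17154 (iv D17154) F60689
theorem F77385 : act 8 n17154 = n17154 := d33_2 F60692 D17154 (iv D17154)
def n17155 : Q := act 9 n13300
theorem D17155 : act 9 n13300 = n17155 := rfl
theorem F77386 : act 0 n17155 = n17155 := d8_1 D17155 (iv D17155) F60689
theorem F77387 : act 3 n17155 = n17155 := d29_1 D17155 (iv D17155) F60690
theorem F77388 : act 5 n17155 = n13301 := d38_1 D17155 (iv D13301) D13300
def n17156 : Q := act 1 n13302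
theorem D17156 : act 1 n13302 = n17156 := rfl
theorem F77392 : act 9 n17156 = n13306 := d16_2 (iv F60701) D17156 (iv D13306)
def n17157 : Q := act 6 n13302
theorem D17157 : act 6 n13302 = n17157 := rfl
theorem F77393 : act 0 n17157 = n17157 := d5_1 D17157 (iv D17157) F60698
theorem F77394 : act 2 n17157 = n13303 := d20_1 D17157 (iv D13303) D13302
theorem F77395 : act 3 n17157 = n17157 := d26_1 D17157 (iv D17157) F60699
theorem F77396 : act 9 n17157 = n13307 := d41_2 (iv F60701) D17157 (iv D13307)
def n17158 : Q := act 5 n13303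
theorem D17158 : act 5 n13303 = n17158 := rfl
theorem F77397 : act 0 n17158 = n17158 := d4_1 D17158 (iv D17158) F60702
theorem F77398 : act 3 n17158 = n13304 := d25_1 D17158 (iv D13304) (iv F60703)
theorem F77399 : act 6 n17158 = n17158 := d35_2 D13303 D17158 (iv D17158) (iv D13303) F47916
theorem F77400 : act 8 n17158 = n17158 := d37_2 F66419 D17158 (iv D17158) (iv F66419) F66418
theorem F77401 : act 9 n17158 = n13308 := d38_2 (iv F60704) D17158 (iv D13308)
def n17159 : Q := act 7 n13303
theorem D17159 : act 7 n13303 = n17159 := rfl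
theorem F77402 : act 0 n17159 = n17159 := d6_1 D17159 (iv D17159) F60702
theorem F77403 : act 3 n17159 = n13305 := d27_1 D17159 (iv D13305) (iv F60703)
theorem F77404 : act 9 n17159 = n13309 := d43_2 (iv F60704) D17159 (iv D13309)
def n17160 : Q := act 7 n13304
theorem D17160 : act 7 n13304 = n17160 := rfl
theorem F77405 : act 0 n17160 = n17160 := d6_1 D17160 (iv D17160) F60705
theorem F77406 : act 2 n17160 = n17160 := d21_1 D17160 (iv D17160) F60706
theorem F77407 : act 4 n17160 = n13316 := d32_1 D17160 (iv D13316) (iv F60707)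
theorem F77408 : act 5 n17160 = n13305 := d36_1 D17160 (iv D13305) D13304
theorem F77409 : act 8 n17160 = n17160 := d42_2 F60709 D17160 (iv D17160)
theorem F77410 : act 9 n17160 = n13310 := d43_2 (iv F60710) D17160 (iv D13310)
def n17161 : Q := act 0 n13306
theorem D17161 : act 0 n13306 = n17161 := rfl
theorem F77411 : act 1 n17161 = n17161 := d0_2 D13306 D17161 (iv D17161) (iv D13306) F47926
theorem F77412 : act 3 n17161 = n17161 := d2_2 F60715 D17161 (iv D17161)
theorem F77413 : act 5 n17161 = n17161 := d4_2 F60716 D17161 (iv D17161)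
theorem F77414 : act 8 n17161 = n17161 := d7_2 F60717 D17161 (iv D17161)
def n17162 : Q := act 6 n13306
theorem D17162 : act 6 n13306 = n17162 := rfl
theorem F77415 : act 1 n17162 = n13307 := d13_1 D17162 (iv D13307) D13306
theorem F77416 : act 3 n17162 = n17162 := d26_1 D17162 (iv D17162) F60715
theorem F77417 : act 8 n17162 = n17162 := d40_2 F60717 D17162 (iv D17162)
def n17163 : Q := act 5 n13307
theorem D17163 : act 5 n13307 = n17163 := rfl
theorem F77418 : act 0 n17163 = n17163 := d4_1 D17163 (iv D17163) F60718
theorem F77419 : act 2 n17163 = n13308 := d19_1 D17163 (iv D13308) (iv F60719)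
theorem F77420 : act 3 n17163 = n17163 := d25_1 D17163 (iv D17163) F60720
theorem F77421 : act 6 n17163 = n17163 := d35_2 D13307 D17163 (iv D17163) (iv D13307) F47928
def n17164 : Q := act 7 n13307
theorem D17164 : act 7 n13307 = n17164 := rfl
theorem F77422 : act 0 n17164 = n17164 := d6_1 D17164 (iv D17164) F60718
theorem F77423 : act 2 n17164 = n13309 := d21_1 D17164 (iv D13309) (iv F60719)
theorem F77424 : act 3 n17164 = n17164 := d27_1 D17164 (iv D17164) F60720
theorem F77425 : act 8 n17164 = n17164 := d42_2 F60721 D17164 (iv D17164)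
def n17165 : Q := act 4 n13308
theorem D17165 : act 4 n13308 = n17165 := rfl
theorem F77427 : act 3 n17165 = n13321 := d24_1 D17165 (iv D13321) F47971 (iv F47935) (iv F60723)
def n17166 : Q := act 7 n13308
theorem D17166 : act 7 n13308 = n17166 := rfl
theorem F77429 : act 0 n17166 = n17166 := d6_1 D17166 (iv D17166) F60722
theorem F77430 : act 3 n17166 = n13310 := d27_1 D17166 (iv D13310) (iv F60723)
theorem F77431 : act 5 n17166 = n13309 := d36_1 D17166 (iv D13309) D13308
def n17167 : Q := act 8 n13308
theorem D17167 : act 8 n13308 = n17167 := rfl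
theorem F77433 : act 3 n17167 = n13311 := d28_1 D17167 (iv D13311) (iv F60723)
def n17168 : Q := act 6 n13310
theorem D17168 : act 6 n13310 = n17168 := rfl
theorem F77437 : act 0 n17168 = n17168 := d5_1 D17168 (iv D17168) F60728
theorem F77438 : act 2 n17168 = n17168 := d20_1 D17168 (iv D17168) F60729
theorem F77439 : act 4 n17168 = n13324 := d31_1 D17168 (iv D13324) (iv F60730)
theorem F77440 : act 7 n17168 = n17168 := d39_2 D13310 D17168 (iv D17168) (iv D13310) F47936
def n17169 : Q := act 8 n13310
theorem D17169 : act 8 n13310 = n17169 := rfl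
theorem F77443 : act 4 n17169 = n13325 := d33_1 D17169 (iv D13325) (iv F60730)
def n17175 : Q := act 7 n13314
theorem D17175 : act 7 n13314 = n17175 := rfl
theorem F77475 : act 5 n17175 = n13315 := d36_1 D17175 (iv D13315) D13314
theorem F77476 : act 8 n17175 = n17175 := d42_2 F60751 D17175 (iv D17175)
def n17176 : Q := act 6 n13316
theorem D17176 : act 6 n13316 = n17176 := rfl
theorem F77478 : act 0 n17176 = n17176 := d5_1 D17176 (iv D17176) F60758
theorem F77479 : act 2 n17176 = n17176 := d20_1 D17176 (iv D17176) F60759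
theorem F77480 : act 5 n17176 = n13333 := d35_1 D17176 (iv D13333) F48004 (iv F47959) (iv F60760)
theorem F77481 : act 7 n17176 = n17176 := d39_2 D13316 D17176 (iv D17176) (iv D13316) F47953
theorem F77482 : act 8 n17176 = n17176 := d40_2 F60761 D17176 (iv D17176)
theorem F77483 : act 9 n17176 = n13324 := d41_2 (iv F60762) D17176 (iv D13324)
def n17183 : Q := act 7 n13321
theorem D17183 : act 7 n13321 = n17183 := rfl
theorem F77509 : act 4 n17183 = n13322 := d32_1 D17183 (iv D13322) D13321
def n17185 : Q := act 6 n13322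
theorem D17185 : act 6 n13322 = n17185 := rfl
theorem F77516 : act 5 n17185 = n13341 := d35_1 D17185 (iv D13341) F48032 (iv F47975) (iv F60784)
def n17188 : Q := act 6 n13326
theorem D17188 : act 6 n13326 = n17188 := rfl
theorem F77532 : act 8 n17188 = n13558 := d40_2 (iv F60802) D17188 (iv D13558)
theorem F77533 : act 9 n17188 = n13335 := d41_2 (iv F60803) D17188 (iv D13335)
def n17189 : Q := act 5 n13327
theorem D17189 : act 5 n13327 = n17189 := rfl
theorem F77534 : act 1 n17189 = n13328 := d12_1 D17189 (iv D13328) (iv F60804)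
theorem F77537 : act 9 n17189 = n13336 := d38_2 (iv F60807) D17189 (iv D13336)
def n17191 : Q := act 7 n13328
theorem D17191 : act 7 n13328 = n17191 := rfl
theorem F77546 : act 9 n17191 = n13339 := d43_2 (iv F60812) D17191 (iv D13339)
def n17192 : Q := act 7 n13330
theorem D17192 : act 7 n13330 = n17192 := rfl
theorem F77547 : act 0 n17192 = n17192 := d6_1 D17192 (iv D17192) F60818
theorem F77548 : act 4 n17192 = n13331 := d32_1 D17192 (iv D13331) D13330
theorem F77549 : act 9 n17192 = n13340 := d43_2 (iv F60820) D17192 (iv D13340)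
def n17193 : Q := act 6 n13331
theorem D17193 : act 6 n13331 = n17193 := rfl
theorem F77550 : act 0 n17193 = n17193 := d5_1 D17193 (iv D17193) F60821
theorem F77551 : act 3 n17193 = n13333 := d26_1 D17193 (iv D13333) (iv F60822)
theorem F77552 : act 7 n17193 = n17193 := d39_2 D13331 D17193 (iv D17193) (iv D13331) F47996
theorem F77553 : act 9 n17193 = n13341 := d41_2 (iv F60824) D17193 (iv D13341)
def n17194 : Q := act 8 n13331
theorem D17194 : act 8 n13331 = n17194 := rfl
theorem F77554 : act 0 n17194 = n17194 := d7_1 D17194 (iv D17194) F60821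
theorem F77555 : act 3 n17194 = n13334 := d28_1 D17194 (iv D13334) (iv F60822)
theorem F77556 : act 5 n17194 = n13563 := d37_1 D17194 (iv D13563) F48691 (iv F48000) (iv F60823)
theorem F77557 : act 7 n17194 = n13332 := d42_1 D17194 (iv D13332) D13331
theorem F77558 : act 9 n17194 = n17194 := d44_2 (iv F60824) D17194 (iv D17194) F60824 F48033
def n17195 : Q := act 8 n13333
theorem D17195 : act 8 n13333 = n17195 := rfl
theorem F77559 : act 0 n17195 = n17195 := d7_1 D17195 (iv D17195) F60830
theorem F77560 : act 2 n17195 = n17195 := d22_1 D17195 (iv D17195) F60831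
theorem F77561 : act 5 n17195 = n17195 := d37_1 D17195 (iv D17195) (iv F77480) F77482 F77480
theorem F77562 : act 6 n17195 = n13334 := d40_1 D17195 (iv D13334) D13333
theorem F77563 : act 7 n17195 = n17195 := d42_1 D17195 (iv D17195) F60832
theorem F77564 : act 9 n17195 = n17195 := d44_2 (iv F60833) D17195 (iv D17195) F60833 F48037
def n17196 : Q := act 5 n13335
theorem D17196 : act 5 n13335 = n17196 := rfl
def n17198 : Q := act 4 n13336
theorem D17198 : act 4 n13336 = n17198 := rfl
theorem F77574 : act 1 n17198 = n13338 := d11_1 D17198 (iv D13338) (iv F60843)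
def n17199 : Q := act 7 n13336
theorem D17199 : act 7 n13336 = n17199 := rfl
theorem F77579 : act 5 n17199 = n13337 := d36_1 D17199 (iv D13337) D13336
def n17200 : Q := act 7 n13338
theorem D17200 : act 7 n13338 = n17200 := rfl
theorem F77582 : act 2 n17200 = n13340 := d21_1 D17200 (iv D13340) (iv F60851)
theorem F77583 : act 4 n17200 = n13339 := d32_1 D17200 (iv D13339) D13338
def n17201 : Q := act 6 n13339
theorem D17201 : act 6 n13339 = n17201 := rfl
def n17202 : Q := act 6 n13340
theorem D17202 : act 6 n13340 = n17202 := rfl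
theorem F77590 : act 0 n17202 = n17202 := d5_1 D17202 (iv D17202) F60859
theorem F77591 : act 4 n17202 = n13341 := d31_1 D17202 (iv D13341) (iv F60860)
theorem F77592 : act 7 n17202 = n17202 := d39_2 D13340 D17202 (iv D17202) (iv D13340) F48028
theorem F77593 : act 8 n17202 = n17202 := d40_2 F60861 D17202 (iv D17202)
def n17221 : Q := act 3 n13358
theorem D17221 : act 3 n13358 = n17221 := rfl
theorem F77688 : act 9 n17221 = n13360 := d29_2 (iv F60948) D17221 (iv D13360)
def n17222 : Q := act 6 n13358
theorem D17222 : act 6 n13358 = n17222 := rfl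
theorem F77689 : act 0 n17222 = n13390 := d5_1 D17222 (iv D13390) (iv F60944)
theorem F77690 : act 1 n17222 = n17222 := d13_1 D17222 (iv D17222) F60945
theorem F77691 : act 4 n17222 = n13359 := d31_1 D17222 (iv D13359) D13358
theorem F77692 : act 9 n17222 = n13361 := d41_2 (iv F60948) D17222 (iv D13361)
def n17223 : Q := act 7 n13359
theorem D17223 : act 7 n13359 = n17223 := rfl
theorem F77693 : act 0 n17223 = n13391 := d6_1 D17223 (iv D13391) (iv F60949)
theorem F77694 : act 1 n17223 = n17223 := d14_1 D17223 (iv D17223) F60950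
theorem F77695 : act 3 n17223 = n17223 := d27_1 D17223 (iv D17223) F60951
theorem F77696 : act 6 n17223 = n13365 := d39_1 D17223 (iv D13365) (iv D10396) (iv F48114) D13359
theorem F77697 : act 9 n17223 = n13362 := d43_2 (iv F60952) D17223 (iv D13362)
def n17224 : Q := act 2 n13360
theorem D17224 : act 2 n13360 = n17224 := rfl
theorem F77701 : act 7 n17224 = n13366 := d21_2 (iv F60957) D17224 (iv D13366)
theorem F77702 : act 8 n17224 = n13370 := d22_2 (iv F60958) D17224 (iv D13370)
def n17225 : Q := act 6 n13360
theorem D17225 : act 6 n13360 = n17225 := rfl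
theorem F77703 : act 0 n17225 = n13393 := d5_1 D17225 (iv D13393) (iv F60953)
theorem F77705 : act 3 n17225 = n13361 := d26_1 D17225 (iv D13361) D13360
theorem F77707 : act 8 n17225 = n13371 := d40_2 (iv F60958) D17225 (iv D13371)
def n17226 : Q := act 5 n13361
theorem D17226 : act 5 n13361 = n17226 := rfl
theorem F77708 : act 0 n17226 = n13394 := d4_1 D17226 (iv D13394) (iv F60959)
theorem F77709 : act 1 n17226 = n17226 := d12_1 D17226 (iv D17226) F60960
theorem F77710 : act 6 n17226 = n17226 := d35_2 D13361 D17226 (iv D17226) (iv D13361) F48118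
def n17227 : Q := act 7 n13361
theorem D17227 : act 7 n13361 = n17227 := rfl
theorem F77711 : act 0 n17227 = n13395 := d6_1 D17227 (iv D13395) (iv F60959)
theorem F77712 : act 1 n17227 = n17227 := d14_1 D17227 (iv D17227) F60960
theorem F77713 : act 4 n17227 = n13362 := d32_1 D17227 (iv D13362) (iv F60961)
theorem F77714 : act 6 n17227 = n13369 := d39_1 D17227 (iv D13369) (iv D10398) (iv F48119) D13361
theorem F77715 : act 8 n17227 = n13373 := d42_2 (iv F60962) D17227 (iv D13373)
def n17229 : Q := act 6 n13363
theorem D17229 : act 6 n13363 = n17229 := rfl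
theorem F77722 : act 3 n17229 = n13364 := d26_1 D17229 (iv D13364) D13363
theorem F77724 : act 9 n17229 = n13367 := d41_2 (iv F60972) D17229 (iv D13367)
def n17230 : Q := act 5 n13364
theorem D17230 : act 5 n13364 = n17230 := rfl
theorem F77725 : act 0 n17230 = n13398 := d4_1 D17230 (iv D13398) (iv F60973)
theorem F77729 : act 9 n17230 = n13368 := d38_2 (iv F60976) D17230 (iv D13368)
def n17231 : Q := act 7 n13364
theorem D17231 : act 7 n13364 = n17231 := rfl
theorem F77730 : act 0 n17231 = n13399 := d6_1 D17231 (iv D13399) (iv F60973)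
theorem F77731 : act 1 n17231 = n17231 := d14_1 D17231 (iv D17231) F60974
theorem F77732 : act 4 n17231 = n13365 := d32_1 D17231 (iv D13365) (iv F60975)
theorem F77733 : act 9 n17231 = n13369 := d43_2 (iv F60976) D17231 (iv D13369)
def n17232 : Q := act 1 n13366
theorem D17232 : act 1 n13366 = n17232 := rfl
theorem F77737 : act 8 n17232 = n13374 := d15_2 (iv F60985) D17232 (iv D13374)
def n17235 : Q := act 7 n13367
theorem D17235 : act 7 n13367 = n17235 := rfl
theorem F77748 : act 3 n17235 = n13369 := d27_1 D17235 (iv D13369) (iv F60988)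
def n17236 : Q := act 7 n13368
theorem D17236 : act 7 n13368 = n17236 := rfl
theorem F77751 : act 0 n17236 = n13404 := d6_1 D17236 (iv D13404) (iv F60991)
theorem F77754 : act 5 n17236 = n13369 := d36_1 D17236 (iv D13369) D13368
def n17238 : Q := act 1 n13370
theorem D17238 : act 1 n13370 = n17238 := rfl
theorem F77762 : act 5 n17238 = n13828 := d12_2 (iv F61001) D17238 (iv D13828)
theorem F77763 : act 7 n17238 = n13374 := d14_2 (iv F61002) D17238 (iv D13374)
def n17239 : Q := act 6 n13370
theorem D17239 : act 6 n13370 = n17239 := rfl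
def n17240 : Q := act 5 n13371
theorem D17240 : act 5 n13371 = n17240 := rfl
theorem F77770 : act 6 n17240 = n13830 := d35_2 D13371 D17240 (iv D13830) (iv D10755) (iv F48151)
def n17241 : Q := act 7 n13371
theorem D17241 : act 7 n13371 = n17241 := rfl
theorem F77771 : act 0 n17241 = n13409 := d6_1 D17241 (iv D13409) (iv F61003)
theorem F77773 : act 3 n17241 = n13373 := d27_1 D17241 (iv D13373) (iv F61005)
def n17242 : Q := act 7 n13372
theorem D17242 : act 7 n13372 = n17242 := rfl
theorem F77779 : act 5 n17242 = n13373 := d36_1 D17242 (iv D13373) D13372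
def n17243 : Q := act 8 n13372
theorem D17243 : act 8 n13372 = n17243 := rfl
theorem F77783 : act 6 n17243 = n13833 := d40_1 D17243 (iv D13833) (iv F61010)
def n17244 : Q := act 0 n13374
theorem D17244 : act 0 n13374 = n17244 := rfl
theorem F77787 : act 5 n17244 = n13834 := d4_2 (iv F61017) D17244 (iv D13834)
def n17246 : Q := act 5 n13375
theorem D17246 : act 5 n13375 = n17246 := rfl
theorem F77793 : act 6 n17246 = n13836 := d35_2 D13375 D17246 (iv D13836) (iv D10759) (iv F48163)
def n17247 : Q := act 7 n13375
theorem D17247 : act 7 n13375 = n17247 := rfl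
def n17266 : Q := act 2 n13389
theorem D17266 : act 2 n13389 = n17266 := rfl
theorem F77877 : act 9 n17266 = n13392 := d23_2 (iv F61079) D17266 (iv D13392)
def n17267 : Q := act 6 n13389
theorem D17267 : act 6 n13389 = n17267 := rfl
theorem F77878 : act 1 n17267 = n13433 := d13_1 D17267 (iv D13433) (iv F61075)
theorem F77879 : act 3 n17267 = n13390 := d26_1 D17267 (iv D13390) D13389
theorem F77881 : act 9 n17267 = n13393 := d41_2 (iv F61079) D17267 (iv D13393)
def n17268 : Q := act 5 n13390
theorem D17268 : act 5 n13390 = n17268 := rfl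
theorem F77882 : act 1 n17268 = n13434 := d12_1 D17268 (iv D13434) (iv F61080)
theorem F77883 : act 6 n17268 = n17268 := d35_2 D13390 D17268 (iv D17268) (iv D13390) F48203
theorem F77884 : act 9 n17268 = n13394 := d38_2 (iv F61082) D17268 (iv D13394)
def n17269 : Q := act 7 n13390
theorem D17269 : act 7 n13390 = n17269 := rfl
theorem F77885 : act 1 n17269 = n13435 := d14_1 D17269 (iv D13435) (iv F61080)
theorem F77886 : act 4 n17269 = n13391 := d32_1 D17269 (iv D13391) (iv F61081)
theorem F77887 : act 6 n17269 = n13399 := d39_1 D17269 (iv D13399) (iv D10419) (iv F48204) D13390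
theorem F77888 : act 9 n17269 = n13395 := d43_2 (iv F61082) D17269 (iv D13395)
def n17270 : Q := act 1 n13392
theorem D17270 : act 1 n13392 = n17270 := rfl
theorem F77889 : act 2 n17270 = n13436 := d9_2 D13392 D17270 (iv D13436) (iv D10446) (iv F48209)
theorem F77892 : act 7 n17270 = n13400 := d14_2 (iv F61089) D17270 (iv D13400)
theorem F77893 : act 8 n17270 = n13406 := d15_2 (iv F61090) D17270 (iv D13406)
def n17271 : Q := act 6 n13392
theorem D17271 : act 6 n13392 = n17271 := rfl
theorem F77896 : act 8 n17271 = n13407 := d40_2 (iv F61090) D17271 (iv D13407)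
def n17272 : Q := act 5 n13393
theorem D17272 : act 5 n13393 = n17272 := rfl
theorem F77897 : act 1 n17272 = n13438 := d12_1 D17272 (iv D13438) (iv F61091)
theorem F77898 : act 3 n17272 = n13394 := d25_1 D17272 (iv D13394) (iv F61092)
def n17273 : Q := act 7 n13393
theorem D17273 : act 7 n13393 = n17273 := rfl
theorem F77900 : act 1 n17273 = n13439 := d14_1 D17273 (iv D13439) (iv F61091)
theorem F77901 : act 3 n17273 = n13395 := d27_1 D17273 (iv D13395) (iv F61092)
theorem F77903 : act 6 n17273 = n13403 := d39_1 D17273 (iv D13403) (iv D10422) (iv F48212) D13393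
def n17274 : Q := act 7 n13394
theorem D17274 : act 7 n13394 = n17274 := rfl
theorem F77905 : act 1 n17274 = n13440 := d14_1 D17274 (iv D13440) (iv F61095)
theorem F77906 : act 5 n17274 = n13395 := d36_1 D17274 (iv D13395) D13394
def n17275 : Q := act 8 n13394
theorem D17275 : act 8 n13394 = n17275 := rfl
theorem F77907 : act 1 n17275 = n13441 := d15_1 D17275 (iv D13441) (iv F61095)
theorem F77908 : act 5 n17275 = n13411 := d37_1 D17275 (iv D13411) (iv D10427) (iv F48216) D13394
def n17277 : Q := act 6 n13396
theorem D17277 : act 6 n13396 = n17277 := rfl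
theorem F77916 : act 9 n17277 = n13401 := d41_2 (iv F61103) D17277 (iv D13401)
def n17278 : Q := act 5 n13397
theorem D17278 : act 5 n13397 = n17278 := rfl
theorem F77917 : act 1 n17278 = n13444 := d12_1 D17278 (iv D13444) (iv F61104)
theorem F77918 : act 3 n17278 = n13398 := d25_1 D17278 (iv D13398) (iv F61105)
theorem F77920 : act 9 n17278 = n13402 := d38_2 (iv F61107) D17278 (iv D13402)
def n17279 : Q := act 7 n13397
theorem D17279 : act 7 n13397 = n17279 := rfl
theorem F77921 : act 1 n17279 = n13445 := d14_1 D17279 (iv D13445) (iv F61104)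
theorem F77922 : act 3 n17279 = n13399 := d27_1 D17279 (iv D13399) (iv F61105)
theorem F77924 : act 9 n17279 = n13403 := d43_2 (iv F61107) D17279 (iv D13403)
def n17280 : Q := act 7 n13398
theorem D17280 : act 7 n13398 = n17280 := rfl
theorem F77925 : act 1 n17280 = n13446 := d14_1 D17280 (iv D13446) (iv F61108)
theorem F77926 : act 4 n17280 = n17280 := d32_1 D17280 (iv D17280) F61109
theorem F77927 : act 5 n17280 = n13399 := d36_1 D17280 (iv D13399) D13398
theorem F77928 : act 9 n17280 = n13404 := d43_2 (iv F61111) D17280 (iv D13404)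
def n17281 : Q := act 8 n13398
theorem D17281 : act 8 n13398 = n17281 := rfl
theorem F77929 : act 1 n17281 = n13447 := d15_1 D17281 (iv D13447) (iv F61108)
theorem F77930 : act 4 n17281 = n17281 := d33_1 D17281 (iv D17281) F61109
theorem F77931 : act 6 n17281 = n17281 := d40_1 D17281 (iv D17281) F61110
def n17282 : Q := act 0 n13400
theorem D17282 : act 0 n13400 = n17282 := rfl
theorem F77935 : act 8 n17282 = n13412 := d7_2 (iv F61118) D17282 (iv D13412)
def n17283 : Q := act 6 n13400
theorem D17283 : act 6 n13400 = n17283 := rfl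
theorem F77936 : act 1 n17283 = n13401 := d13_1 D17283 (iv D13401) D13400
theorem F77939 : act 8 n17283 = n13413 := d40_2 (iv F61118) D17283 (iv D13413)
def n17285 : Q := act 7 n13401
theorem D17285 : act 7 n13401 = n17285 := rfl
theorem F77944 : act 8 n17285 = n13415 := d42_2 (iv F61121) D17285 (iv D13415)
def n17287 : Q := act 7 n13402
theorem D17287 : act 7 n13402 = n17287 := rfl
theorem F77949 : act 1 n17287 = n13453 := d14_1 D17287 (iv D13453) (iv F61122)
theorem F77950 : act 3 n17287 = n13404 := d27_1 D17287 (iv D13404) (iv F61123)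
def n17289 : Q := act 6 n13404
theorem D17289 : act 6 n13404 = n17289 := rfl
theorem F77956 : act 1 n17289 = n13455 := d13_1 D17289 (iv D13455) (iv F61129)
theorem F77957 : act 4 n17289 = n17289 := d31_1 D17289 (iv D17289) F61130
theorem F77958 : act 7 n17289 = n17289 := d39_2 D13404 D17289 (iv D17289) (iv D13404) F48241
def n17290 : Q := act 8 n13404
theorem D17290 : act 8 n13404 = n17290 := rfl
theorem F77959 : act 1 n17290 = n13456 := d15_1 D17290 (iv D13456) (iv F61129)
def n17291 : Q := act 9 n13405
theorem D17291 : act 9 n13405 = n17291 := rfl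
theorem F77963 : act 1 n17291 = n13457 := d16_1 D17291 (iv D13457) (iv F61132)
def n17292 : Q := act 0 n13406
theorem D17292 : act 0 n13406 = n17292 := rfl
theorem F77969 : act 5 n17292 = n13856 := d4_2 (iv F61138) D17292 (iv D13856)
theorem F77970 : act 7 n17292 = n13412 := d6_2 (iv F61139) D17292 (iv D13412)
def n17293 : Q := act 6 n13406
theorem D17293 : act 6 n13406 = n17293 := rfl
def n17294 : Q := act 5 n13407
theorem D17294 : act 5 n13407 = n17294 := rfl
theorem F77975 : act 6 n17294 = n13858 := d35_2 D13407 D17294 (iv D13858) (iv D10774) (iv F48246)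
def n17295 : Q := act 7 n13407
theorem D17295 : act 7 n13407 = n17295 := rfl
theorem F77978 : act 6 n17295 = n13415 := d39_1 D17295 (iv D13415) (iv D10430) (iv F48247) D13407
def n17296 : Q := act 4 n13408
theorem D17296 : act 4 n13408 = n17296 := rfl
theorem F77982 : act 6 n17296 = n13860 := d31_2 (iv F61144) D17296 (iv D13860)
def n17298 : Q := act 8 n13408
theorem D17298 : act 8 n13408 = n17298 := rfl
theorem F77988 : act 6 n17298 = n13862 := d40_1 D17298 (iv D13862) (iv F61144)
def n17299 : Q := act 6 n13410
theorem D17299 : act 6 n13410 = n17299 := rfl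
theorem F77991 : act 5 n17299 = n13419 := d35_1 D17299 (iv D13419) F48270 (iv F48256) (iv F61151)
theorem F77992 : act 7 n17299 = n13863 := d39_2 D13410 D17299 (iv D13863) (iv D10777) (iv F48253)
def n17300 : Q := act 8 n13410
theorem D17300 : act 8 n13410 = n17300 := rfl
def n17302 : Q := act 6 n13412
theorem D17302 : act 6 n13412 = n17302 := rfl
theorem F78000 : act 2 n17302 = n13468 := d20_1 D17302 (iv D13468) (iv F61155)
def n17303 : Q := act 5 n13413
theorem D17303 : act 5 n13413 = n17303 := rfl
theorem F78004 : act 6 n17303 = n13867 := d35_2 D13413 D17303 (iv D13867) (iv D10780) (iv F48259)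
def n17304 : Q := act 7 n13413
theorem D17304 : act 7 n13413 = n17304 := rfl
def n17314 : Q := act 9 n13420
theorem D17314 : act 9 n13420 = n17314 := rfl
theorem F78036 : act 1 n17314 = n13480 := d16_1 D17314 (iv D13480) (iv F61178)
def n17318 : Q := act 6 n13423
theorem D17318 : act 6 n13423 = n17318 := rfl
theorem F78051 : act 2 n17318 = n13427 := d20_1 D17318 (iv D13427) (iv F61189)
theorem F78053 : act 7 n17318 = n13882 := d39_2 D13423 D17318 (iv D13882) (iv D10790) (iv F48276)
def n17330 : Q := act 6 n13432
theorem D17330 : act 6 n13432 = n17330 := rfl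
theorem F78095 : act 2 n17330 = n13433 := d20_1 D17330 (iv D13433) D13432
theorem F78098 : act 9 n17330 = n13437 := d41_2 (iv F61224) D17330 (iv D13437)
def n17331 : Q := act 5 n13433
theorem D17331 : act 5 n13433 = n17331 := rfl
theorem F78099 : act 0 n17331 = n17331 := d4_1 D17331 (iv D17331) F61225
theorem F78100 : act 3 n17331 = n13434 := d25_1 D17331 (iv D13434) (iv F61226)
theorem F78101 : act 6 n17331 = n17331 := d35_2 D13433 D17331 (iv D17331) (iv D13433) F48303
theorem F78102 : act 9 n17331 = n13438 := d38_2 (iv F61228) D17331 (iv D13438)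
def n17332 : Q := act 7 n13433
theorem D17332 : act 7 n13433 = n17332 := rfl
theorem F78103 : act 0 n17332 = n17332 := d6_1 D17332 (iv D17332) F61225
theorem F78104 : act 3 n17332 = n13435 := d27_1 D17332 (iv D13435) (iv F61226)
theorem F78105 : act 4 n17332 = n17332 := d32_1 D17332 (iv D17332) F61227
theorem F78106 : act 6 n17332 = n13445 := d39_1 D17332 (iv D13445) (iv D10451) (iv F48304) D13433
theorem F78107 : act 9 n17332 = n13439 := d43_2 (iv F61228) D17332 (iv D13439)
def n17333 : Q := act 7 n13434
theorem D17333 : act 7 n13434 = n17333 := rfl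
theorem F78108 : act 0 n17333 = n17333 := d6_1 D17333 (iv D17333) F61229
theorem F78109 : act 2 n17333 = n13493 := d21_1 D17333 (iv D13493) (iv F61230)
theorem F78110 : act 5 n17333 = n13435 := d36_1 D17333 (iv D13435) D13434
theorem F78111 : act 9 n17333 = n13440 := d43_2 (iv F61232) D17333 (iv D13440)
def n17334 : Q := act 8 n13434
theorem D17334 : act 8 n13434 = n17334 := rfl
theorem F78112 : act 0 n17334 = n17334 := d7_1 D17334 (iv D17334) F61229
theorem F78113 : act 2 n17334 = n13494 := d22_1 D17334 (iv D13494) (iv F61230)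
theorem F78114 : act 6 n17334 = n17334 := d40_1 D17334 (iv D17334) F61231
def n17335 : Q := act 0 n13436
theorem D17335 : act 0 n13436 = n17335 := rfl
theorem F78119 : act 7 n17335 = n13448 := d6_2 (iv F61241) D17335 (iv D13448)
theorem F78120 : act 8 n17335 = n13458 := d7_2 (iv F61242) D17335 (iv D13458)
def n17336 : Q := act 6 n13436
theorem D17336 : act 6 n13436 = n17336 := rfl
theorem F78124 : act 8 n17336 = n13459 := d40_2 (iv F61242) D17336 (iv D13459)
def n17337 : Q := act 5 n13437
theorem D17337 : act 5 n13437 = n17337 := rfl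
theorem F78126 : act 2 n17337 = n13438 := d19_1 D17337 (iv D13438) (iv F61244)
theorem F78127 : act 3 n17337 = n13497 := d25_1 D17337 (iv D13497) (iv F61245)
def n17338 : Q := act 7 n13437
theorem D17338 : act 7 n13437 = n17338 := rfl
theorem F78130 : act 2 n17338 = n13439 := d21_1 D17338 (iv D13439) (iv F61244)
theorem F78134 : act 8 n17338 = n13461 := d42_2 (iv F61247) D17338 (iv D13461)
def n17339 : Q := act 4 n13438
theorem D17339 : act 4 n13438 = n17339 := rfl
theorem F78135 : act 0 n17339 = n17339 := d3_1 D17339 (iv D17339) F61248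
theorem F78136 : act 5 n17339 = n17339 := d30_2 D13438 D17339 (iv D17339) (iv D13438) F48323
theorem F78137 : act 6 n17339 = n17339 := d31_2 F61250 D17339 (iv D17339)
def n17340 : Q := act 7 n13438
theorem D17340 : act 7 n13438 = n17340 := rfl
theorem F78138 : act 0 n17340 = n17340 := d6_1 D17340 (iv D17340) F61248
theorem F78139 : act 3 n17340 = n13440 := d27_1 D17340 (iv D13440) (iv F61249)
theorem F78140 : act 5 n17340 = n13439 := d36_1 D17340 (iv D13439) D13438
def n17341 : Q := act 8 n13438
theorem D17341 : act 8 n13438 = n17341 := rfl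
theorem F78143 : act 5 n17341 = n13464 := d37_1 D17341 (iv D13464) (iv D10462) (iv F48324) D13438
def n17342 : Q := act 6 n13440
theorem D17342 : act 6 n13440 = n17342 := rfl
theorem F78145 : act 0 n17342 = n17342 := d5_1 D17342 (iv D17342) F61256
theorem F78146 : act 2 n17342 = n13501 := d20_1 D17342 (iv D13501) (iv F61257)
theorem F78147 : act 5 n17342 = n13455 := d35_1 D17342 (iv D13455) F48370 (iv F48331) (iv F61258)
theorem F78148 : act 7 n17342 = n17342 := d39_2 D13440 D17342 (iv D17342) (iv D13440) F48327
def n17343 : Q := act 8 n13440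
theorem D17343 : act 8 n13440 = n17343 := rfl
theorem F78149 : act 0 n17343 = n17343 := d7_1 D17343 (iv D17343) F61256
theorem F78151 : act 5 n17343 = n13466 := d37_1 D17343 (iv D13466) F48394 (iv F48332) (iv F61258)
theorem F78152 : act 7 n17343 = n13441 := d42_1 D17343 (iv D13441) D13440
def n17344 : Q := act 9 n13441
theorem D17344 : act 9 n13441 = n17344 := rfl
theorem F78153 : act 0 n17344 = n17344 := d8_1 D17344 (iv D17344) F61259
theorem F78156 : act 6 n17344 = n17344 := d41_1 D17344 (iv D17344) F61262
def n17346 : Q := act 6 n13442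
theorem D17346 : act 6 n13442 = n17346 := rfl
theorem F78163 : act 3 n17346 = n13505 := d26_1 D17346 (iv D13505) (iv F61263)
theorem F78165 : act 9 n17346 = n13449 := d41_2 (iv F61266) D17346 (iv D13449)
def n17347 : Q := act 5 n13443
theorem D17347 : act 5 n13443 = n17347 := rfl
theorem F78167 : act 2 n17347 = n13444 := d19_1 D17347 (iv D13444) (iv F61268)
theorem F78168 : act 3 n17347 = n13506 := d25_1 D17347 (iv D13506) (iv F61269)
theorem F78170 : act 9 n17347 = n13450 := d38_2 (iv F61271) D17347 (iv D13450)
def n17348 : Q := act 7 n13443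
theorem D17348 : act 7 n13443 = n17348 := rfl
theorem F78171 : act 0 n17348 = n17348 := d6_1 D17348 (iv D17348) F61267
theorem F78172 : act 2 n17348 = n13445 := d21_1 D17348 (iv D13445) (iv F61268)
theorem F78173 : act 3 n17348 = n13507 := d27_1 D17348 (iv D13507) (iv F61269)
theorem F78174 : act 4 n17348 = n17348 := d32_1 D17348 (iv D17348) F61270
theorem F78175 : act 9 n17348 = n13451 := d43_2 (iv F61271) D17348 (iv D13451)
def n17349 : Q := act 4 n13444
theorem D17349 : act 4 n13444 = n17349 := rfl
theorem F78180 : act 9 n17349 = n13452 := d34_2 (iv F61275) D17349 (iv D13452)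
def n17350 : Q := act 7 n13444
theorem D17350 : act 7 n13444 = n17350 := rfl
theorem F78181 : act 0 n17350 = n17350 := d6_1 D17350 (iv D17350) F61272
theorem F78182 : act 3 n17350 = n13446 := d27_1 D17350 (iv D13446) (iv F61273)
theorem F78183 : act 5 n17350 = n13445 := d36_1 D17350 (iv D13445) D13444
theorem F78184 : act 9 n17350 = n13453 := d43_2 (iv F61275) D17350 (iv D13453)
def n17351 : Q := act 8 n13444
theorem D17351 : act 8 n13444 = n17351 := rfl
theorem F78185 : act 0 n17351 = n17351 := d7_1 D17351 (iv D17351) F61272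
theorem F78186 : act 3 n17351 = n13447 := d28_1 D17351 (iv D13447) (iv F61273)
theorem F78187 : act 6 n17351 = n17351 := d40_1 D17351 (iv D17351) F61274
def n17352 : Q := act 6 n13446
theorem D17352 : act 6 n13446 = n17352 := rfl
theorem F78188 : act 0 n17352 = n17352 := d5_1 D17352 (iv D17352) F61280
theorem F78189 : act 2 n17352 = n13511 := d20_1 D17352 (iv D13511) (iv F61281)
theorem F78190 : act 4 n17352 = n17352 := d31_1 D17352 (iv D17352) F61282
theorem F78191 : act 7 n17352 = n17352 := d39_2 D13446 D17352 (iv D17352) (iv D13446) F48345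
theorem F78192 : act 9 n17352 = n13455 := d41_2 (iv F61284) D17352 (iv D13455)
def n17353 : Q := act 8 n13446
theorem D17353 : act 8 n13446 = n17353 := rfl
theorem F78193 : act 0 n17353 = n17353 := d7_1 D17353 (iv D17353) F61280
theorem F78194 : act 2 n17353 = n13512 := d22_1 D17353 (iv D13512) (iv F61281)
theorem F78195 : act 4 n17353 = n17353 := d33_1 D17353 (iv D17353) F61282
theorem F78196 : act 7 n17353 = n13447 := d42_1 D17353 (iv D13447) D13446
def n17354 : Q := act 9 n13447
theorem D17354 : act 9 n13447 = n17354 := rfl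
theorem F78197 : act 0 n17354 = n17354 := d8_1 D17354 (iv D17354) F61285
theorem F78198 : act 2 n17354 = n13513 := d23_1 D17354 (iv D13513) (iv F61286)
theorem F78199 : act 4 n17354 = n17354 := d34_1 D17354 (iv D17354) F61287
theorem F78200 : act 6 n17354 = n17354 := d41_1 D17354 (iv D17354) F61288
theorem F78201 : act 8 n17354 = n13457 := d44_1 D17354 (iv D13457) (iv D10459) (iv F48346) D13447
def n17355 : Q := act 6 n13448
theorem D17355 : act 6 n13448 = n17355 := rfl
theorem F78206 : act 8 n17355 = n13468 := d40_2 (iv F61293) D17355 (iv D13468)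
def n17356 : Q := act 5 n13449
theorem D17356 : act 5 n13449 = n17356 := rfl
theorem F78207 : act 1 n17356 = n13450 := d12_1 D17356 (iv D13450) (iv F61294)
def n17358 : Q := act 4 n13450
theorem D17358 : act 4 n13450 = n17358 := rfl
def n17359 : Q := act 7 n13450
theorem D17359 : act 7 n13450 = n17359 := rfl
theorem F78219 : act 2 n17359 = n13453 := d21_1 D17359 (iv D13453) (iv F61299)
theorem F78220 : act 3 n17359 = n13518 := d27_1 D17359 (iv D13518) (iv F61300)
theorem F78221 : act 5 n17359 = n13451 := d36_1 D17359 (iv D13451) D13450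
def n17360 : Q := act 8 n13450
theorem D17360 : act 8 n13450 = n17360 := rfl
theorem F78225 : act 5 n17360 = n13473 := d37_1 D17360 (iv D13473) (iv D10468) (iv F48359) D13450
def n17361 : Q := act 7 n13452
theorem D17361 : act 7 n13452 = n17361 := rfl
theorem F78229 : act 4 n17361 = n13453 := d32_1 D17361 (iv D13453) D13452
def n17363 : Q := act 6 n13453
theorem D17363 : act 6 n13453 = n17363 := rfl
theorem F78235 : act 0 n17363 = n17363 := d5_1 D17363 (iv D17363) F61311
theorem F78236 : act 3 n17363 = n13455 := d26_1 D17363 (iv D13455) (iv F61312)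
theorem F78237 : act 7 n17363 = n17363 := d39_2 D13453 D17363 (iv D17363) (iv D13453) F48362
def n17364 : Q := act 8 n13453
theorem D17364 : act 8 n13453 = n17364 := rfl
theorem F78239 : act 3 n17364 = n13456 := d28_1 D17364 (iv D13456) (iv F61312)
theorem F78240 : act 5 n17364 = n13477 := d37_1 D17364 (iv D13477) F48420 (iv F48366) (iv F61313)
def n17365 : Q := act 9 n13454
theorem D17365 : act 9 n13454 = n17365 := rfl
theorem F78243 : act 3 n17365 = n13457 := d29_1 D17365 (iv D13457) (iv F61315)
def n17366 : Q := act 8 n13455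
theorem D17366 : act 8 n13455 = n17366 := rfl
theorem F78246 : act 0 n17366 = n17366 := d7_1 D17366 (iv D17366) F61318
theorem F78247 : act 2 n17366 = n13525 := d22_1 D17366 (iv D13525) (iv F61319)
theorem F78248 : act 4 n17366 = n17366 := d33_1 D17366 (iv D17366) F61320
theorem F78249 : act 6 n17366 = n13456 := d40_1 D17366 (iv D13456) D13455
theorem F78250 : act 7 n17366 = n17366 := d42_1 D17366 (iv D17366) F61321
def n17367 : Q := act 9 n13456
theorem D17367 : act 9 n13456 = n17367 := rfl
theorem F78251 : act 0 n17367 = n17367 := d8_1 D17367 (iv D17367) F61322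
theorem F78252 : act 2 n17367 = n13526 := d23_1 D17367 (iv D13526) (iv F61323)
theorem F78253 : act 4 n17367 = n17367 := d34_1 D17367 (iv D17367) F61324
theorem F78254 : act 5 n17367 = n13480 := d38_1 D17367 (iv D13480) (iv F61325)
theorem F78255 : act 7 n17367 = n13457 := d43_1 D17367 (iv D13457) (iv F61326)
def n17368 : Q := act 6 n13458
theorem D17368 : act 6 n13458 = n17368 := rfl
def n17369 : Q := act 5 n13459
theorem D17369 : act 5 n13459 = n17369 := rfl
theorem F78262 : act 6 n17369 = n13894 := d35_2 D13459 D17369 (iv D13894) (iv D10800) (iv F48378)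
def n17370 : Q := act 7 n13459
theorem D17370 : act 7 n13459 = n17370 := rfl
def n17371 : Q := act 4 n13460
theorem D17371 : act 4 n13460 = n17371 := rfl
theorem F78268 : act 2 n17371 = n13462 := d18_1 D17371 (iv D13462) (iv F61341)
theorem F78270 : act 6 n17371 = n13896 := d31_2 (iv F61343) D17371 (iv D13896)
def n17372 : Q := act 7 n13460
theorem D17372 : act 7 n13460 = n17372 := rfl
theorem F78274 : act 5 n17372 = n13461 := d36_1 D17372 (iv D13461) D13460
def n17373 : Q := act 8 n13460
theorem D17373 : act 8 n13460 = n17373 := rfl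
theorem F78276 : act 2 n17373 = n13464 := d22_1 D17373 (iv D13464) (iv F61341)
theorem F78278 : act 6 n17373 = n13898 := d40_1 D17373 (iv D13898) (iv F61343)
def n17374 : Q := act 7 n13462
theorem D17374 : act 7 n13462 = n17374 := rfl
def n17375 : Q := act 8 n13462
theorem D17375 : act 8 n13462 = n17375 := rfl
theorem F78286 : act 6 n17375 = n13900 := d40_1 D17375 (iv D13900) (iv F61352)
def n17378 : Q := act 9 n13464
theorem D17378 : act 9 n13464 = n17378 := rfl
theorem F78296 : act 6 n17378 = n13903 := d41_1 D17378 (iv D13903) (iv F61358)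
def n17379 : Q := act 8 n13465
theorem D17379 : act 8 n13465 = n17379 := rfl
theorem F78300 : act 6 n17379 = n13466 := d40_1 D17379 (iv D13466) D13465
theorem F78301 : act 7 n17379 = n13904 := d42_1 D17379 (iv D13904) (iv F61363)
def n17381 : Q := act 5 n13468
theorem D17381 : act 5 n13468 = n17381 := rfl
theorem F78309 : act 6 n17381 = n13906 := d35_2 D13468 D17381 (iv D13906) (iv D10809) (iv F48402)
def n17382 : Q := act 7 n13468
theorem D17382 : act 7 n13468 = n17382 := rfl
theorem F78312 : act 3 n17382 = n13541 := d27_1 D17382 (iv D13541) (iv F61374)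
def n17383 : Q := act 4 n13469
theorem D17383 : act 4 n13469 = n17383 := rfl
theorem F78317 : act 6 n17383 = n13908 := d31_2 (iv F61378) D17383 (iv D13908)
def n17387 : Q := act 8 n13471
theorem D17387 : act 8 n13471 = n17387 := rfl
theorem F78332 : act 4 n17387 = n13473 := d33_1 D17387 (iv D13473) D13471
theorem F78333 : act 6 n17387 = n13912 := d40_1 D17387 (iv D13912) (iv F61386)
def n17388 : Q := act 6 n13472
theorem D17388 : act 6 n13472 = n17388 := rfl
theorem F78337 : act 7 n17388 = n13913 := d39_2 D13472 D17388 (iv D13913) (iv D10813) (iv F48409)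
def n17390 : Q := act 9 n13473
theorem D17390 : act 9 n13473 = n17390 := rfl
def n17395 : Q := act 8 n13476
theorem D17395 : act 8 n13476 = n17395 := rfl
theorem F78363 : act 6 n17395 = n13477 := d40_1 D17395 (iv D13477) D13476
theorem F78364 : act 7 n17395 = n13920 := d42_1 D17395 (iv D13920) (iv F61405)
def n17396 : Q := act 9 n13477
theorem D17396 : act 9 n13477 = n17396 := rfl
theorem F78366 : act 3 n17396 = n13480 := d29_1 D17396 (iv D13480) (iv F61407)
def n17397 : Q := act 5 n13479
theorem D17397 : act 5 n13479 = n17397 := rfl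
theorem F78370 : act 7 n17397 = n13922 := d36_2 (iv F61416) D17397 (iv D13922)
def n17398 : Q := act 9 n13479
theorem D17398 : act 9 n13479 = n17398 := rfl
theorem F78374 : act 6 n17398 = n13480 := d41_1 D17398 (iv D13480) (iv F61415)
def n17407 : Q := act 4 n13487
theorem D17407 : act 4 n13487 = n17407 := rfl
theorem F78421 : act 2 n17407 = n13551 := d18_1 D17407 (iv D13551) (iv F61448)
def n17408 : Q := act 9 n13487
theorem D17408 : act 9 n13487 = n17408 := rfl
theorem F78427 : act 2 n17408 = n13552 := d23_1 D17408 (iv D13552) (iv F61448)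
def n17413 : Q := act 7 n13491
theorem D17413 : act 7 n13491 = n17413 := rfl
theorem F78450 : act 3 n17413 = n13493 := d27_1 D17413 (iv D13493) (iv F61465)
theorem F78453 : act 9 n17413 = n13499 := d43_2 (iv F61468) D17413 (iv D13499)
def n17415 : Q := act 6 n13493
theorem D17415 : act 6 n13493 = n17415 := rfl
theorem F78458 : act 0 n17415 = n17415 := d5_1 D17415 (iv D17415) F61474
theorem F78459 : act 5 n17415 = n13511 := d35_1 D17415 (iv D13511) F48522 (iv F48481) (iv F61475)
theorem F78460 : act 7 n17415 = n17415 := d39_2 D13493 D17415 (iv D17415) (iv D13493) F48477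
theorem F78461 : act 9 n17415 = n13501 := d41_2 (iv F61476) D17415 (iv D13501)
def n17416 : Q := act 8 n13493
theorem D17416 : act 8 n13493 = n17416 := rfl
theorem F78462 : act 0 n17416 = n17416 := d7_1 D17416 (iv D17416) F61474
theorem F78463 : act 7 n17416 = n13494 := d42_1 D17416 (iv D13494) D13493
def n17421 : Q := act 7 n13497
theorem D17421 : act 7 n13497 = n17421 := rfl
theorem F78479 : act 2 n17421 = n13499 := d21_1 D17421 (iv D13499) (iv F61488)
def n17422 : Q := act 8 n13497
theorem D17422 : act 8 n13497 = n17422 := rfl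
theorem F78483 : act 2 n17422 = n13500 := d22_1 D17422 (iv D13500) (iv F61488)
theorem F78485 : act 5 n17422 = n13532 := d37_1 D17422 (iv D13532) (iv D10511) (iv F48490) D13497
def n17423 : Q := act 6 n13499
theorem D17423 : act 6 n13499 = n17423 := rfl
theorem F78490 : act 5 n17423 = n13522 := d35_1 D17423 (iv D13522) F48547 (iv F48498) (iv F61499)
def n17424 : Q := act 8 n13499
theorem D17424 : act 8 n13499 = n17424 := rfl
theorem F78495 : act 5 n17424 = n13536 := d37_1 D17424 (iv D13536) F48582 (iv F48499) (iv F61499)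
def n17425 : Q := act 9 n13500
theorem D17425 : act 9 n13500 = n17425 := rfl
theorem F78500 : act 5 n17425 = n13537 := d38_1 D17425 (iv D13537) (iv F61503)
def n17426 : Q := act 8 n13501
theorem D17426 : act 8 n13501 = n17426 := rfl
theorem F78503 : act 6 n17426 = n13502 := d40_1 D17426 (iv D13502) D13501
def n17428 : Q := act 6 n13504
theorem D17428 : act 6 n13504 = n17428 := rfl
theorem F78508 : act 0 n17428 = n13505 := d5_1 D17428 (iv D13505) D13504
theorem F78511 : act 9 n17428 = n13514 := d41_2 (iv F61517) D17428 (iv D13514)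
def n17429 : Q := act 5 n13505
theorem D17429 : act 5 n13505 = n17429 := rfl
theorem F78512 : act 1 n17429 = n13506 := d12_1 D17429 (iv D13506) (iv F61518)
theorem F78514 : act 9 n17429 = n13515 := d38_2 (iv F61520) D17429 (iv D13515)
def n17430 : Q := act 7 n13505
theorem D17430 : act 7 n13505 = n17430 := rfl
theorem F78515 : act 1 n17430 = n13507 := d14_1 D17430 (iv D13507) (iv F61518)
def n17431 : Q := act 7 n13506
theorem D17431 : act 7 n13506 = n17431 := rfl
theorem F78518 : act 0 n17431 = n17431 := d6_1 D17431 (iv D17431) F61521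
theorem F78519 : act 2 n17431 = n13509 := d21_1 D17431 (iv D13509) (iv F61522)
theorem F78520 : act 5 n17431 = n13507 := d36_1 D17431 (iv D13507) D13506
theorem F78521 : act 9 n17431 = n13518 := d43_2 (iv F61524) D17431 (iv D13518)
def n17432 : Q := act 7 n13508
theorem D17432 : act 7 n13508 = n17432 := rfl
theorem F78522 : act 0 n17432 = n17432 := d6_1 D17432 (iv D17432) F61529
theorem F78523 : act 3 n17432 = n17432 := d27_1 D17432 (iv D17432) F61530
theorem F78524 : act 4 n17432 = n13509 := d32_1 D17432 (iv D13509) D13508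
theorem F78525 : act 5 n17432 = n13562 := d36_1 D17432 (iv D13562) (iv F61531)
theorem F78526 : act 9 n17432 = n13520 := d43_2 (iv F61533) D17432 (iv D13520)
def n17433 : Q := act 6 n13509
theorem D17433 : act 6 n13509 = n17433 := rfl
theorem F78527 : act 0 n17433 = n17433 := d5_1 D17433 (iv D17433) F61534
theorem F78528 : act 3 n17433 = n13511 := d26_1 D17433 (iv D13511) (iv F61535)
theorem F78529 : act 7 n17433 = n17433 := d39_2 D13509 D17433 (iv D17433) (iv D13509) F48514
theorem F78530 : act 9 n17433 = n13522 := d41_2 (iv F61537) D17433 (iv D13522)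
def n17434 : Q := act 8 n13509
theorem D17434 : act 8 n13509 = n17434 := rfl
theorem F78531 : act 0 n17434 = n17434 := d7_1 D17434 (iv D17434) F61534
theorem F78532 : act 3 n17434 = n13512 := d28_1 D17434 (iv D13512) (iv F61535)
theorem F78533 : act 7 n17434 = n13510 := d42_1 D17434 (iv D13510) D13509
def n17435 : Q := act 9 n13510
theorem D17435 : act 9 n13510 = n17435 := rfl
theorem F78534 : act 0 n17435 = n17435 := d8_1 D17435 (iv D17435) F61538
theorem F78535 : act 3 n17435 = n13513 := d29_1 D17435 (iv D13513) (iv F61539)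
theorem F78536 : act 6 n17435 = n17435 := d41_1 D17435 (iv D17435) F61540
theorem F78537 : act 8 n17435 = n13524 := d44_1 D17435 (iv D13524) (iv D10505) (iv F48515) D13510
def n17436 : Q := act 8 n13511
theorem D17436 : act 8 n13511 = n17436 := rfl
theorem F78538 : act 0 n17436 = n17436 := d7_1 D17436 (iv D17436) F61541
theorem F78539 : act 4 n17436 = n17436 := d33_1 D17436 (iv D17436) F61542
theorem F78540 : act 6 n17436 = n13512 := d40_1 D17436 (iv D13512) D13511
theorem F78541 : act 7 n17436 = n17436 := d42_1 D17436 (iv D17436) F61543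
def n17437 : Q := act 9 n13512
theorem D17437 : act 9 n13512 = n17437 := rfl
theorem F78542 : act 0 n17437 = n17437 := d8_1 D17437 (iv D17437) F61545
theorem F78543 : act 4 n17437 = n17437 := d34_1 D17437 (iv D17437) F61546
theorem F78544 : act 7 n17437 = n13513 := d43_1 D17437 (iv D13513) (iv F61547)
theorem F78545 : act 8 n17437 = n13526 := d44_1 D17437 (iv D13526) (iv D10507) (iv F48523) D13512
def n17438 : Q := act 5 n13514
theorem D17438 : act 5 n13514 = n17438 := rfl
def n17439 : Q := act 7 n13514
theorem D17439 : act 7 n13514 = n17439 := rfl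
theorem F78552 : act 8 n17439 = n13541 := d42_2 (iv F61555) D17439 (iv D13541)
def n17440 : Q := act 4 n13515
theorem D17440 : act 4 n13515 = n17440 := rfl
theorem F78554 : act 5 n17440 = n13566 := d30_2 D13515 D17440 (iv D13566) (iv D10546) (iv F48532)
def n17441 : Q := act 7 n13515
theorem D17441 : act 7 n13515 = n17441 := rfl
theorem F78556 : act 1 n17441 = n13518 := d14_1 D17441 (iv D13518) (iv F61556)
def n17442 : Q := act 8 n13515
theorem D17442 : act 8 n13515 = n17442 := rfl
theorem F78559 : act 5 n17442 = n13543 := d37_1 D17442 (iv D13543) (iv D10520) (iv F48533) D13515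
def n17443 : Q := act 7 n13517
theorem D17443 : act 7 n13517 = n17443 := rfl
theorem F78561 : act 0 n17443 = n17443 := d6_1 D17443 (iv D17443) F61561
theorem F78562 : act 2 n17443 = n13520 := d21_1 D17443 (iv D13520) (iv F61562)
theorem F78563 : act 4 n17443 = n13518 := d32_1 D17443 (iv D13518) D13517
theorem F78564 : act 5 n17443 = n13568 := d36_1 D17443 (iv D13568) (iv F61563)
def n17444 : Q := act 8 n13517
theorem D17444 : act 8 n13517 = n17444 := rfl
theorem F78567 : act 4 n17444 = n13519 := d33_1 D17444 (iv D13519) D13517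
def n17445 : Q := act 6 n13518
theorem D17445 : act 6 n13518 = n17445 := rfl
theorem F78570 : act 0 n17445 = n17445 := d5_1 D17445 (iv D17445) F61565
theorem F78571 : act 2 n17445 = n13522 := d20_1 D17445 (iv D13522) (iv F61566)
theorem F78572 : act 7 n17445 = n17445 := d39_2 D13518 D17445 (iv D17445) (iv D13518) F48536
def n17446 : Q := act 8 n13518
theorem D17446 : act 8 n13518 = n17446 := rfl
theorem F78576 : act 7 n17446 = n13519 := d42_1 D17446 (iv D13519) D13518
def n17447 : Q := act 9 n13519
theorem D17447 : act 9 n13519 = n17447 := rfl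
theorem F78579 : act 5 n17447 = n13546 := d38_1 D17447 (iv D13546) (iv F61570)
def n17448 : Q := act 6 n13520
theorem D17448 : act 6 n13520 = n17448 := rfl
theorem F78581 : act 0 n17448 = n17448 := d5_1 D17448 (iv D17448) F61572
theorem F78582 : act 3 n17448 = n17448 := d26_1 D17448 (iv D17448) F61573
theorem F78583 : act 4 n17448 = n13522 := d31_1 D17448 (iv D13522) (iv F61574)
theorem F78584 : act 5 n17448 = n17448 := d35_1 D17448 (iv D17448) F61575 F48728 (iv F61575)
theorem F78585 : act 7 n17448 = n17448 := d39_2 D13520 D17448 (iv D17448) (iv D13520) F48544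
def n17449 : Q := act 8 n13520
theorem D17449 : act 8 n13520 = n17449 := rfl
theorem F78586 : act 0 n17449 = n17449 := d7_1 D17449 (iv D17449) F61572
theorem F78587 : act 3 n17449 = n17449 := d28_1 D17449 (iv D17449) F61573
theorem F78588 : act 4 n17449 = n13523 := d33_1 D17449 (iv D13523) (iv F61574)
theorem F78589 : act 5 n17449 = n17449 := d37_1 D17449 (iv D17449) F61575 F48729 (iv F61575)
theorem F78590 : act 7 n17449 = n13521 := d42_1 D17449 (iv D13521) D13520
def n17450 : Q := act 9 n13521
theorem D17450 : act 9 n13521 = n17450 := rfl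
theorem F78591 : act 0 n17450 = n17450 := d8_1 D17450 (iv D17450) F61576
theorem F78592 : act 3 n17450 = n17450 := d29_1 D17450 (iv D17450) F61577
theorem F78593 : act 4 n17450 = n13524 := d34_1 D17450 (iv D13524) (iv F61578)
theorem F78594 : act 5 n17450 = n17450 := d38_1 D17450 (iv D17450) F61579
theorem F78595 : act 6 n17450 = n17450 := d41_1 D17450 (iv D17450) F61580
def n17451 : Q := act 8 n13522
theorem D17451 : act 8 n13522 = n17451 := rfl
theorem F78596 : act 0 n17451 = n17451 := d7_1 D17451 (iv D17451) F61581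
theorem F78597 : act 3 n17451 = n13525 := d28_1 D17451 (iv D13525) (iv F61582)
theorem F78598 : act 6 n17451 = n13523 := d40_1 D17451 (iv D13523) D13522
theorem F78599 : act 7 n17451 = n17451 := d42_1 D17451 (iv D17451) F61583
def n17452 : Q := act 9 n13523
theorem D17452 : act 9 n13523 = n17452 := rfl
theorem F78600 : act 0 n17452 = n17452 := d8_1 D17452 (iv D17452) F61584
theorem F78601 : act 3 n17452 = n13526 := d29_1 D17452 (iv D13526) (iv F61585)
theorem F78602 : act 5 n17452 = n13548 := d38_1 D17452 (iv D13548) (iv F61586)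
theorem F78603 : act 7 n17452 = n13524 := d43_1 D17452 (iv D13524) (iv F61587)
def n17453 : Q := act 5 n13525
theorem D17453 : act 5 n13525 = n17453 := rfl
theorem F78605 : act 6 n17453 = n13549 := d35_2 (iv F61594) D17453 (iv D13549) F48626 (iv F48557)
def n17454 : Q := act 9 n13525
theorem D17454 : act 9 n13525 = n17454 := rfl
theorem F78607 : act 0 n17454 = n17454 := d8_1 D17454 (iv D17454) F61592
theorem F78608 : act 4 n17454 = n17454 := d34_1 D17454 (iv D17454) F61593
theorem F78609 : act 6 n17454 = n13526 := d41_1 D17454 (iv D13526) (iv F61594)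
theorem F78610 : act 7 n17454 = n17454 := d43_1 D17454 (iv D17454) F61595
def n17469 : Q := act 8 n13535
theorem D17469 : act 8 n13535 = n17469 := rfl
theorem F78665 : act 6 n17469 = n13536 := d40_1 D17469 (iv D13536) D13535
theorem F78666 : act 7 n17469 = n13949 := d42_1 D17469 (iv D13949) (iv F61630)
def n17474 : Q := act 8 n13540
theorem D17474 : act 8 n13540 = n17474 := rfl
def n17475 : Q := act 6 n13542
theorem D17475 : act 6 n13542 = n17475 := rfl
theorem F78687 : act 7 n17475 = n13955 := d39_2 D13542 D17475 (iv D13955) (iv D10845) (iv F48601)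
def n17476 : Q := act 8 n13542
theorem D17476 : act 8 n13542 = n17476 := rfl
def n17479 : Q := act 9 n13545
theorem D17479 : act 9 n13545 = n17479 := rfl
theorem F78702 : act 7 n17479 = n13546 := d43_1 D17479 (iv D13546) (iv F61664)
def n17480 : Q := act 5 n13547
theorem D17480 : act 5 n13547 = n17480 := rfl
def n17481 : Q := act 9 n13547
theorem D17481 : act 9 n13547 = n17481 := rfl
theorem F78709 : act 6 n17481 = n13548 := d41_1 D17481 (iv D13548) (iv F61672)
def n17482 : Q := act 4 n13549
theorem D17482 : act 4 n13549 = n17482 := rfl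
theorem F78712 : act 5 n17482 = n13551 := d30_2 D13549 D17482 (iv D13551) (iv D10529) (iv F48625)
theorem F78713 : act 7 n17482 = n13962 := d32_2 (iv F61679) D17482 (iv D13962)
def n17483 : Q := act 9 n13549
theorem D17483 : act 9 n13549 = n17483 := rfl
theorem F78716 : act 7 n17483 = n13963 := d43_1 D17483 (iv D13963) (iv F61679)
def n17484 : Q := act 3 n13551
theorem D17484 : act 3 n13551 = n17484 := rfl
def n17485 : Q := act 9 n13551
theorem D17485 : act 9 n13551 = n17485 := rfl
theorem F78724 : act 4 n17485 = n13552 := d34_1 D17485 (iv D13552) D13551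
def n17486 : Q := act 8 n13552
theorem D17486 : act 8 n13552 = n17486 := rfl
def n17490 : Q := act 5 n13558
theorem D17490 : act 5 n13558 = n17490 := rfl
theorem F78751 : act 6 n17490 = n13577 := d35_2 D13558 D17490 (iv D13577) (iv D10562) (iv F48671)
theorem F78752 : act 9 n17490 = n13564 := d38_2 (iv F61721) D17490 (iv D13564)
def n17491 : Q := act 7 n13558
theorem D17491 : act 7 n13558 = n17491 := rfl
theorem F78756 : act 9 n17491 = n13565 := d43_2 (iv F61721) D17491 (iv D13565)
def n17492 : Q := act 7 n13559
theorem D17492 : act 7 n13559 = n17492 := rfl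
theorem F78761 : act 9 n17492 = n13567 := d43_2 (iv F61725) D17492 (iv D13567)
def n17493 : Q := act 4 n13564
theorem D17493 : act 4 n13564 = n17493 := rfl
theorem F78764 : act 6 n17493 = n13578 := d31_2 (iv F61748) D17493 (iv D13578)
def n17494 : Q := act 7 n13564
theorem D17494 : act 7 n13564 = n17494 := rfl
theorem F78769 : act 5 n17494 = n13565 := d36_1 D17494 (iv D13565) D13564
def n17495 : Q := act 7 n13566
theorem D17495 : act 7 n13566 = n17495 := rfl
theorem F78773 : act 4 n17495 = n13567 := d32_1 D17495 (iv D13567) D13566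
def n17503 : Q := act 1 n13579
theorem D17503 : act 1 n13579 = n17503 := rfl
theorem F78813 : act 8 n17503 = n13587 := d15_2 (iv F61816) D17503 (iv D13587)
def n17504 : Q := act 6 n13579
theorem D17504 : act 6 n13579 = n17504 := rfl
theorem F78817 : act 4 n17504 = n14036 := d31_1 D17504 (iv D14036) (iv F61815)
def n17506 : Q := act 7 n13580
theorem D17506 : act 7 n13580 = n17506 := rfl
theorem F78826 : act 3 n17506 = n13582 := d27_1 D17506 (iv D13582) (iv F61820)
theorem F78827 : act 4 n17506 = n14038 := d32_1 D17506 (iv D14038) (iv F61821)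
def n17509 : Q := act 1 n13583
theorem D17509 : act 1 n13583 = n17509 := rfl
theorem F78842 : act 9 n17509 = n13828 := d16_2 (iv F61836) D17509 (iv D13828)
def n17510 : Q := act 6 n13583
theorem D17510 : act 6 n13583 = n17510 := rfl
theorem F78846 : act 9 n17510 = n13829 := d41_2 (iv F61836) D17510 (iv D13829)
def n17513 : Q := act 7 n13585
theorem D17513 : act 7 n13585 = n17513 := rfl
theorem F78860 : act 5 n17513 = n13586 := d36_1 D17513 (iv D13586) D13585
def n17514 : Q := act 8 n13585
theorem D17514 : act 8 n13585 = n17514 := rfl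
def n17515 : Q := act 0 n13587
theorem D17515 : act 0 n13587 = n17515 := rfl
theorem F78867 : act 4 n17515 = n14046 := d3_2 (iv F61852) D17515 (iv D14046)
theorem F78868 : act 9 n17515 = n13834 := d8_2 (iv F61853) D17515 (iv D13834)
def n17516 : Q := act 6 n13587
theorem D17516 : act 6 n13587 = n17516 := rfl
theorem F78871 : act 4 n17516 = n14047 := d31_1 D17516 (iv D14047) (iv F61852)
theorem F78872 : act 9 n17516 = n13835 := d41_2 (iv F61853) D17516 (iv D13835)
def n17518 : Q := act 7 n13588
theorem D17518 : act 7 n13588 = n17518 := rfl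
theorem F78878 : act 4 n17518 = n14049 := d32_1 D17518 (iv D14049) (iv F61856)
def n17519 : Q := act 4 n13589
theorem D17519 : act 4 n13589 = n17519 := rfl
theorem F78883 : act 5 n17519 = n14050 := d30_2 D13589 D17519 (iv D14050) (iv D10927) (iv F48860)
def n17520 : Q := act 7 n13589
theorem D17520 : act 7 n13589 = n17520 := rfl
theorem F78887 : act 3 n17520 = n13591 := d27_1 D17520 (iv D13591) (iv F61860)
def n17522 : Q := act 6 n13591
theorem D17522 : act 6 n13591 = n17522 := rfl
def n17525 : Q := act 5 n13593
theorem D17525 : act 5 n13593 = n17525 := rfl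
theorem F78908 : act 9 n17525 = n13844 := d38_2 (iv F61880) D17525 (iv D13844)
def n17527 : Q := act 4 n13594
theorem D17527 : act 4 n13594 = n17527 := rfl
theorem F78918 : act 5 n17527 = n14058 := d30_2 D13594 D17527 (iv D14058) (iv D10932) (iv F48878)
def n17537 : Q := act 1 n13602
theorem D17537 : act 1 n13602 = n17537 := rfl
theorem F78959 : act 5 n17537 = n13610 := d12_2 (iv F61915) D17537 (iv D13610)
def n17538 : Q := act 6 n13602
theorem D17538 : act 6 n13602 = n17538 := rfl
def n17540 : Q := act 7 n13603
theorem D17540 : act 7 n13603 = n17540 := rfl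
theorem F78967 : act 1 n17540 = n13653 := d14_1 D17540 (iv D13653) (iv F61917)
theorem F78968 : act 3 n17540 = n13605 := d27_1 D17540 (iv D13605) (iv F61918)
def n17541 : Q := act 7 n13604
theorem D17541 : act 7 n13604 = n17541 := rfl
theorem F78970 : act 1 n17541 = n13654 := d14_1 D17541 (iv D13654) (iv F61920)
theorem F78972 : act 5 n17541 = n13605 := d36_1 D17541 (iv D13605) D13604
def n17543 : Q := act 1 n13606
theorem D17543 : act 1 n13606 = n17543 := rfl
theorem F78977 : act 2 n17543 = n13658 := d9_2 D13606 D17543 (iv D13658) (iv D10626) (iv F48908)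
theorem F78978 : act 4 n17543 = n14072 := d11_2 (iv F61927) D17543 (iv D14072)
theorem F78979 : act 7 n17543 = n13610 := d14_2 (iv F61928) D17543 (iv D13610)
theorem F78980 : act 8 n17543 = n13616 := d15_2 (iv F61929) D17543 (iv D13616)
def n17544 : Q := act 6 n13606
theorem D17544 : act 6 n13606 = n17544 := rfl
theorem F78983 : act 4 n17544 = n14073 := d31_1 D17544 (iv D14073) (iv F61927)
def n17545 : Q := act 5 n13607
theorem D17545 : act 5 n13607 = n17545 := rfl
def n17546 : Q := act 7 n13607
theorem D17546 : act 7 n13607 = n17546 := rfl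
theorem F78993 : act 6 n17546 = n13613 := d39_1 D17546 (iv D13613) (iv D10593) (iv F48910) D13607
def n17547 : Q := act 7 n13608
theorem D17547 : act 7 n13608 = n17547 := rfl
theorem F78996 : act 1 n17547 = n13662 := d14_1 D17547 (iv D13662) (iv F61936)
theorem F78997 : act 5 n17547 = n13609 := d36_1 D17547 (iv D13609) D13608
def n17550 : Q := act 6 n13610
theorem D17550 : act 6 n13610 = n17550 := rfl
theorem F79007 : act 4 n17550 = n14076 := d31_1 D17550 (iv D14076) (iv F61944)
def n17552 : Q := act 7 n13611
theorem D17552 : act 7 n13611 = n17552 := rfl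
theorem F79013 : act 4 n17552 = n14078 := d32_1 D17552 (iv D14078) (iv F61948)
def n17553 : Q := act 4 n13612
theorem D17553 : act 4 n13612 = n17553 := rfl
theorem F79018 : act 5 n17553 = n14079 := d30_2 D13612 D17553 (iv D14079) (iv D10948) (iv F48927)
def n17554 : Q := act 7 n13612
theorem D17554 : act 7 n13612 = n17554 := rfl
theorem F79021 : act 3 n17554 = n13614 := d27_1 D17554 (iv D13614) (iv F61952)
def n17556 : Q := act 6 n13614
theorem D17556 : act 6 n13614 = n17556 := rfl
def n17559 : Q := act 0 n13616
theorem D17559 : act 0 n13616 = n17559 := rfl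
theorem F79041 : act 9 n17559 = n13856 := d8_2 (iv F61969) D17559 (iv D13856)
def n17560 : Q := act 6 n13616
theorem D17560 : act 6 n13616 = n17560 := rfl
theorem F79043 : act 2 n17560 = n13675 := d20_1 D17560 (iv D13675) (iv F61966)
theorem F79044 : act 4 n17560 = n14085 := d31_1 D17560 (iv D14085) (iv F61967)
def n17561 : Q := act 5 n13617
theorem D17561 : act 5 n13617 = n17561 := rfl
theorem F79047 : act 9 n17561 = n13858 := d38_2 (iv F61972) D17561 (iv D13858)
def n17564 : Q := act 7 n13618
theorem D17564 : act 7 n13618 = n17564 := rfl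
theorem F79057 : act 3 n17564 = n13620 := d27_1 D17564 (iv D13620) (iv F61974)
theorem F79058 : act 5 n17564 = n13619 := d36_1 D17564 (iv D13619) D13618
def n17566 : Q := act 6 n13620
theorem D17566 : act 6 n13620 = n17566 := rfl
theorem F79064 : act 5 n17566 = n13629 := d35_1 D17566 (iv D13629) F48966 (iv F48949) (iv F61983)
def n17567 : Q := act 8 n13620
theorem D17567 : act 8 n13620 = n17567 := rfl
def n17569 : Q := act 6 n13622
theorem D17569 : act 6 n13622 = n17569 := rfl
theorem F79072 : act 0 n17569 = n13623 := d5_1 D17569 (iv D13623) D13622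
theorem F79074 : act 4 n17569 = n14091 := d31_1 D17569 (iv D14091) (iv F61988)
theorem F79075 : act 9 n17569 = n13866 := d41_2 (iv F61989) D17569 (iv D13866)
def n17570 : Q := act 5 n13623
theorem D17570 : act 5 n13623 = n17570 := rfl
def n17571 : Q := act 7 n13623
theorem D17571 : act 7 n13623 = n17571 := rfl
theorem F79081 : act 4 n17571 = n14093 := d32_1 D17571 (iv D14093) (iv F61992)
def n17572 : Q := act 4 n13624
theorem D17572 : act 4 n13624 = n17572 := rfl
theorem F79084 : act 5 n17572 = n14094 := d30_2 D13624 D17572 (iv D14094) (iv D10959) (iv F48955)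
def n17573 : Q := act 7 n13624
theorem D17573 : act 7 n13624 = n17573 := rfl
def n17575 : Q := act 7 n13626
theorem D17575 : act 7 n13626 = n17575 := rfl
theorem F79092 : act 4 n17575 = n13627 := d32_1 D17575 (iv D13627) D13626
theorem F79093 : act 5 n17575 = n14097 := d36_1 D17575 (iv D14097) (iv F62001)
def n17578 : Q := act 8 n13627
theorem D17578 : act 8 n13627 = n17578 := rfl
theorem F79102 : act 3 n17578 = n13630 := d28_1 D17578 (iv D13630) (iv F62004)
def n17583 : Q := act 7 n13632
theorem D17583 : act 7 n13632 = n17583 := rfl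
theorem F79119 : act 4 n17583 = n13633 := d32_1 D17583 (iv D13633) D13632
theorem F79120 : act 5 n17583 = n14105 := d36_1 D17583 (iv D14105) (iv F62020)
def n17594 : Q := act 5 n13640
theorem D17594 : act 5 n13640 = n17594 := rfl
def n17595 : Q := act 9 n13640
theorem D17595 : act 9 n13640 = n17595 := rfl
theorem F79162 : act 8 n17595 = n13892 := d44_1 D17595 (iv D13892) (iv D10797) (iv F48991) D13640
def n17596 : Q := act 1 n13642
theorem D17596 : act 1 n13642 = n17596 := rfl
theorem F79164 : act 4 n17596 = n13650 := d11_2 (iv F62055) D17596 (iv D13650)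
def n17597 : Q := act 6 n13642
theorem D17597 : act 6 n13642 = n17597 := rfl
theorem F79168 : act 2 n17597 = n13643 := d20_1 D17597 (iv D13643) D13642
def n17598 : Q := act 5 n13643
theorem D17598 : act 5 n13643 = n17598 := rfl
def n17599 : Q := act 7 n13643
theorem D17599 : act 7 n13643 = n17599 := rfl
theorem F79176 : act 0 n17599 = n17599 := d6_1 D17599 (iv D17599) F62058
theorem F79177 : act 3 n17599 = n13645 := d27_1 D17599 (iv D13645) (iv F62059)
theorem F79178 : act 4 n17599 = n13653 := d32_1 D17599 (iv D13653) (iv F62060)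
theorem F79179 : act 9 n17599 = n17599 := d43_2 F62061 D17599 (iv D17599)
def n17600 : Q := act 7 n13644
theorem D17600 : act 7 n13644 = n17600 := rfl
theorem F79180 : act 0 n17600 = n17600 := d6_1 D17600 (iv D17600) F62062
theorem F79181 : act 2 n17600 = n17600 := d21_1 D17600 (iv D17600) F62063
theorem F79182 : act 4 n17600 = n17600 := d32_1 D17600 (iv D17600) F62064
theorem F79183 : act 5 n17600 = n13645 := d36_1 D17600 (iv D13645) D13644
theorem F79184 : act 6 n17600 = n17600 := d39_1 D17600 (iv D17600) F62065 F50533 (iv F62065)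
theorem F79185 : act 9 n17600 = n17600 := d43_2 F62066 D17600 (iv D17600)
def n17602 : Q := act 1 n13646
theorem D17602 : act 1 n13646 = n17602 := rfl
theorem F79191 : act 5 n17602 = n13658 := d12_2 (iv F62073) D17602 (iv D13658)
theorem F79192 : act 7 n17602 = n13650 := d14_2 (iv F62074) D17602 (iv D13650)
def n17603 : Q := act 6 n13646
theorem D17603 : act 6 n13646 = n17603 := rfl
theorem F79195 : act 2 n17603 = n13647 := d20_1 D17603 (iv D13647) D13646
def n17604 : Q := act 5 n13647
theorem D17604 : act 5 n13647 = n17604 := rfl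
theorem F79201 : act 6 n17604 = n13660 := d35_2 D13647 D17604 (iv D13660) (iv D10627) (iv F49012)
def n17605 : Q := act 7 n13647
theorem D17605 : act 7 n13647 = n17605 := rfl
theorem F79203 : act 0 n17605 = n17605 := d6_1 D17605 (iv D17605) F62076
theorem F79204 : act 3 n17605 = n13649 := d27_1 D17605 (iv D13649) (iv F62077)
theorem F79205 : act 6 n17605 = n13653 := d39_1 D17605 (iv D13653) (iv D10621) (iv F49013) D13647
theorem F79206 : act 9 n17605 = n17605 := d43_2 F62078 D17605 (iv D17605)
def n17606 : Q := act 7 n13648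
theorem D17606 : act 7 n13648 = n17606 := rfl
theorem F79207 : act 0 n17606 = n17606 := d6_1 D17606 (iv D17606) F62079
theorem F79209 : act 5 n17606 = n13649 := d36_1 D17606 (iv D13649) D13648
theorem F79210 : act 9 n17606 = n17606 := d43_2 F62082 D17606 (iv D17606)
def n17607 : Q := act 8 n13648
theorem D17607 : act 8 n13648 = n17607 := rfl
theorem F79213 : act 6 n17607 = n13663 := d40_1 D17607 (iv D13663) (iv F62081)
def n17608 : Q := act 0 n13650
theorem D17608 : act 0 n13650 = n17608 := rfl
def n17609 : Q := act 6 n13650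
theorem D17609 : act 6 n13650 = n17609 := rfl
def n17610 : Q := act 5 n13651
theorem D17610 : act 5 n13651 = n17610 := rfl
theorem F79222 : act 2 n17610 = n13652 := d19_1 D17610 (iv D13652) (iv F62092)
theorem F79223 : act 3 n17610 = n13716 := d25_1 D17610 (iv D13716) (iv F62093)
theorem F79224 : act 6 n17610 = n13666 := d35_2 D13651 D17610 (iv D13666) (iv D10631) (iv F49025)
def n17611 : Q := act 7 n13651
theorem D17611 : act 7 n13651 = n17611 := rfl
theorem F79227 : act 2 n17611 = n13653 := d21_1 D17611 (iv D13653) (iv F62092)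
theorem F79228 : act 3 n17611 = n13717 := d27_1 D17611 (iv D13717) (iv F62093)
def n17613 : Q := act 7 n13652
theorem D17613 : act 7 n13652 = n17613 := rfl
theorem F79235 : act 3 n17613 = n13654 := d27_1 D17613 (iv D13654) (iv F62096)
theorem F79236 : act 5 n17613 = n13653 := d36_1 D17613 (iv D13653) D13652
def n17614 : Q := act 8 n13652
theorem D17614 : act 8 n13652 = n17614 := rfl
def n17615 : Q := act 6 n13654
theorem D17615 : act 6 n13654 = n17615 := rfl
theorem F79244 : act 7 n17615 = n13671 := d39_2 D13654 D17615 (iv D13671) (iv D10634) (iv F49033)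
def n17616 : Q := act 8 n13654
theorem D17616 : act 8 n13654 = n17616 := rfl
theorem F79247 : act 2 n17616 = n13722 := d22_1 D17616 (iv D13722) (iv F62103)
theorem F79249 : act 7 n17616 = n13655 := d42_1 D17616 (iv D13655) D13654
def n17617 : Q := act 9 n13655
theorem D17617 : act 9 n13655 = n17617 := rfl
theorem F79251 : act 2 n17617 = n13723 := d23_1 D17617 (iv D13723) (iv F62108)
def n17618 : Q := act 7 n13656
theorem D17618 : act 7 n13656 = n17618 := rfl
theorem F79258 : act 4 n17618 = n13662 := d32_1 D17618 (iv D13662) (iv F62114)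
def n17619 : Q := act 8 n13656
theorem D17619 : act 8 n13656 = n17619 := rfl
theorem F79264 : act 4 n17619 = n13663 := d33_1 D17619 (iv D13663) (iv F62114)
def n17620 : Q := act 0 n13658
theorem D17620 : act 0 n13658 = n17620 := rfl
theorem F79267 : act 3 n17620 = n13728 := d2_2 (iv F62123) D17620 (iv D13728)
theorem F79270 : act 8 n17620 = n13674 := d7_2 (iv F62126) D17620 (iv D13674)
def n17621 : Q := act 6 n13658
theorem D17621 : act 6 n13658 = n17621 := rfl
theorem F79273 : act 3 n17621 = n13729 := d26_1 D17621 (iv D13729) (iv F62123)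
def n17622 : Q := act 5 n13659
theorem D17622 : act 5 n13659 = n17622 := rfl
theorem F79278 : act 2 n17622 = n13660 := d19_1 D17622 (iv D13660) (iv F62129)
theorem F79279 : act 3 n17622 = n13730 := d25_1 D17622 (iv D13730) (iv F62130)
def n17623 : Q := act 7 n13659
theorem D17623 : act 7 n13659 = n17623 := rfl
theorem F79285 : act 4 n17623 = n14131 := d32_1 D17623 (iv D14131) (iv F62131)
theorem F79286 : act 6 n17623 = n13667 := d39_1 D17623 (iv D13667) (iv D10631) (iv F49055) D13659
theorem F79287 : act 8 n17623 = n13677 := d42_2 (iv F62132) D17623 (iv D13677)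
def n17624 : Q := act 7 n13660
theorem D17624 : act 7 n13660 = n17624 := rfl
theorem F79290 : act 3 n17624 = n13662 := d27_1 D17624 (iv D13662) (iv F62135)
theorem F79292 : act 5 n17624 = n13661 := d36_1 D17624 (iv D13661) D13660
def n17625 : Q := act 8 n13660
theorem D17625 : act 8 n13660 = n17625 := rfl
theorem F79297 : act 5 n17625 = n13680 := d37_1 D17625 (iv D13680) (iv D10638) (iv F49061) D13660
def n17626 : Q := act 6 n13662
theorem D17626 : act 6 n13662 = n17626 := rfl
theorem F79300 : act 5 n17626 = n13671 := d35_1 D17626 (iv D13671) F49093 (iv F49069) (iv F62146)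
def n17630 : Q := act 5 n13665
theorem D17630 : act 5 n13665 = n17630 := rfl
def n17631 : Q := act 7 n13665
theorem D17631 : act 7 n13665 = n17631 := rfl
theorem F79321 : act 4 n17631 = n14134 := d32_1 D17631 (iv D14134) (iv F62158)
def n17632 : Q := act 4 n13666
theorem D17632 : act 4 n13666 = n17632 := rfl
theorem F79326 : act 5 n17632 = n14135 := d30_2 D13666 D17632 (iv D14135) (iv D10990) (iv F49079)
def n17633 : Q := act 7 n13666
theorem D17633 : act 7 n13666 = n17633 := rfl
theorem F79330 : act 3 n17633 = n13742 := d27_1 D17633 (iv D13742) (iv F62163)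
theorem F79331 : act 5 n17633 = n13667 := d36_1 D17633 (iv D13667) D13666
def n17634 : Q := act 8 n13666
theorem D17634 : act 8 n13666 = n17634 := rfl
theorem F79335 : act 3 n17634 = n13743 := d28_1 D17634 (iv D13743) (iv F62163)
theorem F79336 : act 5 n17634 = n13689 := d37_1 D17634 (iv D13689) (iv D10644) (iv F49080) D13666
def n17635 : Q := act 7 n13668
theorem D17635 : act 7 n13668 = n17635 := rfl
theorem F79339 : act 4 n17635 = n13669 := d32_1 D17635 (iv D13669) D13668
theorem F79340 : act 5 n17635 = n14138 := d36_1 D17635 (iv D14138) (iv F62173)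
def n17637 : Q := act 6 n13669
theorem D17637 : act 6 n13669 = n17637 := rfl
def n17638 : Q := act 8 n13669
theorem D17638 : act 8 n13669 = n17638 := rfl
theorem F79349 : act 3 n17638 = n13672 := d28_1 D17638 (iv D13672) (iv F62176)
def n17640 : Q := act 8 n13671
theorem D17640 : act 8 n13671 = n17640 := rfl
theorem F79357 : act 2 n17640 = n13749 := d22_1 D17640 (iv D13749) (iv F62183)
theorem F79359 : act 6 n17640 = n13672 := d40_1 D17640 (iv D13672) D13671
def n17641 : Q := act 9 n13672
theorem D17641 : act 9 n13672 = n17641 := rfl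
theorem F79361 : act 2 n17641 = n13750 := d23_1 D17641 (iv D13750) (iv F62187)
def n17642 : Q := act 6 n13674
theorem D17642 : act 6 n13674 = n17642 := rfl
theorem F79368 : act 3 n17642 = n13751 := d26_1 D17642 (iv D13751) (iv F62197)
theorem F79370 : act 9 n17642 = n13893 := d41_2 (iv F62200) D17642 (iv D13893)
def n17643 : Q := act 5 n13675
theorem D17643 : act 5 n13675 = n17643 := rfl
theorem F79372 : act 3 n17643 = n13752 := d25_1 D17643 (iv D13752) (iv F62202)
theorem F79373 : act 9 n17643 = n13894 := d38_2 (iv F62204) D17643 (iv D13894)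
def n17645 : Q := act 4 n13676
theorem D17645 : act 4 n13676 = n17645 := rfl
theorem F79380 : act 2 n17645 = n13678 := d18_1 D17645 (iv D13678) (iv F62206)
theorem F79381 : act 5 n17645 = n14146 := d30_2 D13676 D17645 (iv D14146) (iv D10999) (iv F49106)
theorem F79382 : act 9 n17645 = n13896 := d34_2 (iv F62208) D17645 (iv D13896)
def n17646 : Q := act 7 n13676
theorem D17646 : act 7 n13676 = n17646 := rfl
theorem F79385 : act 3 n17646 = n13755 := d27_1 D17646 (iv D13755) (iv F62207)
theorem F79386 : act 5 n17646 = n13677 := d36_1 D17646 (iv D13677) D13676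
def n17647 : Q := act 8 n13676
theorem D17647 : act 8 n13676 = n17647 := rfl
theorem F79389 : act 2 n17647 = n13680 := d22_1 D17647 (iv D13680) (iv F62206)
theorem F79390 : act 3 n17647 = n13756 := d28_1 D17647 (iv D13756) (iv F62207)
def n17648 : Q := act 7 n13678
theorem D17648 : act 7 n13678 = n17648 := rfl
theorem F79394 : act 5 n17648 = n14148 := d36_1 D17648 (iv D14148) (iv F62217)
def n17649 : Q := act 8 n13678
theorem D17649 : act 8 n13678 = n17649 := rfl
def n17650 : Q := act 6 n13679
theorem D17650 : act 6 n13679 = n17650 := rfl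
theorem F79401 : act 3 n17650 = n13681 := d26_1 D17650 (iv D13681) (iv F62220)
theorem F79402 : act 5 n17650 = n13692 := d35_1 D17650 (iv D13692) F49147 (iv F49114) (iv F62221)
def n17652 : Q := act 9 n13680
theorem D17652 : act 9 n13680 = n17652 := rfl
def n17653 : Q := act 8 n13681
theorem D17653 : act 8 n13681 = n17653 := rfl
def n17655 : Q := act 5 n13684
theorem D17655 : act 5 n13684 = n17655 := rfl
theorem F79419 : act 0 n17655 = n13685 := d4_1 D17655 (iv D13685) (iv F62238)
def n17657 : Q := act 4 n13685
theorem D17657 : act 4 n13685 = n17657 := rfl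
theorem F79430 : act 5 n17657 = n14152 := d30_2 D13685 D17657 (iv D14152) (iv D11005) (iv F49130)
def n17658 : Q := act 7 n13685
theorem D17658 : act 7 n13685 = n17658 := rfl
theorem F79435 : act 9 n17658 = n13909 := d43_2 (iv F62245) D17658 (iv D13909)
def n17659 : Q := act 8 n13685
theorem D17659 : act 8 n13685 = n17659 := rfl
def n17660 : Q := act 7 n13687
theorem D17660 : act 7 n13687 = n17660 := rfl
theorem F79441 : act 4 n17660 = n13688 := d32_1 D17660 (iv D13688) D13687
theorem F79442 : act 5 n17660 = n14155 := d36_1 D17660 (iv D14155) (iv F62253)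
def n17661 : Q := act 8 n13687
theorem D17661 : act 8 n13687 = n17661 := rfl
theorem F79447 : act 4 n17661 = n13689 := d33_1 D17661 (iv D13689) D13687
def n17662 : Q := act 6 n13688
theorem D17662 : act 6 n13688 = n17662 := rfl
theorem F79450 : act 3 n17662 = n13768 := d26_1 D17662 (iv D13768) (iv F62257)
def n17663 : Q := act 8 n13688
theorem D17663 : act 8 n13688 = n17663 := rfl
theorem F79454 : act 3 n17663 = n13769 := d28_1 D17663 (iv D13769) (iv F62257)
def n17664 : Q := act 9 n13689
theorem D17664 : act 9 n13689 = n17664 := rfl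
def n17666 : Q := act 8 n13690
theorem D17666 : act 8 n13690 = n17666 := rfl
theorem F79466 : act 4 n17666 = n13693 := d33_1 D17666 (iv D13693) (iv F62265)
def n17667 : Q := act 5 n13691
theorem D17667 : act 5 n13691 = n17667 := rfl
theorem F79470 : act 8 n17667 = n14162 := d37_2 D13691 D17667 (iv D14162) (iv D11011) (iv F49143)
def n17671 : Q := act 5 n13695
theorem D17671 : act 5 n13695 = n17671 := rfl
def n17675 : Q := act 5 n13698
theorem D17675 : act 5 n13698 = n17675 := rfl
theorem F79502 : act 8 n17675 = n14169 := d37_2 D13698 D17675 (iv D14169) (iv D11018) (iv F49166)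
def n17683 : Q := act 5 n13705
theorem D17683 : act 5 n13705 = n17683 := rfl
theorem F79536 : act 3 n17683 = n13706 := d25_1 D17683 (iv D13706) (iv F62325)
theorem F79537 : act 6 n17683 = n13724 := d35_2 D13705 D17683 (iv D13724) (iv D10672) (iv F49197)
def n17684 : Q := act 7 n13705
theorem D17684 : act 7 n13705 = n17684 := rfl
theorem F79541 : act 3 n17684 = n13707 := d27_1 D17684 (iv D13707) (iv F62325)
def n17686 : Q := act 8 n13706
theorem D17686 : act 8 n13706 = n17686 := rfl
theorem F79551 : act 6 n17686 = n13727 := d40_1 D17686 (iv D13727) (iv F62330)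
def n17687 : Q := act 0 n13708
theorem D17687 : act 0 n13708 = n17687 := rfl
theorem F79554 : act 5 n17687 = n13728 := d4_2 (iv F62337) D17687 (iv D13728)
theorem F79555 : act 7 n17687 = n13714 := d6_2 (iv F62338) D17687 (iv D13714)
def n17689 : Q := act 5 n13709
theorem D17689 : act 5 n13709 = n17689 := rfl
theorem F79562 : act 6 n17689 = n13730 := d35_2 D13709 D17689 (iv D13730) (iv D10676) (iv F49210)
def n17690 : Q := act 7 n13709
theorem D17690 : act 7 n13709 = n17690 := rfl
theorem F79567 : act 6 n17690 = n13717 := d39_1 D17690 (iv D13717) (iv D10667) (iv F49211) D13709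
def n17697 : Q := act 6 n13714
theorem D17697 : act 6 n13714 = n17697 := rfl
def n17699 : Q := act 7 n13715
theorem D17699 : act 7 n13715 = n17699 := rfl
theorem F79596 : act 1 n17699 = n13717 := d14_1 D17699 (iv D13717) (iv F62362)
def n17700 : Q := act 4 n13716
theorem D17700 : act 4 n13716 = n17700 := rfl
theorem F79600 : act 2 n17700 = n13718 := d18_1 D17700 (iv D13718) (iv F62366)
theorem F79602 : act 6 n17700 = n13741 := d31_2 (iv F62367) D17700 (iv D13741)
def n17701 : Q := act 7 n13716
theorem D17701 : act 7 n13716 = n17701 := rfl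
theorem F79605 : act 2 n17701 = n13719 := d21_1 D17701 (iv D13719) (iv F62366)
theorem F79606 : act 5 n17701 = n13717 := d36_1 D17701 (iv D13717) D13716
def n17702 : Q := act 8 n13716
theorem D17702 : act 8 n13716 = n17702 := rfl
theorem F79609 : act 2 n17702 = n13720 := d22_1 D17702 (iv D13720) (iv F62366)
theorem F79610 : act 6 n17702 = n13743 := d40_1 D17702 (iv D13743) (iv F62367)
def n17703 : Q := act 7 n13718
theorem D17703 : act 7 n13718 = n17703 := rfl
theorem F79611 : act 0 n17703 = n17703 := d6_1 D17703 (iv D17703) F62373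
theorem F79612 : act 3 n17703 = n17703 := d27_1 D17703 (iv D17703) F62374
theorem F79613 : act 4 n17703 = n13719 := d32_1 D17703 (iv D13719) D13718
theorem F79614 : act 5 n17703 = n17703 := d36_1 D17703 (iv D17703) F62375
theorem F79615 : act 9 n17703 = n17703 := d43_2 F62377 D17703 (iv D17703)
def n17704 : Q := act 8 n13718
theorem D17704 : act 8 n13718 = n17704 := rfl
theorem F79618 : act 4 n17704 = n13720 := d33_1 D17704 (iv D13720) D13718
def n17705 : Q := act 6 n13719
theorem D17705 : act 6 n13719 = n17705 := rfl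
theorem F79622 : act 7 n17705 = n13746 := d39_2 D13719 D17705 (iv D13746) (iv D10686) (iv F49233)
def n17706 : Q := act 8 n13719
theorem D17706 : act 8 n13719 = n17706 := rfl
theorem F79624 : act 0 n17706 = n17706 := d7_1 D17706 (iv D17706) F62378
theorem F79625 : act 3 n17706 = n13722 := d28_1 D17706 (iv D13722) (iv F62379)
theorem F79626 : act 7 n17706 = n13720 := d42_1 D17706 (iv D13720) D13719
def n17707 : Q := act 9 n13720
theorem D17707 : act 9 n13720 = n17707 := rfl
theorem F79628 : act 3 n17707 = n13723 := d29_1 D17707 (iv D13723) (iv F62383)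
def n17708 : Q := act 8 n13721
theorem D17708 : act 8 n13721 = n17708 := rfl
theorem F79633 : act 6 n17708 = n13722 := d40_1 D17708 (iv D13722) D13721
theorem F79634 : act 7 n17708 = n13749 := d42_1 D17708 (iv D13749) (iv F62387)
def n17709 : Q := act 9 n13722
theorem D17709 : act 9 n13722 = n17709 := rfl
theorem F79635 : act 0 n17709 = n17709 := d8_1 D17709 (iv D17709) F62389
theorem F79636 : act 4 n17709 = n17709 := d34_1 D17709 (iv D17709) F62390
theorem F79637 : act 7 n17709 = n13723 := d43_1 D17709 (iv D13723) (iv F62391)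
theorem F79638 : act 8 n17709 = n17709 := d44_1 D17709 (iv D17709) (iv D13722) F49242 D13722
def n17710 : Q := act 4 n13724
theorem D17710 : act 4 n13724 = n17710 := rfl
theorem F79641 : act 3 n17710 = n13732 := d24_1 D17710 (iv D13732) F49270 (iv F49253) (iv F62398)
theorem F79642 : act 5 n17710 = n13777 := d30_2 D13724 D17710 (iv D13777) (iv D10713) (iv F49249)
def n17711 : Q := act 7 n13724
theorem D17711 : act 7 n13724 = n17711 := rfl
theorem F79646 : act 3 n17711 = n13726 := d27_1 D17711 (iv D13726) (iv F62398)
def n17714 : Q := act 8 n13726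
theorem D17714 : act 8 n13726 = n17714 := rfl
theorem F79658 : act 4 n17714 = n13736 := d33_1 D17714 (iv D13736) (iv F62408)
def n17716 : Q := act 6 n13728
theorem D17716 : act 6 n13728 = n17716 := rfl
theorem F79667 : act 4 n17716 = n13783 := d31_1 D17716 (iv D13783) (iv F62415)
def n17717 : Q := act 5 n13729
theorem D17717 : act 5 n13729 = n17717 := rfl
def n17718 : Q := act 7 n13729
theorem D17718 : act 7 n13729 = n17718 := rfl
theorem F79673 : act 4 n17718 = n13785 := d32_1 D17718 (iv D13785) (iv F62420)
theorem F79674 : act 6 n17718 = n13740 := d39_1 D17718 (iv D13740) (iv D10682) (iv F49261) D13729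
def n17719 : Q := act 4 n13730
theorem D17719 : act 4 n13730 = n17719 := rfl
theorem F79680 : act 5 n17719 = n13786 := d30_2 D13730 D17719 (iv D13786) (iv D10719) (iv F49266)
def n17721 : Q := act 8 n13730
theorem D17721 : act 8 n13730 = n17721 := rfl
def n17722 : Q := act 7 n13732
theorem D17722 : act 7 n13732 = n17722 := rfl
theorem F79690 : act 4 n17722 = n13733 := d32_1 D17722 (iv D13733) D13732
theorem F79691 : act 5 n17722 = n13789 := d36_1 D17722 (iv D13789) (iv F62433)
def n17724 : Q := act 6 n13733
theorem D17724 : act 6 n13733 = n17724 := rfl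
theorem F79697 : act 5 n17724 = n13746 := d35_1 D17724 (iv D13746) F49305 (iv F49275) (iv F62437)
def n17725 : Q := act 8 n13733
theorem D17725 : act 8 n13733 = n17725 := rfl
theorem F79700 : act 3 n17725 = n13736 := d28_1 D17725 (iv D13736) (iv F62436)
theorem F79701 : act 5 n17725 = n13760 := d37_1 D17725 (iv D13760) F49342 (iv F49276) (iv F62437)
def n17731 : Q := act 4 n13739
theorem D17731 : act 4 n13739 = n17731 := rfl
theorem F79721 : act 1 n17731 = n13741 := d11_1 D17731 (iv D13741) (iv F62456)
theorem F79722 : act 5 n17731 = n13798 := d30_2 D13739 D17731 (iv D13798) (iv D10728) (iv F49288)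
def n17732 : Q := act 7 n13739
theorem D17732 : act 7 n13739 = n17732 := rfl
theorem F79725 : act 5 n17732 = n13740 := d36_1 D17732 (iv D13740) D13739
def n17734 : Q := act 3 n13741
theorem D17734 : act 3 n13741 = n17734 := rfl
def n17735 : Q := act 7 n13741
theorem D17735 : act 7 n13741 = n17735 := rfl
theorem F79734 : act 2 n17735 = n13744 := d21_1 D17735 (iv D13744) (iv F62463)
theorem F79735 : act 4 n17735 = n13742 := d32_1 D17735 (iv D13742) D13741
def n17736 : Q := act 8 n13741
theorem D17736 : act 8 n13741 = n17736 := rfl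
theorem F79740 : act 4 n17736 = n13743 := d33_1 D17736 (iv D13743) D13741
def n17738 : Q := act 8 n13742
theorem D17738 : act 8 n13742 = n17738 := rfl
theorem F79747 : act 5 n17738 = n13769 := d37_1 D17738 (iv D13769) F49369 (iv F49297) (iv F62468)
def n17739 : Q := act 9 n13743
theorem D17739 : act 9 n13743 = n17739 := rfl
def n17740 : Q := act 6 n13744
theorem D17740 : act 6 n13744 = n17740 := rfl
theorem F79755 : act 4 n17740 = n13746 := d31_1 D17740 (iv D13746) (iv F62475)
def n17741 : Q := act 8 n13744
theorem D17741 : act 8 n13744 = n17741 := rfl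
theorem F79759 : act 4 n17741 = n13747 := d33_1 D17741 (iv D13747) (iv F62475)
def n17743 : Q := act 8 n13746
theorem D17743 : act 8 n13746 = n17743 := rfl
theorem F79769 : act 6 n17743 = n13747 := d40_1 D17743 (iv D13747) D13746
def n17744 : Q := act 9 n13747
theorem D17744 : act 9 n13747 = n17744 := rfl
def n17745 : Q := act 5 n13749
theorem D17745 : act 5 n13749 = n17745 := rfl
def n17746 : Q := act 9 n13749
theorem D17746 : act 9 n13749 = n17746 := rfl
def n17747 : Q := act 5 n13751
theorem D17747 : act 5 n13751 = n17747 := rfl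
theorem F79783 : act 9 n17747 = n13934 := d38_2 (iv F62504) D17747 (iv D13934)
def n17749 : Q := act 4 n13752
theorem D17749 : act 4 n13752 = n17749 := rfl
theorem F79790 : act 5 n17749 = n13806 := d30_2 D13752 D17749 (iv D13806) (iv D10735) (iv F49326)
theorem F79791 : act 9 n17749 = n13936 := d34_2 (iv F62506) D17749 (iv D13936)
def n17750 : Q := act 7 n13752
theorem D17750 : act 7 n13752 = n17750 := rfl
theorem F79793 : act 5 n17750 = n13753 := d36_1 D17750 (iv D13753) D13752
def n17751 : Q := act 8 n13752
theorem D17751 : act 8 n13752 = n17751 := rfl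
def n17752 : Q := act 3 n13754
theorem D17752 : act 3 n13754 = n17752 := rfl
theorem F79798 : act 5 n17752 = n13809 := d25_2 (iv F62513) D17752 (iv D13809)
theorem F79799 : act 9 n17752 = n13939 := d29_2 (iv F62514) D17752 (iv D13939)
def n17753 : Q := act 7 n13754
theorem D17753 : act 7 n13754 = n17753 := rfl
theorem F79802 : act 4 n17753 = n13755 := d32_1 D17753 (iv D13755) D13754
theorem F79803 : act 5 n17753 = n13810 := d36_1 D17753 (iv D13810) (iv F62513)
def n17754 : Q := act 8 n13754
theorem D17754 : act 8 n13754 = n17754 := rfl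
theorem F79807 : act 4 n17754 = n13756 := d33_1 D17754 (iv D13756) D13754
def n17755 : Q := act 6 n13755
theorem D17755 : act 6 n13755 = n17755 := rfl
def n17756 : Q := act 8 n13755
theorem D17756 : act 8 n13755 = n17756 := rfl
def n17758 : Q := act 6 n13757
theorem D17758 : act 6 n13757 = n17758 := rfl
theorem F79820 : act 4 n17758 = n13759 := d31_1 D17758 (iv D13759) (iv F62523)
def n17759 : Q := act 8 n13757
theorem D17759 : act 8 n13757 = n17759 := rfl
theorem F79825 : act 4 n17759 = n13760 := d33_1 D17759 (iv D13760) (iv F62523)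
def n17760 : Q := act 5 n13758
theorem D17760 : act 5 n13758 = n17760 := rfl
theorem F79829 : act 8 n17760 = n13815 := d37_2 D13758 D17760 (iv D13815) (iv D10741) (iv F49338)
def n17762 : Q := act 8 n13759
theorem D17762 : act 8 n13759 = n17762 := rfl
theorem F79836 : act 6 n17762 = n13760 := d40_1 D17762 (iv D13760) D13759
def n17764 : Q := act 5 n13762
theorem D17764 : act 5 n13762 = n17764 := rfl
def n17768 : Q := act 6 n13766
theorem D17768 : act 6 n13766 = n17768 := rfl
def n17769 : Q := act 8 n13766
theorem D17769 : act 8 n13766 = n17769 := rfl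
theorem F79860 : act 7 n17769 = n13767 := d42_1 D17769 (iv D13767) D13766
def n17770 : Q := act 9 n13767
theorem D17770 : act 9 n13767 = n17770 := rfl
def n17771 : Q := act 8 n13768
theorem D17771 : act 8 n13768 = n17771 := rfl
theorem F79867 : act 6 n17771 = n13769 := d40_1 D17771 (iv D13769) D13768
def n17773 : Q := act 5 n13771
theorem D17773 : act 5 n13771 = n17773 := rfl
def n17774 : Q := act 9 n13771
theorem D17774 : act 9 n13771 = n17774 := rfl
def n17775 : Q := act 4 n13773
theorem D17775 : act 4 n13773 = n17775 := rfl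
def n17780 : Q := act 7 n13777
theorem D17780 : act 7 n13777 = n17780 := rfl
theorem F79898 : act 3 n17780 = n13789 := d27_1 D17780 (iv D13789) (iv F62595)
def n17781 : Q := act 8 n13777
theorem D17781 : act 8 n13777 = n17781 := rfl
theorem F79903 : act 3 n17781 = n13790 := d28_1 D17781 (iv D13790) (iv F62595)
def n17784 : Q := act 9 n13779
theorem D17784 : act 9 n13779 = n17784 := rfl
theorem F79919 : act 3 n17784 = n13782 := d29_1 D17784 (iv D13782) (iv F62605)
def n17786 : Q := act 9 n13781
theorem D17786 : act 9 n13781 = n17786 := rfl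
theorem F79932 : act 7 n17786 = n13782 := d43_1 D17786 (iv D13782) (iv F62618)
def n17787 : Q := act 5 n13783
theorem D17787 : act 5 n13783 = n17787 := rfl
def n17789 : Q := act 4 n13784
theorem D17789 : act 4 n13784 = n17789 := rfl
def n17790 : Q := act 7 n13784
theorem D17790 : act 7 n13784 = n17790 := rfl
theorem F79951 : act 5 n17790 = n13785 := d36_1 D17790 (iv D13785) D13784
def n17791 : Q := act 8 n13784
theorem D17791 : act 8 n13784 = n17791 := rfl
theorem F79955 : act 5 n17791 = n13808 := d37_1 D17791 (iv D13808) (iv D10735) (iv F49430) D13784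
def n17793 : Q := act 8 n13786
theorem D17793 : act 8 n13786 = n17793 := rfl
theorem F79965 : act 4 n17793 = n13788 := d33_1 D17793 (iv D13788) D13786
def n17794 : Q := act 6 n13787
theorem D17794 : act 6 n13787 = n17794 := rfl
theorem F79970 : act 5 n17794 = n13802 := d35_1 D17794 (iv D13802) F49490 (iv F49440) (iv F62647)
def n17795 : Q := act 8 n13787
theorem D17795 : act 8 n13787 = n17795 := rfl
theorem F79977 : act 7 n17795 = n13788 := d42_1 D17795 (iv D13788) D13787
def n17796 : Q := act 9 n13788
theorem D17796 : act 9 n13788 = n17796 := rfl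
theorem F79981 : act 5 n17796 = n13813 := d38_1 D17796 (iv D13813) (iv F62652)
def n17797 : Q := act 6 n13789
theorem D17797 : act 6 n13789 = n17797 := rfl
theorem F79985 : act 4 n17797 = n13791 := d31_1 D17797 (iv D13791) (iv F62655)
def n17798 : Q := act 8 n13789
theorem D17798 : act 8 n13789 = n17798 := rfl
theorem F79989 : act 4 n17798 = n13792 := d33_1 D17798 (iv D13792) (iv F62655)
theorem F79990 : act 7 n17798 = n13790 := d42_1 D17798 (iv D13790) D13789
def n17800 : Q := act 9 n13790
theorem D17800 : act 9 n13790 = n17800 := rfl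
theorem F79994 : act 4 n17800 = n13793 := d34_1 D17800 (iv D13793) (iv F62658)
def n17801 : Q := act 8 n13791
theorem D17801 : act 8 n13791 = n17801 := rfl
theorem F80000 : act 6 n17801 = n13792 := d40_1 D17801 (iv D13792) D13791
def n17802 : Q := act 9 n13792
theorem D17802 : act 9 n13792 = n17802 := rfl
theorem F80005 : act 7 n17802 = n13793 := d43_1 D17802 (iv D13793) (iv F62668)
def n17803 : Q := act 9 n13794
theorem D17803 : act 9 n13794 = n17803 := rfl
theorem F80010 : act 6 n17803 = n13795 := d41_1 D17803 (iv D13795) (iv F62677)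
def n17806 : Q := act 3 n13798
theorem D17806 : act 3 n13798 = n17806 := rfl
def n17807 : Q := act 7 n13798
theorem D17807 : act 7 n13798 = n17807 := rfl
theorem F80030 : act 4 n17807 = n13799 := d32_1 D17807 (iv D13799) D13798
def n17808 : Q := act 6 n13799
theorem D17808 : act 6 n13799 = n17808 := rfl
def n17811 : Q := act 5 n13803
theorem D17811 : act 5 n13803 = n17811 := rfl
def n17812 : Q := act 4 n13804
theorem D17812 : act 4 n13804 = n17812 := rfl
theorem F80057 : act 9 n17812 = n13967 := d34_2 (iv F62731) D17812 (iv D13967)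
def n17814 : Q := act 8 n13804
theorem D17814 : act 8 n13804 = n17814 := rfl
theorem F80067 : act 6 n17814 = n13819 := d40_1 D17814 (iv D13819) (iv F62730)
def n17815 : Q := act 3 n13806
theorem D17815 : act 3 n13806 = n17815 := rfl
theorem F80070 : act 6 n17815 = n13820 := d26_2 (iv F62738) D17815 (iv D13820)
theorem F80071 : act 9 n17815 = n13970 := d29_2 (iv F62739) D17815 (iv D13970)
def n17816 : Q := act 7 n13806
theorem D17816 : act 7 n13806 = n17816 := rfl
def n17817 : Q := act 8 n13806
theorem D17817 : act 8 n13806 = n17817 := rfl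
theorem F80078 : act 6 n17817 = n13821 := d40_1 D17817 (iv D13821) (iv F62738)
def n17818 : Q := act 8 n13807
theorem D17818 : act 8 n13807 = n17818 := rfl
theorem F80082 : act 7 n17818 = n13808 := d42_1 D17818 (iv D13808) D13807
def n17819 : Q := act 9 n13808
theorem D17819 : act 9 n13808 = n17819 := rfl
theorem F80085 : act 6 n17819 = n13822 := d41_1 D17819 (iv D13822) (iv F62747)
def n17820 : Q := act 7 n13809
theorem D17820 : act 7 n13809 = n17820 := rfl
def n17821 : Q := act 8 n13809
theorem D17821 : act 8 n13809 = n17821 := rfl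
theorem F80097 : act 6 n17821 = n13823 := d40_1 D17821 (iv D13823) (iv F62751)
def n17822 : Q := act 8 n13810
theorem D17822 : act 8 n13810 = n17822 := rfl
theorem F80102 : act 7 n17822 = n13811 := d42_1 D17822 (iv D13811) D13810
def n17823 : Q := act 5 n13811
theorem D17823 : act 5 n13811 = n17823 := rfl
def n17824 : Q := act 9 n13811
theorem D17824 : act 9 n13811 = n17824 := rfl
theorem F80108 : act 6 n17824 = n13825 := d41_1 D17824 (iv D13825) (iv F62761)
def n17825 : Q := act 9 n13812
theorem D17825 : act 9 n13812 = n17825 := rfl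
theorem F80114 : act 7 n17825 = n13813 := d43_1 D17825 (iv D13813) (iv F62766)
def n17826 : Q := act 5 n13814
theorem D17826 : act 5 n13814 = n17826 := rfl
theorem F80118 : act 7 n17826 = n13815 := d36_2 (iv F62776) D17826 (iv D13815)
def n17827 : Q := act 9 n13814
theorem D17827 : act 9 n13814 = n17827 := rfl
theorem F80123 : act 7 n17827 = n13816 := d43_1 D17827 (iv D13816) (iv F62776)
def n17829 : Q := act 9 n13815
theorem D17829 : act 9 n13815 = n17829 := rfl
theorem F80130 : act 5 n17829 = n13816 := d38_1 D17829 (iv D13816) D13815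
def n17832 : Q := act 9 n13819
theorem D17832 : act 9 n13819 = n17832 := rfl
theorem F80142 : act 3 n17832 = n14250 := d29_1 D17832 (iv D14250) (iv F62795)
def n17834 : Q := act 8 n13820
theorem D17834 : act 8 n13820 = n17834 := rfl
theorem F80151 : act 3 n17834 = n13821 := d28_1 D17834 (iv D13821) D13820
theorem F80152 : act 4 n17834 = n14252 := d33_1 D17834 (iv D14252) (iv F62799)
def n17836 : Q := act 9 n13821
theorem D17836 : act 9 n13821 = n17836 := rfl
def n17838 : Q := act 9 n13823
theorem D17838 : act 9 n13823 = n17838 := rfl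
theorem F80167 : act 3 n17838 = n13825 := d29_1 D17838 (iv D13825) (iv F62812)
theorem F80168 : act 4 n17838 = n14256 := d34_1 D17838 (iv D14256) (iv F62813)
def n17843 : Q := act 7 n13829
theorem D17843 : act 7 n13829 = n17843 := rfl
theorem F80192 : act 6 n17843 = n13837 := d39_1 D17843 (iv D13837) (iv D10759) (iv F49595) D13829
def n17845 : Q := act 6 n13832
theorem D17845 : act 6 n13832 = n17845 := rfl
theorem F80201 : act 5 n17845 = n13841 := d35_1 D17845 (iv D13841) F49628 (iv F49608) (iv F62853)
def n17848 : Q := act 6 n13834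
theorem D17848 : act 6 n13834 = n17848 := rfl
theorem F80212 : act 1 n17848 = n13866 := d13_1 D17848 (iv D13866) (iv F62858)
theorem F80214 : act 4 n17848 = n14268 := d31_1 D17848 (iv D14268) (iv F62860)
def n17849 : Q := act 5 n13835
theorem D17849 : act 5 n13835 = n17849 := rfl
def n17850 : Q := act 7 n13835
theorem D17850 : act 7 n13835 = n17850 := rfl
theorem F80220 : act 4 n17850 = n14270 := d32_1 D17850 (iv D14270) (iv F62864)
def n17851 : Q := act 4 n13836
theorem D17851 : act 4 n13836 = n17851 := rfl
theorem F80224 : act 5 n17851 = n14271 := d30_2 D13836 D17851 (iv D14271) (iv D11115) (iv F49615)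
def n17852 : Q := act 7 n13836
theorem D17852 : act 7 n13836 = n17852 := rfl
theorem F80227 : act 5 n17852 = n13837 := d36_1 D17852 (iv D13837) D13836
def n17853 : Q := act 8 n13836
theorem D17853 : act 8 n13836 = n17853 := rfl
def n17854 : Q := act 7 n13838
theorem D17854 : act 7 n13838 = n17854 := rfl
theorem F80234 : act 4 n17854 = n13839 := d32_1 D17854 (iv D13839) D13838
theorem F80235 : act 5 n17854 = n14274 := d36_1 D17854 (iv D14274) (iv F62875)
def n17855 : Q := act 8 n13838
theorem D17855 : act 8 n13838 = n17855 := rfl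
theorem F80238 : act 3 n17855 = n13850 := d28_1 D17855 (iv D13850) (iv F62874)
theorem F80239 : act 4 n17855 = n13840 := d33_1 D17855 (iv D13840) D13838
def n17861 : Q := act 4 n13844
theorem D17861 : act 4 n13844 = n17861 := rfl
theorem F80264 : act 3 n17861 = n13941 := d24_1 D17861 F63238 (iv F63074) F74929 F74927
theorem F80265 : act 5 n17861 = n14281 := d30_2 D13844 D17861 (iv D14281) (iv D11123) (iv F49636)
theorem F80266 : act 8 n13939 = n17861 := d28_0 F80264 (iv D13941) D13939
def n17862 : Q := act 7 n13844
theorem D17862 : act 7 n13844 = n17862 := rfl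
def n17863 : Q := act 8 n13844
theorem D17863 : act 8 n13844 = n17863 := rfl
theorem F80274 : act 3 n17863 = n13896 := d28_1 D17863 (iv F74928) F74927
theorem F80275 : act 4 n17863 = n13939 := d33_1 D17863 F80266 (iv D17861)
def n17864 : Q := act 3 n13846
theorem D17864 : act 3 n13846 = n17864 := rfl
theorem F80279 : act 4 n17864 = n13938 := d24_2 D13846 D17864 F74940 (iv D16553) F58860
theorem F80280 : act 5 n17864 = n14284 := d25_2 (iv F62907) D17864 (iv D14284)
theorem F80281 : act 8 n13936 = n17864 := d33_0 F80279 (iv D13938) D13936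
def n17865 : Q := act 7 n13846
theorem D17865 : act 7 n13846 = n17865 := rfl
theorem F80284 : act 4 n17865 = n13847 := d32_1 D17865 (iv D13847) D13846
theorem F80285 : act 5 n17865 = n14285 := d36_1 D17865 (iv D14285) (iv F62907)
def n17866 : Q := act 8 n13846
theorem D17866 : act 8 n13846 = n17866 := rfl
theorem F80288 : act 2 n17866 = n13850 := d22_1 D17866 (iv D13850) (iv F62906)
theorem F80289 : act 3 n17866 = n13936 := d28_1 D17866 F80281 (iv D17864)
theorem F80290 : act 4 n17866 = n13848 := d33_1 D17866 (iv D13848) D13846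
theorem F80291 : act 5 n13970 = n17866 := d30_0 F80290 F62913 (iv F63462) F65971 (iv F63343)
def n17868 : Q := act 8 n13847
theorem D17868 : act 8 n13847 = n17868 := rfl
theorem F80298 : act 7 n17868 = n13848 := d42_1 D17868 (iv D13848) D13847
def n17869 : Q := act 9 n13848
theorem D17869 : act 9 n13848 = n17869 := rfl
def n17872 : Q := act 5 n13850
theorem D17872 : act 5 n13850 = n17872 := rfl
theorem F80311 : act 2 n17872 = n13970 := d19_1 D17872 F80291 F80288
theorem F80312 : act 4 n17872 = n14002 := d30_1 D17872 (iv D14002) F50079 (iv F49655) (iv F62920)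
theorem F80313 : act 8 n17872 = n14292 := d37_2 D13850 D17872 (iv D14292) (iv D11129) (iv F49647)
theorem F80314 : act 6 n13987 = n17872 := d31_0 F80312 F65976 (iv F63418)
def n17873 : Q := act 9 n13850
theorem D17873 : act 9 n13850 = n17873 := rfl
theorem F80317 : act 4 n17873 = n13853 := d34_1 D17873 (iv D13853) (iv F62920)
def n17878 : Q := act 7 n13857
theorem D17878 : act 7 n13857 = n17878 := rfl
theorem F80336 : act 4 n17878 = n14300 := d32_1 D17878 (iv D14300) (iv F62947)
theorem F80337 : act 6 n17878 = n13868 := d39_1 D17878 (iv D13868) (iv D10780) (iv F49668) D13857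
def n17879 : Q := act 7 n13858
theorem D17879 : act 7 n13858 = n17879 := rfl
theorem F80340 : act 5 n17879 = n13859 := d36_1 D17879 (iv D13859) D13858
def n17880 : Q := act 7 n13860
theorem D17880 : act 7 n13860 = n17880 := rfl
theorem F80344 : act 5 n17880 = n14304 := d36_1 D17880 (iv D14304) (iv F62956)
def n17884 : Q := act 8 n13863
theorem D17884 : act 8 n13863 = n17884 := rfl
def n17886 : Q := act 5 n13866
theorem D17886 : act 5 n13866 = n17886 := rfl
theorem F80363 : act 2 n17886 = n13906 := d19_1 D17886 (iv D13906) (iv F62974)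
def n17887 : Q := act 7 n13866
theorem D17887 : act 7 n13866 = n17887 := rfl
theorem F80364 : act 0 n17887 = n13868 := d6_1 D17887 (iv D13868) (iv F62973)
theorem F80366 : act 4 n17887 = n14310 := d32_1 D17887 (iv D14310) (iv F62975)
def n17888 : Q := act 4 n13867
theorem D17888 : act 4 n13867 = n17888 := rfl
theorem F80370 : act 5 n17888 = n14311 := d30_2 D13867 D17888 (iv D14311) (iv D11145) (iv F49691)
def n17889 : Q := act 7 n13867
theorem D17889 : act 7 n13867 = n17889 := rfl
theorem F80373 : act 5 n17889 = n13868 := d36_1 D17889 (iv D13868) D13867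
def n17890 : Q := act 8 n13867
theorem D17890 : act 8 n13867 = n17890 := rfl
def n17891 : Q := act 3 n13869
theorem D17891 : act 3 n13869 = n17891 := rfl
theorem F80378 : act 5 n17891 = n14314 := d25_2 (iv F62984) D17891 (iv D14314)
def n17892 : Q := act 7 n13869
theorem D17892 : act 7 n13869 = n17892 := rfl
theorem F80380 : act 4 n17892 = n13870 := d32_1 D17892 (iv D13870) D13869
theorem F80381 : act 5 n17892 = n14315 := d36_1 D17892 (iv D14315) (iv F62984)
def n17893 : Q := act 8 n13869
theorem D17893 : act 8 n13869 = n17893 := rfl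
theorem F80383 : act 4 n17893 = n13871 := d33_1 D17893 (iv D13871) D13869
def n17894 : Q := act 6 n13870
theorem D17894 : act 6 n13870 = n17894 := rfl
def n17895 : Q := act 8 n13870
theorem D17895 : act 8 n13870 = n17895 := rfl
def n17898 : Q := act 8 n13872
theorem D17898 : act 8 n13872 = n17898 := rfl
theorem F80395 : act 4 n17898 = n13875 := d33_1 D17898 (iv D13875) (iv F62991)
def n17903 : Q := act 5 n13877
theorem D17903 : act 5 n13877 = n17903 := rfl
def n17905 : Q := act 7 n13879
theorem D17905 : act 7 n13879 = n17905 := rfl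
theorem F80418 : act 5 n17905 = n14328 := d36_1 D17905 (iv D14328) (iv F63013)
def n17906 : Q := act 8 n13879
theorem D17906 : act 8 n13879 = n17906 := rfl
theorem F80422 : act 4 n17906 = n13934 := d33_1 D17906 F75066 F75064
theorem F80423 : act 5 n13967 = n17906 := d30_0 F80422 (iv D13934) F49864 D10856 D13967
def n17908 : Q := act 8 n13880
theorem D17908 : act 8 n13880 = n17908 := rfl
theorem F80429 : act 4 n17908 = n13883 := d33_1 D17908 (iv D13883) (iv F63016)
def n17909 : Q := act 5 n13881
theorem D17909 : act 5 n13881 = n17909 := rfl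
theorem F80435 : act 4 n17909 = n14012 := d30_1 D17909 (iv D14012) F50118 (iv F49723) (iv F63020)
theorem F80436 : act 8 n17909 = n14332 := d37_2 D13881 D17909 (iv D14332) (iv D11159) (iv F49717)
theorem F80437 : act 6 n13984 = n17909 := d31_0 F80435 F65974 (iv F63405)
def n17911 : Q := act 8 n13882
theorem D17911 : act 8 n13882 = n17911 := rfl
theorem F80443 : act 6 n17911 = n13883 := d40_1 D17911 (iv D13883) D13882
def n17915 : Q := act 5 n13886
theorem D17915 : act 5 n13886 = n17915 := rfl
theorem F80460 : act 8 n17915 = n14338 := d37_2 D13886 D17915 (iv D14338) (iv D11164) (iv F49726)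
def n17916 : Q := act 9 n13886
theorem D17916 : act 9 n13886 = n17916 := rfl
theorem F80462 : act 4 n17916 = n13890 := d34_1 D17916 (iv D13890) (iv F63034)
def n17922 : Q := act 9 n13891
theorem D17922 : act 9 n13891 = n17922 := rfl
theorem F80486 : act 5 n17922 = n13892 := d38_1 D17922 (iv D13892) D13891
def n17923 : Q := act 7 n13893
theorem D17923 : act 7 n13893 = n17923 := rfl
theorem F80490 : act 3 n17923 = n13935 := d27_1 D17923 (iv D13935) (iv F63055)
theorem F80492 : act 6 n17923 = n13907 := d39_1 D17923 (iv D13907) (iv D10809) (iv F49747) D13893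
def n17924 : Q := act 7 n13894
theorem D17924 : act 7 n13894 = n17924 := rfl
theorem F80495 : act 3 n17924 = n13937 := d27_1 D17924 (iv D13937) (iv F63059)
def n17925 : Q := act 7 n13896
theorem D17925 : act 7 n13896 = n17925 := rfl
theorem F80499 : act 4 n17925 = n13897 := d32_1 D17925 (iv D13897) D13896
theorem F80500 : act 5 n17925 = n14352 := d36_1 D17925 (iv D14352) (iv F63067)
def n17926 : Q := act 6 n13897
theorem D17926 : act 6 n13897 = n17926 := rfl
theorem F80504 : act 5 n17926 = n13913 := d35_1 D17926 (iv D13913) F49802 (iv F49760) (iv F63071)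
def n17927 : Q := act 8 n13897
theorem D17927 : act 8 n13897 = n17927 := rfl
theorem F80507 : act 3 n17927 = n13943 := d28_1 D17927 (iv D13943) (iv F63070)
def n17928 : Q := act 9 n13898
theorem D17928 : act 9 n13898 = n17928 := rfl
theorem F80511 : act 2 n17928 = n13903 := d23_1 D17928 (iv D13903) (iv F63073)
theorem F80512 : act 3 n17928 = n13944 := d29_1 D17928 (iv D13944) (iv F63074)
def n17929 : Q := act 6 n13899
theorem D17929 : act 6 n13899 = n17929 := rfl
theorem F80516 : act 4 n17929 = n13901 := d31_1 D17929 (iv D13901) (iv F63078)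
def n17930 : Q := act 8 n13899
theorem D17930 : act 8 n13899 = n17930 := rfl
theorem F80520 : act 7 n17930 = n13900 := d42_1 D17930 (iv D13900) D13899
def n17931 : Q := act 9 n13900
theorem D17931 : act 9 n13900 = n17931 := rfl
def n17932 : Q := act 8 n13901
theorem D17932 : act 8 n13901 = n17932 := rfl
theorem F80525 : act 3 n17932 = n13904 := d28_1 D17932 (iv D13904) (iv F63084)
def n17934 : Q := act 5 n13904
theorem D17934 : act 5 n13904 = n17934 := rfl
theorem F80534 : act 8 n17934 = n13922 := d37_2 D13904 D17934 (iv D13922) (iv D10820) (iv F49774)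
def n17936 : Q := act 4 n13906
theorem D17936 : act 4 n13906 = n17936 := rfl
theorem F80539 : act 0 n17936 = n13908 := d3_1 D17936 (iv D13908) (iv F63102)
theorem F80542 : act 5 n17936 = n14361 := d30_2 D13906 D17936 (iv D14361) (iv D11182) (iv F49787)
def n17937 : Q := act 7 n13906
theorem D17937 : act 7 n13906 = n17937 := rfl
theorem F80546 : act 5 n17937 = n13907 := d36_1 D17937 (iv D13907) D13906
def n17938 : Q := act 8 n13906
theorem D17938 : act 8 n13906 = n17938 := rfl
theorem F80549 : act 3 n17938 = n13954 := d28_1 D17938 (iv D13954) (iv F63104)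
def n17939 : Q := act 7 n13908
theorem D17939 : act 7 n13908 = n17939 := rfl
theorem F80553 : act 4 n17939 = n13909 := d32_1 D17939 (iv D13909) D13908
theorem F80554 : act 5 n17939 = n14364 := d36_1 D17939 (iv D14364) (iv F63112)
def n17940 : Q := act 8 n13908
theorem D17940 : act 8 n13908 = n17940 := rfl
theorem F80557 : act 4 n17940 = n13910 := d33_1 D17940 (iv D13910) D13908
def n17941 : Q := act 6 n13909
theorem D17941 : act 6 n13909 = n17941 := rfl
def n17942 : Q := act 8 n13909
theorem D17942 : act 8 n13909 = n17942 := rfl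
def n17945 : Q := act 8 n13911
theorem D17945 : act 8 n13911 = n17945 := rfl
theorem F80574 : act 4 n17945 = n13914 := d33_1 D17945 (iv D13914) (iv F63122)
def n17946 : Q := act 5 n13912
theorem D17946 : act 5 n13912 = n17946 := rfl
theorem F80580 : act 8 n17946 = n14371 := d37_2 D13912 D17946 (iv D14371) (iv D11188) (iv F49798)
def n17947 : Q := act 9 n13912
theorem D17947 : act 9 n13912 = n17947 := rfl
theorem F80584 : act 4 n17947 = n13915 := d34_1 D17947 (iv D13915) (iv F63127)
def n17948 : Q := act 8 n13913
theorem D17948 : act 8 n13913 = n17948 := rfl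
theorem F80587 : act 3 n17948 = n13958 := d28_1 D17948 (iv D13958) (iv F63130)
theorem F80588 : act 6 n17948 = n13914 := d40_1 D17948 (iv D13914) D13913
def n17952 : Q := act 5 n13917
theorem D17952 : act 5 n13917 = n17952 := rfl
theorem F80608 : act 8 n17952 = n14377 := d37_2 D13917 D17952 (iv D14377) (iv D11193) (iv F49810)
def n17953 : Q := act 9 n13917
theorem D17953 : act 9 n13917 = n17953 := rfl
theorem F80611 : act 4 n17953 = n13921 := d34_1 D17953 (iv D13921) (iv F63145)
def n17956 : Q := act 5 n13920
theorem D17956 : act 5 n13920 = n17956 := rfl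
def n17958 : Q := act 4 n13922
theorem D17958 : act 4 n13922 = n17958 := rfl
def n17959 : Q := act 9 n13922
theorem D17959 : act 9 n13922 = n17959 := rfl
theorem F80636 : act 5 n17959 = n13923 := d38_1 D17959 (iv D13923) D13922
def n17961 : Q := act 9 n13926
theorem D17961 : act 9 n13926 = n17961 := rfl
theorem F80646 : act 5 n17961 = n13927 := d38_1 D17961 (iv D13927) D13926
def n17967 : Q := act 7 n13934
theorem D17967 : act 7 n13934 = n17967 := rfl
def n17968 : Q := act 7 n13936
theorem D17968 : act 7 n13936 = n17968 := rfl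
theorem F80677 : act 4 n17968 = n13937 := d32_1 D17968 (iv D13937) D13936
theorem F80678 : act 5 n17968 = n13971 := d36_1 D17968 (iv D13971) (iv F63224)
def n17969 : Q := act 6 n13937
theorem D17969 : act 6 n13937 = n17969 := rfl
theorem F80680 : act 5 n17969 = n13955 := d35_1 D17969 (iv D13955) F49913 (iv F49869) (iv F63226)
def n17972 : Q := act 7 n13939
theorem D17972 : act 7 n13939 = n17972 := rfl
theorem F80689 : act 5 n17972 = n13975 := d36_1 D17972 (iv D13975) (iv F63231)
def n17974 : Q := act 8 n13940
theorem D17974 : act 8 n13940 = n17974 := rfl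
theorem F80696 : act 4 n17974 = n13943 := d33_1 D17974 (iv D13943) (iv F63234)
def n17975 : Q := act 5 n13941
theorem D17975 : act 5 n13941 = n17975 := rfl
theorem F80704 : act 8 n17975 = n13978 := d37_2 D13941 D17975 (iv D13978) (iv D10863) (iv F49873)
def n17976 : Q := act 9 n13941
theorem D17976 : act 9 n13941 = n17976 := rfl
theorem F80707 : act 4 n17976 = n13944 := d34_1 D17976 (iv D13944) (iv F63238)
def n17979 : Q := act 8 n13945
theorem D17979 : act 8 n13945 = n17979 := rfl
theorem F80717 : act 4 n17979 = n13949 := d33_1 D17979 (iv D13949) (iv F63251)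
theorem F80718 : act 6 n17979 = n13946 := d40_1 D17979 (iv D13946) D13945
def n17980 : Q := act 5 n13946
theorem D17980 : act 5 n13946 = n17980 := rfl
theorem F80723 : act 8 n17980 = n13981 := d37_2 D13946 D17980 (iv D13981) (iv D10866) (iv F49883)
def n17981 : Q := act 9 n13946
theorem D17981 : act 9 n13946 = n17981 := rfl
theorem F80726 : act 4 n17981 = n13950 := d34_1 D17981 (iv D13950) (iv F63255)
def n17983 : Q := act 5 n13949
theorem D17983 : act 5 n13949 = n17983 := rfl
def n18001 : Q := act 7 n13967
theorem D18001 : act 7 n13967 = n18001 := rfl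
def n18002 : Q := act 8 n13967
theorem D18002 : act 8 n13967 = n18002 := rfl
theorem F80808 : act 6 n18002 = n13985 := d40_1 D18002 (iv D13985) (iv F63331)
def n18003 : Q := act 8 n13968
theorem D18003 : act 8 n13968 = n18003 := rfl
theorem F80814 : act 7 n18003 = n13969 := d42_1 D18003 (iv D13969) D13968
def n18004 : Q := act 9 n13969
theorem D18004 : act 9 n13969 = n18004 := rfl
theorem F80819 : act 6 n18004 = n13986 := d41_1 D18004 (iv D13986) (iv F63341)
def n18005 : Q := act 7 n13970
theorem D18005 : act 7 n13970 = n18005 := rfl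
theorem F80821 : act 3 n18005 = n13971 := d27_1 D18005 (iv D13971) D13970
def n18006 : Q := act 8 n13970
theorem D18006 : act 8 n13970 = n18006 := rfl
theorem F80829 : act 5 n18006 = n14286 := d37_1 D18006 (iv D14286) (iv F62907) D17866 (iv F80291)
theorem F80830 : act 6 n18006 = n13988 := d40_1 D18006 (iv D13988) (iv F63344)
def n18007 : Q := act 8 n13971
theorem D18007 : act 8 n13971 = n18007 := rfl
theorem F80834 : act 7 n18007 = n13972 := d42_1 D18007 (iv D13972) D13971
def n18008 : Q := act 5 n13972
theorem D18008 : act 5 n13972 = n18008 := rfl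
theorem F80840 : act 8 n18008 = n14284 := d37_2 D13972 D18008 (iv F80280) (iv F80281) F63224
def n18009 : Q := act 9 n13972
theorem D18009 : act 9 n13972 = n18009 := rfl
theorem F80843 : act 6 n18009 = n13989 := d41_1 D18009 (iv D13989) (iv F63350)
def n18010 : Q := act 9 n13973
theorem D18010 : act 9 n13973 = n18010 := rfl
theorem F80848 : act 7 n18010 = n13974 := d43_1 D18010 (iv D13974) (iv F63355)
def n18011 : Q := act 8 n13975
theorem D18011 : act 8 n13975 = n18011 := rfl
theorem F80851 : act 3 n18011 = n13977 := d28_1 D18011 (iv D13977) (iv F63362)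
theorem F80852 : act 4 n18011 = n14436 := d33_1 D18011 (iv D14436) (iv F63363)
theorem F80854 : act 7 n18011 = n13976 := d42_1 D18011 (iv D13976) D13975
def n18012 : Q := act 5 n13976
theorem D18012 : act 5 n13976 = n18012 := rfl
theorem F80861 : act 8 n18012 = n14281 := d37_2 D13976 D18012 (iv F80265) (iv F80266) F63231
def n18013 : Q := act 9 n13976
theorem D18013 : act 9 n13976 = n18013 := rfl
theorem F80866 : act 6 n18013 = n13990 := d41_1 D18013 (iv D13990) (iv F63369)
def n18014 : Q := act 5 n13977
theorem D18014 : act 5 n13977 = n18014 := rfl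
theorem F80868 : act 2 n18014 = n13981 := d19_1 D18014 (iv D13981) (iv F63371)
def n18015 : Q := act 9 n13977
theorem D18015 : act 9 n13977 = n18015 := rfl
theorem F80875 : act 7 n18015 = n13979 := d43_1 D18015 (iv D13979) (iv F63374)
def n18016 : Q := act 9 n13978
theorem D18016 : act 9 n13978 = n18016 := rfl
theorem F80879 : act 5 n18016 = n13979 := d38_1 D18016 (iv D13979) D13978
def n18017 : Q := act 6 n13981
theorem D18017 : act 6 n13981 = n18017 := rfl
def n18018 : Q := act 9 n13981
theorem D18018 : act 9 n13981 = n18018 := rfl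
def n18020 : Q := act 8 n13984
theorem D18020 : act 8 n13984 = n18020 := rfl
theorem F80898 : act 3 n18020 = n13985 := d28_1 D18020 (iv D13985) D13984
theorem F80899 : act 4 n18020 = n14448 := d33_1 D18020 (iv D14448) (iv F63405)
theorem F80901 : act 6 n18020 = n14332 := d40_1 D18020 (iv F80436) (iv F80437)
def n18021 : Q := act 9 n13985
theorem D18021 : act 9 n13985 = n18021 := rfl
def n18022 : Q := act 8 n13987
theorem D18022 : act 8 n13987 = n18022 := rfl
theorem F80911 : act 4 n18022 = n14451 := d33_1 D18022 (iv D14451) (iv F63418)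
theorem F80913 : act 6 n18022 = n14292 := d40_1 D18022 (iv F80313) (iv F80314)
def n18023 : Q := act 9 n13988
theorem D18023 : act 9 n13988 = n18023 := rfl
theorem F80916 : act 3 n18023 = n13989 := d29_1 D18023 (iv D13989) (iv F63421)
theorem F80917 : act 4 n18023 = n14453 := d34_1 D18023 (iv D14453) (iv F63422)
def n18024 : Q := act 7 n13991
theorem D18024 : act 7 n13991 = n18024 := rfl
theorem F80924 : act 4 n18024 = n13992 := d32_1 D18024 (iv D13992) D13991
theorem F80925 : act 5 n18024 = n14475 := d36_1 D18024 (iv D14475) (iv F63438)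
theorem F80926 : act 8 n18024 = n14400 := d42_2 (iv F66003) D18024 (iv D14400)
def n18025 : Q := act 6 n13992
theorem D18025 : act 6 n13992 = n18025 := rfl
def n18026 : Q := act 8 n13992
theorem D18026 : act 8 n13992 = n18026 := rfl
theorem F80937 : act 3 n18026 = n14352 := d28_1 D18026 (iv F75461) F75458
theorem F80938 : act 4 n18026 = n14400 := d33_1 D18026 (iv F80926) F80924
def n18027 : Q := act 9 n13993
theorem D18027 : act 9 n13993 = n18027 := rfl
theorem F80943 : act 3 n18027 = n14146 := d29_1 D18027 F64188 (iv F66004)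
theorem F80944 : act 4 n18027 = n14202 := d34_1 D18027 F64478 (iv F66005)
def n18028 : Q := act 7 n13994
theorem D18028 : act 7 n13994 = n18028 := rfl
theorem F80947 : act 0 n18028 = n14008 := d6_1 D18028 (iv D14008) (iv F63450)
theorem F80951 : act 4 n18028 = n14399 := d32_1 D18028 F65415 (iv F66011)
theorem F80952 : act 5 n18028 = n14480 := d36_1 D18028 (iv D14480) (iv F63452)
theorem F80953 : act 8 n18028 = n14396 := d42_2 (iv F66012) D18028 (iv D14396)
def n18030 : Q := act 8 n13995
theorem D18030 : act 8 n13995 = n18030 := rfl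
theorem F80964 : act 4 n18030 = n13998 := d33_1 D18030 (iv D13998) (iv F63457)
theorem F80965 : act 7 n18030 = n13996 := d42_1 D18030 (iv D13996) D13995
theorem F80966 : act 5 n14430 = n18030 := d36_3 F80965 F65971 D14430
def n18031 : Q := act 9 n13996
theorem D18031 : act 9 n13996 = n18031 := rfl
theorem F80971 : act 4 n18031 = n13999 := d34_1 D18031 (iv D13999) (iv F63462)
theorem F80972 : act 5 n18031 = n14237 := d38_1 D18031 F64678 (iv F65971)
def n18033 : Q := act 9 n13998
theorem D18033 : act 9 n13998 = n18033 := rfl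
def n18038 : Q := act 9 n14002
theorem D18038 : act 9 n14002 = n18038 := rfl
theorem F81015 : act 5 n18038 = n14003 := d38_1 D18038 (iv D14003) D14002
def n18044 : Q := act 8 n14008
theorem D18044 : act 8 n14008 = n18044 := rfl
theorem F81044 : act 0 n18044 = n14396 := d7_1 D18044 (iv F80953) F80947
theorem F81046 : act 2 n18044 = n18044 := d22_1 D18044 (iv D18044) F63518
theorem F81047 : act 3 n18044 = n14011 := d28_1 D18044 (iv D14011) (iv F63519)
theorem F81048 : act 4 n18044 = n14393 := d33_1 D18044 (iv F75534) F75532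
theorem F81049 : act 7 n18044 = n14009 := d42_1 D18044 (iv D14009) D14008
theorem F81050 : act 5 n14425 = n18044 := d36_3 F81049 F66015 D14425
def n18045 : Q := act 9 n14009
theorem D18045 : act 9 n14009 = n18045 := rfl
theorem F81055 : act 4 n18045 = n14198 := d34_1 D18045 F64455 (iv F66014)
theorem F81056 : act 5 n18045 = n14234 := d38_1 D18045 F64665 (iv F66015)
def n18048 : Q := act 5 n14011
theorem D18048 : act 5 n14011 = n18048 := rfl
theorem F81078 : act 8 n18048 = n14503 := d37_2 D14011 D18048 (iv D14503) (iv D11302) (iv F50114)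
def n18049 : Q := act 9 n14011
theorem D18049 : act 9 n14011 = n18049 := rfl
theorem F81081 : act 4 n18049 = n14015 := d34_1 D18049 (iv D14015) (iv F63533)
def n18050 : Q := act 9 n14012
theorem D18050 : act 9 n14012 = n18050 := rfl
theorem F81088 : act 5 n18050 = n14013 := d38_1 D18050 (iv D14013) D14012
def n18054 : Q := act 9 n14018
theorem D18054 : act 9 n14018 = n18054 := rfl
theorem F81109 : act 5 n18054 = n14019 := d38_1 D18054 (iv D14019) D14018
def n18060 : Q := act 8 n14027
theorem D18060 : act 8 n14027 = n18060 := rfl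
theorem F81143 : act 9 n18060 = n14515 := d44_2 D14027 D18060 (iv D14515) (iv D11318) (iv F50185)
def n18066 : Q := act 0 n14035
theorem D18066 : act 0 n14035 = n18066 := rfl
theorem F81177 : act 8 n18066 = n14046 := d7_2 (iv F63654) D18066 (iv D14046)
def n18068 : Q := act 5 n14036
theorem D18068 : act 5 n14036 = n18068 := rfl
def n18069 : Q := act 7 n14036
theorem D18069 : act 7 n14036 = n18069 := rfl
theorem F81191 : act 8 n18069 = n14049 := d42_2 (iv F63659) D18069 (iv D14049)
def n18071 : Q := act 7 n14037
theorem D18071 : act 7 n14037 = n18071 := rfl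
theorem F81200 : act 5 n18071 = n14038 := d36_1 D18071 (iv D14038) D14037
def n18073 : Q := act 8 n14039
theorem D18073 : act 8 n14039 = n18073 := rfl
theorem F81211 : act 5 n18073 = n14054 := d37_1 D18073 (iv D14054) F50302 (iv F50257) (iv F63674)
theorem F81213 : act 7 n18073 = n14040 := d42_1 D18073 (iv D14040) D14039
def n18074 : Q := act 9 n14040
theorem D18074 : act 9 n14040 = n18074 := rfl
def n18078 : Q := act 6 n14046
theorem D18078 : act 6 n14046 = n18078 := rfl
theorem F81243 : act 9 n18078 = n14268 := d41_2 (iv F63713) D18078 (iv D14268)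
def n18079 : Q := act 5 n14047
theorem D18079 : act 5 n14047 = n18079 := rfl
theorem F81244 : act 1 n18079 = n14048 := d12_1 D18079 (iv D14048) (iv F63714)
theorem F81248 : act 9 n18079 = n14269 := d38_2 (iv F63717) D18079 (iv D14269)
def n18080 : Q := act 7 n14047
theorem D18080 : act 7 n14047 = n18080 := rfl
theorem F81252 : act 9 n18080 = n14270 := d43_2 (iv F63717) D18080 (iv D14270)
def n18082 : Q := act 7 n14048
theorem D18082 : act 7 n14048 = n18082 := rfl
theorem F81258 : act 2 n18082 = n14051 := d21_1 D18082 (iv D14051) (iv F63719)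
theorem F81260 : act 5 n18082 = n14049 := d36_1 D18082 (iv D14049) D14048
theorem F81261 : act 9 n18082 = n14272 := d43_2 (iv F63722) D18082 (iv D14272)
def n18083 : Q := act 8 n14048
theorem D18083 : act 8 n14048 = n18083 := rfl
def n18084 : Q := act 7 n14050
theorem D18084 : act 7 n14050 = n18084 := rfl
theorem F81270 : act 9 n18084 = n14274 := d43_2 (iv F63731) D18084 (iv D14274)
def n18086 : Q := act 6 n14051
theorem D18086 : act 6 n14051 = n18086 := rfl
theorem F81278 : act 3 n18086 = n14053 := d26_1 D18086 (iv D14053) (iv F63734)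
def n18087 : Q := act 8 n14051
theorem D18087 : act 8 n14051 = n18087 := rfl
def n18089 : Q := act 8 n14053
theorem D18089 : act 8 n14053 = n18089 := rfl
theorem F81293 : act 4 n18089 = n14066 := d33_1 D18089 (iv D14066) (iv F63744)
theorem F81295 : act 6 n18089 = n14054 := d40_1 D18089 (iv D14054) D14053
def n18090 : Q := act 9 n14054
theorem D18090 : act 9 n14054 = n18090 := rfl
def n18091 : Q := act 4 n14056
theorem D18091 : act 4 n14056 = n18091 := rfl
theorem F81307 : act 9 n18091 = n14281 := d34_2 (iv F63763) D18091 (iv D14281)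
def n18093 : Q := act 8 n14056
theorem D18093 : act 8 n14056 = n18093 := rfl
def n18096 : Q := act 8 n14058
theorem D18096 : act 8 n14058 = n18096 := rfl
def n18099 : Q := act 9 n14060
theorem D18099 : act 9 n14060 = n18099 := rfl
theorem F81348 : act 8 n18099 = n14289 := d44_1 D18099 (iv D14289) (iv D11127) (iv F50319) D14060
def n18105 : Q := act 9 n14064
theorem D18105 : act 9 n14064 = n18105 := rfl
theorem F81376 : act 8 n18105 = n14295 := d44_1 D18105 (iv D14295) (iv D11131) (iv F50334) D14064
def n18106 : Q := act 5 n14066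
theorem D18106 : act 5 n14066 = n18106 := rfl
def n18107 : Q := act 9 n14066
theorem D18107 : act 9 n14066 = n18107 := rfl
theorem F81387 : act 6 n18107 = n14067 := d41_1 D18107 (iv D14067) (iv F63813)
theorem F81389 : act 8 n18107 = n14297 := d44_1 D18107 (iv D14297) (iv D11133) (iv F50345) D14066
def n18109 : Q := act 6 n14068
theorem D18109 : act 6 n14068 = n18109 := rfl
def n18112 : Q := act 8 n14070
theorem D18112 : act 8 n14070 = n18112 := rfl
theorem F81414 : act 6 n18112 = n14081 := d40_1 D18112 (iv D14081) (iv F63833)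
def n18114 : Q := act 0 n14072
theorem D18114 : act 0 n14072 = n18114 := rfl
theorem F81426 : act 8 n18114 = n14084 := d7_2 (iv F63845) D18114 (iv D14084)
def n18115 : Q := act 6 n14072
theorem D18115 : act 6 n14072 = n18115 := rfl
theorem F81429 : act 2 n18115 = n14130 := d20_1 D18115 (iv D14130) (iv F63842)
theorem F81432 : act 8 n18115 = n14085 := d40_2 (iv F63845) D18115 (iv D14085)
def n18116 : Q := act 7 n14073
theorem D18116 : act 7 n14073 = n18116 := rfl
theorem F81437 : act 6 n18116 = n14078 := d39_1 D18116 (iv D14078) (iv D10947) (iv F50373) D14073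
def n18117 : Q := act 6 n14075
theorem D18117 : act 6 n14075 = n18117 := rfl
theorem F81440 : act 0 n18117 = n14076 := d5_1 D18117 (iv D14076) D14075
theorem F81443 : act 8 n18117 = n14091 := d40_2 (iv F63860) D18117 (iv D14091)
def n18118 : Q := act 5 n14076
theorem D18118 : act 5 n14076 = n18118 := rfl
def n18119 : Q := act 7 n14076
theorem D18119 : act 7 n14076 = n18119 := rfl
theorem F81452 : act 8 n18119 = n14093 := d42_2 (iv F63865) D18119 (iv D14093)
def n18121 : Q := act 7 n14077
theorem D18121 : act 7 n14077 = n18121 := rfl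
theorem F81458 : act 5 n18121 = n14078 := d36_1 D18121 (iv D14078) D14077
def n18122 : Q := act 8 n14077
theorem D18122 : act 8 n14077 = n18122 := rfl
def n18123 : Q := act 7 n14079
theorem D18123 : act 7 n14079 = n18123 := rfl
theorem F81466 : act 4 n18123 = n14080 := d32_1 D18123 (iv D14080) D14079
def n18125 : Q := act 8 n14080
theorem D18125 : act 8 n14080 = n18125 := rfl
theorem F81474 : act 5 n18125 = n14100 := d37_1 D18125 (iv D14100) F50457 (iv F50401) (iv F63879)
theorem F81476 : act 7 n18125 = n14081 := d42_1 D18125 (iv D14081) D14080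
def n18126 : Q := act 9 n14081
theorem D18126 : act 9 n14081 = n18126 := rfl
def n18127 : Q := act 9 n14082
theorem D18127 : act 9 n14082 = n18127 := rfl
theorem F81484 : act 5 n18127 = n14103 := d38_1 D18127 (iv D14103) (iv F63888)
theorem F81486 : act 7 n18127 = n14083 := d43_1 D18127 (iv D14083) (iv F63890)
def n18128 : Q := act 7 n14085
theorem D18128 : act 7 n14085 = n18128 := rfl
theorem F81491 : act 6 n18128 = n14093 := d39_1 D18128 (iv D14093) (iv D10958) (iv F50416) D14085
theorem F81492 : act 9 n18128 = n14300 := d43_2 (iv F63904) D18128 (iv D14300)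
def n18129 : Q := act 7 n14086
theorem D18129 : act 7 n14086 = n18129 := rfl
theorem F81495 : act 5 n18129 = n14087 := d36_1 D18129 (iv D14087) D14086
theorem F81497 : act 9 n18129 = n14302 := d43_2 (iv F63909) D18129 (iv D14302)
def n18132 : Q := act 5 n14091
theorem D18132 : act 5 n14091 = n18132 := rfl
theorem F81509 : act 0 n18132 = n14092 := d4_1 D18132 (iv D14092) (iv F63931)
def n18133 : Q := act 7 n14091
theorem D18133 : act 7 n14091 = n18133 := rfl
theorem F81517 : act 9 n18133 = n14310 := d43_2 (iv F63934) D18133 (iv D14310)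
def n18134 : Q := act 4 n14092
theorem D18134 : act 4 n14092 = n18134 := rfl
theorem F81518 : act 1 n18134 = n14094 := d11_1 D18134 (iv D14094) (iv F63935)
def n18135 : Q := act 7 n14092
theorem D18135 : act 7 n14092 = n18135 := rfl
theorem F81522 : act 1 n18135 = n14095 := d14_1 D18135 (iv D14095) (iv F63935)
theorem F81525 : act 5 n18135 = n14093 := d36_1 D18135 (iv D14093) D14092
theorem F81526 : act 9 n18135 = n14312 := d43_2 (iv F63939) D18135 (iv D14312)
def n18136 : Q := act 8 n14092
theorem D18136 : act 8 n14092 = n18136 := rfl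
def n18138 : Q := act 7 n14094
theorem D18138 : act 7 n14094 = n18138 := rfl
theorem F81535 : act 2 n18138 = n14097 := d21_1 D18138 (iv D14097) (iv F63944)
def n18139 : Q := act 8 n14094
theorem D18139 : act 8 n14094 = n18139 := rfl
def n18140 : Q := act 6 n14095
theorem D18140 : act 6 n14095 = n18140 := rfl
theorem F81541 : act 2 n18140 = n14099 := d20_1 D18140 (iv D14099) (iv F63947)
def n18141 : Q := act 8 n14095
theorem D18141 : act 8 n14095 = n18141 := rfl
theorem F81547 : act 7 n18141 = n14096 := d42_1 D18141 (iv D14096) D14095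
def n18142 : Q := act 9 n14096
theorem D18142 : act 9 n14096 = n18142 := rfl
def n18143 : Q := act 6 n14097
theorem D18143 : act 6 n14097 = n18143 := rfl
theorem F81553 : act 3 n18143 = n14110 := d26_1 D18143 (iv D14110) (iv F63955)
def n18144 : Q := act 8 n14097
theorem D18144 : act 8 n14097 = n18144 := rfl
theorem F81560 : act 7 n18144 = n14098 := d42_1 D18144 (iv D14098) D14097
def n18146 : Q := act 9 n14098
theorem D18146 : act 9 n14098 = n18146 := rfl
def n18147 : Q := act 8 n14099
theorem D18147 : act 8 n14099 = n18147 := rfl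
theorem F81569 : act 3 n18147 = n14102 := d28_1 D18147 (iv D14102) (iv F63963)
theorem F81571 : act 6 n18147 = n14100 := d40_1 D18147 (iv D14100) D14099
def n18148 : Q := act 9 n14100
theorem D18148 : act 9 n14100 = n18148 := rfl
theorem F81575 : act 7 n18148 = n14101 := d43_1 D18148 (iv D14101) (iv F63968)
def n18149 : Q := act 9 n14102
theorem D18149 : act 9 n14102 = n18149 := rfl
theorem F81579 : act 4 n18149 = n14117 := d34_1 D18149 (iv D14117) (iv F63975)
theorem F81581 : act 6 n18149 = n14103 := d41_1 D18149 (iv D14103) (iv F63977)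
def n18153 : Q := act 8 n14105
theorem D18153 : act 8 n14105 = n18153 := rfl
def n18157 : Q := act 9 n14108
theorem D18157 : act 9 n14108 = n18157 := rfl
theorem F81619 : act 8 n18157 = n14335 := d44_1 D18157 (iv D14335) (iv D11161) (iv F50484) D14108
def n18159 : Q := act 8 n14110
theorem D18159 : act 8 n14110 = n18159 := rfl
theorem F81625 : act 4 n18159 = n14114 := d33_1 D18159 (iv D14114) (iv F64014)
theorem F81626 : act 6 n18159 = n14111 := d40_1 D18159 (iv D14111) D14110
def n18161 : Q := act 9 n14111
theorem D18161 : act 9 n14111 = n18161 := rfl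
def n18164 : Q := act 5 n14114
theorem D18164 : act 5 n14114 = n18164 := rfl
def n18165 : Q := act 9 n14114
theorem D18165 : act 9 n14114 = n18165 := rfl
theorem F81648 : act 6 n18165 = n14115 := d41_1 D18165 (iv D14115) (iv F64028)
theorem F81650 : act 8 n18165 = n14343 := d44_1 D18165 (iv D14343) (iv D11167) (iv F50500) D14114
def n18166 : Q := act 9 n14116
theorem D18166 : act 9 n14116 = n18166 := rfl
theorem F81654 : act 5 n18166 = n14117 := d38_1 D18166 (iv D14117) D14116
def n18169 : Q := act 5 n14119
theorem D18169 : act 5 n14119 = n18169 := rfl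
def n18174 : Q := act 6 n14123
theorem D18174 : act 6 n14123 = n18174 := rfl
def n18176 : Q := act 4 n14125
theorem D18176 : act 4 n14125 = n18176 := rfl
theorem F81708 : act 6 n18176 = n14135 := d31_2 (iv F64085) D18176 (iv D14135)
def n18177 : Q := act 8 n14125
theorem D18177 : act 8 n14125 = n18177 := rfl
theorem F81715 : act 6 n18177 = n14137 := d40_1 D18177 (iv D14137) (iv F64085)
def n18179 : Q := act 9 n14127
theorem D18179 : act 9 n14127 = n18179 := rfl
theorem F81725 : act 6 n18179 = n14141 := d41_1 D18179 (iv D14141) (iv F64096)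
def n18180 : Q := act 6 n14129
theorem D18180 : act 6 n14129 = n18180 := rfl
theorem F81730 : act 3 n18180 = n14183 := d26_1 D18180 (iv D14183) (iv F64106)
theorem F81732 : act 8 n18180 = n14143 := d40_2 (iv F64108) D18180 (iv D14143)
def n18182 : Q := act 5 n14132
theorem D18182 : act 5 n14132 = n18182 := rfl
theorem F81740 : act 0 n18182 = n14133 := d4_1 D18182 (iv D14133) (iv F64122)
def n18183 : Q := act 7 n14132
theorem D18183 : act 7 n14132 = n18183 := rfl
theorem F81747 : act 8 n18183 = n14151 := d42_2 (iv F64125) D18183 (iv D14151)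
def n18184 : Q := act 4 n14133
theorem D18184 : act 4 n14133 = n18184 := rfl
def n18185 : Q := act 7 n14133
theorem D18185 : act 7 n14133 = n18185 := rfl
theorem F81753 : act 5 n18185 = n14134 := d36_1 D18185 (iv D14134) D14133
def n18186 : Q := act 8 n14133
theorem D18186 : act 8 n14133 = n18186 := rfl
def n18187 : Q := act 3 n14135
theorem D18187 : act 3 n14135 = n18187 := rfl
def n18188 : Q := act 7 n14135
theorem D18188 : act 7 n14135 = n18188 := rfl
theorem F81765 : act 4 n18188 = n14136 := d32_1 D18188 (iv D14136) D14135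
def n18189 : Q := act 8 n14135
theorem D18189 : act 8 n14135 = n18189 := rfl
theorem F81770 : act 4 n18189 = n14137 := d33_1 D18189 (iv D14137) D14135
def n18190 : Q := act 8 n14136
theorem D18190 : act 8 n14136 = n18190 := rfl
theorem F81774 : act 5 n18190 = n14158 := d37_1 D18190 (iv D14158) F50673 (iv F50594) (iv F64140)
theorem F81776 : act 7 n18190 = n14137 := d42_1 D18190 (iv D14137) D14136
def n18191 : Q := act 9 n14137
theorem D18191 : act 9 n14137 = n18191 := rfl
def n18192 : Q := act 8 n14138
theorem D18192 : act 8 n14138 = n18192 := rfl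
theorem F81784 : act 4 n18192 = n14140 := d33_1 D18192 (iv D14140) (iv F64149)
def n18195 : Q := act 9 n14140
theorem D18195 : act 9 n14140 = n18195 := rfl
theorem F81796 : act 5 n18195 = n14165 := d38_1 D18195 (iv D14165) (iv F64157)
theorem F81798 : act 7 n18195 = n14141 := d43_1 D18195 (iv D14141) (iv F64159)
def n18197 : Q := act 7 n14144
theorem D18197 : act 7 n14144 = n18197 := rfl
theorem F81806 : act 3 n18197 = n14201 := d27_1 D18197 (iv D14201) (iv F64176)
theorem F81807 : act 5 n18197 = n14145 := d36_1 D18197 (iv D14145) D14144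
theorem F81809 : act 9 n18197 = n14349 := d43_2 (iv F64179) D18197 (iv D14349)
def n18198 : Q := act 7 n14146
theorem D18198 : act 7 n14146 = n18198 := rfl
theorem F81812 : act 4 n18198 = n14147 := d32_1 D18198 (iv D14147) D14146
theorem F81814 : act 9 n18198 = n14352 := d43_2 (iv F64188) D18198 (iv D14352)
def n18199 : Q := act 6 n14147
theorem D18199 : act 6 n14147 = n18199 := rfl
theorem F81818 : act 5 n18199 = n14157 := d35_1 D18199 (iv D14157) F50673 (iv F50635) (iv F64192)
def n18200 : Q := act 6 n14148
theorem D18200 : act 6 n14148 = n18200 := rfl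
theorem F81824 : act 4 n18200 = n14149 := d31_1 D18200 (iv D14149) (iv F64197)
def n18201 : Q := act 4 n14150
theorem D18201 : act 4 n14150 = n18201 := rfl
theorem F81828 : act 0 n18201 = n14152 := d3_1 D18201 (iv D14152) (iv F64206)
theorem F81832 : act 9 n18201 = n14361 := d34_2 (iv F64210) D18201 (iv D14361)
def n18202 : Q := act 7 n14150
theorem D18202 : act 7 n14150 = n18202 := rfl
theorem F81833 : act 0 n18202 = n14153 := d6_1 D18202 (iv D14153) (iv F64206)
theorem F81836 : act 5 n18202 = n14151 := d36_1 D18202 (iv D14151) D14150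
theorem F81837 : act 9 n18202 = n14362 := d43_2 (iv F64210) D18202 (iv D14362)
def n18203 : Q := act 8 n14150
theorem D18203 : act 8 n14150 = n18203 := rfl
def n18204 : Q := act 7 n14152
theorem D18204 : act 7 n14152 = n18204 := rfl
theorem F81842 : act 1 n18204 = n14155 := d14_1 D18204 (iv D14155) (iv F64215)
def n18205 : Q := act 8 n14152
theorem D18205 : act 8 n14152 = n18205 := rfl
def n18206 : Q := act 6 n14153
theorem D18206 : act 6 n14153 = n18206 := rfl
theorem F81850 : act 1 n18206 = n14157 := d13_1 D18206 (iv D14157) (iv F64219)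
def n18207 : Q := act 8 n14153
theorem D18207 : act 8 n14153 = n18207 := rfl
theorem F81856 : act 7 n18207 = n14154 := d42_1 D18207 (iv D14154) D14153
def n18208 : Q := act 9 n14154
theorem D18208 : act 9 n14154 = n18208 := rfl
def n18209 : Q := act 6 n14155
theorem D18209 : act 6 n14155 = n18209 := rfl
theorem F81862 : act 2 n18209 = n14160 := d20_1 D18209 (iv D14160) (iv F64227)
def n18210 : Q := act 8 n14155
theorem D18210 : act 8 n14155 = n18210 := rfl
theorem F81871 : act 7 n18210 = n14156 := d42_1 D18210 (iv D14156) D14155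
def n18211 : Q := act 5 n14156
theorem D18211 : act 5 n14156 = n18211 := rfl
def n18212 : Q := act 9 n14156
theorem D18212 : act 9 n14156 = n18212 := rfl
def n18213 : Q := act 8 n14157
theorem D18213 : act 8 n14157 = n18213 := rfl
theorem F81882 : act 2 n18213 = n14164 := d22_1 D18213 (iv D14164) (iv F64237)
theorem F81885 : act 6 n18213 = n14158 := d40_1 D18213 (iv D14158) D14157
def n18214 : Q := act 9 n14158
theorem D18214 : act 9 n14158 = n18214 := rfl
theorem F81890 : act 7 n18214 = n14159 := d43_1 D18214 (iv D14159) (iv F64244)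
def n18215 : Q := act 5 n14160
theorem D18215 : act 5 n14160 = n18215 := rfl
def n18216 : Q := act 8 n14160
theorem D18216 : act 8 n14160 = n18216 := rfl
theorem F81897 : act 3 n18216 = n14168 := d28_1 D18216 (iv D14168) (iv F64251)
theorem F81899 : act 6 n18216 = n14161 := d40_1 D18216 (iv D14161) D14160
def n18217 : Q := act 5 n14161
theorem D18217 : act 5 n14161 = n18217 := rfl
theorem F81903 : act 7 n18217 = n14162 := d36_2 (iv F64258) D18217 (iv D14162)
def n18218 : Q := act 9 n14161
theorem D18218 : act 9 n14161 = n18218 := rfl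
theorem F81907 : act 7 n18218 = n14163 := d43_1 D18218 (iv D14163) (iv F64258)
def n18220 : Q := act 9 n14162
theorem D18220 : act 9 n14162 = n18220 := rfl
def n18221 : Q := act 9 n14164
theorem D18221 : act 9 n14164 = n18221 := rfl
theorem F81916 : act 3 n18221 = n14166 := d29_1 D18221 (iv D14166) (iv F64267)
theorem F81918 : act 6 n18221 = n14165 := d41_1 D18221 (iv D14165) (iv F64269)
def n18224 : Q := act 9 n14168
theorem D18224 : act 9 n14168 = n18224 := rfl
theorem F81931 : act 4 n18224 = n14174 := d34_1 D18224 (iv D14174) (iv F64289)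
theorem F81932 : act 6 n18224 = n14170 := d41_1 D18224 (iv D14170) (iv F64290)
def n18226 : Q := act 9 n14169
theorem D18226 : act 9 n14169 = n18226 := rfl
theorem F81941 : act 5 n18226 = n14170 := d38_1 D18226 (iv D14170) D14169
def n18231 : Q := act 9 n14173
theorem D18231 : act 9 n14173 = n18231 := rfl
theorem F81965 : act 5 n18231 = n14174 := d38_1 D18231 (iv D14174) D14173
def n18232 : Q := act 8 n14175
theorem D18232 : act 8 n14175 = n18232 := rfl
theorem F81971 : act 5 n18232 = n14391 := d37_1 D18232 (iv D14391) F51638 (iv F50747) (iv F64324)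
def n18238 : Q := act 9 n14180
theorem D18238 : act 9 n14180 = n18238 := rfl
theorem F82006 : act 6 n18238 = n14194 := d41_1 D18238 (iv D14194) (iv F64356)
def n18241 : Q := act 7 n14183
theorem D18241 : act 7 n14183 = n18241 := rfl
theorem F82026 : act 4 n18241 = n14218 := d32_1 D18241 (iv D14218) (iv F64374)
def n18243 : Q := act 7 n14185
theorem D18243 : act 7 n14185 = n18243 := rfl
theorem F82039 : act 5 n18243 = n14186 := d36_1 D18243 (iv D14186) D14185
def n18244 : Q := act 8 n14185
theorem D18244 : act 8 n14185 = n18244 := rfl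
def n18245 : Q := act 3 n14187
theorem D18245 : act 3 n14187 = n18245 := rfl
def n18246 : Q := act 7 n14187
theorem D18246 : act 7 n14187 = n18246 := rfl
theorem F82051 : act 4 n18246 = n14188 := d32_1 D18246 (iv D14188) D14187
def n18248 : Q := act 8 n14188
theorem D18248 : act 8 n14188 = n18248 := rfl
theorem F82061 : act 5 n18248 = n14209 := d37_1 D18248 (iv D14209) F50921 (iv F50823) (iv F64401)
theorem F82063 : act 7 n18248 = n14189 := d42_1 D18248 (iv D14189) D14188
def n18249 : Q := act 9 n14189
theorem D18249 : act 9 n14189 = n18249 := rfl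
def n18250 : Q := act 7 n14190
theorem D18250 : act 7 n14190 = n18250 := rfl
theorem F82070 : act 3 n18250 = n14191 := d27_1 D18250 (iv D14191) D14190
theorem F82071 : act 5 n18250 = n14232 := d36_1 D18250 (iv D14232) (iv F64409)
def n18252 : Q := act 8 n14191
theorem D18252 : act 8 n14191 = n18252 := rfl
theorem F82080 : act 4 n18252 = n14193 := d33_1 D18252 (iv D14193) (iv F64413)
theorem F82083 : act 7 n18252 = n14192 := d42_1 D18252 (iv D14192) D14191
def n18253 : Q := act 9 n14192
theorem D18253 : act 9 n14192 = n18253 := rfl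
def n18254 : Q := act 9 n14193
theorem D18254 : act 9 n14193 = n18254 := rfl
theorem F82091 : act 5 n18254 = n14212 := d38_1 D18254 (iv D14212) (iv F64423)
theorem F82093 : act 7 n18254 = n14194 := d43_1 D18254 (iv D14194) (iv F64425)
def n18255 : Q := act 9 n14195
theorem D18255 : act 9 n14195 = n18255 := rfl
theorem F82098 : act 4 n18255 = n14197 := d34_1 D18255 (iv D14197) (iv F64433)
theorem F82101 : act 7 n18255 = n14196 := d43_1 D18255 (iv D14196) (iv F64436)
def n18256 : Q := act 7 n14198
theorem D18256 : act 7 n14198 = n18256 := rfl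
theorem F82106 : act 5 n18256 = n14199 := d36_1 D18256 (iv D14199) D14198
theorem F82108 : act 9 n18256 = n14393 := d43_2 (iv F64455) D18256 (iv D14393)
def n18257 : Q := act 7 n14200
theorem D18257 : act 7 n14200 = n18257 := rfl
theorem F82111 : act 4 n18257 = n14201 := d32_1 D18257 (iv D14201) D14200
theorem F82112 : act 5 n18257 = n14238 := d36_1 D18257 (iv D14238) (iv F64464)
def n18259 : Q := act 7 n14202
theorem D18259 : act 7 n14202 = n18259 := rfl
theorem F82124 : act 5 n18259 = n14242 := d36_1 D18259 (iv D14242) (iv F64475)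
theorem F82126 : act 9 n18259 = n14400 := d43_2 (iv F64478) D18259 (iv D14400)
def n18261 : Q := act 6 n14206
theorem D18261 : act 6 n14206 = n18261 := rfl
theorem F82134 : act 0 n18261 = n14208 := d5_1 D18261 (iv D14208) (iv F64499)
def n18262 : Q := act 8 n14206
theorem D18262 : act 8 n14206 = n18262 := rfl
theorem F82144 : act 7 n18262 = n14207 := d42_1 D18262 (iv D14207) D14206
def n18263 : Q := act 9 n14207
theorem D18263 : act 9 n14207 = n18263 := rfl
def n18264 : Q := act 8 n14208
theorem D18264 : act 8 n14208 = n18264 := rfl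
theorem F82151 : act 1 n18264 = n14211 := d15_1 D18264 (iv D14211) (iv F64510)
theorem F82155 : act 6 n18264 = n14209 := d40_1 D18264 (iv D14209) D14208
def n18265 : Q := act 9 n14209
theorem D18265 : act 9 n14209 = n18265 := rfl
theorem F82160 : act 7 n18265 = n14210 := d43_1 D18265 (iv D14210) (iv F64518)
def n18266 : Q := act 9 n14211
theorem D18266 : act 9 n14211 = n18266 := rfl
theorem F82163 : act 2 n18266 = n14213 := d23_1 D18266 (iv D14213) (iv F64525)
theorem F82166 : act 6 n18266 = n14212 := d41_1 D18266 (iv D14212) (iv F64528)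
def n18269 : Q := act 7 n14217
theorem D18269 : act 7 n14217 = n18269 := rfl
theorem F82187 : act 5 n18269 = n14218 := d36_1 D18269 (iv D14218) D14217
def n18270 : Q := act 8 n14217
theorem D18270 : act 8 n14217 = n18270 := rfl
theorem F82193 : act 5 n18270 = n14236 := d37_1 D18270 (iv D14236) (iv D11085) (iv F50991) D14217
def n18272 : Q := act 8 n14219
theorem D18272 : act 8 n14219 = n18272 := rfl
theorem F82205 : act 7 n18272 = n14220 := d42_1 D18272 (iv D14220) D14219
def n18273 : Q := act 9 n14220
theorem D18273 : act 9 n14220 = n18273 := rfl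
theorem F82209 : act 5 n18273 = n14241 := d38_1 D18273 (iv D14241) (iv F64584)
def n18274 : Q := act 8 n14221
theorem D18274 : act 8 n14221 = n18274 := rfl
theorem F82216 : act 6 n18274 = n14222 := d40_1 D18274 (iv D14222) D14221
def n18275 : Q := act 9 n14222
theorem D18275 : act 9 n14222 = n18275 := rfl
theorem F82222 : act 7 n18275 = n14223 := d43_1 D18275 (iv D14223) (iv F64596)
def n18276 : Q := act 9 n14224
theorem D18276 : act 9 n14224 = n18276 := rfl
theorem F82229 : act 6 n18276 = n14225 := d41_1 D18276 (iv D14225) (iv F64608)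
def n18284 : Q := act 7 n14234
theorem D18284 : act 7 n14234 = n18284 := rfl
theorem F82277 : act 9 n18284 = n14425 := d43_2 (iv F64665) D18284 (iv D14425)
def n18285 : Q := act 8 n14234
theorem D18285 : act 8 n14234 = n18285 := rfl
theorem F82283 : act 6 n18285 = n14249 := d40_1 D18285 (iv D14249) (iv F64664)
def n18287 : Q := act 9 n14236
theorem D18287 : act 9 n14236 = n18287 := rfl
theorem F82292 : act 6 n18287 = n14250 := d41_1 D18287 (iv D14250) (iv F64675)
def n18288 : Q := act 7 n14237
theorem D18288 : act 7 n14237 = n18288 := rfl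
theorem F82297 : act 9 n18288 = n14430 := d43_2 (iv F64678) D18288 (iv D14430)
def n18289 : Q := act 8 n14237
theorem D18289 : act 8 n14237 = n18289 := rfl
theorem F82301 : act 6 n18289 = n14252 := d40_1 D18289 (iv D14252) (iv F64677)
def n18290 : Q := act 8 n14238
theorem D18290 : act 8 n14238 = n18290 := rfl
theorem F82307 : act 7 n18290 = n14239 := d42_1 D18290 (iv D14239) D14238
def n18291 : Q := act 9 n14239
theorem D18291 : act 9 n14239 = n18291 := rfl
theorem F82312 : act 6 n18291 = n14254 := d41_1 D18291 (iv D14254) (iv F64688)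
def n18293 : Q := act 8 n14242
theorem D18293 : act 8 n14242 = n18293 := rfl
theorem F82324 : act 7 n18293 = n14243 := d42_1 D18293 (iv D14243) D14242
def n18294 : Q := act 9 n14243
theorem D18294 : act 9 n14243 = n18294 := rfl
theorem F82329 : act 6 n18294 = n14256 := d41_1 D18294 (iv D14256) (iv F64706)
def n18295 : Q := act 9 n14244
theorem D18295 : act 9 n14244 = n18295 := rfl
theorem F82336 : act 7 n18295 = n14245 := d43_1 D18295 (iv D14245) (iv F64712)
def n18297 : Q := act 5 n14249
theorem D18297 : act 5 n14249 = n18297 := rfl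
def n18298 : Q := act 9 n14249
theorem D18298 : act 9 n14249 = n18298 := rfl
theorem F82352 : act 4 n18298 = n14250 := d34_1 D18298 (iv D14250) (iv F64740)
theorem F82354 : act 8 n18298 = n14450 := d44_1 D18298 (iv D14450) (iv D11258) (iv F51156) D14249
def n18300 : Q := act 5 n14252
theorem D18300 : act 5 n14252 = n18300 := rfl
def n18301 : Q := act 9 n14252
theorem D18301 : act 9 n14252 = n18301 := rfl
theorem F82367 : act 8 n18301 = n14453 := d44_1 D18301 (iv D14453) (iv D11261) (iv F51165) D14252
def n18302 : Q := act 9 n14253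
theorem D18302 : act 9 n14253 = n18302 := rfl
theorem F82371 : act 5 n18302 = n14254 := d38_1 D18302 (iv D14254) D14253
def n18304 : Q := act 9 n14255
theorem D18304 : act 9 n14255 = n18304 := rfl
theorem F82383 : act 5 n18304 = n14256 := d38_1 D18304 (iv D14256) D14255
def n18305 : Q := act 8 n14257
theorem D18305 : act 8 n14257 = n18305 := rfl
theorem F82389 : act 5 n18305 = n14460 := d37_1 D18305 (iv D14460) F51917 (iv F51189) (iv F64781)
def n18306 : Q := act 6 n14264
theorem D18306 : act 6 n14264 = n18306 := rfl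
theorem F82396 : act 5 n18306 = n14276 := d35_1 D18306 (iv D14276) F51251 (iv F51213) (iv F64818)
def n18308 : Q := act 5 n14268
theorem D18308 : act 5 n14268 = n18308 := rfl
def n18309 : Q := act 4 n14269
theorem D18309 : act 4 n14269 = n18309 := rfl
def n18310 : Q := act 7 n14269
theorem D18310 : act 7 n14269 = n18310 := rfl
theorem F82413 : act 1 n18310 = n14272 := d14_1 D18310 (iv D14272) (iv F64843)
theorem F82416 : act 5 n18310 = n14270 := d36_1 D18310 (iv D14270) D14269
def n18311 : Q := act 8 n14269
theorem D18311 : act 8 n14269 = n18311 := rfl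
def n18312 : Q := act 3 n14271
theorem D18312 : act 3 n14271 = n18312 := rfl
def n18313 : Q := act 7 n14271
theorem D18313 : act 7 n14271 = n18313 := rfl
theorem F82427 : act 2 n18313 = n14274 := d21_1 D18313 (iv D14274) (iv F64852)
theorem F82428 : act 4 n18313 = n14272 := d32_1 D18313 (iv D14272) D14271
def n18314 : Q := act 8 n14271
theorem D18314 : act 8 n14271 = n18314 := rfl
def n18315 : Q := act 6 n14272
theorem D18315 : act 6 n14272 = n18315 := rfl
theorem F82434 : act 2 n18315 = n14276 := d20_1 D18315 (iv D14276) (iv F64855)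
def n18316 : Q := act 8 n14272
theorem D18316 : act 8 n14272 = n18316 := rfl
theorem F82441 : act 7 n18316 = n14273 := d42_1 D18316 (iv D14273) D14272
def n18317 : Q := act 9 n14273
theorem D18317 : act 9 n14273 = n18317 := rfl
def n18318 : Q := act 6 n14274
theorem D18318 : act 6 n14274 = n18318 := rfl
theorem F82449 : act 3 n18318 = n14290 := d26_1 D18318 (iv D14290) (iv F64865)
def n18319 : Q := act 8 n14274
theorem D18319 : act 8 n14274 = n18319 := rfl
theorem F82456 : act 7 n18319 = n14275 := d42_1 D18319 (iv D14275) D14274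
def n18320 : Q := act 5 n14275
theorem D18320 : act 5 n14275 = n18320 := rfl
def n18321 : Q := act 9 n14275
theorem D18321 : act 9 n14275 = n18321 := rfl
def n18322 : Q := act 8 n14276
theorem D18322 : act 8 n14276 = n18322 := rfl
theorem F82468 : act 3 n18322 = n14279 := d28_1 D18322 (iv D14279) (iv F64874)
theorem F82469 : act 6 n18322 = n14277 := d40_1 D18322 (iv D14277) D14276
def n18323 : Q := act 9 n14277
theorem D18323 : act 9 n14277 = n18323 := rfl
theorem F82475 : act 7 n18323 = n14278 := d43_1 D18323 (iv D14278) (iv F64880)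
def n18324 : Q := act 5 n14279
theorem D18324 : act 5 n14279 = n18324 := rfl
def n18325 : Q := act 9 n14279
theorem D18325 : act 9 n14279 = n18325 := rfl
theorem F82484 : act 4 n18325 = n14297 := d34_1 D18325 (iv D14297) (iv F64889)
theorem F82485 : act 6 n18325 = n14280 := d41_1 D18325 (iv D14280) (iv F64890)
def n18327 : Q := act 6 n14282
theorem D18327 : act 6 n14282 = n18327 := rfl
theorem F82492 : act 1 n18327 = n14287 := d13_1 D18327 (iv D14287) (iv F64903)
def n18328 : Q := act 8 n14282
theorem D18328 : act 8 n14282 = n18328 := rfl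
theorem F82501 : act 5 n18328 = n14478 := d37_1 D18328 (iv D14478) F52010 (iv F51284) (iv F64906)
def n18329 : Q := act 9 n14283
theorem D18329 : act 9 n14283 = n18329 := rfl
theorem F82507 : act 5 n18329 = n14479 := d38_1 D18329 (iv D14479) (iv F64911)
def n18331 : Q := act 6 n14285
theorem D18331 : act 6 n14285 = n18331 := rfl
theorem F82514 : act 4 n18331 = n14287 := d31_1 D18331 (iv D14287) (iv F64918)
def n18332 : Q := act 8 n14285
theorem D18332 : act 8 n14285 = n18332 := rfl
def n18333 : Q := act 9 n14286
theorem D18333 : act 9 n14286 = n18333 := rfl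
def n18334 : Q := act 8 n14287
theorem D18334 : act 8 n14287 = n18334 := rfl
theorem F82525 : act 2 n18334 = n14294 := d22_1 D18334 (iv D14294) (iv F64924)
def n18337 : Q := act 8 n14290
theorem D18337 : act 8 n14290 = n18337 := rfl
theorem F82541 : act 4 n18337 = n14294 := d33_1 D18337 (iv D14294) (iv F64940)
theorem F82543 : act 6 n18337 = n14291 := d40_1 D18337 (iv D14291) D14290
def n18339 : Q := act 9 n14291
theorem D18339 : act 9 n14291 = n18339 := rfl
theorem F82553 : act 7 n18339 = n14293 := d43_1 D18339 (iv D14293) (iv F64945)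
def n18340 : Q := act 9 n14292
theorem D18340 : act 9 n14292 = n18340 := rfl
def n18341 : Q := act 5 n14294
theorem D18341 : act 5 n14294 = n18341 := rfl
theorem F82562 : act 6 n18341 = n14494 := d35_2 (iv F64956) D18341 (iv D14494) F52068 (iv F51312)
def n18342 : Q := act 9 n14294
theorem D18342 : act 9 n14294 = n18342 := rfl
theorem F82568 : act 6 n18342 = n14295 := d41_1 D18342 (iv D14295) (iv F64956)
def n18343 : Q := act 4 n14296
theorem D18343 : act 4 n14296 = n18343 := rfl
theorem F82574 : act 6 n18343 = n14496 := d31_2 (iv F64966) D18343 (iv D14496)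
def n18344 : Q := act 9 n14296
theorem D18344 : act 9 n14296 = n18344 := rfl
theorem F82580 : act 5 n18344 = n14297 := d38_1 D18344 (iv D14297) D14296
theorem F82581 : act 6 n18344 = n14497 := d41_1 D18344 (iv D14497) (iv F64966)
def n18345 : Q := act 6 n14302
theorem D18345 : act 6 n14302 = n18345 := rfl
theorem F82585 : act 5 n18345 = n14317 := d35_1 D18345 (iv D14317) F51383 (iv F51343) (iv F64991)
def n18346 : Q := act 6 n14304
theorem D18346 : act 6 n14304 = n18346 := rfl
theorem F82589 : act 4 n18346 = n14306 := d31_1 D18346 (iv D14306) (iv F64999)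
def n18347 : Q := act 8 n14306
theorem D18347 : act 8 n14306 = n18347 := rfl
theorem F82593 : act 6 n18347 = n14307 := d40_1 D18347 (iv D14307) D14306
def n18348 : Q := act 5 n14308
theorem D18348 : act 5 n14308 = n18348 := rfl
theorem F82600 : act 8 n18348 = n14326 := d37_2 D14308 D18348 (iv D14326) (iv D11155) (iv F51359)
theorem F82601 : act 9 n18348 = n18348 := d38_2 F65019 D18348 (iv D18348)
def n18349 : Q := act 4 n14309
theorem D18349 : act 4 n14309 = n18349 := rfl
theorem F82602 : act 0 n18349 = n14311 := d3_1 D18349 (iv D14311) (iv F65020)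
def n18350 : Q := act 7 n14309
theorem D18350 : act 7 n14309 = n18350 := rfl
theorem F82605 : act 0 n18350 = n14312 := d6_1 D18350 (iv D14312) (iv F65020)
theorem F82608 : act 5 n18350 = n14310 := d36_1 D18350 (iv D14310) D14309
def n18351 : Q := act 8 n14309
theorem D18351 : act 8 n14309 = n18351 := rfl
def n18352 : Q := act 3 n14311
theorem D18352 : act 3 n14311 = n18352 := rfl
def n18353 : Q := act 7 n14311
theorem D18353 : act 7 n14311 = n18353 := rfl
theorem F82618 : act 1 n18353 = n14315 := d14_1 D18353 (iv D14315) (iv F65028)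
theorem F82620 : act 4 n18353 = n14312 := d32_1 D18353 (iv D14312) D14311
def n18354 : Q := act 8 n14311
theorem D18354 : act 8 n14311 = n18354 := rfl
theorem F82621 : act 1 n18354 = n14316 := d15_1 D18354 (iv D14316) (iv F65028)
def n18355 : Q := act 6 n14312
theorem D18355 : act 6 n14312 = n18355 := rfl
theorem F82625 : act 1 n18355 = n14317 := d13_1 D18355 (iv D14317) (iv F65031)
def n18356 : Q := act 8 n14312
theorem D18356 : act 8 n14312 = n18356 := rfl
theorem F82633 : act 7 n18356 = n14313 := d42_1 D18356 (iv D14313) D14312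
def n18357 : Q := act 9 n14313
theorem D18357 : act 9 n14313 = n18357 := rfl
def n18358 : Q := act 7 n14314
theorem D18358 : act 7 n14314 = n18358 := rfl
theorem F82639 : act 2 n18358 = n14328 := d21_1 D18358 (iv D14328) (iv F65040)
def n18360 : Q := act 6 n14315
theorem D18360 : act 6 n14315 = n18360 := rfl
theorem F82646 : act 2 n18360 = n14320 := d20_1 D18360 (iv D14320) (iv F65043)
theorem F82647 : act 4 n18360 = n14317 := d31_1 D18360 (iv D14317) (iv F65044)
def n18361 : Q := act 8 n14315
theorem D18361 : act 8 n14315 = n18361 := rfl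
theorem F82651 : act 7 n18361 = n14316 := d42_1 D18361 (iv D14316) D14315
def n18362 : Q := act 5 n14316
theorem D18362 : act 5 n14316 = n18362 := rfl
theorem F82652 : act 2 n18362 = n14322 := d19_1 D18362 (iv D14322) (iv F65045)
def n18363 : Q := act 9 n14316
theorem D18363 : act 9 n14316 = n18363 := rfl
def n18364 : Q := act 8 n14317
theorem D18364 : act 8 n14317 = n18364 := rfl
theorem F82657 : act 2 n18364 = n14324 := d22_1 D18364 (iv D14324) (iv F65048)
theorem F82659 : act 6 n18364 = n14318 := d40_1 D18364 (iv D14318) D14317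
def n18365 : Q := act 9 n14318
theorem D18365 : act 9 n14318 = n18365 := rfl
theorem F82664 : act 7 n18365 = n14319 := d43_1 D18365 (iv D14319) (iv F65054)
def n18366 : Q := act 5 n14320
theorem D18366 : act 5 n14320 = n18366 := rfl
def n18367 : Q := act 8 n14320
theorem D18367 : act 8 n14320 = n18367 := rfl
theorem F82670 : act 3 n18367 = n14337 := d28_1 D18367 (iv D14337) (iv F65060)
theorem F82673 : act 6 n18367 = n14321 := d40_1 D18367 (iv D14321) D14320
def n18368 : Q := act 5 n14321
theorem D18368 : act 5 n14321 = n18368 := rfl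
def n18369 : Q := act 9 n14321
theorem D18369 : act 9 n14321 = n18369 := rfl
theorem F82683 : act 7 n18369 = n14323 := d43_1 D18369 (iv D14323) (iv F65066)
def n18371 : Q := act 9 n14322
theorem D18371 : act 9 n14322 = n18371 := rfl
theorem F82690 : act 3 n18371 = n14341 := d29_1 D18371 (iv D14341) (iv F65068)
def n18372 : Q := act 5 n14324
theorem D18372 : act 5 n14324 = n18372 := rfl
theorem F82694 : act 3 n18372 = n14326 := d25_1 D18372 (iv D14326) (iv F65075)
def n18373 : Q := act 9 n14324
theorem D18373 : act 9 n14324 = n18373 := rfl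
theorem F82699 : act 3 n18373 = n14327 := d29_1 D18373 (iv D14327) (iv F65075)
theorem F82700 : act 6 n18373 = n14325 := d41_1 D18373 (iv D14325) (iv F65076)
def n18374 : Q := act 4 n14326
theorem D18374 : act 4 n14326 = n18374 := rfl
theorem F82705 : act 5 n18374 = n14344 := d30_2 D14326 D18374 (iv D14344) (iv D11169) (iv F51408)
def n18375 : Q := act 9 n14326
theorem D18375 : act 9 n14326 = n18375 := rfl
def n18376 : Q := act 6 n14328
theorem D18376 : act 6 n14328 = n18376 := rfl
theorem F82715 : act 3 n18376 = n14330 := d26_1 D18376 (iv D14330) (iv F65092)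
def n18377 : Q := act 8 n14328
theorem D18377 : act 8 n14328 = n18377 := rfl
def n18380 : Q := act 8 n14330
theorem D18380 : act 8 n14330 = n18380 := rfl
theorem F82733 : act 4 n18380 = n14334 := d33_1 D18380 (iv D14334) (iv F65100)
theorem F82735 : act 6 n18380 = n14331 := d40_1 D18380 (iv D14331) D14330
def n18381 : Q := act 5 n14331
theorem D18381 : act 5 n14331 = n18381 := rfl
theorem F82741 : act 7 n18381 = n14332 := d36_2 (iv F65105) D18381 (iv D14332)
def n18382 : Q := act 9 n14331
theorem D18382 : act 9 n14331 = n18382 := rfl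
def n18383 : Q := act 9 n14332
theorem D18383 : act 9 n14332 = n18383 := rfl
def n18384 : Q := act 5 n14334
theorem D18384 : act 5 n14334 = n18384 := rfl
theorem F82751 : act 2 n18384 = n14342 := d19_1 D18384 (iv D14342) (iv F65114)
theorem F82754 : act 6 n18384 = n14506 := d35_2 (iv F65116) D18384 (iv D14506) F52116 (iv F51434)
theorem F82755 : act 7 n18384 = n18384 := d36_2 F65117 D18384 (iv D18384)
def n18385 : Q := act 9 n14334
theorem D18385 : act 9 n14334 = n18385 := rfl
theorem F82760 : act 6 n18385 = n14335 := d41_1 D18385 (iv D14335) (iv F65116)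
def n18386 : Q := act 9 n14337
theorem D18386 : act 9 n14337 = n18386 := rfl
theorem F82763 : act 4 n18386 = n14343 := d34_1 D18386 (iv D14343) (iv F65128)
theorem F82765 : act 6 n18386 = n14339 := d41_1 D18386 (iv D14339) (iv F65130)
def n18387 : Q := act 9 n14338
theorem D18387 : act 9 n14338 = n18387 := rfl
theorem F82769 : act 5 n18387 = n14339 := d38_1 D18387 (iv D14339) D14338
def n18388 : Q := act 9 n14340
theorem D18388 : act 9 n14340 = n18388 := rfl
theorem F82773 : act 4 n18388 = n14510 := d34_1 D18388 (iv D14510) (iv F65140)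
theorem F82775 : act 6 n18388 = n14341 := d41_1 D18388 (iv D14341) D14340
def n18390 : Q := act 9 n14342
theorem D18390 : act 9 n14342 = n18390 := rfl
theorem F82780 : act 3 n18390 = n14345 := d29_1 D18390 (iv D14345) (iv F65147)
theorem F82782 : act 5 n18390 = n14343 := d38_1 D18390 (iv D14343) D14342
theorem F82783 : act 6 n18390 = n14512 := d41_1 D18390 (iv D14512) (iv F65149)
def n18391 : Q := act 9 n14344
theorem D18391 : act 9 n14344 = n18391 := rfl
theorem F82788 : act 4 n18391 = n14345 := d34_1 D18391 (iv D14345) D14344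
theorem F82789 : act 6 n18391 = n14513 := d41_1 D18391 (iv D14513) (iv F65159)
def n18392 : Q := act 8 n14345
theorem D18392 : act 8 n14345 = n18392 := rfl
theorem F82793 : act 6 n18392 = n14514 := d40_1 D18392 (iv D14514) (iv F65165)
def n18393 : Q := act 6 n14349
theorem D18393 : act 6 n14349 = n18393 := rfl
theorem F82798 : act 5 n18393 = n14366 := d35_1 D18393 (iv D14366) F51529 (iv F51478) (iv F65180)
def n18394 : Q := act 6 n14352
theorem D18394 : act 6 n14352 = n18394 := rfl
theorem F82802 : act 4 n18394 = n14354 := d31_1 D18394 (iv D14354) (iv F65192)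
def n18395 : Q := act 8 n14354
theorem D18395 : act 8 n14354 = n18395 := rfl
theorem F82807 : act 6 n18395 = n14355 := d40_1 D18395 (iv D14355) D14354
def n18396 : Q := act 5 n14356
theorem D18396 : act 5 n14356 = n18396 := rfl
theorem F82812 : act 4 n18396 = n14375 := d30_1 D18396 (iv D14375) F51559 (iv F51503) (iv F65211)
def n18397 : Q := act 8 n14356
theorem D18397 : act 8 n14356 = n18397 := rfl
theorem F82817 : act 4 n18397 = n14359 := d33_1 D18397 (iv D14359) (iv F65211)
theorem F82819 : act 6 n18397 = n14357 := d40_1 D18397 (iv D14357) D14356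
def n18398 : Q := act 5 n14359
theorem D18398 : act 5 n14359 = n18398 := rfl
theorem F82827 : act 8 n18398 = n14381 := d37_2 D14359 D18398 (iv D14381) (iv D11196) (iv F51503)
def n18400 : Q := act 7 n14361
theorem D18400 : act 7 n14361 = n18400 := rfl
theorem F82837 : act 0 n18400 = n14364 := d6_1 D18400 (iv D14364) (iv F65233)
theorem F82840 : act 4 n18400 = n14362 := d32_1 D18400 (iv D14362) D14361
def n18401 : Q := act 8 n14361
theorem D18401 : act 8 n14361 = n18401 := rfl
theorem F82841 : act 0 n18401 = n14365 := d7_1 D18401 (iv D14365) (iv F65233)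
def n18402 : Q := act 6 n14362
theorem D18402 : act 6 n14362 = n18402 := rfl
theorem F82846 : act 0 n18402 = n14366 := d5_1 D18402 (iv D14366) (iv F65237)
def n18403 : Q := act 8 n14362
theorem D18403 : act 8 n14362 = n18403 := rfl
theorem F82850 : act 0 n18403 = n14367 := d7_1 D18403 (iv D14367) (iv F65237)
theorem F82854 : act 7 n18403 = n14363 := d42_1 D18403 (iv D14363) D14362
def n18404 : Q := act 9 n14363
theorem D18404 : act 9 n14363 = n18404 := rfl
def n18405 : Q := act 6 n14364
theorem D18405 : act 6 n14364 = n18405 := rfl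
theorem F82860 : act 1 n18405 = n14369 := d13_1 D18405 (iv D14369) (iv F65246)
theorem F82862 : act 4 n18405 = n14366 := d31_1 D18405 (iv D14366) (iv F65248)
def n18406 : Q := act 8 n14364
theorem D18406 : act 8 n14364 = n18406 := rfl
theorem F82864 : act 1 n18406 = n14370 := d15_1 D18406 (iv D14370) (iv F65246)
theorem F82867 : act 7 n18406 = n14365 := d42_1 D18406 (iv D14365) D14364
def n18407 : Q := act 5 n14365
theorem D18407 : act 5 n14365 = n18407 := rfl
theorem F82868 : act 1 n18407 = n14371 := d12_1 D18407 (iv D14371) (iv F65249)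
def n18408 : Q := act 9 n14365
theorem D18408 : act 9 n14365 = n18408 := rfl
def n18409 : Q := act 8 n14366
theorem D18409 : act 8 n14366 = n18409 := rfl
theorem F82875 : act 1 n18409 = n14373 := d15_1 D18409 (iv D14373) (iv F65253)
theorem F82877 : act 6 n18409 = n14367 := d40_1 D18409 (iv D14367) D14366
def n18410 : Q := act 9 n14367
theorem D18410 : act 9 n14367 = n18410 := rfl
theorem F82882 : act 7 n18410 = n14368 := d43_1 D18410 (iv D14368) (iv F65259)
def n18411 : Q := act 5 n14369
theorem D18411 : act 5 n14369 = n18411 := rfl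
def n18412 : Q := act 8 n14369
theorem D18412 : act 8 n14369 = n18412 := rfl
theorem F82889 : act 2 n18412 = n14376 := d22_1 D18412 (iv D14376) (iv F65265)
theorem F82893 : act 6 n18412 = n14370 := d40_1 D18412 (iv D14370) D14369
def n18413 : Q := act 5 n14370
theorem D18413 : act 5 n14370 = n18413 := rfl
def n18414 : Q := act 9 n14370
theorem D18414 : act 9 n14370 = n18414 := rfl
theorem F82905 : act 7 n18414 = n14372 := d43_1 D18414 (iv D14372) (iv F65273)
def n18415 : Q := act 6 n14371
theorem D18415 : act 6 n14371 = n18415 := rfl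
theorem F82907 : act 2 n18415 = n14379 := d20_1 D18415 (iv D14379) (iv F65275)
def n18416 : Q := act 9 n14371
theorem D18416 : act 9 n14371 = n18416 := rfl
theorem F82913 : act 2 n18416 = n14380 := d23_1 D18416 (iv D14380) (iv F65275)
def n18417 : Q := act 5 n14373
theorem D18417 : act 5 n14373 = n18417 := rfl
theorem F82918 : act 2 n18417 = n14381 := d19_1 D18417 (iv D14381) (iv F65284)
def n18418 : Q := act 9 n14373
theorem D18418 : act 9 n14373 = n18418 := rfl
theorem F82924 : act 2 n18418 = n14382 := d23_1 D18418 (iv D14382) (iv F65284)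
theorem F82926 : act 6 n18418 = n14374 := d41_1 D18418 (iv D14374) (iv F65286)
def n18419 : Q := act 9 n14376
theorem D18419 : act 9 n14376 = n18419 := rfl
theorem F82929 : act 3 n18419 = n14385 := d29_1 D18419 (iv D14385) (iv F65298)
theorem F82932 : act 6 n18419 = n14378 := d41_1 D18419 (iv D14378) (iv F65301)
def n18420 : Q := act 9 n14377
theorem D18420 : act 9 n14377 = n18420 := rfl
theorem F82937 : act 5 n18420 = n14378 := d38_1 D18420 (iv D14378) D14377
def n18423 : Q := act 9 n14381
theorem D18423 : act 9 n14381 = n18423 := rfl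
theorem F82950 : act 3 n18423 = n14384 := d29_1 D18423 (iv D14384) (iv F65322)
def n18424 : Q := act 9 n14383
theorem D18424 : act 9 n14383 = n18424 := rfl
theorem F82959 : act 4 n18424 = n14384 := d34_1 D18424 (iv D14384) D14383
theorem F82960 : act 5 n18424 = n14390 := d38_1 D18424 (iv D14390) (iv F65333)
def n18425 : Q := act 8 n14386
theorem D18425 : act 8 n14386 = n18425 := rfl
def n18427 : Q := act 8 n14389
theorem D18427 : act 8 n14389 = n18427 := rfl
theorem F82978 : act 6 n18427 = n14517 := d40_1 D18427 (iv D14517) (iv F65368)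
def n18428 : Q := act 8 n14390
theorem D18428 : act 8 n14390 = n18428 := rfl
theorem F82986 : act 6 n18428 = n14518 := d40_1 D18428 (iv D14518) (iv F65374)
def n18429 : Q := act 6 n14393
theorem D18429 : act 6 n14393 = n18429 := rfl
theorem F82992 : act 5 n18429 = n14411 := d35_1 D18429 (iv D14411) F51719 (iv F51649) (iv F65389)
def n18431 : Q := act 8 n14398
theorem D18431 : act 8 n14398 = n18431 := rfl
theorem F83001 : act 6 n18431 = n14399 := d40_1 D18431 (iv D14399) D14398
def n18434 : Q := act 5 n14403
theorem D18434 : act 5 n14403 = n18434 := rfl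
theorem F83021 : act 8 n18434 = n14439 := d37_2 D14403 D18434 (iv D14439) (iv D11249) (iv F51670)
def n18435 : Q := act 5 n14405
theorem D18435 : act 5 n14405 = n18435 := rfl
theorem F83027 : act 8 n18435 = n14416 := d37_2 D14405 D18435 (iv D14416) (iv D11230) (iv F51678)
def n18436 : Q := act 5 n14406
theorem D18436 : act 5 n14406 = n18436 := rfl
def n18437 : Q := act 6 n14407
theorem D18437 : act 6 n14407 = n18437 := rfl
theorem F83039 : act 8 n18437 = n14443 := d40_2 (iv F65458) D18437 (iv D14443)
def n18438 : Q := act 7 n14408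
theorem D18438 : act 7 n14408 = n18438 := rfl
theorem F83043 : act 2 n18438 = n14521 := d21_1 D18438 (iv D14521) (iv F65998)
theorem F83047 : act 8 n18438 = n14445 := d42_2 (iv F65465) D18438 (iv D14445)
def n18439 : Q := act 4 n14409
theorem D18439 : act 4 n14409 = n18439 := rfl
theorem F83053 : act 8 n18439 = n14418 := d33_2 (iv F65472) D18439 (iv D14418)
def n18441 : Q := act 8 n14411
theorem D18441 : act 8 n14411 = n18441 := rfl
theorem F83063 : act 0 n18441 = n14414 := d7_1 D18441 (iv D14414) (iv F65481)
theorem F83067 : act 6 n18441 = n14412 := d40_1 D18441 (iv D14412) D14411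
def n18442 : Q := act 9 n14412
theorem D18442 : act 9 n14412 = n18442 := rfl
def n18443 : Q := act 5 n14414
theorem D18443 : act 5 n14414 = n18443 := rfl
theorem F83075 : act 1 n18443 = n14416 := d12_1 D18443 (iv D14416) (iv F65498)
def n18444 : Q := act 9 n14414
theorem D18444 : act 9 n14414 = n18444 := rfl
theorem F83079 : act 1 n18444 = n14417 := d16_1 D18444 (iv D14417) (iv F65498)
theorem F83082 : act 6 n18444 = n14415 := d41_1 D18444 (iv D14415) (iv F65501)
def n18446 : Q := act 9 n14416
theorem D18446 : act 9 n14416 = n18446 := rfl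
theorem F83091 : act 2 n18446 = n14419 := d23_1 D18446 (iv D14419) (iv F65509)
def n18447 : Q := act 3 n14418
theorem D18447 : act 3 n14418 = n18447 := rfl
theorem F83099 : act 4 n18447 = n14420 := d24_2 D14418 D18447 (iv D14420) (iv D11234) (iv F51752)
def n18448 : Q := act 9 n14418
theorem D18448 : act 9 n14418 = n18448 := rfl
def n18449 : Q := act 9 n14420
theorem D18449 : act 9 n14420 = n18449 := rfl
theorem F83114 : act 5 n18449 = n14422 := d38_1 D18449 (iv D14422) (iv F65532)
def n18450 : Q := act 8 n14422
theorem D18450 : act 8 n14422 = n18450 := rfl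
theorem F83124 : act 6 n18450 = n14519 := d40_1 D18450 (iv D14519) (iv F65547)
def n18451 : Q := act 8 n14425
theorem D18451 : act 8 n14425 = n18451 := rfl
theorem F83134 : act 7 n18451 = n14426 := d42_1 D18451 (iv D14426) D14425
def n18452 : Q := act 9 n14426
theorem D18452 : act 9 n14426 = n18452 := rfl
theorem F83141 : act 6 n18452 = n14450 := d41_1 D18452 (iv D14450) (iv F65568)
def n18453 : Q := act 9 n14427
theorem D18453 : act 9 n14427 = n18453 := rfl
theorem F83147 : act 7 n18453 = n14428 := d43_1 D18453 (iv D14428) (iv F65574)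
def n18454 : Q := act 8 n14430
theorem D18454 : act 8 n14430 = n18454 := rfl
theorem F83154 : act 7 n18454 = n14431 := d42_1 D18454 (iv D14431) D14430
def n18455 : Q := act 9 n14431
theorem D18455 : act 9 n14431 = n18455 := rfl
theorem F83160 : act 6 n18455 = n14453 := d41_1 D18455 (iv D14453) (iv F65588)
def n18456 : Q := act 5 n14432
theorem D18456 : act 5 n14432 = n18456 := rfl
theorem F83166 : act 7 n18456 = n14433 := d36_2 (iv F65593) D18456 (iv D14433)
theorem F83167 : act 8 n18456 = n14480 := d37_2 D14432 D18456 (iv F80952) F80953 F65402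
def n18457 : Q := act 9 n14432
theorem D18457 : act 9 n14432 = n18457 := rfl
theorem F83172 : act 7 n18457 = n14434 := d43_1 D18457 (iv D14434) (iv F65593)
def n18458 : Q := act 9 n14433
theorem D18458 : act 9 n14433 = n18458 := rfl
theorem F83179 : act 6 n18458 = n14529 := d41_1 D18458 (iv D14529) (iv F65986)
def n18459 : Q := act 5 n14436
theorem D18459 : act 5 n14436 = n18459 := rfl
theorem F83185 : act 7 n18459 = n14437 := d36_2 (iv F65610) D18459 (iv D14437)
theorem F83186 : act 8 n18459 = n14475 := d37_2 D14436 D18459 (iv F80925) F80926 F65420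
theorem F83187 : act 4 n14478 = n18459 := d45_2 F65829 F65830 (iv D18459) F65609 F65610 (iv D11248) F41156 (iv D8806) (iv D6946) (iv D5513) (iv D4409) F15246 F10898 (iv D2213) (iv D1550) (iv D1084) (iv D756) F2783 F1971 (iv D364) (iv F1858) (iv F2630) (iv F3539) F3540 (iv F5016) (iv F7093) D2021 (iv F14022) F14023 F14024 D3019 D4253 D5308 F25510 F25506 F20715 (iv F20751) (iv F25602) F25603 (iv D5334) D5335 F25605 (iv F26460) (iv F32924) D8812 D11255 D14445 (iv F83047) F83043 F66158 F52232 F41513 F33199 (iv D7004) F26681 F26678 F26679 F26680 D7003 (iv F41310) D11283 D14478 F65827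
def n18460 : Q := act 9 n14436
theorem D18460 : act 9 n14436 = n18460 := rfl
theorem F83192 : act 7 n18460 = n14438 := d43_1 D18460 (iv D14438) (iv F65610)
def n18461 : Q := act 9 n14437
theorem D18461 : act 9 n14437 = n18461 := rfl
theorem F83199 : act 6 n18461 = n14524 := d41_1 D18461 (iv D14524) (iv F65982)
def n18463 : Q := act 9 n14439
theorem D18463 : act 9 n14439 = n18463 := rfl
theorem F83209 : act 7 n18463 = n14442 := d43_1 D18463 (iv D14442) (iv F65621)
def n18465 : Q := act 9 n14441
theorem D18465 : act 9 n14441 = n18465 := rfl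
theorem F83223 : act 5 n18465 = n14459 := d38_1 D18465 (iv D14459) (iv F65630)
theorem F83224 : act 6 n18465 = n14442 := d41_1 D18465 (iv D14442) D14441
def n18466 : Q := act 7 n14443
theorem D18466 : act 7 n14443 = n18466 := rfl
theorem F83231 : act 6 n18466 = n14445 := d39_1 D18466 (iv D14445) (iv D11255) (iv F51852) D14443
def n18467 : Q := act 9 n14443
theorem D18467 : act 9 n14443 = n18467 := rfl
def n18468 : Q := act 9 n14445
theorem D18468 : act 9 n14445 = n18468 := rfl
theorem F83243 : act 5 n18468 = n14461 := d38_1 D18468 (iv D14461) (iv F65652)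
def n18469 : Q := act 9 n14448
theorem D18469 : act 9 n14448 = n18469 := rfl
theorem F83250 : act 5 n18469 = n14551 := d38_1 D18469 (iv D14551) F66021
theorem F83251 : act 6 n18469 = n14505 := d41_1 D18469 (iv D14505) (iv F66023)
def n18470 : Q := act 9 n14449
theorem D18470 : act 9 n14449 = n18470 := rfl
theorem F83256 : act 3 n18470 = n14551 := d29_1 D18470 (iv D14551) (iv F66019)
theorem F83257 : act 4 n18470 = n14464 := d34_1 D18470 (iv D14464) (iv F65671)
theorem F83258 : act 5 n18470 = n14450 := d38_1 D18470 (iv D14450) D14449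
theorem F83259 : act 6 n18470 = n14548 := d41_1 D18470 (iv D14548) F66018
def n18471 : Q := act 9 n14451
theorem D18471 : act 9 n14451 = n18471 := rfl
theorem F83265 : act 5 n18471 = n14539 := d38_1 D18471 (iv D14539) (iv F66025)
theorem F83266 : act 6 n18471 = n14493 := d41_1 D18471 (iv D14493) (iv F66026)
def n18472 : Q := act 9 n14452
theorem D18472 : act 9 n14452 = n18472 := rfl
theorem F83270 : act 2 n18472 = n14539 := d23_1 D18472 (iv D14539) (iv F65991)
theorem F83271 : act 3 n18472 = n14455 := d29_1 D18472 (iv D14455) (iv F65684)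
theorem F83273 : act 5 n18472 = n14453 := d38_1 D18472 (iv D14453) D14452
theorem F83274 : act 6 n18472 = n14534 := d41_1 D18472 (iv D14534) F65988
def n18474 : Q := act 9 n14454
theorem D18474 : act 9 n14454 = n18474 := rfl
theorem F83287 : act 3 n18474 = n14534 := d29_1 D18474 (iv D14534) (iv F65992)
theorem F83288 : act 4 n18474 = n14466 := d34_1 D18474 (iv D14466) (iv F65693)
theorem F83289 : act 5 n18474 = n14529 := d38_1 D18474 (iv D14529) F65994
theorem F83290 : act 6 n18474 = n14455 := d41_1 D18474 (iv D14455) D14454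
def n18475 : Q := act 8 n14455
theorem D18475 : act 8 n14455 = n18475 := rfl
theorem F83293 : act 4 n18475 = n14467 := d33_1 D18475 (iv D14467) (iv F65697)
def n18477 : Q := act 9 n14456
theorem D18477 : act 9 n14456 = n18477 := rfl
theorem F83307 : act 3 n18477 = n14459 := d29_1 D18477 (iv D14459) (iv F65702)
theorem F83309 : act 5 n18477 = n14524 := d38_1 D18477 (iv D14524) (iv F66031)
theorem F83310 : act 6 n18477 = n14457 := d41_1 D18477 (iv D14457) D14456
def n18478 : Q := act 8 n14457
theorem D18478 : act 8 n14457 = n18478 := rfl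
def n18480 : Q := act 8 n14459
theorem D18480 : act 8 n14459 = n18480 := rfl
theorem F83324 : act 4 n18480 = n14469 := d33_1 D18480 (iv D14469) (iv F65718)
theorem F83326 : act 6 n18480 = n14460 := d40_1 D18480 (iv D14460) (iv F65719)
def n18481 : Q := act 8 n14461
theorem D18481 : act 8 n14461 = n18481 := rfl
theorem F83334 : act 7 n18481 = n14462 := d42_1 D18481 (iv D14462) (iv F65730)
def n18482 : Q := act 7 n14463
theorem D18482 : act 7 n14463 = n18482 := rfl
theorem F83336 : act 0 n18482 = n14465 := d6_1 D18482 (iv D14465) (iv F65738)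
theorem F83338 : act 2 n18482 = n18482 := d21_1 D18482 (iv D18482) F65740
theorem F83339 : act 3 n18482 = n18482 := d27_1 D18482 (iv D18482) F65741
theorem F83340 : act 4 n18482 = n14546 := d32_1 D18482 F66302 (iv F66020)
def n18483 : Q := act 9 n14463
theorem D18483 : act 9 n14463 = n18483 := rfl
theorem F83344 : act 0 n18483 = n14466 := d8_1 D18483 (iv D14466) (iv F65738)
theorem F83348 : act 4 n18483 = n14548 := d34_1 D18483 (iv D14548) (iv F66020)
theorem F83350 : act 6 n18483 = n14464 := d41_1 D18483 (iv D14464) D14463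
def n18484 : Q := act 8 n14464
theorem D18484 : act 8 n14464 = n18484 := rfl
theorem F83355 : act 5 n18484 = n18484 := d37_1 D18484 (iv D18484) F65748 F51949 (iv F65748)
def n18485 : Q := act 9 n14465
theorem D18485 : act 9 n14465 = n18485 := rfl
theorem F83363 : act 7 n18485 = n14466 := d43_1 D18485 (iv D14466) D14465
def n18486 : Q := act 8 n14466
theorem D18486 : act 8 n14466 = n18486 := rfl
theorem F83364 : act 1 n18486 = n14469 := d15_1 D18486 (iv D14469) (iv F65756)
theorem F83367 : act 6 n18486 = n14467 := d40_1 D18486 (iv D14467) (iv F65760)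
def n18493 : Q := act 8 n14477
theorem D18493 : act 8 n14477 = n18493 := rfl
theorem F83411 : act 1 n18493 = n14486 := d15_1 D18493 (iv D14486) (iv F65821)
theorem F83414 : act 6 n18493 = n14478 := d40_1 D18493 (iv D14478) D14477
def n18494 : Q := act 9 n14478
theorem D18494 : act 9 n14478 = n18494 := rfl
def n18498 : Q := act 9 n14483
theorem D18498 : act 9 n14483 = n18498 := rfl
theorem F83443 : act 7 n18498 = n14485 := d43_1 D18498 (iv D14485) (iv F65856)
def n18499 : Q := act 5 n14486
theorem D18499 : act 5 n14486 = n18499 := rfl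
theorem F83446 : act 2 n18499 = n14494 := d19_1 D18499 (iv D14494) (iv F65865)
def n18500 : Q := act 9 n14486
theorem D18500 : act 9 n14486 = n18500 := rfl
theorem F83454 : act 6 n18500 = n14487 := d41_1 D18500 (iv D14487) (iv F65867)
def n18501 : Q := act 9 n14489
theorem D18501 : act 9 n14489 = n18501 := rfl
theorem F83460 : act 4 n18501 = n14495 := d34_1 D18501 (iv D14495) (iv F65884)
theorem F83462 : act 6 n18501 = n14491 := d41_1 D18501 (iv D14491) (iv F65886)
def n18503 : Q := act 8 n14493
theorem D18503 : act 8 n14493 = n18503 := rfl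
def n18504 : Q := act 9 n14494
theorem D18504 : act 9 n14494 = n18504 := rfl
theorem F83477 : act 3 n18504 = n14497 := d29_1 D18504 (iv D14497) (iv F65910)
theorem F83479 : act 5 n18504 = n14495 := d38_1 D18504 (iv D14495) D14494
def n18505 : Q := act 9 n14496
theorem D18505 : act 9 n14496 = n18505 := rfl
theorem F83481 : act 0 n18505 = n14513 := d8_1 D18505 (iv D14513) (iv F65920)
theorem F83485 : act 4 n18505 = n14497 := d34_1 D18505 (iv D14497) D14496
theorem F83487 : act 7 n18505 = n14542 := d43_1 D18505 (iv D14542) (iv F65925)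
def n18506 : Q := act 8 n14497
theorem D18506 : act 8 n14497 = n18506 := rfl
def n18508 : Q := act 8 n14498
theorem D18508 : act 8 n14498 = n18508 := rfl
theorem F83501 : act 2 n18508 = n18508 := d22_1 D18508 (iv D18508) F65933
theorem F83502 : act 3 n18508 = n14502 := d28_1 D18508 (iv D14502) (iv F65934)
theorem F83506 : act 7 n18508 = n14545 := d42_1 D18508 (iv D14545) (iv F65936)
def n18509 : Q := act 9 n14499
theorem D18509 : act 9 n14499 = n18509 := rfl
theorem F83511 : act 7 n18509 = n14500 := d43_1 D18509 (iv D14500) (iv F65942)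
def n18510 : Q := act 9 n14502
theorem D18510 : act 9 n14502 = n18510 := rfl
theorem F83515 : act 4 n18510 = n14507 := d34_1 D18510 (iv D14507) (iv F66054)
def n18511 : Q := act 9 n14503
theorem D18511 : act 9 n14503 = n18511 := rfl
theorem F83524 : act 7 n18511 = n14505 := d43_1 D18511 (iv D14505) (iv F66061)
def n18512 : Q := act 8 n14505
theorem D18512 : act 8 n14505 = n18512 := rfl
def n18513 : Q := act 9 n14506
theorem D18513 : act 9 n14506 = n18513 := rfl
theorem F83529 : act 2 n18513 = n14512 := d23_1 D18513 (iv D14512) (iv F66071)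
theorem F83532 : act 5 n18513 = n14507 := d38_1 D18513 (iv D14507) D14506
def n18514 : Q := act 8 n14509
theorem D18514 : act 8 n14509 = n18514 := rfl
def n18516 : Q := act 8 n14512
theorem D18516 : act 8 n14512 = n18516 := rfl
theorem F83544 : act 3 n18516 = n14514 := d28_1 D18516 (iv D14514) (iv F66103)
def n18517 : Q := act 8 n14513
theorem D18517 : act 8 n14513 = n18517 := rfl
theorem F83549 : act 1 n18517 = n14518 := d15_1 D18517 (iv D14518) (iv F66107)
theorem F83552 : act 4 n18517 = n14514 := d33_1 D18517 (iv D14514) (iv F66110)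
theorem F83553 : act 7 n18517 = n14557 := d42_1 D18517 (iv D14557) (iv F66112)
def n18532 : Q := act 8 n14534
theorem D18532 : act 8 n14534 = n18532 := rfl
theorem F83645 : act 2 n18532 = n14540 := d22_1 D18532 (iv D14540) (iv F66227)
def n18535 : Q := act 8 n14539
theorem D18535 : act 8 n14539 = n18535 := rfl
theorem F83667 : act 6 n18535 = n14540 := d40_1 D18535 (iv D14540) (iv F66259)
def n18537 : Q := act 8 n14542
theorem D18537 : act 8 n14542 = n18537 := rfl
def n18539 : Q := act 9 n14545
theorem D18539 : act 9 n14545 = n18539 := rfl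
theorem F83696 : act 6 n18539 = n14547 := d41_1 D18539 (iv D14547) (iv F66297)
def n18540 : Q := act 9 n14546
theorem D18540 : act 9 n14546 = n18540 := rfl
theorem F83701 : act 5 n18540 = n14547 := d38_1 D18540 (iv D14547) D14546
def n18541 : Q := act 8 n14548
theorem D18541 : act 8 n14548 = n18541 := rfl
theorem F83706 : act 3 n18541 = n14552 := d28_1 D18541 (iv D14552) (iv F66312)
def n18543 : Q := act 8 n14551
theorem D18543 : act 8 n14551 = n18543 := rfl
theorem F83717 : act 2 n18543 = n14555 := d22_1 D18543 (iv D14555) (iv F66327)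
theorem F83719 : act 6 n18543 = n14552 := d40_1 D18543 (iv D14552) (iv F66329)
def n18551 : Q := act 7 n14562
theorem D18551 : act 7 n14562 = n18551 := rfl
theorem F83769 : act 0 n18551 = n18551 := d6_1 D18551 (iv D18551) F66392
theorem F83770 : act 1 n18551 = n14618 := d14_1 D18551 (iv D14618) (iv F66393)
theorem F83772 : act 3 n18551 = n18551 := d27_1 D18551 (iv D18551) F66395
theorem F83773 : act 4 n18551 = n17606 := d32_1 D18551 (iv D17606) (iv F66396)
theorem F83774 : act 5 n18551 = n14563 := d36_1 D18551 (iv D14563) D14562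
theorem F83775 : act 9 n18551 = n18551 := d43_2 F66398 D18551 (iv D18551)
def n18552 : Q := act 8 n14562
theorem D18552 : act 8 n14562 = n18552 := rfl
theorem F83776 : act 0 n18552 = n18552 := d7_1 D18552 (iv D18552) F66392
theorem F83777 : act 1 n18552 = n14619 := d15_1 D18552 (iv D14619) (iv F66393)
theorem F83779 : act 3 n18552 = n18552 := d28_1 D18552 (iv D18552) F66395
theorem F83781 : act 5 n18552 = n14577 := d37_1 D18552 (iv D14577) (iv D11387) (iv F52497) D14562
theorem F83782 : act 6 n18552 = n17619 := d40_1 D18552 (iv D17619) (iv F66397)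
def n18553 : Q := act 1 n14564
theorem D18553 : act 1 n14564 = n18553 := rfl
theorem F83783 : act 2 n18553 = n14631 := d9_2 D14564 D18553 (iv D14631) (iv D11428) (iv F52508)
theorem F83785 : act 4 n18553 = n17602 := d11_2 (iv F66409) D18553 (iv D17602)
theorem F83787 : act 7 n18553 = n17596 := d14_2 (iv F66411) D18553 (iv D17596)
theorem F83788 : act 8 n18553 = n17156 := d15_2 (iv F66412) D18553 (iv D17156)
def n18554 : Q := act 6 n14564
theorem D18554 : act 6 n14564 = n18554 := rfl
theorem F83793 : act 4 n18554 = n17603 := d31_1 D18554 (iv D17603) (iv F66409)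
theorem F83794 : act 5 n18554 = n18554 := d35_1 D18554 (iv D18554) F66410 F52532 (iv F66410)
theorem F83795 : act 8 n18554 = n17157 := d40_2 (iv F66412) D18554 (iv D17157)
def n18555 : Q := act 7 n14565
theorem D18555 : act 7 n14565 = n18555 := rfl
theorem F83797 : act 0 n18555 = n18555 := d6_1 D18555 (iv D18555) F66414
theorem F83798 : act 1 n18555 = n14633 := d14_1 D18555 (iv D14633) (iv F66415)
theorem F83799 : act 3 n18555 = n14566 := d27_1 D18555 (iv D14566) (iv F66416)
theorem F83800 : act 4 n18555 = n17605 := d32_1 D18555 (iv D17605) (iv F66417)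
theorem F83801 : act 5 n18555 = n18555 := d36_1 D18555 (iv D18555) F66418
theorem F83802 : act 6 n18555 = n17599 := d39_1 D18555 (iv D17599) (iv D13643) (iv F52511) D14565
theorem F83803 : act 8 n18555 = n17159 := d42_2 (iv F66419) D18555 (iv D17159)
theorem F83804 : act 9 n18555 = n18555 := d43_2 F66420 D18555 (iv D18555)
def n18557 : Q := act 3 n14568
theorem D18557 : act 3 n14568 = n18557 := rfl
theorem F83813 : act 0 n18557 = n14570 := d2_1 D18557 (iv D14570) (iv F66436)
theorem F83819 : act 9 n18557 = n14578 := d29_2 (iv F66442) D18557 (iv D14578)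
def n18558 : Q := act 6 n14568
theorem D18558 : act 6 n14568 = n18558 := rfl
theorem F83820 : act 0 n18558 = n14571 := d5_1 D18558 (iv D14571) (iv F66436)
theorem F83821 : act 1 n18558 = n18558 := d13_1 D18558 (iv D18558) F66437
theorem F83822 : act 2 n18558 = n14643 := d20_1 D18558 (iv D14643) (iv F66438)
theorem F83823 : act 4 n18558 = n14569 := d31_1 D18558 (iv D14569) D14568
theorem F83824 : act 8 n18558 = n15247 := d40_2 (iv F66441) D18558 (iv D15247)
theorem F83825 : act 9 n18558 = n14579 := d41_2 (iv F66442) D18558 (iv D14579)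
def n18559 : Q := act 7 n14569
theorem D18559 : act 7 n14569 = n18559 := rfl
theorem F83826 : act 0 n18559 = n14572 := d6_1 D18559 (iv D14572) (iv F66443)
theorem F83827 : act 1 n18559 = n18559 := d14_1 D18559 (iv D18559) F66444
theorem F83828 : act 2 n18559 = n14644 := d21_1 D18559 (iv D14644) (iv F66445)
theorem F83829 : act 3 n18559 = n18559 := d27_1 D18559 (iv D18559) F66446
theorem F83830 : act 5 n18559 = n17223 := d36_1 D18559 (iv D17223) (iv F66447)
theorem F83831 : act 6 n18559 = n18559 := d39_1 D18559 (iv D18559) (iv D14569) F52540 D14569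
theorem F83832 : act 8 n18559 = n15248 := d42_2 (iv F66448) D18559 (iv D15248)
theorem F83833 : act 9 n18559 = n14580 := d43_2 (iv F66449) D18559 (iv D14580)
def n18560 : Q := act 2 n14570
theorem D18560 : act 2 n14570 = n18560 := rfl
theorem F83835 : act 3 n18560 = n14650 := d17_2 D14570 D18560 (iv D14650) (iv D11442) (iv F52544)
theorem F83840 : act 9 n18560 = n14581 := d23_2 (iv F66455) D18560 (iv D14581)
def n18561 : Q := act 6 n14570
theorem D18561 : act 6 n14570 = n18561 := rfl
theorem F83841 : act 1 n18561 = n14573 := d13_1 D18561 (iv D14573) (iv F66450)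
theorem F83842 : act 3 n18561 = n14571 := d26_1 D18561 (iv D14571) D14570
theorem F83843 : act 4 n18561 = n18561 := d31_1 D18561 (iv D18561) F66451
theorem F83844 : act 8 n18561 = n16409 := d40_2 (iv F66454) D18561 (iv D16409)
theorem F83845 : act 9 n18561 = n14582 := d41_2 (iv F66455) D18561 (iv D14582)
def n18562 : Q := act 5 n14571
theorem D18562 : act 5 n14571 = n18562 := rfl
theorem F83846 : act 1 n18562 = n14574 := d12_1 D18562 (iv D14574) (iv F66456)
theorem F83847 : act 2 n18562 = n14652 := d19_1 D18562 (iv D14652) (iv F66457)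
theorem F83848 : act 4 n18562 = n17268 := d30_1 D18562 (iv D17268) F61081 (iv F52552) (iv F66458)
theorem F83849 : act 6 n18562 = n18562 := d35_2 D14571 D18562 (iv D18562) (iv D14571) F52545
theorem F83850 : act 9 n18562 = n14583 := d38_2 (iv F66460) D18562 (iv D14583)
def n18563 : Q := act 7 n14571
theorem D18563 : act 7 n14571 = n18563 := rfl
theorem F83851 : act 1 n18563 = n14575 := d14_1 D18563 (iv D14575) (iv F66456)
theorem F83852 : act 2 n18563 = n14653 := d21_1 D18563 (iv D14653) (iv F66457)
theorem F83853 : act 4 n18563 = n14572 := d32_1 D18563 (iv D14572) (iv F66458)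
theorem F83854 : act 6 n18563 = n18563 := d39_1 D18563 (iv D18563) (iv D14571) F52546 D14571
theorem F83855 : act 8 n18563 = n16411 := d42_2 (iv F66459) D18563 (iv D16411)
theorem F83856 : act 9 n18563 = n14584 := d43_2 (iv F66460) D18563 (iv D14584)
def n18564 : Q := act 5 n14573
theorem D18564 : act 5 n14573 = n18564 := rfl
theorem F83857 : act 0 n18564 = n18564 := d4_1 D18564 (iv D18564) F66468
theorem F83858 : act 2 n18564 = n18564 := d19_1 D18564 (iv D18564) F66469
theorem F83859 : act 3 n18564 = n14574 := d25_1 D18564 (iv D14574) (iv F66470)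
theorem F83860 : act 6 n18564 = n18564 := d35_2 D14573 D18564 (iv D18564) (iv D14573) F52558
theorem F83861 : act 9 n18564 = n14585 := d38_2 (iv F66473) D18564 (iv D14585)
def n18565 : Q := act 7 n14573
theorem D18565 : act 7 n14573 = n18565 := rfl
theorem F83862 : act 0 n18565 = n18565 := d6_1 D18565 (iv D18565) F66468
theorem F83863 : act 2 n18565 = n18565 := d21_1 D18565 (iv D18565) F66469
theorem F83864 : act 3 n18565 = n14575 := d27_1 D18565 (iv D14575) (iv F66470)
theorem F83865 : act 4 n18565 = n18565 := d32_1 D18565 (iv D18565) F66471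
theorem F83866 : act 6 n18565 = n18565 := d39_1 D18565 (iv D18565) (iv D14573) F52559 D14573
theorem F83867 : act 8 n18565 = n17684 := d42_2 (iv F66472) D18565 (iv D17684)
theorem F83868 : act 9 n18565 = n14586 := d43_2 (iv F66473) D18565 (iv D14586)
def n18566 : Q := act 7 n14574
theorem D18566 : act 7 n14574 = n18566 := rfl
theorem F83869 : act 0 n18566 = n18566 := d6_1 D18566 (iv D18566) F66474
theorem F83870 : act 2 n18566 = n14576 := d21_1 D18566 (iv D14576) (iv F66475)
theorem F83871 : act 4 n18566 = n17333 := d32_1 D18566 (iv D17333) (iv F66476)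
theorem F83872 : act 5 n18566 = n14575 := d36_1 D18566 (iv D14575) D14574
theorem F83873 : act 9 n18566 = n14587 := d43_2 (iv F66478) D18566 (iv D14587)
def n18567 : Q := act 8 n14574
theorem D18567 : act 8 n14574 = n18567 := rfl
theorem F83874 : act 0 n18567 = n18567 := d7_1 D18567 (iv D18567) F66474
theorem F83875 : act 2 n18567 = n14577 := d22_1 D18567 (iv D14577) (iv F66475)
theorem F83876 : act 4 n18567 = n17334 := d33_1 D18567 (iv D17334) (iv F66476)
theorem F83877 : act 5 n18567 = n17686 := d37_1 D18567 (iv D17686) (iv D13706) (iv F52565) D14574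
theorem F83878 : act 6 n18567 = n18567 := d40_1 D18567 (iv D18567) F66477
def n18568 : Q := act 6 n14576
theorem D18568 : act 6 n14576 = n18568 := rfl
theorem F83879 : act 0 n18568 = n18568 := d5_1 D18568 (iv D18568) F66485
theorem F83880 : act 1 n18568 = n14681 := d13_1 D18568 (iv D14681) (iv F66486)
theorem F83881 : act 3 n18568 = n18568 := d26_1 D18568 (iv D18568) F66487
theorem F83882 : act 4 n18568 = n17415 := d31_1 D18568 (iv D17415) (iv F66488)
theorem F83883 : act 5 n18568 = n18568 := d35_1 D18568 (iv D18568) F66489 F52584 (iv F66489)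
theorem F83884 : act 7 n18568 = n18568 := d39_2 D14576 D18568 (iv D18568) (iv D14576) F52578
theorem F83885 : act 9 n18568 = n14589 := d41_2 (iv F66490) D18568 (iv D14589)
def n18569 : Q := act 8 n14576
theorem D18569 : act 8 n14576 = n18569 := rfl
theorem F83886 : act 0 n18569 = n18569 := d7_1 D18569 (iv D18569) F66485
theorem F83887 : act 1 n18569 = n14682 := d15_1 D18569 (iv D14682) (iv F66486)
theorem F83888 : act 3 n18569 = n18569 := d28_1 D18569 (iv D18569) F66487
theorem F83889 : act 4 n18569 = n17416 := d33_1 D18569 (iv D17416) (iv F66488)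
theorem F83890 : act 7 n18569 = n14577 := d42_1 D18569 (iv D14577) D14576
def n18570 : Q := act 9 n14577
theorem D18570 : act 9 n14577 = n18570 := rfl
theorem F83891 : act 0 n18570 = n18570 := d8_1 D18570 (iv D18570) F66491
theorem F83892 : act 1 n18570 = n14683 := d16_1 D18570 (iv D14683) (iv F66492)
theorem F83893 : act 3 n18570 = n18570 := d29_1 D18570 (iv D18570) F66493
theorem F83895 : act 6 n18570 = n18570 := d41_1 D18570 (iv D18570) F66495
theorem F83896 : act 8 n18570 = n14591 := d44_1 D18570 (iv D14591) (iv D11398) (iv F52579) D14577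
def n18571 : Q := act 2 n14578
theorem D18571 : act 2 n14578 = n18571 := rfl
theorem F83897 : act 0 n18571 = n14581 := d1_1 D18571 (iv D14581) (iv F66496)
theorem F83898 : act 3 n18571 = n14695 := d17_2 D14578 D18571 (iv D14695) (iv D11476) (iv F52588)
def n18572 : Q := act 6 n14578
theorem D18572 : act 6 n14578 = n18572 := rfl
theorem F83903 : act 0 n18572 = n14582 := d5_1 D18572 (iv D14582) (iv F66496)
theorem F83904 : act 1 n18572 = n18572 := d13_1 D18572 (iv D18572) F66497
theorem F83905 : act 3 n18572 = n14579 := d26_1 D18572 (iv D14579) D14578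
theorem F83906 : act 4 n18572 = n18572 := d31_1 D18572 (iv D18572) F66498
theorem F83907 : act 8 n18572 = n18572 := d40_2 F66501 D18572 (iv D18572)
def n18573 : Q := act 5 n14579
theorem D18573 : act 5 n14579 = n18573 := rfl
theorem F83908 : act 0 n18573 = n14583 := d4_1 D18573 (iv D14583) (iv F66502)
theorem F83909 : act 1 n18573 = n18573 := d12_1 D18573 (iv D18573) F66503
theorem F83910 : act 2 n18573 = n14697 := d19_1 D18573 (iv D14697) (iv F66504)
theorem F83911 : act 4 n18573 = n17226 := d30_1 D18573 (iv D17226) F60961 (iv F52596) (iv F66505)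
theorem F83912 : act 6 n18573 = n18573 := d35_2 D14579 D18573 (iv D18573) (iv D14579) F52589
def n18574 : Q := act 7 n14579
theorem D18574 : act 7 n14579 = n18574 := rfl
theorem F83913 : act 0 n18574 = n14584 := d6_1 D18574 (iv D14584) (iv F66502)
theorem F83914 : act 1 n18574 = n18574 := d14_1 D18574 (iv D18574) F66503
theorem F83915 : act 2 n18574 = n14698 := d21_1 D18574 (iv D14698) (iv F66504)
theorem F83916 : act 4 n18574 = n14580 := d32_1 D18574 (iv D14580) (iv F66505)
theorem F83917 : act 6 n18574 = n18574 := d39_1 D18574 (iv D18574) (iv D14579) F52590 D14579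
theorem F83918 : act 8 n18574 = n18574 := d42_2 F66506 D18574 (iv D18574)
def n18575 : Q := act 6 n14581
theorem D18575 : act 6 n14581 = n18575 := rfl
theorem F83919 : act 1 n18575 = n18575 := d13_1 D18575 (iv D18575) F66514
theorem F83920 : act 2 n18575 = n14582 := d20_1 D18575 (iv D14582) D14581
theorem F83921 : act 3 n18575 = n14703 := d26_1 D18575 (iv D14703) (iv F66515)
theorem F83922 : act 4 n18575 = n18575 := d31_1 D18575 (iv D18575) F66516
theorem F83923 : act 8 n18575 = n18575 := d40_2 F66519 D18575 (iv D18575)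
def n18576 : Q := act 5 n14582
theorem D18576 : act 5 n14582 = n18576 := rfl
theorem F83924 : act 1 n18576 = n14585 := d12_1 D18576 (iv D14585) (iv F66520)
theorem F83925 : act 3 n18576 = n14583 := d25_1 D18576 (iv D14583) (iv F66521)
theorem F83926 : act 6 n18576 = n18576 := d35_2 D14582 D18576 (iv D18576) (iv D14582) F52600
def n18577 : Q := act 7 n14582
theorem D18577 : act 7 n14582 = n18577 := rfl
theorem F83927 : act 1 n18577 = n14586 := d14_1 D18577 (iv D14586) (iv F66520)
theorem F83928 : act 3 n18577 = n14584 := d27_1 D18577 (iv D14584) (iv F66521)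
theorem F83929 : act 4 n18577 = n18577 := d32_1 D18577 (iv D18577) F66522
theorem F83930 : act 6 n18577 = n18577 := d39_1 D18577 (iv D18577) (iv D14582) F52601 D14582
theorem F83931 : act 8 n18577 = n18577 := d42_2 F66523 D18577 (iv D18577)
def n18578 : Q := act 7 n14583
theorem D18578 : act 7 n14583 = n18578 := rfl
theorem F83932 : act 1 n18578 = n14587 := d14_1 D18578 (iv D14587) (iv F66524)
theorem F83933 : act 2 n18578 = n14706 := d21_1 D18578 (iv D14706) (iv F66525)
theorem F83934 : act 4 n18578 = n17274 := d32_1 D18578 (iv D17274) (iv F66526)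
theorem F83935 : act 5 n18578 = n14584 := d36_1 D18578 (iv D14584) D14583
def n18579 : Q := act 8 n14583
theorem D18579 : act 8 n14583 = n18579 := rfl
theorem F83936 : act 1 n18579 = n14588 := d15_1 D18579 (iv D14588) (iv F66524)
theorem F83937 : act 2 n18579 = n14707 := d22_1 D18579 (iv D14707) (iv F66525)
theorem F83938 : act 4 n18579 = n17275 := d33_1 D18579 (iv D17275) (iv F66526)
theorem F83939 : act 5 n18579 = n18579 := d37_1 D18579 (iv D18579) (iv D14583) F52606 D14583
theorem F83940 : act 6 n18579 = n18579 := d40_1 D18579 (iv D18579) F66527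
def n18580 : Q := act 4 n14585
theorem D18580 : act 4 n14585 = n18580 := rfl
theorem F83941 : act 0 n18580 = n18580 := d3_1 D18580 (iv D18580) F66533
theorem F83942 : act 2 n18580 = n18580 := d18_1 D18580 (iv D18580) F66534
theorem F83943 : act 3 n18580 = n17339 := d24_1 D18580 (iv D17339) F61249 (iv F52620) (iv F66535)
theorem F83944 : act 5 n18580 = n18580 := d30_2 D14585 D18580 (iv D18580) (iv D14585) F52616
theorem F83945 : act 6 n18580 = n18580 := d31_2 F66536 D18580 (iv D18580)
def n18581 : Q := act 7 n14585
theorem D18581 : act 7 n14585 = n18581 := rfl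
theorem F83946 : act 0 n18581 = n18581 := d6_1 D18581 (iv D18581) F66533
theorem F83947 : act 2 n18581 = n18581 := d21_1 D18581 (iv D18581) F66534
theorem F83948 : act 3 n18581 = n14587 := d27_1 D18581 (iv D14587) (iv F66535)
theorem F83949 : act 5 n18581 = n14586 := d36_1 D18581 (iv D14586) D14585
def n18582 : Q := act 8 n14585
theorem D18582 : act 8 n14585 = n18582 := rfl
theorem F83950 : act 0 n18582 = n18582 := d7_1 D18582 (iv D18582) F66533
theorem F83951 : act 2 n18582 = n18582 := d22_1 D18582 (iv D18582) F66534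
theorem F83952 : act 3 n18582 = n14588 := d28_1 D18582 (iv D14588) (iv F66535)
theorem F83953 : act 5 n18582 = n18582 := d37_1 D18582 (iv D18582) (iv D14585) F52617 D14585
theorem F83954 : act 6 n18582 = n18582 := d40_1 D18582 (iv D18582) F66536
def n18583 : Q := act 6 n14587
theorem D18583 : act 6 n14587 = n18583 := rfl
theorem F83955 : act 0 n18583 = n18583 := d5_1 D18583 (iv D18583) F66543
theorem F83956 : act 2 n18583 = n14589 := d20_1 D18583 (iv D14589) (iv F66544)
theorem F83957 : act 4 n18583 = n17342 := d31_1 D18583 (iv D17342) (iv F66545)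
theorem F83958 : act 5 n18583 = n18583 := d35_1 D18583 (iv D18583) F66546 F52625 (iv F66546)
theorem F83959 : act 7 n18583 = n18583 := d39_2 D14587 D18583 (iv D18583) (iv D14587) F52621
def n18584 : Q := act 8 n14587
theorem D18584 : act 8 n14587 = n18584 := rfl
theorem F83960 : act 0 n18584 = n18584 := d7_1 D18584 (iv D18584) F66543
theorem F83961 : act 2 n18584 = n14590 := d22_1 D18584 (iv D14590) (iv F66544)
theorem F83962 : act 4 n18584 = n17343 := d33_1 D18584 (iv D17343) (iv F66545)
theorem F83963 : act 5 n18584 = n18584 := d37_1 D18584 (iv D18584) F66546 F52626 (iv F66546)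
theorem F83964 : act 7 n18584 = n14588 := d42_1 D18584 (iv D14588) D14587
def n18585 : Q := act 9 n14588
theorem D18585 : act 9 n14588 = n18585 := rfl
theorem F83965 : act 0 n18585 = n18585 := d8_1 D18585 (iv D18585) F66547
theorem F83966 : act 2 n18585 = n14591 := d23_1 D18585 (iv D14591) (iv F66548)
theorem F83967 : act 4 n18585 = n17344 := d34_1 D18585 (iv D17344) (iv F66549)
theorem F83968 : act 5 n18585 = n18585 := d38_1 D18585 (iv D18585) F66550
theorem F83969 : act 6 n18585 = n18585 := d41_1 D18585 (iv D18585) F66551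
def n18586 : Q := act 8 n14589
theorem D18586 : act 8 n14589 = n18586 := rfl
theorem F83970 : act 0 n18586 = n18586 := d7_1 D18586 (iv D18586) F66552
theorem F83971 : act 1 n18586 = n14729 := d15_1 D18586 (iv D14729) (iv F66553)
theorem F83972 : act 3 n18586 = n18586 := d28_1 D18586 (iv D18586) F66554
theorem F83974 : act 6 n18586 = n14590 := d40_1 D18586 (iv D14590) D14589
theorem F83975 : act 7 n18586 = n18586 := d42_1 D18586 (iv D18586) F66557
def n18587 : Q := act 9 n14590
theorem D18587 : act 9 n14590 = n18587 := rfl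
theorem F83976 : act 0 n18587 = n18587 := d8_1 D18587 (iv D18587) F66558
theorem F83977 : act 1 n18587 = n14730 := d16_1 D18587 (iv D14730) (iv F66559)
theorem F83978 : act 3 n18587 = n18587 := d29_1 D18587 (iv D18587) F66560
theorem F83980 : act 5 n18587 = n18587 := d38_1 D18587 (iv D18587) F66562
theorem F83981 : act 7 n18587 = n14591 := d43_1 D18587 (iv D14591) (iv F66563)
def n18588 : Q := act 6 n14592
theorem D18588 : act 6 n14592 = n18588 := rfl
theorem F83985 : act 3 n18588 = n14593 := d26_1 D18588 (iv D14593) D14592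
def n18589 : Q := act 5 n14593
theorem D18589 : act 5 n14593 = n18589 := rfl
theorem F83989 : act 0 n18589 = n15506 := d4_1 D18589 (iv D15506) (iv F66578)
theorem F83990 : act 1 n18589 = n16359 := d12_1 D18589 (iv D16359) (iv F66579)
theorem F83991 : act 2 n18589 = n14595 := d19_1 D18589 (iv D14595) (iv F66580)
theorem F83992 : act 4 n18589 = n16309 := d30_1 D18589 (iv D16309) F58158 (iv F52649) (iv F66581)
theorem F83993 : act 6 n18589 = n14609 := d35_2 D14593 D18589 (iv D14609) (iv D11411) (iv F52641)
theorem F83994 : act 9 n18589 = n18589 := d38_2 F66583 D18589 (iv D18589)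
def n18590 : Q := act 7 n14593
theorem D18590 : act 7 n14593 = n18590 := rfl
theorem F83998 : act 4 n18590 = n14594 := d32_1 D18590 (iv D14594) (iv F66581)
def n18591 : Q := act 7 n14595
theorem D18591 : act 7 n14595 = n18591 := rfl
theorem F84002 : act 0 n18591 = n15512 := d6_1 D18591 (iv D15512) (iv F66592)
theorem F84005 : act 4 n18591 = n17547 := d32_1 D18591 (iv D17547) (iv F66595)
def n18592 : Q := act 8 n14595
theorem D18592 : act 8 n14595 = n18592 := rfl
theorem F84008 : act 0 n18592 = n15513 := d7_1 D18592 (iv D15513) (iv F66592)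
theorem F84009 : act 1 n18592 = n17619 := d15_1 D18592 (iv D17619) (iv F66593)
theorem F84010 : act 3 n18592 = n18592 := d28_1 D18592 (iv D18592) F66594
theorem F84012 : act 5 n18592 = n18592 := d37_1 D18592 (iv D18592) (iv D14595) F52656 D14595
theorem F84013 : act 6 n18592 = n14619 := d40_1 D18592 (iv D14619) (iv F66596)
def n18593 : Q := act 0 n14597
theorem D18593 : act 0 n14597 = n18593 := rfl
theorem F84017 : act 4 n18593 = n14638 := d3_2 (iv F66607) D18593 (iv D14638)
theorem F84018 : act 5 n18593 = n18114 := d4_2 (iv F66608) D18593 (iv D18114)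
def n18594 : Q := act 3 n14598
theorem D18594 : act 3 n14598 = n18594 := rfl
theorem F84023 : act 0 n18594 = n14600 := d2_1 D18594 (iv D14600) (iv F66613)
theorem F84024 : act 1 n18594 = n15522 := d10_1 D18594 (iv D15522) (iv F66614)
theorem F84025 : act 4 n18594 = n14736 := d24_2 D14598 D18594 (iv D14736) (iv D11508) (iv F52676)
theorem F84028 : act 8 n18594 = n14642 := d28_2 (iv F66618) D18594 (iv D14642)
def n18595 : Q := act 6 n14598
theorem D18595 : act 6 n14598 = n18595 := rfl
theorem F84030 : act 0 n18595 = n14601 := d5_1 D18595 (iv D14601) (iv F66613)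
theorem F84031 : act 1 n18595 = n15523 := d13_1 D18595 (iv D15523) (iv F66614)
theorem F84032 : act 2 n18595 = n15247 := d20_1 D18595 (iv D15247) (iv F66615)
theorem F84033 : act 4 n18595 = n14599 := d31_1 D18595 (iv D14599) D14598
theorem F84034 : act 8 n18595 = n14643 := d40_2 (iv F66618) D18595 (iv D14643)
theorem F84035 : act 9 n18595 = n18595 := d41_2 F66619 D18595 (iv D18595)
def n18596 : Q := act 7 n14599
theorem D18596 : act 7 n14599 = n18596 := rfl
theorem F84036 : act 0 n18596 = n14602 := d6_1 D18596 (iv D14602) (iv F66620)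
theorem F84037 : act 1 n18596 = n15524 := d14_1 D18596 (iv D15524) (iv F66621)
theorem F84038 : act 2 n18596 = n15248 := d21_1 D18596 (iv D15248) (iv F66622)
theorem F84039 : act 3 n18596 = n14738 := d27_1 D18596 (iv D14738) (iv F66623)
theorem F84040 : act 5 n18596 = n15205 := d36_1 D18596 (iv D15205) (iv F66624)
theorem F84041 : act 6 n18596 = n18596 := d39_1 D18596 (iv D18596) (iv D14599) F52677 D14599
theorem F84042 : act 8 n18596 = n14644 := d42_2 (iv F66625) D18596 (iv D14644)
theorem F84043 : act 9 n18596 = n18596 := d43_2 F66626 D18596 (iv D18596)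
def n18597 : Q := act 2 n14600
theorem D18597 : act 2 n14600 = n18597 := rfl
theorem F84046 : act 4 n18597 = n14745 := d18_2 (iv F66628) D18597 (iv D14745)
theorem F84049 : act 8 n18597 = n14650 := d22_2 (iv F66631) D18597 (iv D14650)
def n18598 : Q := act 6 n14600
theorem D18598 : act 6 n14600 = n18598 := rfl
theorem F84051 : act 1 n18598 = n14608 := d13_1 D18598 (iv D14608) (iv F66627)
theorem F84052 : act 3 n18598 = n14601 := d26_1 D18598 (iv D14601) D14600
theorem F84053 : act 4 n18598 = n14746 := d31_1 D18598 (iv D14746) (iv F66628)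
theorem F84054 : act 8 n18598 = n14651 := d40_2 (iv F66631) D18598 (iv D14651)
theorem F84055 : act 9 n18598 = n18598 := d41_2 F66632 D18598 (iv D18598)
def n18599 : Q := act 5 n14601
theorem D18599 : act 5 n14601 = n18599 := rfl
theorem F84056 : act 1 n18599 = n14609 := d12_1 D18599 (iv D14609) (iv F66633)
theorem F84058 : act 4 n18599 = n16349 := d30_1 D18599 (iv D16349) F58272 (iv F52689) (iv F66635)
theorem F84060 : act 9 n18599 = n18599 := d38_2 F66637 D18599 (iv D18599)
def n18600 : Q := act 7 n14601
theorem D18600 : act 7 n14601 = n18600 := rfl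
theorem F84061 : act 1 n18600 = n14610 := d14_1 D18600 (iv D14610) (iv F66633)
theorem F84062 : act 2 n18600 = n16411 := d21_1 D18600 (iv D16411) (iv F66634)
theorem F84063 : act 4 n18600 = n14602 := d32_1 D18600 (iv D14602) (iv F66635)
theorem F84064 : act 6 n18600 = n18600 := d39_1 D18600 (iv D18600) (iv D14601) F52683 D14601
theorem F84065 : act 8 n18600 = n14653 := d42_2 (iv F66636) D18600 (iv D14653)
theorem F84066 : act 9 n18600 = n18600 := d43_2 F66637 D18600 (iv D18600)
def n18601 : Q := act 3 n14603
theorem D18601 : act 3 n14603 = n18601 := rfl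
theorem F84067 : act 0 n18601 = n15538 := d2_1 D18601 (iv D15538) (iv F66645)
theorem F84068 : act 1 n18601 = n15933 := d10_1 D18601 (iv D15933) (iv F66646)
theorem F84069 : act 4 n18601 = n14760 := d24_2 D14603 D18601 (iv D14760) (iv D11525) (iv F52695)
theorem F84070 : act 5 n18601 = n15900 := d25_2 (iv F66648) D18601 (iv D15900)
theorem F84071 : act 7 n18601 = n15897 := d27_2 (iv F66649) D18601 (iv D15897)
theorem F84072 : act 8 n18601 = n14605 := d28_2 (iv F66650) D18601 (iv D14605)
theorem F84073 : act 9 n18601 = n15943 := d29_2 (iv F66651) D18601 (iv D15943)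
def n18602 : Q := act 6 n14603
theorem D18602 : act 6 n14603 = n18602 := rfl
theorem F84074 : act 0 n18602 = n15539 := d5_1 D18602 (iv D15539) (iv F66645)
theorem F84075 : act 1 n18602 = n15934 := d13_1 D18602 (iv D15934) (iv F66646)
theorem F84076 : act 2 n18602 = n14612 := d20_1 D18602 (iv D14612) (iv F66647)
theorem F84077 : act 4 n18602 = n14604 := d31_1 D18602 (iv D14604) D14603
theorem F84078 : act 8 n18602 = n14606 := d40_2 (iv F66650) D18602 (iv D14606)
theorem F84079 : act 9 n18602 = n15944 := d41_2 (iv F66651) D18602 (iv D15944)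
def n18603 : Q := act 7 n14604
theorem D18603 : act 7 n14604 = n18603 := rfl
theorem F84080 : act 0 n18603 = n15540 := d6_1 D18603 (iv D15540) (iv F66652)
theorem F84081 : act 1 n18603 = n15935 := d14_1 D18603 (iv D15935) (iv F66653)
theorem F84082 : act 2 n18603 = n14613 := d21_1 D18603 (iv D14613) (iv F66654)
theorem F84083 : act 3 n18603 = n14762 := d27_1 D18603 (iv D14762) (iv F66655)
theorem F84084 : act 5 n18603 = n14659 := d36_1 D18603 (iv D14659) (iv F66656)
theorem F84085 : act 6 n18603 = n15899 := d39_1 D18603 (iv D15899) (iv D12364) (iv F52696) D14604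
theorem F84086 : act 8 n18603 = n14607 := d42_2 (iv F66657) D18603 (iv D14607)
theorem F84087 : act 9 n18603 = n15945 := d43_2 (iv F66658) D18603 (iv D15945)
def n18604 : Q := act 2 n14605
theorem D18604 : act 2 n14605 = n18604 := rfl
theorem F84088 : act 0 n18604 = n15544 := d1_1 D18604 (iv D15544) (iv F66659)
theorem F84089 : act 3 n18604 = n14614 := d17_2 D14605 D18604 (iv D14614) (iv D11415) (iv F52701)
theorem F84090 : act 4 n18604 = n14766 := d18_2 (iv F66661) D18604 (iv D14766)
theorem F84091 : act 5 n18604 = n16307 := d19_2 (iv F66662) D18604 (iv D16307)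
theorem F84092 : act 7 n18604 = n16303 := d21_2 (iv F66663) D18604 (iv D16303)
theorem F84093 : act 9 n18604 = n18604 := d23_2 F66664 D18604 (iv D18604)
def n18605 : Q := act 6 n14605
theorem D18605 : act 6 n14605 = n18605 := rfl
theorem F84094 : act 0 n18605 = n15545 := d5_1 D18605 (iv D15545) (iv F66659)
theorem F84095 : act 1 n18605 = n16348 := d13_1 D18605 (iv D16348) (iv F66660)
theorem F84096 : act 3 n18605 = n14606 := d26_1 D18605 (iv D14606) D14605
theorem F84097 : act 4 n18605 = n14767 := d31_1 D18605 (iv D14767) (iv F66661)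
theorem F84098 : act 9 n18605 = n18605 := d41_2 F66664 D18605 (iv D18605)
def n18606 : Q := act 5 n14606
theorem D18606 : act 5 n14606 = n18606 := rfl
theorem F84099 : act 0 n18606 = n15546 := d4_1 D18606 (iv D15546) (iv F66665)
theorem F84100 : act 1 n18606 = n16349 := d12_1 D18606 (iv D16349) (iv F66666)
theorem F84101 : act 2 n18606 = n14616 := d19_1 D18606 (iv D14616) (iv F66667)
theorem F84102 : act 4 n18606 = n14609 := d30_1 D18606 (iv D14609) F52719 (iv F52709) (iv F66668)
theorem F84103 : act 6 n18606 = n16309 := d35_2 D14606 D18606 (iv D16309) (iv D12672) (iv F52702)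
theorem F84104 : act 9 n18606 = n18606 := d38_2 F66669 D18606 (iv D18606)
def n18607 : Q := act 7 n14606
theorem D18607 : act 7 n14606 = n18607 := rfl
theorem F84105 : act 0 n18607 = n15547 := d6_1 D18607 (iv D15547) (iv F66665)
theorem F84106 : act 1 n18607 = n16350 := d14_1 D18607 (iv D16350) (iv F66666)
theorem F84107 : act 2 n18607 = n14617 := d21_1 D18607 (iv D14617) (iv F66667)
theorem F84108 : act 4 n18607 = n14607 := d32_1 D18607 (iv D14607) (iv F66668)
theorem F84109 : act 6 n18607 = n16306 := d39_1 D18607 (iv D16306) (iv D12669) (iv F52703) D14606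
theorem F84110 : act 9 n18607 = n18607 := d43_2 F66669 D18607 (iv D18607)
def n18608 : Q := act 5 n14608
theorem D18608 : act 5 n14608 = n18608 := rfl
theorem F84111 : act 0 n18608 = n15548 := d4_1 D18608 (iv D15548) (iv F66677)
theorem F84112 : act 2 n18608 = n18608 := d19_1 D18608 (iv D18608) F66678
theorem F84113 : act 3 n18608 = n14609 := d25_1 D18608 (iv D14609) (iv F66679)
theorem F84114 : act 9 n18608 = n18608 := d38_2 F66682 D18608 (iv D18608)
def n18609 : Q := act 7 n14608
theorem D18609 : act 7 n14608 = n18609 := rfl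
theorem F84115 : act 0 n18609 = n15549 := d6_1 D18609 (iv D15549) (iv F66677)
theorem F84116 : act 2 n18609 = n18609 := d21_1 D18609 (iv D18609) F66678
theorem F84117 : act 3 n18609 = n14610 := d27_1 D18609 (iv D14610) (iv F66679)
theorem F84118 : act 4 n18609 = n14771 := d32_1 D18609 (iv D14771) (iv F66680)
theorem F84119 : act 6 n18609 = n18609 := d39_1 D18609 (iv D18609) (iv D14608) F52714 D14608
theorem F84120 : act 8 n18609 = n14665 := d42_2 (iv F66681) D18609 (iv D14665)
theorem F84121 : act 9 n18609 = n18609 := d43_2 F66682 D18609 (iv D18609)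
def n18610 : Q := act 7 n14609
theorem D18610 : act 7 n14609 = n18610 := rfl
theorem F84122 : act 0 n18610 = n15550 := d6_1 D18610 (iv D15550) (iv F66683)
theorem F84123 : act 2 n18610 = n14618 := d21_1 D18610 (iv D14618) (iv F66684)
theorem F84124 : act 5 n18610 = n14610 := d36_1 D18610 (iv D14610) D14609
theorem F84125 : act 9 n18610 = n18610 := d43_2 F66685 D18610 (iv D18610)
def n18611 : Q := act 8 n14609
theorem D18611 : act 8 n14609 = n18611 := rfl
theorem F84126 : act 0 n18611 = n15551 := d7_1 D18611 (iv D15551) (iv F66683)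
theorem F84127 : act 2 n18611 = n14619 := d22_1 D18611 (iv D14619) (iv F66684)
theorem F84128 : act 5 n18611 = n14667 := d37_1 D18611 (iv D14667) (iv D11453) (iv F52720) D14609
def n18612 : Q := act 2 n14611
theorem D18612 : act 2 n14611 = n18612 := rfl
theorem F84129 : act 0 n18612 = n15558 := d1_1 D18612 (iv D15558) (iv F66692)
theorem F84130 : act 4 n18612 = n14623 := d18_2 (iv F66694) D18612 (iv D14623)
theorem F84131 : act 5 n18612 = n16952 := d19_2 (iv F66695) D18612 (iv D16952)
theorem F84132 : act 7 n18612 = n16948 := d21_2 (iv F66696) D18612 (iv D16948)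
theorem F84133 : act 8 n18612 = n14614 := d22_2 (iv F66697) D18612 (iv D14614)
theorem F84134 : act 9 n18612 = n16000 := d23_2 (iv F66698) D18612 (iv D16000)
def n18613 : Q := act 6 n14611
theorem D18613 : act 6 n14611 = n18613 := rfl
theorem F84135 : act 0 n18613 = n15559 := d5_1 D18613 (iv D15559) (iv F66692)
theorem F84136 : act 1 n18613 = n16993 := d13_1 D18613 (iv D16993) (iv F66693)
theorem F84137 : act 3 n18613 = n14612 := d26_1 D18613 (iv D14612) D14611
theorem F84138 : act 4 n18613 = n14624 := d31_1 D18613 (iv D14624) (iv F66694)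
theorem F84139 : act 8 n18613 = n14615 := d40_2 (iv F66697) D18613 (iv D14615)
theorem F84140 : act 9 n18613 = n16001 := d41_2 (iv F66698) D18613 (iv D16001)
def n18614 : Q := act 5 n14612
theorem D18614 : act 5 n14612 = n18614 := rfl
theorem F84141 : act 0 n18614 = n15560 := d4_1 D18614 (iv D15560) (iv F66699)
theorem F84142 : act 1 n18614 = n16994 := d12_1 D18614 (iv D16994) (iv F66700)
theorem F84143 : act 4 n18614 = n14673 := d30_1 D18614 (iv D14673) F52974 (iv F52737) (iv F66701)
theorem F84144 : act 6 n18614 = n16954 := d35_2 D14612 D18614 (iv D16954) (iv D13159) (iv F52730)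
theorem F84145 : act 9 n18614 = n16002 := d38_2 (iv F66703) D18614 (iv D16002)
def n18615 : Q := act 7 n14612
theorem D18615 : act 7 n14612 = n18615 := rfl
theorem F84146 : act 0 n18615 = n15561 := d6_1 D18615 (iv D15561) (iv F66699)
theorem F84147 : act 1 n18615 = n16995 := d14_1 D18615 (iv D16995) (iv F66700)
theorem F84148 : act 4 n18615 = n14613 := d32_1 D18615 (iv D14613) (iv F66701)
theorem F84149 : act 6 n18615 = n16951 := d39_1 D18615 (iv D16951) (iv D13156) (iv F52731) D14612
theorem F84150 : act 8 n18615 = n14617 := d42_2 (iv F66702) D18615 (iv D14617)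
theorem F84151 : act 9 n18615 = n16003 := d43_2 (iv F66703) D18615 (iv D16003)
def n18616 : Q := act 1 n14614
theorem D18616 : act 1 n14614 = n18616 := rfl
theorem F84152 : act 2 n18616 = n17602 := d9_2 D14614 D18616 (iv D17602) (iv D13646) (iv F52741)
theorem F84153 : act 4 n18616 = n14631 := d11_2 (iv F66712) D18616 (iv D14631)
theorem F84154 : act 5 n18616 = n17543 := d12_2 (iv F66713) D18616 (iv D17543)
theorem F84155 : act 7 n18616 = n17537 := d14_2 (iv F66714) D18616 (iv D17537)
def n18617 : Q := act 6 n14614
theorem D18617 : act 6 n14614 = n18617 := rfl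
theorem F84157 : act 0 n18617 = n15567 := d5_1 D18617 (iv D15567) (iv F66711)
theorem F84158 : act 2 n18617 = n14615 := d20_1 D18617 (iv D14615) D14614
theorem F84159 : act 4 n18617 = n14632 := d31_1 D18617 (iv D14632) (iv F66712)
theorem F84160 : act 9 n18617 = n18617 := d41_2 F66715 D18617 (iv D18617)
def n18618 : Q := act 5 n14615
theorem D18618 : act 5 n14615 = n18618 := rfl
theorem F84161 : act 0 n18618 = n15568 := d4_1 D18618 (iv D15568) (iv F66716)
theorem F84165 : act 6 n18618 = n17545 := d35_2 D14615 D18618 (iv D17545) (iv D13607) (iv F52743)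
def n18619 : Q := act 7 n14615
theorem D18619 : act 7 n14615 = n18619 := rfl
theorem F84167 : act 0 n18619 = n15569 := d6_1 D18619 (iv D15569) (iv F66716)
theorem F84168 : act 1 n18619 = n17605 := d14_1 D18619 (iv D17605) (iv F66717)
theorem F84169 : act 3 n18619 = n14617 := d27_1 D18619 (iv D14617) (iv F66718)
theorem F84170 : act 4 n18619 = n14633 := d32_1 D18619 (iv D14633) (iv F66719)
theorem F84171 : act 6 n18619 = n17540 := d39_1 D18619 (iv D17540) (iv D13603) (iv F52744) D14615
theorem F84172 : act 9 n18619 = n18619 := d43_2 F66720 D18619 (iv D18619)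
def n18620 : Q := act 7 n14616
theorem D18620 : act 7 n14616 = n18620 := rfl
theorem F84173 : act 0 n18620 = n15570 := d6_1 D18620 (iv D15570) (iv F66721)
theorem F84174 : act 1 n18620 = n17606 := d14_1 D18620 (iv D17606) (iv F66722)
theorem F84175 : act 4 n18620 = n14618 := d32_1 D18620 (iv D14618) (iv F66723)
theorem F84176 : act 5 n18620 = n14617 := d36_1 D18620 (iv D14617) D14616
theorem F84177 : act 9 n18620 = n18620 := d43_2 F66725 D18620 (iv D18620)
def n18621 : Q := act 8 n14616
theorem D18621 : act 8 n14616 = n18621 := rfl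
theorem F84178 : act 0 n18621 = n15571 := d7_1 D18621 (iv D15571) (iv F66721)
theorem F84179 : act 1 n18621 = n17607 := d15_1 D18621 (iv D17607) (iv F66722)
theorem F84180 : act 4 n18621 = n14619 := d33_1 D18621 (iv D14619) (iv F66723)
def n18622 : Q := act 6 n14618
theorem D18622 : act 6 n14618 = n18622 := rfl
theorem F84182 : act 0 n18622 = n15572 := d5_1 D18622 (iv D15572) (iv F66731)
theorem F84183 : act 3 n18622 = n18622 := d26_1 D18622 (iv D18622) F66732
theorem F84184 : act 5 n18622 = n18622 := d35_1 D18622 (iv D18622) F66733 F52762 (iv F66733)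
theorem F84185 : act 9 n18622 = n18622 := d41_2 F66734 D18622 (iv D18622)
def n18623 : Q := act 8 n14618
theorem D18623 : act 8 n14618 = n18623 := rfl
theorem F84186 : act 0 n18623 = n15573 := d7_1 D18623 (iv D15573) (iv F66731)
theorem F84187 : act 3 n18623 = n18623 := d28_1 D18623 (iv D18623) F66732
theorem F84188 : act 5 n18623 = n14682 := d37_1 D18623 (iv D14682) F53005 (iv F52763) (iv F66733)
theorem F84189 : act 7 n18623 = n14619 := d42_1 D18623 (iv D14619) D14618
def n18624 : Q := act 9 n14619
theorem D18624 : act 9 n14619 = n18624 := rfl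
theorem F84190 : act 0 n18624 = n15574 := d8_1 D18624 (iv D15574) (iv F66735)
theorem F84191 : act 3 n18624 = n18624 := d29_1 D18624 (iv D18624) F66736
theorem F84192 : act 5 n18624 = n14683 := d38_1 D18624 (iv D14683) (iv F66737)
theorem F84193 : act 8 n18624 = n18624 := d44_1 D18624 (iv D18624) (iv D14619) F52758 D14619
def n18625 : Q := act 2 n14620
theorem D18625 : act 2 n14620 = n18625 := rfl
theorem F84194 : act 0 n18625 = n15575 := d1_1 D18625 (iv D15575) (iv F66738)
theorem F84195 : act 3 n18625 = n14814 := d17_2 D14620 D18625 (iv D14814) (iv D11561) (iv F52767)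
theorem F84196 : act 4 n18625 = n16948 := d18_2 (iv F66740) D18625 (iv D16948)
theorem F84197 : act 5 n18625 = n18625 := d19_2 F66741 D18625 (iv D18625)
theorem F84198 : act 7 n18625 = n14623 := d21_2 (iv F66742) D18625 (iv D14623)
theorem F84199 : act 8 n18625 = n14627 := d22_2 (iv F66743) D18625 (iv D14627)
theorem F84200 : act 9 n18625 = n15837 := d23_2 (iv F66744) D18625 (iv D15837)
def n18626 : Q := act 6 n14620
theorem D18626 : act 6 n14620 = n18626 := rfl
theorem F84201 : act 0 n18626 = n15576 := d5_1 D18626 (iv D15576) (iv F66738)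
theorem F84202 : act 1 n18626 = n16874 := d13_1 D18626 (iv D16874) (iv F66739)
theorem F84203 : act 3 n18626 = n14621 := d26_1 D18626 (iv D14621) D14620
theorem F84205 : act 8 n18626 = n14628 := d40_2 (iv F66743) D18626 (iv D14628)
theorem F84206 : act 9 n18626 = n15838 := d41_2 (iv F66744) D18626 (iv D15838)
def n18627 : Q := act 5 n14621
theorem D18627 : act 5 n14621 = n18627 := rfl
theorem F84207 : act 0 n18627 = n15577 := d4_1 D18627 (iv D15577) (iv F66745)
theorem F84208 : act 1 n18627 = n16875 := d12_1 D18627 (iv D16875) (iv F66746)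
theorem F84209 : act 2 n18627 = n14816 := d19_1 D18627 (iv D14816) (iv F66747)
theorem F84210 : act 4 n18627 = n15843 := d30_1 D18627 (iv D15843) F56923 (iv F52776) (iv F66748)
theorem F84211 : act 6 n18627 = n18627 := d35_2 D14621 D18627 (iv D18627) (iv D14621) F52768
theorem F84212 : act 9 n18627 = n15839 := d38_2 (iv F66750) D18627 (iv D15839)
def n18628 : Q := act 7 n14621
theorem D18628 : act 7 n14621 = n18628 := rfl
theorem F84213 : act 0 n18628 = n15578 := d6_1 D18628 (iv D15578) (iv F66745)
theorem F84214 : act 1 n18628 = n16876 := d14_1 D18628 (iv D16876) (iv F66746)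
theorem F84215 : act 2 n18628 = n14817 := d21_1 D18628 (iv D14817) (iv F66747)
theorem F84216 : act 4 n18628 = n14622 := d32_1 D18628 (iv D14622) (iv F66748)
theorem F84217 : act 6 n18628 = n14626 := d39_1 D18628 (iv D14626) (iv D11423) (iv F52769) D14621
theorem F84218 : act 8 n18628 = n14630 := d42_2 (iv F66749) D18628 (iv D14630)
theorem F84219 : act 9 n18628 = n15840 := d43_2 (iv F66750) D18628 (iv D15840)
def n18629 : Q := act 1 n14623
theorem D18629 : act 1 n14623 = n18629 := rfl
theorem F84221 : act 3 n18629 = n14822 := d10_2 (iv F66760) D18629 (iv D14822)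
theorem F84222 : act 5 n18629 = n18629 := d12_2 F66761 D18629 (iv D18629)
theorem F84223 : act 8 n18629 = n14631 := d15_2 (iv F66762) D18629 (iv D14631)
theorem F84224 : act 9 n18629 = n16048 := d16_2 (iv F66763) D18629 (iv D16048)
def n18630 : Q := act 6 n14623
theorem D18630 : act 6 n14623 = n18630 := rfl
theorem F84225 : act 0 n18630 = n15580 := d5_1 D18630 (iv D15580) (iv F66759)
theorem F84226 : act 2 n18630 = n14624 := d20_1 D18630 (iv D14624) D14623
theorem F84227 : act 3 n18630 = n14823 := d26_1 D18630 (iv D14823) (iv F66760)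
theorem F84228 : act 8 n18630 = n14632 := d40_2 (iv F66762) D18630 (iv D14632)
theorem F84229 : act 9 n18630 = n16049 := d41_2 (iv F66763) D18630 (iv D16049)
def n18631 : Q := act 5 n14624
theorem D18631 : act 5 n14624 = n18631 := rfl
theorem F84230 : act 0 n18631 = n15581 := d4_1 D18631 (iv D15581) (iv F66764)
theorem F84231 : act 1 n18631 = n17158 := d12_1 D18631 (iv D17158) (iv F66765)
theorem F84232 : act 3 n18631 = n14625 := d25_1 D18631 (iv D14625) (iv F66766)
theorem F84233 : act 6 n18631 = n18631 := d35_2 D14624 D18631 (iv D18631) (iv D14624) F52781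
theorem F84234 : act 8 n18631 = n18631 := d37_2 (iv F66767) D18631 (iv D18631) F66767 F52820
theorem F84235 : act 9 n18631 = n16050 := d38_2 (iv F66768) D18631 (iv D16050)
def n18632 : Q := act 7 n14624
theorem D18632 : act 7 n14624 = n18632 := rfl
theorem F84236 : act 0 n18632 = n15582 := d6_1 D18632 (iv D15582) (iv F66764)
theorem F84237 : act 1 n18632 = n17159 := d14_1 D18632 (iv D17159) (iv F66765)
theorem F84238 : act 3 n18632 = n14626 := d27_1 D18632 (iv D14626) (iv F66766)
theorem F84239 : act 8 n18632 = n14633 := d42_2 (iv F66767) D18632 (iv D14633)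
theorem F84240 : act 9 n18632 = n16051 := d43_2 (iv F66768) D18632 (iv D16051)
def n18633 : Q := act 7 n14625
theorem D18633 : act 7 n14625 = n18633 := rfl
theorem F84241 : act 0 n18633 = n15583 := d6_1 D18633 (iv D15583) (iv F66769)
theorem F84242 : act 1 n18633 = n17160 := d14_1 D18633 (iv D17160) (iv F66770)
theorem F84243 : act 2 n18633 = n14826 := d21_1 D18633 (iv D14826) (iv F66771)
theorem F84244 : act 4 n18633 = n14688 := d32_1 D18633 (iv D14688) (iv F66772)
theorem F84245 : act 5 n18633 = n14626 := d36_1 D18633 (iv D14626) D14625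
theorem F84246 : act 8 n18633 = n18633 := d42_2 F66774 D18633 (iv D18633)
theorem F84247 : act 9 n18633 = n16052 := d43_2 (iv F66775) D18633 (iv D16052)
def n18634 : Q := act 1 n14627
theorem D18634 : act 1 n14627 = n18634 := rfl
theorem F84251 : act 5 n18634 = n14634 := d12_2 (iv F66785) D18634 (iv D14634)
theorem F84252 : act 7 n18634 = n14631 := d14_2 (iv F66786) D18634 (iv D14631)
def n18635 : Q := act 6 n14627
theorem D18635 : act 6 n14627 = n18635 := rfl
theorem F84254 : act 0 n18635 = n15585 := d5_1 D18635 (iv D15585) (iv F66782)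
theorem F84255 : act 2 n18635 = n14628 := d20_1 D18635 (iv D14628) D14627
theorem F84256 : act 3 n18635 = n14828 := d26_1 D18635 (iv D14828) (iv F66783)
def n18636 : Q := act 5 n14628
theorem D18636 : act 5 n14628 = n18636 := rfl
theorem F84261 : act 3 n18636 = n14629 := d25_1 D18636 (iv D14629) (iv F66790)
def n18637 : Q := act 7 n14628
theorem D18637 : act 7 n14628 = n18637 := rfl
theorem F84264 : act 0 n18637 = n15587 := d6_1 D18637 (iv D15587) (iv F66788)
theorem F84265 : act 1 n18637 = n17599 := d14_1 D18637 (iv D17599) (iv F66789)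
theorem F84266 : act 3 n18637 = n14630 := d27_1 D18637 (iv D14630) (iv F66790)
theorem F84268 : act 6 n18637 = n14633 := d39_1 D18637 (iv D14633) (iv D11429) (iv F52800) D14628
theorem F84269 : act 9 n18637 = n18637 := d43_2 F66792 D18637 (iv D18637)
def n18638 : Q := act 7 n14629
theorem D18638 : act 7 n14629 = n18638 := rfl
theorem F84270 : act 0 n18638 = n15588 := d6_1 D18638 (iv D15588) (iv F66793)
theorem F84271 : act 1 n18638 = n17600 := d14_1 D18638 (iv D17600) (iv F66794)
theorem F84272 : act 2 n18638 = n14831 := d21_1 D18638 (iv D14831) (iv F66795)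
theorem F84273 : act 4 n18638 = n18638 := d32_1 D18638 (iv D18638) F66796
theorem F84274 : act 5 n18638 = n14630 := d36_1 D18638 (iv D14630) D14629
theorem F84275 : act 6 n18638 = n18638 := d39_1 D18638 (iv D18638) F66797 F52844 (iv F66797)
theorem F84276 : act 9 n18638 = n18638 := d43_2 F66798 D18638 (iv D18638)
def n18639 : Q := act 8 n14629
theorem D18639 : act 8 n14629 = n18639 := rfl
theorem F84279 : act 2 n18639 = n14832 := d22_1 D18639 (iv D14832) (iv F66795)
theorem F84281 : act 6 n18639 = n14637 := d40_1 D18639 (iv D14637) (iv F66797)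
def n18640 : Q := act 0 n14631
theorem D18640 : act 0 n14631 = n18640 := rfl
theorem F84282 : act 1 n18640 = n15590 := d0_2 D14631 D18640 (iv D15590) (iv D12138) (iv F52814)
theorem F84283 : act 3 n18640 = n14833 := d2_2 (iv F66805) D18640 (iv D14833)
theorem F84284 : act 5 n18640 = n14638 := d4_2 (iv F66806) D18640 (iv D14638)
theorem F84285 : act 9 n18640 = n18640 := d8_2 F66807 D18640 (iv D18640)
def n18641 : Q := act 6 n14631
theorem D18641 : act 6 n14631 = n18641 := rfl
theorem F84286 : act 1 n18641 = n14632 := d13_1 D18641 (iv D14632) D14631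
theorem F84287 : act 3 n18641 = n14834 := d26_1 D18641 (iv D14834) (iv F66805)
theorem F84288 : act 5 n18641 = n18641 := d35_1 D18641 (iv D18641) F66806 F52847 (iv F66806)
theorem F84289 : act 9 n18641 = n18641 := d41_2 F66807 D18641 (iv D18641)
def n18642 : Q := act 7 n14632
theorem D18642 : act 7 n14632 = n18642 := rfl
theorem F84290 : act 0 n18642 = n15592 := d6_1 D18642 (iv D15592) (iv F66808)
theorem F84291 : act 2 n18642 = n14633 := d21_1 D18642 (iv D14633) (iv F66809)
theorem F84292 : act 3 n18642 = n14835 := d27_1 D18642 (iv D14835) (iv F66810)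
theorem F84293 : act 5 n18642 = n18642 := d36_1 D18642 (iv D18642) F66811
theorem F84294 : act 9 n18642 = n18642 := d43_2 F66812 D18642 (iv D18642)
def n18643 : Q := act 0 n14634
theorem D18643 : act 0 n14634 = n18643 := rfl
theorem F84299 : act 7 n18643 = n14638 := d6_2 (iv F66820) D18643 (iv D14638)
def n18644 : Q := act 6 n14634
theorem D18644 : act 6 n14634 = n18644 := rfl
theorem F84304 : act 3 n18644 = n14837 := d26_1 D18644 (iv D14837) (iv F66818)
theorem F84305 : act 4 n18644 = n18109 := d31_1 D18644 (iv D18109) (iv F66819)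
def n18645 : Q := act 5 n14635
theorem D18645 : act 5 n14635 = n18645 := rfl
theorem F84310 : act 2 n18645 = n14636 := d19_1 D18645 (iv D14636) (iv F66824)
theorem F84311 : act 3 n18645 = n14838 := d25_1 D18645 (iv D14838) (iv F66825)
def n18647 : Q := act 8 n14636
theorem D18647 : act 8 n14636 = n18647 := rfl
theorem F84322 : act 3 n18647 = n14637 := d28_1 D18647 (iv D14637) (iv F66832)
def n18648 : Q := act 9 n14637
theorem D18648 : act 9 n14637 = n18648 := rfl
theorem F84327 : act 2 n18648 = n14841 := d23_1 D18648 (iv D14841) (iv F66837)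
def n18649 : Q := act 4 n14639
theorem D18649 : act 4 n14639 = n18649 := rfl
theorem F84332 : act 0 n18649 = n14645 := d3_1 D18649 (iv D14645) (iv F66846)
theorem F84333 : act 1 n18649 = n15599 := d11_1 D18649 (iv D15599) (iv F66847)
theorem F84334 : act 2 n18649 = n14916 := d18_1 D18649 (iv D14916) (iv F66848)
theorem F84335 : act 5 n18649 = n14888 := d30_2 D14639 D18649 (iv D14888) (iv D11614) (iv F52854)
theorem F84336 : act 7 n18649 = n15879 := d32_2 (iv F66850) D18649 (iv D15879)
theorem F84337 : act 8 n18649 = n14640 := d33_2 (iv F66851) D18649 (iv D14640)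
theorem F84338 : act 9 n18649 = n15534 := d34_2 (iv F66852) D18649 (iv D15534)
def n18650 : Q := act 6 n14639
theorem D18650 : act 6 n14639 = n18650 := rfl
theorem F84339 : act 0 n18650 = n14646 := d5_1 D18650 (iv D14646) (iv F66846)
theorem F84340 : act 1 n18650 = n15600 := d13_1 D18650 (iv D15600) (iv F66847)
theorem F84341 : act 2 n18650 = n14917 := d20_1 D18650 (iv D14917) (iv F66848)
theorem F84342 : act 3 n18650 = n14846 := d26_1 D18650 (iv D14846) (iv F66849)
theorem F84343 : act 5 n18650 = n14882 := d35_1 D18650 (iv D14882) (iv D11610) (iv F52855) D14639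
theorem F84344 : act 8 n18650 = n14641 := d40_2 (iv F66851) D18650 (iv D14641)
theorem F84345 : act 9 n18650 = n15535 := d41_2 (iv F66852) D18650 (iv D15535)
def n18651 : Q := act 3 n14640
theorem D18651 : act 3 n14640 = n18651 := rfl
theorem F84346 : act 0 n18651 = n14647 := d2_1 D18651 (iv D14647) (iv F66853)
theorem F84347 : act 1 n18651 = n15601 := d10_1 D18651 (iv D15601) (iv F66854)
theorem F84348 : act 4 n18651 = n14849 := d24_2 D14640 D18651 (iv D14849) (iv D11588) (iv F52861)
theorem F84349 : act 5 n18651 = n18651 := d25_2 F66856 D18651 (iv D18651)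
theorem F84350 : act 7 n18651 = n16095 := d27_2 (iv F66857) D18651 (iv D16095)
theorem F84351 : act 9 n18651 = n14692 := d29_2 (iv F66858) D18651 (iv D14692)
def n18652 : Q := act 6 n14640
theorem D18652 : act 6 n14640 = n18652 := rfl
theorem F84352 : act 0 n18652 = n14648 := d5_1 D18652 (iv D14648) (iv F66853)
theorem F84353 : act 1 n18652 = n15602 := d13_1 D18652 (iv D15602) (iv F66854)
theorem F84354 : act 2 n18652 = n17222 := d20_1 D18652 (iv D17222) (iv F66855)
theorem F84355 : act 4 n18652 = n14641 := d31_1 D18652 (iv D14641) D14640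
theorem F84356 : act 9 n18652 = n14693 := d41_2 (iv F66858) D18652 (iv D14693)
def n18653 : Q := act 7 n14641
theorem D18653 : act 7 n14641 = n18653 := rfl
theorem F84357 : act 0 n18653 = n14649 := d6_1 D18653 (iv D14649) (iv F66859)
theorem F84358 : act 1 n18653 = n15603 := d14_1 D18653 (iv D15603) (iv F66860)
theorem F84359 : act 2 n18653 = n17223 := d21_1 D18653 (iv D17223) (iv F66861)
theorem F84360 : act 3 n18653 = n14851 := d27_1 D18653 (iv D14851) (iv F66862)
theorem F84361 : act 5 n18653 = n14644 := d36_1 D18653 (iv D14644) (iv F66863)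
theorem F84362 : act 6 n18653 = n16097 := d39_1 D18653 (iv D16097) (iv D12507) (iv F52862) D14641
theorem F84363 : act 9 n18653 = n14694 := d43_2 (iv F66864) D18653 (iv D14694)
def n18654 : Q := act 2 n14642
theorem D18654 : act 2 n14642 = n18654 := rfl
theorem F84364 : act 0 n18654 = n14650 := d1_1 D18654 (iv D14650) (iv F66865)
theorem F84368 : act 9 n18654 = n14695 := d23_2 (iv F66870) D18654 (iv D14695)
def n18655 : Q := act 6 n14642
theorem D18655 : act 6 n14642 = n18655 := rfl
theorem F84369 : act 0 n18655 = n14651 := d5_1 D18655 (iv D14651) (iv F66865)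
theorem F84370 : act 1 n18655 = n15605 := d13_1 D18655 (iv D15605) (iv F66866)
theorem F84371 : act 3 n18655 = n14643 := d26_1 D18655 (iv D14643) D14642
theorem F84372 : act 4 n18655 = n14853 := d31_1 D18655 (iv D14853) (iv F66867)
theorem F84373 : act 9 n18655 = n14696 := d41_2 (iv F66870) D18655 (iv D14696)
def n18656 : Q := act 5 n14643
theorem D18656 : act 5 n14643 = n18656 := rfl
theorem F84374 : act 0 n18656 = n14652 := d4_1 D18656 (iv D14652) (iv F66871)
theorem F84375 : act 1 n18656 = n15606 := d12_1 D18656 (iv D15606) (iv F66872)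
theorem F84376 : act 6 n18656 = n18656 := d35_2 D14643 D18656 (iv D18656) (iv D14643) F52866
theorem F84377 : act 9 n18656 = n14697 := d38_2 (iv F66874) D18656 (iv D14697)
def n18657 : Q := act 7 n14643
theorem D18657 : act 7 n14643 = n18657 := rfl
theorem F84378 : act 0 n18657 = n14653 := d6_1 D18657 (iv D14653) (iv F66871)
theorem F84379 : act 1 n18657 = n15607 := d14_1 D18657 (iv D15607) (iv F66872)
theorem F84380 : act 4 n18657 = n14644 := d32_1 D18657 (iv D14644) (iv F66873)
theorem F84381 : act 6 n18657 = n18657 := d39_1 D18657 (iv D18657) (iv D14643) F52867 D14643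
theorem F84382 : act 9 n18657 = n14698 := d43_2 (iv F66874) D18657 (iv D14698)
def n18658 : Q := act 3 n14645
theorem D18658 : act 3 n14645 = n18658 := rfl
theorem F84383 : act 1 n18658 = n14657 := d10_1 D18658 (iv D14657) (iv F66880)
theorem F84384 : act 4 n18658 = n14864 := d24_2 D14645 D18658 (iv D14864) (iv D11598) (iv F52875)
theorem F84385 : act 5 n18658 = n15943 := d25_2 (iv F66882) D18658 (iv D15943)
theorem F84386 : act 7 n18658 = n15903 := d27_2 (iv F66883) D18658 (iv D15903)
theorem F84387 : act 8 n18658 = n14647 := d28_2 (iv F66884) D18658 (iv D14647)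
theorem F84388 : act 9 n18658 = n15900 := d29_2 (iv F66885) D18658 (iv D15900)
def n18659 : Q := act 6 n14645
theorem D18659 : act 6 n14645 = n18659 := rfl
theorem F84389 : act 1 n18659 = n14658 := d13_1 D18659 (iv D14658) (iv F66880)
theorem F84390 : act 2 n18659 = n15984 := d20_1 D18659 (iv D15984) (iv F66881)
theorem F84391 : act 4 n18659 = n14646 := d31_1 D18659 (iv D14646) D14645
theorem F84392 : act 8 n18659 = n14648 := d40_2 (iv F66884) D18659 (iv D14648)
theorem F84393 : act 9 n18659 = n15901 := d41_2 (iv F66885) D18659 (iv D15901)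
def n18660 : Q := act 7 n14646
theorem D18660 : act 7 n14646 = n18660 := rfl
theorem F84394 : act 1 n18660 = n14659 := d14_1 D18660 (iv D14659) (iv F66886)
theorem F84395 : act 2 n18660 = n15985 := d21_1 D18660 (iv D15985) (iv F66887)
theorem F84396 : act 3 n18660 = n14866 := d27_1 D18660 (iv D14866) (iv F66888)
theorem F84397 : act 5 n18660 = n15935 := d36_1 D18660 (iv D15935) (iv F66889)
theorem F84398 : act 6 n18660 = n15905 := d39_1 D18660 (iv D15905) (iv D12368) (iv F52876) D14646
theorem F84399 : act 8 n18660 = n14649 := d42_2 (iv F66890) D18660 (iv D14649)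
theorem F84400 : act 9 n18660 = n15902 := d43_2 (iv F66891) D18660 (iv D15902)
def n18661 : Q := act 2 n14647
theorem D18661 : act 2 n14647 = n18661 := rfl
theorem F84401 : act 3 n18661 = n17266 := d17_2 D14647 D18661 (iv D17266) (iv D13389) (iv F52880)
theorem F84402 : act 4 n18661 = n14870 := d18_2 (iv F66893) D18661 (iv D14870)
theorem F84403 : act 5 n18661 = n18661 := d19_2 F66894 D18661 (iv D18661)
theorem F84404 : act 7 n18661 = n16121 := d21_2 (iv F66895) D18661 (iv D16121)
theorem F84405 : act 9 n18661 = n14699 := d23_2 (iv F66896) D18661 (iv D14699)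
def n18662 : Q := act 6 n14647
theorem D18662 : act 6 n14647 = n18662 := rfl
theorem F84406 : act 1 n18662 = n14661 := d13_1 D18662 (iv D14661) (iv F66892)
theorem F84407 : act 3 n18662 = n14648 := d26_1 D18662 (iv D14648) D14647
theorem F84408 : act 4 n18662 = n14871 := d31_1 D18662 (iv D14871) (iv F66893)
theorem F84409 : act 9 n18662 = n14700 := d41_2 (iv F66896) D18662 (iv D14700)
def n18663 : Q := act 5 n14648
theorem D18663 : act 5 n14648 = n18663 := rfl
theorem F84410 : act 1 n18663 = n14662 := d12_1 D18663 (iv D14662) (iv F66897)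
theorem F84411 : act 2 n18663 = n17268 := d19_1 D18663 (iv D17268) (iv F66898)
theorem F84412 : act 4 n18663 = n14652 := d30_1 D18663 (iv D14652) F52895 (iv F52887) (iv F66899)
theorem F84413 : act 6 n18663 = n18663 := d35_2 D14648 D18663 (iv D18663) (iv D14648) F52881
theorem F84414 : act 9 n18663 = n14701 := d38_2 (iv F66900) D18663 (iv D14701)
def n18664 : Q := act 7 n14648
theorem D18664 : act 7 n14648 = n18664 := rfl
theorem F84415 : act 1 n18664 = n14663 := d14_1 D18664 (iv D14663) (iv F66897)
theorem F84416 : act 2 n18664 = n17269 := d21_1 D18664 (iv D17269) (iv F66898)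
theorem F84417 : act 4 n18664 = n14649 := d32_1 D18664 (iv D14649) (iv F66899)
theorem F84418 : act 6 n18664 = n16124 := d39_1 D18664 (iv D16124) (iv D12525) (iv F52882) D14648
theorem F84419 : act 9 n18664 = n14702 := d43_2 (iv F66900) D18664 (iv D14702)
def n18665 : Q := act 6 n14650
theorem D18665 : act 6 n14650 = n18665 := rfl
theorem F84420 : act 1 n18665 = n18665 := d13_1 D18665 (iv D18665) F66907
theorem F84421 : act 2 n18665 = n14651 := d20_1 D18665 (iv D14651) D14650
theorem F84422 : act 4 n18665 = n14874 := d31_1 D18665 (iv D14874) (iv F66908)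
theorem F84423 : act 9 n18665 = n14703 := d41_2 (iv F66911) D18665 (iv D14703)
def n18666 : Q := act 5 n14651
theorem D18666 : act 5 n14651 = n18666 := rfl
theorem F84424 : act 1 n18666 = n14664 := d12_1 D18666 (iv D14664) (iv F66912)
theorem F84425 : act 3 n18666 = n14652 := d25_1 D18666 (iv D14652) (iv F66913)
theorem F84426 : act 6 n18666 = n18666 := d35_2 D14651 D18666 (iv D18666) (iv D14651) F52891
theorem F84427 : act 9 n18666 = n14704 := d38_2 (iv F66915) D18666 (iv D14704)
def n18667 : Q := act 7 n14651
theorem D18667 : act 7 n14651 = n18667 := rfl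
theorem F84428 : act 1 n18667 = n14665 := d14_1 D18667 (iv D14665) (iv F66912)
theorem F84429 : act 3 n18667 = n14653 := d27_1 D18667 (iv D14653) (iv F66913)
theorem F84430 : act 4 n18667 = n14876 := d32_1 D18667 (iv D14876) (iv F66914)
theorem F84431 : act 6 n18667 = n18667 := d39_1 D18667 (iv D18667) (iv D14651) F52892 D14651
theorem F84432 : act 9 n18667 = n14705 := d43_2 (iv F66915) D18667 (iv D14705)
def n18668 : Q := act 7 n14652
theorem D18668 : act 7 n14652 = n18668 := rfl
theorem F84433 : act 1 n18668 = n14666 := d14_1 D18668 (iv D14666) (iv F66916)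
theorem F84434 : act 5 n18668 = n14653 := d36_1 D18668 (iv D14653) D14652
theorem F84435 : act 9 n18668 = n14706 := d43_2 (iv F66918) D18668 (iv D14706)
def n18669 : Q := act 8 n14652
theorem D18669 : act 8 n14652 = n18669 := rfl
theorem F84436 : act 1 n18669 = n14667 := d15_1 D18669 (iv D14667) (iv F66916)
theorem F84437 : act 6 n18669 = n18669 := d40_1 D18669 (iv D18669) F66917
def n18670 : Q := act 4 n14654
theorem D18670 : act 4 n14654 = n18670 := rfl
theorem F84438 : act 0 n18670 = n15622 := d3_1 D18670 (iv D15622) (iv F66923)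
theorem F84439 : act 1 n18670 = n14758 := d11_1 D18670 (iv D14758) (iv F66924)
theorem F84440 : act 2 n18670 = n18670 := d18_1 D18670 (iv D18670) F66925
theorem F84441 : act 5 n18670 = n14879 := d30_2 D14654 D18670 (iv D14879) (iv D11609) (iv F52905)
theorem F84442 : act 7 n18670 = n15928 := d32_2 (iv F66927) D18670 (iv D15928)
theorem F84443 : act 8 n18670 = n18670 := d33_2 F66928 D18670 (iv D18670)
theorem F84444 : act 9 n18670 = n14740 := d34_2 (iv F66929) D18670 (iv D14740)
def n18671 : Q := act 6 n14654
theorem D18671 : act 6 n14654 = n18671 := rfl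
theorem F84445 : act 0 n18671 = n15623 := d5_1 D18671 (iv D15623) (iv F66923)
theorem F84446 : act 1 n18671 = n14759 := d13_1 D18671 (iv D14759) (iv F66924)
theorem F84447 : act 2 n18671 = n18671 := d20_1 D18671 (iv D18671) F66925
theorem F84448 : act 3 n18671 = n14656 := d26_1 D18671 (iv D14656) (iv F66926)
theorem F84449 : act 5 n18671 = n14863 := d35_1 D18671 (iv D14863) (iv D11597) (iv F52906) D14654
theorem F84450 : act 8 n18671 = n18671 := d40_2 F66928 D18671 (iv D18671)
theorem F84451 : act 9 n18671 = n14741 := d41_2 (iv F66929) D18671 (iv D14741)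
def n18672 : Q := act 3 n14655
theorem D18672 : act 3 n14655 = n18672 := rfl
theorem F84452 : act 0 n18672 = n15624 := d2_1 D18672 (iv D15624) (iv F66930)
theorem F84453 : act 1 n18672 = n15943 := d10_1 D18672 (iv D15943) (iv F66931)
theorem F84454 : act 5 n18672 = n14657 := d25_2 (iv F66933) D18672 (iv D14657)
theorem F84455 : act 7 n18672 = n15936 := d27_2 (iv F66934) D18672 (iv D15936)
theorem F84456 : act 8 n18672 = n18672 := d28_2 F66935 D18672 (iv D18672)
theorem F84457 : act 9 n18672 = n15933 := d29_2 (iv F66936) D18672 (iv D15933)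
def n18673 : Q := act 6 n14655
theorem D18673 : act 6 n14655 = n18673 := rfl
theorem F84458 : act 0 n18673 = n15625 := d5_1 D18673 (iv D15625) (iv F66930)
theorem F84459 : act 1 n18673 = n15944 := d13_1 D18673 (iv D15944) (iv F66931)
theorem F84460 : act 2 n18673 = n14669 := d20_1 D18673 (iv D14669) (iv F66932)
theorem F84461 : act 4 n18673 = n14656 := d31_1 D18673 (iv D14656) D14655
theorem F84462 : act 8 n18673 = n18673 := d40_2 F66935 D18673 (iv D18673)
theorem F84463 : act 9 n18673 = n15934 := d41_2 (iv F66936) D18673 (iv D15934)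
def n18674 : Q := act 7 n14656
theorem D18674 : act 7 n14656 = n18674 := rfl
theorem F84464 : act 0 n18674 = n15626 := d6_1 D18674 (iv D15626) (iv F66937)
theorem F84465 : act 1 n18674 = n15945 := d14_1 D18674 (iv D15945) (iv F66938)
theorem F84466 : act 2 n18674 = n14670 := d21_1 D18674 (iv D14670) (iv F66939)
theorem F84467 : act 5 n18674 = n15902 := d36_1 D18674 (iv D15902) (iv F66940)
theorem F84468 : act 6 n18674 = n15938 := d39_1 D18674 (iv D15938) (iv D12390) (iv F52912) D14656
theorem F84469 : act 8 n18674 = n18674 := d42_2 F66941 D18674 (iv D18674)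
theorem F84470 : act 9 n18674 = n15935 := d43_2 (iv F66942) D18674 (iv D15935)
def n18675 : Q := act 2 n14657
theorem D18675 : act 2 n14657 = n18675 := rfl
theorem F84471 : act 0 n18675 = n15627 := d1_1 D18675 (iv D15627) (iv F66943)
theorem F84472 : act 3 n18675 = n14671 := d17_2 D14657 D18675 (iv D14671) (iv D11457) (iv F52916)
theorem F84473 : act 4 n18675 = n14896 := d18_2 (iv F66944) D18675 (iv D14896)
theorem F84474 : act 7 n18675 = n15950 := d21_2 (iv F66945) D18675 (iv D15950)
theorem F84475 : act 8 n18675 = n14660 := d22_2 (iv F66946) D18675 (iv D14660)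
theorem F84476 : act 9 n18675 = n15946 := d23_2 (iv F66947) D18675 (iv D15946)
def n18676 : Q := act 6 n14657
theorem D18676 : act 6 n14657 = n18676 := rfl
theorem F84477 : act 0 n18676 = n15628 := d5_1 D18676 (iv D15628) (iv F66943)
theorem F84478 : act 3 n18676 = n14658 := d26_1 D18676 (iv D14658) D14657
theorem F84479 : act 4 n18676 = n14897 := d31_1 D18676 (iv D14897) (iv F66944)
theorem F84480 : act 8 n18676 = n14661 := d40_2 (iv F66946) D18676 (iv D14661)
theorem F84481 : act 9 n18676 = n15947 := d41_2 (iv F66947) D18676 (iv D15947)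
def n18677 : Q := act 5 n14658
theorem D18677 : act 5 n14658 = n18677 := rfl
theorem F84482 : act 0 n18677 = n15629 := d4_1 D18677 (iv D15629) (iv F66948)
theorem F84483 : act 2 n18677 = n14673 := d19_1 D18677 (iv D14673) (iv F66949)
theorem F84484 : act 9 n18677 = n15948 := d38_2 (iv F66952) D18677 (iv D15948)
def n18678 : Q := act 7 n14658
theorem D18678 : act 7 n14658 = n18678 := rfl
theorem F84485 : act 0 n18678 = n15630 := d6_1 D18678 (iv D15630) (iv F66948)
theorem F84486 : act 2 n18678 = n14674 := d21_1 D18678 (iv D14674) (iv F66949)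
theorem F84487 : act 4 n18678 = n14659 := d32_1 D18678 (iv D14659) (iv F66950)
theorem F84488 : act 6 n18678 = n15953 := d39_1 D18678 (iv D15953) (iv D12400) (iv F52917) D14658
theorem F84489 : act 8 n18678 = n14663 := d42_2 (iv F66951) D18678 (iv D14663)
theorem F84490 : act 9 n18678 = n15949 := d43_2 (iv F66952) D18678 (iv D15949)
def n18679 : Q := act 1 n14660
theorem D18679 : act 1 n14660 = n18679 := rfl
theorem F84492 : act 4 n18679 = n14904 := d11_2 (iv F66961) D18679 (iv D14904)
theorem F84495 : act 9 n18679 = n14708 := d16_2 (iv F66964) D18679 (iv D14708)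
def n18680 : Q := act 6 n14660
theorem D18680 : act 6 n14660 = n18680 := rfl
theorem F84496 : act 0 n18680 = n15632 := d5_1 D18680 (iv D15632) (iv F66959)
theorem F84497 : act 2 n18680 = n14661 := d20_1 D18680 (iv D14661) D14660
theorem F84498 : act 3 n18680 = n14676 := d26_1 D18680 (iv D14676) (iv F66960)
theorem F84499 : act 4 n18680 = n14905 := d31_1 D18680 (iv D14905) (iv F66961)
theorem F84500 : act 9 n18680 = n14709 := d41_2 (iv F66964) D18680 (iv D14709)
def n18681 : Q := act 5 n14661
theorem D18681 : act 5 n14661 = n18681 := rfl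
theorem F84501 : act 0 n18681 = n15633 := d4_1 D18681 (iv D15633) (iv F66965)
theorem F84502 : act 3 n18681 = n14662 := d25_1 D18681 (iv D14662) (iv F66966)
theorem F84503 : act 6 n18681 = n18681 := d35_2 D14661 D18681 (iv D18681) (iv D14661) F52927
theorem F84504 : act 9 n18681 = n14710 := d38_2 (iv F66968) D18681 (iv D14710)
def n18682 : Q := act 7 n14661
theorem D18682 : act 7 n14661 = n18682 := rfl
theorem F84505 : act 0 n18682 = n15634 := d6_1 D18682 (iv D15634) (iv F66965)
theorem F84506 : act 3 n18682 = n14663 := d27_1 D18682 (iv D14663) (iv F66966)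
theorem F84507 : act 4 n18682 = n14907 := d32_1 D18682 (iv D14907) (iv F66967)
theorem F84508 : act 6 n18682 = n16160 := d39_1 D18682 (iv D16160) (iv D12550) (iv F52928) D14661
theorem F84509 : act 9 n18682 = n14711 := d43_2 (iv F66968) D18682 (iv D14711)
def n18683 : Q := act 7 n14662
theorem D18683 : act 7 n14662 = n18683 := rfl
theorem F84510 : act 0 n18683 = n15635 := d6_1 D18683 (iv D15635) (iv F66969)
theorem F84511 : act 2 n18683 = n14679 := d21_1 D18683 (iv D14679) (iv F66970)
theorem F84512 : act 4 n18683 = n14666 := d32_1 D18683 (iv D14666) (iv F66971)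
theorem F84513 : act 5 n18683 = n14663 := d36_1 D18683 (iv D14663) D14662
theorem F84514 : act 9 n18683 = n14712 := d43_2 (iv F66973) D18683 (iv D14712)
def n18684 : Q := act 8 n14662
theorem D18684 : act 8 n14662 = n18684 := rfl
theorem F84515 : act 0 n18684 = n15636 := d7_1 D18684 (iv D15636) (iv F66969)
theorem F84516 : act 2 n18684 = n14680 := d22_1 D18684 (iv D14680) (iv F66970)
theorem F84517 : act 4 n18684 = n14667 := d33_1 D18684 (iv D14667) (iv F66971)
theorem F84518 : act 6 n18684 = n18684 := d40_1 D18684 (iv D18684) F66972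
def n18685 : Q := act 4 n14664
theorem D18685 : act 4 n14664 = n18685 := rfl
theorem F84519 : act 0 n18685 = n15637 := d3_1 D18685 (iv D15637) (iv F66979)
theorem F84520 : act 2 n18685 = n18685 := d18_1 D18685 (iv D18685) F66980
theorem F84521 : act 5 n18685 = n14910 := d30_2 D14664 D18685 (iv D14910) (iv D11629) (iv F52943)
theorem F84522 : act 6 n18685 = n18685 := d31_2 F66982 D18685 (iv D18685)
theorem F84523 : act 9 n18685 = n14714 := d34_2 (iv F66983) D18685 (iv D14714)
def n18686 : Q := act 7 n14664
theorem D18686 : act 7 n14664 = n18686 := rfl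
theorem F84524 : act 0 n18686 = n15638 := d6_1 D18686 (iv D15638) (iv F66979)
theorem F84525 : act 2 n18686 = n18686 := d21_1 D18686 (iv D18686) F66980
theorem F84526 : act 3 n18686 = n14666 := d27_1 D18686 (iv D14666) (iv F66981)
theorem F84527 : act 5 n18686 = n14665 := d36_1 D18686 (iv D14665) D14664
theorem F84528 : act 9 n18686 = n14715 := d43_2 (iv F66983) D18686 (iv D14715)
def n18687 : Q := act 8 n14664
theorem D18687 : act 8 n14664 = n18687 := rfl
theorem F84529 : act 0 n18687 = n15639 := d7_1 D18687 (iv D15639) (iv F66979)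
theorem F84530 : act 2 n18687 = n18687 := d22_1 D18687 (iv D18687) F66980
theorem F84531 : act 3 n18687 = n14667 := d28_1 D18687 (iv D14667) (iv F66981)
theorem F84532 : act 6 n18687 = n18687 := d40_1 D18687 (iv D18687) F66982
def n18688 : Q := act 6 n14666
theorem D18688 : act 6 n14666 = n18688 := rfl
theorem F84533 : act 0 n18688 = n15640 := d5_1 D18688 (iv D15640) (iv F66990)
theorem F84534 : act 2 n18688 = n14681 := d20_1 D18688 (iv D14681) (iv F66991)
theorem F84535 : act 5 n18688 = n18688 := d35_1 D18688 (iv D18688) F66992 F52952 (iv F66992)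
theorem F84536 : act 7 n18688 = n18688 := d39_2 D14666 D18688 (iv D18688) (iv D14666) F52947
theorem F84537 : act 9 n18688 = n14717 := d41_2 (iv F66993) D18688 (iv D14717)
def n18689 : Q := act 8 n14666
theorem D18689 : act 8 n14666 = n18689 := rfl
theorem F84538 : act 0 n18689 = n15641 := d7_1 D18689 (iv D15641) (iv F66990)
theorem F84539 : act 2 n18689 = n14682 := d22_1 D18689 (iv D14682) (iv F66991)
theorem F84540 : act 7 n18689 = n14667 := d42_1 D18689 (iv D14667) D14666
def n18690 : Q := act 9 n14667
theorem D18690 : act 9 n14667 = n18690 := rfl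
theorem F84541 : act 0 n18690 = n15642 := d8_1 D18690 (iv D15642) (iv F66994)
theorem F84542 : act 2 n18690 = n14683 := d23_1 D18690 (iv D14683) (iv F66995)
theorem F84543 : act 6 n18690 = n18690 := d41_1 D18690 (iv D18690) F66996
theorem F84544 : act 8 n18690 = n14719 := d44_1 D18690 (iv D14719) (iv D11493) (iv F52948) D14667
def n18691 : Q := act 2 n14668
theorem D18691 : act 2 n14668 = n18691 := rfl
theorem F84545 : act 0 n18691 = n15643 := d1_1 D18691 (iv D15643) (iv F66997)
theorem F84546 : act 4 n18691 = n18691 := d18_2 F66999 D18691 (iv D18691)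
theorem F84547 : act 5 n18691 = n14671 := d19_2 (iv F67000) D18691 (iv D14671)
theorem F84548 : act 7 n18691 = n15990 := d21_2 (iv F67001) D18691 (iv D15990)
theorem F84549 : act 8 n18691 = n18691 := d22_2 F67002 D18691 (iv D18691)
theorem F84550 : act 9 n18691 = n15986 := d23_2 (iv F67003) D18691 (iv D15986)
def n18692 : Q := act 6 n14668
theorem D18692 : act 6 n14668 = n18692 := rfl
theorem F84551 : act 0 n18692 = n15644 := d5_1 D18692 (iv D15644) (iv F66997)
theorem F84552 : act 1 n18692 = n17003 := d13_1 D18692 (iv D17003) (iv F66998)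
theorem F84553 : act 3 n18692 = n14669 := d26_1 D18692 (iv D14669) D14668
theorem F84554 : act 4 n18692 = n18692 := d31_1 D18692 (iv D18692) F66999
theorem F84555 : act 8 n18692 = n18692 := d40_2 F67002 D18692 (iv D18692)
theorem F84556 : act 9 n18692 = n15987 := d41_2 (iv F67003) D18692 (iv D15987)
def n18693 : Q := act 5 n14669
theorem D18693 : act 5 n14669 = n18693 := rfl
theorem F84557 : act 0 n18693 = n15645 := d4_1 D18693 (iv D15645) (iv F67004)
theorem F84558 : act 1 n18693 = n17004 := d12_1 D18693 (iv D17004) (iv F67005)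
theorem F84559 : act 4 n18693 = n16954 := d30_1 D18693 (iv D16954) F60139 (iv F52963) (iv F67006)
theorem F84560 : act 6 n18693 = n14673 := d35_2 D14669 D18693 (iv D14673) (iv D11458) (iv F52956)
theorem F84561 : act 9 n18693 = n15988 := d38_2 (iv F67008) D18693 (iv D15988)
def n18694 : Q := act 7 n14669
theorem D18694 : act 7 n14669 = n18694 := rfl
theorem F84562 : act 0 n18694 = n15646 := d6_1 D18694 (iv D15646) (iv F67004)
theorem F84563 : act 1 n18694 = n17005 := d14_1 D18694 (iv D17005) (iv F67005)
theorem F84564 : act 4 n18694 = n14670 := d32_1 D18694 (iv D14670) (iv F67006)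
theorem F84565 : act 6 n18694 = n15993 := d39_1 D18694 (iv D15993) (iv D12428) (iv F52957) D14669
theorem F84566 : act 8 n18694 = n18694 := d42_2 F67007 D18694 (iv D18694)
theorem F84567 : act 9 n18694 = n15989 := d43_2 (iv F67008) D18694 (iv D15989)
def n18696 : Q := act 6 n14671
theorem D18696 : act 6 n14671 = n18696 := rfl
theorem F84573 : act 0 n18696 = n15648 := d5_1 D18696 (iv D15648) (iv F67016)
theorem F84574 : act 2 n18696 = n14672 := d20_1 D18696 (iv D14672) D14671
theorem F84575 : act 4 n18696 = n14685 := d31_1 D18696 (iv D14685) (iv F67017)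
theorem F84576 : act 8 n18696 = n14676 := d40_2 (iv F67019) D18696 (iv D14676)
def n18697 : Q := act 5 n14672
theorem D18697 : act 5 n14672 = n18697 := rfl
theorem F84578 : act 0 n18697 = n15649 := d4_1 D18697 (iv D15649) (iv F67021)
theorem F84580 : act 3 n18697 = n14673 := d25_1 D18697 (iv D14673) (iv F67023)
theorem F84581 : act 9 n18697 = n16006 := d38_2 (iv F67026) D18697 (iv D16006)
def n18698 : Q := act 7 n14672
theorem D18698 : act 7 n14672 = n18698 := rfl
theorem F84582 : act 0 n18698 = n15650 := d6_1 D18698 (iv D15650) (iv F67021)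
theorem F84584 : act 3 n18698 = n14674 := d27_1 D18698 (iv D14674) (iv F67023)
theorem F84585 : act 4 n18698 = n14687 := d32_1 D18698 (iv D14687) (iv F67024)
theorem F84586 : act 6 n18698 = n16013 := d39_1 D18698 (iv D16013) (iv D12442) (iv F52969) D14672
theorem F84587 : act 8 n18698 = n14678 := d42_2 (iv F67025) D18698 (iv D14678)
theorem F84588 : act 9 n18698 = n16007 := d43_2 (iv F67026) D18698 (iv D16007)
def n18699 : Q := act 7 n14673
theorem D18699 : act 7 n14673 = n18699 := rfl
theorem F84589 : act 0 n18699 = n15651 := d6_1 D18699 (iv D15651) (iv F67027)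
theorem F84590 : act 1 n18699 = n17095 := d14_1 D18699 (iv D17095) (iv F67028)
theorem F84591 : act 5 n18699 = n14674 := d36_1 D18699 (iv D14674) D14673
theorem F84592 : act 9 n18699 = n16008 := d43_2 (iv F67029) D18699 (iv D16008)
def n18700 : Q := act 8 n14673
theorem D18700 : act 8 n14673 = n18700 := rfl
theorem F84593 : act 0 n18700 = n15652 := d7_1 D18700 (iv D15652) (iv F67027)
theorem F84594 : act 1 n18700 = n17096 := d15_1 D18700 (iv D17096) (iv F67028)
theorem F84595 : act 5 n18700 = n14680 := d37_1 D18700 (iv D14680) (iv D11462) (iv F52975) D14673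
def n18701 : Q := act 0 n14675
theorem D18701 : act 0 n14675 = n18701 := rfl
theorem F84596 : act 1 n18701 = n15653 := d0_2 D14675 D18701 (iv D15653) (iv D12183) (iv F52983)
theorem F84601 : act 9 n18701 = n14720 := d8_2 (iv F67040) D18701 (iv D14720)
def n18703 : Q := act 5 n14676
theorem D18703 : act 5 n14676 = n18703 := rfl
theorem F84606 : act 0 n18703 = n15655 := d4_1 D18703 (iv D15655) (iv F67041)
theorem F84607 : act 2 n18703 = n14677 := d19_1 D18703 (iv D14677) (iv F67042)
theorem F84608 : act 4 n18703 = n18703 := d30_1 D18703 (iv D18703) F67043 F53042 (iv F67043)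
theorem F84609 : act 6 n18703 = n18703 := d35_2 D14676 D18703 (iv D18703) (iv D14676) F52985
theorem F84610 : act 9 n18703 = n14722 := d38_2 (iv F67044) D18703 (iv D14722)
def n18704 : Q := act 7 n14676
theorem D18704 : act 7 n14676 = n18704 := rfl
theorem F84611 : act 0 n18704 = n15656 := d6_1 D18704 (iv D15656) (iv F67041)
theorem F84612 : act 2 n18704 = n14678 := d21_1 D18704 (iv D14678) (iv F67042)
theorem F84613 : act 4 n18704 = n14691 := d32_1 D18704 (iv D14691) (iv F67043)
theorem F84614 : act 6 n18704 = n16207 := d39_1 D18704 (iv D16207) (iv D12583) (iv F52986) D14676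
theorem F84615 : act 9 n18704 = n14723 := d43_2 (iv F67044) D18704 (iv D14723)
def n18705 : Q := act 7 n14677
theorem D18705 : act 7 n14677 = n18705 := rfl
theorem F84616 : act 0 n18705 = n15657 := d6_1 D18705 (iv D15657) (iv F67045)
theorem F84618 : act 3 n18705 = n14679 := d27_1 D18705 (iv D14679) (iv F67047)
theorem F84619 : act 4 n18705 = n18705 := d32_1 D18705 (iv D18705) F67048
theorem F84620 : act 5 n18705 = n14678 := d36_1 D18705 (iv D14678) D14677
theorem F84621 : act 9 n18705 = n14724 := d43_2 (iv F67050) D18705 (iv D14724)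
def n18706 : Q := act 8 n14677
theorem D18706 : act 8 n14677 = n18706 := rfl
theorem F84622 : act 0 n18706 = n15658 := d7_1 D18706 (iv D15658) (iv F67045)
theorem F84624 : act 3 n18706 = n14680 := d28_1 D18706 (iv D14680) (iv F67047)
theorem F84625 : act 4 n18706 = n18706 := d33_1 D18706 (iv D18706) F67048
theorem F84626 : act 6 n18706 = n18706 := d40_1 D18706 (iv D18706) F67049
def n18707 : Q := act 6 n14679
theorem D18707 : act 6 n14679 = n18707 := rfl
theorem F84627 : act 0 n18707 = n15659 := d5_1 D18707 (iv D15659) (iv F67057)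
theorem F84628 : act 1 n18707 = n17415 := d13_1 D18707 (iv D17415) (iv F67058)
theorem F84629 : act 4 n18707 = n14681 := d31_1 D18707 (iv D14681) (iv F67059)
theorem F84630 : act 5 n18707 = n16211 := d35_1 D18707 (iv D16211) F57827 (iv F53001) (iv F67060)
theorem F84631 : act 7 n18707 = n18707 := d39_2 D14679 D18707 (iv D18707) (iv D14679) F52996
theorem F84632 : act 9 n18707 = n14726 := d41_2 (iv F67061) D18707 (iv D14726)
def n18708 : Q := act 8 n14679
theorem D18708 : act 8 n14679 = n18708 := rfl
theorem F84633 : act 0 n18708 = n15660 := d7_1 D18708 (iv D15660) (iv F67057)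
theorem F84634 : act 1 n18708 = n17416 := d15_1 D18708 (iv D17416) (iv F67058)
theorem F84635 : act 4 n18708 = n14682 := d33_1 D18708 (iv D14682) (iv F67059)
theorem F84636 : act 7 n18708 = n14680 := d42_1 D18708 (iv D14680) D14679
def n18709 : Q := act 9 n14680
theorem D18709 : act 9 n14680 = n18709 := rfl
theorem F84637 : act 0 n18709 = n15661 := d8_1 D18709 (iv D15661) (iv F67062)
theorem F84639 : act 4 n18709 = n14683 := d34_1 D18709 (iv D14683) (iv F67064)
theorem F84640 : act 6 n18709 = n18709 := d41_1 D18709 (iv D18709) F67065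
theorem F84641 : act 8 n18709 = n14728 := d44_1 D18709 (iv D14728) (iv D11499) (iv F52997) D14680
def n18710 : Q := act 8 n14681
theorem D18710 : act 8 n14681 = n18710 := rfl
theorem F84642 : act 0 n18710 = n15662 := d7_1 D18710 (iv D15662) (iv F67066)
theorem F84643 : act 3 n18710 = n18710 := d28_1 D18710 (iv D18710) F67067
theorem F84644 : act 6 n18710 = n14682 := d40_1 D18710 (iv D14682) D14681
theorem F84645 : act 7 n18710 = n18710 := d42_1 D18710 (iv D18710) F67069
def n18711 : Q := act 9 n14682
theorem D18711 : act 9 n14682 = n18711 := rfl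
theorem F84646 : act 0 n18711 = n15663 := d8_1 D18711 (iv D15663) (iv F67071)
theorem F84647 : act 3 n18711 = n18711 := d29_1 D18711 (iv D18711) F67072
theorem F84648 : act 7 n18711 = n14683 := d43_1 D18711 (iv D14683) (iv F67073)
theorem F84649 : act 8 n18711 = n14730 := d44_1 D18711 (iv D14730) (iv D11501) (iv F53006) D14682
def n18712 : Q := act 0 n14684
theorem D18712 : act 0 n14684 = n18712 := rfl
theorem F84652 : act 3 n18712 = n14978 := d2_2 (iv F67079) D18712 (iv D14978)
theorem F84655 : act 8 n18712 = n14689 := d7_2 (iv F67082) D18712 (iv D14689)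
def n18714 : Q := act 5 n14685
theorem D18714 : act 5 n14685 = n18714 := rfl
theorem F84662 : act 0 n18714 = n15666 := d4_1 D18714 (iv D15666) (iv F67084)
theorem F84663 : act 2 n18714 = n14686 := d19_1 D18714 (iv D14686) (iv F67085)
theorem F84664 : act 3 n18714 = n14980 := d25_1 D18714 (iv D14980) (iv F67086)
theorem F84665 : act 6 n18714 = n18714 := d35_2 D14685 D18714 (iv D18714) (iv D14685) F53012
theorem F84666 : act 8 n18714 = n18714 := d37_2 (iv F67087) D18714 (iv D18714) F67087 F53042
theorem F84667 : act 9 n18714 = n16056 := d38_2 (iv F67088) D18714 (iv D16056)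
def n18715 : Q := act 7 n14685
theorem D18715 : act 7 n14685 = n18715 := rfl
theorem F84668 : act 0 n18715 = n15667 := d6_1 D18715 (iv D15667) (iv F67084)
theorem F84669 : act 2 n18715 = n14687 := d21_1 D18715 (iv D14687) (iv F67085)
theorem F84670 : act 3 n18715 = n14981 := d27_1 D18715 (iv D14981) (iv F67086)
theorem F84671 : act 6 n18715 = n16066 := d39_1 D18715 (iv D16066) (iv D12479) (iv F53013) D14685
theorem F84672 : act 8 n18715 = n14691 := d42_2 (iv F67087) D18715 (iv D14691)
def n18716 : Q := act 4 n14686
theorem D18716 : act 4 n14686 = n18716 := rfl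
theorem F84674 : act 0 n18716 = n15668 := d3_1 D18716 (iv D15668) (iv F67089)
theorem F84676 : act 6 n18716 = n18716 := d31_2 F67092 D18716 (iv D18716)
theorem F84677 : act 8 n18716 = n18716 := d33_2 F67093 D18716 (iv D18716)
theorem F84678 : act 9 n18716 = n16058 := d34_2 (iv F67094) D18716 (iv D16058)
def n18717 : Q := act 7 n14686
theorem D18717 : act 7 n14686 = n18717 := rfl
theorem F84679 : act 0 n18717 = n15669 := d6_1 D18717 (iv D15669) (iv F67089)
theorem F84681 : act 3 n18717 = n14688 := d27_1 D18717 (iv D14688) (iv F67091)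
theorem F84682 : act 5 n18717 = n14687 := d36_1 D18717 (iv D14687) D14686
theorem F84683 : act 8 n18717 = n18717 := d42_2 F67093 D18717 (iv D18717)
theorem F84684 : act 9 n18717 = n16059 := d43_2 (iv F67094) D18717 (iv D16059)
def n18718 : Q := act 6 n14688
theorem D18718 : act 6 n14688 = n18718 := rfl
theorem F84685 : act 0 n18718 = n15670 := d5_1 D18718 (iv D15670) (iv F67101)
theorem F84686 : act 1 n18718 = n17176 := d13_1 D18718 (iv D17176) (iv F67102)
theorem F84687 : act 2 n18718 = n14984 := d20_1 D18718 (iv D14984) (iv F67103)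
theorem F84688 : act 5 n18718 = n16070 := d35_1 D18718 (iv D16070) F57480 (iv F53031) (iv F67104)
theorem F84689 : act 7 n18718 = n18718 := d39_2 D14688 D18718 (iv D18718) (iv D14688) F53024
theorem F84690 : act 8 n18718 = n18718 := d40_2 F67105 D18718 (iv D18718)
theorem F84691 : act 9 n18718 = n16061 := d41_2 (iv F67106) D18718 (iv D16061)
def n18719 : Q := act 6 n14689
theorem D18719 : act 6 n14689 = n18719 := rfl
theorem F84693 : act 1 n18719 = n15671 := d13_1 D18719 (iv D15671) (iv F67107)
theorem F84695 : act 3 n18719 = n14993 := d26_1 D18719 (iv D14993) (iv F67109)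
theorem F84697 : act 9 n18719 = n14731 := d41_2 (iv F67112) D18719 (iv D14731)
def n18721 : Q := act 2 n14692
theorem D18721 : act 2 n14692 = n18721 := rfl
theorem F84704 : act 0 n18721 = n14699 := d1_1 D18721 (iv D14699) (iv F67124)
theorem F84706 : act 4 n18721 = n15008 := d18_2 (iv F67126) D18721 (iv D15008)
theorem F84707 : act 5 n18721 = n18721 := d19_2 F67127 D18721 (iv D18721)
theorem F84708 : act 7 n18721 = n16098 := d21_2 (iv F67128) D18721 (iv D16098)
theorem F84709 : act 8 n18721 = n16102 := d22_2 (iv F67129) D18721 (iv D16102)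
def n18722 : Q := act 6 n14692
theorem D18722 : act 6 n14692 = n18722 := rfl
theorem F84710 : act 0 n18722 = n14700 := d5_1 D18722 (iv D14700) (iv F67124)
theorem F84711 : act 1 n18722 = n15674 := d13_1 D18722 (iv D15674) (iv F67125)
theorem F84712 : act 3 n18722 = n14693 := d26_1 D18722 (iv D14693) D14692
theorem F84713 : act 4 n18722 = n15009 := d31_1 D18722 (iv D15009) (iv F67126)
theorem F84714 : act 8 n18722 = n16103 := d40_2 (iv F67129) D18722 (iv D16103)
def n18723 : Q := act 5 n14693
theorem D18723 : act 5 n14693 = n18723 := rfl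
theorem F84715 : act 0 n18723 = n14701 := d4_1 D18723 (iv D14701) (iv F67130)
theorem F84716 : act 1 n18723 = n15675 := d12_1 D18723 (iv D15675) (iv F67131)
theorem F84717 : act 2 n18723 = n17226 := d19_1 D18723 (iv D17226) (iv F67132)
theorem F84718 : act 4 n18723 = n14697 := d30_1 D18723 (iv D14697) F53078 (iv F53068) (iv F67133)
theorem F84719 : act 6 n18723 = n18723 := d35_2 D14693 D18723 (iv D18723) (iv D14693) F53061
def n18724 : Q := act 7 n14693
theorem D18724 : act 7 n14693 = n18724 := rfl
theorem F84720 : act 0 n18724 = n14702 := d6_1 D18724 (iv D14702) (iv F67130)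
theorem F84721 : act 1 n18724 = n15676 := d14_1 D18724 (iv D15676) (iv F67131)
theorem F84722 : act 2 n18724 = n17227 := d21_1 D18724 (iv D17227) (iv F67132)
theorem F84723 : act 4 n18724 = n14694 := d32_1 D18724 (iv D14694) (iv F67133)
theorem F84724 : act 6 n18724 = n16101 := d39_1 D18724 (iv D16101) (iv D12509) (iv F53062) D14693
theorem F84725 : act 8 n18724 = n16105 := d42_2 (iv F67134) D18724 (iv D16105)
def n18726 : Q := act 6 n14695
theorem D18726 : act 6 n14695 = n18726 := rfl
theorem F84732 : act 0 n18726 = n14703 := d5_1 D18726 (iv D14703) (iv F67142)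
theorem F84733 : act 2 n18726 = n14696 := d20_1 D18726 (iv D14696) D14695
theorem F84734 : act 4 n18726 = n15013 := d31_1 D18726 (iv D15013) (iv F67143)
def n18727 : Q := act 5 n14696
theorem D18727 : act 5 n14696 = n18727 := rfl
theorem F84736 : act 0 n18727 = n14704 := d4_1 D18727 (iv D14704) (iv F67147)
theorem F84737 : act 1 n18727 = n15679 := d12_1 D18727 (iv D15679) (iv F67148)
theorem F84738 : act 3 n18727 = n14697 := d25_1 D18727 (iv D14697) (iv F67149)
theorem F84739 : act 6 n18727 = n18727 := d35_2 D14696 D18727 (iv D18727) (iv D14696) F53073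
def n18728 : Q := act 7 n14696
theorem D18728 : act 7 n14696 = n18728 := rfl
theorem F84740 : act 0 n18728 = n14705 := d6_1 D18728 (iv D14705) (iv F67147)
theorem F84741 : act 1 n18728 = n15680 := d14_1 D18728 (iv D15680) (iv F67148)
theorem F84742 : act 3 n18728 = n14698 := d27_1 D18728 (iv D14698) (iv F67149)
theorem F84743 : act 4 n18728 = n15015 := d32_1 D18728 (iv D15015) (iv F67150)
theorem F84744 : act 6 n18728 = n18728 := d39_1 D18728 (iv D18728) (iv D14696) F53074 D14696
theorem F84745 : act 8 n18728 = n18728 := d42_2 F67151 D18728 (iv D18728)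
def n18729 : Q := act 7 n14697
theorem D18729 : act 7 n14697 = n18729 := rfl
theorem F84746 : act 0 n18729 = n14706 := d6_1 D18729 (iv D14706) (iv F67152)
theorem F84747 : act 1 n18729 = n15681 := d14_1 D18729 (iv D15681) (iv F67153)
theorem F84748 : act 5 n18729 = n14698 := d36_1 D18729 (iv D14698) D14697
def n18730 : Q := act 8 n14697
theorem D18730 : act 8 n14697 = n18730 := rfl
theorem F84749 : act 0 n18730 = n14707 := d7_1 D18730 (iv D14707) (iv F67152)
theorem F84750 : act 1 n18730 = n15682 := d15_1 D18730 (iv D15682) (iv F67153)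
theorem F84751 : act 5 n18730 = n18730 := d37_1 D18730 (iv D18730) (iv D14697) F53079 D14697
theorem F84752 : act 6 n18730 = n18730 := d40_1 D18730 (iv D18730) F67154
def n18731 : Q := act 1 n14699
theorem D18731 : act 1 n14699 = n18731 := rfl
theorem F84755 : act 4 n18731 = n15029 := d11_2 (iv F67161) D18731 (iv D15029)
theorem F84758 : act 8 n18731 = n16131 := d15_2 (iv F67164) D18731 (iv D16131)
def n18732 : Q := act 6 n14699
theorem D18732 : act 6 n14699 = n18732 := rfl
theorem F84759 : act 2 n18732 = n14700 := d20_1 D18732 (iv D14700) D14699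
theorem F84760 : act 3 n18732 = n17271 := d26_1 D18732 (iv D17271) (iv F67160)
theorem F84761 : act 4 n18732 = n15030 := d31_1 D18732 (iv D15030) (iv F67161)
theorem F84762 : act 8 n18732 = n16132 := d40_2 (iv F67164) D18732 (iv D16132)
def n18733 : Q := act 5 n14700
theorem D18733 : act 5 n14700 = n18733 := rfl
theorem F84763 : act 1 n18733 = n14710 := d12_1 D18733 (iv D14710) (iv F67165)
theorem F84764 : act 3 n18733 = n14701 := d25_1 D18733 (iv D14701) (iv F67166)
theorem F84765 : act 6 n18733 = n18733 := d35_2 D14700 D18733 (iv D18733) (iv D14700) F53087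
def n18734 : Q := act 7 n14700
theorem D18734 : act 7 n14700 = n18734 := rfl
theorem F84766 : act 1 n18734 = n14711 := d14_1 D18734 (iv D14711) (iv F67165)
theorem F84767 : act 3 n18734 = n14702 := d27_1 D18734 (iv D14702) (iv F67166)
theorem F84768 : act 4 n18734 = n15032 := d32_1 D18734 (iv D15032) (iv F67167)
theorem F84769 : act 6 n18734 = n16128 := d39_1 D18734 (iv D16128) (iv D12528) (iv F53088) D14700
theorem F84770 : act 8 n18734 = n16134 := d42_2 (iv F67168) D18734 (iv D16134)
def n18735 : Q := act 7 n14701
theorem D18735 : act 7 n14701 = n18735 := rfl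
theorem F84771 : act 1 n18735 = n14712 := d14_1 D18735 (iv D14712) (iv F67169)
theorem F84772 : act 2 n18735 = n17274 := d21_1 D18735 (iv D17274) (iv F67170)
theorem F84773 : act 4 n18735 = n14706 := d32_1 D18735 (iv D14706) (iv F67171)
theorem F84774 : act 5 n18735 = n14702 := d36_1 D18735 (iv D14702) D14701
def n18736 : Q := act 8 n14701
theorem D18736 : act 8 n14701 = n18736 := rfl
theorem F84775 : act 1 n18736 = n14713 := d15_1 D18736 (iv D14713) (iv F67169)
theorem F84777 : act 4 n18736 = n14707 := d33_1 D18736 (iv D14707) (iv F67171)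
theorem F84778 : act 5 n18736 = n16136 := d37_1 D18736 (iv D16136) (iv D12533) (iv F53093) D14701
theorem F84779 : act 6 n18736 = n18736 := d40_1 D18736 (iv D18736) F67172
def n18737 : Q := act 5 n14703
theorem D18737 : act 5 n14703 = n18737 := rfl
theorem F84780 : act 1 n18737 = n18737 := d12_1 D18737 (iv D18737) F67178
theorem F84781 : act 2 n18737 = n14704 := d19_1 D18737 (iv D14704) (iv F67179)
theorem F84782 : act 6 n18737 = n18737 := d35_2 D14703 D18737 (iv D18737) (iv D14703) F53102
def n18738 : Q := act 7 n14703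
theorem D18738 : act 7 n14703 = n18738 := rfl
theorem F84783 : act 1 n18738 = n18738 := d14_1 D18738 (iv D18738) F67178
theorem F84784 : act 2 n18738 = n14705 := d21_1 D18738 (iv D14705) (iv F67179)
theorem F84785 : act 4 n18738 = n15036 := d32_1 D18738 (iv D15036) (iv F67180)
theorem F84786 : act 6 n18738 = n18738 := d39_1 D18738 (iv D18738) (iv D14703) F53103 D14703
theorem F84787 : act 8 n18738 = n18738 := d42_2 F67181 D18738 (iv D18738)
def n18739 : Q := act 4 n14704
theorem D18739 : act 4 n14704 = n18739 := rfl
theorem F84788 : act 1 n18739 = n14714 := d11_1 D18739 (iv D14714) (iv F67182)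
theorem F84789 : act 5 n18739 = n15037 := d30_2 D14704 D18739 (iv D15037) (iv D11721) (iv F53107)
theorem F84790 : act 6 n18739 = n18739 := d31_2 F67184 D18739 (iv D18739)
def n18740 : Q := act 7 n14704
theorem D18740 : act 7 n14704 = n18740 := rfl
theorem F84791 : act 1 n18740 = n14715 := d14_1 D18740 (iv D14715) (iv F67182)
theorem F84792 : act 3 n18740 = n14706 := d27_1 D18740 (iv D14706) (iv F67183)
theorem F84793 : act 5 n18740 = n14705 := d36_1 D18740 (iv D14705) D14704
def n18741 : Q := act 8 n14704
theorem D18741 : act 8 n14704 = n18741 := rfl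
theorem F84794 : act 1 n18741 = n14716 := d15_1 D18741 (iv D14716) (iv F67182)
theorem F84795 : act 3 n18741 = n14707 := d28_1 D18741 (iv D14707) (iv F67183)
theorem F84796 : act 5 n18741 = n18741 := d37_1 D18741 (iv D18741) (iv D14704) F53108 D14704
theorem F84797 : act 6 n18741 = n18741 := d40_1 D18741 (iv D18741) F67184
def n18742 : Q := act 6 n14706
theorem D18742 : act 6 n14706 = n18742 := rfl
theorem F84798 : act 1 n18742 = n14717 := d13_1 D18742 (iv D14717) (iv F67190)
theorem F84799 : act 5 n18742 = n18742 := d35_1 D18742 (iv D18742) F67191 F53113 (iv F67191)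
theorem F84800 : act 7 n18742 = n18742 := d39_2 D14706 D18742 (iv D18742) (iv D14706) F53110
def n18743 : Q := act 8 n14706
theorem D18743 : act 8 n14706 = n18743 := rfl
theorem F84801 : act 1 n18743 = n14718 := d15_1 D18743 (iv D14718) (iv F67190)
theorem F84802 : act 5 n18743 = n18743 := d37_1 D18743 (iv D18743) F67191 F53114 (iv F67191)
theorem F84803 : act 7 n18743 = n14707 := d42_1 D18743 (iv D14707) D14706
def n18744 : Q := act 9 n14707
theorem D18744 : act 9 n14707 = n18744 := rfl
theorem F84804 : act 1 n18744 = n14719 := d16_1 D18744 (iv D14719) (iv F67192)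
theorem F84805 : act 5 n18744 = n18744 := d38_1 D18744 (iv D18744) F67193
theorem F84806 : act 6 n18744 = n18744 := d41_1 D18744 (iv D18744) F67194
def n18745 : Q := act 0 n14708
theorem D18745 : act 0 n14708 = n18745 := rfl
theorem F84808 : act 3 n18745 = n14720 := d2_2 (iv F67195) D18745 (iv D14720)
theorem F84809 : act 4 n18745 = n15059 := d3_2 (iv F67196) D18745 (iv D15059)
def n18746 : Q := act 6 n14708
theorem D18746 : act 6 n14708 = n18746 := rfl
theorem F84814 : act 3 n18746 = n14721 := d26_1 D18746 (iv D14721) (iv F67195)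
theorem F84815 : act 4 n18746 = n15060 := d31_1 D18746 (iv D15060) (iv F67196)
def n18747 : Q := act 5 n14709
theorem D18747 : act 5 n14709 = n18747 := rfl
theorem F84817 : act 0 n18747 = n15699 := d4_1 D18747 (iv D15699) (iv F67200)
theorem F84818 : act 2 n18747 = n14710 := d19_1 D18747 (iv D14710) (iv F67201)
theorem F84819 : act 3 n18747 = n14722 := d25_1 D18747 (iv D14722) (iv F67202)
theorem F84820 : act 6 n18747 = n18747 := d35_2 D14709 D18747 (iv D18747) (iv D14709) F53118
def n18748 : Q := act 7 n14709
theorem D18748 : act 7 n14709 = n18748 := rfl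
theorem F84821 : act 0 n18748 = n15700 := d6_1 D18748 (iv D15700) (iv F67200)
theorem F84822 : act 2 n18748 = n14711 := d21_1 D18748 (iv D14711) (iv F67201)
theorem F84823 : act 3 n18748 = n14723 := d27_1 D18748 (iv D14723) (iv F67202)
theorem F84824 : act 4 n18748 = n15062 := d32_1 D18748 (iv D15062) (iv F67203)
theorem F84825 : act 6 n18748 = n16166 := d39_1 D18748 (iv D16166) (iv D12554) (iv F53119) D14709
def n18749 : Q := act 4 n14710
theorem D18749 : act 4 n14710 = n18749 := rfl
theorem F84827 : act 0 n18749 = n15701 := d3_1 D18749 (iv D15701) (iv F67205)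
theorem F84828 : act 3 n18749 = n14714 := d24_1 D18749 (iv D14714) F53136 (iv F53127) (iv F67206)
theorem F84829 : act 5 n18749 = n15063 := d30_2 D14710 D18749 (iv D15063) (iv D11738) (iv F53123)
theorem F84830 : act 6 n18749 = n18749 := d31_2 F67207 D18749 (iv D18749)
def n18750 : Q := act 7 n14710
theorem D18750 : act 7 n14710 = n18750 := rfl
theorem F84831 : act 0 n18750 = n15702 := d6_1 D18750 (iv D15702) (iv F67205)
theorem F84832 : act 3 n18750 = n14712 := d27_1 D18750 (iv D14712) (iv F67206)
theorem F84833 : act 5 n18750 = n14711 := d36_1 D18750 (iv D14711) D14710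
def n18751 : Q := act 8 n14710
theorem D18751 : act 8 n14710 = n18751 := rfl
theorem F84834 : act 0 n18751 = n15703 := d7_1 D18751 (iv D15703) (iv F67205)
theorem F84835 : act 3 n18751 = n14713 := d28_1 D18751 (iv D14713) (iv F67206)
theorem F84836 : act 5 n18751 = n16179 := d37_1 D18751 (iv D16179) (iv D12561) (iv F53124) D14710
theorem F84837 : act 6 n18751 = n18751 := d40_1 D18751 (iv D18751) F67207
def n18752 : Q := act 6 n14712
theorem D18752 : act 6 n14712 = n18752 := rfl
theorem F84838 : act 0 n18752 = n15704 := d5_1 D18752 (iv D15704) (iv F67213)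
theorem F84839 : act 2 n18752 = n14726 := d20_1 D18752 (iv D14726) (iv F67214)
theorem F84840 : act 4 n18752 = n14717 := d31_1 D18752 (iv D14717) (iv F67215)
theorem F84841 : act 5 n18752 = n16170 := d35_1 D18752 (iv D16170) F57743 (iv F53132) (iv F67216)
theorem F84842 : act 7 n18752 = n18752 := d39_2 D14712 D18752 (iv D18752) (iv D14712) F53128
def n18753 : Q := act 8 n14712
theorem D18753 : act 8 n14712 = n18753 := rfl
theorem F84843 : act 0 n18753 = n15705 := d7_1 D18753 (iv D15705) (iv F67213)
theorem F84844 : act 2 n18753 = n14727 := d22_1 D18753 (iv D14727) (iv F67214)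
theorem F84845 : act 4 n18753 = n14718 := d33_1 D18753 (iv D14718) (iv F67215)
theorem F84846 : act 5 n18753 = n16181 := d37_1 D18753 (iv D16181) F57759 (iv F53133) (iv F67216)
theorem F84847 : act 7 n18753 = n14713 := d42_1 D18753 (iv D14713) D14712
def n18754 : Q := act 9 n14713
theorem D18754 : act 9 n14713 = n18754 := rfl
theorem F84848 : act 0 n18754 = n15706 := d8_1 D18754 (iv D15706) (iv F67217)
theorem F84849 : act 2 n18754 = n14728 := d23_1 D18754 (iv D14728) (iv F67218)
theorem F84850 : act 4 n18754 = n14719 := d34_1 D18754 (iv D14719) (iv F67219)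
theorem F84851 : act 5 n18754 = n16182 := d38_1 D18754 (iv D16182) (iv F67220)
theorem F84852 : act 6 n18754 = n18754 := d41_1 D18754 (iv D18754) F67221
def n18755 : Q := act 7 n14714
theorem D18755 : act 7 n14714 = n18755 := rfl
theorem F84853 : act 0 n18755 = n15707 := d6_1 D18755 (iv D15707) (iv F67222)
theorem F84854 : act 2 n18755 = n18755 := d21_1 D18755 (iv D18755) F67223
theorem F84855 : act 4 n18755 = n14715 := d32_1 D18755 (iv D14715) D14714
theorem F84856 : act 5 n18755 = n15069 := d36_1 D18755 (iv D15069) (iv F67224)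
def n18756 : Q := act 8 n14714
theorem D18756 : act 8 n14714 = n18756 := rfl
theorem F84857 : act 0 n18756 = n15708 := d7_1 D18756 (iv D15708) (iv F67222)
theorem F84858 : act 2 n18756 = n18756 := d22_1 D18756 (iv D18756) F67223
theorem F84859 : act 4 n18756 = n14716 := d33_1 D18756 (iv D14716) D14714
theorem F84860 : act 6 n18756 = n18756 := d40_1 D18756 (iv D18756) F67225
def n18757 : Q := act 6 n14715
theorem D18757 : act 6 n14715 = n18757 := rfl
theorem F84861 : act 0 n18757 = n15709 := d5_1 D18757 (iv D15709) (iv F67226)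
theorem F84862 : act 2 n18757 = n18757 := d20_1 D18757 (iv D18757) F67227
theorem F84863 : act 3 n18757 = n14717 := d26_1 D18757 (iv D14717) (iv F67228)
theorem F84864 : act 5 n18757 = n18757 := d35_1 D18757 (iv D18757) F67229 F53142 (iv F67229)
theorem F84865 : act 7 n18757 = n18757 := d39_2 D14715 D18757 (iv D18757) (iv D14715) F53137
def n18758 : Q := act 8 n14715
theorem D18758 : act 8 n14715 = n18758 := rfl
theorem F84866 : act 0 n18758 = n15710 := d7_1 D18758 (iv D15710) (iv F67226)
theorem F84867 : act 2 n18758 = n18758 := d22_1 D18758 (iv D18758) F67227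
theorem F84868 : act 3 n18758 = n14718 := d28_1 D18758 (iv D14718) (iv F67228)
theorem F84869 : act 5 n18758 = n18758 := d37_1 D18758 (iv D18758) F67229 F53143 (iv F67229)
theorem F84870 : act 7 n18758 = n14716 := d42_1 D18758 (iv D14716) D14715
def n18759 : Q := act 9 n14716
theorem D18759 : act 9 n14716 = n18759 := rfl
theorem F84871 : act 0 n18759 = n15711 := d8_1 D18759 (iv D15711) (iv F67230)
theorem F84872 : act 2 n18759 = n18759 := d23_1 D18759 (iv D18759) F67231
theorem F84873 : act 3 n18759 = n14719 := d29_1 D18759 (iv D14719) (iv F67232)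
theorem F84874 : act 5 n18759 = n18759 := d38_1 D18759 (iv D18759) F67233
theorem F84875 : act 6 n18759 = n18759 := d41_1 D18759 (iv D18759) F67234
def n18760 : Q := act 8 n14717
theorem D18760 : act 8 n14717 = n18760 := rfl
theorem F84876 : act 0 n18760 = n15712 := d7_1 D18760 (iv D15712) (iv F67235)
theorem F84877 : act 2 n18760 = n14729 := d22_1 D18760 (iv D14729) (iv F67236)
theorem F84878 : act 6 n18760 = n14718 := d40_1 D18760 (iv D14718) D14717
theorem F84879 : act 7 n18760 = n18760 := d42_1 D18760 (iv D18760) F67238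
def n18761 : Q := act 9 n14718
theorem D18761 : act 9 n14718 = n18761 := rfl
theorem F84880 : act 0 n18761 = n15713 := d8_1 D18761 (iv D15713) (iv F67239)
theorem F84881 : act 2 n18761 = n14730 := d23_1 D18761 (iv D14730) (iv F67240)
theorem F84882 : act 5 n18761 = n18761 := d38_1 D18761 (iv D18761) F67241
theorem F84883 : act 7 n18761 = n14719 := d43_1 D18761 (iv D14719) (iv F67242)
def n18762 : Q := act 6 n14720
theorem D18762 : act 6 n14720 = n18762 := rfl
theorem F84884 : act 0 n18762 = n14721 := d5_1 D18762 (iv D14721) D14720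
theorem F84888 : act 8 n18762 = n16227 := d40_2 (iv F67252) D18762 (iv D16227)
def n18765 : Q := act 7 n14722
theorem D18765 : act 7 n14722 = n18765 := rfl
theorem F84898 : act 0 n18765 = n15717 := d6_1 D18765 (iv D15717) (iv F67257)
theorem F84899 : act 2 n18765 = n14724 := d21_1 D18765 (iv D14724) (iv F67258)
theorem F84900 : act 4 n18765 = n18765 := d32_1 D18765 (iv D18765) F67259
theorem F84901 : act 5 n18765 = n14723 := d36_1 D18765 (iv D14723) D14722
def n18766 : Q := act 8 n14722
theorem D18766 : act 8 n14722 = n18766 := rfl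
theorem F84902 : act 0 n18766 = n15718 := d7_1 D18766 (iv D15718) (iv F67257)
theorem F84905 : act 5 n18766 = n16232 := d37_1 D18766 (iv D16232) (iv D12600) (iv F53159) D14722
def n18767 : Q := act 6 n14724
theorem D18767 : act 6 n14724 = n18767 := rfl
theorem F84907 : act 0 n18767 = n15719 := d5_1 D18767 (iv D15719) (iv F67266)
theorem F84909 : act 3 n18767 = n14726 := d26_1 D18767 (iv D14726) (iv F67268)
theorem F84910 : act 4 n18767 = n18767 := d31_1 D18767 (iv D18767) F67269
theorem F84911 : act 5 n18767 = n16222 := d35_1 D18767 (iv D16222) F57851 (iv F53169) (iv F67270)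
theorem F84912 : act 7 n18767 = n18767 := d39_2 D14724 D18767 (iv D18767) (iv D14724) F53164
def n18768 : Q := act 8 n14724
theorem D18768 : act 8 n14724 = n18768 := rfl
theorem F84918 : act 7 n18768 = n14725 := d42_1 D18768 (iv D14725) D14724
def n18770 : Q := act 8 n14726
theorem D18770 : act 8 n14726 = n18770 := rfl
theorem F84925 : act 0 n18770 = n15722 := d7_1 D18770 (iv D15722) (iv F67277)
theorem F84927 : act 4 n18770 = n14729 := d33_1 D18770 (iv D14729) (iv F67279)
theorem F84928 : act 6 n18770 = n14727 := d40_1 D18770 (iv D14727) D14726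
theorem F84929 : act 7 n18770 = n18770 := d42_1 D18770 (iv D18770) F67281
def n18771 : Q := act 9 n14727
theorem D18771 : act 9 n14727 = n18771 := rfl
theorem F84930 : act 0 n18771 = n15723 := d8_1 D18771 (iv D15723) (iv F67282)
theorem F84932 : act 4 n18771 = n14730 := d34_1 D18771 (iv D14730) (iv F67284)
theorem F84933 : act 5 n18771 = n16239 := d38_1 D18771 (iv D16239) (iv F67285)
theorem F84934 : act 7 n18771 = n14728 := d43_1 D18771 (iv D14728) (iv F67286)
def n18772 : Q := act 5 n14729
theorem D18772 : act 5 n14729 = n18772 := rfl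
theorem F84935 : act 0 n18772 = n15724 := d4_1 D18772 (iv D15724) (iv F67292)
theorem F84936 : act 3 n18772 = n18772 := d25_1 D18772 (iv D18772) F67293
theorem F84937 : act 6 n18772 = n18772 := d35_2 (iv F67294) D18772 (iv D18772) F67294 F53186
theorem F84938 : act 7 n18772 = n18772 := d36_2 F67295 D18772 (iv D18772)
theorem F84939 : act 8 n18772 = n18772 := d37_2 D14729 D18772 (iv D18772) (iv D14729) F53182
def n18773 : Q := act 9 n14729
theorem D18773 : act 9 n14729 = n18773 := rfl
theorem F84940 : act 0 n18773 = n15725 := d8_1 D18773 (iv D15725) (iv F67292)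
theorem F84941 : act 3 n18773 = n18773 := d29_1 D18773 (iv D18773) F67293
theorem F84942 : act 6 n18773 = n14730 := d41_1 D18773 (iv D14730) (iv F67294)
theorem F84943 : act 7 n18773 = n18773 := d43_1 D18773 (iv D18773) F67295
def n18774 : Q := act 7 n14731
theorem D18774 : act 7 n14731 = n18774 := rfl
theorem F84945 : act 1 n18774 = n15726 := d14_1 D18774 (iv D15726) (iv F67301)
theorem F84950 : act 8 n18774 = n16269 := d42_2 (iv F67305) D18774 (iv D16269)
def n18775 : Q := act 4 n14733
theorem D18775 : act 4 n14733 = n18775 := rfl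
theorem F84951 : act 0 n18775 = n14740 := d3_1 D18775 (iv D14740) (iv F67312)
theorem F84952 : act 1 n18775 = n15727 := d11_1 D18775 (iv D15727) (iv F67313)
theorem F84953 : act 2 n18775 = n18775 := d18_1 D18775 (iv D18775) F67314
theorem F84954 : act 5 n18775 = n15928 := d30_2 D14733 D18775 (iv D15928) (iv D12384) (iv F53213)
theorem F84955 : act 7 n18775 = n14879 := d32_2 (iv F67316) D18775 (iv D14879)
theorem F84956 : act 8 n18775 = n14734 := d33_2 (iv F67317) D18775 (iv D14734)
theorem F84957 : act 9 n18775 = n15622 := d34_2 (iv F67318) D18775 (iv D15622)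
def n18776 : Q := act 6 n14733
theorem D18776 : act 6 n14733 = n18776 := rfl
theorem F84958 : act 0 n18776 = n14741 := d5_1 D18776 (iv D14741) (iv F67312)
theorem F84959 : act 1 n18776 = n15728 := d13_1 D18776 (iv D15728) (iv F67313)
theorem F84960 : act 2 n18776 = n18776 := d20_1 D18776 (iv D18776) F67314
theorem F84961 : act 3 n18776 = n14882 := d26_1 D18776 (iv D14882) (iv F67315)
theorem F84962 : act 5 n18776 = n14846 := d35_1 D18776 (iv D14846) (iv D11586) (iv F53214) D14733
theorem F84963 : act 8 n18776 = n14735 := d40_2 (iv F67317) D18776 (iv D14735)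
theorem F84964 : act 9 n18776 = n15623 := d41_2 (iv F67318) D18776 (iv D15623)
def n18777 : Q := act 3 n14734
theorem D18777 : act 3 n14734 = n18777 := rfl
theorem F84965 : act 0 n18777 = n14742 := d2_1 D18777 (iv D14742) (iv F67319)
theorem F84966 : act 1 n18777 = n15729 := d10_1 D18777 (iv D15729) (iv F67320)
theorem F84967 : act 4 n18777 = n15203 := d24_2 D14734 D18777 (iv D15203) (iv D11843) (iv F53220)
theorem F84968 : act 5 n18777 = n18777 := d25_2 F67322 D18777 (iv D18777)
theorem F84969 : act 7 n18777 = n15200 := d27_2 (iv F67323) D18777 (iv D15200)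
theorem F84970 : act 9 n18777 = n18777 := d29_2 F67324 D18777 (iv D18777)
def n18778 : Q := act 6 n14734
theorem D18778 : act 6 n14734 = n18778 := rfl
theorem F84971 : act 0 n18778 = n14743 := d5_1 D18778 (iv D14743) (iv F67319)
theorem F84972 : act 1 n18778 = n15730 := d13_1 D18778 (iv D15730) (iv F67320)
theorem F84973 : act 2 n18778 = n18778 := d20_1 D18778 (iv D18778) F67321
theorem F84974 : act 4 n18778 = n14735 := d31_1 D18778 (iv D14735) D14734
theorem F84975 : act 9 n18778 = n18778 := d41_2 F67324 D18778 (iv D18778)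
def n18779 : Q := act 7 n14735
theorem D18779 : act 7 n14735 = n18779 := rfl
theorem F84976 : act 0 n18779 = n14744 := d6_1 D18779 (iv D14744) (iv F67325)
theorem F84977 : act 1 n18779 = n15731 := d14_1 D18779 (iv D15731) (iv F67326)
theorem F84978 : act 2 n18779 = n18779 := d21_1 D18779 (iv D18779) F67327
theorem F84979 : act 3 n18779 = n15205 := d27_1 D18779 (iv D15205) (iv F67328)
theorem F84980 : act 5 n18779 = n14738 := d36_1 D18779 (iv D14738) (iv F67329)
theorem F84981 : act 6 n18779 = n15202 := d39_1 D18779 (iv D15202) (iv D11842) (iv F53221) D14735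
theorem F84982 : act 9 n18779 = n18779 := d43_2 F67330 D18779 (iv D18779)
def n18780 : Q := act 2 n14736
theorem D18780 : act 2 n14736 = n18780 := rfl
theorem F84983 : act 0 n18780 = n14745 := d1_1 D18780 (iv D14745) (iv F67331)
theorem F84987 : act 8 n18780 = n14852 := d22_2 (iv F67335) D18780 (iv D14852)
def n18781 : Q := act 6 n14736
theorem D18781 : act 6 n14736 = n18781 := rfl
theorem F84989 : act 0 n18781 = n14746 := d5_1 D18781 (iv D14746) (iv F67331)
theorem F84990 : act 1 n18781 = n15733 := d13_1 D18781 (iv D15733) (iv F67332)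
theorem F84991 : act 3 n18781 = n14737 := d26_1 D18781 (iv D14737) D14736
theorem F84992 : act 8 n18781 = n14853 := d40_2 (iv F67335) D18781 (iv D14853)
theorem F84993 : act 9 n18781 = n18781 := d41_2 F67336 D18781 (iv D18781)
def n18782 : Q := act 5 n14737
theorem D18782 : act 5 n14737 = n18782 := rfl
theorem F84994 : act 0 n18782 = n14747 := d4_1 D18782 (iv D14747) (iv F67337)
theorem F84995 : act 1 n18782 = n15734 := d12_1 D18782 (iv D15734) (iv F67338)
theorem F84996 : act 2 n18782 = n18782 := d19_1 D18782 (iv D18782) F67339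
theorem F84997 : act 6 n18782 = n18782 := d35_2 D14737 D18782 (iv D18782) (iv D14737) F53226
theorem F84998 : act 9 n18782 = n18782 := d38_2 F67342 D18782 (iv D18782)
def n18783 : Q := act 7 n14737
theorem D18783 : act 7 n14737 = n18783 := rfl
theorem F84999 : act 0 n18783 = n14748 := d6_1 D18783 (iv D14748) (iv F67337)
theorem F85000 : act 1 n18783 = n15735 := d14_1 D18783 (iv D15735) (iv F67338)
theorem F85001 : act 2 n18783 = n18783 := d21_1 D18783 (iv D18783) F67339
theorem F85002 : act 4 n18783 = n14738 := d32_1 D18783 (iv D14738) (iv F67340)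
theorem F85003 : act 6 n18783 = n18783 := d39_1 D18783 (iv D18783) (iv D14737) F53227 D14737
theorem F85004 : act 8 n18783 = n14855 := d42_2 (iv F67341) D18783 (iv D14855)
theorem F85005 : act 9 n18783 = n18783 := d43_2 F67342 D18783 (iv D18783)
def n18784 : Q := act 4 n14739
theorem D18784 : act 4 n14739 = n18784 := rfl
theorem F85006 : act 0 n18784 = n15928 := d3_1 D18784 (iv D15928) (iv F67349)
theorem F85007 : act 1 n18784 = n14752 := d11_1 D18784 (iv D14752) (iv F67350)
theorem F85008 : act 2 n18784 = n18784 := d18_1 D18784 (iv D18784) F67351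
theorem F85009 : act 5 n18784 = n14740 := d30_2 D14739 D18784 (iv D14740) (iv D11511) (iv F53239)
theorem F85010 : act 7 n18784 = n15622 := d32_2 (iv F67353) D18784 (iv D15622)
theorem F85011 : act 8 n18784 = n18784 := d33_2 F67354 D18784 (iv D18784)
theorem F85012 : act 9 n18784 = n14879 := d34_2 (iv F67355) D18784 (iv D14879)
def n18785 : Q := act 6 n14739
theorem D18785 : act 6 n14739 = n18785 := rfl
theorem F85013 : act 0 n18785 = n15929 := d5_1 D18785 (iv D15929) (iv F67349)
theorem F85014 : act 1 n18785 = n14753 := d13_1 D18785 (iv D14753) (iv F67350)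
theorem F85015 : act 2 n18785 = n18785 := d20_1 D18785 (iv D18785) F67351
theorem F85016 : act 3 n18785 = n14884 := d26_1 D18785 (iv D14884) (iv F67352)
theorem F85017 : act 5 n18785 = n14858 := d35_1 D18785 (iv D14858) (iv D11594) (iv F53240) D14739
theorem F85018 : act 8 n18785 = n18785 := d40_2 F67354 D18785 (iv D18785)
theorem F85019 : act 9 n18785 = n14880 := d41_2 (iv F67355) D18785 (iv D14880)
def n18786 : Q := act 3 n14740
theorem D18786 : act 3 n14740 = n18786 := rfl
theorem F85020 : act 1 n18786 = n14760 := d10_1 D18786 (iv D14760) (iv F67356)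
theorem F85021 : act 4 n18786 = n15933 := d24_2 D14740 D18786 (iv D15933) (iv D12387) (iv F53245)
theorem F85022 : act 7 n18786 = n15930 := d27_2 (iv F67358) D18786 (iv D15930)
theorem F85023 : act 8 n18786 = n14742 := d28_2 (iv F67359) D18786 (iv D14742)
def n18787 : Q := act 6 n14740
theorem D18787 : act 6 n14740 = n18787 := rfl
theorem F85024 : act 1 n18787 = n14761 := d13_1 D18787 (iv D14761) (iv F67356)
theorem F85025 : act 2 n18787 = n18787 := d20_1 D18787 (iv D18787) F67357
theorem F85026 : act 4 n18787 = n14741 := d31_1 D18787 (iv D14741) D14740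
theorem F85027 : act 8 n18787 = n14743 := d40_2 (iv F67359) D18787 (iv D14743)
def n18788 : Q := act 7 n14741
theorem D18788 : act 7 n14741 = n18788 := rfl
theorem F85028 : act 1 n18788 = n14762 := d14_1 D18788 (iv D14762) (iv F67360)
theorem F85029 : act 2 n18788 = n18788 := d21_1 D18788 (iv D18788) F67361
theorem F85030 : act 3 n18788 = n15935 := d27_1 D18788 (iv D15935) (iv F67362)
theorem F85031 : act 5 n18788 = n14866 := d36_1 D18788 (iv D14866) (iv F67363)
theorem F85032 : act 6 n18788 = n15932 := d39_1 D18788 (iv D15932) (iv D12386) (iv F53246) D14741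
theorem F85033 : act 8 n18788 = n14744 := d42_2 (iv F67364) D18788 (iv D14744)
def n18789 : Q := act 2 n14742
theorem D18789 : act 2 n14742 = n18789 := rfl
theorem F85034 : act 3 n18789 = n18789 := d17_2 D14742 D18789 (iv D18789) (iv D14742) F53249
theorem F85035 : act 4 n18789 = n16347 := d18_2 (iv F67366) D18789 (iv D16347)
theorem F85036 : act 5 n18789 = n18789 := d19_2 F67367 D18789 (iv D18789)
theorem F85037 : act 7 n18789 = n16343 := d21_2 (iv F67368) D18789 (iv D16343)
theorem F85038 : act 9 n18789 = n18789 := d23_2 F67369 D18789 (iv D18789)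
def n18790 : Q := act 6 n14742
theorem D18790 : act 6 n14742 = n18790 := rfl
theorem F85039 : act 1 n18790 = n14767 := d13_1 D18790 (iv D14767) (iv F67365)
theorem F85040 : act 3 n18790 = n14743 := d26_1 D18790 (iv D14743) D14742
theorem F85041 : act 4 n18790 = n16348 := d31_1 D18790 (iv D16348) (iv F67366)
theorem F85042 : act 9 n18790 = n18790 := d41_2 F67369 D18790 (iv D18790)
def n18791 : Q := act 5 n14743
theorem D18791 : act 5 n14743 = n18791 := rfl
theorem F85043 : act 1 n18791 = n14768 := d12_1 D18791 (iv D14768) (iv F67370)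
theorem F85044 : act 2 n18791 = n18791 := d19_1 D18791 (iv D18791) F67371
theorem F85045 : act 4 n18791 = n14747 := d30_1 D18791 (iv D14747) F53265 (iv F53256) (iv F67372)
theorem F85046 : act 6 n18791 = n18791 := d35_2 D14743 D18791 (iv D18791) (iv D14743) F53250
theorem F85047 : act 9 n18791 = n18791 := d38_2 F67373 D18791 (iv D18791)
def n18792 : Q := act 7 n14743
theorem D18792 : act 7 n14743 = n18792 := rfl
theorem F85048 : act 1 n18792 = n14769 := d14_1 D18792 (iv D14769) (iv F67370)
theorem F85049 : act 2 n18792 = n18792 := d21_1 D18792 (iv D18792) F67371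
theorem F85050 : act 4 n18792 = n14744 := d32_1 D18792 (iv D14744) (iv F67372)
theorem F85051 : act 6 n18792 = n16346 := d39_1 D18792 (iv D16346) (iv D12697) (iv F53251) D14743
theorem F85052 : act 9 n18792 = n18792 := d43_2 F67373 D18792 (iv D18792)
def n18793 : Q := act 6 n14745
theorem D18793 : act 6 n14745 = n18793 := rfl
theorem F85053 : act 1 n18793 = n18793 := d13_1 D18793 (iv D18793) F67380
theorem F85054 : act 2 n18793 = n14746 := d20_1 D18793 (iv D14746) D14745
theorem F85055 : act 3 n18793 = n18793 := d26_1 D18793 (iv D18793) F67381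
theorem F85056 : act 8 n18793 = n14874 := d40_2 (iv F67384) D18793 (iv D14874)
theorem F85057 : act 9 n18793 = n18793 := d41_2 F67385 D18793 (iv D18793)
def n18794 : Q := act 5 n14746
theorem D18794 : act 5 n14746 = n18794 := rfl
theorem F85058 : act 1 n18794 = n14770 := d12_1 D18794 (iv D14770) (iv F67386)
theorem F85059 : act 3 n18794 = n14747 := d25_1 D18794 (iv D14747) (iv F67387)
theorem F85060 : act 6 n18794 = n18794 := d35_2 D14746 D18794 (iv D18794) (iv D14746) F53259
theorem F85061 : act 9 n18794 = n18794 := d38_2 F67389 D18794 (iv D18794)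
def n18795 : Q := act 7 n14746
theorem D18795 : act 7 n14746 = n18795 := rfl
theorem F85062 : act 1 n18795 = n14771 := d14_1 D18795 (iv D14771) (iv F67386)
theorem F85063 : act 3 n18795 = n14748 := d27_1 D18795 (iv D14748) (iv F67387)
theorem F85064 : act 6 n18795 = n18795 := d39_1 D18795 (iv D18795) (iv D14746) F53260 D14746
theorem F85065 : act 8 n18795 = n14876 := d42_2 (iv F67388) D18795 (iv D14876)
theorem F85066 : act 9 n18795 = n18795 := d43_2 F67389 D18795 (iv D18795)
def n18796 : Q := act 7 n14747
theorem D18796 : act 7 n14747 = n18796 := rfl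
theorem F85067 : act 1 n18796 = n14772 := d14_1 D18796 (iv D14772) (iv F67390)
theorem F85068 : act 2 n18796 = n18796 := d21_1 D18796 (iv D18796) F67391
theorem F85069 : act 5 n18796 = n14748 := d36_1 D18796 (iv D14748) D14747
theorem F85070 : act 9 n18796 = n18796 := d43_2 F67393 D18796 (iv D18796)
def n18797 : Q := act 8 n14747
theorem D18797 : act 8 n14747 = n18797 := rfl
theorem F85071 : act 1 n18797 = n14773 := d15_1 D18797 (iv D14773) (iv F67390)
theorem F85072 : act 2 n18797 = n18797 := d22_1 D18797 (iv D18797) F67391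
theorem F85073 : act 5 n18797 = n14878 := d37_1 D18797 (iv D14878) (iv D11607) (iv F53266) D14747
theorem F85074 : act 6 n18797 = n18797 := d40_1 D18797 (iv D18797) F67392
def n18798 : Q := act 4 n14749
theorem D18798 : act 4 n14749 = n18798 := rfl
theorem F85075 : act 0 n18798 = n15757 := d3_1 D18798 (iv D15757) (iv F67400)
theorem F85076 : act 1 n18798 = n14883 := d11_1 D18798 (iv D14883) (iv F67401)
theorem F85077 : act 2 n18798 = n18798 := d18_1 D18798 (iv D18798) F67402
theorem F85078 : act 5 n18798 = n14862 := d30_2 D14749 D18798 (iv D14862) (iv D11597) (iv F53277)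
theorem F85079 : act 7 n18798 = n15608 := d32_2 (iv F67404) D18798 (iv D15608)
theorem F85080 : act 8 n18798 = n18798 := d33_2 F67405 D18798 (iv D18798)
theorem F85081 : act 9 n18798 = n14857 := d34_2 (iv F67406) D18798 (iv D14857)
def n18799 : Q := act 6 n14749
theorem D18799 : act 6 n14749 = n18799 := rfl
theorem F85082 : act 0 n18799 = n15758 := d5_1 D18799 (iv D15758) (iv F67400)
theorem F85083 : act 1 n18799 = n14884 := d13_1 D18799 (iv D14884) (iv F67401)
theorem F85084 : act 2 n18799 = n18799 := d20_1 D18799 (iv D18799) F67402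
theorem F85085 : act 3 n18799 = n14753 := d26_1 D18799 (iv D14753) (iv F67403)
theorem F85086 : act 5 n18799 = n14880 := d35_1 D18799 (iv D14880) (iv D11609) (iv F53278) D14749
theorem F85087 : act 8 n18799 = n18799 := d40_2 F67405 D18799 (iv D18799)
theorem F85088 : act 9 n18799 = n14858 := d41_2 (iv F67406) D18799 (iv D14858)
def n18800 : Q := act 4 n14750
theorem D18800 : act 4 n14750 = n18800 := rfl
theorem F85089 : act 0 n18800 = n15740 := d3_1 D18800 (iv D15740) (iv F67407)
theorem F85090 : act 1 n18800 = n15622 := d11_1 D18800 (iv D15622) (iv F67408)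
theorem F85091 : act 2 n18800 = n14774 := d18_1 D18800 (iv D14774) (iv F67409)
theorem F85092 : act 5 n18800 = n14756 := d30_2 D14750 D18800 (iv D14756) (iv D11523) (iv F53285)
theorem F85093 : act 7 n18800 = n14752 := d32_2 (iv F67411) D18800 (iv D14752)
theorem F85094 : act 8 n18800 = n18800 := d33_2 F67412 D18800 (iv D18800)
theorem F85095 : act 9 n18800 = n15727 := d34_2 (iv F67413) D18800 (iv D15727)
def n18801 : Q := act 6 n14750
theorem D18801 : act 6 n14750 = n18801 := rfl
theorem F85096 : act 0 n18801 = n15741 := d5_1 D18801 (iv D15741) (iv F67407)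
theorem F85097 : act 1 n18801 = n15623 := d13_1 D18801 (iv D15623) (iv F67408)
theorem F85098 : act 2 n18801 = n14775 := d20_1 D18801 (iv D14775) (iv F67409)
theorem F85099 : act 3 n18801 = n15609 := d26_1 D18801 (iv D15609) (iv F67410)
theorem F85100 : act 5 n18801 = n15880 := d35_1 D18801 (iv D15880) (iv D12351) (iv F53286) D14750
theorem F85101 : act 8 n18801 = n18801 := d40_2 F67412 D18801 (iv D18801)
theorem F85102 : act 9 n18801 = n15728 := d41_2 (iv F67413) D18801 (iv D15728)
def n18802 : Q := act 4 n14751
theorem D18802 : act 4 n14751 = n18802 := rfl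
theorem F85103 : act 0 n18802 = n15738 := d3_1 D18802 (iv D15738) (iv F67414)
theorem F85104 : act 1 n18802 = n14879 := d11_1 D18802 (iv D14879) (iv F67415)
theorem F85105 : act 2 n18802 = n14776 := d18_1 D18802 (iv D14776) (iv F67416)
theorem F85106 : act 5 n18802 = n14758 := d30_2 D14751 D18802 (iv D14758) (iv D11524) (iv F53293)
theorem F85107 : act 7 n18802 = n15727 := d32_2 (iv F67418) D18802 (iv D15727)
theorem F85108 : act 8 n18802 = n15166 := d33_2 (iv F67419) D18802 (iv D15166)
theorem F85109 : act 9 n18802 = n14752 := d34_2 (iv F67420) D18802 (iv D14752)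
def n18803 : Q := act 6 n14751
theorem D18803 : act 6 n14751 = n18803 := rfl
theorem F85110 : act 0 n18803 = n15739 := d5_1 D18803 (iv D15739) (iv F67414)
theorem F85111 : act 1 n18803 = n14880 := d13_1 D18803 (iv D14880) (iv F67415)
theorem F85112 : act 2 n18803 = n14777 := d20_1 D18803 (iv D14777) (iv F67416)
theorem F85113 : act 3 n18803 = n14858 := d26_1 D18803 (iv D14858) (iv F67417)
theorem F85114 : act 5 n18803 = n14884 := d35_1 D18803 (iv D14884) (iv D11611) (iv F53294) D14751
theorem F85115 : act 8 n18803 = n15167 := d40_2 (iv F67419) D18803 (iv D15167)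
theorem F85116 : act 9 n18803 = n14753 := d41_2 (iv F67420) D18803 (iv D14753)
def n18804 : Q := act 3 n14752
theorem D18804 : act 3 n14752 = n18804 := rfl
theorem F85117 : act 0 n18804 = n15759 := d2_1 D18804 (iv D15759) (iv F67421)
theorem F85118 : act 5 n18804 = n14760 := d25_2 (iv F67423) D18804 (iv D14760)
theorem F85119 : act 8 n18804 = n18804 := d28_2 F67424 D18804 (iv D18804)
def n18805 : Q := act 6 n14752
theorem D18805 : act 6 n14752 = n18805 := rfl
theorem F85120 : act 0 n18805 = n15760 := d5_1 D18805 (iv D15760) (iv F67421)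
theorem F85121 : act 2 n18805 = n14779 := d20_1 D18805 (iv D14779) (iv F67422)
theorem F85122 : act 4 n18805 = n14753 := d31_1 D18805 (iv D14753) D14752
theorem F85123 : act 8 n18805 = n18805 := d40_2 F67424 D18805 (iv D18805)
def n18806 : Q := act 7 n14753
theorem D18806 : act 7 n14753 = n18806 := rfl
theorem F85124 : act 0 n18806 = n15761 := d6_1 D18806 (iv D15761) (iv F67425)
theorem F85125 : act 2 n18806 = n14780 := d21_1 D18806 (iv D14780) (iv F67426)
theorem F85126 : act 5 n18806 = n14887 := d36_1 D18806 (iv D14887) (iv F67427)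
theorem F85127 : act 8 n18806 = n18806 := d42_2 F67428 D18806 (iv D18806)
def n18807 : Q := act 4 n14754
theorem D18807 : act 4 n14754 = n18807 := rfl
theorem F85128 : act 0 n18807 = n15762 := d3_1 D18807 (iv D15762) (iv F67429)
theorem F85129 : act 1 n18807 = n15757 := d11_1 D18807 (iv D15757) (iv F67430)
theorem F85130 : act 2 n18807 = n14781 := d18_1 D18807 (iv D14781) (iv F67431)
theorem F85131 : act 5 n18807 = n15879 := d30_2 D14754 D18807 (iv D15879) (iv D12351) (iv F53304)
theorem F85132 : act 7 n18807 = n14888 := d32_2 (iv F67433) D18807 (iv D14888)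
theorem F85133 : act 8 n18807 = n18807 := d33_2 F67434 D18807 (iv D18807)
theorem F85134 : act 9 n18807 = n15536 := d34_2 (iv F67435) D18807 (iv D15536)
def n18808 : Q := act 6 n14754
theorem D18808 : act 6 n14754 = n18808 := rfl
theorem F85135 : act 0 n18808 = n15763 := d5_1 D18808 (iv D15763) (iv F67429)
theorem F85136 : act 1 n18808 = n15758 := d13_1 D18808 (iv D15758) (iv F67430)
theorem F85137 : act 2 n18808 = n14782 := d20_1 D18808 (iv D14782) (iv F67431)
theorem F85138 : act 3 n18808 = n15737 := d26_1 D18808 (iv D15737) (iv F67432)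
theorem F85139 : act 5 n18808 = n14757 := d35_1 D18808 (iv D14757) (iv D11523) (iv F53305) D14754
theorem F85140 : act 8 n18808 = n18808 := d40_2 F67434 D18808 (iv D18808)
theorem F85141 : act 9 n18808 = n15537 := d41_2 (iv F67435) D18808 (iv D15537)
def n18809 : Q := act 4 n14755
theorem D18809 : act 4 n14755 = n18809 := rfl
theorem F85142 : act 0 n18809 = n15736 := d3_1 D18809 (iv D15736) (iv F67436)
theorem F85143 : act 1 n18809 = n15928 := d11_1 D18809 (iv D15928) (iv F67437)
theorem F85144 : act 2 n18809 = n14783 := d18_1 D18809 (iv D14783) (iv F67438)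
theorem F85145 : act 5 n18809 = n15727 := d30_2 D14755 D18809 (iv D15727) (iv D12241) (iv F53312)
theorem F85146 : act 7 n18809 = n14758 := d32_2 (iv F67440) D18809 (iv D14758)
theorem F85147 : act 8 n18809 = n18809 := d33_2 F67441 D18809 (iv D18809)
theorem F85148 : act 9 n18809 = n14756 := d34_2 (iv F67442) D18809 (iv D14756)
def n18810 : Q := act 6 n14755
theorem D18810 : act 6 n14755 = n18810 := rfl
theorem F85149 : act 0 n18810 = n15737 := d5_1 D18810 (iv D15737) (iv F67436)
theorem F85150 : act 1 n18810 = n15929 := d13_1 D18810 (iv D15929) (iv F67437)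
theorem F85151 : act 2 n18810 = n14784 := d20_1 D18810 (iv D14784) (iv F67438)
theorem F85152 : act 3 n18810 = n15763 := d26_1 D18810 (iv D15763) (iv F67439)
theorem F85153 : act 5 n18810 = n15537 := d35_1 D18810 (iv D15537) (iv D12100) (iv F53313) D14755
theorem F85154 : act 8 n18810 = n18810 := d40_2 F67441 D18810 (iv D18810)
theorem F85155 : act 9 n18810 = n14757 := d41_2 (iv F67442) D18810 (iv D14757)
def n18811 : Q := act 3 n14756
theorem D18811 : act 3 n14756 = n18811 := rfl
theorem F85156 : act 0 n18811 = n15764 := d2_1 D18811 (iv D15764) (iv F67443)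
theorem F85157 : act 1 n18811 = n15930 := d10_1 D18811 (iv D15930) (iv F67444)
theorem F85158 : act 4 n18811 = n15897 := d24_2 D14756 D18811 (iv D15897) (iv D12363) (iv F53319)
theorem F85159 : act 7 n18811 = n14760 := d27_2 (iv F67446) D18811 (iv D14760)
theorem F85160 : act 8 n18811 = n14763 := d28_2 (iv F67447) D18811 (iv D14763)
def n18812 : Q := act 6 n14756
theorem D18812 : act 6 n14756 = n18812 := rfl
theorem F85161 : act 0 n18812 = n15765 := d5_1 D18812 (iv D15765) (iv F67443)
theorem F85162 : act 1 n18812 = n15931 := d13_1 D18812 (iv D15931) (iv F67444)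
theorem F85163 : act 2 n18812 = n14786 := d20_1 D18812 (iv D14786) (iv F67445)
theorem F85164 : act 4 n18812 = n14757 := d31_1 D18812 (iv D14757) D14756
theorem F85165 : act 8 n18812 = n14764 := d40_2 (iv F67447) D18812 (iv D14764)
def n18813 : Q := act 7 n14757
theorem D18813 : act 7 n14757 = n18813 := rfl
theorem F85166 : act 0 n18813 = n15766 := d6_1 D18813 (iv D15766) (iv F67448)
theorem F85167 : act 1 n18813 = n15932 := d14_1 D18813 (iv D15932) (iv F67449)
theorem F85168 : act 2 n18813 = n14787 := d21_1 D18813 (iv D14787) (iv F67450)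
theorem F85169 : act 3 n18813 = n15899 := d27_1 D18813 (iv D15899) (iv F67451)
theorem F85170 : act 6 n18813 = n14762 := d39_1 D18813 (iv D14762) (iv D11526) (iv F53320) D14757
theorem F85171 : act 8 n18813 = n14765 := d42_2 (iv F67452) D18813 (iv D14765)
def n18814 : Q := act 3 n14758
theorem D18814 : act 3 n14758 = n18814 := rfl
theorem F85172 : act 0 n18814 = n15767 := d2_1 D18814 (iv D15767) (iv F67453)
theorem F85173 : act 4 n18814 = n15943 := d24_2 D14758 D18814 (iv D15943) (iv D12394) (iv F53324)
theorem F85174 : act 8 n18814 = n18814 := d28_2 F67455 D18814 (iv D18814)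
theorem F85175 : act 9 n18814 = n14760 := d29_2 (iv F67456) D18814 (iv D14760)
def n18815 : Q := act 6 n14758
theorem D18815 : act 6 n14758 = n18815 := rfl
theorem F85176 : act 0 n18815 = n15768 := d5_1 D18815 (iv D15768) (iv F67453)
theorem F85177 : act 2 n18815 = n14789 := d20_1 D18815 (iv D14789) (iv F67454)
theorem F85178 : act 4 n18815 = n14759 := d31_1 D18815 (iv D14759) D14758
theorem F85179 : act 8 n18815 = n18815 := d40_2 F67455 D18815 (iv D18815)
theorem F85180 : act 9 n18815 = n14761 := d41_2 (iv F67456) D18815 (iv D14761)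
def n18816 : Q := act 7 n14759
theorem D18816 : act 7 n14759 = n18816 := rfl
theorem F85181 : act 0 n18816 = n15769 := d6_1 D18816 (iv D15769) (iv F67457)
theorem F85182 : act 2 n18816 = n14790 := d21_1 D18816 (iv D14790) (iv F67458)
theorem F85183 : act 3 n18816 = n15945 := d27_1 D18816 (iv D15945) (iv F67459)
theorem F85184 : act 5 n18816 = n14895 := d36_1 D18816 (iv D14895) (iv F67460)
theorem F85185 : act 8 n18816 = n18816 := d42_2 F67461 D18816 (iv D18816)
theorem F85186 : act 9 n18816 = n14762 := d43_2 (iv F67462) D18816 (iv D14762)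
def n18817 : Q := act 2 n14760
theorem D18817 : act 2 n14760 = n18817 := rfl
theorem F85187 : act 0 n18817 = n15770 := d1_1 D18817 (iv D15770) (iv F67463)
theorem F85188 : act 3 n18817 = n14791 := d17_2 D14760 D18817 (iv D14791) (iv D11545) (iv F53328)
theorem F85189 : act 8 n18817 = n14766 := d22_2 (iv F67464) D18817 (iv D14766)
def n18818 : Q := act 6 n14760
theorem D18818 : act 6 n14760 = n18818 := rfl
theorem F85190 : act 0 n18818 = n15771 := d5_1 D18818 (iv D15771) (iv F67463)
theorem F85191 : act 3 n18818 = n14761 := d26_1 D18818 (iv D14761) D14760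
theorem F85192 : act 8 n18818 = n14767 := d40_2 (iv F67464) D18818 (iv D14767)
def n18819 : Q := act 5 n14761
theorem D18819 : act 5 n14761 = n18819 := rfl
theorem F85193 : act 0 n18819 = n15772 := d4_1 D18819 (iv D15772) (iv F67465)
theorem F85194 : act 2 n18819 = n14793 := d19_1 D18819 (iv D14793) (iv F67466)
theorem F85195 : act 4 n18819 = n14898 := d30_1 D18819 (iv D14898) F53793 (iv F53332) (iv F67467)
def n18820 : Q := act 7 n14761
theorem D18820 : act 7 n14761 = n18820 := rfl
theorem F85196 : act 0 n18820 = n15773 := d6_1 D18820 (iv D15773) (iv F67465)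
theorem F85197 : act 2 n18820 = n14794 := d21_1 D18820 (iv D14794) (iv F67466)
theorem F85198 : act 4 n18820 = n14762 := d32_1 D18820 (iv D14762) (iv F67467)
theorem F85199 : act 8 n18820 = n14769 := d42_2 (iv F67468) D18820 (iv D14769)
def n18821 : Q := act 2 n14763
theorem D18821 : act 2 n14763 = n18821 := rfl
theorem F85200 : act 0 n18821 = n15774 := d1_1 D18821 (iv D15774) (iv F67473)
theorem F85201 : act 3 n18821 = n14795 := d17_2 D14763 D18821 (iv D14795) (iv D11548) (iv F53336)
theorem F85202 : act 4 n18821 = n16303 := d18_2 (iv F67475) D18821 (iv D16303)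
theorem F85203 : act 5 n18821 = n18821 := d19_2 F67476 D18821 (iv D18821)
theorem F85204 : act 7 n18821 = n14766 := d21_2 (iv F67477) D18821 (iv D14766)
theorem F85205 : act 9 n18821 = n18821 := d23_2 F67478 D18821 (iv D18821)
def n18822 : Q := act 6 n14763
theorem D18822 : act 6 n14763 = n18822 := rfl
theorem F85206 : act 0 n18822 = n15775 := d5_1 D18822 (iv D15775) (iv F67473)
theorem F85207 : act 1 n18822 = n16344 := d13_1 D18822 (iv D16344) (iv F67474)
theorem F85208 : act 3 n18822 = n14764 := d26_1 D18822 (iv D14764) D14763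
theorem F85209 : act 4 n18822 = n16304 := d31_1 D18822 (iv D16304) (iv F67475)
theorem F85210 : act 9 n18822 = n18822 := d41_2 F67478 D18822 (iv D18822)
def n18823 : Q := act 5 n14764
theorem D18823 : act 5 n14764 = n18823 := rfl
theorem F85211 : act 0 n18823 = n15776 := d4_1 D18823 (iv D15776) (iv F67479)
theorem F85212 : act 1 n18823 = n16345 := d12_1 D18823 (iv D16345) (iv F67480)
theorem F85213 : act 2 n18823 = n14797 := d19_1 D18823 (iv D14797) (iv F67481)
theorem F85214 : act 4 n18823 = n18823 := d30_1 D18823 (iv D18823) F67482 F53344 (iv F67482)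
theorem F85215 : act 6 n18823 = n18823 := d35_2 D14764 D18823 (iv D18823) (iv D14764) F53337
theorem F85216 : act 9 n18823 = n18823 := d38_2 F67483 D18823 (iv D18823)
def n18824 : Q := act 7 n14764
theorem D18824 : act 7 n14764 = n18824 := rfl
theorem F85217 : act 0 n18824 = n15777 := d6_1 D18824 (iv D15777) (iv F67479)
theorem F85218 : act 1 n18824 = n16346 := d14_1 D18824 (iv D16346) (iv F67480)
theorem F85219 : act 2 n18824 = n14798 := d21_1 D18824 (iv D14798) (iv F67481)
theorem F85220 : act 4 n18824 = n14765 := d32_1 D18824 (iv D14765) (iv F67482)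
theorem F85221 : act 6 n18824 = n14769 := d39_1 D18824 (iv D14769) (iv D11530) (iv F53338) D14764
theorem F85222 : act 9 n18824 = n18824 := d43_2 F67483 D18824 (iv D18824)
def n18825 : Q := act 1 n14766
theorem D18825 : act 1 n14766 = n18825 := rfl
theorem F85223 : act 3 n18825 = n14799 := d10_2 (iv F67492) D18825 (iv D14799)
theorem F85224 : act 5 n18825 = n18825 := d12_2 F67493 D18825 (iv D18825)
theorem F85225 : act 9 n18825 = n18825 := d16_2 F67494 D18825 (iv D18825)
def n18826 : Q := act 6 n14766
theorem D18826 : act 6 n14766 = n18826 := rfl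
theorem F85226 : act 0 n18826 = n15779 := d5_1 D18826 (iv D15779) (iv F67491)
theorem F85227 : act 2 n18826 = n14767 := d20_1 D18826 (iv D14767) D14766
theorem F85228 : act 3 n18826 = n14800 := d26_1 D18826 (iv D14800) (iv F67492)
theorem F85229 : act 9 n18826 = n18826 := d41_2 F67494 D18826 (iv D18826)
def n18827 : Q := act 5 n14767
theorem D18827 : act 5 n14767 = n18827 := rfl
theorem F85230 : act 0 n18827 = n15780 := d4_1 D18827 (iv D15780) (iv F67495)
theorem F85231 : act 3 n18827 = n14768 := d25_1 D18827 (iv D14768) (iv F67496)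
theorem F85232 : act 6 n18827 = n18827 := d35_2 D14767 D18827 (iv D18827) (iv D14767) F53347
theorem F85233 : act 9 n18827 = n18827 := d38_2 F67497 D18827 (iv D18827)
def n18828 : Q := act 7 n14767
theorem D18828 : act 7 n14767 = n18828 := rfl
theorem F85234 : act 0 n18828 = n15781 := d6_1 D18828 (iv D15781) (iv F67495)
theorem F85235 : act 3 n18828 = n14769 := d27_1 D18828 (iv D14769) (iv F67496)
theorem F85236 : act 9 n18828 = n18828 := d43_2 F67497 D18828 (iv D18828)
def n18829 : Q := act 7 n14768
theorem D18829 : act 7 n14768 = n18829 := rfl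
theorem F85237 : act 0 n18829 = n15782 := d6_1 D18829 (iv D15782) (iv F67498)
theorem F85238 : act 2 n18829 = n14803 := d21_1 D18829 (iv D14803) (iv F67499)
theorem F85239 : act 4 n18829 = n14772 := d32_1 D18829 (iv D14772) (iv F67500)
theorem F85240 : act 5 n18829 = n14769 := d36_1 D18829 (iv D14769) D14768
theorem F85241 : act 9 n18829 = n18829 := d43_2 F67502 D18829 (iv D18829)
def n18830 : Q := act 8 n14768
theorem D18830 : act 8 n14768 = n18830 := rfl
theorem F85242 : act 0 n18830 = n15783 := d7_1 D18830 (iv D15783) (iv F67498)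
theorem F85243 : act 2 n18830 = n14804 := d22_1 D18830 (iv D14804) (iv F67499)
theorem F85244 : act 4 n18830 = n14773 := d33_1 D18830 (iv D14773) (iv F67500)
theorem F85245 : act 6 n18830 = n18830 := d40_1 D18830 (iv D18830) F67501
def n18831 : Q := act 4 n14770
theorem D18831 : act 4 n14770 = n18831 := rfl
theorem F85246 : act 0 n18831 = n15784 := d3_1 D18831 (iv D15784) (iv F67507)
theorem F85247 : act 2 n18831 = n18831 := d18_1 D18831 (iv D18831) F67508
theorem F85248 : act 6 n18831 = n18831 := d31_2 F67510 D18831 (iv D18831)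
theorem F85249 : act 9 n18831 = n18831 := d34_2 F67511 D18831 (iv D18831)
def n18832 : Q := act 7 n14770
theorem D18832 : act 7 n14770 = n18832 := rfl
theorem F85250 : act 0 n18832 = n15785 := d6_1 D18832 (iv D15785) (iv F67507)
theorem F85251 : act 2 n18832 = n18832 := d21_1 D18832 (iv D18832) F67508
theorem F85252 : act 3 n18832 = n14772 := d27_1 D18832 (iv D14772) (iv F67509)
theorem F85253 : act 5 n18832 = n14771 := d36_1 D18832 (iv D14771) D14770
theorem F85254 : act 9 n18832 = n18832 := d43_2 F67511 D18832 (iv D18832)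
def n18833 : Q := act 8 n14770
theorem D18833 : act 8 n14770 = n18833 := rfl
theorem F85255 : act 0 n18833 = n15786 := d7_1 D18833 (iv D15786) (iv F67507)
theorem F85256 : act 2 n18833 = n18833 := d22_1 D18833 (iv D18833) F67508
theorem F85257 : act 3 n18833 = n14773 := d28_1 D18833 (iv D14773) (iv F67509)
theorem F85258 : act 5 n18833 = n14912 := d37_1 D18833 (iv D14912) (iv D11629) (iv F53360) D14770
theorem F85259 : act 6 n18833 = n18833 := d40_1 D18833 (iv D18833) F67510
def n18834 : Q := act 6 n14772
theorem D18834 : act 6 n14772 = n18834 := rfl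
theorem F85260 : act 0 n18834 = n15787 := d5_1 D18834 (iv D15787) (iv F67518)
theorem F85261 : act 2 n18834 = n14805 := d20_1 D18834 (iv D14805) (iv F67519)
theorem F85262 : act 5 n18834 = n18834 := d35_1 D18834 (iv D18834) F67520 F53369 (iv F67520)
theorem F85263 : act 7 n18834 = n18834 := d39_2 D14772 D18834 (iv D18834) (iv D14772) F53364
theorem F85264 : act 9 n18834 = n18834 := d41_2 F67521 D18834 (iv D18834)
def n18835 : Q := act 8 n14772
theorem D18835 : act 8 n14772 = n18835 := rfl
theorem F85265 : act 0 n18835 = n15788 := d7_1 D18835 (iv D15788) (iv F67518)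
theorem F85266 : act 2 n18835 = n14806 := d22_1 D18835 (iv D14806) (iv F67519)
theorem F85267 : act 5 n18835 = n14914 := d37_1 D18835 (iv D14914) F53841 (iv F53370) (iv F67520)
theorem F85268 : act 7 n18835 = n14773 := d42_1 D18835 (iv D14773) D14772
def n18836 : Q := act 9 n14773
theorem D18836 : act 9 n14773 = n18836 := rfl
theorem F85269 : act 0 n18836 = n15789 := d8_1 D18836 (iv D15789) (iv F67522)
theorem F85270 : act 2 n18836 = n14807 := d23_1 D18836 (iv D14807) (iv F67523)
theorem F85271 : act 5 n18836 = n14915 := d38_1 D18836 (iv D14915) (iv F67524)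
theorem F85272 : act 6 n18836 = n18836 := d41_1 D18836 (iv D18836) F67525
theorem F85273 : act 8 n18836 = n18836 := d44_1 D18836 (iv D18836) (iv D14773) F53365 D14773
def n18837 : Q := act 3 n14774
theorem D18837 : act 3 n14774 = n18837 := rfl
theorem F85274 : act 0 n18837 = n15790 := d2_1 D18837 (iv D15790) (iv F67526)
theorem F85275 : act 1 n18837 = n18837 := d10_1 D18837 (iv D18837) F67527
theorem F85276 : act 4 n18837 = n18837 := d24_2 D14774 D18837 (iv D18837) (iv D14774) F53374
theorem F85277 : act 5 n18837 = n14785 := d25_2 (iv F67528) D18837 (iv D14785)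
theorem F85278 : act 7 n18837 = n14778 := d27_2 (iv F67529) D18837 (iv D14778)
theorem F85279 : act 8 n18837 = n18837 := d28_2 F67530 D18837 (iv D18837)
theorem F85280 : act 9 n18837 = n16740 := d29_2 (iv F67531) D18837 (iv D16740)
def n18838 : Q := act 6 n14774
theorem D18838 : act 6 n14774 = n18838 := rfl
theorem F85281 : act 0 n18838 = n15791 := d5_1 D18838 (iv D15791) (iv F67526)
theorem F85282 : act 1 n18838 = n18838 := d13_1 D18838 (iv D18838) F67527
theorem F85283 : act 4 n18838 = n14775 := d31_1 D18838 (iv D14775) D14774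
theorem F85284 : act 8 n18838 = n18838 := d40_2 F67530 D18838 (iv D18838)
theorem F85285 : act 9 n18838 = n16741 := d41_2 (iv F67531) D18838 (iv D16741)
def n18839 : Q := act 7 n14775
theorem D18839 : act 7 n14775 = n18839 := rfl
theorem F85286 : act 0 n18839 = n15792 := d6_1 D18839 (iv D15792) (iv F67532)
theorem F85287 : act 1 n18839 = n18839 := d14_1 D18839 (iv D18839) F67533
theorem F85288 : act 3 n18839 = n18839 := d27_1 D18839 (iv D18839) F67534
theorem F85289 : act 5 n18839 = n16924 := d36_1 D18839 (iv D16924) (iv F67535)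
theorem F85290 : act 6 n18839 = n14780 := d39_1 D18839 (iv D14780) (iv D11538) (iv F53375) D14775
theorem F85291 : act 8 n18839 = n18839 := d42_2 F67536 D18839 (iv D18839)
theorem F85292 : act 9 n18839 = n16742 := d43_2 (iv F67537) D18839 (iv D16742)
def n18840 : Q := act 3 n14776
theorem D18840 : act 3 n14776 = n18840 := rfl
theorem F85293 : act 0 n18840 = n15793 := d2_1 D18840 (iv D15793) (iv F67538)
theorem F85294 : act 1 n18840 = n18840 := d10_1 D18840 (iv D18840) F67539
theorem F85295 : act 4 n18840 = n18840 := d24_2 D14776 D18840 (iv D18840) (iv D14776) F53380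
theorem F85296 : act 5 n18840 = n14788 := d25_2 (iv F67540) D18840 (iv D14788)
theorem F85297 : act 7 n18840 = n16740 := d27_2 (iv F67541) D18840 (iv D16740)
theorem F85298 : act 8 n18840 = n16743 := d28_2 (iv F67542) D18840 (iv D16743)
theorem F85299 : act 9 n18840 = n14778 := d29_2 (iv F67543) D18840 (iv D14778)
def n18841 : Q := act 6 n14776
theorem D18841 : act 6 n14776 = n18841 := rfl
theorem F85300 : act 0 n18841 = n15794 := d5_1 D18841 (iv D15794) (iv F67538)
theorem F85301 : act 1 n18841 = n18841 := d13_1 D18841 (iv D18841) F67539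
theorem F85302 : act 4 n18841 = n14777 := d31_1 D18841 (iv D14777) D14776
theorem F85303 : act 8 n18841 = n16744 := d40_2 (iv F67542) D18841 (iv D16744)
theorem F85304 : act 9 n18841 = n14779 := d41_2 (iv F67543) D18841 (iv D14779)
def n18842 : Q := act 7 n14777
theorem D18842 : act 7 n14777 = n18842 := rfl
theorem F85305 : act 0 n18842 = n15795 := d6_1 D18842 (iv D15795) (iv F67544)
theorem F85306 : act 1 n18842 = n18842 := d14_1 D18842 (iv D18842) F67545
theorem F85307 : act 3 n18842 = n18842 := d27_1 D18842 (iv D18842) F67546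
theorem F85308 : act 5 n18842 = n14923 := d36_1 D18842 (iv D14923) (iv F67547)
theorem F85309 : act 6 n18842 = n16742 := d39_1 D18842 (iv D16742) (iv D13003) (iv F53381) D14777
theorem F85310 : act 8 n18842 = n16745 := d42_2 (iv F67548) D18842 (iv D16745)
theorem F85311 : act 9 n18842 = n14780 := d43_2 (iv F67549) D18842 (iv D14780)
def n18843 : Q := act 2 n14778
theorem D18843 : act 2 n14778 = n18843 := rfl
theorem F85312 : act 0 n18843 = n15796 := d1_1 D18843 (iv D15796) (iv F67550)
theorem F85313 : act 4 n18843 = n18843 := d18_2 F67552 D18843 (iv D18843)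
theorem F85314 : act 5 n18843 = n14791 := d19_2 (iv F67553) D18843 (iv D14791)
theorem F85315 : act 8 n18843 = n18843 := d22_2 F67554 D18843 (iv D18843)
def n18844 : Q := act 6 n14778
theorem D18844 : act 6 n14778 = n18844 := rfl
theorem F85316 : act 0 n18844 = n15797 := d5_1 D18844 (iv D15797) (iv F67550)
theorem F85317 : act 1 n18844 = n18844 := d13_1 D18844 (iv D18844) F67551
theorem F85318 : act 3 n18844 = n14779 := d26_1 D18844 (iv D14779) D14778
theorem F85319 : act 4 n18844 = n18844 := d31_1 D18844 (iv D18844) F67552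
theorem F85320 : act 8 n18844 = n18844 := d40_2 F67554 D18844 (iv D18844)
def n18845 : Q := act 5 n14779
theorem D18845 : act 5 n14779 = n18845 := rfl
theorem F85321 : act 0 n18845 = n15798 := d4_1 D18845 (iv D15798) (iv F67555)
theorem F85322 : act 1 n18845 = n18845 := d12_1 D18845 (iv D18845) F67556
theorem F85323 : act 4 n18845 = n14926 := d30_1 D18845 (iv D14926) F53881 (iv F53391) (iv F67557)
theorem F85324 : act 6 n18845 = n14793 := d35_2 D14779 D18845 (iv D14793) (iv D11546) (iv F53386)
def n18846 : Q := act 7 n14779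
theorem D18846 : act 7 n14779 = n18846 := rfl
theorem F85325 : act 0 n18846 = n15799 := d6_1 D18846 (iv D15799) (iv F67555)
theorem F85326 : act 1 n18846 = n18846 := d14_1 D18846 (iv D18846) F67556
theorem F85327 : act 4 n18846 = n14780 := d32_1 D18846 (iv D14780) (iv F67557)
theorem F85328 : act 8 n18846 = n18846 := d42_2 F67558 D18846 (iv D18846)
def n18847 : Q := act 3 n14781
theorem D18847 : act 3 n14781 = n18847 := rfl
theorem F85329 : act 0 n18847 = n15800 := d2_1 D18847 (iv D15800) (iv F67564)
theorem F85330 : act 1 n18847 = n18847 := d10_1 D18847 (iv D18847) F67565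
theorem F85331 : act 4 n18847 = n14808 := d24_2 D14781 D18847 (iv D14808) (iv D11557) (iv F53395)
theorem F85333 : act 7 n18847 = n14928 := d27_2 (iv F67567) D18847 (iv D14928)
theorem F85334 : act 8 n18847 = n18847 := d28_2 F67568 D18847 (iv D18847)
theorem F85335 : act 9 n18847 = n15555 := d29_2 (iv F67569) D18847 (iv D15555)
def n18848 : Q := act 6 n14781
theorem D18848 : act 6 n14781 = n18848 := rfl
theorem F85336 : act 0 n18848 = n15801 := d5_1 D18848 (iv D15801) (iv F67564)
theorem F85337 : act 1 n18848 = n18848 := d13_1 D18848 (iv D18848) F67565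
theorem F85338 : act 4 n18848 = n14782 := d31_1 D18848 (iv D14782) D14781
theorem F85339 : act 8 n18848 = n18848 := d40_2 F67568 D18848 (iv D18848)
theorem F85340 : act 9 n18848 = n15556 := d41_2 (iv F67569) D18848 (iv D15556)
def n18849 : Q := act 7 n14782
theorem D18849 : act 7 n14782 = n18849 := rfl
theorem F85341 : act 0 n18849 = n15802 := d6_1 D18849 (iv D15802) (iv F67570)
theorem F85342 : act 1 n18849 = n18849 := d14_1 D18849 (iv D18849) F67571
theorem F85343 : act 3 n18849 = n14810 := d27_1 D18849 (iv D14810) (iv F67572)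
theorem F85344 : act 5 n18849 = n14787 := d36_1 D18849 (iv D14787) (iv F67573)
theorem F85345 : act 6 n18849 = n14930 := d39_1 D18849 (iv D14930) (iv D11642) (iv F53396) D14782
theorem F85346 : act 8 n18849 = n18849 := d42_2 F67574 D18849 (iv D18849)
theorem F85347 : act 9 n18849 = n15557 := d43_2 (iv F67575) D18849 (iv D15557)
def n18850 : Q := act 3 n14783
theorem D18850 : act 3 n14783 = n18850 := rfl
theorem F85348 : act 0 n18850 = n15803 := d2_1 D18850 (iv D15803) (iv F67576)
theorem F85349 : act 1 n18850 = n18850 := d10_1 D18850 (iv D18850) F67577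
theorem F85350 : act 4 n18850 = n14811 := d24_2 D14783 D18850 (iv D14811) (iv D11559) (iv F53401)
theorem F85351 : act 5 n18850 = n16740 := d25_2 (iv F67578) D18850 (iv D16740)
theorem F85352 : act 7 n18850 = n14788 := d27_2 (iv F67579) D18850 (iv D14788)
theorem F85353 : act 8 n18850 = n18850 := d28_2 F67580 D18850 (iv D18850)
theorem F85354 : act 9 n18850 = n14785 := d29_2 (iv F67581) D18850 (iv D14785)
def n18851 : Q := act 6 n14783
theorem D18851 : act 6 n14783 = n18851 := rfl
theorem F85355 : act 0 n18851 = n15804 := d5_1 D18851 (iv D15804) (iv F67576)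
theorem F85356 : act 1 n18851 = n18851 := d13_1 D18851 (iv D18851) F67577
theorem F85357 : act 4 n18851 = n14784 := d31_1 D18851 (iv D14784) D14783
theorem F85358 : act 8 n18851 = n18851 := d40_2 F67580 D18851 (iv D18851)
theorem F85359 : act 9 n18851 = n14786 := d41_2 (iv F67581) D18851 (iv D14786)
def n18852 : Q := act 7 n14784
theorem D18852 : act 7 n14784 = n18852 := rfl
theorem F85360 : act 0 n18852 = n15805 := d6_1 D18852 (iv D15805) (iv F67582)
theorem F85361 : act 1 n18852 = n18852 := d14_1 D18852 (iv D18852) F67583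
theorem F85362 : act 3 n18852 = n14813 := d27_1 D18852 (iv D14813) (iv F67584)
theorem F85363 : act 5 n18852 = n15557 := d36_1 D18852 (iv D15557) (iv F67585)
theorem F85364 : act 6 n18852 = n14790 := d39_1 D18852 (iv D14790) (iv D11544) (iv F53402) D14784
theorem F85365 : act 8 n18852 = n18852 := d42_2 F67586 D18852 (iv D18852)
theorem F85366 : act 9 n18852 = n14787 := d43_2 (iv F67587) D18852 (iv D14787)
def n18853 : Q := act 2 n14785
theorem D18853 : act 2 n14785 = n18853 := rfl
theorem F85367 : act 0 n18853 = n15806 := d1_1 D18853 (iv D15806) (iv F67588)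
theorem F85368 : act 4 n18853 = n14814 := d18_2 (iv F67590) D18853 (iv D14814)
theorem F85369 : act 7 n18853 = n14791 := d21_2 (iv F67591) D18853 (iv D14791)
theorem F85370 : act 8 n18853 = n14795 := d22_2 (iv F67592) D18853 (iv D14795)
def n18854 : Q := act 6 n14785
theorem D18854 : act 6 n14785 = n18854 := rfl
theorem F85371 : act 0 n18854 = n15807 := d5_1 D18854 (iv D15807) (iv F67588)
theorem F85372 : act 1 n18854 = n18854 := d13_1 D18854 (iv D18854) F67589
theorem F85373 : act 3 n18854 = n14786 := d26_1 D18854 (iv D14786) D14785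
theorem F85374 : act 4 n18854 = n14815 := d31_1 D18854 (iv D14815) (iv F67590)
theorem F85375 : act 8 n18854 = n14796 := d40_2 (iv F67592) D18854 (iv D14796)
def n18855 : Q := act 5 n14786
theorem D18855 : act 5 n14786 = n18855 := rfl
theorem F85376 : act 0 n18855 = n15808 := d4_1 D18855 (iv D15808) (iv F67593)
theorem F85377 : act 1 n18855 = n18855 := d12_1 D18855 (iv D18855) F67594
def n18856 : Q := act 7 n14786
theorem D18856 : act 7 n14786 = n18856 := rfl
theorem F85378 : act 0 n18856 = n15809 := d6_1 D18856 (iv D15809) (iv F67593)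
theorem F85379 : act 1 n18856 = n18856 := d14_1 D18856 (iv D18856) F67594
theorem F85380 : act 4 n18856 = n14787 := d32_1 D18856 (iv D14787) (iv F67595)
theorem F85381 : act 6 n18856 = n14794 := d39_1 D18856 (iv D14794) (iv D11546) (iv F53407) D14786
theorem F85382 : act 8 n18856 = n14798 := d42_2 (iv F67596) D18856 (iv D14798)
def n18857 : Q := act 2 n14788
theorem D18857 : act 2 n14788 = n18857 := rfl
theorem F85383 : act 0 n18857 = n15810 := d1_1 D18857 (iv D15810) (iv F67602)
theorem F85384 : act 4 n18857 = n14818 := d18_2 (iv F67604) D18857 (iv D14818)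
theorem F85385 : act 8 n18857 = n18857 := d22_2 F67605 D18857 (iv D18857)
theorem F85386 : act 9 n18857 = n14791 := d23_2 (iv F67606) D18857 (iv D14791)
def n18858 : Q := act 6 n14788
theorem D18858 : act 6 n14788 = n18858 := rfl
theorem F85387 : act 0 n18858 = n15811 := d5_1 D18858 (iv D15811) (iv F67602)
theorem F85388 : act 1 n18858 = n18858 := d13_1 D18858 (iv D18858) F67603
theorem F85389 : act 3 n18858 = n14789 := d26_1 D18858 (iv D14789) D14788
theorem F85390 : act 4 n18858 = n14819 := d31_1 D18858 (iv D14819) (iv F67604)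
theorem F85391 : act 8 n18858 = n18858 := d40_2 F67605 D18858 (iv D18858)
theorem F85392 : act 9 n18858 = n14792 := d41_2 (iv F67606) D18858 (iv D14792)
def n18859 : Q := act 5 n14789
theorem D18859 : act 5 n14789 = n18859 := rfl
theorem F85393 : act 0 n18859 = n15812 := d4_1 D18859 (iv D15812) (iv F67607)
theorem F85394 : act 1 n18859 = n18859 := d12_1 D18859 (iv D18859) F67608
theorem F85395 : act 4 n18859 = n14937 := d30_1 D18859 (iv D14937) F53922 (iv F53420) (iv F67609)
theorem F85396 : act 9 n18859 = n14793 := d38_2 (iv F67611) D18859 (iv D14793)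
def n18860 : Q := act 7 n14789
theorem D18860 : act 7 n14789 = n18860 := rfl
theorem F85397 : act 0 n18860 = n15813 := d6_1 D18860 (iv D15813) (iv F67607)
theorem F85398 : act 1 n18860 = n18860 := d14_1 D18860 (iv D18860) F67608
theorem F85399 : act 4 n18860 = n14790 := d32_1 D18860 (iv D14790) (iv F67609)
theorem F85400 : act 8 n18860 = n18860 := d42_2 F67610 D18860 (iv D18860)
theorem F85401 : act 9 n18860 = n14794 := d43_2 (iv F67611) D18860 (iv D14794)
def n18861 : Q := act 1 n14791
theorem D18861 : act 1 n14791 = n18861 := rfl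
theorem F85402 : act 2 n18861 = n18861 := d9_2 D14791 D18861 (iv D18861) (iv D14791) F53424
theorem F85403 : act 4 n18861 = n14822 := d11_2 (iv F67619) D18861 (iv D14822)
theorem F85404 : act 8 n18861 = n14799 := d15_2 (iv F67620) D18861 (iv D14799)
def n18862 : Q := act 6 n14791
theorem D18862 : act 6 n14791 = n18862 := rfl
theorem F85405 : act 0 n18862 = n15815 := d5_1 D18862 (iv D15815) (iv F67618)
theorem F85406 : act 2 n18862 = n14792 := d20_1 D18862 (iv D14792) D14791
theorem F85407 : act 4 n18862 = n14823 := d31_1 D18862 (iv D14823) (iv F67619)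
theorem F85408 : act 8 n18862 = n14800 := d40_2 (iv F67620) D18862 (iv D14800)
def n18863 : Q := act 5 n14792
theorem D18863 : act 5 n14792 = n18863 := rfl
theorem F85409 : act 0 n18863 = n15816 := d4_1 D18863 (iv D15816) (iv F67621)
theorem F85410 : act 1 n18863 = n18863 := d12_1 D18863 (iv D18863) F67622
theorem F85411 : act 3 n18863 = n14793 := d25_1 D18863 (iv D14793) (iv F67623)
def n18864 : Q := act 7 n14792
theorem D18864 : act 7 n14792 = n18864 := rfl
theorem F85412 : act 0 n18864 = n15817 := d6_1 D18864 (iv D15817) (iv F67621)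
theorem F85413 : act 1 n18864 = n18864 := d14_1 D18864 (iv D18864) F67622
theorem F85414 : act 3 n18864 = n14794 := d27_1 D18864 (iv D14794) (iv F67623)
theorem F85415 : act 4 n18864 = n14825 := d32_1 D18864 (iv D14825) (iv F67624)
theorem F85416 : act 8 n18864 = n14802 := d42_2 (iv F67625) D18864 (iv D14802)
def n18865 : Q := act 7 n14793
theorem D18865 : act 7 n14793 = n18865 := rfl
theorem F85417 : act 0 n18865 = n15818 := d6_1 D18865 (iv D15818) (iv F67626)
theorem F85418 : act 1 n18865 = n18865 := d14_1 D18865 (iv D18865) F67627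
theorem F85419 : act 4 n18865 = n14943 := d32_1 D18865 (iv D14943) (iv F67628)
theorem F85420 : act 5 n18865 = n14794 := d36_1 D18865 (iv D14794) D14793
def n18866 : Q := act 8 n14793
theorem D18866 : act 8 n14793 = n18866 := rfl
theorem F85421 : act 0 n18866 = n15819 := d7_1 D18866 (iv D15819) (iv F67626)
theorem F85422 : act 1 n18866 = n18866 := d15_1 D18866 (iv D18866) F67627
theorem F85423 : act 4 n18866 = n14944 := d33_1 D18866 (iv D14944) (iv F67628)
theorem F85424 : act 5 n18866 = n14804 := d37_1 D18866 (iv D14804) (iv D11553) (iv F53430) D14793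
def n18867 : Q := act 1 n14795
theorem D18867 : act 1 n14795 = n18867 := rfl
theorem F85425 : act 2 n18867 = n18867 := d9_2 D14795 D18867 (iv D18867) (iv D14795) F53437
theorem F85426 : act 4 n18867 = n14827 := d11_2 (iv F67634) D18867 (iv D14827)
theorem F85427 : act 5 n18867 = n18867 := d12_2 F67635 D18867 (iv D18867)
theorem F85428 : act 7 n18867 = n14799 := d14_2 (iv F67636) D18867 (iv D14799)
theorem F85429 : act 9 n18867 = n18867 := d16_2 F67637 D18867 (iv D18867)
def n18868 : Q := act 6 n14795
theorem D18868 : act 6 n14795 = n18868 := rfl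
theorem F85430 : act 0 n18868 = n15821 := d5_1 D18868 (iv D15821) (iv F67633)
theorem F85431 : act 2 n18868 = n14796 := d20_1 D18868 (iv D14796) D14795
theorem F85432 : act 4 n18868 = n14828 := d31_1 D18868 (iv D14828) (iv F67634)
theorem F85433 : act 9 n18868 = n18868 := d41_2 F67637 D18868 (iv D18868)
def n18869 : Q := act 5 n14796
theorem D18869 : act 5 n14796 = n18869 := rfl
theorem F85434 : act 0 n18869 = n15822 := d4_1 D18869 (iv D15822) (iv F67638)
theorem F85435 : act 1 n18869 = n18869 := d12_1 D18869 (iv D18869) F67639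
theorem F85436 : act 3 n18869 = n14797 := d25_1 D18869 (iv D14797) (iv F67640)
theorem F85437 : act 6 n18869 = n18869 := d35_2 D14796 D18869 (iv D18869) (iv D14796) F53439
theorem F85438 : act 9 n18869 = n18869 := d38_2 F67642 D18869 (iv D18869)
def n18870 : Q := act 7 n14796
theorem D18870 : act 7 n14796 = n18870 := rfl
theorem F85439 : act 0 n18870 = n15823 := d6_1 D18870 (iv D15823) (iv F67638)
theorem F85440 : act 1 n18870 = n18870 := d14_1 D18870 (iv D18870) F67639
theorem F85441 : act 3 n18870 = n14798 := d27_1 D18870 (iv D14798) (iv F67640)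
theorem F85442 : act 4 n18870 = n14830 := d32_1 D18870 (iv D14830) (iv F67641)
theorem F85443 : act 6 n18870 = n14802 := d39_1 D18870 (iv D14802) (iv D11552) (iv F53440) D14796
theorem F85444 : act 9 n18870 = n18870 := d43_2 F67642 D18870 (iv D18870)
def n18871 : Q := act 7 n14797
theorem D18871 : act 7 n14797 = n18871 := rfl
theorem F85445 : act 0 n18871 = n15824 := d6_1 D18871 (iv D15824) (iv F67643)
theorem F85446 : act 1 n18871 = n18871 := d14_1 D18871 (iv D18871) F67644
theorem F85447 : act 4 n18871 = n18871 := d32_1 D18871 (iv D18871) F67645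
theorem F85448 : act 5 n18871 = n14798 := d36_1 D18871 (iv D14798) D14797
theorem F85449 : act 9 n18871 = n18871 := d43_2 F67647 D18871 (iv D18871)
def n18872 : Q := act 8 n14797
theorem D18872 : act 8 n14797 = n18872 := rfl
theorem F85450 : act 0 n18872 = n15825 := d7_1 D18872 (iv D15825) (iv F67643)
theorem F85451 : act 1 n18872 = n18872 := d15_1 D18872 (iv D18872) F67644
theorem F85452 : act 4 n18872 = n18872 := d33_1 D18872 (iv D18872) F67645
theorem F85453 : act 6 n18872 = n18872 := d40_1 D18872 (iv D18872) F67646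
def n18873 : Q := act 0 n14799
theorem D18873 : act 0 n14799 = n18873 := rfl
theorem F85454 : act 1 n18873 = n15826 := d0_2 D14799 D18873 (iv D15826) (iv D12308) (iv F53452)
theorem F85455 : act 2 n18873 = n18873 := d1_2 F67653 D18873 (iv D18873)
theorem F85456 : act 4 n18873 = n14833 := d3_2 (iv F67654) D18873 (iv D14833)
theorem F85457 : act 5 n18873 = n18873 := d4_2 F67655 D18873 (iv D18873)
theorem F85458 : act 9 n18873 = n18873 := d8_2 F67656 D18873 (iv D18873)
def n18874 : Q := act 6 n14799
theorem D18874 : act 6 n14799 = n18874 := rfl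
theorem F85459 : act 1 n18874 = n14800 := d13_1 D18874 (iv D14800) D14799
theorem F85460 : act 2 n18874 = n18874 := d20_1 D18874 (iv D18874) F67653
theorem F85461 : act 4 n18874 = n14834 := d31_1 D18874 (iv D14834) (iv F67654)
theorem F85462 : act 9 n18874 = n18874 := d41_2 F67656 D18874 (iv D18874)
def n18875 : Q := act 5 n14800
theorem D18875 : act 5 n14800 = n18875 := rfl
theorem F85463 : act 0 n18875 = n15828 := d4_1 D18875 (iv D15828) (iv F67657)
theorem F85464 : act 2 n18875 = n14801 := d19_1 D18875 (iv D14801) (iv F67658)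
theorem F85465 : act 4 n18875 = n18875 := d30_1 D18875 (iv D18875) F67659 F53575 (iv F67659)
theorem F85466 : act 6 n18875 = n18875 := d35_2 D14800 D18875 (iv D18875) (iv D14800) F53454
theorem F85467 : act 9 n18875 = n18875 := d38_2 F67660 D18875 (iv D18875)
def n18876 : Q := act 7 n14800
theorem D18876 : act 7 n14800 = n18876 := rfl
theorem F85468 : act 0 n18876 = n15829 := d6_1 D18876 (iv D15829) (iv F67657)
theorem F85469 : act 2 n18876 = n14802 := d21_1 D18876 (iv D14802) (iv F67658)
theorem F85470 : act 4 n18876 = n14835 := d32_1 D18876 (iv D14835) (iv F67659)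
theorem F85471 : act 9 n18876 = n18876 := d43_2 F67660 D18876 (iv D18876)
def n18877 : Q := act 7 n14801
theorem D18877 : act 7 n14801 = n18877 := rfl
theorem F85472 : act 0 n18877 = n15830 := d6_1 D18877 (iv D15830) (iv F67661)
theorem F85473 : act 1 n18877 = n18877 := d14_1 D18877 (iv D18877) F67662
theorem F85474 : act 3 n18877 = n14803 := d27_1 D18877 (iv D14803) (iv F67663)
theorem F85475 : act 4 n18877 = n18877 := d32_1 D18877 (iv D18877) F67664
theorem F85476 : act 5 n18877 = n14802 := d36_1 D18877 (iv D14802) D14801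
theorem F85477 : act 9 n18877 = n18877 := d43_2 F67666 D18877 (iv D18877)
def n18878 : Q := act 8 n14801
theorem D18878 : act 8 n14801 = n18878 := rfl
theorem F85478 : act 0 n18878 = n15831 := d7_1 D18878 (iv D15831) (iv F67661)
theorem F85479 : act 1 n18878 = n18878 := d15_1 D18878 (iv D18878) F67662
theorem F85480 : act 3 n18878 = n14804 := d28_1 D18878 (iv D14804) (iv F67663)
theorem F85481 : act 4 n18878 = n18878 := d33_1 D18878 (iv D18878) F67664
theorem F85482 : act 6 n18878 = n18878 := d40_1 D18878 (iv D18878) F67665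
def n18879 : Q := act 6 n14803
theorem D18879 : act 6 n14803 = n18879 := rfl
theorem F85483 : act 0 n18879 = n15832 := d5_1 D18879 (iv D15832) (iv F67672)
theorem F85484 : act 1 n18879 = n18879 := d13_1 D18879 (iv D18879) F67673
theorem F85485 : act 4 n18879 = n14805 := d31_1 D18879 (iv D14805) (iv F67674)
theorem F85486 : act 7 n18879 = n18879 := d39_2 D14803 D18879 (iv D18879) (iv D14803) F53464
theorem F85487 : act 9 n18879 = n18879 := d41_2 F67676 D18879 (iv D18879)
def n18880 : Q := act 8 n14803
theorem D18880 : act 8 n14803 = n18880 := rfl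
theorem F85488 : act 0 n18880 = n15833 := d7_1 D18880 (iv D15833) (iv F67672)
theorem F85489 : act 1 n18880 = n18880 := d15_1 D18880 (iv D18880) F67673
theorem F85490 : act 4 n18880 = n14806 := d33_1 D18880 (iv D14806) (iv F67674)
theorem F85491 : act 7 n18880 = n14804 := d42_1 D18880 (iv D14804) D14803
def n18881 : Q := act 9 n14804
theorem D18881 : act 9 n14804 = n18881 := rfl
theorem F85492 : act 0 n18881 = n15834 := d8_1 D18881 (iv D15834) (iv F67677)
theorem F85493 : act 1 n18881 = n18881 := d16_1 D18881 (iv D18881) F67678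
theorem F85494 : act 4 n18881 = n14807 := d34_1 D18881 (iv D14807) (iv F67679)
theorem F85495 : act 6 n18881 = n18881 := d41_1 D18881 (iv D18881) F67680
theorem F85496 : act 8 n18881 = n18881 := d44_1 D18881 (iv D18881) (iv D14804) F53465 D14804
def n18882 : Q := act 8 n14805
theorem D18882 : act 8 n14805 = n18882 := rfl
theorem F85497 : act 0 n18882 = n15835 := d7_1 D18882 (iv D15835) (iv F67681)
theorem F85498 : act 1 n18882 = n18882 := d15_1 D18882 (iv D18882) F67682
theorem F85499 : act 3 n18882 = n18882 := d28_1 D18882 (iv D18882) F67683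
theorem F85500 : act 6 n18882 = n14806 := d40_1 D18882 (iv D14806) D14805
theorem F85501 : act 7 n18882 = n18882 := d42_1 D18882 (iv D18882) F67685
def n18883 : Q := act 9 n14806
theorem D18883 : act 9 n14806 = n18883 := rfl
theorem F85502 : act 0 n18883 = n15836 := d8_1 D18883 (iv D15836) (iv F67687)
theorem F85503 : act 1 n18883 = n18883 := d16_1 D18883 (iv D18883) F67688
theorem F85504 : act 3 n18883 = n18883 := d29_1 D18883 (iv D18883) F67689
theorem F85505 : act 5 n18883 = n14961 := d38_1 D18883 (iv D14961) (iv F67690)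
theorem F85506 : act 7 n18883 = n14807 := d43_1 D18883 (iv D14807) (iv F67691)
theorem F85507 : act 8 n18883 = n18883 := d44_1 D18883 (iv D18883) (iv D14806) F53474 D14806
def n18884 : Q := act 2 n14808
theorem D18884 : act 2 n14808 = n18884 := rfl
theorem F85508 : act 0 n18884 = n15837 := d1_1 D18884 (iv D15837) (iv F67698)
theorem F85509 : act 3 n18884 = n15841 := d17_2 D14808 D18884 (iv D15841) (iv D12320) (iv F53482)
theorem F85510 : act 5 n18884 = n18884 := d19_2 F67700 D18884 (iv D18884)
theorem F85511 : act 7 n18884 = n14962 := d21_2 (iv F67701) D18884 (iv D14962)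
theorem F85512 : act 8 n18884 = n18884 := d22_2 F67702 D18884 (iv D18884)
theorem F85513 : act 9 n18884 = n15575 := d23_2 (iv F67703) D18884 (iv D15575)
def n18885 : Q := act 6 n14808
theorem D18885 : act 6 n14808 = n18885 := rfl
theorem F85514 : act 0 n18885 = n15838 := d5_1 D18885 (iv D15838) (iv F67698)
theorem F85515 : act 1 n18885 = n18885 := d13_1 D18885 (iv D18885) F67699
theorem F85516 : act 3 n18885 = n14809 := d26_1 D18885 (iv D14809) D14808
theorem F85517 : act 8 n18885 = n18885 := d40_2 F67702 D18885 (iv D18885)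
theorem F85518 : act 9 n18885 = n15576 := d41_2 (iv F67703) D18885 (iv D15576)
def n18886 : Q := act 5 n14809
theorem D18886 : act 5 n14809 = n18886 := rfl
theorem F85519 : act 0 n18886 = n15839 := d4_1 D18886 (iv D15839) (iv F67704)
theorem F85520 : act 1 n18886 = n18886 := d12_1 D18886 (iv D18886) F67705
theorem F85521 : act 2 n18886 = n15843 := d19_1 D18886 (iv D15843) (iv F67706)
theorem F85522 : act 4 n18886 = n14816 := d30_1 D18886 (iv D14816) F53513 (iv F53490) (iv F67707)
theorem F85523 : act 6 n18886 = n18886 := d35_2 D14809 D18886 (iv D18886) (iv D14809) F53483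
theorem F85524 : act 9 n18886 = n15577 := d38_2 (iv F67709) D18886 (iv D15577)
def n18887 : Q := act 7 n14809
theorem D18887 : act 7 n14809 = n18887 := rfl
theorem F85525 : act 0 n18887 = n15840 := d6_1 D18887 (iv D15840) (iv F67704)
theorem F85526 : act 1 n18887 = n18887 := d14_1 D18887 (iv D18887) F67705
theorem F85527 : act 2 n18887 = n15844 := d21_1 D18887 (iv D15844) (iv F67706)
theorem F85528 : act 4 n18887 = n14810 := d32_1 D18887 (iv D14810) (iv F67707)
theorem F85529 : act 6 n18887 = n14965 := d39_1 D18887 (iv D14965) (iv D11667) (iv F53484) D14809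
theorem F85530 : act 8 n18887 = n18887 := d42_2 F67708 D18887 (iv D18887)
theorem F85531 : act 9 n18887 = n15578 := d43_2 (iv F67709) D18887 (iv D15578)
def n18888 : Q := act 2 n14811
theorem D18888 : act 2 n14811 = n18888 := rfl
theorem F85532 : act 0 n18888 = n15841 := d1_1 D18888 (iv D15841) (iv F67717)
theorem F85533 : act 3 n18888 = n15837 := d17_2 D14811 D18888 (iv D15837) (iv D12317) (iv F53495)
theorem F85534 : act 5 n18888 = n18888 := d19_2 F67719 D18888 (iv D18888)
theorem F85535 : act 7 n18888 = n14818 := d21_2 (iv F67720) D18888 (iv D14818)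
theorem F85536 : act 8 n18888 = n18888 := d22_2 F67721 D18888 (iv D18888)
theorem F85537 : act 9 n18888 = n14814 := d23_2 (iv F67722) D18888 (iv D14814)
def n18889 : Q := act 6 n14811
theorem D18889 : act 6 n14811 = n18889 := rfl
theorem F85538 : act 0 n18889 = n15842 := d5_1 D18889 (iv D15842) (iv F67717)
theorem F85539 : act 1 n18889 = n18889 := d13_1 D18889 (iv D18889) F67718
theorem F85540 : act 3 n18889 = n14812 := d26_1 D18889 (iv D14812) D14811
theorem F85541 : act 8 n18889 = n18889 := d40_2 F67721 D18889 (iv D18889)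
theorem F85542 : act 9 n18889 = n14815 := d41_2 (iv F67722) D18889 (iv D14815)
def n18890 : Q := act 5 n14812
theorem D18890 : act 5 n14812 = n18890 := rfl
theorem F85543 : act 0 n18890 = n15843 := d4_1 D18890 (iv D15843) (iv F67723)
theorem F85544 : act 1 n18890 = n18890 := d12_1 D18890 (iv D18890) F67724
theorem F85545 : act 2 n18890 = n15839 := d19_1 D18890 (iv D15839) (iv F67725)
theorem F85546 : act 4 n18890 = n15577 := d30_1 D18890 (iv D15577) F56196 (iv F53503) (iv F67726)
theorem F85547 : act 6 n18890 = n18890 := d35_2 D14812 D18890 (iv D18890) (iv D14812) F53496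
theorem F85548 : act 9 n18890 = n14816 := d38_2 (iv F67728) D18890 (iv D14816)
def n18891 : Q := act 7 n14812
theorem D18891 : act 7 n14812 = n18891 := rfl
theorem F85549 : act 0 n18891 = n15844 := d6_1 D18891 (iv D15844) (iv F67723)
theorem F85550 : act 1 n18891 = n18891 := d14_1 D18891 (iv D18891) F67724
theorem F85551 : act 2 n18891 = n15840 := d21_1 D18891 (iv D15840) (iv F67725)
theorem F85552 : act 4 n18891 = n14813 := d32_1 D18891 (iv D14813) (iv F67726)
theorem F85553 : act 6 n18891 = n14821 := d39_1 D18891 (iv D14821) (iv D11565) (iv F53497) D14812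
theorem F85554 : act 8 n18891 = n18891 := d42_2 F67727 D18891 (iv D18891)
theorem F85555 : act 9 n18891 = n14817 := d43_2 (iv F67728) D18891 (iv D14817)
def n18892 : Q := act 1 n14814
theorem D18892 : act 1 n14814 = n18892 := rfl
theorem F85556 : act 2 n18892 = n18892 := d9_2 D14814 D18892 (iv D18892) (iv D14814) F53507
theorem F85557 : act 5 n18892 = n18892 := d12_2 F67737 D18892 (iv D18892)
theorem F85558 : act 7 n18892 = n14822 := d14_2 (iv F67738) D18892 (iv D14822)
theorem F85559 : act 8 n18892 = n14827 := d15_2 (iv F67739) D18892 (iv D14827)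
def n18893 : Q := act 6 n14814
theorem D18893 : act 6 n14814 = n18893 := rfl
theorem F85560 : act 0 n18893 = n15846 := d5_1 D18893 (iv D15846) (iv F67736)
theorem F85561 : act 2 n18893 = n14815 := d20_1 D18893 (iv D14815) D14814
theorem F85562 : act 8 n18893 = n14828 := d40_2 (iv F67739) D18893 (iv D14828)
def n18894 : Q := act 5 n14815
theorem D18894 : act 5 n14815 = n18894 := rfl
theorem F85563 : act 0 n18894 = n15847 := d4_1 D18894 (iv D15847) (iv F67740)
theorem F85564 : act 1 n18894 = n18894 := d12_1 D18894 (iv D18894) F67741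
theorem F85565 : act 3 n18894 = n14816 := d25_1 D18894 (iv D14816) (iv F67742)
theorem F85566 : act 6 n18894 = n18894 := d35_2 D14815 D18894 (iv D18894) (iv D14815) F53508
def n18895 : Q := act 7 n14815
theorem D18895 : act 7 n14815 = n18895 := rfl
theorem F85567 : act 0 n18895 = n15848 := d6_1 D18895 (iv D15848) (iv F67740)
theorem F85568 : act 1 n18895 = n18895 := d14_1 D18895 (iv D18895) F67741
theorem F85569 : act 3 n18895 = n14817 := d27_1 D18895 (iv D14817) (iv F67742)
theorem F85570 : act 6 n18895 = n14825 := d39_1 D18895 (iv D14825) (iv D11568) (iv F53509) D14815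
theorem F85571 : act 8 n18895 = n14830 := d42_2 (iv F67743) D18895 (iv D14830)
def n18896 : Q := act 7 n14816
theorem D18896 : act 7 n14816 = n18896 := rfl
theorem F85572 : act 0 n18896 = n15849 := d6_1 D18896 (iv D15849) (iv F67744)
theorem F85573 : act 1 n18896 = n18896 := d14_1 D18896 (iv D18896) F67745
theorem F85574 : act 5 n18896 = n14817 := d36_1 D18896 (iv D14817) D14816
def n18897 : Q := act 8 n14816
theorem D18897 : act 8 n14816 = n18897 := rfl
theorem F85575 : act 0 n18897 = n15850 := d7_1 D18897 (iv D15850) (iv F67744)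
theorem F85576 : act 1 n18897 = n18897 := d15_1 D18897 (iv D18897) F67745
theorem F85577 : act 5 n18897 = n14832 := d37_1 D18897 (iv D14832) (iv D11573) (iv F53514) D14816
theorem F85578 : act 6 n18897 = n18897 := d40_1 D18897 (iv D18897) F67746
def n18898 : Q := act 1 n14818
theorem D18898 : act 1 n14818 = n18898 := rfl
theorem F85579 : act 2 n18898 = n18898 := d9_2 D14818 D18898 (iv D18898) (iv D14818) F53520
theorem F85580 : act 3 n18898 = n16048 := d10_2 (iv F67753) D18898 (iv D16048)
theorem F85581 : act 5 n18898 = n18898 := d12_2 F67754 D18898 (iv D18898)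
theorem F85582 : act 8 n18898 = n18898 := d15_2 F67755 D18898 (iv D18898)
theorem F85583 : act 9 n18898 = n14822 := d16_2 (iv F67756) D18898 (iv D14822)
def n18899 : Q := act 6 n14818
theorem D18899 : act 6 n14818 = n18899 := rfl
theorem F85584 : act 0 n18899 = n15852 := d5_1 D18899 (iv D15852) (iv F67752)
theorem F85585 : act 2 n18899 = n14819 := d20_1 D18899 (iv D14819) D14818
theorem F85586 : act 3 n18899 = n16049 := d26_1 D18899 (iv D16049) (iv F67753)
theorem F85587 : act 8 n18899 = n18899 := d40_2 F67755 D18899 (iv D18899)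
theorem F85588 : act 9 n18899 = n14823 := d41_2 (iv F67756) D18899 (iv D14823)
def n18900 : Q := act 5 n14819
theorem D18900 : act 5 n14819 = n18900 := rfl
theorem F85589 : act 0 n18900 = n15853 := d4_1 D18900 (iv D15853) (iv F67757)
theorem F85590 : act 1 n18900 = n18900 := d12_1 D18900 (iv D18900) F67758
theorem F85591 : act 3 n18900 = n14820 := d25_1 D18900 (iv D14820) (iv F67759)
theorem F85592 : act 6 n18900 = n18900 := d35_2 D14819 D18900 (iv D18900) (iv D14819) F53521
theorem F85593 : act 9 n18900 = n14824 := d38_2 (iv F67761) D18900 (iv D14824)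
def n18901 : Q := act 7 n14819
theorem D18901 : act 7 n14819 = n18901 := rfl
theorem F85594 : act 0 n18901 = n15854 := d6_1 D18901 (iv D15854) (iv F67757)
theorem F85595 : act 1 n18901 = n18901 := d14_1 D18901 (iv D18901) F67758
theorem F85596 : act 3 n18901 = n14821 := d27_1 D18901 (iv D14821) (iv F67759)
theorem F85597 : act 8 n18901 = n18901 := d42_2 F67760 D18901 (iv D18901)
theorem F85598 : act 9 n18901 = n14825 := d43_2 (iv F67761) D18901 (iv D14825)
def n18902 : Q := act 7 n14820
theorem D18902 : act 7 n14820 = n18902 := rfl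
theorem F85599 : act 0 n18902 = n15855 := d6_1 D18902 (iv D15855) (iv F67762)
theorem F85600 : act 1 n18902 = n18902 := d14_1 D18902 (iv D18902) F67763
theorem F85601 : act 2 n18902 = n16052 := d21_1 D18902 (iv D16052) (iv F67764)
theorem F85602 : act 4 n18902 = n14976 := d32_1 D18902 (iv D14976) (iv F67765)
theorem F85603 : act 5 n18902 = n14821 := d36_1 D18902 (iv D14821) D14820
theorem F85604 : act 9 n18902 = n14826 := d43_2 (iv F67767) D18902 (iv D14826)
def n18903 : Q := act 8 n14820
theorem D18903 : act 8 n14820 = n18903 := rfl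
theorem F85605 : act 0 n18903 = n15856 := d7_1 D18903 (iv D15856) (iv F67762)
theorem F85606 : act 1 n18903 = n18903 := d15_1 D18903 (iv D18903) F67763
theorem F85607 : act 2 n18903 = n16053 := d22_1 D18903 (iv D16053) (iv F67764)
theorem F85608 : act 4 n18903 = n14977 := d33_1 D18903 (iv D14977) (iv F67765)
theorem F85609 : act 5 n18903 = n18903 := d37_1 D18903 (iv D18903) (iv D14820) F53528 D14820
theorem F85610 : act 6 n18903 = n18903 := d40_1 D18903 (iv D18903) F67766
theorem F85611 : act 9 n18903 = n18903 := d44_2 (iv F67767) D18903 (iv D18903) F67767 F53547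
def n18904 : Q := act 0 n14822
theorem D18904 : act 0 n14822 = n18904 := rfl
theorem F85612 : act 1 n18904 = n15857 := d0_2 D14822 D18904 (iv D15857) (iv D12331) (iv F53536)
theorem F85613 : act 2 n18904 = n18904 := d1_2 F67774 D18904 (iv D18904)
theorem F85614 : act 5 n18904 = n18904 := d4_2 F67775 D18904 (iv D18904)
theorem F85615 : act 8 n18904 = n14833 := d7_2 (iv F67776) D18904 (iv D14833)
def n18905 : Q := act 6 n14822
theorem D18905 : act 6 n14822 = n18905 := rfl
theorem F85616 : act 1 n18905 = n14823 := d13_1 D18905 (iv D14823) D14822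
theorem F85617 : act 2 n18905 = n18905 := d20_1 D18905 (iv D18905) F67774
theorem F85618 : act 8 n18905 = n14834 := d40_2 (iv F67776) D18905 (iv D14834)
def n18906 : Q := act 5 n14823
theorem D18906 : act 5 n14823 = n18906 := rfl
theorem F85619 : act 0 n18906 = n15859 := d4_1 D18906 (iv D15859) (iv F67777)
theorem F85620 : act 2 n18906 = n14824 := d19_1 D18906 (iv D14824) (iv F67778)
theorem F85621 : act 6 n18906 = n18906 := d35_2 D14823 D18906 (iv D18906) (iv D14823) F53537
theorem F85622 : act 8 n18906 = n18906 := d37_2 (iv F67779) D18906 (iv D18906) F67779 F53575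
def n18907 : Q := act 7 n14823
theorem D18907 : act 7 n14823 = n18907 := rfl
theorem F85623 : act 0 n18907 = n15860 := d6_1 D18907 (iv D15860) (iv F67777)
theorem F85624 : act 2 n18907 = n14825 := d21_1 D18907 (iv D14825) (iv F67778)
theorem F85625 : act 8 n18907 = n14835 := d42_2 (iv F67779) D18907 (iv D14835)
def n18908 : Q := act 4 n14824
theorem D18908 : act 4 n14824 = n18908 := rfl
theorem F85626 : act 0 n18908 = n15861 := d3_1 D18908 (iv D15861) (iv F67780)
theorem F85627 : act 1 n18908 = n18908 := d11_1 D18908 (iv D18908) F67781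
theorem F85628 : act 3 n18908 = n14982 := d24_1 D18908 (iv D14982) F54079 (iv F53545) (iv F67782)
theorem F85629 : act 6 n18908 = n18908 := d31_2 F67783 D18908 (iv D18908)
theorem F85630 : act 8 n18908 = n18908 := d33_2 F67784 D18908 (iv D18908)
def n18909 : Q := act 7 n14824
theorem D18909 : act 7 n14824 = n18909 := rfl
theorem F85631 : act 0 n18909 = n15862 := d6_1 D18909 (iv D15862) (iv F67780)
theorem F85632 : act 1 n18909 = n18909 := d14_1 D18909 (iv D18909) F67781
theorem F85633 : act 3 n18909 = n14826 := d27_1 D18909 (iv D14826) (iv F67782)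
theorem F85634 : act 5 n18909 = n14825 := d36_1 D18909 (iv D14825) D14824
theorem F85635 : act 8 n18909 = n18909 := d42_2 F67784 D18909 (iv D18909)
def n18910 : Q := act 6 n14826
theorem D18910 : act 6 n14826 = n18910 := rfl
theorem F85636 : act 0 n18910 = n15863 := d5_1 D18910 (iv D15863) (iv F67789)
theorem F85637 : act 1 n18910 = n18910 := d13_1 D18910 (iv D18910) F67790
theorem F85638 : act 4 n18910 = n14984 := d31_1 D18910 (iv D14984) (iv F67791)
theorem F85639 : act 7 n18910 = n18910 := d39_2 D14826 D18910 (iv D18910) (iv D14826) F53546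
theorem F85640 : act 8 n18910 = n18910 := d40_2 F67793 D18910 (iv D18910)
def n18911 : Q := act 0 n14827
theorem D18911 : act 0 n14827 = n18911 := rfl
theorem F85641 : act 1 n18911 = n15864 := d0_2 D14827 D18911 (iv D15864) (iv D12336) (iv F53552)
theorem F85642 : act 2 n18911 = n18911 := d1_2 F67794 D18911 (iv D18911)
theorem F85643 : act 5 n18911 = n14836 := d4_2 (iv F67795) D18911 (iv D14836)
theorem F85644 : act 7 n18911 = n14833 := d6_2 (iv F67796) D18911 (iv D14833)
theorem F85645 : act 9 n18911 = n18911 := d8_2 F67797 D18911 (iv D18911)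
def n18912 : Q := act 6 n14827
theorem D18912 : act 6 n14827 = n18912 := rfl
theorem F85646 : act 1 n18912 = n14828 := d13_1 D18912 (iv D14828) D14827
def n18913 : Q := act 5 n14828
theorem D18913 : act 5 n14828 = n18913 := rfl
theorem F85649 : act 0 n18913 = n15866 := d4_1 D18913 (iv D15866) (iv F67798)
theorem F85650 : act 2 n18913 = n14829 := d19_1 D18913 (iv D14829) (iv F67799)
theorem F85651 : act 6 n18913 = n14838 := d35_2 D14828 D18913 (iv D14838) (iv D11579) (iv F53553)
def n18914 : Q := act 7 n14828
theorem D18914 : act 7 n14828 = n18914 := rfl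
theorem F85653 : act 0 n18914 = n15867 := d6_1 D18914 (iv D15867) (iv F67798)
theorem F85654 : act 2 n18914 = n14830 := d21_1 D18914 (iv D14830) (iv F67799)
theorem F85655 : act 6 n18914 = n14835 := d39_1 D18914 (iv D14835) (iv D11576) (iv F53554) D14828
theorem F85656 : act 9 n18914 = n18914 := d43_2 F67800 D18914 (iv D18914)
def n18915 : Q := act 4 n14829
theorem D18915 : act 4 n14829 = n18915 := rfl
theorem F85657 : act 0 n18915 = n15868 := d3_1 D18915 (iv D15868) (iv F67801)
theorem F85660 : act 6 n18915 = n14839 := d31_2 (iv F67804) D18915 (iv D14839)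
theorem F85662 : act 8 n17490 = n18915 := d40_0 F85660 (iv F67855) (iv F78751)
def n18916 : Q := act 7 n14829
theorem D18916 : act 7 n14829 = n18916 := rfl
theorem F85663 : act 0 n18916 = n15869 := d6_1 D18916 (iv D15869) (iv F67801)
theorem F85664 : act 1 n18916 = n18916 := d14_1 D18916 (iv D18916) F67802
theorem F85665 : act 3 n18916 = n14831 := d27_1 D18916 (iv D14831) (iv F67803)
theorem F85666 : act 5 n18916 = n14830 := d36_1 D18916 (iv D14830) D14829
theorem F85667 : act 6 n18916 = n18916 := d39_1 D18916 (iv D18916) F67804 F53596 (iv F67804)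
theorem F85668 : act 9 n18916 = n18916 := d43_2 F67805 D18916 (iv D18916)
def n18917 : Q := act 8 n14829
theorem D18917 : act 8 n14829 = n18917 := rfl
theorem F85673 : act 6 n18917 = n14840 := d40_1 D18917 (iv D14840) (iv F67804)
theorem F85674 : act 9 n17493 = n18917 := d41_0 F85673 (iv F67862) (iv F78764)
def n18918 : Q := act 8 n14831
theorem D18918 : act 8 n14831 = n18918 := rfl
theorem F85675 : act 0 n18918 = n15871 := d7_1 D18918 (iv D15871) (iv F67811)
theorem F85676 : act 1 n18918 = n18918 := d15_1 D18918 (iv D18918) F67812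
theorem F85677 : act 4 n18918 = n18918 := d33_1 D18918 (iv D18918) F67813
theorem F85678 : act 6 n18918 = n18918 := d40_1 D18918 (iv D18918) F67815
theorem F85679 : act 7 n18918 = n14832 := d42_1 D18918 (iv D14832) D14831
def n18919 : Q := act 9 n14832
theorem D18919 : act 9 n14832 = n18919 := rfl
def n18920 : Q := act 6 n14833
theorem D18920 : act 6 n14833 = n18920 := rfl
theorem F85686 : act 0 n18920 = n14834 := d5_1 D18920 (iv D14834) D14833
theorem F85687 : act 1 n18920 = n15873 := d13_1 D18920 (iv D15873) (iv F67821)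
theorem F85688 : act 2 n18920 = n18920 := d20_1 D18920 (iv D18920) F67822
theorem F85689 : act 5 n18920 = n18920 := d35_1 D18920 (iv D18920) F67823 F53606 (iv F67823)
theorem F85690 : act 9 n18920 = n18920 := d41_2 F67824 D18920 (iv D18920)
def n18921 : Q := act 7 n14834
theorem D18921 : act 7 n14834 = n18921 := rfl
theorem F85691 : act 1 n18921 = n14835 := d14_1 D18921 (iv D14835) (iv F67825)
theorem F85692 : act 2 n18921 = n18921 := d21_1 D18921 (iv D18921) F67826
theorem F85693 : act 5 n18921 = n18921 := d36_1 D18921 (iv D18921) F67827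
theorem F85694 : act 9 n18921 = n18921 := d43_2 F67828 D18921 (iv D18921)
def n18922 : Q := act 6 n14836
theorem D18922 : act 6 n14836 = n18922 := rfl
theorem F85696 : act 1 n18922 = n15875 := d13_1 D18922 (iv D15875) (iv F67833)
def n18923 : Q := act 5 n14837
theorem D18923 : act 5 n14837 = n18923 := rfl
theorem F85702 : act 1 n18923 = n14838 := d12_1 D18923 (iv D14838) (iv F67839)
def n18924 : Q := act 4 n14838
theorem D18924 : act 4 n14838 = n18924 := rfl
theorem F85706 : act 0 n18924 = n15877 := d3_1 D18924 (iv D15877) (iv F67845)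
theorem F85707 : act 2 n18924 = n14839 := d18_1 D18924 (iv D14839) (iv F67846)
theorem F85711 : act 8 n16276 = n18924 := d22_0 F85707 (iv F67855) (iv F73851)
def n18925 : Q := act 8 n14838
theorem D18925 : act 8 n14838 = n18925 := rfl
theorem F85714 : act 4 n18925 = n16276 := d33_1 D18925 F85711 (iv D18924)
theorem F85717 : act 9 n16278 = n18925 := d34_0 F85714 F73853 D16278
def n18926 : Q := act 4 n14842
theorem D18926 : act 4 n14842 = n18926 := rfl
theorem F85718 : act 0 n18926 = n14857 := d3_1 D18926 (iv D14857) (iv F67870)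
theorem F85719 : act 1 n18926 = n15536 := d11_1 D18926 (iv D15536) (iv F67871)
theorem F85720 : act 2 n18926 = n18926 := d18_1 D18926 (iv D18926) F67872
theorem F85721 : act 5 n18926 = n14845 := d30_2 D14842 D18926 (iv D14845) (iv D11586) (iv F53613)
theorem F85722 : act 7 n18926 = n15525 := d32_2 (iv F67874) D18926 (iv D15525)
theorem F85723 : act 8 n18926 = n15146 := d33_2 (iv F67875) D18926 (iv D15146)
theorem F85724 : act 9 n18926 = n15757 := d34_2 (iv F67876) D18926 (iv D15757)
def n18927 : Q := act 6 n14842
theorem D18927 : act 6 n14842 = n18927 := rfl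
theorem F85725 : act 0 n18927 = n14858 := d5_1 D18927 (iv D14858) (iv F67870)
theorem F85726 : act 1 n18927 = n15537 := d13_1 D18927 (iv D15537) (iv F67871)
theorem F85727 : act 2 n18927 = n18927 := d20_1 D18927 (iv D18927) F67872
theorem F85728 : act 3 n18927 = n15739 := d26_1 D18927 (iv D15739) (iv F67873)
theorem F85729 : act 5 n18927 = n15929 := d35_1 D18927 (iv D15929) (iv D12384) (iv F53614) D14842
theorem F85730 : act 8 n18927 = n15147 := d40_2 (iv F67875) D18927 (iv D15147)
theorem F85731 : act 9 n18927 = n15758 := d41_2 (iv F67876) D18927 (iv D15758)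
def n18928 : Q := act 4 n14843
theorem D18928 : act 4 n14843 = n18928 := rfl
theorem F85732 : act 0 n18928 = n14860 := d3_1 D18928 (iv D14860) (iv F67877)
theorem F85733 : act 1 n18928 = n15534 := d11_1 D18928 (iv D15534) (iv F67878)
theorem F85734 : act 2 n18928 = n18928 := d18_1 D18928 (iv D18928) F67879
theorem F85735 : act 5 n18928 = n15525 := d30_2 D14843 D18928 (iv D15525) (iv D12093) (iv F53621)
theorem F85736 : act 7 n18928 = n14845 := d32_2 (iv F67881) D18928 (iv D14845)
theorem F85737 : act 8 n18928 = n14847 := d33_2 (iv F67882) D18928 (iv D14847)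
theorem F85738 : act 9 n18928 = n15599 := d34_2 (iv F67883) D18928 (iv D15599)
def n18929 : Q := act 6 n14843
theorem D18929 : act 6 n14843 = n18929 := rfl
theorem F85739 : act 0 n18929 = n14861 := d5_1 D18929 (iv D14861) (iv F67877)
theorem F85740 : act 1 n18929 = n15535 := d13_1 D18929 (iv D15535) (iv F67878)
theorem F85741 : act 2 n18929 = n18929 := d20_1 D18929 (iv D18929) F67879
theorem F85742 : act 3 n18929 = n15880 := d26_1 D18929 (iv D15880) (iv F67880)
theorem F85743 : act 5 n18929 = n15609 := d35_1 D18929 (iv D15609) (iv D12152) (iv F53622) D14843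
theorem F85744 : act 8 n18929 = n14848 := d40_2 (iv F67882) D18929 (iv D14848)
theorem F85745 : act 9 n18929 = n15600 := d41_2 (iv F67883) D18929 (iv D15600)
def n18930 : Q := act 4 n14844
theorem D18930 : act 4 n14844 = n18930 := rfl
theorem F85746 : act 0 n18930 = n14862 := d3_1 D18930 (iv D14862) (iv F67884)
theorem F85747 : act 1 n18930 = n15879 := d11_1 D18930 (iv D15879) (iv F67885)
theorem F85748 : act 2 n18930 = n18930 := d18_1 D18930 (iv D18930) F67886
theorem F85749 : act 5 n18930 = n15757 := d30_2 D14844 D18930 (iv D15757) (iv D12261) (iv F53629)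
theorem F85750 : act 7 n18930 = n15599 := d32_2 (iv F67888) D18930 (iv D15599)
theorem F85751 : act 8 n18930 = n15000 := d33_2 (iv F67889) D18930 (iv D15000)
theorem F85752 : act 9 n18930 = n14845 := d34_2 (iv F67890) D18930 (iv D14845)
def n18931 : Q := act 6 n14844
theorem D18931 : act 6 n14844 = n18931 := rfl
theorem F85753 : act 0 n18931 = n14863 := d5_1 D18931 (iv D14863) (iv F67884)
theorem F85754 : act 1 n18931 = n15880 := d13_1 D18931 (iv D15880) (iv F67885)
theorem F85755 : act 2 n18931 = n18931 := d20_1 D18931 (iv D18931) F67886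
theorem F85756 : act 3 n18931 = n15535 := d26_1 D18931 (iv D15535) (iv F67887)
theorem F85757 : act 5 n18931 = n15623 := d35_1 D18931 (iv D15623) (iv D12162) (iv F53630) D14844
theorem F85758 : act 8 n18931 = n15001 := d40_2 (iv F67889) D18931 (iv D15001)
theorem F85759 : act 9 n18931 = n14846 := d41_2 (iv F67890) D18931 (iv D14846)
def n18932 : Q := act 3 n14845
theorem D18932 : act 3 n14845 = n18932 := rfl
theorem F85760 : act 0 n18932 = n14864 := d2_1 D18932 (iv D14864) (iv F67891)
theorem F85761 : act 1 n18932 = n15881 := d10_1 D18932 (iv D15881) (iv F67892)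
theorem F85762 : act 8 n18932 = n14849 := d28_2 (iv F67894) D18932 (iv D14849)
def n18933 : Q := act 6 n14845
theorem D18933 : act 6 n14845 = n18933 := rfl
theorem F85763 : act 0 n18933 = n14865 := d5_1 D18933 (iv D14865) (iv F67891)
theorem F85764 : act 1 n18933 = n15882 := d13_1 D18933 (iv D15882) (iv F67892)
theorem F85765 : act 2 n18933 = n18933 := d20_1 D18933 (iv D18933) F67893
theorem F85766 : act 4 n18933 = n14846 := d31_1 D18933 (iv D14846) D14845
theorem F85767 : act 8 n18933 = n14850 := d40_2 (iv F67894) D18933 (iv D14850)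
def n18934 : Q := act 7 n14846
theorem D18934 : act 7 n14846 = n18934 := rfl
theorem F85768 : act 0 n18934 = n14866 := d6_1 D18934 (iv D14866) (iv F67895)
theorem F85769 : act 1 n18934 = n15883 := d14_1 D18934 (iv D15883) (iv F67896)
theorem F85770 : act 2 n18934 = n18934 := d21_1 D18934 (iv D18934) F67897
theorem F85771 : act 8 n18934 = n14851 := d42_2 (iv F67898) D18934 (iv D14851)
def n18935 : Q := act 3 n14847
theorem D18935 : act 3 n14847 = n18935 := rfl
theorem F85772 : act 0 n18935 = n14867 := d2_1 D18935 (iv D14867) (iv F67899)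
theorem F85773 : act 1 n18935 = n15884 := d10_1 D18935 (iv D15884) (iv F67900)
theorem F85774 : act 4 n18935 = n16095 := d24_2 D14847 D18935 (iv D16095) (iv D12506) (iv F53640)
theorem F85775 : act 5 n18935 = n15153 := d25_2 (iv F67902) D18935 (iv D15153)
theorem F85776 : act 7 n18935 = n14849 := d27_2 (iv F67903) D18935 (iv D14849)
theorem F85777 : act 9 n18935 = n15005 := d29_2 (iv F67904) D18935 (iv D15005)
def n18936 : Q := act 6 n14847
theorem D18936 : act 6 n14847 = n18936 := rfl
theorem F85778 : act 0 n18936 = n14868 := d5_1 D18936 (iv D14868) (iv F67899)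
theorem F85779 : act 1 n18936 = n15885 := d13_1 D18936 (iv D15885) (iv F67900)
theorem F85780 : act 2 n18936 = n18936 := d20_1 D18936 (iv D18936) F67901
theorem F85781 : act 4 n18936 = n14848 := d31_1 D18936 (iv D14848) D14847
theorem F85782 : act 9 n18936 = n15006 := d41_2 (iv F67904) D18936 (iv D15006)
def n18937 : Q := act 7 n14848
theorem D18937 : act 7 n14848 = n18937 := rfl
theorem F85783 : act 0 n18937 = n14869 := d6_1 D18937 (iv D14869) (iv F67905)
theorem F85784 : act 1 n18937 = n15886 := d14_1 D18937 (iv D15886) (iv F67906)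
theorem F85785 : act 2 n18937 = n18937 := d21_1 D18937 (iv D18937) F67907
theorem F85786 : act 3 n18937 = n16097 := d27_1 D18937 (iv D16097) (iv F67908)
theorem F85787 : act 5 n18937 = n18937 := d36_1 D18937 (iv D18937) F67909
theorem F85788 : act 6 n18937 = n14851 := d39_1 D18937 (iv D14851) (iv D11589) (iv F53641) D14848
theorem F85789 : act 9 n18937 = n15007 := d43_2 (iv F67910) D18937 (iv D15007)
def n18938 : Q := act 2 n14849
theorem D18938 : act 2 n14849 = n18938 := rfl
theorem F85790 : act 0 n18938 = n14870 := d1_1 D18938 (iv D14870) (iv F67911)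
theorem F85791 : act 3 n18938 = n18938 := d17_2 D14849 D18938 (iv D18938) (iv D14849) F53645
theorem F85792 : act 5 n18938 = n15156 := d19_2 (iv F67913) D18938 (iv D15156)
theorem F85793 : act 9 n18938 = n15008 := d23_2 (iv F67914) D18938 (iv D15008)
def n18939 : Q := act 6 n14849
theorem D18939 : act 6 n14849 = n18939 := rfl
theorem F85794 : act 0 n18939 = n14871 := d5_1 D18939 (iv D14871) (iv F67911)
theorem F85795 : act 1 n18939 = n15888 := d13_1 D18939 (iv D15888) (iv F67912)
theorem F85796 : act 3 n18939 = n14850 := d26_1 D18939 (iv D14850) D14849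
theorem F85797 : act 9 n18939 = n15009 := d41_2 (iv F67914) D18939 (iv D15009)
def n18940 : Q := act 5 n14850
theorem D18940 : act 5 n14850 = n18940 := rfl
theorem F85798 : act 0 n18940 = n14872 := d4_1 D18940 (iv D14872) (iv F67915)
theorem F85799 : act 1 n18940 = n15889 := d12_1 D18940 (iv D15889) (iv F67916)
theorem F85800 : act 2 n18940 = n18940 := d19_1 D18940 (iv D18940) F67917
theorem F85801 : act 4 n18940 = n14854 := d30_1 D18940 (iv D14854) F53661 (iv F53651) (iv F67918)
theorem F85803 : act 9 n18940 = n15010 := d38_2 (iv F67919) D18940 (iv D15010)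
def n18941 : Q := act 7 n14850
theorem D18941 : act 7 n14850 = n18941 := rfl
theorem F85804 : act 0 n18941 = n14873 := d6_1 D18941 (iv D14873) (iv F67915)
theorem F85805 : act 1 n18941 = n15890 := d14_1 D18941 (iv D15890) (iv F67916)
theorem F85806 : act 2 n18941 = n18941 := d21_1 D18941 (iv D18941) F67917
theorem F85807 : act 4 n18941 = n14851 := d32_1 D18941 (iv D14851) (iv F67918)
theorem F85808 : act 9 n18941 = n15011 := d43_2 (iv F67919) D18941 (iv D15011)
def n18942 : Q := act 1 n14852
theorem D18942 : act 1 n14852 = n18942 := rfl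
theorem F85810 : act 2 n18942 = n15891 := d9_2 D14852 D18942 (iv D15891) (iv D12359) (iv F53654)
theorem F85812 : act 5 n18942 = n15160 := d12_2 (iv F67927) D18942 (iv D15160)
def n18943 : Q := act 6 n14852
theorem D18943 : act 6 n14852 = n18943 := rfl
theorem F85815 : act 0 n18943 = n14874 := d5_1 D18943 (iv D14874) (iv F67925)
theorem F85816 : act 2 n18943 = n14853 := d20_1 D18943 (iv D14853) D14852
theorem F85818 : act 9 n18943 = n15013 := d41_2 (iv F67929) D18943 (iv D15013)
def n18944 : Q := act 5 n14853
theorem D18944 : act 5 n14853 = n18944 := rfl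
theorem F85819 : act 0 n18944 = n14875 := d4_1 D18944 (iv D14875) (iv F67930)
theorem F85821 : act 3 n18944 = n14854 := d25_1 D18944 (iv D14854) (iv F67932)
theorem F85822 : act 6 n18944 = n15162 := d35_2 D14853 D18944 (iv D15162) (iv D11816) (iv F53655)
theorem F85823 : act 9 n18944 = n15014 := d38_2 (iv F67933) D18944 (iv D15014)
def n18945 : Q := act 7 n14853
theorem D18945 : act 7 n14853 = n18945 := rfl
theorem F85824 : act 0 n18945 = n14876 := d6_1 D18945 (iv D14876) (iv F67930)
theorem F85825 : act 1 n18945 = n15894 := d14_1 D18945 (iv D15894) (iv F67931)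
theorem F85826 : act 3 n18945 = n14855 := d27_1 D18945 (iv D14855) (iv F67932)
theorem F85827 : act 6 n18945 = n18945 := d39_1 D18945 (iv D18945) (iv D14853) F53656 D14853
theorem F85828 : act 9 n18945 = n15015 := d43_2 (iv F67933) D18945 (iv D15015)
def n18946 : Q := act 7 n14854
theorem D18946 : act 7 n14854 = n18946 := rfl
theorem F85829 : act 0 n18946 = n14877 := d6_1 D18946 (iv D14877) (iv F67934)
theorem F85830 : act 1 n18946 = n15895 := d14_1 D18946 (iv D15895) (iv F67935)
theorem F85831 : act 2 n18946 = n18946 := d21_1 D18946 (iv D18946) F67936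
theorem F85832 : act 5 n18946 = n14855 := d36_1 D18946 (iv D14855) D14854
theorem F85833 : act 9 n18946 = n15016 := d43_2 (iv F67938) D18946 (iv D15016)
def n18947 : Q := act 8 n14854
theorem D18947 : act 8 n14854 = n18947 := rfl
theorem F85834 : act 0 n18947 = n14878 := d7_1 D18947 (iv D14878) (iv F67934)
theorem F85835 : act 1 n18947 = n15896 := d15_1 D18947 (iv D15896) (iv F67935)
theorem F85836 : act 2 n18947 = n18947 := d22_1 D18947 (iv D18947) F67936
def n18948 : Q := act 4 n14856
theorem D18948 : act 4 n14856 = n18948 := rfl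
theorem F85838 : act 0 n18948 = n15525 := d3_1 D18948 (iv D15525) (iv F67945)
theorem F85839 : act 1 n18948 = n14881 := d11_1 D18948 (iv D14881) (iv F67946)
theorem F85840 : act 2 n18948 = n18948 := d18_1 D18948 (iv D18948) F67947
theorem F85841 : act 5 n18948 = n14860 := d30_2 D14856 D18948 (iv D14860) (iv D11596) (iv F53672)
theorem F85842 : act 7 n18948 = n14857 := d32_2 (iv F67949) D18948 (iv D14857)
theorem F85843 : act 8 n18948 = n15168 := d33_2 (iv F67950) D18948 (iv D15168)
theorem F85844 : act 9 n18948 = n15608 := d34_2 (iv F67951) D18948 (iv D15608)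
def n18949 : Q := act 6 n14856
theorem D18949 : act 6 n14856 = n18949 := rfl
theorem F85845 : act 0 n18949 = n15526 := d5_1 D18949 (iv D15526) (iv F67945)
theorem F85846 : act 1 n18949 = n14882 := d13_1 D18949 (iv D14882) (iv F67946)
theorem F85847 : act 2 n18949 = n18949 := d20_1 D18949 (iv D18949) F67947
theorem F85848 : act 3 n18949 = n15728 := d26_1 D18949 (iv D15728) (iv F67948)
theorem F85849 : act 5 n18949 = n15600 := d35_1 D18949 (iv D15600) (iv D12146) (iv F53673) D14856
theorem F85850 : act 8 n18949 = n15169 := d40_2 (iv F67950) D18949 (iv D15169)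
theorem F85851 : act 9 n18949 = n15609 := d41_2 (iv F67951) D18949 (iv D15609)
def n18950 : Q := act 3 n14857
theorem D18950 : act 3 n14857 = n18950 := rfl
theorem F85852 : act 1 n18950 = n14885 := d10_1 D18950 (iv D14885) (iv F67952)
theorem F85853 : act 5 n18950 = n14864 := d25_2 (iv F67954) D18950 (iv D14864)
theorem F85854 : act 8 n18950 = n15170 := d28_2 (iv F67955) D18950 (iv D15170)
def n18951 : Q := act 6 n14857
theorem D18951 : act 6 n14857 = n18951 := rfl
theorem F85855 : act 1 n18951 = n14886 := d13_1 D18951 (iv D14886) (iv F67952)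
theorem F85856 : act 2 n18951 = n18951 := d20_1 D18951 (iv D18951) F67953
theorem F85857 : act 4 n18951 = n14858 := d31_1 D18951 (iv D14858) D14857
theorem F85858 : act 8 n18951 = n15171 := d40_2 (iv F67955) D18951 (iv D15171)
def n18952 : Q := act 7 n14858
theorem D18952 : act 7 n14858 = n18952 := rfl
theorem F85859 : act 1 n18952 = n14887 := d14_1 D18952 (iv D14887) (iv F67956)
theorem F85860 : act 2 n18952 = n18952 := d21_1 D18952 (iv D18952) F67957
theorem F85861 : act 8 n18952 = n15172 := d42_2 (iv F67958) D18952 (iv D15172)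
def n18953 : Q := act 4 n14859
theorem D18953 : act 4 n14859 = n18953 := rfl
theorem F85862 : act 0 n18953 = n15608 := d3_1 D18953 (iv D15608) (iv F67959)
theorem F85863 : act 1 n18953 = n14888 := d11_1 D18953 (iv D14888) (iv F67960)
theorem F85864 : act 2 n18953 = n18953 := d18_1 D18953 (iv D18953) F67961
theorem F85865 : act 5 n18953 = n15599 := d30_2 D14859 D18953 (iv D15599) (iv D12146) (iv F53683)
theorem F85866 : act 7 n18953 = n15757 := d32_2 (iv F67963) D18953 (iv D15757)
theorem F85867 : act 8 n18953 = n18953 := d33_2 F67964 D18953 (iv D18953)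
theorem F85868 : act 9 n18953 = n15525 := d34_2 (iv F67965) D18953 (iv D15525)
def n18954 : Q := act 6 n14859
theorem D18954 : act 6 n14859 = n18954 := rfl
theorem F85869 : act 0 n18954 = n15609 := d5_1 D18954 (iv D15609) (iv F67959)
theorem F85870 : act 1 n18954 = n14889 := d13_1 D18954 (iv D14889) (iv F67960)
theorem F85871 : act 2 n18954 = n18954 := d20_1 D18954 (iv D18954) F67961
theorem F85872 : act 3 n18954 = n15741 := d26_1 D18954 (iv D15741) (iv F67962)
theorem F85873 : act 5 n18954 = n14861 := d35_1 D18954 (iv D14861) (iv D11596) (iv F53684) D14859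
theorem F85874 : act 8 n18954 = n18954 := d40_2 F67964 D18954 (iv D18954)
theorem F85875 : act 9 n18954 = n15526 := d41_2 (iv F67965) D18954 (iv D15526)
def n18955 : Q := act 3 n14860
theorem D18955 : act 3 n14860 = n18955 := rfl
theorem F85876 : act 1 n18955 = n14890 := d10_1 D18955 (iv D14890) (iv F67966)
theorem F85877 : act 4 n18955 = n15903 := d24_2 D14860 D18955 (iv D15903) (iv D12367) (iv F53689)
theorem F85878 : act 7 n18955 = n14864 := d27_2 (iv F67968) D18955 (iv D14864)
theorem F85879 : act 8 n18955 = n14867 := d28_2 (iv F67969) D18955 (iv D14867)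
theorem F85880 : act 9 n18955 = n15610 := d29_2 (iv F67970) D18955 (iv D15610)
def n18956 : Q := act 6 n14860
theorem D18956 : act 6 n14860 = n18956 := rfl
theorem F85881 : act 1 n18956 = n14891 := d13_1 D18956 (iv D14891) (iv F67966)
theorem F85882 : act 2 n18956 = n18956 := d20_1 D18956 (iv D18956) F67967
theorem F85883 : act 4 n18956 = n14861 := d31_1 D18956 (iv D14861) D14860
theorem F85884 : act 8 n18956 = n14868 := d40_2 (iv F67969) D18956 (iv D14868)
theorem F85885 : act 9 n18956 = n15611 := d41_2 (iv F67970) D18956 (iv D15611)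
def n18957 : Q := act 7 n14861
theorem D18957 : act 7 n14861 = n18957 := rfl
theorem F85886 : act 1 n18957 = n14892 := d14_1 D18957 (iv D14892) (iv F67971)
theorem F85887 : act 2 n18957 = n18957 := d21_1 D18957 (iv D18957) F67972
theorem F85888 : act 3 n18957 = n15905 := d27_1 D18957 (iv D15905) (iv F67973)
theorem F85889 : act 6 n18957 = n14866 := d39_1 D18957 (iv D14866) (iv D11599) (iv F53690) D14861
theorem F85890 : act 8 n18957 = n14869 := d42_2 (iv F67974) D18957 (iv D14869)
theorem F85891 : act 9 n18957 = n15612 := d43_2 (iv F67975) D18957 (iv D15612)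
def n18958 : Q := act 3 n14862
theorem D18958 : act 3 n14862 = n18958 := rfl
theorem F85892 : act 1 n18958 = n14893 := d10_1 D18958 (iv D14893) (iv F67976)
theorem F85893 : act 4 n18958 = n15900 := d24_2 D14862 D18958 (iv D15900) (iv D12365) (iv F53695)
theorem F85894 : act 7 n18958 = n15610 := d27_2 (iv F67978) D18958 (iv D15610)
theorem F85895 : act 8 n18958 = n15018 := d28_2 (iv F67979) D18958 (iv D15018)
theorem F85896 : act 9 n18958 = n14864 := d29_2 (iv F67980) D18958 (iv D14864)
def n18959 : Q := act 6 n14862
theorem D18959 : act 6 n14862 = n18959 := rfl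
theorem F85897 : act 1 n18959 = n14894 := d13_1 D18959 (iv D14894) (iv F67976)
theorem F85898 : act 2 n18959 = n18959 := d20_1 D18959 (iv D18959) F67977
theorem F85899 : act 4 n18959 = n14863 := d31_1 D18959 (iv D14863) D14862
theorem F85900 : act 8 n18959 = n15019 := d40_2 (iv F67979) D18959 (iv D15019)
theorem F85901 : act 9 n18959 = n14865 := d41_2 (iv F67980) D18959 (iv D14865)
def n18960 : Q := act 7 n14863
theorem D18960 : act 7 n14863 = n18960 := rfl
theorem F85902 : act 1 n18960 = n14895 := d14_1 D18960 (iv D14895) (iv F67981)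
theorem F85903 : act 2 n18960 = n18960 := d21_1 D18960 (iv D18960) F67982
theorem F85904 : act 3 n18960 = n15902 := d27_1 D18960 (iv D15902) (iv F67983)
theorem F85905 : act 6 n18960 = n15612 := d39_1 D18960 (iv D15612) (iv D12154) (iv F53696) D14863
theorem F85906 : act 8 n18960 = n15020 := d42_2 (iv F67984) D18960 (iv D15020)
theorem F85907 : act 9 n18960 = n14866 := d43_2 (iv F67985) D18960 (iv D14866)
def n18961 : Q := act 2 n14864
theorem D18961 : act 2 n14864 = n18961 := rfl
theorem F85908 : act 3 n18961 = n18961 := d17_2 D14864 D18961 (iv D18961) (iv D14864) F53700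
theorem F85909 : act 8 n18961 = n14870 := d22_2 (iv F67987) D18961 (iv D14870)
def n18962 : Q := act 6 n14864
theorem D18962 : act 6 n14864 = n18962 := rfl
theorem F85910 : act 1 n18962 = n14897 := d13_1 D18962 (iv D14897) (iv F67986)
theorem F85911 : act 3 n18962 = n14865 := d26_1 D18962 (iv D14865) D14864
theorem F85912 : act 8 n18962 = n14871 := d40_2 (iv F67987) D18962 (iv D14871)
def n18963 : Q := act 5 n14865
theorem D18963 : act 5 n14865 = n18963 := rfl
theorem F85913 : act 1 n18963 = n14898 := d12_1 D18963 (iv D14898) (iv F67988)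
theorem F85914 : act 2 n18963 = n18963 := d19_1 D18963 (iv D18963) F67989
def n18964 : Q := act 7 n14865
theorem D18964 : act 7 n14865 = n18964 := rfl
theorem F85915 : act 1 n18964 = n14899 := d14_1 D18964 (iv D14899) (iv F67988)
theorem F85916 : act 2 n18964 = n18964 := d21_1 D18964 (iv D18964) F67989
theorem F85917 : act 4 n18964 = n14866 := d32_1 D18964 (iv D14866) (iv F67990)
theorem F85918 : act 8 n18964 = n14873 := d42_2 (iv F67991) D18964 (iv D14873)
def n18965 : Q := act 2 n14867
theorem D18965 : act 2 n14867 = n18965 := rfl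
theorem F85919 : act 3 n18965 = n18965 := d17_2 D14867 D18965 (iv D18965) (iv D14867) F53706
theorem F85920 : act 4 n18965 = n16121 := d18_2 (iv F67996) D18965 (iv D16121)
theorem F85921 : act 5 n18965 = n15182 := d19_2 (iv F67997) D18965 (iv D15182)
theorem F85922 : act 7 n18965 = n14870 := d21_2 (iv F67998) D18965 (iv D14870)
theorem F85923 : act 9 n18965 = n15025 := d23_2 (iv F67999) D18965 (iv D15025)
def n18966 : Q := act 6 n14867
theorem D18966 : act 6 n14867 = n18966 := rfl
theorem F85924 : act 1 n18966 = n14901 := d13_1 D18966 (iv D14901) (iv F67995)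
theorem F85925 : act 3 n18966 = n14868 := d26_1 D18966 (iv D14868) D14867
theorem F85926 : act 4 n18966 = n16122 := d31_1 D18966 (iv D16122) (iv F67996)
theorem F85927 : act 9 n18966 = n15026 := d41_2 (iv F67999) D18966 (iv D15026)
def n18967 : Q := act 5 n14868
theorem D18967 : act 5 n14868 = n18967 := rfl
theorem F85928 : act 1 n18967 = n14902 := d12_1 D18967 (iv D14902) (iv F68000)
theorem F85929 : act 2 n18967 = n18967 := d19_1 D18967 (iv D18967) F68001
theorem F85930 : act 4 n18967 = n18967 := d30_1 D18967 (iv D18967) F68002 F53713 (iv F68002)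
theorem F85931 : act 6 n18967 = n15184 := d35_2 D14868 D18967 (iv D15184) (iv D11830) (iv F53707)
theorem F85932 : act 9 n18967 = n15027 := d38_2 (iv F68003) D18967 (iv D15027)
def n18968 : Q := act 7 n14868
theorem D18968 : act 7 n14868 = n18968 := rfl
theorem F85933 : act 1 n18968 = n14903 := d14_1 D18968 (iv D14903) (iv F68000)
theorem F85934 : act 2 n18968 = n18968 := d21_1 D18968 (iv D18968) F68001
theorem F85935 : act 4 n18968 = n14869 := d32_1 D18968 (iv D14869) (iv F68002)
theorem F85936 : act 6 n18968 = n14873 := d39_1 D18968 (iv D14873) (iv D11603) (iv F53708) D14868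
theorem F85937 : act 9 n18968 = n15028 := d43_2 (iv F68003) D18968 (iv D15028)
def n18969 : Q := act 1 n14870
theorem D18969 : act 1 n14870 = n18969 := rfl
theorem F85938 : act 2 n18969 = n14904 := d9_2 D14870 D18969 (iv D14904) (iv D11625) (iv F53715)
theorem F85939 : act 3 n18969 = n18969 := d10_2 F68010 D18969 (iv D18969)
theorem F85940 : act 5 n18969 = n15186 := d12_2 (iv F68011) D18969 (iv D15186)
theorem F85941 : act 9 n18969 = n15029 := d16_2 (iv F68012) D18969 (iv D15029)
def n18970 : Q := act 6 n14870
theorem D18970 : act 6 n14870 = n18970 := rfl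
theorem F85942 : act 2 n18970 = n14871 := d20_1 D18970 (iv D14871) D14870
theorem F85943 : act 3 n18970 = n18970 := d26_1 D18970 (iv D18970) F68010
theorem F85944 : act 9 n18970 = n15030 := d41_2 (iv F68012) D18970 (iv D15030)
def n18971 : Q := act 5 n14871
theorem D18971 : act 5 n14871 = n18971 := rfl
theorem F85945 : act 1 n18971 = n14906 := d12_1 D18971 (iv D14906) (iv F68013)
theorem F85946 : act 3 n18971 = n14872 := d25_1 D18971 (iv D14872) (iv F68014)
theorem F85947 : act 6 n18971 = n15188 := d35_2 D14871 D18971 (iv D15188) (iv D11833) (iv F53716)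
theorem F85948 : act 9 n18971 = n15031 := d38_2 (iv F68015) D18971 (iv D15031)
def n18972 : Q := act 7 n14871
theorem D18972 : act 7 n14871 = n18972 := rfl
theorem F85949 : act 1 n18972 = n14907 := d14_1 D18972 (iv D14907) (iv F68013)
theorem F85950 : act 3 n18972 = n14873 := d27_1 D18972 (iv D14873) (iv F68014)
theorem F85951 : act 9 n18972 = n15032 := d43_2 (iv F68015) D18972 (iv D15032)
def n18973 : Q := act 7 n14872
theorem D18973 : act 7 n14872 = n18973 := rfl
theorem F85952 : act 1 n18973 = n14908 := d14_1 D18973 (iv D14908) (iv F68016)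
theorem F85953 : act 2 n18973 = n18973 := d21_1 D18973 (iv D18973) F68017
theorem F85954 : act 4 n18973 = n14877 := d32_1 D18973 (iv D14877) (iv F68018)
theorem F85955 : act 5 n18973 = n14873 := d36_1 D18973 (iv D14873) D14872
theorem F85956 : act 9 n18973 = n15033 := d43_2 (iv F68020) D18973 (iv D15033)
def n18974 : Q := act 8 n14872
theorem D18974 : act 8 n14872 = n18974 := rfl
theorem F85957 : act 1 n18974 = n14909 := d15_1 D18974 (iv D14909) (iv F68016)
theorem F85958 : act 2 n18974 = n18974 := d22_1 D18974 (iv D18974) F68017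
theorem F85959 : act 4 n18974 = n14878 := d33_1 D18974 (iv D14878) (iv F68018)
theorem F85960 : act 6 n18974 = n15191 := d40_1 D18974 (iv D15191) (iv F68019)
def n18976 : Q := act 7 n14874
theorem D18976 : act 7 n14874 = n18976 := rfl
theorem F85966 : act 1 n18976 = n18976 := d14_1 D18976 (iv D18976) F68025
theorem F85967 : act 2 n18976 = n14876 := d21_1 D18976 (iv D14876) (iv F68026)
theorem F85968 : act 3 n18976 = n18976 := d27_1 D18976 (iv D18976) F68027
theorem F85969 : act 6 n18976 = n18976 := d39_1 D18976 (iv D18976) (iv D14874) F53729 D14874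
theorem F85970 : act 9 n18976 = n15036 := d43_2 (iv F68028) D18976 (iv D15036)
def n18977 : Q := act 4 n14875
theorem D18977 : act 4 n14875 = n18977 := rfl
theorem F85971 : act 1 n18977 = n14910 := d11_1 D18977 (iv D14910) (iv F68029)
theorem F85972 : act 6 n18977 = n15194 := d31_2 (iv F68031) D18977 (iv D15194)
theorem F85973 : act 9 n18977 = n15037 := d34_2 (iv F68032) D18977 (iv D15037)
def n18978 : Q := act 7 n14875
theorem D18978 : act 7 n14875 = n18978 := rfl
theorem F85974 : act 1 n18978 = n14911 := d14_1 D18978 (iv D14911) (iv F68029)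
theorem F85975 : act 3 n18978 = n14877 := d27_1 D18978 (iv D14877) (iv F68030)
theorem F85976 : act 5 n18978 = n14876 := d36_1 D18978 (iv D14876) D14875
theorem F85977 : act 9 n18978 = n15038 := d43_2 (iv F68032) D18978 (iv D15038)
def n18979 : Q := act 8 n14875
theorem D18979 : act 8 n14875 = n18979 := rfl
theorem F85978 : act 1 n18979 = n14912 := d15_1 D18979 (iv D14912) (iv F68029)
theorem F85979 : act 3 n18979 = n14878 := d28_1 D18979 (iv D14878) (iv F68030)
theorem F85980 : act 6 n18979 = n15196 := d40_1 D18979 (iv D15196) (iv F68031)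
def n18980 : Q := act 6 n14877
theorem D18980 : act 6 n14877 = n18980 := rfl
theorem F85981 : act 1 n18980 = n14913 := d13_1 D18980 (iv D14913) (iv F68037)
theorem F85982 : act 2 n18980 = n18980 := d20_1 D18980 (iv D18980) F68038
theorem F85983 : act 5 n18980 = n18980 := d35_1 D18980 (iv D18980) F68039 F53741 (iv F68039)
theorem F85985 : act 9 n18980 = n15040 := d41_2 (iv F68040) D18980 (iv D15040)
def n18981 : Q := act 8 n14877
theorem D18981 : act 8 n14877 = n18981 := rfl
theorem F85986 : act 1 n18981 = n14914 := d15_1 D18981 (iv D14914) (iv F68037)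
theorem F85987 : act 2 n18981 = n18981 := d22_1 D18981 (iv D18981) F68038
theorem F85988 : act 7 n18981 = n14878 := d42_1 D18981 (iv D14878) D14877
def n18982 : Q := act 9 n14878
theorem D18982 : act 9 n14878 = n18982 := rfl
theorem F85989 : act 1 n18982 = n14915 := d16_1 D18982 (iv D14915) (iv F68041)
theorem F85990 : act 2 n18982 = n18982 := d23_1 D18982 (iv D18982) F68042
theorem F85991 : act 6 n18982 = n15199 := d41_1 D18982 (iv D15199) (iv F68043)
theorem F85992 : act 8 n18982 = n15042 := d44_1 D18982 (iv D15042) (iv D11724) (iv F53737) D14878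
def n18983 : Q := act 3 n14879
theorem D18983 : act 3 n14879 = n18983 := rfl
theorem F85993 : act 0 n18983 = n15930 := d2_1 D18983 (iv D15930) (iv F68044)
theorem F85994 : act 4 n18983 = n14885 := d24_2 D14879 D18983 (iv D14885) (iv D11612) (iv F53745)
theorem F85995 : act 8 n18983 = n15200 := d28_2 (iv F68046) D18983 (iv D15200)
def n18984 : Q := act 6 n14879
theorem D18984 : act 6 n14879 = n18984 := rfl
theorem F85996 : act 0 n18984 = n15931 := d5_1 D18984 (iv D15931) (iv F68044)
theorem F85997 : act 2 n18984 = n18984 := d20_1 D18984 (iv D18984) F68045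
theorem F85998 : act 4 n18984 = n14880 := d31_1 D18984 (iv D14880) D14879
theorem F85999 : act 8 n18984 = n15201 := d40_2 (iv F68046) D18984 (iv D15201)
def n18985 : Q := act 7 n14880
theorem D18985 : act 7 n14880 = n18985 := rfl
theorem F86000 : act 0 n18985 = n15932 := d6_1 D18985 (iv D15932) (iv F68047)
theorem F86001 : act 2 n18985 = n18985 := d21_1 D18985 (iv D18985) F68048
theorem F86002 : act 3 n18985 = n14887 := d27_1 D18985 (iv D14887) (iv F68049)
theorem F86003 : act 8 n18985 = n15202 := d42_2 (iv F68050) D18985 (iv D15202)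
def n18986 : Q := act 3 n14881
theorem D18986 : act 3 n14881 = n18986 := rfl
theorem F86004 : act 0 n18986 = n15933 := d2_1 D18986 (iv D15933) (iv F68051)
theorem F86005 : act 5 n18986 = n14890 := d25_2 (iv F68053) D18986 (iv D14890)
theorem F86006 : act 7 n18986 = n14885 := d27_2 (iv F68054) D18986 (iv D14885)
theorem F86007 : act 8 n18986 = n15203 := d28_2 (iv F68055) D18986 (iv D15203)
theorem F86008 : act 9 n18986 = n15624 := d29_2 (iv F68056) D18986 (iv D15624)
def n18987 : Q := act 6 n14881
theorem D18987 : act 6 n14881 = n18987 := rfl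
theorem F86009 : act 0 n18987 = n15934 := d5_1 D18987 (iv D15934) (iv F68051)
theorem F86010 : act 2 n18987 = n14919 := d20_1 D18987 (iv D14919) (iv F68052)
theorem F86011 : act 4 n18987 = n14882 := d31_1 D18987 (iv D14882) D14881
theorem F86012 : act 8 n18987 = n15204 := d40_2 (iv F68055) D18987 (iv D15204)
theorem F86013 : act 9 n18987 = n15625 := d41_2 (iv F68056) D18987 (iv D15625)
def n18988 : Q := act 7 n14882
theorem D18988 : act 7 n14882 = n18988 := rfl
theorem F86014 : act 0 n18988 = n15935 := d6_1 D18988 (iv D15935) (iv F68057)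
theorem F86015 : act 2 n18988 = n14920 := d21_1 D18988 (iv D14920) (iv F68058)
theorem F86016 : act 6 n18988 = n14887 := d39_1 D18988 (iv D14887) (iv D11613) (iv F53749) D14882
theorem F86017 : act 8 n18988 = n15205 := d42_2 (iv F68059) D18988 (iv D15205)
theorem F86018 : act 9 n18988 = n15626 := d43_2 (iv F68060) D18988 (iv D15626)
def n18989 : Q := act 3 n14883
theorem D18989 : act 3 n14883 = n18989 := rfl
theorem F86019 : act 0 n18989 = n15936 := d2_1 D18989 (iv D15936) (iv F68061)
theorem F86020 : act 5 n18989 = n14893 := d25_2 (iv F68063) D18989 (iv D14893)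
theorem F86021 : act 7 n18989 = n15624 := d27_2 (iv F68064) D18989 (iv D15624)
theorem F86022 : act 8 n18989 = n18989 := d28_2 F68065 D18989 (iv D18989)
theorem F86023 : act 9 n18989 = n14885 := d29_2 (iv F68066) D18989 (iv D14885)
def n18990 : Q := act 6 n14883
theorem D18990 : act 6 n14883 = n18990 := rfl
theorem F86024 : act 0 n18990 = n15937 := d5_1 D18990 (iv D15937) (iv F68061)
theorem F86025 : act 2 n18990 = n14922 := d20_1 D18990 (iv D14922) (iv F68062)
theorem F86026 : act 4 n18990 = n14884 := d31_1 D18990 (iv D14884) D14883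
theorem F86027 : act 8 n18990 = n18990 := d40_2 F68065 D18990 (iv D18990)
theorem F86028 : act 9 n18990 = n14886 := d41_2 (iv F68066) D18990 (iv D14886)
def n18991 : Q := act 7 n14884
theorem D18991 : act 7 n14884 = n18991 := rfl
theorem F86029 : act 0 n18991 = n15938 := d6_1 D18991 (iv D15938) (iv F68067)
theorem F86030 : act 2 n18991 = n14923 := d21_1 D18991 (iv D14923) (iv F68068)
theorem F86031 : act 6 n18991 = n15626 := d39_1 D18991 (iv D15626) (iv D12164) (iv F53754) D14884
theorem F86032 : act 8 n18991 = n18991 := d42_2 F68069 D18991 (iv D18991)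
theorem F86033 : act 9 n18991 = n14887 := d43_2 (iv F68070) D18991 (iv D14887)
def n18992 : Q := act 2 n14885
theorem D18992 : act 2 n14885 = n18992 := rfl
theorem F86034 : act 0 n18992 = n15939 := d1_1 D18992 (iv D15939) (iv F68071)
theorem F86035 : act 3 n18992 = n14924 := d17_2 D14885 D18992 (iv D14924) (iv D11638) (iv F53758)
theorem F86036 : act 5 n18992 = n14896 := d19_2 (iv F68072) D18992 (iv D14896)
theorem F86037 : act 8 n18992 = n15206 := d22_2 (iv F68073) D18992 (iv D15206)
def n18993 : Q := act 6 n14885
theorem D18993 : act 6 n14885 = n18993 := rfl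
theorem F86038 : act 0 n18993 = n15940 := d5_1 D18993 (iv D15940) (iv F68071)
theorem F86039 : act 3 n18993 = n14886 := d26_1 D18993 (iv D14886) D14885
theorem F86040 : act 8 n18993 = n15207 := d40_2 (iv F68073) D18993 (iv D15207)
def n18994 : Q := act 5 n14886
theorem D18994 : act 5 n14886 = n18994 := rfl
theorem F86041 : act 0 n18994 = n15941 := d4_1 D18994 (iv D15941) (iv F68074)
theorem F86042 : act 2 n18994 = n14926 := d19_1 D18994 (iv D14926) (iv F68075)
theorem F86043 : act 6 n18994 = n14898 := d35_2 D14886 D18994 (iv D14898) (iv D11620) (iv F53759)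
def n18995 : Q := act 7 n14886
theorem D18995 : act 7 n14886 = n18995 := rfl
theorem F86044 : act 0 n18995 = n15942 := d6_1 D18995 (iv D15942) (iv F68074)
theorem F86045 : act 2 n18995 = n14927 := d21_1 D18995 (iv D14927) (iv F68075)
theorem F86046 : act 4 n18995 = n14887 := d32_1 D18995 (iv D14887) (iv F68076)
theorem F86047 : act 8 n18995 = n15209 := d42_2 (iv F68077) D18995 (iv D15209)
def n18996 : Q := act 3 n14888
theorem D18996 : act 3 n14888 = n18996 := rfl
theorem F86048 : act 0 n18996 = n15943 := d2_1 D18996 (iv D15943) (iv F68081)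
theorem F86049 : act 4 n18996 = n15767 := d24_2 D14888 D18996 (iv D15767) (iv D12267) (iv F53766)
theorem F86050 : act 8 n18996 = n18996 := d28_2 F68083 D18996 (iv D18996)
theorem F86051 : act 9 n18996 = n15538 := d29_2 (iv F68084) D18996 (iv D15538)
def n18997 : Q := act 6 n14888
theorem D18997 : act 6 n14888 = n18997 := rfl
theorem F86052 : act 0 n18997 = n15944 := d5_1 D18997 (iv D15944) (iv F68081)
theorem F86053 : act 2 n18997 = n14929 := d20_1 D18997 (iv D14929) (iv F68082)
theorem F86054 : act 4 n18997 = n14889 := d31_1 D18997 (iv D14889) D14888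
theorem F86055 : act 8 n18997 = n18997 := d40_2 F68083 D18997 (iv D18997)
theorem F86056 : act 9 n18997 = n15539 := d41_2 (iv F68084) D18997 (iv D15539)
def n18998 : Q := act 7 n14889
theorem D18998 : act 7 n14889 = n18998 := rfl
theorem F86057 : act 0 n18998 = n15945 := d6_1 D18998 (iv D15945) (iv F68085)
theorem F86058 : act 2 n18998 = n14930 := d21_1 D18998 (iv D14930) (iv F68086)
theorem F86059 : act 3 n18998 = n15769 := d27_1 D18998 (iv D15769) (iv F68087)
theorem F86060 : act 5 n18998 = n14892 := d36_1 D18998 (iv D14892) (iv F68088)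
theorem F86061 : act 8 n18998 = n18998 := d42_2 F68089 D18998 (iv D18998)
theorem F86062 : act 9 n18998 = n15540 := d43_2 (iv F68090) D18998 (iv D15540)
def n18999 : Q := act 2 n14890
theorem D18999 : act 2 n14890 = n18999 := rfl
theorem F86063 : act 0 n18999 = n15946 := d1_1 D18999 (iv D15946) (iv F68091)
theorem F86064 : act 3 n18999 = n14931 := d17_2 D14890 D18999 (iv D14931) (iv D11643) (iv F53770)
theorem F86065 : act 4 n18999 = n15950 := d18_2 (iv F68092) D18999 (iv D15950)
theorem F86066 : act 7 n18999 = n14896 := d21_2 (iv F68093) D18999 (iv D14896)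
theorem F86067 : act 8 n18999 = n14900 := d22_2 (iv F68094) D18999 (iv D14900)
theorem F86068 : act 9 n18999 = n15627 := d23_2 (iv F68095) D18999 (iv D15627)
def n19000 : Q := act 6 n14890
theorem D19000 : act 6 n14890 = n19000 := rfl
theorem F86069 : act 0 n19000 = n15947 := d5_1 D19000 (iv D15947) (iv F68091)
theorem F86070 : act 3 n19000 = n14891 := d26_1 D19000 (iv D14891) D14890
theorem F86071 : act 4 n19000 = n15951 := d31_1 D19000 (iv D15951) (iv F68092)
theorem F86072 : act 8 n19000 = n14901 := d40_2 (iv F68094) D19000 (iv D14901)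
theorem F86073 : act 9 n19000 = n15628 := d41_2 (iv F68095) D19000 (iv D15628)
def n19001 : Q := act 5 n14891
theorem D19001 : act 5 n14891 = n19001 := rfl
theorem F86074 : act 0 n19001 = n15948 := d4_1 D19001 (iv D15948) (iv F68096)
theorem F86075 : act 2 n19001 = n14933 := d19_1 D19001 (iv D14933) (iv F68097)
theorem F86076 : act 9 n19001 = n15629 := d38_2 (iv F68100) D19001 (iv D15629)
def n19002 : Q := act 7 n14891
theorem D19002 : act 7 n14891 = n19002 := rfl
theorem F86077 : act 0 n19002 = n15949 := d6_1 D19002 (iv D15949) (iv F68096)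
theorem F86078 : act 2 n19002 = n14934 := d21_1 D19002 (iv D14934) (iv F68097)
theorem F86079 : act 4 n19002 = n14892 := d32_1 D19002 (iv D14892) (iv F68098)
theorem F86080 : act 6 n19002 = n14899 := d39_1 D19002 (iv D14899) (iv D11620) (iv F53771) D14891
theorem F86081 : act 8 n19002 = n14903 := d42_2 (iv F68099) D19002 (iv D14903)
theorem F86082 : act 9 n19002 = n15630 := d43_2 (iv F68100) D19002 (iv D15630)
def n19003 : Q := act 2 n14893
theorem D19003 : act 2 n14893 = n19003 := rfl
theorem F86083 : act 0 n19003 = n15950 := d1_1 D19003 (iv D15950) (iv F68107)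
theorem F86084 : act 3 n19003 = n14935 := d17_2 D14893 D19003 (iv D14935) (iv D11646) (iv F53780)
theorem F86085 : act 4 n19003 = n15946 := d18_2 (iv F68108) D19003 (iv D15946)
theorem F86086 : act 7 n19003 = n15627 := d21_2 (iv F68109) D19003 (iv D15627)
theorem F86087 : act 8 n19003 = n15043 := d22_2 (iv F68110) D19003 (iv D15043)
theorem F86088 : act 9 n19003 = n14896 := d23_2 (iv F68111) D19003 (iv D14896)
def n19004 : Q := act 6 n14893
theorem D19004 : act 6 n14893 = n19004 := rfl
theorem F86089 : act 0 n19004 = n15951 := d5_1 D19004 (iv D15951) (iv F68107)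
theorem F86090 : act 3 n19004 = n14894 := d26_1 D19004 (iv D14894) D14893
theorem F86091 : act 4 n19004 = n15947 := d31_1 D19004 (iv D15947) (iv F68108)
theorem F86092 : act 8 n19004 = n15044 := d40_2 (iv F68110) D19004 (iv D15044)
theorem F86093 : act 9 n19004 = n14897 := d41_2 (iv F68111) D19004 (iv D14897)
def n19005 : Q := act 5 n14894
theorem D19005 : act 5 n14894 = n19005 := rfl
theorem F86094 : act 0 n19005 = n15952 := d4_1 D19005 (iv D15952) (iv F68112)
theorem F86095 : act 2 n19005 = n14937 := d19_1 D19005 (iv D14937) (iv F68113)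
theorem F86096 : act 9 n19005 = n14898 := d38_2 (iv F68116) D19005 (iv D14898)
def n19006 : Q := act 7 n14894
theorem D19006 : act 7 n14894 = n19006 := rfl
theorem F86097 : act 0 n19006 = n15953 := d6_1 D19006 (iv D15953) (iv F68112)
theorem F86098 : act 2 n19006 = n14938 := d21_1 D19006 (iv D14938) (iv F68113)
theorem F86099 : act 4 n19006 = n14895 := d32_1 D19006 (iv D14895) (iv F68114)
theorem F86100 : act 6 n19006 = n15630 := d39_1 D19006 (iv D15630) (iv D12166) (iv F53781) D14894
theorem F86101 : act 8 n19006 = n15046 := d42_2 (iv F68115) D19006 (iv D15046)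
theorem F86102 : act 9 n19006 = n14899 := d43_2 (iv F68116) D19006 (iv D14899)
def n19007 : Q := act 1 n14896
theorem D19007 : act 1 n14896 = n19007 := rfl
theorem F86103 : act 3 n19007 = n14939 := d10_2 (iv F68124) D19007 (iv D14939)
theorem F86104 : act 8 n19007 = n14904 := d15_2 (iv F68125) D19007 (iv D14904)
def n19008 : Q := act 6 n14896
theorem D19008 : act 6 n14896 = n19008 := rfl
theorem F86105 : act 0 n19008 = n15955 := d5_1 D19008 (iv D15955) (iv F68123)
theorem F86106 : act 2 n19008 = n14897 := d20_1 D19008 (iv D14897) D14896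
theorem F86107 : act 3 n19008 = n14940 := d26_1 D19008 (iv D14940) (iv F68124)
theorem F86108 : act 8 n19008 = n14905 := d40_2 (iv F68125) D19008 (iv D14905)
def n19009 : Q := act 5 n14897
theorem D19009 : act 5 n14897 = n19009 := rfl
theorem F86109 : act 0 n19009 = n15956 := d4_1 D19009 (iv D15956) (iv F68126)
theorem F86110 : act 3 n19009 = n14898 := d25_1 D19009 (iv D14898) (iv F68127)
def n19010 : Q := act 7 n14897
theorem D19010 : act 7 n14897 = n19010 := rfl
theorem F86111 : act 0 n19010 = n15957 := d6_1 D19010 (iv D15957) (iv F68126)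
theorem F86112 : act 3 n19010 = n14899 := d27_1 D19010 (iv D14899) (iv F68127)
theorem F86113 : act 8 n19010 = n14907 := d42_2 (iv F68128) D19010 (iv D14907)
def n19011 : Q := act 7 n14898
theorem D19011 : act 7 n14898 = n19011 := rfl
theorem F86114 : act 0 n19011 = n15958 := d6_1 D19011 (iv D15958) (iv F68129)
theorem F86115 : act 2 n19011 = n14943 := d21_1 D19011 (iv D14943) (iv F68130)
theorem F86116 : act 5 n19011 = n14899 := d36_1 D19011 (iv D14899) D14898
def n19012 : Q := act 8 n14898
theorem D19012 : act 8 n14898 = n19012 := rfl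
theorem F86117 : act 0 n19012 = n15959 := d7_1 D19012 (iv D15959) (iv F68129)
theorem F86118 : act 2 n19012 = n14944 := d22_1 D19012 (iv D14944) (iv F68130)
theorem F86119 : act 5 n19012 = n14909 := d37_1 D19012 (iv D14909) (iv D11627) (iv F53794) D14898
def n19013 : Q := act 1 n14900
theorem D19013 : act 1 n14900 = n19013 := rfl
theorem F86120 : act 3 n19013 = n14945 := d10_2 (iv F68136) D19013 (iv D14945)
theorem F86121 : act 4 n19013 = n16157 := d11_2 (iv F68137) D19013 (iv D16157)
theorem F86123 : act 7 n19013 = n14904 := d14_2 (iv F68139) D19013 (iv D14904)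
theorem F86124 : act 9 n19013 = n15053 := d16_2 (iv F68140) D19013 (iv D15053)
def n19014 : Q := act 6 n14900
theorem D19014 : act 6 n14900 = n19014 := rfl
theorem F86126 : act 2 n19014 = n14901 := d20_1 D19014 (iv D14901) D14900
theorem F86127 : act 3 n19014 = n14946 := d26_1 D19014 (iv D14946) (iv F68136)
theorem F86128 : act 4 n19014 = n16158 := d31_1 D19014 (iv D16158) (iv F68137)
theorem F86129 : act 9 n19014 = n15054 := d41_2 (iv F68140) D19014 (iv D15054)
def n19015 : Q := act 5 n14901
theorem D19015 : act 5 n14901 = n19015 := rfl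
theorem F86131 : act 3 n19015 = n14902 := d25_1 D19015 (iv D14902) (iv F68142)
theorem F86132 : act 6 n19015 = n15225 := d35_2 D14901 D19015 (iv D15225) (iv D11858) (iv F53800)
theorem F86133 : act 9 n19015 = n15055 := d38_2 (iv F68144) D19015 (iv D15055)
def n19016 : Q := act 7 n14901
theorem D19016 : act 7 n14901 = n19016 := rfl
theorem F86134 : act 0 n19016 = n15963 := d6_1 D19016 (iv D15963) (iv F68141)
theorem F86135 : act 3 n19016 = n14903 := d27_1 D19016 (iv D14903) (iv F68142)
theorem F86136 : act 4 n19016 = n16160 := d32_1 D19016 (iv D16160) (iv F68143)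
theorem F86137 : act 6 n19016 = n14907 := d39_1 D19016 (iv D14907) (iv D11626) (iv F53801) D14901
theorem F86138 : act 9 n19016 = n15056 := d43_2 (iv F68144) D19016 (iv D15056)
def n19017 : Q := act 7 n14902
theorem D19017 : act 7 n14902 = n19017 := rfl
theorem F86139 : act 0 n19017 = n15964 := d6_1 D19017 (iv D15964) (iv F68145)
theorem F86140 : act 2 n19017 = n14949 := d21_1 D19017 (iv D14949) (iv F68146)
theorem F86141 : act 4 n19017 = n19017 := d32_1 D19017 (iv D19017) F68147
theorem F86142 : act 5 n19017 = n14903 := d36_1 D19017 (iv D14903) D14902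
theorem F86143 : act 9 n19017 = n15057 := d43_2 (iv F68149) D19017 (iv D15057)
def n19018 : Q := act 8 n14902
theorem D19018 : act 8 n14902 = n19018 := rfl
theorem F86144 : act 0 n19018 = n15965 := d7_1 D19018 (iv D15965) (iv F68145)
theorem F86145 : act 2 n19018 = n14950 := d22_1 D19018 (iv D14950) (iv F68146)
theorem F86146 : act 4 n19018 = n19018 := d33_1 D19018 (iv D19018) F68147
theorem F86147 : act 6 n19018 = n15228 := d40_1 D19018 (iv D15228) (iv F68148)
def n19019 : Q := act 0 n14904
theorem D19019 : act 0 n14904 = n19019 := rfl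
theorem F86148 : act 1 n19019 = n15966 := d0_2 D14904 D19019 (iv D15966) (iv D12410) (iv F53813)
theorem F86149 : act 3 n19019 = n14951 := d2_2 (iv F68155) D19019 (iv D14951)
theorem F86151 : act 9 n19019 = n15059 := d8_2 (iv F68157) D19019 (iv D15059)
def n19020 : Q := act 6 n14904
theorem D19020 : act 6 n14904 = n19020 := rfl
theorem F86152 : act 1 n19020 = n14905 := d13_1 D19020 (iv D14905) D14904
theorem F86153 : act 3 n19020 = n14952 := d26_1 D19020 (iv D14952) (iv F68155)
theorem F86154 : act 9 n19020 = n15060 := d41_2 (iv F68157) D19020 (iv D15060)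
def n19021 : Q := act 5 n14905
theorem D19021 : act 5 n14905 = n19021 := rfl
theorem F86155 : act 0 n19021 = n15968 := d4_1 D19021 (iv D15968) (iv F68158)
theorem F86156 : act 2 n19021 = n14906 := d19_1 D19021 (iv D14906) (iv F68159)
theorem F86157 : act 3 n19021 = n14953 := d25_1 D19021 (iv D14953) (iv F68160)
theorem F86158 : act 6 n19021 = n15231 := d35_2 D14905 D19021 (iv D15231) (iv D11862) (iv F53815)
theorem F86159 : act 9 n19021 = n15061 := d38_2 (iv F68161) D19021 (iv D15061)
def n19022 : Q := act 7 n14905
theorem D19022 : act 7 n14905 = n19022 := rfl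
theorem F86160 : act 0 n19022 = n15969 := d6_1 D19022 (iv D15969) (iv F68158)
theorem F86161 : act 2 n19022 = n14907 := d21_1 D19022 (iv D14907) (iv F68159)
theorem F86162 : act 3 n19022 = n14954 := d27_1 D19022 (iv D14954) (iv F68160)
theorem F86163 : act 9 n19022 = n15062 := d43_2 (iv F68161) D19022 (iv D15062)
def n19023 : Q := act 4 n14906
theorem D19023 : act 4 n14906 = n19023 := rfl
theorem F86164 : act 0 n19023 = n15970 := d3_1 D19023 (iv D15970) (iv F68162)
theorem F86165 : act 3 n19023 = n14910 := d24_1 D19023 (iv D14910) F53831 (iv F53822) (iv F68163)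
theorem F86166 : act 6 n19023 = n15233 := d31_2 (iv F68164) D19023 (iv D15233)
theorem F86167 : act 9 n19023 = n15063 := d34_2 (iv F68165) D19023 (iv D15063)
def n19024 : Q := act 7 n14906
theorem D19024 : act 7 n14906 = n19024 := rfl
theorem F86168 : act 0 n19024 = n15971 := d6_1 D19024 (iv D15971) (iv F68162)
theorem F86169 : act 3 n19024 = n14908 := d27_1 D19024 (iv D14908) (iv F68163)
theorem F86170 : act 5 n19024 = n14907 := d36_1 D19024 (iv D14907) D14906
theorem F86171 : act 9 n19024 = n15064 := d43_2 (iv F68165) D19024 (iv D15064)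
def n19025 : Q := act 8 n14906
theorem D19025 : act 8 n14906 = n19025 := rfl
theorem F86172 : act 0 n19025 = n15972 := d7_1 D19025 (iv D15972) (iv F68162)
theorem F86173 : act 3 n19025 = n14909 := d28_1 D19025 (iv D14909) (iv F68163)
theorem F86174 : act 6 n19025 = n15235 := d40_1 D19025 (iv D15235) (iv F68164)
def n19026 : Q := act 6 n14908
theorem D19026 : act 6 n14908 = n19026 := rfl
theorem F86175 : act 0 n19026 = n15973 := d5_1 D19026 (iv D15973) (iv F68169)
theorem F86176 : act 2 n19026 = n14957 := d20_1 D19026 (iv D14957) (iv F68170)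
theorem F86177 : act 4 n19026 = n14913 := d31_1 D19026 (iv D14913) (iv F68171)
theorem F86178 : act 7 n19026 = n15236 := d39_2 D14908 D19026 (iv D15236) (iv D11865) (iv F53823)
theorem F86179 : act 9 n19026 = n15066 := d41_2 (iv F68173) D19026 (iv D15066)
def n19027 : Q := act 8 n14908
theorem D19027 : act 8 n14908 = n19027 := rfl
theorem F86180 : act 0 n19027 = n15974 := d7_1 D19027 (iv D15974) (iv F68169)
theorem F86181 : act 2 n19027 = n14958 := d22_1 D19027 (iv D14958) (iv F68170)
theorem F86182 : act 4 n19027 = n14914 := d33_1 D19027 (iv D14914) (iv F68171)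
theorem F86183 : act 7 n19027 = n14909 := d42_1 D19027 (iv D14909) D14908
def n19028 : Q := act 9 n14909
theorem D19028 : act 9 n14909 = n19028 := rfl
theorem F86184 : act 0 n19028 = n15975 := d8_1 D19028 (iv D15975) (iv F68174)
theorem F86185 : act 2 n19028 = n14959 := d23_1 D19028 (iv D14959) (iv F68175)
theorem F86186 : act 4 n19028 = n14915 := d34_1 D19028 (iv D14915) (iv F68176)
theorem F86187 : act 6 n19028 = n15238 := d41_1 D19028 (iv D15238) (iv F68177)
theorem F86188 : act 8 n19028 = n15068 := d44_1 D19028 (iv D15068) (iv D11741) (iv F53824) D14909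
def n19029 : Q := act 7 n14910
theorem D19029 : act 7 n14910 = n19029 := rfl
theorem F86189 : act 0 n19029 = n15976 := d6_1 D19029 (iv D15976) (iv F68178)
theorem F86190 : act 2 n19029 = n19029 := d21_1 D19029 (iv D19029) F68179
theorem F86191 : act 4 n19029 = n14911 := d32_1 D19029 (iv D14911) D14910
theorem F86192 : act 9 n19029 = n15069 := d43_2 (iv F68181) D19029 (iv D15069)
def n19030 : Q := act 8 n14910
theorem D19030 : act 8 n14910 = n19030 := rfl
theorem F86193 : act 0 n19030 = n15977 := d7_1 D19030 (iv D15977) (iv F68178)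
theorem F86194 : act 2 n19030 = n19030 := d22_1 D19030 (iv D19030) F68179
theorem F86195 : act 4 n19030 = n14912 := d33_1 D19030 (iv D14912) D14910
theorem F86196 : act 6 n19030 = n15240 := d40_1 D19030 (iv D15240) (iv F68180)
def n19031 : Q := act 6 n14911
theorem D19031 : act 6 n14911 = n19031 := rfl
theorem F86197 : act 0 n19031 = n15978 := d5_1 D19031 (iv D15978) (iv F68182)
theorem F86198 : act 2 n19031 = n19031 := d20_1 D19031 (iv D19031) F68183
theorem F86199 : act 3 n19031 = n14913 := d26_1 D19031 (iv D14913) (iv F68184)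
theorem F86200 : act 5 n19031 = n19031 := d35_1 D19031 (iv D19031) F68185 F53837 (iv F68185)
def n19032 : Q := act 8 n14911
theorem D19032 : act 8 n14911 = n19032 := rfl
theorem F86203 : act 0 n19032 = n15979 := d7_1 D19032 (iv D15979) (iv F68182)
theorem F86204 : act 2 n19032 = n19032 := d22_1 D19032 (iv D19032) F68183
theorem F86205 : act 3 n19032 = n14914 := d28_1 D19032 (iv D14914) (iv F68184)
theorem F86206 : act 7 n19032 = n14912 := d42_1 D19032 (iv D14912) D14911
def n19033 : Q := act 9 n14912
theorem D19033 : act 9 n14912 = n19033 := rfl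
theorem F86207 : act 0 n19033 = n15980 := d8_1 D19033 (iv D15980) (iv F68187)
theorem F86208 : act 2 n19033 = n19033 := d23_1 D19033 (iv D19033) F68188
theorem F86209 : act 3 n19033 = n14915 := d29_1 D19033 (iv D14915) (iv F68189)
theorem F86211 : act 8 n19033 = n15073 := d44_1 D19033 (iv D15073) (iv D11744) (iv F53833) D14912
def n19034 : Q := act 8 n14913
theorem D19034 : act 8 n14913 = n19034 := rfl
theorem F86212 : act 0 n19034 = n15981 := d7_1 D19034 (iv D15981) (iv F68191)
theorem F86213 : act 2 n19034 = n14960 := d22_1 D19034 (iv D14960) (iv F68192)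
theorem F86214 : act 6 n19034 = n14914 := d40_1 D19034 (iv D14914) D14913
theorem F86215 : act 7 n19034 = n15244 := d42_1 D19034 (iv D15244) (iv F68194)
def n19035 : Q := act 9 n14914
theorem D19035 : act 9 n14914 = n19035 := rfl
theorem F86216 : act 0 n19035 = n15982 := d8_1 D19035 (iv D15982) (iv F68196)
theorem F86217 : act 2 n19035 = n14961 := d23_1 D19035 (iv D14961) (iv F68197)
theorem F86218 : act 7 n19035 = n14915 := d43_1 D19035 (iv D14915) (iv F68198)
theorem F86219 : act 8 n19035 = n15075 := d44_1 D19035 (iv D15075) (iv D11746) (iv F53842) D14914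
def n19036 : Q := act 3 n14916
theorem D19036 : act 3 n14916 = n19036 := rfl
theorem F86220 : act 0 n19036 = n15983 := d2_1 D19036 (iv D15983) (iv F68203)
theorem F86221 : act 1 n19036 = n19036 := d10_1 D19036 (iv D19036) F68204
theorem F86222 : act 4 n19036 = n19036 := d24_2 D14916 D19036 (iv D19036) (iv D14916) F53848
theorem F86223 : act 5 n19036 = n14928 := d25_2 (iv F68205) D19036 (iv D14928)
theorem F86224 : act 7 n19036 = n16922 := d27_2 (iv F68206) D19036 (iv D16922)
theorem F86226 : act 9 n19036 = n15552 := d29_2 (iv F68208) D19036 (iv D15552)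
def n19037 : Q := act 6 n14916
theorem D19037 : act 6 n14916 = n19037 := rfl
theorem F86227 : act 0 n19037 = n15984 := d5_1 D19037 (iv D15984) (iv F68203)
theorem F86228 : act 1 n19037 = n19037 := d13_1 D19037 (iv D19037) F68204
theorem F86229 : act 4 n19037 = n14917 := d31_1 D19037 (iv D14917) D14916
theorem F86230 : act 8 n19037 = n17222 := d40_2 (iv F68207) D19037 (iv D17222)
theorem F86231 : act 9 n19037 = n15553 := d41_2 (iv F68208) D19037 (iv D15553)
def n19038 : Q := act 7 n14917
theorem D19038 : act 7 n14917 = n19038 := rfl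
theorem F86232 : act 0 n19038 = n15985 := d6_1 D19038 (iv D15985) (iv F68209)
theorem F86233 : act 1 n19038 = n19038 := d14_1 D19038 (iv D19038) F68210
theorem F86234 : act 3 n19038 = n19038 := d27_1 D19038 (iv D19038) F68211
theorem F86235 : act 5 n19038 = n14920 := d36_1 D19038 (iv D14920) (iv F68212)
theorem F86236 : act 6 n19038 = n16924 := d39_1 D19038 (iv D16924) (iv D13138) (iv F53849) D14917
theorem F86237 : act 8 n19038 = n17223 := d42_2 (iv F68213) D19038 (iv D17223)
theorem F86238 : act 9 n19038 = n15554 := d43_2 (iv F68214) D19038 (iv D15554)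
def n19039 : Q := act 2 n14918
theorem D19039 : act 2 n14918 = n19039 := rfl
theorem F86239 : act 0 n19039 = n15986 := d1_1 D19039 (iv D15986) (iv F68215)
theorem F86240 : act 4 n19039 = n19039 := d18_2 F68217 D19039 (iv D19039)
theorem F86241 : act 5 n19039 = n14931 := d19_2 (iv F68218) D19039 (iv D14931)
theorem F86242 : act 7 n19039 = n14924 := d21_2 (iv F68219) D19039 (iv D14924)
theorem F86243 : act 8 n19039 = n15249 := d22_2 (iv F68220) D19039 (iv D15249)
theorem F86244 : act 9 n19039 = n15643 := d23_2 (iv F68221) D19039 (iv D15643)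
def n19040 : Q := act 6 n14918
theorem D19040 : act 6 n14918 = n19040 := rfl
theorem F86245 : act 0 n19040 = n15987 := d5_1 D19040 (iv D15987) (iv F68215)
theorem F86246 : act 1 n19040 = n19040 := d13_1 D19040 (iv D19040) F68216
theorem F86247 : act 3 n19040 = n14919 := d26_1 D19040 (iv D14919) D14918
theorem F86248 : act 4 n19040 = n19040 := d31_1 D19040 (iv D19040) F68217
theorem F86249 : act 8 n19040 = n15250 := d40_2 (iv F68220) D19040 (iv D15250)
theorem F86250 : act 9 n19040 = n15644 := d41_2 (iv F68221) D19040 (iv D15644)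
def n19041 : Q := act 5 n14919
theorem D19041 : act 5 n14919 = n19041 := rfl
theorem F86251 : act 0 n19041 = n15988 := d4_1 D19041 (iv D15988) (iv F68222)
theorem F86252 : act 1 n19041 = n19041 := d12_1 D19041 (iv D19041) F68223
theorem F86253 : act 6 n19041 = n14933 := d35_2 D14919 D19041 (iv D14933) (iv D11644) (iv F53854)
theorem F86254 : act 9 n19041 = n15645 := d38_2 (iv F68226) D19041 (iv D15645)
def n19042 : Q := act 7 n14919
theorem D19042 : act 7 n14919 = n19042 := rfl
theorem F86255 : act 0 n19042 = n15989 := d6_1 D19042 (iv D15989) (iv F68222)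
theorem F86256 : act 1 n19042 = n19042 := d14_1 D19042 (iv D19042) F68223
theorem F86257 : act 4 n19042 = n14920 := d32_1 D19042 (iv D14920) (iv F68224)
theorem F86258 : act 6 n19042 = n14927 := d39_1 D19042 (iv D14927) (iv D11639) (iv F53855) D14919
theorem F86259 : act 8 n19042 = n15252 := d42_2 (iv F68225) D19042 (iv D15252)
theorem F86260 : act 9 n19042 = n15646 := d43_2 (iv F68226) D19042 (iv D15646)
def n19043 : Q := act 2 n14921
theorem D19043 : act 2 n14921 = n19043 := rfl
theorem F86261 : act 0 n19043 = n15990 := d1_1 D19043 (iv D15990) (iv F68233)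
theorem F86262 : act 4 n19043 = n19043 := d18_2 F68235 D19043 (iv D19043)
theorem F86263 : act 5 n19043 = n14935 := d19_2 (iv F68236) D19043 (iv D14935)
theorem F86264 : act 7 n19043 = n15643 := d21_2 (iv F68237) D19043 (iv D15643)
theorem F86265 : act 8 n19043 = n19043 := d22_2 F68238 D19043 (iv D19043)
theorem F86266 : act 9 n19043 = n14924 := d23_2 (iv F68239) D19043 (iv D14924)
def n19044 : Q := act 6 n14921
theorem D19044 : act 6 n14921 = n19044 := rfl
theorem F86267 : act 0 n19044 = n15991 := d5_1 D19044 (iv D15991) (iv F68233)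
theorem F86268 : act 1 n19044 = n19044 := d13_1 D19044 (iv D19044) F68234
theorem F86269 : act 3 n19044 = n14922 := d26_1 D19044 (iv D14922) D14921
theorem F86270 : act 4 n19044 = n19044 := d31_1 D19044 (iv D19044) F68235
theorem F86271 : act 8 n19044 = n19044 := d40_2 F68238 D19044 (iv D19044)
theorem F86272 : act 9 n19044 = n14925 := d41_2 (iv F68239) D19044 (iv D14925)
def n19045 : Q := act 5 n14922
theorem D19045 : act 5 n14922 = n19045 := rfl
theorem F86273 : act 0 n19045 = n15992 := d4_1 D19045 (iv D15992) (iv F68240)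
theorem F86274 : act 1 n19045 = n19045 := d12_1 D19045 (iv D19045) F68241
theorem F86275 : act 6 n19045 = n14937 := d35_2 D14922 D19045 (iv D14937) (iv D11647) (iv F53865)
theorem F86276 : act 9 n19045 = n14926 := d38_2 (iv F68244) D19045 (iv D14926)
def n19046 : Q := act 7 n14922
theorem D19046 : act 7 n14922 = n19046 := rfl
theorem F86277 : act 0 n19046 = n15993 := d6_1 D19046 (iv D15993) (iv F68240)
theorem F86278 : act 1 n19046 = n19046 := d14_1 D19046 (iv D19046) F68241
theorem F86279 : act 4 n19046 = n14923 := d32_1 D19046 (iv D14923) (iv F68242)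
theorem F86280 : act 6 n19046 = n15646 := d39_1 D19046 (iv D15646) (iv D12177) (iv F53866) D14922
theorem F86281 : act 8 n19046 = n19046 := d42_2 F68243 D19046 (iv D19046)
theorem F86282 : act 9 n19046 = n14927 := d43_2 (iv F68244) D19046 (iv D14927)
def n19047 : Q := act 1 n14924
theorem D19047 : act 1 n14924 = n19047 := rfl
theorem F86283 : act 2 n19047 = n19047 := d9_2 D14924 D19047 (iv D19047) (iv D14924) F53875
theorem F86284 : act 4 n19047 = n19047 := d11_2 F68252 D19047 (iv D19047)
theorem F86285 : act 5 n19047 = n14939 := d12_2 (iv F68253) D19047 (iv D14939)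
theorem F86286 : act 8 n19047 = n15253 := d15_2 (iv F68254) D19047 (iv D15253)
def n19048 : Q := act 6 n14924
theorem D19048 : act 6 n14924 = n19048 := rfl
theorem F86287 : act 0 n19048 = n15995 := d5_1 D19048 (iv D15995) (iv F68251)
theorem F86288 : act 2 n19048 = n14925 := d20_1 D19048 (iv D14925) D14924
theorem F86289 : act 4 n19048 = n19048 := d31_1 D19048 (iv D19048) F68252
theorem F86290 : act 8 n19048 = n15254 := d40_2 (iv F68254) D19048 (iv D15254)
def n19049 : Q := act 5 n14925
theorem D19049 : act 5 n14925 = n19049 := rfl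
theorem F86291 : act 0 n19049 = n15996 := d4_1 D19049 (iv D15996) (iv F68255)
theorem F86292 : act 1 n19049 = n19049 := d12_1 D19049 (iv D19049) F68256
theorem F86293 : act 3 n19049 = n14926 := d25_1 D19049 (iv D14926) (iv F68257)
theorem F86294 : act 6 n19049 = n14941 := d35_2 D14925 D19049 (iv D14941) (iv D11650) (iv F53877)
def n19050 : Q := act 7 n14925
theorem D19050 : act 7 n14925 = n19050 := rfl
theorem F86295 : act 0 n19050 = n15997 := d6_1 D19050 (iv D15997) (iv F68255)
theorem F86296 : act 1 n19050 = n19050 := d14_1 D19050 (iv D19050) F68256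
theorem F86297 : act 3 n19050 = n14927 := d27_1 D19050 (iv D14927) (iv F68257)
theorem F86298 : act 4 n19050 = n19050 := d32_1 D19050 (iv D19050) F68258
theorem F86299 : act 8 n19050 = n15256 := d42_2 (iv F68259) D19050 (iv D15256)
def n19051 : Q := act 7 n14926
theorem D19051 : act 7 n14926 = n19051 := rfl
theorem F86300 : act 0 n19051 = n15998 := d6_1 D19051 (iv D15998) (iv F68260)
theorem F86301 : act 1 n19051 = n19051 := d14_1 D19051 (iv D19051) F68261
theorem F86302 : act 5 n19051 = n14927 := d36_1 D19051 (iv D14927) D14926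
def n19052 : Q := act 8 n14926
theorem D19052 : act 8 n14926 = n19052 := rfl
theorem F86303 : act 0 n19052 = n15999 := d7_1 D19052 (iv D15999) (iv F68260)
theorem F86304 : act 1 n19052 = n19052 := d15_1 D19052 (iv D19052) F68261
theorem F86305 : act 5 n19052 = n15258 := d37_1 D19052 (iv D15258) (iv D11880) (iv F53882) D14926
theorem F86306 : act 6 n19052 = n14944 := d40_1 D19052 (iv D14944) (iv F68262)
def n19053 : Q := act 2 n14928
theorem D19053 : act 2 n14928 = n19053 := rfl
theorem F86307 : act 0 n19053 = n16000 := d1_1 D19053 (iv D16000) (iv F68267)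
theorem F86308 : act 4 n19053 = n14962 := d18_2 (iv F68269) D19053 (iv D14962)
theorem F86309 : act 8 n19053 = n19053 := d22_2 F68270 D19053 (iv D19053)
theorem F86310 : act 9 n19053 = n15558 := d23_2 (iv F68271) D19053 (iv D15558)
def n19054 : Q := act 6 n14928
theorem D19054 : act 6 n14928 = n19054 := rfl
theorem F86311 : act 0 n19054 = n16001 := d5_1 D19054 (iv D16001) (iv F68267)
theorem F86312 : act 1 n19054 = n19054 := d13_1 D19054 (iv D19054) F68268
theorem F86313 : act 3 n19054 = n14929 := d26_1 D19054 (iv D14929) D14928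
theorem F86314 : act 4 n19054 = n14963 := d31_1 D19054 (iv D14963) (iv F68269)
theorem F86315 : act 8 n19054 = n19054 := d40_2 F68270 D19054 (iv D19054)
theorem F86316 : act 9 n19054 = n15559 := d41_2 (iv F68271) D19054 (iv D15559)
def n19055 : Q := act 5 n14929
theorem D19055 : act 5 n14929 = n19055 := rfl
theorem F86317 : act 0 n19055 = n16002 := d4_1 D19055 (iv D16002) (iv F68272)
theorem F86318 : act 1 n19055 = n19055 := d12_1 D19055 (iv D19055) F68273
theorem F86319 : act 4 n19055 = n14933 := d30_1 D19055 (iv D14933) F53905 (iv F53894) (iv F68274)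
theorem F86320 : act 9 n19055 = n15560 := d38_2 (iv F68276) D19055 (iv D15560)
def n19056 : Q := act 7 n14929
theorem D19056 : act 7 n14929 = n19056 := rfl
theorem F86321 : act 0 n19056 = n16003 := d6_1 D19056 (iv D16003) (iv F68272)
theorem F86322 : act 1 n19056 = n19056 := d14_1 D19056 (iv D19056) F68273
theorem F86323 : act 4 n19056 = n14930 := d32_1 D19056 (iv D14930) (iv F68274)
theorem F86324 : act 8 n19056 = n19056 := d42_2 F68275 D19056 (iv D19056)
theorem F86325 : act 9 n19056 = n15561 := d43_2 (iv F68276) D19056 (iv D15561)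
def n19057 : Q := act 1 n14931
theorem D19057 : act 1 n14931 = n19057 := rfl
theorem F86326 : act 2 n19057 = n19057 := d9_2 D14931 D19057 (iv D19057) (iv D14931) F53898
theorem F86327 : act 4 n19057 = n14966 := d11_2 (iv F68284) D19057 (iv D14966)
theorem F86328 : act 7 n19057 = n14939 := d14_2 (iv F68285) D19057 (iv D14939)
theorem F86329 : act 8 n19057 = n14945 := d15_2 (iv F68286) D19057 (iv D14945)
theorem F86330 : act 9 n19057 = n15647 := d16_2 (iv F68287) D19057 (iv D15647)
def n19058 : Q := act 6 n14931
theorem D19058 : act 6 n14931 = n19058 := rfl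
theorem F86332 : act 2 n19058 = n14932 := d20_1 D19058 (iv D14932) D14931
theorem F86333 : act 4 n19058 = n14967 := d31_1 D19058 (iv D14967) (iv F68284)
theorem F86334 : act 8 n19058 = n14946 := d40_2 (iv F68286) D19058 (iv D14946)
theorem F86335 : act 9 n19058 = n15648 := d41_2 (iv F68287) D19058 (iv D15648)
def n19059 : Q := act 5 n14932
theorem D19059 : act 5 n14932 = n19059 := rfl
theorem F86336 : act 0 n19059 = n16006 := d4_1 D19059 (iv D16006) (iv F68288)
theorem F86337 : act 1 n19059 = n19059 := d12_1 D19059 (iv D19059) F68289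
theorem F86338 : act 3 n19059 = n14933 := d25_1 D19059 (iv D14933) (iv F68290)
theorem F86339 : act 9 n19059 = n15649 := d38_2 (iv F68293) D19059 (iv D15649)
def n19060 : Q := act 7 n14932
theorem D19060 : act 7 n14932 = n19060 := rfl
theorem F86340 : act 0 n19060 = n16007 := d6_1 D19060 (iv D16007) (iv F68288)
theorem F86341 : act 1 n19060 = n19060 := d14_1 D19060 (iv D19060) F68289
theorem F86342 : act 3 n19060 = n14934 := d27_1 D19060 (iv D14934) (iv F68290)
theorem F86343 : act 4 n19060 = n14969 := d32_1 D19060 (iv D14969) (iv F68291)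
theorem F86344 : act 6 n19060 = n14942 := d39_1 D19060 (iv D14942) (iv D11650) (iv F53900) D14932
theorem F86345 : act 8 n19060 = n14948 := d42_2 (iv F68292) D19060 (iv D14948)
theorem F86346 : act 9 n19060 = n15650 := d43_2 (iv F68293) D19060 (iv D15650)
def n19061 : Q := act 7 n14933
theorem D19061 : act 7 n14933 = n19061 := rfl
theorem F86347 : act 0 n19061 = n16008 := d6_1 D19061 (iv D16008) (iv F68294)
theorem F86348 : act 1 n19061 = n19061 := d14_1 D19061 (iv D19061) F68295
theorem F86349 : act 5 n19061 = n14934 := d36_1 D19061 (iv D14934) D14933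
theorem F86350 : act 9 n19061 = n15651 := d43_2 (iv F68296) D19061 (iv D15651)
def n19062 : Q := act 8 n14933
theorem D19062 : act 8 n14933 = n19062 := rfl
theorem F86351 : act 0 n19062 = n16009 := d7_1 D19062 (iv D16009) (iv F68294)
theorem F86352 : act 1 n19062 = n19062 := d15_1 D19062 (iv D19062) F68295
theorem F86353 : act 5 n19062 = n14950 := d37_1 D19062 (iv D14950) (iv D11655) (iv F53906) D14933
def n19063 : Q := act 1 n14935
theorem D19063 : act 1 n14935 = n19063 := rfl
theorem F86357 : act 8 n19063 = n15076 := d15_2 (iv F68306) D19063 (iv D15076)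
theorem F86358 : act 9 n19063 = n14939 := d16_2 (iv F68307) D19063 (iv D14939)
def n19064 : Q := act 6 n14935
theorem D19064 : act 6 n14935 = n19064 := rfl
theorem F86359 : act 0 n19064 = n16011 := d5_1 D19064 (iv D16011) (iv F68303)
theorem F86360 : act 2 n19064 = n14936 := d20_1 D19064 (iv D14936) D14935
theorem F86361 : act 4 n19064 = n14973 := d31_1 D19064 (iv D14973) (iv F68304)
theorem F86362 : act 8 n19064 = n15077 := d40_2 (iv F68306) D19064 (iv D15077)
theorem F86363 : act 9 n19064 = n14940 := d41_2 (iv F68307) D19064 (iv D14940)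
def n19065 : Q := act 5 n14936
theorem D19065 : act 5 n14936 = n19065 := rfl
theorem F86364 : act 0 n19065 = n16012 := d4_1 D19065 (iv D16012) (iv F68308)
theorem F86365 : act 1 n19065 = n19065 := d12_1 D19065 (iv D19065) F68309
theorem F86366 : act 3 n19065 = n14937 := d25_1 D19065 (iv D14937) (iv F68310)
theorem F86367 : act 9 n19065 = n14941 := d38_2 (iv F68313) D19065 (iv D14941)
def n19066 : Q := act 7 n14936
theorem D19066 : act 7 n14936 = n19066 := rfl
theorem F86368 : act 0 n19066 = n16013 := d6_1 D19066 (iv D16013) (iv F68308)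
theorem F86369 : act 1 n19066 = n19066 := d14_1 D19066 (iv D19066) F68309
theorem F86370 : act 3 n19066 = n14938 := d27_1 D19066 (iv D14938) (iv F68310)
theorem F86371 : act 4 n19066 = n14975 := d32_1 D19066 (iv D14975) (iv F68311)
theorem F86372 : act 6 n19066 = n15650 := d39_1 D19066 (iv D15650) (iv D12180) (iv F53917) D14936
theorem F86373 : act 8 n19066 = n15079 := d42_2 (iv F68312) D19066 (iv D15079)
theorem F86374 : act 9 n19066 = n14942 := d43_2 (iv F68313) D19066 (iv D14942)
def n19067 : Q := act 7 n14937
theorem D19067 : act 7 n14937 = n19067 := rfl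
theorem F86375 : act 0 n19067 = n16014 := d6_1 D19067 (iv D16014) (iv F68314)
theorem F86376 : act 1 n19067 = n19067 := d14_1 D19067 (iv D19067) F68315
theorem F86377 : act 5 n19067 = n14938 := d36_1 D19067 (iv D14938) D14937
theorem F86378 : act 9 n19067 = n14943 := d43_2 (iv F68316) D19067 (iv D14943)
def n19068 : Q := act 8 n14937
theorem D19068 : act 8 n14937 = n19068 := rfl
theorem F86379 : act 0 n19068 = n16015 := d7_1 D19068 (iv D16015) (iv F68314)
theorem F86380 : act 1 n19068 = n19068 := d15_1 D19068 (iv D19068) F68315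
theorem F86381 : act 5 n19068 = n15081 := d37_1 D19068 (iv D15081) (iv D11750) (iv F53923) D14937
def n19069 : Q := act 0 n14939
theorem D19069 : act 0 n14939 = n19069 := rfl
theorem F86382 : act 1 n19069 = n16016 := d0_2 D14939 D19069 (iv D16016) (iv D12445) (iv F53931)
theorem F86383 : act 2 n19069 = n19069 := d1_2 F68323 D19069 (iv D19069)
theorem F86384 : act 4 n19069 = n14978 := d3_2 (iv F68324) D19069 (iv D14978)
theorem F86385 : act 8 n19069 = n14951 := d7_2 (iv F68325) D19069 (iv D14951)
def n19070 : Q := act 6 n14939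
theorem D19070 : act 6 n14939 = n19070 := rfl
theorem F86386 : act 1 n19070 = n14940 := d13_1 D19070 (iv D14940) D14939
theorem F86387 : act 2 n19070 = n19070 := d20_1 D19070 (iv D19070) F68323
theorem F86388 : act 4 n19070 = n14979 := d31_1 D19070 (iv D14979) (iv F68324)
theorem F86389 : act 8 n19070 = n14952 := d40_2 (iv F68325) D19070 (iv D14952)
def n19071 : Q := act 5 n14940
theorem D19071 : act 5 n14940 = n19071 := rfl
theorem F86390 : act 0 n19071 = n16018 := d4_1 D19071 (iv D16018) (iv F68326)
theorem F86391 : act 2 n19071 = n14941 := d19_1 D19071 (iv D14941) (iv F68327)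
def n19072 : Q := act 7 n14940
theorem D19072 : act 7 n14940 = n19072 := rfl
theorem F86392 : act 0 n19072 = n16019 := d6_1 D19072 (iv D16019) (iv F68326)
theorem F86393 : act 2 n19072 = n14942 := d21_1 D19072 (iv D14942) (iv F68327)
theorem F86394 : act 4 n19072 = n14981 := d32_1 D19072 (iv D14981) (iv F68328)
theorem F86395 : act 8 n19072 = n14954 := d42_2 (iv F68329) D19072 (iv D14954)
def n19073 : Q := act 4 n14941
theorem D19073 : act 4 n14941 = n19073 := rfl
theorem F86396 : act 0 n19073 = n16020 := d3_1 D19073 (iv D16020) (iv F68330)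
theorem F86397 : act 1 n19073 = n19073 := d11_1 D19073 (iv D19073) F68331
theorem F86398 : act 5 n19073 = n14982 := d30_2 D14941 D19073 (iv D14982) (iv D11679) (iv F53937)
def n19074 : Q := act 7 n14941
theorem D19074 : act 7 n14941 = n19074 := rfl
theorem F86399 : act 0 n19074 = n16021 := d6_1 D19074 (iv D16021) (iv F68330)
theorem F86400 : act 1 n19074 = n19074 := d14_1 D19074 (iv D19074) F68331
theorem F86401 : act 3 n19074 = n14943 := d27_1 D19074 (iv D14943) (iv F68332)
theorem F86402 : act 5 n19074 = n14942 := d36_1 D19074 (iv D14942) D14941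
def n19075 : Q := act 8 n14941
theorem D19075 : act 8 n14941 = n19075 := rfl
theorem F86403 : act 0 n19075 = n16022 := d7_1 D19075 (iv D16022) (iv F68330)
theorem F86404 : act 1 n19075 = n19075 := d15_1 D19075 (iv D19075) F68331
theorem F86405 : act 3 n19075 = n14944 := d28_1 D19075 (iv D14944) (iv F68332)
theorem F86406 : act 5 n19075 = n14956 := d37_1 D19075 (iv D14956) (iv D11659) (iv F53938) D14941
def n19076 : Q := act 6 n14943
theorem D19076 : act 6 n14943 = n19076 := rfl
theorem F86407 : act 0 n19076 = n16023 := d5_1 D19076 (iv D16023) (iv F68338)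
theorem F86408 : act 1 n19076 = n19076 := d13_1 D19076 (iv D19076) F68339
def n19077 : Q := act 8 n14943
theorem D19077 : act 8 n14943 = n19077 := rfl
theorem F86409 : act 0 n19077 = n16024 := d7_1 D19077 (iv D16024) (iv F68338)
theorem F86410 : act 1 n19077 = n19077 := d15_1 D19077 (iv D19077) F68339
theorem F86411 : act 5 n19077 = n14958 := d37_1 D19077 (iv D14958) F53987 (iv F53944) (iv F68340)
theorem F86412 : act 7 n19077 = n14944 := d42_1 D19077 (iv D14944) D14943
def n19078 : Q := act 9 n14944
theorem D19078 : act 9 n14944 = n19078 := rfl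
theorem F86413 : act 0 n19078 = n16025 := d8_1 D19078 (iv D16025) (iv F68341)
theorem F86414 : act 1 n19078 = n19078 := d16_1 D19078 (iv D19078) F68342
theorem F86415 : act 5 n19078 = n14959 := d38_1 D19078 (iv D14959) (iv F68343)
def n19079 : Q := act 0 n14945
theorem D19079 : act 0 n14945 = n19079 := rfl
theorem F86419 : act 5 n19079 = n15279 := d4_2 (iv F68346) D19079 (iv D15279)
theorem F86420 : act 7 n19079 = n14951 := d6_2 (iv F68347) D19079 (iv D14951)
def n19080 : Q := act 6 n14945
theorem D19080 : act 6 n14945 = n19080 := rfl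
theorem F86425 : act 9 n19080 = n15093 := d41_2 (iv F68348) D19080 (iv D15093)
def n19082 : Q := act 7 n14946
theorem D19082 : act 7 n14946 = n19082 := rfl
theorem F86431 : act 2 n19082 = n14948 := d21_1 D19082 (iv D14948) (iv F68350)
theorem F86432 : act 4 n19082 = n14988 := d32_1 D19082 (iv D14988) (iv F68351)
theorem F86433 : act 6 n19082 = n14954 := d39_1 D19082 (iv D14954) (iv D11658) (iv F53948) D14946
theorem F86434 : act 9 n19082 = n15095 := d43_2 (iv F68352) D19082 (iv D15095)
def n19084 : Q := act 7 n14947
theorem D19084 : act 7 n14947 = n19084 := rfl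
theorem F86444 : act 5 n19084 = n14948 := d36_1 D19084 (iv D14948) D14947
def n19086 : Q := act 6 n14949
theorem D19086 : act 6 n14949 = n19086 := rfl
theorem F86450 : act 0 n19086 = n16033 := d5_1 D19086 (iv D16033) (iv F68364)
theorem F86451 : act 1 n19086 = n19086 := d13_1 D19086 (iv D19086) F68365
theorem F86452 : act 4 n19086 = n19086 := d31_1 D19086 (iv D19086) F68366
theorem F86453 : act 5 n19086 = n14957 := d35_1 D19086 (iv D14957) F53987 (iv F53963) (iv F68367)
theorem F86454 : act 7 n19086 = n15286 := d39_2 D14949 D19086 (iv D15286) (iv D11899) (iv F53958)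
theorem F86455 : act 9 n19086 = n15099 := d41_2 (iv F68368) D19086 (iv D15099)
def n19087 : Q := act 8 n14949
theorem D19087 : act 8 n14949 = n19087 := rfl
theorem F86456 : act 0 n19087 = n16034 := d7_1 D19087 (iv D16034) (iv F68364)
theorem F86457 : act 1 n19087 = n19087 := d15_1 D19087 (iv D19087) F68365
theorem F86458 : act 4 n19087 = n19087 := d33_1 D19087 (iv D19087) F68366
theorem F86459 : act 7 n19087 = n14950 := d42_1 D19087 (iv D14950) D14949
def n19088 : Q := act 9 n14950
theorem D19088 : act 9 n14950 = n19088 := rfl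
theorem F86460 : act 0 n19088 = n16035 := d8_1 D19088 (iv D16035) (iv F68369)
theorem F86461 : act 1 n19088 = n19088 := d16_1 D19088 (iv D19088) F68370
theorem F86462 : act 4 n19088 = n19088 := d34_1 D19088 (iv D19088) F68371
theorem F86463 : act 6 n19088 = n15288 := d41_1 D19088 (iv D15288) (iv F68372)
theorem F86464 : act 8 n19088 = n15101 := d44_1 D19088 (iv D15101) (iv D11763) (iv F53959) D14950
def n19089 : Q := act 6 n14951
theorem D19089 : act 6 n14951 = n19089 := rfl
theorem F86465 : act 0 n19089 = n14952 := d5_1 D19089 (iv D14952) D14951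
theorem F86466 : act 1 n19089 = n16036 := d13_1 D19089 (iv D16036) (iv F68373)
theorem F86467 : act 2 n19089 = n19089 := d20_1 D19089 (iv D19089) F68374
theorem F86468 : act 4 n19089 = n14993 := d31_1 D19089 (iv D14993) (iv F68375)
theorem F86469 : act 9 n19089 = n15102 := d41_2 (iv F68377) D19089 (iv D15102)
def n19090 : Q := act 5 n14952
theorem D19090 : act 5 n14952 = n19090 := rfl
theorem F86470 : act 1 n19090 = n14953 := d12_1 D19090 (iv D14953) (iv F68378)
theorem F86471 : act 2 n19090 = n19090 := d19_1 D19090 (iv D19090) F68379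
theorem F86472 : act 4 n19090 = n19090 := d30_1 D19090 (iv D19090) F68380 F54128 (iv F68380)
theorem F86473 : act 6 n19090 = n15290 := d35_2 D14952 D19090 (iv D15290) (iv D11902) (iv F53967)
theorem F86474 : act 9 n19090 = n15103 := d38_2 (iv F68381) D19090 (iv D15103)
def n19091 : Q := act 7 n14952
theorem D19091 : act 7 n14952 = n19091 := rfl
theorem F86475 : act 1 n19091 = n14954 := d14_1 D19091 (iv D14954) (iv F68378)
theorem F86476 : act 2 n19091 = n19091 := d21_1 D19091 (iv D19091) F68379
theorem F86477 : act 4 n19091 = n14994 := d32_1 D19091 (iv D14994) (iv F68380)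
theorem F86478 : act 9 n19091 = n15104 := d43_2 (iv F68381) D19091 (iv D15104)
def n19092 : Q := act 7 n14953
theorem D19092 : act 7 n14953 = n19092 := rfl
theorem F86479 : act 0 n19092 = n16039 := d6_1 D19092 (iv D16039) (iv F68382)
theorem F86480 : act 2 n19092 = n14955 := d21_1 D19092 (iv D14955) (iv F68383)
theorem F86481 : act 4 n19092 = n19092 := d32_1 D19092 (iv D19092) F68384
theorem F86482 : act 5 n19092 = n14954 := d36_1 D19092 (iv D14954) D14953
theorem F86483 : act 9 n19092 = n15105 := d43_2 (iv F68386) D19092 (iv D15105)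
def n19093 : Q := act 8 n14953
theorem D19093 : act 8 n14953 = n19093 := rfl
theorem F86484 : act 0 n19093 = n16040 := d7_1 D19093 (iv D16040) (iv F68382)
theorem F86485 : act 2 n19093 = n14956 := d22_1 D19093 (iv D14956) (iv F68383)
theorem F86486 : act 4 n19093 = n19093 := d33_1 D19093 (iv D19093) F68384
theorem F86487 : act 6 n19093 = n15293 := d40_1 D19093 (iv D15293) (iv F68385)
def n19094 : Q := act 6 n14955
theorem D19094 : act 6 n14955 = n19094 := rfl
theorem F86488 : act 0 n19094 = n16041 := d5_1 D19094 (iv D16041) (iv F68391)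
theorem F86489 : act 1 n19094 = n19094 := d13_1 D19094 (iv D19094) F68392
theorem F86490 : act 3 n19094 = n14957 := d26_1 D19094 (iv D14957) (iv F68393)
theorem F86491 : act 4 n19094 = n19094 := d31_1 D19094 (iv D19094) F68394
theorem F86492 : act 7 n19094 = n15294 := d39_2 D14955 D19094 (iv D15294) (iv D11905) (iv F53977)
theorem F86493 : act 9 n19094 = n15107 := d41_2 (iv F68396) D19094 (iv D15107)
def n19095 : Q := act 8 n14955
theorem D19095 : act 8 n14955 = n19095 := rfl
theorem F86494 : act 0 n19095 = n16042 := d7_1 D19095 (iv D16042) (iv F68391)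
theorem F86495 : act 1 n19095 = n19095 := d15_1 D19095 (iv D19095) F68392
theorem F86496 : act 3 n19095 = n14958 := d28_1 D19095 (iv D14958) (iv F68393)
theorem F86497 : act 4 n19095 = n19095 := d33_1 D19095 (iv D19095) F68394
theorem F86498 : act 7 n19095 = n14956 := d42_1 D19095 (iv D14956) D14955
def n19096 : Q := act 9 n14956
theorem D19096 : act 9 n14956 = n19096 := rfl
theorem F86499 : act 0 n19096 = n16043 := d8_1 D19096 (iv D16043) (iv F68397)
theorem F86500 : act 1 n19096 = n19096 := d16_1 D19096 (iv D19096) F68398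
theorem F86501 : act 3 n19096 = n14959 := d29_1 D19096 (iv D14959) (iv F68399)
theorem F86502 : act 4 n19096 = n19096 := d34_1 D19096 (iv D19096) F68400
theorem F86503 : act 6 n19096 = n15296 := d41_1 D19096 (iv D15296) (iv F68401)
theorem F86504 : act 8 n19096 = n15109 := d44_1 D19096 (iv D15109) (iv D11769) (iv F53978) D14956
def n19097 : Q := act 8 n14957
theorem D19097 : act 8 n14957 = n19097 := rfl
theorem F86505 : act 0 n19097 = n16044 := d7_1 D19097 (iv D16044) (iv F68402)
theorem F86506 : act 1 n19097 = n19097 := d15_1 D19097 (iv D19097) F68403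
theorem F86507 : act 4 n19097 = n14960 := d33_1 D19097 (iv D14960) (iv F68404)
theorem F86508 : act 6 n19097 = n14958 := d40_1 D19097 (iv D14958) D14957
theorem F86509 : act 7 n19097 = n15297 := d42_1 D19097 (iv D15297) (iv F68405)
def n19098 : Q := act 9 n14958
theorem D19098 : act 9 n14958 = n19098 := rfl
theorem F86510 : act 0 n19098 = n16045 := d8_1 D19098 (iv D16045) (iv F68407)
theorem F86511 : act 1 n19098 = n19098 := d16_1 D19098 (iv D19098) F68408
theorem F86512 : act 4 n19098 = n14961 := d34_1 D19098 (iv D14961) (iv F68409)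
theorem F86513 : act 7 n19098 = n14959 := d43_1 D19098 (iv D14959) (iv F68410)
theorem F86514 : act 8 n19098 = n15111 := d44_1 D19098 (iv D15111) (iv D11771) (iv F53988) D14958
def n19099 : Q := act 5 n14960
theorem D19099 : act 5 n14960 = n19099 := rfl
theorem F86515 : act 0 n19099 = n16046 := d4_1 D19099 (iv D16046) (iv F68416)
theorem F86516 : act 1 n19099 = n19099 := d12_1 D19099 (iv D19099) F68417
theorem F86517 : act 3 n19099 = n19099 := d25_1 D19099 (iv D19099) F68418
theorem F86518 : act 7 n19099 = n15299 := d36_2 (iv F68420) D19099 (iv D15299)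
theorem F86519 : act 8 n19099 = n19099 := d37_2 D14960 D19099 (iv D19099) (iv D14960) F53996
def n19100 : Q := act 9 n14960
theorem D19100 : act 9 n14960 = n19100 := rfl
theorem F86520 : act 0 n19100 = n16047 := d8_1 D19100 (iv D16047) (iv F68416)
theorem F86521 : act 1 n19100 = n19100 := d16_1 D19100 (iv D19100) F68417
theorem F86522 : act 3 n19100 = n19100 := d29_1 D19100 (iv D19100) F68418
theorem F86523 : act 6 n19100 = n14961 := d41_1 D19100 (iv D14961) (iv F68419)
theorem F86524 : act 7 n19100 = n15300 := d43_1 D19100 (iv D15300) (iv F68420)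
theorem F86525 : act 8 n19100 = n15113 := d44_1 D19100 (iv D15113) (iv D11773) (iv F53998) D14960
def n19101 : Q := act 1 n14962
theorem D19101 : act 1 n14962 = n19101 := rfl
theorem F86526 : act 2 n19101 = n19101 := d9_2 D14962 D19101 (iv D19101) (iv D14962) F54009
theorem F86527 : act 3 n19101 = n15851 := d10_2 (iv F68427) D19101 (iv D15851)
theorem F86528 : act 5 n19101 = n19101 := d12_2 F68428 D19101 (iv D19101)
theorem F86529 : act 8 n19101 = n19101 := d15_2 F68429 D19101 (iv D19101)
theorem F86530 : act 9 n19101 = n15579 := d16_2 (iv F68430) D19101 (iv D15579)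
def n19102 : Q := act 6 n14962
theorem D19102 : act 6 n14962 = n19102 := rfl
theorem F86531 : act 0 n19102 = n16049 := d5_1 D19102 (iv D16049) (iv F68426)
theorem F86532 : act 2 n19102 = n14963 := d20_1 D19102 (iv D14963) D14962
theorem F86533 : act 3 n19102 = n15852 := d26_1 D19102 (iv D15852) (iv F68427)
theorem F86534 : act 8 n19102 = n19102 := d40_2 F68429 D19102 (iv D19102)
theorem F86535 : act 9 n19102 = n15580 := d41_2 (iv F68430) D19102 (iv D15580)
def n19103 : Q := act 5 n14963
theorem D19103 : act 5 n14963 = n19103 := rfl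
theorem F86536 : act 0 n19103 = n16050 := d4_1 D19103 (iv D16050) (iv F68431)
theorem F86537 : act 1 n19103 = n19103 := d12_1 D19103 (iv D19103) F68432
theorem F86538 : act 3 n19103 = n14964 := d25_1 D19103 (iv D14964) (iv F68433)
theorem F86539 : act 6 n19103 = n19103 := d35_2 D14963 D19103 (iv D19103) (iv D14963) F54010
theorem F86540 : act 9 n19103 = n15581 := d38_2 (iv F68435) D19103 (iv D15581)
def n19104 : Q := act 7 n14963
theorem D19104 : act 7 n14963 = n19104 := rfl
theorem F86541 : act 0 n19104 = n16051 := d6_1 D19104 (iv D16051) (iv F68431)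
theorem F86542 : act 1 n19104 = n19104 := d14_1 D19104 (iv D19104) F68432
theorem F86543 : act 3 n19104 = n14965 := d27_1 D19104 (iv D14965) (iv F68433)
theorem F86544 : act 8 n19104 = n19104 := d42_2 F68434 D19104 (iv D19104)
theorem F86545 : act 9 n19104 = n15582 := d43_2 (iv F68435) D19104 (iv D15582)
def n19105 : Q := act 7 n14964
theorem D19105 : act 7 n14964 = n19105 := rfl
theorem F86546 : act 0 n19105 = n16052 := d6_1 D19105 (iv D16052) (iv F68436)
theorem F86547 : act 1 n19105 = n19105 := d14_1 D19105 (iv D19105) F68437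
theorem F86548 : act 2 n19105 = n15855 := d21_1 D19105 (iv D15855) (iv F68438)
theorem F86549 : act 4 n19105 = n14970 := d32_1 D19105 (iv D14970) (iv F68439)
theorem F86550 : act 5 n19105 = n14965 := d36_1 D19105 (iv D14965) D14964
theorem F86551 : act 9 n19105 = n15583 := d43_2 (iv F68441) D19105 (iv D15583)
def n19106 : Q := act 8 n14964
theorem D19106 : act 8 n14964 = n19106 := rfl
theorem F86552 : act 0 n19106 = n16053 := d7_1 D19106 (iv D16053) (iv F68436)
theorem F86553 : act 1 n19106 = n19106 := d15_1 D19106 (iv D19106) F68437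
theorem F86554 : act 2 n19106 = n15856 := d22_1 D19106 (iv D15856) (iv F68438)
theorem F86555 : act 4 n19106 = n14971 := d33_1 D19106 (iv D14971) (iv F68439)
theorem F86556 : act 5 n19106 = n19106 := d37_1 D19106 (iv D19106) (iv D14964) F54017 D14964
theorem F86557 : act 6 n19106 = n19106 := d40_1 D19106 (iv D19106) F68440
theorem F86558 : act 9 n19106 = n19106 := d44_2 (iv F68441) D19106 (iv D19106) F68441 F56212
def n19107 : Q := act 0 n14966
theorem D19107 : act 0 n14966 = n19107 := rfl
theorem F86563 : act 7 n19107 = n14978 := d6_2 (iv F68451) D19107 (iv D14978)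
theorem F86564 : act 8 n19107 = n14985 := d7_2 (iv F68452) D19107 (iv D14985)
theorem F86565 : act 9 n19107 = n15664 := d8_2 (iv F68453) D19107 (iv D15664)
def n19108 : Q := act 6 n14966
theorem D19108 : act 6 n14966 = n19108 := rfl
theorem F86568 : act 3 n19108 = n16064 := d26_1 D19108 (iv D16064) (iv F68449)
theorem F86569 : act 8 n19108 = n14986 := d40_2 (iv F68452) D19108 (iv D14986)
theorem F86570 : act 9 n19108 = n15665 := d41_2 (iv F68453) D19108 (iv D15665)
def n19109 : Q := act 5 n14967
theorem D19109 : act 5 n14967 = n19109 := rfl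
theorem F86572 : act 2 n19109 = n14968 := d19_1 D19109 (iv D14968) (iv F68455)
theorem F86573 : act 3 n19109 = n16065 := d25_1 D19109 (iv D16065) (iv F68456)
theorem F86574 : act 6 n19109 = n19109 := d35_2 D14967 D19109 (iv D19109) (iv D14967) F54027
theorem F86575 : act 9 n19109 = n15666 := d38_2 (iv F68458) D19109 (iv D15666)
def n19110 : Q := act 7 n14967
theorem D19110 : act 7 n14967 = n19110 := rfl
theorem F86577 : act 2 n19110 = n14969 := d21_1 D19110 (iv D14969) (iv F68455)
theorem F86578 : act 3 n19110 = n16066 := d27_1 D19110 (iv D16066) (iv F68456)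
theorem F86579 : act 6 n19110 = n14981 := d39_1 D19110 (iv D14981) (iv D11678) (iv F54028) D14967
theorem F86580 : act 8 n19110 = n14988 := d42_2 (iv F68457) D19110 (iv D14988)
theorem F86581 : act 9 n19110 = n15667 := d43_2 (iv F68458) D19110 (iv D15667)
def n19111 : Q := act 4 n14968
theorem D19111 : act 4 n14968 = n19111 := rfl
theorem F86582 : act 0 n19111 = n16058 := d3_1 D19111 (iv D16058) (iv F68459)
theorem F86583 : act 1 n19111 = n19111 := d11_1 D19111 (iv D19111) F68460
theorem F86584 : act 6 n19111 = n19111 := d31_2 F68462 D19111 (iv D19111)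
theorem F86585 : act 9 n19111 = n15668 := d34_2 (iv F68463) D19111 (iv D15668)
def n19112 : Q := act 7 n14968
theorem D19112 : act 7 n14968 = n19112 := rfl
theorem F86586 : act 0 n19112 = n16059 := d6_1 D19112 (iv D16059) (iv F68459)
theorem F86587 : act 1 n19112 = n19112 := d14_1 D19112 (iv D19112) F68460
theorem F86588 : act 3 n19112 = n14970 := d27_1 D19112 (iv D14970) (iv F68461)
theorem F86589 : act 5 n19112 = n14969 := d36_1 D19112 (iv D14969) D14968
theorem F86590 : act 9 n19112 = n15669 := d43_2 (iv F68463) D19112 (iv D15669)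
def n19114 : Q := act 6 n14970
theorem D19114 : act 6 n14970 = n19114 := rfl
theorem F86597 : act 0 n19114 = n16061 := d5_1 D19114 (iv D16061) (iv F68470)
theorem F86598 : act 1 n19114 = n19114 := d13_1 D19114 (iv D19114) F68471
theorem F86599 : act 2 n19114 = n16070 := d20_1 D19114 (iv D16070) (iv F68472)
theorem F86600 : act 5 n19114 = n14984 := d35_1 D19114 (iv D14984) F54088 (iv F54045) (iv F68473)
theorem F86601 : act 7 n19114 = n19114 := d39_2 D14970 D19114 (iv D19114) (iv D14970) F54039
theorem F86602 : act 9 n19114 = n15670 := d41_2 (iv F68474) D19114 (iv D15670)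
def n19115 : Q := act 8 n14970
theorem D19115 : act 8 n14970 = n19115 := rfl
theorem F86603 : act 0 n19115 = n16062 := d7_1 D19115 (iv D16062) (iv F68470)
theorem F86604 : act 1 n19115 = n19115 := d15_1 D19115 (iv D19115) F68471
theorem F86605 : act 2 n19115 = n16071 := d22_1 D19115 (iv D16071) (iv F68472)
theorem F86606 : act 5 n19115 = n14992 := d37_1 D19115 (iv D14992) F54113 (iv F54046) (iv F68473)
theorem F86607 : act 7 n19115 = n14971 := d42_1 D19115 (iv D14971) D14970
theorem F86608 : act 9 n19115 = n19115 := d44_2 (iv F68474) D19115 (iv D19115) F68474 F56455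
def n19116 : Q := act 0 n14972
theorem D19116 : act 0 n14972 = n19116 := rfl
theorem F86613 : act 7 n19116 = n15664 := d6_2 (iv F68484) D19116 (iv D15664)
theorem F86614 : act 8 n19116 = n15114 := d7_2 (iv F68485) D19116 (iv D15114)
theorem F86615 : act 9 n19116 = n14978 := d8_2 (iv F68486) D19116 (iv D14978)
def n19117 : Q := act 6 n14972
theorem D19117 : act 6 n14972 = n19117 := rfl
theorem F86619 : act 8 n19117 = n15115 := d40_2 (iv F68485) D19117 (iv D15115)
theorem F86620 : act 9 n19117 = n14979 := d41_2 (iv F68486) D19117 (iv D14979)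
def n19118 : Q := act 5 n14973
theorem D19118 : act 5 n14973 = n19118 := rfl
theorem F86621 : act 0 n19118 = n16065 := d4_1 D19118 (iv D16065) (iv F68487)
theorem F86622 : act 2 n19118 = n14974 := d19_1 D19118 (iv D14974) (iv F68488)
theorem F86624 : act 6 n19118 = n19118 := d35_2 D14973 D19118 (iv D19118) (iv D14973) F54050
theorem F86625 : act 9 n19118 = n14980 := d38_2 (iv F68491) D19118 (iv D14980)
def n19119 : Q := act 7 n14973
theorem D19119 : act 7 n14973 = n19119 := rfl
theorem F86626 : act 0 n19119 = n16066 := d6_1 D19119 (iv D16066) (iv F68487)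
theorem F86627 : act 2 n19119 = n14975 := d21_1 D19119 (iv D14975) (iv F68488)
theorem F86629 : act 6 n19119 = n15667 := d39_1 D19119 (iv D15667) (iv D12193) (iv F54051) D14973
theorem F86630 : act 8 n19119 = n15117 := d42_2 (iv F68490) D19119 (iv D15117)
theorem F86631 : act 9 n19119 = n14981 := d43_2 (iv F68491) D19119 (iv D14981)
def n19120 : Q := act 4 n14974
theorem D19120 : act 4 n14974 = n19120 := rfl
theorem F86632 : act 0 n19120 = n16067 := d3_1 D19120 (iv D16067) (iv F68492)
theorem F86633 : act 1 n19120 = n19120 := d11_1 D19120 (iv D19120) F68493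
theorem F86634 : act 6 n19120 = n19120 := d31_2 F68495 D19120 (iv D19120)
theorem F86635 : act 9 n19120 = n14982 := d34_2 (iv F68496) D19120 (iv D14982)
def n19121 : Q := act 7 n14974
theorem D19121 : act 7 n14974 = n19121 := rfl
theorem F86636 : act 0 n19121 = n16068 := d6_1 D19121 (iv D16068) (iv F68492)
theorem F86637 : act 1 n19121 = n19121 := d14_1 D19121 (iv D19121) F68493
theorem F86638 : act 3 n19121 = n14976 := d27_1 D19121 (iv D14976) (iv F68494)
theorem F86639 : act 5 n19121 = n14975 := d36_1 D19121 (iv D14975) D14974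
theorem F86640 : act 9 n19121 = n14983 := d43_2 (iv F68496) D19121 (iv D14983)
def n19122 : Q := act 8 n14974
theorem D19122 : act 8 n14974 = n19122 := rfl
theorem F86641 : act 0 n19122 = n16069 := d7_1 D19122 (iv D16069) (iv F68492)
theorem F86642 : act 1 n19122 = n19122 := d15_1 D19122 (iv D19122) F68493
theorem F86643 : act 3 n19122 = n14977 := d28_1 D19122 (iv D14977) (iv F68494)
theorem F86644 : act 5 n19122 = n15120 := d37_1 D19122 (iv D15120) (iv D11777) (iv F54057) D14974
theorem F86645 : act 6 n19122 = n19122 := d40_1 D19122 (iv D19122) F68495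
theorem F86646 : act 9 n19122 = n19122 := d44_2 (iv F68496) D19122 (iv D19122) F68496 F54081
def n19123 : Q := act 6 n14976
theorem D19123 : act 6 n14976 = n19123 := rfl
theorem F86647 : act 0 n19123 = n16070 := d5_1 D19123 (iv D16070) (iv F68503)
theorem F86648 : act 1 n19123 = n19123 := d13_1 D19123 (iv D19123) F68504
theorem F86649 : act 2 n19123 = n16061 := d20_1 D19123 (iv D16061) (iv F68505)
theorem F86650 : act 5 n19123 = n15670 := d35_1 D19123 (iv D15670) F56454 (iv F54068) (iv F68506)
theorem F86651 : act 7 n19123 = n19123 := d39_2 D14976 D19123 (iv D19123) (iv D14976) F54062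
theorem F86652 : act 9 n19123 = n14984 := d41_2 (iv F68507) D19123 (iv D14984)
def n19124 : Q := act 8 n14976
theorem D19124 : act 8 n14976 = n19124 := rfl
theorem F86653 : act 0 n19124 = n16071 := d7_1 D19124 (iv D16071) (iv F68503)
theorem F86654 : act 1 n19124 = n19124 := d15_1 D19124 (iv D19124) F68504
theorem F86655 : act 2 n19124 = n16062 := d22_1 D19124 (iv D16062) (iv F68505)
theorem F86656 : act 5 n19124 = n15121 := d37_1 D19124 (iv D15121) F54534 (iv F54069) (iv F68506)
theorem F86657 : act 7 n19124 = n14977 := d42_1 D19124 (iv D14977) D14976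
theorem F86658 : act 9 n19124 = n19124 := d44_2 (iv F68507) D19124 (iv D19124) F68507 F54089
def n19125 : Q := act 6 n14978
theorem D19125 : act 6 n14978 = n19125 := rfl
theorem F86659 : act 0 n19125 = n14979 := d5_1 D19125 (iv D14979) D14978
theorem F86662 : act 8 n19125 = n14993 := d40_2 (iv F68517) D19125 (iv D14993)
def n19126 : Q := act 5 n14979
theorem D19126 : act 5 n14979 = n19126 := rfl
theorem F86663 : act 1 n19126 = n14980 := d12_1 D19126 (iv D14980) (iv F68518)
theorem F86664 : act 2 n19126 = n19126 := d19_1 D19126 (iv D19126) F68519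
theorem F86665 : act 6 n19126 = n19126 := d35_2 D14979 D19126 (iv D19126) (iv D14979) F54072
theorem F86666 : act 8 n19126 = n19126 := d37_2 (iv F68520) D19126 (iv D19126) F68520 F54128
def n19127 : Q := act 7 n14979
theorem D19127 : act 7 n14979 = n19127 := rfl
theorem F86667 : act 1 n19127 = n14981 := d14_1 D19127 (iv D14981) (iv F68518)
theorem F86668 : act 2 n19127 = n19127 := d21_1 D19127 (iv D19127) F68519
theorem F86669 : act 8 n19127 = n14994 := d42_2 (iv F68520) D19127 (iv D14994)
def n19128 : Q := act 4 n14980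
theorem D19128 : act 4 n14980 = n19128 := rfl
theorem F86670 : act 0 n19128 = n16075 := d3_1 D19128 (iv D16075) (iv F68521)
theorem F86671 : act 2 n19128 = n14982 := d18_1 D19128 (iv D14982) (iv F68522)
theorem F86672 : act 6 n19128 = n19128 := d31_2 F68523 D19128 (iv D19128)
theorem F86673 : act 8 n19128 = n19128 := d33_2 F68524 D19128 (iv D19128)
def n19129 : Q := act 7 n14980
theorem D19129 : act 7 n14980 = n19129 := rfl
theorem F86674 : act 0 n19129 = n16076 := d6_1 D19129 (iv D16076) (iv F68521)
theorem F86675 : act 2 n19129 = n14983 := d21_1 D19129 (iv D14983) (iv F68522)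
theorem F86676 : act 5 n19129 = n14981 := d36_1 D19129 (iv D14981) D14980
theorem F86677 : act 8 n19129 = n19129 := d42_2 F68524 D19129 (iv D19129)
def n19130 : Q := act 7 n14982
theorem D19130 : act 7 n14982 = n19130 := rfl
theorem F86678 : act 0 n19130 = n16077 := d6_1 D19130 (iv D16077) (iv F68528)
theorem F86679 : act 1 n19130 = n19130 := d14_1 D19130 (iv D19130) F68529
theorem F86680 : act 4 n19130 = n14983 := d32_1 D19130 (iv D14983) D14982
theorem F86681 : act 8 n19130 = n19130 := d42_2 F68531 D19130 (iv D19130)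
def n19131 : Q := act 6 n14983
theorem D19131 : act 6 n14983 = n19131 := rfl
theorem F86682 : act 0 n19131 = n16078 := d5_1 D19131 (iv D16078) (iv F68532)
theorem F86683 : act 1 n19131 = n19131 := d13_1 D19131 (iv D19131) F68533
theorem F86684 : act 3 n19131 = n14984 := d26_1 D19131 (iv D14984) (iv F68534)
theorem F86685 : act 7 n19131 = n19131 := d39_2 D14983 D19131 (iv D19131) (iv D14983) F54080
theorem F86686 : act 8 n19131 = n19131 := d40_2 F68536 D19131 (iv D19131)
def n19132 : Q := act 6 n14985
theorem D19132 : act 6 n14985 = n19132 := rfl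
theorem F86691 : act 9 n19132 = n15128 := d41_2 (iv F68546) D19132 (iv D15128)
def n19133 : Q := act 5 n14986
theorem D19133 : act 5 n14986 = n19133 := rfl
theorem F86696 : act 9 n19133 = n15129 := d38_2 (iv F68550) D19133 (iv D15129)
def n19134 : Q := act 7 n14986
theorem D19134 : act 7 n14986 = n19134 := rfl
theorem F86700 : act 6 n19134 = n14994 := d39_1 D19134 (iv D14994) (iv D11689) (iv F54093) D14986
theorem F86701 : act 9 n19134 = n15130 := d43_2 (iv F68550) D19134 (iv D15130)
def n19141 : Q := act 7 n14993
theorem D19141 : act 7 n14993 = n19141 := rfl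
theorem F86735 : act 0 n19141 = n14994 := d6_1 D19141 (iv D14994) (iv F68584)
theorem F86739 : act 9 n19141 = n15134 := d43_2 (iv F68588) D19141 (iv D15134)
def n19143 : Q := act 4 n14996
theorem D19143 : act 4 n14996 = n19143 := rfl
theorem F86748 : act 5 n19143 = n15337 := d30_2 D14996 D19143 (iv D15337) (iv D11941) (iv F54144)
def n19145 : Q := act 3 n14997
theorem D19145 : act 3 n14997 = n19145 := rfl
theorem F86759 : act 4 n19145 = n16277 := d24_2 D14997 D19145 (iv D16277) (iv D12646) (iv F54150)
theorem F86760 : act 5 n19145 = n15339 := d25_2 (iv F68608) D19145 (iv D15339)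
def n19148 : Q := act 3 n15000
theorem D19148 : act 3 n15000 = n19148 := rfl
theorem F86775 : act 0 n19148 = n15018 := d2_1 D19148 (iv D15018) (iv F68623)
theorem F86776 : act 1 n19148 = n16095 := d10_1 D19148 (iv D16095) (iv F68624)
theorem F86777 : act 4 n19148 = n15884 := d24_2 D15000 D19148 (iv D15884) (iv D12354) (iv F54168)
theorem F86778 : act 5 n19148 = n19148 := d25_2 F68626 D19148 (iv D19148)
theorem F86779 : act 7 n19148 = n15601 := d27_2 (iv F68627) D19148 (iv D15601)
theorem F86780 : act 9 n19148 = n15002 := d29_2 (iv F68628) D19148 (iv D15002)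
def n19149 : Q := act 6 n15000
theorem D19149 : act 6 n15000 = n19149 := rfl
theorem F86781 : act 0 n19149 = n15019 := d5_1 D19149 (iv D15019) (iv F68623)
theorem F86782 : act 1 n19149 = n16096 := d13_1 D19149 (iv D16096) (iv F68624)
theorem F86783 : act 2 n19149 = n19149 := d20_1 D19149 (iv D19149) F68625
theorem F86784 : act 4 n19149 = n15001 := d31_1 D19149 (iv D15001) D15000
theorem F86785 : act 9 n19149 = n15003 := d41_2 (iv F68628) D19149 (iv D15003)
def n19150 : Q := act 7 n15001
theorem D19150 : act 7 n15001 = n19150 := rfl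
theorem F86786 : act 0 n19150 = n15020 := d6_1 D19150 (iv D15020) (iv F68629)
theorem F86787 : act 1 n19150 = n16097 := d14_1 D19150 (iv D16097) (iv F68630)
theorem F86788 : act 2 n19150 = n19150 := d21_1 D19150 (iv D19150) F68631
theorem F86789 : act 3 n19150 = n15886 := d27_1 D19150 (iv D15886) (iv F68632)
theorem F86790 : act 5 n19150 = n19150 := d36_1 D19150 (iv D19150) F68633
theorem F86791 : act 6 n19150 = n15603 := d39_1 D19150 (iv D15603) (iv D12148) (iv F54169) D15001
theorem F86792 : act 9 n19150 = n15004 := d43_2 (iv F68634) D19150 (iv D15004)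
def n19151 : Q := act 2 n15002
theorem D19151 : act 2 n15002 = n19151 := rfl
theorem F86793 : act 0 n19151 = n15021 := d1_1 D19151 (iv D15021) (iv F68635)
theorem F86794 : act 3 n19151 = n19151 := d17_2 D15002 D19151 (iv D19151) (iv D15002) F54173
theorem F86795 : act 4 n19151 = n16102 := d18_2 (iv F68637) D19151 (iv D16102)
theorem F86796 : act 5 n19151 = n19151 := d19_2 F68638 D19151 (iv D19151)
theorem F86797 : act 7 n19151 = n15673 := d21_2 (iv F68639) D19151 (iv D15673)
theorem F86798 : act 8 n19151 = n15008 := d22_2 (iv F68640) D19151 (iv D15008)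
def n19152 : Q := act 6 n15002
theorem D19152 : act 6 n15002 = n19152 := rfl
theorem F86799 : act 0 n19152 = n15022 := d5_1 D19152 (iv D15022) (iv F68635)
theorem F86800 : act 1 n19152 = n16099 := d13_1 D19152 (iv D16099) (iv F68636)
theorem F86801 : act 3 n19152 = n15003 := d26_1 D19152 (iv D15003) D15002
theorem F86802 : act 4 n19152 = n16103 := d31_1 D19152 (iv D16103) (iv F68637)
theorem F86803 : act 8 n19152 = n15009 := d40_2 (iv F68640) D19152 (iv D15009)
def n19153 : Q := act 5 n15003
theorem D19153 : act 5 n15003 = n19153 := rfl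
theorem F86804 : act 0 n19153 = n15023 := d4_1 D19153 (iv D15023) (iv F68641)
theorem F86806 : act 2 n19153 = n19153 := d19_1 D19153 (iv D19153) F68643
theorem F86807 : act 4 n19153 = n19153 := d30_1 D19153 (iv D19153) F68644 F54181 (iv F68644)
theorem F86808 : act 6 n19153 = n19153 := d35_2 D15003 D19153 (iv D19153) (iv D15003) F54174
def n19154 : Q := act 7 n15003
theorem D19154 : act 7 n15003 = n19154 := rfl
theorem F86809 : act 0 n19154 = n15024 := d6_1 D19154 (iv D15024) (iv F68641)
theorem F86810 : act 1 n19154 = n16101 := d14_1 D19154 (iv D16101) (iv F68642)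
theorem F86811 : act 2 n19154 = n19154 := d21_1 D19154 (iv D19154) F68643
theorem F86812 : act 4 n19154 = n15004 := d32_1 D19154 (iv D15004) (iv F68644)
theorem F86813 : act 6 n19154 = n15676 := d39_1 D19154 (iv D15676) (iv D12201) (iv F54175) D15003
theorem F86814 : act 8 n19154 = n15011 := d42_2 (iv F68645) D19154 (iv D15011)
def n19155 : Q := act 2 n15005
theorem D19155 : act 2 n15005 = n19155 := rfl
theorem F86815 : act 0 n19155 = n15025 := d1_1 D19155 (iv D15025) (iv F68653)
theorem F86816 : act 3 n19155 = n19155 := d17_2 D15005 D19155 (iv D19155) (iv D15005) F54185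
theorem F86817 : act 4 n19155 = n16098 := d18_2 (iv F68655) D19155 (iv D16098)
theorem F86818 : act 5 n19155 = n15344 := d19_2 (iv F68656) D19155 (iv D15344)
theorem F86819 : act 7 n19155 = n15008 := d21_2 (iv F68657) D19155 (iv D15008)
theorem F86820 : act 8 n19155 = n15673 := d22_2 (iv F68658) D19155 (iv D15673)
def n19156 : Q := act 6 n15005
theorem D19156 : act 6 n15005 = n19156 := rfl
theorem F86821 : act 0 n19156 = n15026 := d5_1 D19156 (iv D15026) (iv F68653)
theorem F86822 : act 1 n19156 = n16103 := d13_1 D19156 (iv D16103) (iv F68654)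
theorem F86823 : act 3 n19156 = n15006 := d26_1 D19156 (iv D15006) D15005
theorem F86824 : act 4 n19156 = n16099 := d31_1 D19156 (iv D16099) (iv F68655)
theorem F86825 : act 8 n19156 = n15674 := d40_2 (iv F68658) D19156 (iv D15674)
def n19157 : Q := act 5 n15006
theorem D19157 : act 5 n15006 = n19157 := rfl
theorem F86826 : act 0 n19157 = n15027 := d4_1 D19157 (iv D15027) (iv F68659)
theorem F86828 : act 2 n19157 = n19157 := d19_1 D19157 (iv D19157) F68661
theorem F86829 : act 4 n19157 = n19157 := d30_1 D19157 (iv D19157) F68662 F54193 (iv F68662)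
theorem F86830 : act 6 n19157 = n15346 := d35_2 D15006 D19157 (iv D15346) (iv D11947) (iv F54186)
def n19158 : Q := act 7 n15006
theorem D19158 : act 7 n15006 = n19158 := rfl
theorem F86831 : act 0 n19158 = n15028 := d6_1 D19158 (iv D15028) (iv F68659)
theorem F86832 : act 1 n19158 = n16105 := d14_1 D19158 (iv D16105) (iv F68660)
theorem F86833 : act 2 n19158 = n19158 := d21_1 D19158 (iv D19158) F68661
theorem F86834 : act 4 n19158 = n15007 := d32_1 D19158 (iv D15007) (iv F68662)
theorem F86835 : act 6 n19158 = n15011 := d39_1 D19158 (iv D15011) (iv D11702) (iv F54187) D15006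
theorem F86836 : act 8 n19158 = n15676 := d42_2 (iv F68663) D19158 (iv D15676)
def n19159 : Q := act 1 n15008
theorem D19159 : act 1 n15008 = n19159 := rfl
theorem F86838 : act 3 n19159 = n19159 := d10_2 F68672 D19159 (iv D19159)
theorem F86839 : act 5 n19159 = n15348 := d12_2 (iv F68673) D19159 (iv D15348)
def n19160 : Q := act 6 n15008
theorem D19160 : act 6 n15008 = n19160 := rfl
theorem F86840 : act 0 n19160 = n15030 := d5_1 D19160 (iv D15030) (iv F68671)
theorem F86841 : act 2 n19160 = n15009 := d20_1 D19160 (iv D15009) D15008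
theorem F86842 : act 3 n19160 = n19160 := d26_1 D19160 (iv D19160) F68672
def n19161 : Q := act 5 n15009
theorem D19161 : act 5 n15009 = n19161 := rfl
theorem F86843 : act 0 n19161 = n15031 := d4_1 D19161 (iv D15031) (iv F68674)
theorem F86844 : act 1 n19161 = n16108 := d12_1 D19161 (iv D16108) (iv F68675)
theorem F86845 : act 3 n19161 = n15010 := d25_1 D19161 (iv D15010) (iv F68676)
theorem F86846 : act 6 n19161 = n15350 := d35_2 D15009 D19161 (iv D15350) (iv D11950) (iv F54197)
def n19162 : Q := act 7 n15009
theorem D19162 : act 7 n15009 = n19162 := rfl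
theorem F86847 : act 0 n19162 = n15032 := d6_1 D19162 (iv D15032) (iv F68674)
theorem F86848 : act 1 n19162 = n16109 := d14_1 D19162 (iv D16109) (iv F68675)
theorem F86849 : act 3 n19162 = n15011 := d27_1 D19162 (iv D15011) (iv F68676)
def n19163 : Q := act 7 n15010
theorem D19163 : act 7 n15010 = n19163 := rfl
theorem F86850 : act 0 n19163 = n15033 := d6_1 D19163 (iv D15033) (iv F68677)
theorem F86851 : act 1 n19163 = n16110 := d14_1 D19163 (iv D16110) (iv F68678)
theorem F86852 : act 2 n19163 = n19163 := d21_1 D19163 (iv D19163) F68679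
theorem F86853 : act 4 n19163 = n15016 := d32_1 D19163 (iv D15016) (iv F68680)
theorem F86854 : act 5 n19163 = n15011 := d36_1 D19163 (iv D15011) D15010
def n19164 : Q := act 8 n15010
theorem D19164 : act 8 n15010 = n19164 := rfl
theorem F86855 : act 0 n19164 = n15034 := d7_1 D19164 (iv D15034) (iv F68677)
theorem F86856 : act 1 n19164 = n16111 := d15_1 D19164 (iv D16111) (iv F68678)
theorem F86859 : act 6 n19164 = n15353 := d40_1 D19164 (iv D15353) (iv F68681)
def n19165 : Q := act 6 n15012
theorem D19165 : act 6 n15012 = n19165 := rfl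
theorem F86862 : act 2 n19165 = n16112 := d20_1 D19165 (iv D16112) (iv F68687)
theorem F86864 : act 5 n19165 = n17375 := d35_1 D19165 F78286 F70311 (iv D15354) (iv F68689)
def n19166 : Q := act 5 n15013
theorem D19166 : act 5 n15013 = n19166 := rfl
theorem F86868 : act 2 n19166 = n15014 := d19_1 D19166 (iv D15014) (iv F68693)
theorem F86870 : act 6 n19166 = n15355 := d35_2 D15013 D19166 (iv D15355) (iv D11954) (iv F54208)
theorem F86871 : act 4 n17298 = n19166 := d31_3 F86870 (iv F70317) (iv F77988)
theorem F86872 : act 8 n17296 = n19166 := d40_0 F86870 F70316 (iv F77982)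
def n19167 : Q := act 7 n15013
theorem D19167 : act 7 n15013 = n19167 := rfl
theorem F86873 : act 0 n19167 = n15036 := d6_1 D19167 (iv D15036) (iv F68692)
def n19168 : Q := act 4 n15014
theorem D19168 : act 4 n15014 = n19168 := rfl
theorem F86878 : act 0 n19168 = n15037 := d3_1 D19168 (iv D15037) (iv F68696)
theorem F86879 : act 1 n19168 = n16115 := d11_1 D19168 (iv D16115) (iv F68697)
theorem F86881 : act 6 n19168 = n15357 := d31_2 (iv F68699) D19168 (iv D15357)
theorem F86882 : act 8 n17294 = n19168 := d40_0 F86881 (iv F70328) (iv F77975)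
def n19169 : Q := act 7 n15014
theorem D19169 : act 7 n15014 = n19169 := rfl
theorem F86883 : act 0 n19169 = n15038 := d6_1 D19169 (iv D15038) (iv F68696)
theorem F86885 : act 3 n19169 = n15016 := d27_1 D19169 (iv D15016) (iv F68698)
def n19170 : Q := act 8 n15014
theorem D19170 : act 8 n15014 = n19170 := rfl
theorem F86888 : act 1 n19170 = n16117 := d15_1 D19170 (iv D16117) (iv F68697)
theorem F86893 : act 6 n19170 = n15359 := d40_1 D19170 (iv D15359) (iv F68699)
def n19172 : Q := act 8 n15016
theorem D19172 : act 8 n15016 = n19172 := rfl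
theorem F86899 : act 0 n19172 = n15041 := d7_1 D19172 (iv D15041) (iv F68705)
theorem F86903 : act 7 n19172 = n15017 := d42_1 D19172 (iv D15017) D15016
def n19173 : Q := act 9 n15017
theorem D19173 : act 9 n15017 = n19173 := rfl
theorem F86904 : act 0 n19173 = n15042 := d8_1 D19173 (iv D15042) (iv F68709)
theorem F86905 : act 1 n19173 = n16120 := d16_1 D19173 (iv D16120) (iv F68710)
theorem F86908 : act 6 n19173 = n15362 := d41_1 D19173 (iv D15362) (iv F68713)
def n19174 : Q := act 2 n15018
theorem D19174 : act 2 n15018 = n19174 := rfl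
theorem F86909 : act 3 n19174 = n19174 := d17_2 D15018 D19174 (iv D19174) (iv D15018) F54226
theorem F86910 : act 4 n19174 = n15910 := d18_2 (iv F68715) D19174 (iv D15910)
theorem F86911 : act 5 n19174 = n19174 := d19_2 F68716 D19174 (iv D19174)
theorem F86912 : act 7 n19174 = n15613 := d21_2 (iv F68717) D19174 (iv D15613)
theorem F86913 : act 9 n19174 = n15021 := d23_2 (iv F68718) D19174 (iv D15021)
def n19175 : Q := act 6 n15018
theorem D19175 : act 6 n15018 = n19175 := rfl
theorem F86914 : act 1 n19175 = n15044 := d13_1 D19175 (iv D15044) (iv F68714)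
theorem F86915 : act 3 n19175 = n15019 := d26_1 D19175 (iv D15019) D15018
theorem F86916 : act 4 n19175 = n15911 := d31_1 D19175 (iv D15911) (iv F68715)
theorem F86917 : act 9 n19175 = n15022 := d41_2 (iv F68718) D19175 (iv D15022)
def n19176 : Q := act 5 n15019
theorem D19176 : act 5 n15019 = n19176 := rfl
theorem F86918 : act 1 n19176 = n15045 := d12_1 D19176 (iv D15045) (iv F68719)
theorem F86919 : act 2 n19176 = n19176 := d19_1 D19176 (iv D19176) F68720
theorem F86920 : act 4 n19176 = n19176 := d30_1 D19176 (iv D19176) F68721 F54233 (iv F68721)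
theorem F86921 : act 6 n19176 = n19176 := d35_2 D15019 D19176 (iv D19176) (iv D15019) F54227
theorem F86922 : act 9 n19176 = n15023 := d38_2 (iv F68722) D19176 (iv D15023)
def n19177 : Q := act 7 n15019
theorem D19177 : act 7 n15019 = n19177 := rfl
theorem F86923 : act 1 n19177 = n15046 := d14_1 D19177 (iv D15046) (iv F68719)
theorem F86924 : act 2 n19177 = n19177 := d21_1 D19177 (iv D19177) F68720
theorem F86925 : act 4 n19177 = n15020 := d32_1 D19177 (iv D15020) (iv F68721)
theorem F86926 : act 6 n19177 = n15616 := d39_1 D19177 (iv D15616) (iv D12156) (iv F54228) D15019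
theorem F86927 : act 9 n19177 = n15024 := d43_2 (iv F68722) D19177 (iv D15024)
def n19178 : Q := act 1 n15021
theorem D19178 : act 1 n15021 = n19178 := rfl
theorem F86930 : act 4 n19178 = n16131 := d11_2 (iv F68730) D19178 (iv D16131)
theorem F86933 : act 8 n19178 = n15029 := d15_2 (iv F68733) D19178 (iv D15029)
def n19179 : Q := act 6 n15021
theorem D19179 : act 6 n15021 = n19179 := rfl
theorem F86934 : act 2 n19179 = n15022 := d20_1 D19179 (iv D15022) D15021
theorem F86935 : act 3 n19179 = n19179 := d26_1 D19179 (iv D19179) F68729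
theorem F86936 : act 4 n19179 = n16132 := d31_1 D19179 (iv D16132) (iv F68730)
theorem F86937 : act 8 n19179 = n15030 := d40_2 (iv F68733) D19179 (iv D15030)
def n19180 : Q := act 5 n15022
theorem D19180 : act 5 n15022 = n19180 := rfl
theorem F86938 : act 1 n19180 = n15049 := d12_1 D19180 (iv D15049) (iv F68734)
theorem F86939 : act 3 n19180 = n15023 := d25_1 D19180 (iv D15023) (iv F68735)
theorem F86940 : act 6 n19180 = n19180 := d35_2 D15022 D19180 (iv D19180) (iv D15022) F54237
def n19181 : Q := act 7 n15022
theorem D19181 : act 7 n15022 = n19181 := rfl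
theorem F86941 : act 1 n19181 = n15050 := d14_1 D19181 (iv D15050) (iv F68734)
theorem F86942 : act 3 n19181 = n15024 := d27_1 D19181 (iv D15024) (iv F68735)
theorem F86943 : act 4 n19181 = n16134 := d32_1 D19181 (iv D16134) (iv F68736)
theorem F86944 : act 6 n19181 = n15686 := d39_1 D19181 (iv D15686) (iv D12208) (iv F54238) D15022
theorem F86945 : act 8 n19181 = n15032 := d42_2 (iv F68737) D19181 (iv D15032)
def n19182 : Q := act 7 n15023
theorem D19182 : act 7 n15023 = n19182 := rfl
theorem F86946 : act 1 n19182 = n15051 := d14_1 D19182 (iv D15051) (iv F68738)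
theorem F86947 : act 2 n19182 = n19182 := d21_1 D19182 (iv D19182) F68739
theorem F86948 : act 4 n19182 = n19182 := d32_1 D19182 (iv D19182) F68740
theorem F86949 : act 5 n19182 = n15024 := d36_1 D19182 (iv D15024) D15023
def n19183 : Q := act 8 n15023
theorem D19183 : act 8 n15023 = n19183 := rfl
theorem F86950 : act 1 n19183 = n15052 := d15_1 D19183 (iv D15052) (iv F68738)
theorem F86951 : act 2 n19183 = n19183 := d22_1 D19183 (iv D19183) F68739
theorem F86952 : act 4 n19183 = n19183 := d33_1 D19183 (iv D19183) F68740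
theorem F86953 : act 5 n19183 = n15034 := d37_1 D19183 (iv D15034) (iv D11718) (iv F54243) D15023
theorem F86954 : act 6 n19183 = n19183 := d40_1 D19183 (iv D19183) F68741
def n19184 : Q := act 1 n15025
theorem D19184 : act 1 n15025 = n19184 := rfl
theorem F86955 : act 2 n19184 = n15053 := d9_2 D15025 D19184 (iv D15053) (iv D11732) (iv F54250)
theorem F86956 : act 3 n19184 = n19184 := d10_2 F68747 D19184 (iv D19184)
theorem F86957 : act 4 n19184 = n16125 := d11_2 (iv F68748) D19184 (iv D16125)
theorem F86959 : act 7 n19184 = n15029 := d14_2 (iv F68750) D19184 (iv D15029)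
theorem F86960 : act 8 n19184 = n15683 := d15_2 (iv F68751) D19184 (iv D15683)
def n19185 : Q := act 6 n15025
theorem D19185 : act 6 n15025 = n19185 := rfl
theorem F86961 : act 2 n19185 = n15026 := d20_1 D19185 (iv D15026) D15025
theorem F86962 : act 3 n19185 = n19185 := d26_1 D19185 (iv D19185) F68747
theorem F86963 : act 4 n19185 = n16126 := d31_1 D19185 (iv D16126) (iv F68748)
theorem F86964 : act 8 n19185 = n15684 := d40_2 (iv F68751) D19185 (iv D15684)
def n19186 : Q := act 5 n15026
theorem D19186 : act 5 n15026 = n19186 := rfl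
theorem F86965 : act 1 n19186 = n15055 := d12_1 D19186 (iv D15055) (iv F68752)
theorem F86966 : act 3 n19186 = n15027 := d25_1 D19186 (iv D15027) (iv F68753)
theorem F86967 : act 6 n19186 = n15365 := d35_2 D15026 D19186 (iv D15365) (iv D11960) (iv F54252)
def n19187 : Q := act 7 n15026
theorem D19187 : act 7 n15026 = n19187 := rfl
theorem F86968 : act 1 n19187 = n15056 := d14_1 D19187 (iv D15056) (iv F68752)
theorem F86969 : act 3 n19187 = n15028 := d27_1 D19187 (iv D15028) (iv F68753)
theorem F86970 : act 4 n19187 = n16128 := d32_1 D19187 (iv D16128) (iv F68754)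
theorem F86971 : act 6 n19187 = n15032 := d39_1 D19187 (iv D15032) (iv D11717) (iv F54253) D15026
theorem F86972 : act 8 n19187 = n15686 := d42_2 (iv F68755) D19187 (iv D15686)
def n19188 : Q := act 7 n15027
theorem D19188 : act 7 n15027 = n19188 := rfl
theorem F86973 : act 1 n19188 = n15057 := d14_1 D19188 (iv D15057) (iv F68756)
theorem F86974 : act 2 n19188 = n19188 := d21_1 D19188 (iv D19188) F68757
theorem F86975 : act 4 n19188 = n19188 := d32_1 D19188 (iv D19188) F68758
theorem F86976 : act 5 n19188 = n15028 := d36_1 D19188 (iv D15028) D15027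
def n19189 : Q := act 8 n15027
theorem D19189 : act 8 n15027 = n19189 := rfl
theorem F86977 : act 1 n19189 = n15058 := d15_1 D19189 (iv D15058) (iv F68756)
theorem F86978 : act 2 n19189 = n19189 := d22_1 D19189 (iv D19189) F68757
theorem F86979 : act 4 n19189 = n19189 := d33_1 D19189 (iv D19189) F68758
theorem F86980 : act 5 n19189 = n15688 := d37_1 D19189 (iv D15688) (iv D12209) (iv F54258) D15027
theorem F86981 : act 6 n19189 = n15368 := d40_1 D19189 (iv D15368) (iv F68759)
def n19190 : Q := act 0 n15029
theorem D19190 : act 0 n15029 = n19190 := rfl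
theorem F86982 : act 2 n19190 = n15059 := d1_2 (iv F68765) D19190 (iv D15059)
theorem F86983 : act 3 n19190 = n19190 := d2_2 F68766 D19190 (iv D19190)
theorem F86984 : act 5 n19190 = n15369 := d4_2 (iv F68767) D19190 (iv D15369)
def n19191 : Q := act 6 n15029
theorem D19191 : act 6 n15029 = n19191 := rfl
theorem F86985 : act 1 n19191 = n15030 := d13_1 D19191 (iv D15030) D15029
theorem F86986 : act 2 n19191 = n15060 := d20_1 D19191 (iv D15060) (iv F68765)
theorem F86987 : act 3 n19191 = n19191 := d26_1 D19191 (iv D19191) F68766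
def n19192 : Q := act 5 n15030
theorem D19192 : act 5 n15030 = n19192 := rfl
theorem F86988 : act 2 n19192 = n15031 := d19_1 D19192 (iv D15031) (iv F68768)
theorem F86989 : act 3 n19192 = n19192 := d25_1 D19192 (iv D19192) F68769
theorem F86990 : act 6 n19192 = n15371 := d35_2 D15030 D19192 (iv D15371) (iv D11964) (iv F54266)
def n19193 : Q := act 7 n15030
theorem D19193 : act 7 n15030 = n19193 := rfl
theorem F86991 : act 2 n19193 = n15032 := d21_1 D19193 (iv D15032) (iv F68768)
theorem F86992 : act 3 n19193 = n19193 := d27_1 D19193 (iv D19193) F68769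
def n19194 : Q := act 4 n15031
theorem D19194 : act 4 n15031 = n19194 := rfl
theorem F86993 : act 1 n19194 = n15063 := d11_1 D19194 (iv D15063) (iv F68770)
theorem F86994 : act 3 n19194 = n15037 := d24_1 D19194 (iv D15037) F54281 (iv F54271) (iv F68771)
theorem F86995 : act 6 n19194 = n15373 := d31_2 (iv F68772) D19194 (iv D15373)
def n19195 : Q := act 7 n15031
theorem D19195 : act 7 n15031 = n19195 := rfl
theorem F86996 : act 1 n19195 = n15064 := d14_1 D19195 (iv D15064) (iv F68770)
theorem F86997 : act 3 n19195 = n15033 := d27_1 D19195 (iv D15033) (iv F68771)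
theorem F86998 : act 5 n19195 = n15032 := d36_1 D19195 (iv D15032) D15031
def n19196 : Q := act 8 n15031
theorem D19196 : act 8 n15031 = n19196 := rfl
theorem F86999 : act 1 n19196 = n15065 := d15_1 D19196 (iv D15065) (iv F68770)
theorem F87000 : act 3 n19196 = n15034 := d28_1 D19196 (iv D15034) (iv F68771)
theorem F87001 : act 6 n19196 = n15375 := d40_1 D19196 (iv D15375) (iv F68772)
def n19197 : Q := act 6 n15033
theorem D19197 : act 6 n15033 = n19197 := rfl
theorem F87002 : act 1 n19197 = n15066 := d13_1 D19197 (iv D15066) (iv F68775)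
theorem F87003 : act 2 n19197 = n19197 := d20_1 D19197 (iv D19197) F68776
theorem F87004 : act 4 n19197 = n15040 := d31_1 D19197 (iv D15040) (iv F68777)
theorem F87005 : act 7 n19197 = n15376 := d39_2 D15033 D19197 (iv D15376) (iv D11967) (iv F54272)
def n19198 : Q := act 8 n15033
theorem D19198 : act 8 n15033 = n19198 := rfl
theorem F87006 : act 1 n19198 = n15067 := d15_1 D19198 (iv D15067) (iv F68775)
theorem F87007 : act 2 n19198 = n19198 := d22_1 D19198 (iv D19198) F68776
theorem F87008 : act 4 n19198 = n15041 := d33_1 D19198 (iv D15041) (iv F68777)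
theorem F87009 : act 7 n19198 = n15034 := d42_1 D19198 (iv D15034) D15033
def n19199 : Q := act 9 n15034
theorem D19199 : act 9 n15034 = n19199 := rfl
theorem F87010 : act 1 n19199 = n15068 := d16_1 D19199 (iv D15068) (iv F68779)
theorem F87011 : act 2 n19199 = n19199 := d23_1 D19199 (iv D19199) F68780
theorem F87012 : act 4 n19199 = n15042 := d34_1 D19199 (iv D15042) (iv F68781)
def n19200 : Q := act 4 n15035
theorem D19200 : act 4 n15035 = n19200 := rfl
theorem F87017 : act 6 n19200 = n15379 := d31_2 (iv F68786) D19200 (iv D15379)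
theorem F87019 : act 8 n17240 = n19200 := d40_0 F87017 (iv F70417) (iv F77770)
def n19203 : Q := act 7 n15037
theorem D19203 : act 7 n15037 = n19203 := rfl
theorem F87031 : act 1 n19203 = n15069 := d14_1 D19203 (iv D15069) (iv F68792)
theorem F87032 : act 4 n19203 = n15038 := d32_1 D19203 (iv D15038) D15037
def n19204 : Q := act 8 n15037
theorem D19204 : act 8 n15037 = n19204 := rfl
theorem F87037 : act 6 n19204 = n15383 := d40_1 D19204 (iv D15383) (iv F68793)
theorem F87038 : act 5 n17239 = n19204 := d35_5 F87037 (iv F70435) (iv D13829) (iv F61001) D17239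
def n19205 : Q := act 6 n15038
theorem D19205 : act 6 n15038 = n19205 := rfl
theorem F87039 : act 1 n19205 = n15071 := d13_1 D19205 (iv D15071) (iv F68794)
theorem F87042 : act 7 n19205 = n15384 := d39_2 D15038 D19205 (iv D15384) (iv D11972) (iv F54282)
def n19208 : Q := act 8 n15040
theorem D19208 : act 8 n15040 = n19208 := rfl
theorem F87054 : act 7 n19208 = n15387 := d42_1 D19208 (iv D15387) (iv F68804)
def n19209 : Q := act 9 n15041
theorem D19209 : act 9 n15041 = n19209 := rfl
theorem F87055 : act 1 n19209 = n15075 := d16_1 D19209 (iv D15075) (iv F68805)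
theorem F87058 : act 7 n19209 = n15042 := d43_1 D19209 (iv D15042) (iv F68808)
def n19210 : Q := act 1 n15043
theorem D19210 : act 1 n15043 = n19210 := rfl
theorem F87059 : act 3 n19210 = n15076 := d10_2 (iv F68814) D19210 (iv D15076)
def n19211 : Q := act 6 n15043
theorem D19211 : act 6 n15043 = n19211 := rfl
theorem F87064 : act 0 n19211 = n16158 := d5_1 D19211 (iv D16158) (iv F68813)
theorem F87065 : act 2 n19211 = n15044 := d20_1 D19211 (iv D15044) D15043
theorem F87066 : act 3 n19211 = n15077 := d26_1 D19211 (iv D15077) (iv F68814)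
theorem F87068 : act 9 n19211 = n15048 := d41_2 (iv F68818) D19211 (iv D15048)
def n19212 : Q := act 5 n15044
theorem D19212 : act 5 n15044 = n19212 := rfl
theorem F87069 : act 0 n19212 = n16159 := d4_1 D19212 (iv D16159) (iv F68819)
theorem F87070 : act 3 n19212 = n15045 := d25_1 D19212 (iv D15045) (iv F68820)
theorem F87071 : act 6 n19212 = n19212 := d35_2 D15044 D19212 (iv D19212) (iv D15044) F54296
theorem F87072 : act 9 n19212 = n15049 := d38_2 (iv F68822) D19212 (iv D15049)
def n19213 : Q := act 7 n15044
theorem D19213 : act 7 n15044 = n19213 := rfl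
theorem F87073 : act 0 n19213 = n16160 := d6_1 D19213 (iv D16160) (iv F68819)
theorem F87074 : act 3 n19213 = n15046 := d27_1 D19213 (iv D15046) (iv F68820)
theorem F87075 : act 4 n19213 = n15963 := d32_1 D19213 (iv D15963) (iv F68821)
theorem F87076 : act 6 n19213 = n15634 := d39_1 D19213 (iv D15634) (iv D12169) (iv F54297) D15044
theorem F87077 : act 9 n19213 = n15050 := d43_2 (iv F68822) D19213 (iv D15050)
def n19214 : Q := act 7 n15045
theorem D19214 : act 7 n15045 = n19214 := rfl
theorem F87078 : act 0 n19214 = n16161 := d6_1 D19214 (iv D16161) (iv F68823)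
theorem F87079 : act 2 n19214 = n15080 := d21_1 D19214 (iv D15080) (iv F68824)
theorem F87080 : act 4 n19214 = n19214 := d32_1 D19214 (iv D19214) F68825
theorem F87081 : act 5 n19214 = n15046 := d36_1 D19214 (iv D15046) D15045
theorem F87082 : act 9 n19214 = n15051 := d43_2 (iv F68827) D19214 (iv D15051)
def n19215 : Q := act 8 n15045
theorem D19215 : act 8 n15045 = n19215 := rfl
theorem F87083 : act 0 n19215 = n16162 := d7_1 D19215 (iv D16162) (iv F68823)
theorem F87084 : act 2 n19215 = n15081 := d22_1 D19215 (iv D15081) (iv F68824)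
theorem F87085 : act 4 n19215 = n19215 := d33_1 D19215 (iv D19215) F68825
theorem F87086 : act 6 n19215 = n19215 := d40_1 D19215 (iv D19215) F68826
def n19216 : Q := act 0 n15047
theorem D19216 : act 0 n15047 = n19216 := rfl
theorem F87092 : act 8 n19216 = n15059 := d7_2 (iv F68837) D19216 (iv D15059)
def n19218 : Q := act 5 n15048
theorem D19218 : act 5 n15048 = n19218 := rfl
theorem F87097 : act 0 n19218 = n16165 := d4_1 D19218 (iv D16165) (iv F68838)
theorem F87098 : act 2 n19218 = n15049 := d19_1 D19218 (iv D15049) (iv F68839)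
theorem F87099 : act 3 n19218 = n15084 := d25_1 D19218 (iv D15084) (iv F68840)
theorem F87100 : act 6 n19218 = n19218 := d35_2 D15048 D19218 (iv D19218) (iv D15048) F54312
def n19219 : Q := act 7 n15048
theorem D19219 : act 7 n15048 = n19219 := rfl
theorem F87101 : act 0 n19219 = n16166 := d6_1 D19219 (iv D16166) (iv F68838)
theorem F87102 : act 2 n19219 = n15050 := d21_1 D19219 (iv D15050) (iv F68839)
theorem F87103 : act 3 n19219 = n15085 := d27_1 D19219 (iv D15085) (iv F68840)
theorem F87105 : act 6 n19219 = n15700 := d39_1 D19219 (iv D15700) (iv D12217) (iv F54313) D15048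
theorem F87106 : act 8 n19219 = n15062 := d42_2 (iv F68842) D19219 (iv D15062)
def n19220 : Q := act 4 n15049
theorem D19220 : act 4 n15049 = n19220 := rfl
theorem F87107 : act 0 n19220 = n16167 := d3_1 D19220 (iv D16167) (iv F68843)
theorem F87108 : act 3 n19220 = n19220 := d24_1 D19220 (iv D19220) F68844 F54321 (iv F68844)
theorem F87109 : act 5 n19220 = n16177 := d30_2 D15049 D19220 (iv D16177) (iv D12561) (iv F54317)
theorem F87110 : act 6 n19220 = n19220 := d31_2 F68845 D19220 (iv D19220)
def n19221 : Q := act 7 n15049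
theorem D19221 : act 7 n15049 = n19221 := rfl
theorem F87111 : act 0 n19221 = n16168 := d6_1 D19221 (iv D16168) (iv F68843)
theorem F87112 : act 3 n19221 = n15051 := d27_1 D19221 (iv D15051) (iv F68844)
theorem F87113 : act 5 n19221 = n15050 := d36_1 D19221 (iv D15050) D15049
def n19222 : Q := act 8 n15049
theorem D19222 : act 8 n15049 = n19222 := rfl
theorem F87114 : act 0 n19222 = n16169 := d7_1 D19222 (iv D16169) (iv F68843)
theorem F87115 : act 3 n19222 = n15052 := d28_1 D19222 (iv D15052) (iv F68844)
theorem F87116 : act 5 n19222 = n15065 := d37_1 D19222 (iv D15065) (iv D11738) (iv F54318) D15049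
theorem F87117 : act 6 n19222 = n19222 := d40_1 D19222 (iv D19222) F68845
def n19223 : Q := act 6 n15051
theorem D19223 : act 6 n15051 = n19223 := rfl
theorem F87118 : act 0 n19223 = n16170 := d5_1 D19223 (iv D16170) (iv F68851)
theorem F87119 : act 2 n19223 = n15089 := d20_1 D19223 (iv D15089) (iv F68852)
theorem F87120 : act 4 n19223 = n19223 := d31_1 D19223 (iv D19223) F68853
theorem F87121 : act 5 n19223 = n15704 := d35_1 D19223 (iv D15704) F56542 (iv F54326) (iv F68854)
theorem F87122 : act 7 n19223 = n19223 := d39_2 D15051 D19223 (iv D19223) (iv D15051) F54322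
def n19224 : Q := act 8 n15051
theorem D19224 : act 8 n15051 = n19224 := rfl
theorem F87123 : act 0 n19224 = n16171 := d7_1 D19224 (iv D16171) (iv F68851)
theorem F87124 : act 2 n19224 = n15090 := d22_1 D19224 (iv D15090) (iv F68852)
theorem F87125 : act 4 n19224 = n19224 := d33_1 D19224 (iv D19224) F68853
theorem F87126 : act 5 n19224 = n15067 := d37_1 D19224 (iv D15067) F54360 (iv F54327) (iv F68854)
theorem F87127 : act 7 n19224 = n15052 := d42_1 D19224 (iv D15052) D15051
def n19225 : Q := act 9 n15052
theorem D19225 : act 9 n15052 = n19225 := rfl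
theorem F87128 : act 0 n19225 = n16172 := d8_1 D19225 (iv D16172) (iv F68855)
theorem F87129 : act 2 n19225 = n15091 := d23_1 D19225 (iv D15091) (iv F68856)
theorem F87130 : act 4 n19225 = n19225 := d34_1 D19225 (iv D19225) F68857
theorem F87131 : act 5 n19225 = n15068 := d38_1 D19225 (iv D15068) (iv F68858)
theorem F87132 : act 6 n19225 = n19225 := d41_1 D19225 (iv D19225) F68859
def n19226 : Q := act 0 n15053
theorem D19226 : act 0 n15053 = n19226 := rfl
theorem F87134 : act 3 n19226 = n15092 := d2_2 (iv F68860) D19226 (iv D15092)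
theorem F87135 : act 4 n19226 = n16163 := d3_2 (iv F68861) D19226 (iv D16163)
theorem F87136 : act 5 n19226 = n15389 := d4_2 (iv F68862) D19226 (iv D15389)
theorem F87137 : act 7 n19226 = n15059 := d6_2 (iv F68863) D19226 (iv D15059)
theorem F87138 : act 8 n19226 = n15697 := d7_2 (iv F68864) D19226 (iv D15697)
def n19227 : Q := act 6 n15053
theorem D19227 : act 6 n15053 = n19227 := rfl
theorem F87140 : act 3 n19227 = n15093 := d26_1 D19227 (iv D15093) (iv F68860)
theorem F87141 : act 4 n19227 = n16164 := d31_1 D19227 (iv D16164) (iv F68861)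
theorem F87142 : act 8 n19227 = n15698 := d40_2 (iv F68864) D19227 (iv D15698)
def n19228 : Q := act 5 n15054
theorem D19228 : act 5 n15054 = n19228 := rfl
theorem F87146 : act 6 n19228 = n15391 := d35_2 D15054 D19228 (iv D15391) (iv D11978) (iv F54331)
def n19229 : Q := act 7 n15054
theorem D19229 : act 7 n15054 = n19229 := rfl
theorem F87148 : act 2 n19229 = n15056 := d21_1 D19229 (iv D15056) (iv F68866)
theorem F87149 : act 3 n19229 = n15095 := d27_1 D19229 (iv D15095) (iv F68867)
theorem F87150 : act 4 n19229 = n16166 := d32_1 D19229 (iv D16166) (iv F68868)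
theorem F87151 : act 6 n19229 = n15062 := d39_1 D19229 (iv D15062) (iv D11737) (iv F54332) D15054
theorem F87152 : act 8 n19229 = n15700 := d42_2 (iv F68869) D19229 (iv D15700)
def n19230 : Q := act 4 n15055
theorem D19230 : act 4 n15055 = n19230 := rfl
theorem F87154 : act 3 n19230 = n19230 := d24_1 D19230 (iv D19230) F68871 F54340 (iv F68871)
theorem F87155 : act 5 n19230 = n16167 := d30_2 D15055 D19230 (iv D16167) (iv D12555) (iv F54336)
theorem F87156 : act 6 n19230 = n15393 := d31_2 (iv F68872) D19230 (iv D15393)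
def n19231 : Q := act 7 n15055
theorem D19231 : act 7 n15055 = n19231 := rfl
theorem F87157 : act 0 n19231 = n16178 := d6_1 D19231 (iv D16178) (iv F68870)
theorem F87158 : act 3 n19231 = n15057 := d27_1 D19231 (iv D15057) (iv F68871)
theorem F87159 : act 5 n19231 = n15056 := d36_1 D19231 (iv D15056) D15055
def n19232 : Q := act 8 n15055
theorem D19232 : act 8 n15055 = n19232 := rfl
theorem F87161 : act 3 n19232 = n15058 := d28_1 D19232 (iv D15058) (iv F68871)
theorem F87162 : act 5 n19232 = n15703 := d37_1 D19232 (iv D15703) (iv D12218) (iv F54337) D15055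
theorem F87163 : act 6 n19232 = n15395 := d40_1 D19232 (iv D15395) (iv F68872)
def n19233 : Q := act 6 n15057
theorem D19233 : act 6 n15057 = n19233 := rfl
theorem F87164 : act 0 n19233 = n16180 := d5_1 D19233 (iv D16180) (iv F68878)
theorem F87165 : act 2 n19233 = n15099 := d20_1 D19233 (iv D15099) (iv F68879)
theorem F87166 : act 4 n19233 = n19233 := d31_1 D19233 (iv D19233) F68880
theorem F87167 : act 5 n19233 = n15066 := d35_1 D19233 (iv D15066) F54360 (iv F54345) (iv F68881)
theorem F87168 : act 7 n19233 = n15396 := d39_2 D15057 D19233 (iv D15396) (iv D11981) (iv F54341)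
def n19234 : Q := act 8 n15057
theorem D19234 : act 8 n15057 = n19234 := rfl
theorem F87169 : act 0 n19234 = n16181 := d7_1 D19234 (iv D16181) (iv F68878)
theorem F87170 : act 2 n19234 = n15100 := d22_1 D19234 (iv D15100) (iv F68879)
theorem F87171 : act 4 n19234 = n19234 := d33_1 D19234 (iv D19234) F68880
theorem F87172 : act 5 n19234 = n15705 := d37_1 D19234 (iv D15705) F56542 (iv F54346) (iv F68881)
theorem F87173 : act 7 n19234 = n15058 := d42_1 D19234 (iv D15058) D15057
def n19235 : Q := act 9 n15058
theorem D19235 : act 9 n15058 = n19235 := rfl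
theorem F87174 : act 0 n19235 = n16182 := d8_1 D19235 (iv D16182) (iv F68882)
theorem F87175 : act 2 n19235 = n15101 := d23_1 D19235 (iv D15101) (iv F68883)
theorem F87176 : act 4 n19235 = n19235 := d34_1 D19235 (iv D19235) F68884
theorem F87177 : act 5 n19235 = n15706 := d38_1 D19235 (iv D15706) (iv F68885)
theorem F87178 : act 6 n19235 = n15398 := d41_1 D19235 (iv D15398) (iv F68886)
def n19236 : Q := act 6 n15059
theorem D19236 : act 6 n15059 = n19236 := rfl
theorem F87179 : act 0 n19236 = n15060 := d5_1 D19236 (iv D15060) D15059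
theorem F87180 : act 1 n19236 = n16183 := d13_1 D19236 (iv D16183) (iv F68887)
theorem F87181 : act 3 n19236 = n15102 := d26_1 D19236 (iv D15102) (iv F68888)
def n19237 : Q := act 5 n15060
theorem D19237 : act 5 n15060 = n19237 := rfl
theorem F87182 : act 1 n19237 = n15061 := d12_1 D19237 (iv D15061) (iv F68890)
theorem F87183 : act 3 n19237 = n15103 := d25_1 D19237 (iv D15103) (iv F68891)
theorem F87184 : act 6 n19237 = n15400 := d35_2 D15060 D19237 (iv D15400) (iv D11984) (iv F54348)
def n19238 : Q := act 7 n15060
theorem D19238 : act 7 n15060 = n19238 := rfl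
theorem F87185 : act 1 n19238 = n15062 := d14_1 D19238 (iv D15062) (iv F68890)
theorem F87186 : act 3 n19238 = n15104 := d27_1 D19238 (iv D15104) (iv F68891)
def n19239 : Q := act 4 n15061
theorem D19239 : act 4 n15061 = n19239 := rfl
theorem F87187 : act 0 n19239 = n16186 := d3_1 D19239 (iv D16186) (iv F68892)
theorem F87188 : act 2 n19239 = n15063 := d18_1 D19239 (iv D15063) (iv F68893)
theorem F87189 : act 3 n19239 = n19239 := d24_1 D19239 (iv D19239) F68894 F54474 (iv F68894)
theorem F87190 : act 6 n19239 = n15402 := d31_2 (iv F68895) D19239 (iv D15402)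
def n19240 : Q := act 7 n15061
theorem D19240 : act 7 n15061 = n19240 := rfl
theorem F87191 : act 0 n19240 = n16187 := d6_1 D19240 (iv D16187) (iv F68892)
theorem F87192 : act 2 n19240 = n15064 := d21_1 D19240 (iv D15064) (iv F68893)
theorem F87193 : act 3 n19240 = n15105 := d27_1 D19240 (iv D15105) (iv F68894)
theorem F87194 : act 5 n19240 = n15062 := d36_1 D19240 (iv D15062) D15061
def n19241 : Q := act 8 n15061
theorem D19241 : act 8 n15061 = n19241 := rfl
theorem F87195 : act 0 n19241 = n16188 := d7_1 D19241 (iv D16188) (iv F68892)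
theorem F87196 : act 2 n19241 = n15065 := d22_1 D19241 (iv D15065) (iv F68893)
theorem F87197 : act 3 n19241 = n15106 := d28_1 D19241 (iv D15106) (iv F68894)
theorem F87198 : act 6 n19241 = n15404 := d40_1 D19241 (iv D15404) (iv F68895)
def n19242 : Q := act 7 n15063
theorem D19242 : act 7 n15063 = n19242 := rfl
theorem F87199 : act 0 n19242 = n16189 := d6_1 D19242 (iv D16189) (iv F68899)
theorem F87200 : act 3 n19242 = n15069 := d27_1 D19242 (iv D15069) (iv F68900)
theorem F87201 : act 4 n19242 = n15064 := d32_1 D19242 (iv D15064) D15063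
def n19243 : Q := act 8 n15063
theorem D19243 : act 8 n15063 = n19243 := rfl
theorem F87202 : act 0 n19243 = n16190 := d7_1 D19243 (iv D16190) (iv F68899)
theorem F87203 : act 3 n19243 = n15070 := d28_1 D19243 (iv D15070) (iv F68900)
theorem F87204 : act 4 n19243 = n15065 := d33_1 D19243 (iv D15065) D15063
theorem F87205 : act 6 n19243 = n15406 := d40_1 D19243 (iv D15406) (iv F68901)
def n19244 : Q := act 6 n15064
theorem D19244 : act 6 n15064 = n19244 := rfl
theorem F87207 : act 3 n19244 = n15066 := d26_1 D19244 (iv D15066) (iv F68903)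
theorem F87208 : act 7 n19244 = n15407 := d39_2 D15064 D19244 (iv D15407) (iv D11988) (iv F54354)
def n19245 : Q := act 8 n15064
theorem D19245 : act 8 n15064 = n19245 := rfl
theorem F87209 : act 0 n19245 = n16192 := d7_1 D19245 (iv D16192) (iv F68902)
theorem F87210 : act 3 n19245 = n15067 := d28_1 D19245 (iv D15067) (iv F68903)
theorem F87211 : act 7 n19245 = n15065 := d42_1 D19245 (iv D15065) D15064
def n19246 : Q := act 9 n15065
theorem D19246 : act 9 n15065 = n19246 := rfl
theorem F87212 : act 0 n19246 = n16193 := d8_1 D19246 (iv D16193) (iv F68905)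
theorem F87213 : act 3 n19246 = n15068 := d29_1 D19246 (iv D15068) (iv F68906)
theorem F87214 : act 6 n19246 = n15409 := d41_1 D19246 (iv D15409) (iv F68907)
def n19247 : Q := act 8 n15066
theorem D19247 : act 8 n15066 = n19247 := rfl
theorem F87215 : act 0 n19247 = n16194 := d7_1 D19247 (iv D16194) (iv F68908)
theorem F87217 : act 4 n19247 = n15074 := d33_1 D19247 (iv D15074) (iv F68910)
theorem F87218 : act 6 n19247 = n15067 := d40_1 D19247 (iv D15067) D15066
theorem F87219 : act 7 n19247 = n15410 := d42_1 D19247 (iv D15410) (iv F68911)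
def n19248 : Q := act 9 n15067
theorem D19248 : act 9 n15067 = n19248 := rfl
theorem F87220 : act 0 n19248 = n16195 := d8_1 D19248 (iv D16195) (iv F68912)
theorem F87221 : act 2 n19248 = n15111 := d23_1 D19248 (iv D15111) (iv F68913)
theorem F87222 : act 4 n19248 = n15075 := d34_1 D19248 (iv D15075) (iv F68914)
theorem F87223 : act 7 n19248 = n15068 := d43_1 D19248 (iv D15068) (iv F68915)
def n19249 : Q := act 6 n15069
theorem D19249 : act 6 n15069 = n19249 := rfl
theorem F87227 : act 7 n19249 = n15412 := d39_2 D15069 D19249 (iv D15412) (iv D11993) (iv F54367)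
def n19250 : Q := act 8 n15069
theorem D19250 : act 8 n15069 = n19250 := rfl
theorem F87231 : act 7 n19250 = n15070 := d42_1 D19250 (iv D15070) D15069
def n19251 : Q := act 5 n15070
theorem D19251 : act 5 n15070 = n19251 := rfl
theorem F87232 : act 0 n19251 = n16198 := d4_1 D19251 (iv D16198) (iv F68923)
theorem F87234 : act 2 n19251 = n19251 := d19_1 D19251 (iv D19251) F68924
theorem F87235 : act 4 n19251 = n19251 := d30_1 D19251 (iv D19251) F68925 F54375 (iv F68925)
def n19252 : Q := act 9 n15070
theorem D19252 : act 9 n15070 = n19252 := rfl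
theorem F87237 : act 0 n19252 = n16199 := d8_1 D19252 (iv D16199) (iv F68923)
theorem F87240 : act 6 n19252 = n15415 := d41_1 D19252 (iv D15415) (iv F68926)
def n19253 : Q := act 8 n15071
theorem D19253 : act 8 n15071 = n19253 := rfl
theorem F87244 : act 6 n19253 = n15072 := d40_1 D19253 (iv D15072) D15071
theorem F87245 : act 7 n19253 = n15416 := d42_1 D19253 (iv D15416) (iv F68931)
def n19254 : Q := act 9 n15072
theorem D19254 : act 9 n15072 = n19254 := rfl
theorem F87248 : act 3 n19254 = n15075 := d29_1 D19254 (iv D15075) (iv F68934)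
def n19255 : Q := act 5 n15074
theorem D19255 : act 5 n15074 = n19255 := rfl
theorem F87254 : act 7 n19255 = n15418 := d36_2 (iv F68945) D19255 (iv D15418)
def n19256 : Q := act 9 n15074
theorem D19256 : act 9 n15074 = n19256 := rfl
theorem F87257 : act 2 n19256 = n15113 := d23_1 D19256 (iv D15113) (iv F68943)
theorem F87258 : act 6 n19256 = n15075 := d41_1 D19256 (iv D15075) (iv F68944)
def n19257 : Q := act 0 n15076
theorem D19257 : act 0 n15076 = n19257 := rfl
theorem F87262 : act 4 n19257 = n15114 := d3_2 (iv F68951) D19257 (iv D15114)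
theorem F87264 : act 7 n19257 = n15653 := d6_2 (iv F68953) D19257 (iv D15653)
def n19258 : Q := act 6 n15076
theorem D19258 : act 6 n15076 = n19258 := rfl
def n19259 : Q := act 5 n15077
theorem D19259 : act 5 n15077 = n19259 := rfl
theorem F87270 : act 0 n19259 = n16206 := d4_1 D19259 (iv D16206) (iv F68955)
theorem F87271 : act 2 n19259 = n15078 := d19_1 D19259 (iv D15078) (iv F68956)
theorem F87272 : act 6 n19259 = n19259 := d35_2 D15077 D19259 (iv D19259) (iv D15077) F54391
theorem F87273 : act 9 n19259 = n15084 := d38_2 (iv F68958) D19259 (iv D15084)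
def n19260 : Q := act 7 n15077
theorem D19260 : act 7 n15077 = n19260 := rfl
theorem F87274 : act 0 n19260 = n16207 := d6_1 D19260 (iv D16207) (iv F68955)
theorem F87275 : act 2 n19260 = n15079 := d21_1 D19260 (iv D15079) (iv F68956)
theorem F87276 : act 4 n19260 = n15117 := d32_1 D19260 (iv D15117) (iv F68957)
theorem F87277 : act 6 n19260 = n15656 := d39_1 D19260 (iv D15656) (iv D12184) (iv F54392) D15077
theorem F87278 : act 9 n19260 = n15085 := d43_2 (iv F68958) D19260 (iv D15085)
def n19261 : Q := act 4 n15078
theorem D19261 : act 4 n15078 = n19261 := rfl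
theorem F87279 : act 0 n19261 = n16208 := d3_1 D19261 (iv D16208) (iv F68959)
theorem F87280 : act 1 n19261 = n19261 := d11_1 D19261 (iv D19261) F68960
theorem F87281 : act 3 n19261 = n19261 := d24_1 D19261 (iv D19261) F68961 F54401 (iv F68961)
theorem F87282 : act 5 n19261 = n15118 := d30_2 D15078 D19261 (iv D15118) (iv D11777) (iv F54397)
theorem F87283 : act 6 n19261 = n19261 := d31_2 F68962 D19261 (iv D19261)
theorem F87284 : act 9 n19261 = n15086 := d34_2 (iv F68963) D19261 (iv D15086)
def n19262 : Q := act 7 n15078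
theorem D19262 : act 7 n15078 = n19262 := rfl
theorem F87285 : act 0 n19262 = n16209 := d6_1 D19262 (iv D16209) (iv F68959)
theorem F87286 : act 1 n19262 = n19262 := d14_1 D19262 (iv D19262) F68960
theorem F87287 : act 3 n19262 = n15080 := d27_1 D19262 (iv D15080) (iv F68961)
theorem F87288 : act 5 n19262 = n15079 := d36_1 D19262 (iv D15079) D15078
theorem F87289 : act 9 n19262 = n15087 := d43_2 (iv F68963) D19262 (iv D15087)
def n19263 : Q := act 8 n15078
theorem D19263 : act 8 n15078 = n19263 := rfl
theorem F87290 : act 0 n19263 = n16210 := d7_1 D19263 (iv D16210) (iv F68959)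
theorem F87291 : act 1 n19263 = n19263 := d15_1 D19263 (iv D19263) F68960
theorem F87292 : act 3 n19263 = n15081 := d28_1 D19263 (iv D15081) (iv F68961)
theorem F87293 : act 6 n19263 = n19263 := d40_1 D19263 (iv D19263) F68962
def n19264 : Q := act 6 n15080
theorem D19264 : act 6 n15080 = n19264 := rfl
theorem F87294 : act 0 n19264 = n16211 := d5_1 D19264 (iv D16211) (iv F68970)
theorem F87295 : act 1 n19264 = n19264 := d13_1 D19264 (iv D19264) F68971
theorem F87296 : act 4 n19264 = n19264 := d31_1 D19264 (iv D19264) F68972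
theorem F87297 : act 5 n19264 = n15659 := d35_1 D19264 (iv D15659) F56421 (iv F54407) (iv F68973)
theorem F87298 : act 7 n19264 = n19264 := d39_2 D15080 D19264 (iv D19264) (iv D15080) F54402
theorem F87299 : act 9 n19264 = n15089 := d41_2 (iv F68974) D19264 (iv D15089)
def n19265 : Q := act 8 n15080
theorem D19265 : act 8 n15080 = n19265 := rfl
theorem F87300 : act 0 n19265 = n16212 := d7_1 D19265 (iv D16212) (iv F68970)
theorem F87301 : act 1 n19265 = n19265 := d15_1 D19265 (iv D19265) F68971
theorem F87302 : act 4 n19265 = n19265 := d33_1 D19265 (iv D19265) F68972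
theorem F87303 : act 7 n19265 = n15081 := d42_1 D19265 (iv D15081) D15080
def n19266 : Q := act 9 n15081
theorem D19266 : act 9 n15081 = n19266 := rfl
theorem F87304 : act 0 n19266 = n16213 := d8_1 D19266 (iv D16213) (iv F68975)
theorem F87305 : act 1 n19266 = n19266 := d16_1 D19266 (iv D19266) F68976
theorem F87306 : act 4 n19266 = n19266 := d34_1 D19266 (iv D19266) F68977
theorem F87307 : act 6 n19266 = n19266 := d41_1 D19266 (iv D19266) F68978
theorem F87308 : act 8 n19266 = n15091 := d44_1 D19266 (iv D15091) (iv D11757) (iv F54403) D15081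
def n19267 : Q := act 6 n15082
theorem D19267 : act 6 n15082 = n19267 := rfl
theorem F87309 : act 0 n19267 = n15083 := d5_1 D19267 (iv D15083) D15082
theorem F87310 : act 1 n19267 = n16214 := d13_1 D19267 (iv D16214) (iv F68979)
theorem F87312 : act 4 n19267 = n15122 := d31_1 D19267 (iv D15122) (iv F68981)
def n19269 : Q := act 7 n15083
theorem D19269 : act 7 n15083 = n19269 := rfl
theorem F87321 : act 8 n19269 = n15104 := d42_2 (iv F68988) D19269 (iv D15104)
def n19270 : Q := act 4 n15084
theorem D19270 : act 4 n15084 = n19270 := rfl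
theorem F87324 : act 5 n19270 = n15125 := d30_2 D15084 D19270 (iv D15125) (iv D11783) (iv F54416)
def n19271 : Q := act 7 n15084
theorem D19271 : act 7 n15084 = n19271 := rfl
theorem F87326 : act 0 n19271 = n16218 := d6_1 D19271 (iv D16218) (iv F68989)
theorem F87327 : act 2 n19271 = n15087 := d21_1 D19271 (iv D15087) (iv F68990)
theorem F87328 : act 5 n19271 = n15085 := d36_1 D19271 (iv D15085) D15084
def n19272 : Q := act 8 n15084
theorem D19272 : act 8 n15084 = n19272 := rfl
theorem F87329 : act 0 n19272 = n16219 := d7_1 D19272 (iv D16219) (iv F68989)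
theorem F87330 : act 2 n19272 = n15088 := d22_1 D19272 (iv D15088) (iv F68990)
theorem F87331 : act 5 n19272 = n15106 := d37_1 D19272 (iv D15106) (iv D11766) (iv F54417) D15084
theorem F87332 : act 6 n19272 = n19272 := d40_1 D19272 (iv D19272) F68991
def n19273 : Q := act 7 n15086
theorem D19273 : act 7 n15086 = n19273 := rfl
theorem F87333 : act 0 n19273 = n16220 := d6_1 D19273 (iv D16220) (iv F68997)
theorem F87334 : act 1 n19273 = n19273 := d14_1 D19273 (iv D19273) F68998
theorem F87335 : act 3 n19273 = n19273 := d27_1 D19273 (iv D19273) F68999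
theorem F87336 : act 4 n19273 = n15087 := d32_1 D19273 (iv D15087) D15086
theorem F87337 : act 5 n19273 = n15127 := d36_1 D19273 (iv D15127) (iv F69000)
def n19274 : Q := act 8 n15086
theorem D19274 : act 8 n15086 = n19274 := rfl
theorem F87338 : act 0 n19274 = n16221 := d7_1 D19274 (iv D16221) (iv F68997)
theorem F87339 : act 1 n19274 = n19274 := d15_1 D19274 (iv D19274) F68998
theorem F87340 : act 3 n19274 = n19274 := d28_1 D19274 (iv D19274) F68999
theorem F87341 : act 4 n19274 = n15088 := d33_1 D19274 (iv D15088) D15086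
theorem F87342 : act 5 n19274 = n19274 := d37_1 D19274 (iv D19274) F69000 F54567 (iv F69000)
theorem F87343 : act 6 n19274 = n19274 := d40_1 D19274 (iv D19274) F69001
def n19275 : Q := act 6 n15087
theorem D19275 : act 6 n15087 = n19275 := rfl
theorem F87344 : act 0 n19275 = n16222 := d5_1 D19275 (iv D16222) (iv F69002)
theorem F87345 : act 1 n19275 = n19275 := d13_1 D19275 (iv D19275) F69003
theorem F87346 : act 3 n19275 = n15089 := d26_1 D19275 (iv D15089) (iv F69004)
theorem F87347 : act 5 n19275 = n15719 := d35_1 D19275 (iv D15719) F56579 (iv F54426) (iv F69005)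
theorem F87348 : act 7 n19275 = n19275 := d39_2 D15087 D19275 (iv D19275) (iv D15087) F54421
def n19276 : Q := act 8 n15087
theorem D19276 : act 8 n15087 = n19276 := rfl
theorem F87349 : act 0 n19276 = n16223 := d7_1 D19276 (iv D16223) (iv F69002)
theorem F87350 : act 1 n19276 = n19276 := d15_1 D19276 (iv D19276) F69003
theorem F87351 : act 3 n19276 = n15090 := d28_1 D19276 (iv D15090) (iv F69004)
theorem F87352 : act 5 n19276 = n15108 := d37_1 D19276 (iv D15108) F54483 (iv F54427) (iv F69005)
theorem F87353 : act 7 n19276 = n15088 := d42_1 D19276 (iv D15088) D15087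
def n19277 : Q := act 9 n15088
theorem D19277 : act 9 n15088 = n19277 := rfl
theorem F87354 : act 0 n19277 = n16224 := d8_1 D19277 (iv D16224) (iv F69006)
theorem F87355 : act 1 n19277 = n19277 := d16_1 D19277 (iv D19277) F69007
theorem F87356 : act 3 n19277 = n15091 := d29_1 D19277 (iv D15091) (iv F69008)
theorem F87357 : act 5 n19277 = n15109 := d38_1 D19277 (iv D15109) (iv F69009)
theorem F87358 : act 6 n19277 = n19277 := d41_1 D19277 (iv D19277) F69010
def n19278 : Q := act 8 n15089
theorem D19278 : act 8 n15089 = n19278 := rfl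
theorem F87359 : act 0 n19278 = n16225 := d7_1 D19278 (iv D16225) (iv F69011)
theorem F87360 : act 1 n19278 = n19278 := d15_1 D19278 (iv D19278) F69012
theorem F87361 : act 4 n19278 = n19278 := d33_1 D19278 (iv D19278) F69013
theorem F87362 : act 6 n19278 = n15090 := d40_1 D19278 (iv D15090) D15089
theorem F87363 : act 7 n19278 = n19278 := d42_1 D19278 (iv D19278) F69015
def n19279 : Q := act 9 n15090
theorem D19279 : act 9 n15090 = n19279 := rfl
theorem F87364 : act 0 n19279 = n16226 := d8_1 D19279 (iv D16226) (iv F69016)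
theorem F87365 : act 1 n19279 = n19279 := d16_1 D19279 (iv D19279) F69017
theorem F87366 : act 4 n19279 = n19279 := d34_1 D19279 (iv D19279) F69018
theorem F87367 : act 5 n19279 = n15111 := d38_1 D19279 (iv D15111) (iv F69019)
theorem F87368 : act 7 n19279 = n15091 := d43_1 D19279 (iv D15091) (iv F69020)
def n19280 : Q := act 6 n15092
theorem D19280 : act 6 n15092 = n19280 := rfl
theorem F87373 : act 8 n19280 = n15714 := d40_2 (iv F69031) D19280 (iv D15714)
def n19281 : Q := act 5 n15093
theorem D19281 : act 5 n15093 = n19281 := rfl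
theorem F87376 : act 6 n19281 = n15421 := d35_2 D15093 D19281 (iv D15421) (iv D12001) (iv F54439)
def n19282 : Q := act 7 n15093
theorem D19282 : act 7 n15093 = n19282 := rfl
theorem F87380 : act 6 n19282 = n15104 := d39_1 D19282 (iv D15104) (iv D11765) (iv F54440) D15093
def n19284 : Q := act 7 n15094
theorem D19284 : act 7 n15094 = n19284 := rfl
theorem F87388 : act 5 n19284 = n15095 := d36_1 D19284 (iv D15095) D15094
def n19285 : Q := act 8 n15094
theorem D19285 : act 8 n15094 = n19285 := rfl
theorem F87391 : act 5 n19285 = n15718 := d37_1 D19285 (iv D15718) (iv D12230) (iv F54445) D15094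
def n19288 : Q := act 6 n15097
theorem D19288 : act 6 n15097 = n19288 := rfl
theorem F87407 : act 5 n19288 = n15107 := d35_1 D19288 (iv D15107) F54483 (iv F54454) (iv F69052)
def n19291 : Q := act 8 n15099
theorem D19291 : act 8 n15099 = n19291 := rfl
theorem F87419 : act 0 n19291 = n16238 := d7_1 D19291 (iv D16238) (iv F69058)
theorem F87420 : act 1 n19291 = n19291 := d15_1 D19291 (iv D19291) F69059
theorem F87421 : act 4 n19291 = n19291 := d33_1 D19291 (iv D19291) F69060
theorem F87422 : act 6 n19291 = n15100 := d40_1 D19291 (iv D15100) D15099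
theorem F87423 : act 7 n19291 = n15431 := d42_1 D19291 (iv D15431) (iv F69062)
def n19292 : Q := act 9 n15100
theorem D19292 : act 9 n15100 = n19292 := rfl
theorem F87424 : act 0 n19292 = n16239 := d8_1 D19292 (iv D16239) (iv F69063)
theorem F87425 : act 1 n19292 = n19292 := d16_1 D19292 (iv D19292) F69064
theorem F87426 : act 4 n19292 = n19292 := d34_1 D19292 (iv D19292) F69065
theorem F87427 : act 5 n19292 = n15723 := d38_1 D19292 (iv D15723) (iv F69066)
theorem F87428 : act 7 n19292 = n15101 := d43_1 D19292 (iv D15101) (iv F69067)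
def n19293 : Q := act 5 n15102
theorem D19293 : act 5 n15102 = n19293 := rfl
theorem F87429 : act 0 n19293 = n15103 := d4_1 D19293 (iv D15103) (iv F69073)
def n19294 : Q := act 7 n15102
theorem D19294 : act 7 n15102 = n19294 := rfl
theorem F87434 : act 0 n19294 = n15104 := d6_1 D19294 (iv D15104) (iv F69073)
def n19295 : Q := act 7 n15103
theorem D19295 : act 7 n15103 = n19295 := rfl
theorem F87438 : act 1 n19295 = n15105 := d14_1 D19295 (iv D15105) (iv F69077)
theorem F87439 : act 2 n19295 = n19295 := d21_1 D19295 (iv D19295) F69078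
theorem F87440 : act 4 n19295 = n19295 := d32_1 D19295 (iv D19295) F69079
theorem F87441 : act 5 n19295 = n15104 := d36_1 D19295 (iv D15104) D15103
def n19296 : Q := act 8 n15103
theorem D19296 : act 8 n15103 = n19296 := rfl
theorem F87442 : act 1 n19296 = n15106 := d15_1 D19296 (iv D15106) (iv F69077)
theorem F87443 : act 2 n19296 = n19296 := d22_1 D19296 (iv D19296) F69078
theorem F87444 : act 4 n19296 = n19296 := d33_1 D19296 (iv D19296) F69079
theorem F87445 : act 6 n19296 = n15436 := d40_1 D19296 (iv D15436) (iv F69080)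
def n19297 : Q := act 6 n15105
theorem D19297 : act 6 n15105 = n19297 := rfl
theorem F87446 : act 0 n19297 = n16244 := d5_1 D19297 (iv D16244) (iv F69084)
theorem F87447 : act 2 n19297 = n15107 := d20_1 D19297 (iv D15107) (iv F69085)
theorem F87448 : act 4 n19297 = n19297 := d31_1 D19297 (iv D19297) F69086
theorem F87449 : act 7 n19297 = n15437 := d39_2 D15105 D19297 (iv D15437) (iv D12013) (iv F54475)
def n19298 : Q := act 8 n15105
theorem D19298 : act 8 n15105 = n19298 := rfl
theorem F87450 : act 0 n19298 = n16245 := d7_1 D19298 (iv D16245) (iv F69084)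
theorem F87451 : act 2 n19298 = n15108 := d22_1 D19298 (iv D15108) (iv F69085)
theorem F87452 : act 4 n19298 = n19298 := d33_1 D19298 (iv D19298) F69086
theorem F87453 : act 7 n19298 = n15106 := d42_1 D19298 (iv D15106) D15105
def n19299 : Q := act 9 n15106
theorem D19299 : act 9 n15106 = n19299 := rfl
theorem F87454 : act 0 n19299 = n16246 := d8_1 D19299 (iv D16246) (iv F69088)
theorem F87455 : act 2 n19299 = n15109 := d23_1 D19299 (iv D15109) (iv F69089)
theorem F87456 : act 4 n19299 = n19299 := d34_1 D19299 (iv D19299) F69090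
theorem F87457 : act 6 n19299 = n15439 := d41_1 D19299 (iv D15439) (iv F69091)
def n19300 : Q := act 8 n15107
theorem D19300 : act 8 n15107 = n19300 := rfl
theorem F87458 : act 0 n19300 = n16247 := d7_1 D19300 (iv D16247) (iv F69092)
theorem F87459 : act 1 n19300 = n19300 := d15_1 D19300 (iv D19300) F69093
theorem F87460 : act 3 n19300 = n15110 := d28_1 D19300 (iv D15110) (iv F69094)
theorem F87461 : act 4 n19300 = n19300 := d33_1 D19300 (iv D19300) F69095
theorem F87462 : act 6 n19300 = n15108 := d40_1 D19300 (iv D15108) D15107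
theorem F87463 : act 7 n19300 = n15440 := d42_1 D19300 (iv D15440) (iv F69096)
def n19301 : Q := act 9 n15108
theorem D19301 : act 9 n15108 = n19301 := rfl
theorem F87464 : act 0 n19301 = n16248 := d8_1 D19301 (iv D16248) (iv F69097)
theorem F87465 : act 1 n19301 = n19301 := d16_1 D19301 (iv D19301) F69098
theorem F87466 : act 3 n19301 = n15111 := d29_1 D19301 (iv D15111) (iv F69099)
theorem F87467 : act 4 n19301 = n19301 := d34_1 D19301 (iv D19301) F69100
theorem F87468 : act 7 n19301 = n15109 := d43_1 D19301 (iv D15109) (iv F69101)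
def n19302 : Q := act 5 n15110
theorem D19302 : act 5 n15110 = n19302 := rfl
theorem F87469 : act 0 n19302 = n16249 := d4_1 D19302 (iv D16249) (iv F69107)
theorem F87470 : act 1 n19302 = n19302 := d12_1 D19302 (iv D19302) F69108
theorem F87471 : act 7 n19302 = n15442 := d36_2 (iv F69111) D19302 (iv D15442)
def n19303 : Q := act 9 n15110
theorem D19303 : act 9 n15110 = n19303 := rfl
theorem F87472 : act 0 n19303 = n16250 := d8_1 D19303 (iv D16250) (iv F69107)
theorem F87473 : act 1 n19303 = n19303 := d16_1 D19303 (iv D19303) F69108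
theorem F87474 : act 4 n19303 = n15113 := d34_1 D19303 (iv D15113) (iv F69109)
theorem F87475 : act 6 n19303 = n15111 := d41_1 D19303 (iv D15111) (iv F69110)
theorem F87476 : act 7 n19303 = n15443 := d43_1 D19303 (iv D15443) (iv F69111)
def n19306 : Q := act 6 n15114
theorem D19306 : act 6 n15114 = n19306 := rfl
theorem F87492 : act 9 n19306 = n15122 := d41_2 (iv F69132) D19306 (iv D15122)
def n19308 : Q := act 7 n15115
theorem D19308 : act 7 n15115 = n19308 := rfl
def n19309 : Q := act 4 n15116
theorem D19309 : act 4 n15116 = n19309 := rfl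
theorem F87505 : act 6 n19309 = n15140 := d31_2 (iv F69140) D19309 (iv D15140)
theorem F87506 : act 9 n19309 = n15125 := d34_2 (iv F69141) D19309 (iv D15125)
def n19312 : Q := act 7 n15118
theorem D19312 : act 7 n15118 = n19312 := rfl
theorem F87518 : act 0 n19312 = n16259 := d6_1 D19312 (iv D16259) (iv F69147)
theorem F87519 : act 1 n19312 = n19312 := d14_1 D19312 (iv D19312) F69148
theorem F87520 : act 3 n19312 = n19312 := d27_1 D19312 (iv D19312) F69149
theorem F87521 : act 4 n19312 = n15119 := d32_1 D19312 (iv D15119) D15118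
theorem F87522 : act 6 n19312 = n19312 := d39_1 D19312 (iv D19312) F69150 F54652 (iv F69150)
theorem F87523 : act 9 n19312 = n15127 := d43_2 (iv F69151) D19312 (iv D15127)
def n19313 : Q := act 8 n15118
theorem D19313 : act 8 n15118 = n19313 := rfl
theorem F87524 : act 0 n19313 = n16260 := d7_1 D19313 (iv D16260) (iv F69147)
theorem F87525 : act 1 n19313 = n19313 := d15_1 D19313 (iv D19313) F69148
theorem F87526 : act 3 n19313 = n19313 := d28_1 D19313 (iv D19313) F69149
theorem F87527 : act 4 n19313 = n15120 := d33_1 D19313 (iv D15120) D15118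
theorem F87528 : act 6 n19313 = n15142 := d40_1 D19313 (iv D15142) (iv F69150)
theorem F87529 : act 9 n19313 = n19313 := d44_2 (iv F69151) D19313 (iv D19313) F69151 F54567
theorem F87530 : act 5 n16915 = n19313 := d35_5 F87528 (iv F69283) (iv D13136) (iv F59967) D16915
def n19314 : Q := act 8 n15119
theorem D19314 : act 8 n15119 = n19314 := rfl
theorem F87531 : act 0 n19314 = n16261 := d7_1 D19314 (iv D16261) (iv F69152)
theorem F87532 : act 1 n19314 = n19314 := d15_1 D19314 (iv D19314) F69153
theorem F87533 : act 3 n19314 = n15121 := d28_1 D19314 (iv D15121) (iv F69154)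
theorem F87534 : act 6 n19314 = n19314 := d40_1 D19314 (iv D19314) F69156
theorem F87535 : act 7 n19314 = n15120 := d42_1 D19314 (iv D15120) D15119
theorem F87536 : act 9 n19314 = n19314 := d44_2 (iv F69157) D19314 (iv D19314) F69157 F54573
def n19315 : Q := act 5 n15122
theorem D19315 : act 5 n15122 = n19315 := rfl
theorem F87541 : act 6 n19315 = n15143 := d35_2 D15122 D19315 (iv D15143) (iv D11803) (iv F54546)
def n19316 : Q := act 7 n15122
theorem D19316 : act 7 n15122 = n19316 := rfl
def n19321 : Q := act 5 n15128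
theorem D19321 : act 5 n15128 = n19321 := rfl
theorem F87573 : act 6 n19321 = n15135 := d35_2 D15128 D19321 (iv D15135) (iv D11795) (iv F54577)
def n19322 : Q := act 7 n15128
theorem D19322 : act 7 n15128 = n19322 := rfl
theorem F87579 : act 6 n19322 = n15134 := d39_1 D19322 (iv D15134) (iv D11793) (iv F54578) D15128
theorem F87580 : act 8 n19322 = n15726 := d42_2 (iv F69205) D19322 (iv D15726)
def n19324 : Q := act 7 n15129
theorem D19324 : act 7 n15129 = n19324 := rfl
theorem F87587 : act 3 n19324 = n16265 := d27_1 D19324 (iv D16265) (iv F69208)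
theorem F87588 : act 5 n19324 = n15130 := d36_1 D19324 (iv D15130) D15129
def n19327 : Q := act 4 n15135
theorem D19327 : act 4 n15135 = n19327 := rfl
theorem F87604 : act 5 n19327 = n15460 := d30_2 D15135 D19327 (iv D15460) (iv D12034) (iv F54616)
def n19328 : Q := act 3 n15136
theorem D19328 : act 3 n15136 = n19328 := rfl
theorem F87608 : act 4 n19328 = n16279 := d24_2 D15136 D19328 (iv D16279) (iv D12650) (iv F54621)
theorem F87609 : act 5 n19328 = n15462 := d25_2 (iv F69244) D19328 (iv D15462)
def n19330 : Q := act 4 n15139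
theorem D19330 : act 4 n15139 = n19330 := rfl
theorem F87618 : act 1 n19330 = n15140 := d11_1 D19330 (iv D15140) (iv F69261)
def n19333 : Q := act 8 n15140
theorem D19333 : act 8 n15140 = n19333 := rfl
theorem F87636 : act 2 n19333 = n15142 := d22_1 D19333 (iv D15142) (iv F69267)
theorem F87640 : act 5 n15875 = n19333 := d19_0 F87636 (iv F69283) (iv F72458)
def n19336 : Q := act 3 n15146
theorem D19336 : act 3 n15146 = n19336 := rfl
theorem F87652 : act 0 n19336 = n15170 := d2_1 D19336 (iv D15170) (iv F69301)
theorem F87653 : act 1 n19336 = n15541 := d10_1 D19336 (iv D15541) (iv F69302)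
theorem F87654 : act 4 n19336 = n15745 := d24_2 D15146 D19336 (iv D15745) (iv D12252) (iv F54680)
theorem F87655 : act 5 n19336 = n15150 := d25_2 (iv F69304) D19336 (iv D15150)
theorem F87656 : act 7 n19336 = n15527 := d27_2 (iv F69305) D19336 (iv D15527)
theorem F87657 : act 9 n19336 = n19336 := d29_2 F69306 D19336 (iv D19336)
def n19337 : Q := act 6 n15146
theorem D19337 : act 6 n15146 = n19337 := rfl
theorem F87658 : act 0 n19337 = n15171 := d5_1 D19337 (iv D15171) (iv F69301)
theorem F87659 : act 1 n19337 = n15542 := d13_1 D19337 (iv D15542) (iv F69302)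
theorem F87660 : act 2 n19337 = n19337 := d20_1 D19337 (iv D19337) F69303
theorem F87661 : act 4 n19337 = n15147 := d31_1 D19337 (iv D15147) D15146
theorem F87662 : act 9 n19337 = n19337 := d41_2 F69306 D19337 (iv D19337)
def n19338 : Q := act 7 n15147
theorem D19338 : act 7 n15147 = n19338 := rfl
theorem F87663 : act 0 n19338 = n15172 := d6_1 D19338 (iv D15172) (iv F69307)
theorem F87664 : act 1 n19338 = n15543 := d14_1 D19338 (iv D15543) (iv F69308)
theorem F87665 : act 2 n19338 = n19338 := d21_1 D19338 (iv D19338) F69309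
theorem F87666 : act 3 n19338 = n15747 := d27_1 D19338 (iv D15747) (iv F69310)
theorem F87667 : act 5 n19338 = n19338 := d36_1 D19338 (iv D19338) F69311
theorem F87668 : act 6 n19338 = n15529 := d39_1 D19338 (iv D15529) (iv D12095) (iv F54681) D15147
theorem F87669 : act 9 n19338 = n19338 := d43_2 F69312 D19338 (iv D19338)
def n19339 : Q := act 3 n15148
theorem D19339 : act 3 n15148 = n19339 := rfl
theorem F87670 : act 0 n19339 = n15175 := d2_1 D19339 (iv D15175) (iv F69313)
theorem F87671 : act 1 n19339 = n15502 := d10_1 D19339 (iv D15502) (iv F69314)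
theorem F87672 : act 4 n19339 = n19339 := d24_2 D15148 D19339 (iv D19339) (iv D15148) F54686
theorem F87673 : act 5 n19339 = n15527 := d25_2 (iv F69316) D19339 (iv D15527)
theorem F87674 : act 7 n19339 = n15150 := d27_2 (iv F69317) D19339 (iv D15150)
theorem F87675 : act 8 n19339 = n15153 := d28_2 (iv F69318) D19339 (iv D15153)
theorem F87676 : act 9 n19339 = n19339 := d29_2 F69319 D19339 (iv D19339)
def n19340 : Q := act 6 n15148
theorem D19340 : act 6 n15148 = n19340 := rfl
theorem F87677 : act 0 n19340 = n15176 := d5_1 D19340 (iv D15176) (iv F69313)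
theorem F87678 : act 1 n19340 = n15503 := d13_1 D19340 (iv D15503) (iv F69314)
theorem F87679 : act 2 n19340 = n19340 := d20_1 D19340 (iv D19340) F69315
theorem F87680 : act 4 n19340 = n15149 := d31_1 D19340 (iv D15149) D15148
theorem F87681 : act 8 n19340 = n15154 := d40_2 (iv F69318) D19340 (iv D15154)
theorem F87682 : act 9 n19340 = n19340 := d41_2 F69319 D19340 (iv D19340)
def n19341 : Q := act 7 n15149
theorem D19341 : act 7 n15149 = n19341 := rfl
theorem F87683 : act 0 n19341 = n15177 := d6_1 D19341 (iv D15177) (iv F69320)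
theorem F87687 : act 5 n19341 = n15501 := d36_1 D19341 (iv D15501) (iv F69324)
theorem F87688 : act 6 n19341 = n15152 := d39_1 D19341 (iv D15152) (iv D11809) (iv F54687) D15149
def n19342 : Q := act 2 n15150
theorem D19342 : act 2 n15150 = n19342 := rfl
theorem F87691 : act 0 n19342 = n15178 := d1_1 D19342 (iv D15178) (iv F69327)
theorem F87692 : act 3 n19342 = n19342 := d17_2 D15150 D19342 (iv D19342) (iv D15150) F54692
theorem F87693 : act 4 n19342 = n19342 := d18_2 F69329 D19342 (iv D19342)
theorem F87694 : act 8 n19342 = n15156 := d22_2 (iv F69330) D19342 (iv D15156)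
theorem F87695 : act 9 n19342 = n19342 := d23_2 F69331 D19342 (iv D19342)
def n19343 : Q := act 6 n15150
theorem D19343 : act 6 n15150 = n19343 := rfl
theorem F87696 : act 0 n19343 = n15179 := d5_1 D19343 (iv D15179) (iv F69327)
theorem F87697 : act 1 n19343 = n16281 := d13_1 D19343 (iv D16281) (iv F69328)
theorem F87698 : act 3 n19343 = n15151 := d26_1 D19343 (iv D15151) D15150
theorem F87699 : act 4 n19343 = n19343 := d31_1 D19343 (iv D19343) F69329
theorem F87700 : act 8 n19343 = n15157 := d40_2 (iv F69330) D19343 (iv D15157)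
theorem F87701 : act 9 n19343 = n19343 := d41_2 F69331 D19343 (iv D19343)
def n19344 : Q := act 5 n15151
theorem D19344 : act 5 n15151 = n19344 := rfl
theorem F87702 : act 0 n19344 = n15180 := d4_1 D19344 (iv D15180) (iv F69332)
theorem F87703 : act 1 n19344 = n16282 := d12_1 D19344 (iv D16282) (iv F69333)
theorem F87704 : act 2 n19344 = n19344 := d19_1 D19344 (iv D19344) F69334
theorem F87705 : act 4 n19344 = n19344 := d30_1 D19344 (iv D19344) F69335 F54699 (iv F69335)
theorem F87706 : act 9 n19344 = n19344 := d38_2 F69337 D19344 (iv D19344)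
def n19345 : Q := act 7 n15151
theorem D19345 : act 7 n15151 = n19345 := rfl
theorem F87707 : act 0 n19345 = n15181 := d6_1 D19345 (iv D15181) (iv F69332)
theorem F87711 : act 8 n19345 = n15159 := d42_2 (iv F69336) D19345 (iv D15159)
def n19346 : Q := act 2 n15153
theorem D19346 : act 2 n15153 = n19346 := rfl
theorem F87713 : act 0 n19346 = n15182 := d1_1 D19346 (iv D15182) (iv F69345)
theorem F87714 : act 3 n19346 = n19346 := d17_2 D15153 D19346 (iv D19346) (iv D15153) F54704
theorem F87715 : act 4 n19346 = n19346 := d18_2 F69347 D19346 (iv D19346)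
theorem F87716 : act 7 n19346 = n15156 := d21_2 (iv F69348) D19346 (iv D15156)
theorem F87717 : act 9 n19346 = n15344 := d23_2 (iv F69349) D19346 (iv D15344)
def n19347 : Q := act 6 n15153
theorem D19347 : act 6 n15153 = n19347 := rfl
theorem F87718 : act 0 n19347 = n15183 := d5_1 D19347 (iv D15183) (iv F69345)
theorem F87719 : act 1 n19347 = n16285 := d13_1 D19347 (iv D16285) (iv F69346)
theorem F87720 : act 3 n19347 = n15154 := d26_1 D19347 (iv D15154) D15153
theorem F87721 : act 4 n19347 = n19347 := d31_1 D19347 (iv D19347) F69347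
theorem F87722 : act 9 n19347 = n15345 := d41_2 (iv F69349) D19347 (iv D15345)
def n19348 : Q := act 5 n15154
theorem D19348 : act 5 n15154 = n19348 := rfl
theorem F87723 : act 0 n19348 = n15184 := d4_1 D19348 (iv D15184) (iv F69350)
theorem F87724 : act 1 n19348 = n16286 := d12_1 D19348 (iv D16286) (iv F69351)
theorem F87725 : act 2 n19348 = n19348 := d19_1 D19348 (iv D19348) F69352
theorem F87726 : act 4 n19348 = n19348 := d30_1 D19348 (iv D19348) F69353 F54711 (iv F69353)
theorem F87727 : act 9 n19348 = n15346 := d38_2 (iv F69354) D19348 (iv D15346)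
def n19349 : Q := act 7 n15154
theorem D19349 : act 7 n15154 = n19349 := rfl
theorem F87728 : act 0 n19349 = n15185 := d6_1 D19349 (iv D15185) (iv F69350)
theorem F87732 : act 6 n19349 = n15159 := d39_1 D19349 (iv D15159) (iv D11813) (iv F54705) D15154
def n19350 : Q := act 1 n15156
theorem D19350 : act 1 n15156 = n19350 := rfl
theorem F87734 : act 2 n19350 = n16288 := d9_2 D15156 D19350 (iv D16288) (iv D12658) (iv F54714)
theorem F87735 : act 3 n19350 = n19350 := d10_2 F69363 D19350 (iv D19350)
theorem F87736 : act 4 n19350 = n19350 := d11_2 F69364 D19350 (iv D19350)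
theorem F87737 : act 9 n19350 = n15348 := d16_2 (iv F69365) D19350 (iv D15348)
def n19351 : Q := act 6 n15156
theorem D19351 : act 6 n15156 = n19351 := rfl
theorem F87738 : act 0 n19351 = n15187 := d5_1 D19351 (iv D15187) (iv F69362)
theorem F87739 : act 2 n19351 = n15157 := d20_1 D19351 (iv D15157) D15156
theorem F87740 : act 3 n19351 = n19351 := d26_1 D19351 (iv D19351) F69363
theorem F87741 : act 4 n19351 = n19351 := d31_1 D19351 (iv D19351) F69364
theorem F87742 : act 9 n19351 = n15349 := d41_2 (iv F69365) D19351 (iv D15349)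
def n19352 : Q := act 5 n15157
theorem D19352 : act 5 n15157 = n19352 := rfl
theorem F87743 : act 0 n19352 = n15188 := d4_1 D19352 (iv D15188) (iv F69366)
theorem F87744 : act 1 n19352 = n16290 := d12_1 D19352 (iv D16290) (iv F69367)
theorem F87746 : act 9 n19352 = n15350 := d38_2 (iv F69370) D19352 (iv D15350)
def n19353 : Q := act 7 n15157
theorem D19353 : act 7 n15157 = n19353 := rfl
theorem F87747 : act 0 n19353 = n15189 := d6_1 D19353 (iv D15189) (iv F69366)
def n19354 : Q := act 7 n15158
theorem D19354 : act 7 n15158 = n19354 := rfl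
theorem F87752 : act 0 n19354 = n15190 := d6_1 D19354 (iv D15190) (iv F69371)
theorem F87753 : act 1 n19354 = n16292 := d14_1 D19354 (iv D16292) (iv F69372)
def n19355 : Q := act 8 n15158
theorem D19355 : act 8 n15158 = n19355 := rfl
theorem F87758 : act 0 n19355 = n15191 := d7_1 D19355 (iv D15191) (iv F69371)
def n19356 : Q := act 6 n15160
theorem D19356 : act 6 n15160 = n19356 := rfl
theorem F87764 : act 2 n19356 = n16294 := d20_1 D19356 (iv D16294) (iv F69382)
theorem F87768 : act 9 n19356 = n15354 := d41_2 (iv F69387) D19356 (iv D15354)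
theorem F87769 : act 5 n17931 = n19356 := d38_3 F87768 (iv F70311) D17931
def n19357 : Q := act 5 n15161
theorem D19357 : act 5 n15161 = n19357 := rfl
theorem F87772 : act 2 n19357 = n15162 := d19_1 D19357 (iv D15162) (iv F69389)
theorem F87774 : act 9 n19357 = n15355 := d38_2 (iv F69393) D19357 (iv D15355)
def n19359 : Q := act 4 n15162
theorem D19359 : act 4 n15162 = n19359 := rfl
theorem F87783 : act 0 n19359 = n15194 := d3_1 D19359 (iv D15194) (iv F69394)
theorem F87784 : act 1 n19359 = n16297 := d11_1 D19359 (iv D16297) (iv F69395)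
theorem F87787 : act 9 n19359 = n15357 := d34_2 (iv F69397) D19359 (iv D15357)
def n19360 : Q := act 7 n15162
theorem D19360 : act 7 n15162 = n19360 := rfl
theorem F87792 : act 9 n19360 = n15358 := d43_2 (iv F69397) D19360 (iv D15358)
def n19361 : Q := act 8 n15162
theorem D19361 : act 8 n15162 = n19361 := rfl
theorem F87793 : act 0 n19361 = n15196 := d7_1 D19361 (iv D15196) (iv F69394)
theorem F87794 : act 1 n19361 = n16299 := d15_1 D19361 (iv D16299) (iv F69395)
def n19364 : Q := act 9 n15165
theorem D19364 : act 9 n15165 = n19364 := rfl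
theorem F87807 : act 0 n19364 = n15199 := d8_1 D19364 (iv D15199) (iv F69410)
theorem F87808 : act 1 n19364 = n16302 := d16_1 D19364 (iv D16302) (iv F69411)
theorem F87811 : act 8 n19364 = n15362 := d44_1 D19364 (iv D15362) (iv D11958) (iv F54743) D15165
def n19365 : Q := act 3 n15166
theorem D19365 : act 3 n15166 = n19365 := rfl
theorem F87812 : act 0 n19365 = n15745 := d2_1 D19365 (iv D15745) (iv F69414)
theorem F87813 : act 1 n19365 = n15200 := d10_1 D19365 (iv D15200) (iv F69415)
theorem F87814 : act 4 n19365 = n15170 := d24_2 D15166 D19365 (iv D15170) (iv D11821) (iv F54754)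
theorem F87815 : act 5 n19365 = n19365 := d25_2 F69417 D19365 (iv D19365)
theorem F87816 : act 7 n19365 = n15729 := d27_2 (iv F69418) D19365 (iv D15729)
theorem F87817 : act 9 n19365 = n19365 := d29_2 F69419 D19365 (iv D19365)
def n19366 : Q := act 6 n15166
theorem D19366 : act 6 n15166 = n19366 := rfl
theorem F87818 : act 0 n19366 = n15746 := d5_1 D19366 (iv D15746) (iv F69414)
theorem F87819 : act 1 n19366 = n15201 := d13_1 D19366 (iv D15201) (iv F69415)
theorem F87820 : act 2 n19366 = n16744 := d20_1 D19366 (iv D16744) (iv F69416)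
theorem F87821 : act 4 n19366 = n15167 := d31_1 D19366 (iv D15167) D15166
theorem F87822 : act 9 n19366 = n19366 := d41_2 F69419 D19366 (iv D19366)
def n19367 : Q := act 7 n15167
theorem D19367 : act 7 n15167 = n19367 := rfl
theorem F87823 : act 0 n19367 = n15747 := d6_1 D19367 (iv D15747) (iv F69420)
theorem F87824 : act 1 n19367 = n15202 := d14_1 D19367 (iv D15202) (iv F69421)
theorem F87825 : act 2 n19367 = n16745 := d21_1 D19367 (iv D16745) (iv F69422)
theorem F87826 : act 3 n19367 = n15172 := d27_1 D19367 (iv D15172) (iv F69423)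
theorem F87827 : act 5 n19367 = n19367 := d36_1 D19367 (iv D19367) F69424
theorem F87828 : act 6 n19367 = n15731 := d39_1 D19367 (iv D15731) (iv D12243) (iv F54755) D15167
theorem F87829 : act 9 n19367 = n19367 := d43_2 F69425 D19367 (iv D19367)
def n19368 : Q := act 3 n15168
theorem D19368 : act 3 n15168 = n19368 := rfl
theorem F87830 : act 0 n19368 = n15527 := d2_1 D19368 (iv D15527) (iv F69426)
theorem F87831 : act 1 n19368 = n15203 := d10_1 D19368 (iv D15203) (iv F69427)
theorem F87832 : act 4 n19368 = n15729 := d24_2 D15168 D19368 (iv D15729) (iv D12242) (iv F54760)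
theorem F87833 : act 5 n19368 = n15175 := d25_2 (iv F69429) D19368 (iv D15175)
theorem F87834 : act 7 n19368 = n15170 := d27_2 (iv F69430) D19368 (iv D15170)
theorem F87835 : act 9 n19368 = n19368 := d29_2 F69431 D19368 (iv D19368)
def n19369 : Q := act 6 n15168
theorem D19369 : act 6 n15168 = n19369 := rfl
theorem F87836 : act 0 n19369 = n15528 := d5_1 D19369 (iv D15528) (iv F69426)
theorem F87837 : act 1 n19369 = n15204 := d13_1 D19369 (iv D15204) (iv F69427)
theorem F87838 : act 2 n19369 = n19369 := d20_1 D19369 (iv D19369) F69428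
theorem F87839 : act 4 n19369 = n15169 := d31_1 D19369 (iv D15169) D15168
theorem F87840 : act 9 n19369 = n19369 := d41_2 F69431 D19369 (iv D19369)
def n19370 : Q := act 7 n15169
theorem D19370 : act 7 n15169 = n19370 := rfl
theorem F87841 : act 0 n19370 = n15529 := d6_1 D19370 (iv D15529) (iv F69432)
theorem F87842 : act 1 n19370 = n15205 := d14_1 D19370 (iv D15205) (iv F69433)
theorem F87843 : act 2 n19370 = n19370 := d21_1 D19370 (iv D19370) F69434
theorem F87844 : act 3 n19370 = n15731 := d27_1 D19370 (iv D15731) (iv F69435)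
theorem F87845 : act 5 n19370 = n15524 := d36_1 D19370 (iv D15524) (iv F69436)
theorem F87846 : act 6 n19370 = n15172 := d39_1 D19370 (iv D15172) (iv D11822) (iv F54761) D15169
theorem F87847 : act 9 n19370 = n19370 := d43_2 F69437 D19370 (iv D19370)
def n19371 : Q := act 2 n15170
theorem D19371 : act 2 n15170 = n19371 := rfl
theorem F87848 : act 3 n19371 = n19371 := d17_2 D15170 D19371 (iv D19371) (iv D15170) F54764
theorem F87849 : act 5 n19371 = n15178 := d19_2 (iv F69439) D19371 (iv D15178)
theorem F87850 : act 9 n19371 = n19371 := d23_2 F69440 D19371 (iv D19371)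
def n19372 : Q := act 6 n15170
theorem D19372 : act 6 n15170 = n19372 := rfl
theorem F87851 : act 1 n19372 = n15207 := d13_1 D19372 (iv D15207) (iv F69438)
theorem F87852 : act 3 n19372 = n15171 := d26_1 D19372 (iv D15171) D15170
theorem F87853 : act 9 n19372 = n19372 := d41_2 F69440 D19372 (iv D19372)
def n19373 : Q := act 5 n15171
theorem D19373 : act 5 n15171 = n19373 := rfl
theorem F87854 : act 1 n19373 = n15208 := d12_1 D19373 (iv D15208) (iv F69441)
theorem F87855 : act 2 n19373 = n19373 := d19_1 D19373 (iv D19373) F69442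
theorem F87856 : act 4 n19373 = n19373 := d30_1 D19373 (iv D19373) F69443 F54769 (iv F69443)
theorem F87857 : act 6 n19373 = n15180 := d35_2 D15171 D19373 (iv D15180) (iv D11827) (iv F54765)
theorem F87858 : act 9 n19373 = n19373 := d38_2 F69444 D19373 (iv D19373)
def n19374 : Q := act 7 n15171
theorem D19374 : act 7 n15171 = n19374 := rfl
theorem F87859 : act 1 n19374 = n15209 := d14_1 D19374 (iv D15209) (iv F69441)
theorem F87860 : act 2 n19374 = n19374 := d21_1 D19374 (iv D19374) F69442
theorem F87861 : act 4 n19374 = n15172 := d32_1 D19374 (iv D15172) (iv F69443)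
theorem F87862 : act 9 n19374 = n19374 := d43_2 F69444 D19374 (iv D19374)
def n19375 : Q := act 3 n15173
theorem D19375 : act 3 n15173 = n19375 := rfl
theorem F87863 : act 0 n19375 = n15499 := d2_1 D19375 (iv D15499) (iv F69449)
theorem F87866 : act 5 n19375 = n15522 := d25_2 (iv F69452) D19375 (iv D15522)
def n19376 : Q := act 6 n15173
theorem D19376 : act 6 n15173 = n19376 := rfl
theorem F87870 : act 0 n19376 = n15500 := d5_1 D19376 (iv D15500) (iv F69449)
theorem F87873 : act 4 n19376 = n15174 := d31_1 D19376 (iv D15174) D15173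
def n19377 : Q := act 7 n15174
theorem D19377 : act 7 n15174 = n19377 := rfl
theorem F87880 : act 5 n19377 = n15177 := d36_1 D19377 (iv D15177) (iv F69460)
def n19378 : Q := act 2 n15175
theorem D19378 : act 2 n15175 = n19378 := rfl
theorem F87884 : act 3 n19378 = n19378 := d17_2 D15175 D19378 (iv D19378) (iv D15175) F54779
theorem F87885 : act 4 n19378 = n19378 := d18_2 F69464 D19378 (iv D19378)
theorem F87886 : act 7 n19378 = n15178 := d21_2 (iv F69465) D19378 (iv D15178)
theorem F87887 : act 8 n19378 = n15182 := d22_2 (iv F69466) D19378 (iv D15182)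
theorem F87888 : act 9 n19378 = n19378 := d23_2 F69467 D19378 (iv D19378)
def n19379 : Q := act 6 n15175
theorem D19379 : act 6 n15175 = n19379 := rfl
theorem F87889 : act 1 n19379 = n15214 := d13_1 D19379 (iv D15214) (iv F69463)
theorem F87890 : act 3 n19379 = n15176 := d26_1 D19379 (iv D15176) D15175
theorem F87891 : act 4 n19379 = n19379 := d31_1 D19379 (iv D19379) F69464
theorem F87892 : act 8 n19379 = n15183 := d40_2 (iv F69466) D19379 (iv D15183)
theorem F87893 : act 9 n19379 = n19379 := d41_2 F69467 D19379 (iv D19379)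
def n19380 : Q := act 5 n15176
theorem D19380 : act 5 n15176 = n19380 := rfl
theorem F87894 : act 1 n19380 = n15215 := d12_1 D19380 (iv D15215) (iv F69468)
theorem F87895 : act 2 n19380 = n19380 := d19_1 D19380 (iv D19380) F69469
theorem F87896 : act 9 n19380 = n19380 := d38_2 F69472 D19380 (iv D19380)
def n19381 : Q := act 7 n15176
theorem D19381 : act 7 n15176 = n19381 := rfl
theorem F87897 : act 1 n19381 = n15216 := d14_1 D19381 (iv D15216) (iv F69468)
theorem F87898 : act 2 n19381 = n19381 := d21_1 D19381 (iv D19381) F69469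
theorem F87899 : act 4 n19381 = n15177 := d32_1 D19381 (iv D15177) (iv F69470)
theorem F87900 : act 6 n19381 = n15181 := d39_1 D19381 (iv D15181) (iv D11827) (iv F54780) D15176
theorem F87901 : act 8 n19381 = n15185 := d42_2 (iv F69471) D19381 (iv D15185)
theorem F87902 : act 9 n19381 = n19381 := d43_2 F69472 D19381 (iv D19381)
def n19382 : Q := act 1 n15178
theorem D19382 : act 1 n15178 = n19382 := rfl
theorem F87903 : act 2 n19382 = n15217 := d9_2 D15178 D19382 (iv D15217) (iv D11853) (iv F54788)
theorem F87904 : act 3 n19382 = n19382 := d10_2 F69479 D19382 (iv D19382)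
theorem F87905 : act 4 n19382 = n19382 := d11_2 F69480 D19382 (iv D19382)
theorem F87906 : act 8 n19382 = n15186 := d15_2 (iv F69481) D19382 (iv D15186)
theorem F87907 : act 9 n19382 = n19382 := d16_2 F69482 D19382 (iv D19382)
def n19383 : Q := act 6 n15178
theorem D19383 : act 6 n15178 = n19383 := rfl
theorem F87908 : act 2 n19383 = n15179 := d20_1 D19383 (iv D15179) D15178
theorem F87909 : act 3 n19383 = n19383 := d26_1 D19383 (iv D19383) F69479
theorem F87910 : act 4 n19383 = n19383 := d31_1 D19383 (iv D19383) F69480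
theorem F87911 : act 8 n19383 = n15187 := d40_2 (iv F69481) D19383 (iv D15187)
theorem F87912 : act 9 n19383 = n19383 := d41_2 F69482 D19383 (iv D19383)
def n19384 : Q := act 5 n15179
theorem D19384 : act 5 n15179 = n19384 := rfl
theorem F87913 : act 1 n19384 = n15219 := d12_1 D19384 (iv D15219) (iv F69483)
theorem F87914 : act 3 n19384 = n15180 := d25_1 D19384 (iv D15180) (iv F69484)
theorem F87915 : act 9 n19384 = n19384 := d38_2 F69487 D19384 (iv D19384)
def n19385 : Q := act 7 n15179
theorem D19385 : act 7 n15179 = n19385 := rfl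
theorem F87916 : act 1 n19385 = n15220 := d14_1 D19385 (iv D15220) (iv F69483)
theorem F87917 : act 3 n19385 = n15181 := d27_1 D19385 (iv D15181) (iv F69484)
theorem F87918 : act 4 n19385 = n19385 := d32_1 D19385 (iv D19385) F69485
theorem F87919 : act 8 n19385 = n15189 := d42_2 (iv F69486) D19385 (iv D15189)
theorem F87920 : act 9 n19385 = n19385 := d43_2 F69487 D19385 (iv D19385)
def n19386 : Q := act 7 n15180
theorem D19386 : act 7 n15180 = n19386 := rfl
theorem F87921 : act 1 n19386 = n15221 := d14_1 D19386 (iv D15221) (iv F69488)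
theorem F87922 : act 2 n19386 = n19386 := d21_1 D19386 (iv D19386) F69489
theorem F87923 : act 4 n19386 = n19386 := d32_1 D19386 (iv D19386) F69490
theorem F87924 : act 5 n19386 = n15181 := d36_1 D19386 (iv D15181) D15180
theorem F87925 : act 9 n19386 = n19386 := d43_2 F69491 D19386 (iv D19386)
def n19387 : Q := act 8 n15180
theorem D19387 : act 8 n15180 = n19387 := rfl
theorem F87926 : act 1 n19387 = n15222 := d15_1 D19387 (iv D15222) (iv F69488)
theorem F87927 : act 2 n19387 = n19387 := d22_1 D19387 (iv D19387) F69489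
theorem F87928 : act 4 n19387 = n19387 := d33_1 D19387 (iv D19387) F69490
theorem F87929 : act 5 n19387 = n15191 := d37_1 D19387 (iv D15191) (iv D11834) (iv F54795) D15180
def n19388 : Q := act 1 n15182
theorem D19388 : act 1 n15182 = n19388 := rfl
theorem F87930 : act 2 n19388 = n15223 := d9_2 D15182 D19388 (iv D15223) (iv D11857) (iv F54803)
theorem F87933 : act 7 n19388 = n15186 := d14_2 (iv F69499) D19388 (iv D15186)
def n19389 : Q := act 6 n15182
theorem D19389 : act 6 n15182 = n19389 := rfl
theorem F87935 : act 2 n19389 = n15183 := d20_1 D19389 (iv D15183) D15182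
def n19390 : Q := act 5 n15183
theorem D19390 : act 5 n15183 = n19390 := rfl
theorem F87939 : act 1 n19390 = n15225 := d12_1 D19390 (iv D15225) (iv F69501)
theorem F87940 : act 3 n19390 = n15184 := d25_1 D19390 (iv D15184) (iv F69502)
theorem F87941 : act 9 n19390 = n15365 := d38_2 (iv F69504) D19390 (iv D15365)
def n19391 : Q := act 7 n15183
theorem D19391 : act 7 n15183 = n19391 := rfl
theorem F87942 : act 1 n19391 = n15226 := d14_1 D19391 (iv D15226) (iv F69501)
theorem F87943 : act 3 n19391 = n15185 := d27_1 D19391 (iv D15185) (iv F69502)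
theorem F87944 : act 4 n19391 = n19391 := d32_1 D19391 (iv D19391) F69503
theorem F87945 : act 6 n19391 = n15189 := d39_1 D19391 (iv D15189) (iv D11833) (iv F54805) D15183
theorem F87946 : act 9 n19391 = n15366 := d43_2 (iv F69504) D19391 (iv D15366)
def n19392 : Q := act 7 n15184
theorem D19392 : act 7 n15184 = n19392 := rfl
theorem F87947 : act 1 n19392 = n15227 := d14_1 D19392 (iv D15227) (iv F69505)
theorem F87948 : act 2 n19392 = n19392 := d21_1 D19392 (iv D19392) F69506
theorem F87949 : act 4 n19392 = n19392 := d32_1 D19392 (iv D19392) F69507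
theorem F87950 : act 5 n19392 = n15185 := d36_1 D19392 (iv D15185) D15184
theorem F87951 : act 9 n19392 = n15367 := d43_2 (iv F69508) D19392 (iv D15367)
def n19393 : Q := act 8 n15184
theorem D19393 : act 8 n15184 = n19393 := rfl
theorem F87952 : act 1 n19393 = n15228 := d15_1 D19393 (iv D15228) (iv F69505)
theorem F87953 : act 2 n19393 = n19393 := d22_1 D19393 (iv D19393) F69506
theorem F87954 : act 4 n19393 = n19393 := d33_1 D19393 (iv D19393) F69507
def n19394 : Q := act 0 n15186
theorem D19394 : act 0 n15186 = n19394 := rfl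
theorem F87955 : act 2 n19394 = n15229 := d1_2 (iv F69514) D19394 (iv D15229)
theorem F87956 : act 3 n19394 = n19394 := d2_2 F69515 D19394 (iv D19394)
theorem F87957 : act 4 n19394 = n19394 := d3_2 F69516 D19394 (iv D19394)
theorem F87958 : act 9 n19394 = n15369 := d8_2 (iv F69517) D19394 (iv D15369)
def n19395 : Q := act 6 n15186
theorem D19395 : act 6 n15186 = n19395 := rfl
theorem F87959 : act 1 n19395 = n15187 := d13_1 D19395 (iv D15187) D15186
theorem F87960 : act 2 n19395 = n15230 := d20_1 D19395 (iv D15230) (iv F69514)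
theorem F87961 : act 3 n19395 = n19395 := d26_1 D19395 (iv D19395) F69515
theorem F87962 : act 4 n19395 = n19395 := d31_1 D19395 (iv D19395) F69516
theorem F87963 : act 9 n19395 = n15370 := d41_2 (iv F69517) D19395 (iv D15370)
def n19396 : Q := act 5 n15187
theorem D19396 : act 5 n15187 = n19396 := rfl
theorem F87964 : act 2 n19396 = n15188 := d19_1 D19396 (iv D15188) (iv F69518)
theorem F87965 : act 3 n19396 = n19396 := d25_1 D19396 (iv D19396) F69519
theorem F87966 : act 9 n19396 = n15371 := d38_2 (iv F69521) D19396 (iv D15371)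
def n19397 : Q := act 7 n15187
theorem D19397 : act 7 n15187 = n19397 := rfl
theorem F87967 : act 2 n19397 = n15189 := d21_1 D19397 (iv D15189) (iv F69518)
def n19398 : Q := act 4 n15188
theorem D19398 : act 4 n15188 = n19398 := rfl
theorem F87971 : act 1 n19398 = n15233 := d11_1 D19398 (iv D15233) (iv F69522)
theorem F87972 : act 3 n19398 = n15194 := d24_1 D19398 (iv D15194) F54839 (iv F54826) (iv F69523)
theorem F87973 : act 5 n19398 = n19398 := d30_2 D15188 D19398 (iv D19398) (iv D15188) F54822
theorem F87974 : act 9 n19398 = n15373 := d34_2 (iv F69524) D19398 (iv D15373)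
def n19399 : Q := act 7 n15188
theorem D19399 : act 7 n15188 = n19399 := rfl
theorem F87977 : act 5 n19399 = n15189 := d36_1 D19399 (iv D15189) D15188
def n19400 : Q := act 8 n15188
theorem D19400 : act 8 n15188 = n19400 := rfl
theorem F87979 : act 1 n19400 = n15235 := d15_1 D19400 (iv D15235) (iv F69522)
theorem F87980 : act 3 n19400 = n15191 := d28_1 D19400 (iv D15191) (iv F69523)
def n19401 : Q := act 6 n15190
theorem D19401 : act 6 n15190 = n19401 := rfl
theorem F87981 : act 1 n19401 = n15236 := d13_1 D19401 (iv D15236) (iv F69529)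
def n19402 : Q := act 8 n15190
theorem D19402 : act 8 n15190 = n19402 := rfl
def n19403 : Q := act 9 n15191
theorem D19403 : act 9 n15191 = n19403 := rfl
theorem F87989 : act 1 n19403 = n15238 := d16_1 D19403 (iv D15238) (iv F69534)
theorem F87990 : act 2 n19403 = n19403 := d23_1 D19403 (iv D19403) F69535
theorem F87991 : act 4 n19403 = n15199 := d34_1 D19403 (iv D15199) (iv F69536)
def n19407 : Q := act 7 n15194
theorem D19407 : act 7 n15194 = n19407 := rfl
theorem F88008 : act 1 n19407 = n15239 := d14_1 D19407 (iv D15239) (iv F69548)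
theorem F88011 : act 9 n19407 = n15382 := d43_2 (iv F69550) D19407 (iv D15382)
def n19408 : Q := act 8 n15194
theorem D19408 : act 8 n15194 = n19408 := rfl
theorem F88012 : act 1 n19408 = n15240 := d15_1 D19408 (iv D15240) (iv F69548)
theorem F88013 : act 4 n19408 = n15196 := d33_1 D19408 (iv D15196) D15194
def n19409 : Q := act 6 n15195
theorem D19409 : act 6 n15195 = n19409 := rfl
theorem F88014 : act 1 n19409 = n15241 := d13_1 D19409 (iv D15241) (iv F69551)
theorem F88015 : act 3 n19409 = n15197 := d26_1 D19409 (iv D15197) (iv F69552)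
theorem F88017 : act 9 n19409 = n15384 := d41_2 (iv F69554) D19409 (iv D15384)
def n19412 : Q := act 8 n15197
theorem D19412 : act 8 n15197 = n19412 := rfl
theorem F88026 : act 1 n19412 = n15244 := d15_1 D19412 (iv D15244) (iv F69558)
def n19413 : Q := act 9 n15198
theorem D19413 : act 9 n15198 = n19413 := rfl
theorem F88032 : act 7 n19413 = n15199 := d43_1 D19413 (iv D15199) (iv F69565)
theorem F88033 : act 8 n19413 = n15388 := d44_1 D19413 (iv D15388) (iv D11975) (iv F54850) D15198
def n19414 : Q := act 2 n15200
theorem D19414 : act 2 n15200 = n19414 := rfl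
theorem F88034 : act 0 n19414 = n16343 := d1_1 D19414 (iv D16343) (iv F69570)
theorem F88035 : act 3 n19414 = n19414 := d17_2 D15200 D19414 (iv D19414) (iv D15200) F54855
theorem F88036 : act 4 n19414 = n15206 := d18_2 (iv F69571) D19414 (iv D15206)
theorem F88037 : act 5 n19414 = n19414 := d19_2 F69572 D19414 (iv D19414)
theorem F88038 : act 9 n19414 = n19414 := d23_2 F69573 D19414 (iv D19414)
def n19415 : Q := act 6 n15200
theorem D19415 : act 6 n15200 = n19415 := rfl
theorem F88039 : act 0 n19415 = n16344 := d5_1 D19415 (iv D16344) (iv F69570)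
theorem F88040 : act 3 n19415 = n15201 := d26_1 D19415 (iv D15201) D15200
theorem F88041 : act 4 n19415 = n15207 := d31_1 D19415 (iv D15207) (iv F69571)
theorem F88042 : act 9 n19415 = n19415 := d41_2 F69573 D19415 (iv D19415)
def n19416 : Q := act 5 n15201
theorem D19416 : act 5 n15201 = n19416 := rfl
theorem F88043 : act 0 n19416 = n16345 := d4_1 D19416 (iv D16345) (iv F69574)
theorem F88044 : act 2 n19416 = n19416 := d19_1 D19416 (iv D19416) F69575
theorem F88045 : act 4 n19416 = n19416 := d30_1 D19416 (iv D19416) F69576 F54861 (iv F69576)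
theorem F88046 : act 6 n19416 = n19416 := d35_2 D15201 D19416 (iv D19416) (iv D15201) F54856
theorem F88047 : act 9 n19416 = n19416 := d38_2 F69577 D19416 (iv D19416)
def n19417 : Q := act 7 n15201
theorem D19417 : act 7 n15201 = n19417 := rfl
theorem F88048 : act 0 n19417 = n16346 := d6_1 D19417 (iv D16346) (iv F69574)
theorem F88049 : act 2 n19417 = n19417 := d21_1 D19417 (iv D19417) F69575
theorem F88050 : act 4 n19417 = n15202 := d32_1 D19417 (iv D15202) (iv F69576)
theorem F88051 : act 9 n19417 = n19417 := d43_2 F69577 D19417 (iv D19417)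
def n19418 : Q := act 2 n15203
theorem D19418 : act 2 n15203 = n19418 := rfl
theorem F88053 : act 3 n19418 = n15249 := d17_2 D15203 D19418 (iv D15249) (iv D11875) (iv F54864)
theorem F88054 : act 5 n19418 = n15213 := d19_2 (iv F69584) D19418 (iv D15213)
theorem F88055 : act 7 n19418 = n15206 := d21_2 (iv F69585) D19418 (iv D15206)
theorem F88056 : act 9 n19418 = n19418 := d23_2 F69586 D19418 (iv D19418)
def n19419 : Q := act 6 n15203
theorem D19419 : act 6 n15203 = n19419 := rfl
theorem F88057 : act 0 n19419 = n16348 := d5_1 D19419 (iv D16348) (iv F69583)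
theorem F88058 : act 3 n19419 = n15204 := d26_1 D19419 (iv D15204) D15203
theorem F88059 : act 9 n19419 = n19419 := d41_2 F69586 D19419 (iv D19419)
def n19420 : Q := act 5 n15204
theorem D19420 : act 5 n15204 = n19420 := rfl
theorem F88060 : act 0 n19420 = n16349 := d4_1 D19420 (iv D16349) (iv F69587)
theorem F88061 : act 2 n19420 = n15251 := d19_1 D19420 (iv D15251) (iv F69588)
theorem F88062 : act 6 n19420 = n15215 := d35_2 D15204 D19420 (iv D15215) (iv D11851) (iv F54865)
theorem F88063 : act 9 n19420 = n19420 := d38_2 F69590 D19420 (iv D19420)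
def n19421 : Q := act 7 n15204
theorem D19421 : act 7 n15204 = n19421 := rfl
theorem F88064 : act 0 n19421 = n16350 := d6_1 D19421 (iv D16350) (iv F69587)
theorem F88065 : act 2 n19421 = n15252 := d21_1 D19421 (iv D15252) (iv F69588)
theorem F88066 : act 4 n19421 = n15205 := d32_1 D19421 (iv D15205) (iv F69589)
theorem F88067 : act 6 n19421 = n15209 := d39_1 D19421 (iv D15209) (iv D11846) (iv F54866) D15204
theorem F88068 : act 9 n19421 = n19421 := d43_2 F69590 D19421 (iv D19421)
def n19422 : Q := act 1 n15206
theorem D19422 : act 1 n15206 = n19422 := rfl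
theorem F88069 : act 3 n19422 = n15253 := d10_2 (iv F69596) D19422 (iv D15253)
theorem F88070 : act 5 n19422 = n15217 := d12_2 (iv F69597) D19422 (iv D15217)
theorem F88071 : act 9 n19422 = n19422 := d16_2 F69598 D19422 (iv D19422)
def n19423 : Q := act 6 n15206
theorem D19423 : act 6 n15206 = n19423 := rfl
theorem F88072 : act 0 n19423 = n16352 := d5_1 D19423 (iv D16352) (iv F69595)
theorem F88073 : act 2 n19423 = n15207 := d20_1 D19423 (iv D15207) D15206
theorem F88074 : act 3 n19423 = n15254 := d26_1 D19423 (iv D15254) (iv F69596)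
theorem F88075 : act 9 n19423 = n19423 := d41_2 F69598 D19423 (iv D19423)
def n19424 : Q := act 5 n15207
theorem D19424 : act 5 n15207 = n19424 := rfl
theorem F88076 : act 0 n19424 = n16353 := d4_1 D19424 (iv D16353) (iv F69599)
theorem F88077 : act 3 n19424 = n15208 := d25_1 D19424 (iv D15208) (iv F69600)
theorem F88078 : act 6 n19424 = n15219 := d35_2 D15207 D19424 (iv D15219) (iv D11854) (iv F54872)
theorem F88079 : act 9 n19424 = n19424 := d38_2 F69601 D19424 (iv D19424)
def n19425 : Q := act 7 n15207
theorem D19425 : act 7 n15207 = n19425 := rfl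
theorem F88080 : act 0 n19425 = n16354 := d6_1 D19425 (iv D16354) (iv F69599)
theorem F88081 : act 3 n19425 = n15209 := d27_1 D19425 (iv D15209) (iv F69600)
theorem F88082 : act 9 n19425 = n19425 := d43_2 F69601 D19425 (iv D19425)
def n19426 : Q := act 7 n15208
theorem D19426 : act 7 n15208 = n19426 := rfl
theorem F88083 : act 0 n19426 = n16355 := d6_1 D19426 (iv D16355) (iv F69602)
theorem F88084 : act 2 n19426 = n15257 := d21_1 D19426 (iv D15257) (iv F69603)
theorem F88085 : act 4 n19426 = n19426 := d32_1 D19426 (iv D19426) F69604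
theorem F88086 : act 5 n19426 = n15209 := d36_1 D19426 (iv D15209) D15208
theorem F88087 : act 9 n19426 = n19426 := d43_2 F69606 D19426 (iv D19426)
def n19427 : Q := act 8 n15208
theorem D19427 : act 8 n15208 = n19427 := rfl
theorem F88088 : act 0 n19427 = n16356 := d7_1 D19427 (iv D16356) (iv F69602)
theorem F88089 : act 2 n19427 = n15258 := d22_1 D19427 (iv D15258) (iv F69603)
theorem F88090 : act 4 n19427 = n19427 := d33_1 D19427 (iv D19427) F69604
theorem F88091 : act 6 n19427 = n15222 := d40_1 D19427 (iv D15222) (iv F69605)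
def n19430 : Q := act 5 n15211
theorem D19430 : act 5 n15211 = n19430 := rfl
theorem F88105 : act 4 n19430 = n15215 := d30_1 D19430 (iv D15215) F54900 (iv F54890) (iv F69618)
def n19431 : Q := act 7 n15211
theorem D19431 : act 7 n15211 = n19431 := rfl
theorem F88109 : act 4 n19431 = n15212 := d32_1 D19431 (iv D15212) (iv F69618)
def n19432 : Q := act 1 n15213
theorem D19432 : act 1 n15213 = n19432 := rfl
theorem F88116 : act 8 n19432 = n15223 := d15_2 (iv F69632) D19432 (iv D15223)
def n19433 : Q := act 6 n15213
theorem D19433 : act 6 n15213 = n19433 := rfl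
theorem F88119 : act 2 n19433 = n15214 := d20_1 D19433 (iv D15214) D15213
theorem F88120 : act 3 n19433 = n15264 := d26_1 D19433 (iv D15264) (iv F69629)
def n19434 : Q := act 5 n15214
theorem D19434 : act 5 n15214 = n19434 := rfl
theorem F88125 : act 3 n19434 = n15215 := d25_1 D19434 (iv D15215) (iv F69635)
theorem F88126 : act 9 n19434 = n19434 := d38_2 F69638 D19434 (iv D19434)
def n19435 : Q := act 7 n15214
theorem D19435 : act 7 n15214 = n19435 := rfl
theorem F88127 : act 0 n19435 = n16364 := d6_1 D19435 (iv D16364) (iv F69634)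
theorem F88128 : act 3 n19435 = n15216 := d27_1 D19435 (iv D15216) (iv F69635)
theorem F88129 : act 4 n19435 = n19435 := d32_1 D19435 (iv D19435) F69636
theorem F88130 : act 6 n19435 = n15220 := d39_1 D19435 (iv D15220) (iv D11854) (iv F54895) D15214
theorem F88131 : act 8 n19435 = n15226 := d42_2 (iv F69637) D19435 (iv D15226)
theorem F88132 : act 9 n19435 = n19435 := d43_2 F69638 D19435 (iv D19435)
def n19436 : Q := act 7 n15215
theorem D19436 : act 7 n15215 = n19436 := rfl
theorem F88135 : act 5 n19436 = n15216 := d36_1 D19436 (iv D15216) D15215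
def n19437 : Q := act 8 n15215
theorem D19437 : act 8 n15215 = n19437 := rfl
theorem F88137 : act 0 n19437 = n16366 := d7_1 D19437 (iv D16366) (iv F69639)
theorem F88138 : act 2 n19437 = n15268 := d22_1 D19437 (iv D15268) (iv F69640)
theorem F88139 : act 5 n19437 = n15228 := d37_1 D19437 (iv D15228) (iv D11859) (iv F54901) D15215
def n19438 : Q := act 0 n15217
theorem D19438 : act 0 n15217 = n19438 := rfl
theorem F88143 : act 8 n19438 = n15229 := d7_2 (iv F69650) D19438 (iv D15229)
def n19439 : Q := act 6 n15217
theorem D19439 : act 6 n15217 = n19439 := rfl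
theorem F88145 : act 1 n19439 = n15218 := d13_1 D19439 (iv D15218) D15217
theorem F88146 : act 3 n19439 = n15270 := d26_1 D19439 (iv D15270) (iv F69648)
theorem F88147 : act 4 n19439 = n19439 := d31_1 D19439 (iv D19439) F69649
theorem F88148 : act 8 n19439 = n15230 := d40_2 (iv F69650) D19439 (iv D15230)
theorem F88149 : act 9 n19439 = n19439 := d41_2 F69651 D19439 (iv D19439)
def n19440 : Q := act 5 n15218
theorem D19440 : act 5 n15218 = n19440 := rfl
theorem F88150 : act 0 n19440 = n16369 := d4_1 D19440 (iv D16369) (iv F69652)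
theorem F88151 : act 2 n19440 = n15219 := d19_1 D19440 (iv D15219) (iv F69653)
theorem F88152 : act 3 n19440 = n15271 := d25_1 D19440 (iv D15271) (iv F69654)
theorem F88153 : act 9 n19440 = n19440 := d38_2 F69657 D19440 (iv D19440)
def n19441 : Q := act 7 n15218
theorem D19441 : act 7 n15218 = n19441 := rfl
theorem F88154 : act 0 n19441 = n16370 := d6_1 D19441 (iv D16370) (iv F69652)
theorem F88155 : act 2 n19441 = n15220 := d21_1 D19441 (iv D15220) (iv F69653)
theorem F88156 : act 3 n19441 = n15272 := d27_1 D19441 (iv D15272) (iv F69654)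
theorem F88157 : act 4 n19441 = n19441 := d32_1 D19441 (iv D19441) F69655
theorem F88158 : act 8 n19441 = n15232 := d42_2 (iv F69656) D19441 (iv D15232)
theorem F88159 : act 9 n19441 = n19441 := d43_2 F69657 D19441 (iv D19441)
def n19442 : Q := act 4 n15219
theorem D19442 : act 4 n15219 = n19442 := rfl
theorem F88160 : act 0 n19442 = n16371 := d3_1 D19442 (iv D16371) (iv F69658)
theorem F88161 : act 3 n19442 = n19442 := d24_1 D19442 (iv D19442) F69659 F54921 (iv F69659)
theorem F88162 : act 5 n19442 = n19442 := d30_2 D15219 D19442 (iv D19442) (iv D15219) F54916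
theorem F88163 : act 9 n19442 = n19442 := d34_2 F69660 D19442 (iv D19442)
def n19443 : Q := act 7 n15219
theorem D19443 : act 7 n15219 = n19443 := rfl
theorem F88165 : act 3 n19443 = n15221 := d27_1 D19443 (iv D15221) (iv F69659)
theorem F88166 : act 5 n19443 = n15220 := d36_1 D19443 (iv D15220) D15219
theorem F88167 : act 9 n19443 = n19443 := d43_2 F69660 D19443 (iv D19443)
def n19444 : Q := act 8 n15219
theorem D19444 : act 8 n15219 = n19444 := rfl
theorem F88168 : act 0 n19444 = n16373 := d7_1 D19444 (iv D16373) (iv F69658)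
theorem F88169 : act 3 n19444 = n15222 := d28_1 D19444 (iv D15222) (iv F69659)
theorem F88170 : act 5 n19444 = n15235 := d37_1 D19444 (iv D15235) (iv D11863) (iv F54917) D15219
def n19445 : Q := act 6 n15221
theorem D19445 : act 6 n15221 = n19445 := rfl
theorem F88171 : act 0 n19445 = n16374 := d5_1 D19445 (iv D16374) (iv F69666)
theorem F88172 : act 2 n19445 = n15276 := d20_1 D19445 (iv D15276) (iv F69667)
theorem F88173 : act 4 n19445 = n19445 := d31_1 D19445 (iv D19445) F69668
theorem F88174 : act 9 n19445 = n19445 := d41_2 F69670 D19445 (iv D19445)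
def n19446 : Q := act 8 n15221
theorem D19446 : act 8 n15221 = n19446 := rfl
theorem F88176 : act 2 n19446 = n15277 := d22_1 D19446 (iv D15277) (iv F69667)
theorem F88177 : act 4 n19446 = n19446 := d33_1 D19446 (iv D19446) F69668
theorem F88178 : act 5 n19446 = n15237 := d37_1 D19446 (iv D15237) F54964 (iv F54926) (iv F69669)
theorem F88179 : act 7 n19446 = n15222 := d42_1 D19446 (iv D15222) D15221
def n19447 : Q := act 9 n15222
theorem D19447 : act 9 n15222 = n19447 := rfl
theorem F88180 : act 0 n19447 = n16376 := d8_1 D19447 (iv D16376) (iv F69671)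
theorem F88181 : act 2 n19447 = n15278 := d23_1 D19447 (iv D15278) (iv F69672)
theorem F88182 : act 4 n19447 = n19447 := d34_1 D19447 (iv D19447) F69673
theorem F88183 : act 5 n19447 = n15238 := d38_1 D19447 (iv D15238) (iv F69674)
theorem F88184 : act 8 n19447 = n19447 := d44_1 D19447 (iv D19447) (iv D15222) F54922 D15222
def n19448 : Q := act 0 n15223
theorem D19448 : act 0 n15223 = n19448 := rfl
theorem F88186 : act 3 n19448 = n15279 := d2_2 (iv F69675) D19448 (iv D15279)
def n19449 : Q := act 6 n15223
theorem D19449 : act 6 n15223 = n19449 := rfl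
theorem F88191 : act 3 n19449 = n15280 := d26_1 D19449 (iv D15280) (iv F69675)
def n19450 : Q := act 5 n15224
theorem D19450 : act 5 n15224 = n19450 := rfl
theorem F88194 : act 0 n19450 = n16379 := d4_1 D19450 (iv D16379) (iv F69679)
theorem F88195 : act 2 n19450 = n15225 := d19_1 D19450 (iv D15225) (iv F69680)
theorem F88196 : act 3 n19450 = n15281 := d25_1 D19450 (iv D15281) (iv F69681)
def n19451 : Q := act 7 n15224
theorem D19451 : act 7 n15224 = n19451 := rfl
theorem F88199 : act 2 n19451 = n15226 := d21_1 D19451 (iv D15226) (iv F69680)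
theorem F88200 : act 3 n19451 = n15282 := d27_1 D19451 (iv D15282) (iv F69681)
theorem F88202 : act 6 n19451 = n15232 := d39_1 D19451 (iv D15232) (iv D11862) (iv F54931) D15224
def n19452 : Q := act 4 n15225
theorem D19452 : act 4 n15225 = n19452 := rfl
theorem F88204 : act 0 n19452 = n16381 := d3_1 D19452 (iv D16381) (iv F69684)
theorem F88205 : act 3 n19452 = n19452 := d24_1 D19452 (iv D19452) F69685 F54939 (iv F69685)
theorem F88206 : act 5 n19452 = n19452 := d30_2 D15225 D19452 (iv D19452) (iv D15225) F54935
theorem F88207 : act 9 n19452 = n15393 := d34_2 (iv F69686) D19452 (iv D15393)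
def n19453 : Q := act 7 n15225
theorem D19453 : act 7 n15225 = n19453 := rfl
theorem F88208 : act 0 n19453 = n16382 := d6_1 D19453 (iv D16382) (iv F69684)
theorem F88209 : act 3 n19453 = n15227 := d27_1 D19453 (iv D15227) (iv F69685)
theorem F88210 : act 5 n19453 = n15226 := d36_1 D19453 (iv D15226) D15225
theorem F88211 : act 9 n19453 = n15394 := d43_2 (iv F69686) D19453 (iv D15394)
def n19454 : Q := act 8 n15225
theorem D19454 : act 8 n15225 = n19454 := rfl
theorem F88213 : act 3 n19454 = n15228 := d28_1 D19454 (iv D15228) (iv F69685)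
def n19455 : Q := act 6 n15227
theorem D19455 : act 6 n15227 = n19455 := rfl
theorem F88214 : act 0 n19455 = n16384 := d5_1 D19455 (iv D16384) (iv F69692)
theorem F88215 : act 2 n19455 = n15286 := d20_1 D19455 (iv D15286) (iv F69693)
theorem F88216 : act 4 n19455 = n19455 := d31_1 D19455 (iv D19455) F69694
theorem F88217 : act 5 n19455 = n15236 := d35_1 D19455 (iv D15236) F54964 (iv F54944) (iv F69695)
theorem F88218 : act 9 n19455 = n15396 := d41_2 (iv F69696) D19455 (iv D15396)
def n19456 : Q := act 8 n15227
theorem D19456 : act 8 n15227 = n19456 := rfl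
theorem F88219 : act 0 n19456 = n16385 := d7_1 D19456 (iv D16385) (iv F69692)
theorem F88220 : act 2 n19456 = n15287 := d22_1 D19456 (iv D15287) (iv F69693)
theorem F88221 : act 4 n19456 = n19456 := d33_1 D19456 (iv D19456) F69694
theorem F88222 : act 7 n19456 = n15228 := d42_1 D19456 (iv D15228) D15227
def n19457 : Q := act 9 n15228
theorem D19457 : act 9 n15228 = n19457 := rfl
theorem F88223 : act 0 n19457 = n16386 := d8_1 D19457 (iv D16386) (iv F69697)
theorem F88224 : act 2 n19457 = n15288 := d23_1 D19457 (iv D15288) (iv F69698)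
theorem F88225 : act 4 n19457 = n19457 := d34_1 D19457 (iv D19457) F69699
theorem F88226 : act 8 n19457 = n15398 := d44_1 D19457 (iv D15398) (iv D11982) (iv F54940) D15228
def n19458 : Q := act 6 n15229
theorem D19458 : act 6 n15229 = n19458 := rfl
theorem F88227 : act 0 n19458 = n15230 := d5_1 D19458 (iv D15230) D15229
theorem F88229 : act 3 n19458 = n15289 := d26_1 D19458 (iv D15289) (iv F69701)
def n19459 : Q := act 5 n15230
theorem D19459 : act 5 n15230 = n19459 := rfl
theorem F88232 : act 1 n19459 = n15231 := d12_1 D19459 (iv D15231) (iv F69704)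
theorem F88233 : act 3 n19459 = n15290 := d25_1 D19459 (iv D15290) (iv F69705)
theorem F88234 : act 9 n19459 = n15400 := d38_2 (iv F69707) D19459 (iv D15400)
def n19460 : Q := act 7 n15230
theorem D19460 : act 7 n15230 = n19460 := rfl
theorem F88235 : act 1 n19460 = n15232 := d14_1 D19460 (iv D15232) (iv F69704)
def n19461 : Q := act 4 n15231
theorem D19461 : act 4 n15231 = n19461 := rfl
theorem F88239 : act 0 n19461 = n16390 := d3_1 D19461 (iv D16390) (iv F69708)
theorem F88240 : act 2 n19461 = n15233 := d18_1 D19461 (iv D15233) (iv F69709)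
theorem F88241 : act 3 n19461 = n19461 := d24_1 D19461 (iv D19461) F69710 F55139 (iv F69710)
theorem F88242 : act 5 n19461 = n19461 := d30_2 D15231 D19461 (iv D19461) (iv D15231) F54952
theorem F88243 : act 9 n19461 = n15402 := d34_2 (iv F69711) D19461 (iv D15402)
def n19462 : Q := act 7 n15231
theorem D19462 : act 7 n15231 = n19462 := rfl
theorem F88244 : act 0 n19462 = n16391 := d6_1 D19462 (iv D16391) (iv F69708)
theorem F88245 : act 2 n19462 = n15234 := d21_1 D19462 (iv D15234) (iv F69709)
theorem F88246 : act 3 n19462 = n15292 := d27_1 D19462 (iv D15292) (iv F69710)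
theorem F88247 : act 5 n19462 = n15232 := d36_1 D19462 (iv D15232) D15231
theorem F88248 : act 9 n19462 = n15403 := d43_2 (iv F69711) D19462 (iv D15403)
def n19463 : Q := act 8 n15231
theorem D19463 : act 8 n15231 = n19463 := rfl
theorem F88249 : act 0 n19463 = n16392 := d7_1 D19463 (iv D16392) (iv F69708)
theorem F88250 : act 2 n19463 = n15235 := d22_1 D19463 (iv D15235) (iv F69709)
theorem F88251 : act 3 n19463 = n15293 := d28_1 D19463 (iv D15293) (iv F69710)
def n19464 : Q := act 7 n15233
theorem D19464 : act 7 n15233 = n19464 := rfl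
theorem F88252 : act 0 n19464 = n16393 := d6_1 D19464 (iv D16393) (iv F69717)
theorem F88253 : act 3 n19464 = n15239 := d27_1 D19464 (iv D15239) (iv F69718)
theorem F88254 : act 4 n19464 = n15234 := d32_1 D19464 (iv D15234) D15233
theorem F88255 : act 5 n19464 = n19464 := d36_1 D19464 (iv D19464) F69719
theorem F88256 : act 9 n19464 = n15405 := d43_2 (iv F69720) D19464 (iv D15405)
def n19465 : Q := act 8 n15233
theorem D19465 : act 8 n15233 = n19465 := rfl
theorem F88257 : act 0 n19465 = n16394 := d7_1 D19465 (iv D16394) (iv F69717)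
theorem F88258 : act 3 n19465 = n15240 := d28_1 D19465 (iv D15240) (iv F69718)
theorem F88259 : act 4 n19465 = n15235 := d33_1 D19465 (iv D15235) D15233
def n19466 : Q := act 6 n15234
theorem D19466 : act 6 n15234 = n19466 := rfl
theorem F88261 : act 3 n19466 = n15236 := d26_1 D19466 (iv D15236) (iv F69722)
theorem F88262 : act 9 n19466 = n15407 := d41_2 (iv F69724) D19466 (iv D15407)
def n19467 : Q := act 8 n15234
theorem D19467 : act 8 n15234 = n19467 := rfl
theorem F88264 : act 3 n19467 = n15237 := d28_1 D19467 (iv D15237) (iv F69722)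
theorem F88265 : act 7 n19467 = n15235 := d42_1 D19467 (iv D15235) D15234
def n19468 : Q := act 9 n15235
theorem D19468 : act 9 n15235 = n19468 := rfl
theorem F88266 : act 0 n19468 = n16397 := d8_1 D19468 (iv D16397) (iv F69725)
theorem F88267 : act 3 n19468 = n15238 := d29_1 D19468 (iv D15238) (iv F69726)
theorem F88268 : act 8 n19468 = n15409 := d44_1 D19468 (iv D15409) (iv D11989) (iv F54956) D15235
def n19469 : Q := act 8 n15236
theorem D19469 : act 8 n15236 = n19469 := rfl
theorem F88270 : act 2 n19469 = n15297 := d22_1 D19469 (iv D15297) (iv F69728)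
theorem F88271 : act 4 n19469 = n15244 := d33_1 D19469 (iv D15244) (iv F69729)
theorem F88272 : act 6 n19469 = n15237 := d40_1 D19469 (iv D15237) D15236
def n19470 : Q := act 9 n15237
theorem D19470 : act 9 n15237 = n19470 := rfl
theorem F88276 : act 7 n19470 = n15238 := d43_1 D19470 (iv D15238) (iv F69734)
theorem F88277 : act 8 n19470 = n15411 := d44_1 D19470 (iv D15411) (iv D11991) (iv F54965) D15237
def n19471 : Q := act 6 n15239
theorem D19471 : act 6 n15239 = n19471 := rfl
def n19472 : Q := act 8 n15239
theorem D19472 : act 8 n15239 = n19472 := rfl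
theorem F88285 : act 7 n19472 = n15240 := d42_1 D19472 (iv D15240) D15239
def n19473 : Q := act 5 n15240
theorem D19473 : act 5 n15240 = n19473 := rfl
theorem F88286 : act 0 n19473 = n16402 := d4_1 D19473 (iv D16402) (iv F69744)
theorem F88287 : act 2 n19473 = n19473 := d19_1 D19473 (iv D19473) F69745
theorem F88288 : act 4 n19473 = n19473 := d30_1 D19473 (iv D19473) F69746 F54981 (iv F69746)
theorem F88289 : act 8 n19473 = n19473 := d37_2 D15240 D19473 (iv D19473) (iv D15240) F54971
def n19474 : Q := act 9 n15240
theorem D19474 : act 9 n15240 = n19474 := rfl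
theorem F88290 : act 0 n19474 = n16403 := d8_1 D19474 (iv D16403) (iv F69744)
theorem F88293 : act 8 n19474 = n15415 := d44_1 D19474 (iv D15415) (iv D11994) (iv F54972) D15240
def n19475 : Q := act 8 n15241
theorem D19475 : act 8 n15241 = n19475 := rfl
theorem F88296 : act 3 n19475 = n15244 := d28_1 D19475 (iv D15244) (iv F69749)
def n19476 : Q := act 9 n15242
theorem D19476 : act 9 n15242 = n19476 := rfl
theorem F88303 : act 8 n19476 = n15417 := d44_1 D19476 (iv D15417) (iv D11996) (iv F54977) D15242
def n19477 : Q := act 5 n15244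
theorem D19477 : act 5 n15244 = n19477 := rfl
theorem F88305 : act 2 n19477 = n15299 := d19_1 D19477 (iv D15299) (iv F69763)
theorem F88306 : act 6 n19477 = n19477 := d35_2 (iv F69764) D19477 (iv D19477) F69764 F54988
theorem F88307 : act 8 n19477 = n19477 := d37_2 D15244 D19477 (iv D19477) (iv D15244) F54984
def n19478 : Q := act 9 n15244
theorem D19478 : act 9 n15244 = n19478 := rfl
theorem F88309 : act 2 n19478 = n15300 := d23_1 D19478 (iv D15300) (iv F69763)
theorem F88311 : act 8 n19478 = n15419 := d44_1 D19478 (iv D15419) (iv D11998) (iv F54985) D15244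
def n19481 : Q := act 5 n15247
theorem D19481 : act 5 n15247 = n19481 := rfl
theorem F88324 : act 4 n19481 = n15251 := d30_1 D19481 (iv D15251) F55012 (iv F55002) (iv F69778)
theorem F88325 : act 6 n19481 = n15261 := d35_2 D15247 D19481 (iv D15261) (iv D11883) (iv F54996)
def n19482 : Q := act 7 n15247
theorem D19482 : act 7 n15247 = n19482 := rfl
theorem F88327 : act 0 n19482 = n16411 := d6_1 D19482 (iv D16411) (iv F69776)
theorem F88328 : act 1 n19482 = n19482 := d14_1 D19482 (iv D19482) F69777
theorem F88329 : act 4 n19482 = n15248 := d32_1 D19482 (iv D15248) (iv F69778)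
theorem F88330 : act 6 n19482 = n19482 := d39_1 D19482 (iv D19482) (iv D15247) F54997 D15247
theorem F88331 : act 9 n19482 = n19482 := d43_2 F69779 D19482 (iv D19482)
def n19484 : Q := act 6 n15249
theorem D19484 : act 6 n15249 = n19484 := rfl
theorem F88338 : act 2 n19484 = n15250 := d20_1 D19484 (iv D15250) D15249
theorem F88339 : act 4 n19484 = n19484 := d31_1 D19484 (iv D19484) F69787
theorem F88340 : act 9 n19484 = n19484 := d41_2 F69790 D19484 (iv D19484)
def n19485 : Q := act 5 n15250
theorem D19485 : act 5 n15250 = n19485 := rfl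
theorem F88344 : act 6 n19485 = n15265 := d35_2 D15250 D19485 (iv D15265) (iv D11886) (iv F55007)
def n19486 : Q := act 7 n15250
theorem D19486 : act 7 n15250 = n19486 := rfl
theorem F88346 : act 0 n19486 = n16415 := d6_1 D19486 (iv D16415) (iv F69791)
theorem F88347 : act 1 n19486 = n19486 := d14_1 D19486 (iv D19486) F69792
theorem F88348 : act 3 n19486 = n15252 := d27_1 D19486 (iv D15252) (iv F69793)
theorem F88349 : act 4 n19486 = n19486 := d32_1 D19486 (iv D19486) F69794
theorem F88350 : act 6 n19486 = n15256 := d39_1 D19486 (iv D15256) (iv D11879) (iv F55008) D15250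
theorem F88351 : act 9 n19486 = n19486 := d43_2 F69795 D19486 (iv D19486)
def n19487 : Q := act 7 n15251
theorem D19487 : act 7 n15251 = n19487 := rfl
theorem F88352 : act 0 n19487 = n16416 := d6_1 D19487 (iv D16416) (iv F69796)
theorem F88353 : act 1 n19487 = n19487 := d14_1 D19487 (iv D19487) F69797
theorem F88354 : act 5 n19487 = n15252 := d36_1 D19487 (iv D15252) D15251
theorem F88355 : act 9 n19487 = n19487 := d43_2 F69799 D19487 (iv D19487)
def n19488 : Q := act 8 n15251
theorem D19488 : act 8 n15251 = n19488 := rfl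
theorem F88356 : act 0 n19488 = n16417 := d7_1 D19488 (iv D16417) (iv F69796)
theorem F88357 : act 1 n19488 = n19488 := d15_1 D19488 (iv D19488) F69797
theorem F88358 : act 6 n19488 = n15268 := d40_1 D19488 (iv D15268) (iv F69798)
def n19489 : Q := act 0 n15253
theorem D19489 : act 0 n15253 = n19489 := rfl
theorem F88359 : act 1 n19489 = n16418 := d0_2 D15253 D19489 (iv D16418) (iv D12749) (iv F55019)
theorem F88362 : act 5 n19489 = n15269 := d4_2 (iv F69807) D19489 (iv D15269)
def n19490 : Q := act 6 n15253
theorem D19490 : act 6 n15253 = n19490 := rfl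
theorem F88364 : act 1 n19490 = n15254 := d13_1 D19490 (iv D15254) D15253
theorem F88365 : act 2 n19490 = n19490 := d20_1 D19490 (iv D19490) F69805
theorem F88366 : act 4 n19490 = n19490 := d31_1 D19490 (iv D19490) F69806
theorem F88367 : act 9 n19490 = n19490 := d41_2 F69808 D19490 (iv D19490)
def n19491 : Q := act 5 n15254
theorem D19491 : act 5 n15254 = n19491 := rfl
theorem F88368 : act 0 n19491 = n16420 := d4_1 D19491 (iv D16420) (iv F69809)
theorem F88369 : act 2 n19491 = n15255 := d19_1 D19491 (iv D15255) (iv F69810)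
theorem F88370 : act 6 n19491 = n15271 := d35_2 D15254 D19491 (iv D15271) (iv D11890) (iv F55021)
theorem F88371 : act 9 n19491 = n19491 := d38_2 F69812 D19491 (iv D19491)
def n19492 : Q := act 7 n15254
theorem D19492 : act 7 n15254 = n19492 := rfl
theorem F88372 : act 0 n19492 = n16421 := d6_1 D19492 (iv D16421) (iv F69809)
theorem F88373 : act 2 n19492 = n15256 := d21_1 D19492 (iv D15256) (iv F69810)
theorem F88374 : act 4 n19492 = n19492 := d32_1 D19492 (iv D19492) F69811
theorem F88375 : act 9 n19492 = n19492 := d43_2 F69812 D19492 (iv D19492)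
def n19493 : Q := act 4 n15255
theorem D19493 : act 4 n15255 = n19493 := rfl
theorem F88376 : act 0 n19493 = n16422 := d3_1 D19493 (iv D16422) (iv F69813)
theorem F88377 : act 1 n19493 = n19493 := d11_1 D19493 (iv D19493) F69814
theorem F88378 : act 3 n19493 = n19493 := d24_1 D19493 (iv D19493) F69815 F55030 (iv F69815)
theorem F88379 : act 5 n19493 = n19493 := d30_2 D15255 D19493 (iv D19493) (iv D15255) F55026
theorem F88380 : act 6 n19493 = n15273 := d31_2 (iv F69816) D19493 (iv D15273)
theorem F88381 : act 9 n19493 = n19493 := d34_2 F69817 D19493 (iv D19493)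
def n19494 : Q := act 7 n15255
theorem D19494 : act 7 n15255 = n19494 := rfl
theorem F88382 : act 0 n19494 = n16423 := d6_1 D19494 (iv D16423) (iv F69813)
theorem F88383 : act 1 n19494 = n19494 := d14_1 D19494 (iv D19494) F69814
theorem F88384 : act 3 n19494 = n15257 := d27_1 D19494 (iv D15257) (iv F69815)
theorem F88385 : act 5 n19494 = n15256 := d36_1 D19494 (iv D15256) D15255
theorem F88386 : act 9 n19494 = n19494 := d43_2 F69817 D19494 (iv D19494)
def n19495 : Q := act 8 n15255
theorem D19495 : act 8 n15255 = n19495 := rfl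
theorem F88387 : act 0 n19495 = n16424 := d7_1 D19495 (iv D16424) (iv F69813)
theorem F88388 : act 1 n19495 = n19495 := d15_1 D19495 (iv D19495) F69814
theorem F88389 : act 3 n19495 = n15258 := d28_1 D19495 (iv D15258) (iv F69815)
theorem F88390 : act 6 n19495 = n15275 := d40_1 D19495 (iv D15275) (iv F69816)
def n19496 : Q := act 6 n15257
theorem D19496 : act 6 n15257 = n19496 := rfl
theorem F88391 : act 0 n19496 = n16425 := d5_1 D19496 (iv D16425) (iv F69823)
theorem F88392 : act 1 n19496 = n19496 := d13_1 D19496 (iv D19496) F69824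
theorem F88393 : act 4 n19496 = n19496 := d31_1 D19496 (iv D19496) F69825
theorem F88394 : act 7 n19496 = n15276 := d39_2 D15257 D19496 (iv D15276) (iv D11893) (iv F55031)
theorem F88395 : act 9 n19496 = n19496 := d41_2 F69827 D19496 (iv D19496)
def n19497 : Q := act 8 n15257
theorem D19497 : act 8 n15257 = n19497 := rfl
theorem F88396 : act 0 n19497 = n16426 := d7_1 D19497 (iv D16426) (iv F69823)
theorem F88397 : act 1 n19497 = n19497 := d15_1 D19497 (iv D19497) F69824
theorem F88398 : act 4 n19497 = n19497 := d33_1 D19497 (iv D19497) F69825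
theorem F88399 : act 7 n19497 = n15258 := d42_1 D19497 (iv D15258) D15257
def n19498 : Q := act 9 n15258
theorem D19498 : act 9 n15258 = n19498 := rfl
theorem F88400 : act 0 n19498 = n16427 := d8_1 D19498 (iv D16427) (iv F69828)
theorem F88401 : act 1 n19498 = n19498 := d16_1 D19498 (iv D19498) F69829
theorem F88402 : act 4 n19498 = n19498 := d34_1 D19498 (iv D19498) F69830
theorem F88403 : act 6 n19498 = n15278 := d41_1 D19498 (iv D15278) (iv F69831)
theorem F88404 : act 8 n19498 = n19498 := d44_1 D19498 (iv D19498) (iv D15258) F55032 D15258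
def n19501 : Q := act 5 n15260
theorem D19501 : act 5 n15260 = n19501 := rfl
theorem F88418 : act 3 n19501 = n15261 := d25_1 D19501 (iv D15261) (iv F69839)
def n19504 : Q := act 8 n15261
theorem D19504 : act 8 n15261 = n19504 := rfl
theorem F88434 : act 4 n19504 = n15268 := d33_1 D19504 (iv D15268) (iv F69845)
def n19506 : Q := act 6 n15263
theorem D19506 : act 6 n15263 = n19506 := rfl
theorem F88445 : act 8 n19506 = n15280 := d40_2 (iv F69856) D19506 (iv D15280)
def n19507 : Q := act 5 n15264
theorem D19507 : act 5 n15264 = n19507 := rfl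
def n19508 : Q := act 7 n15264
theorem D19508 : act 7 n15264 = n19508 := rfl
theorem F88452 : act 4 n19508 = n15310 := d32_1 D19508 (iv D15310) (iv F69860)
theorem F88453 : act 6 n19508 = n15272 := d39_1 D19508 (iv D15272) (iv D11890) (iv F55057) D15264
def n19509 : Q := act 4 n15265
theorem D19509 : act 4 n15265 = n19509 := rfl
theorem F88458 : act 5 n19509 = n15311 := d30_2 D15265 D19509 (iv D15311) (iv D11918) (iv F55063)
def n19512 : Q := act 6 n15267
theorem D19512 : act 6 n15267 = n19512 := rfl
def n19513 : Q := act 8 n15267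
theorem D19513 : act 8 n15267 = n19513 := rfl
theorem F88475 : act 5 n19513 = n15287 := d37_1 D19513 (iv D15287) F55124 (iv F55073) (iv F69876)
def n19514 : Q := act 9 n15268
theorem D19514 : act 9 n15268 = n19514 := rfl
theorem F88479 : act 5 n19514 = n15288 := d38_1 D19514 (iv D15288) (iv F69880)
def n19516 : Q := act 5 n15270
theorem D19516 : act 5 n15270 = n19516 := rfl
theorem F88487 : act 1 n19516 = n15271 := d12_1 D19516 (iv D15271) (iv F69886)
theorem F88488 : act 2 n19516 = n19516 := d19_1 D19516 (iv D19516) F69887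
theorem F88489 : act 9 n19516 = n19516 := d38_2 F69890 D19516 (iv D19516)
def n19517 : Q := act 7 n15270
theorem D19517 : act 7 n15270 = n19517 := rfl
def n19518 : Q := act 4 n15271
theorem D19518 : act 4 n15271 = n19518 := rfl
theorem F88495 : act 0 n19518 = n16446 := d3_1 D19518 (iv D16446) (iv F69891)
theorem F88496 : act 2 n19518 = n15273 := d18_1 D19518 (iv D15273) (iv F69892)
def n19519 : Q := act 7 n15271
theorem D19519 : act 7 n15271 = n19519 := rfl
theorem F88499 : act 0 n19519 = n16447 := d6_1 D19519 (iv D16447) (iv F69891)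
theorem F88500 : act 2 n19519 = n15274 := d21_1 D19519 (iv D15274) (iv F69892)
theorem F88501 : act 5 n19519 = n15272 := d36_1 D19519 (iv D15272) D15271
theorem F88502 : act 9 n19519 = n19519 := d43_2 F69893 D19519 (iv D19519)
def n19520 : Q := act 8 n15271
theorem D19520 : act 8 n15271 = n19520 := rfl
theorem F88503 : act 0 n19520 = n16448 := d7_1 D19520 (iv D16448) (iv F69891)
theorem F88504 : act 2 n19520 = n15275 := d22_1 D19520 (iv D15275) (iv F69892)
theorem F88505 : act 5 n19520 = n15293 := d37_1 D19520 (iv D15293) (iv D11903) (iv F55082) D15271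
def n19521 : Q := act 7 n15273
theorem D19521 : act 7 n15273 = n19521 := rfl
theorem F88506 : act 0 n19521 = n16449 := d6_1 D19521 (iv D16449) (iv F69899)
theorem F88509 : act 4 n19521 = n15274 := d32_1 D19521 (iv D15274) D15273
def n19522 : Q := act 8 n15273
theorem D19522 : act 8 n15273 = n19522 := rfl
theorem F88512 : act 0 n19522 = n16450 := d7_1 D19522 (iv D16450) (iv F69899)
theorem F88513 : act 1 n19522 = n19522 := d15_1 D19522 (iv D19522) F69900
theorem F88514 : act 3 n19522 = n19522 := d28_1 D19522 (iv D19522) F69901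
theorem F88515 : act 4 n19522 = n15275 := d33_1 D19522 (iv D15275) D15273
theorem F88516 : act 5 n19522 = n19522 := d37_1 D19522 (iv D19522) F69902 F55259 (iv F69902)
def n19523 : Q := act 6 n15274
theorem D19523 : act 6 n15274 = n19523 := rfl
def n19524 : Q := act 8 n15274
theorem D19524 : act 8 n15274 = n19524 := rfl
theorem F88521 : act 0 n19524 = n16452 := d7_1 D19524 (iv D16452) (iv F69904)
theorem F88522 : act 1 n19524 = n19524 := d15_1 D19524 (iv D19524) F69905
theorem F88523 : act 3 n19524 = n15277 := d28_1 D19524 (iv D15277) (iv F69906)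
theorem F88524 : act 5 n19524 = n15295 := d37_1 D19524 (iv D15295) F55149 (iv F55092) (iv F69907)
theorem F88525 : act 7 n19524 = n15275 := d42_1 D19524 (iv D15275) D15274
def n19525 : Q := act 9 n15275
theorem D19525 : act 9 n15275 = n19525 := rfl
theorem F88526 : act 0 n19525 = n16453 := d8_1 D19525 (iv D16453) (iv F69909)
theorem F88527 : act 1 n19525 = n19525 := d16_1 D19525 (iv D19525) F69910
theorem F88528 : act 3 n19525 = n15278 := d29_1 D19525 (iv D15278) (iv F69911)
theorem F88529 : act 5 n19525 = n15296 := d38_1 D19525 (iv D15296) (iv F69912)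
theorem F88530 : act 8 n19525 = n19525 := d44_1 D19525 (iv D19525) (iv D15275) F55087 D15275
def n19526 : Q := act 8 n15276
theorem D19526 : act 8 n15276 = n19526 := rfl
theorem F88531 : act 0 n19526 = n16454 := d7_1 D19526 (iv D16454) (iv F69913)
theorem F88532 : act 1 n19526 = n19526 := d15_1 D19526 (iv D19526) F69914
theorem F88533 : act 4 n19526 = n19526 := d33_1 D19526 (iv D19526) F69915
theorem F88534 : act 6 n19526 = n15277 := d40_1 D19526 (iv D15277) D15276
def n19527 : Q := act 9 n15277
theorem D19527 : act 9 n15277 = n19527 := rfl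
theorem F88535 : act 0 n19527 = n16455 := d8_1 D19527 (iv D16455) (iv F69917)
theorem F88536 : act 1 n19527 = n19527 := d16_1 D19527 (iv D19527) F69918
theorem F88537 : act 4 n19527 = n19527 := d34_1 D19527 (iv D19527) F69919
theorem F88538 : act 5 n19527 = n15298 := d38_1 D19527 (iv D15298) (iv F69920)
theorem F88539 : act 7 n19527 = n15278 := d43_1 D19527 (iv D15278) (iv F69921)
theorem F88540 : act 8 n19527 = n19527 := d44_1 D19527 (iv D19527) (iv D15277) F55098 D15277
def n19528 : Q := act 6 n15279
theorem D19528 : act 6 n15279 = n19528 := rfl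
theorem F88544 : act 4 n19528 = n15324 := d31_1 D19528 (iv D15324) (iv F69929)
def n19530 : Q := act 7 n15280
theorem D19530 : act 7 n15280 = n19530 := rfl
theorem F88552 : act 6 n19530 = n15291 := d39_1 D19530 (iv D15291) (iv D11902) (iv F55105) D15280
def n19531 : Q := act 4 n15281
theorem D19531 : act 4 n15281 = n19531 := rfl

end Cfsg.Agent.Helper17.SP6TC
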