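import Cfsg.Agent.Helper17.SP6TC.Facts6

set_option autoImplicit false
set_option linter.all false

noncomputable section

namespace Cfsg.Agent.Helper17.SP6TC

theorem F88556 : act 5 n19531 = n15327 := d30_2 D15281 D19531 (iv D15327) (iv D11931) (iv F55109)
def n19532 : Q := act 7 n15281
theorem D19532 : act 7 n15281 = n19532 := rfl
theorem F88558 : act 0 n19532 = n16460 := d6_1 D19532 (iv D16460) (iv F69936)
theorem F88560 : act 5 n19532 = n15282 := d36_1 D19532 (iv D15282) D15281
def n19534 : Q := act 7 n15283
theorem D19534 : act 7 n15283 = n19534 := rfl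
theorem F88564 : act 0 n19534 = n16462 := d6_1 D19534 (iv D16462) (iv F69944)
theorem F88567 : act 4 n19534 = n15284 := d32_1 D19534 (iv D15284) D15283
def n19536 : Q := act 6 n15284
theorem D19536 : act 6 n15284 = n19536 := rfl
theorem F88577 : act 5 n19536 = n15294 := d35_1 D19536 (iv D15294) F55149 (iv F55119) (iv F69952)
def n19537 : Q := act 8 n15284
theorem D19537 : act 8 n15284 = n19537 := rfl
theorem F88581 : act 3 n19537 = n15287 := d28_1 D19537 (iv D15287) (iv F69951)
def n19539 : Q := act 8 n15286
theorem D19539 : act 8 n15286 = n19539 := rfl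
theorem F88587 : act 0 n19539 = n16467 := d7_1 D19539 (iv D16467) (iv F69957)
theorem F88588 : act 1 n19539 = n19539 := d15_1 D19539 (iv D19539) F69958
theorem F88589 : act 4 n19539 = n19539 := d33_1 D19539 (iv D19539) F69959
theorem F88590 : act 6 n19539 = n15287 := d40_1 D19539 (iv D15287) D15286
def n19540 : Q := act 9 n15287
theorem D19540 : act 9 n15287 = n19540 := rfl
theorem F88595 : act 8 n19540 = n15432 := d44_1 D19540 (iv D15432) (iv D12008) (iv F55125) D15287
def n19541 : Q := act 5 n15289
theorem D19541 : act 5 n15289 = n19541 := rfl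
theorem F88596 : act 0 n19541 = n15290 := d4_1 D19541 (iv D15290) (iv F69970)
def n19542 : Q := act 7 n15289
theorem D19542 : act 7 n15289 = n19542 := rfl
def n19543 : Q := act 7 n15290
theorem D19543 : act 7 n15290 = n19543 := rfl
theorem F88606 : act 1 n19543 = n15292 := d14_1 D19543 (iv D15292) (iv F69975)
theorem F88609 : act 5 n19543 = n15291 := d36_1 D19543 (iv D15291) D15290
def n19544 : Q := act 8 n15290
theorem D19544 : act 8 n15290 = n19544 := rfl
theorem F88611 : act 1 n19544 = n15293 := d15_1 D19544 (iv D15293) (iv F69975)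
theorem F88612 : act 2 n19544 = n19544 := d22_1 D19544 (iv D19544) F69976
theorem F88613 : act 4 n19544 = n19544 := d33_1 D19544 (iv D19544) F69977
def n19545 : Q := act 6 n15292
theorem D19545 : act 6 n15292 = n19545 := rfl
theorem F88614 : act 0 n19545 = n16473 := d5_1 D19545 (iv D16473) (iv F69983)
theorem F88615 : act 2 n19545 = n15294 := d20_1 D19545 (iv D15294) (iv F69984)
theorem F88616 : act 4 n19545 = n19545 := d31_1 D19545 (iv D19545) F69985
theorem F88617 : act 9 n19545 = n15437 := d41_2 (iv F69987) D19545 (iv D15437)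
def n19546 : Q := act 8 n15292
theorem D19546 : act 8 n15292 = n19546 := rfl
theorem F88618 : act 0 n19546 = n16474 := d7_1 D19546 (iv D16474) (iv F69983)
theorem F88619 : act 2 n19546 = n15295 := d22_1 D19546 (iv D15295) (iv F69984)
theorem F88620 : act 4 n19546 = n19546 := d33_1 D19546 (iv D19546) F69985
theorem F88621 : act 7 n19546 = n15293 := d42_1 D19546 (iv D15293) D15292
def n19547 : Q := act 9 n15293
theorem D19547 : act 9 n15293 = n19547 := rfl
theorem F88622 : act 0 n19547 = n16475 := d8_1 D19547 (iv D16475) (iv F69988)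
theorem F88623 : act 2 n19547 = n15296 := d23_1 D19547 (iv D15296) (iv F69989)
theorem F88624 : act 4 n19547 = n19547 := d34_1 D19547 (iv D19547) F69990
theorem F88625 : act 8 n19547 = n15439 := d44_1 D19547 (iv D15439) (iv D12014) (iv F55140) D15293
def n19548 : Q := act 8 n15294
theorem D19548 : act 8 n15294 = n19548 := rfl
theorem F88626 : act 0 n19548 = n16476 := d7_1 D19548 (iv D16476) (iv F69991)
theorem F88627 : act 1 n19548 = n19548 := d15_1 D19548 (iv D19548) F69992
theorem F88628 : act 3 n19548 = n15297 := d28_1 D19548 (iv D15297) (iv F69993)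
theorem F88629 : act 4 n19548 = n19548 := d33_1 D19548 (iv D19548) F69994
theorem F88630 : act 6 n19548 = n15295 := d40_1 D19548 (iv D15295) D15294
def n19549 : Q := act 9 n15295
theorem D19549 : act 9 n15295 = n19549 := rfl
theorem F88631 : act 0 n19549 = n16477 := d8_1 D19549 (iv D16477) (iv F69996)
theorem F88632 : act 1 n19549 = n19549 := d16_1 D19549 (iv D19549) F69997
theorem F88633 : act 3 n19549 = n15298 := d29_1 D19549 (iv D15298) (iv F69998)
theorem F88634 : act 4 n19549 = n19549 := d34_1 D19549 (iv D19549) F69999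
theorem F88635 : act 7 n19549 = n15296 := d43_1 D19549 (iv D15296) (iv F70000)
theorem F88636 : act 8 n19549 = n15441 := d44_1 D19549 (iv D15441) (iv D12016) (iv F55150) D15295
def n19550 : Q := act 5 n15297
theorem D19550 : act 5 n15297 = n19550 := rfl
theorem F88637 : act 0 n19550 = n16478 := d4_1 D19550 (iv D16478) (iv F70006)
theorem F88638 : act 1 n19550 = n19550 := d12_1 D19550 (iv D19550) F70007
def n19551 : Q := act 9 n15297
theorem D19551 : act 9 n15297 = n19551 := rfl
theorem F88639 : act 0 n19551 = n16479 := d8_1 D19551 (iv D16479) (iv F70006)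
theorem F88640 : act 1 n19551 = n19551 := d16_1 D19551 (iv D19551) F70007
theorem F88641 : act 4 n19551 = n15300 := d34_1 D19551 (iv D15300) (iv F70008)
theorem F88642 : act 6 n19551 = n15298 := d41_1 D19551 (iv D15298) (iv F70009)
theorem F88643 : act 8 n19551 = n15443 := d44_1 D19551 (iv D15443) (iv D12018) (iv F55158) D15297
def n19552 : Q := act 4 n15299
theorem D19552 : act 4 n15299 = n19552 := rfl
theorem F88644 : act 0 n19552 = n16480 := d3_1 D19552 (iv D16480) (iv F70015)
theorem F88645 : act 1 n19552 = n19552 := d11_1 D19552 (iv D19552) F70016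
theorem F88646 : act 6 n19552 = n19552 := d31_2 F70018 D19552 (iv D19552)
theorem F88647 : act 8 n19552 = n19552 := d33_2 F70019 D19552 (iv D19552)
def n19553 : Q := act 9 n15299
theorem D19553 : act 9 n15299 = n19553 := rfl
theorem F88648 : act 0 n19553 = n16481 := d8_1 D19553 (iv D16481) (iv F70015)
theorem F88649 : act 1 n19553 = n19553 := d16_1 D19553 (iv D19553) F70016
theorem F88650 : act 3 n19553 = n19553 := d29_1 D19553 (iv D19553) F70017
theorem F88651 : act 5 n19553 = n15300 := d38_1 D19553 (iv D15300) D15299
theorem F88652 : act 6 n19553 = n19553 := d41_1 D19553 (iv D19553) F70018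
def n19557 : Q := act 4 n15303
theorem D19557 : act 4 n15303 = n19557 := rfl
theorem F88672 : act 3 n19557 = n15311 := d24_1 D19557 (iv D15311) F55214 (iv F55191) (iv F70039)
def n19559 : Q := act 8 n15303
theorem D19559 : act 8 n15303 = n19559 := rfl
theorem F88682 : act 3 n19559 = n15306 := d28_1 D19559 (iv D15306) (iv F70039)
def n19565 : Q := act 7 n15308
theorem D19565 : act 7 n15308 = n19565 := rfl
theorem F88719 : act 6 n19565 = n15319 := d39_1 D19565 (iv D15319) (iv D11923) (iv F55204) D15308
theorem F88720 : act 8 n19565 = n15326 := d42_2 (iv F70070) D19565 (iv D15326)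
def n19567 : Q := act 7 n15309
theorem D19567 : act 7 n15309 = n19567 := rfl
theorem F88729 : act 5 n19567 = n15310 := d36_1 D19567 (iv D15310) D15309
def n19571 : Q := act 6 n15312
theorem D19571 : act 6 n15312 = n19571 := rfl
theorem F88747 : act 5 n19571 = n15323 := d35_1 D19571 (iv D15323) F55264 (iv F55220) (iv F70090)
def n19572 : Q := act 8 n15312
theorem D19572 : act 8 n15312 = n19572 := rfl
theorem F88753 : act 5 n19572 = n15332 := d37_1 D19572 (iv D15332) F55302 (iv F55221) (iv F70090)
def n19575 : Q := act 9 n15315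
theorem D19575 : act 9 n15315 = n19575 := rfl
theorem F88771 : act 7 n19575 = n15316 := d43_1 D19575 (iv D15316) (iv F70107)
def n19576 : Q := act 5 n15317
theorem D19576 : act 5 n15317 = n19576 := rfl
theorem F88773 : act 0 n19576 = n15318 := d4_1 D19576 (iv D15318) (iv F70114)
def n19578 : Q := act 4 n15318
theorem D19578 : act 4 n15318 = n19578 := rfl
def n19579 : Q := act 7 n15318
theorem D19579 : act 7 n15318 = n19579 := rfl
theorem F88794 : act 5 n19579 = n15319 := d36_1 D19579 (iv D15319) D15318
def n19584 : Q := act 5 n15324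
theorem D19584 : act 5 n15324 = n19584 := rfl
theorem F88821 : act 0 n19584 = n15325 := d4_1 D19584 (iv D15325) (iv F70154)
theorem F88822 : act 1 n19584 = n16511 := d12_1 D19584 (iv D16511) (iv F70155)
def n19585 : Q := act 7 n15324
theorem D19585 : act 7 n15324 = n19585 := rfl
theorem F88831 : act 6 n19585 = n15335 := d39_1 D19585 (iv D15335) (iv D11938) (iv F55278) D15324
def n19590 : Q := act 7 n15327
theorem D19590 : act 7 n15327 = n19590 := rfl
theorem F88852 : act 0 n19590 = n16517 := d6_1 D19590 (iv D16517) (iv F70169)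
def n19592 : Q := act 8 n15328
theorem D19592 : act 8 n15328 = n19592 := rfl
theorem F88861 : act 0 n19592 = n16519 := d7_1 D19592 (iv D16519) (iv F70173)
def n19594 : Q := act 8 n15330
theorem D19594 : act 8 n15330 = n19594 := rfl
theorem F88871 : act 0 n19594 = n16521 := d7_1 D19594 (iv D16521) (iv F70183)
def n19597 : Q := act 9 n15332
theorem D19597 : act 9 n15332 = n19597 := rfl
theorem F88890 : act 7 n19597 = n15333 := d43_1 D19597 (iv D15333) (iv F70198)
def n19600 : Q := act 3 n15337
theorem D19600 : act 3 n15337 = n19600 := rfl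
def n19608 : Q := act 1 n15344
theorem D19608 : act 1 n15344 = n19608 := rfl
theorem F88942 : act 2 n19608 = n16535 := d9_2 D15344 D19608 (iv D16535) (iv D12839) (iv F55365)
theorem F88943 : act 3 n19608 = n19608 := d10_2 F70259 D19608 (iv D19608)
theorem F88944 : act 4 n19608 = n19608 := d11_2 F70260 D19608 (iv D19608)
theorem F88945 : act 7 n19608 = n15348 := d14_2 (iv F70261) D19608 (iv D15348)
theorem F88946 : act 8 n19608 = n19608 := d15_2 F70262 D19608 (iv D19608)
def n19609 : Q := act 6 n15344
theorem D19609 : act 6 n15344 = n19609 := rfl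
theorem F88947 : act 0 n19609 = n15364 := d5_1 D19609 (iv D15364) (iv F70258)
theorem F88948 : act 2 n19609 = n15345 := d20_1 D19609 (iv D15345) D15344
theorem F88949 : act 3 n19609 = n19609 := d26_1 D19609 (iv D19609) F70259
theorem F88950 : act 4 n19609 = n19609 := d31_1 D19609 (iv D19609) F70260
theorem F88951 : act 8 n19609 = n19609 := d40_2 F70262 D19609 (iv D19609)
def n19610 : Q := act 5 n15345
theorem D19610 : act 5 n15345 = n19610 := rfl
theorem F88952 : act 0 n19610 = n15365 := d4_1 D19610 (iv D15365) (iv F70263)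
theorem F88953 : act 1 n19610 = n16537 := d12_1 D19610 (iv D16537) (iv F70264)
theorem F88954 : act 3 n19610 = n15346 := d25_1 D19610 (iv D15346) (iv F70265)
def n19611 : Q := act 7 n15345
theorem D19611 : act 7 n15345 = n19611 := rfl
theorem F88955 : act 0 n19611 = n15366 := d6_1 D19611 (iv D15366) (iv F70263)
theorem F88959 : act 6 n19611 = n15351 := d39_1 D19611 (iv D15351) (iv D11950) (iv F55367) D15345
def n19612 : Q := act 7 n15346
theorem D19612 : act 7 n15346 = n19612 := rfl
theorem F88961 : act 0 n19612 = n15367 := d6_1 D19612 (iv D15367) (iv F70268)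
theorem F88962 : act 1 n19612 = n16539 := d14_1 D19612 (iv D16539) (iv F70269)
def n19613 : Q := act 8 n15346
theorem D19613 : act 8 n15346 = n19613 := rfl
theorem F88966 : act 0 n19613 = n15368 := d7_1 D19613 (iv D15368) (iv F70268)
theorem F88968 : act 2 n19613 = n19613 := d22_1 D19613 (iv D19613) F70270
theorem F88969 : act 4 n19613 = n19613 := d33_1 D19613 (iv D19613) F70271
theorem F88970 : act 5 n19613 = n19613 := d37_1 D19613 (iv D19613) (iv D15346) F55373 D15346
def n19614 : Q := act 0 n15348
theorem D19614 : act 0 n15348 = n19614 := rfl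
theorem F88971 : act 1 n19614 = n15369 := d0_2 D15348 D19614 (iv D15369) (iv D11963) (iv F55381)
theorem F88972 : act 2 n19614 = n16541 := d1_2 (iv F70278) D19614 (iv D16541)
def n19615 : Q := act 6 n15348
theorem D19615 : act 6 n15348 = n19615 := rfl
theorem F88976 : act 1 n19615 = n15349 := d13_1 D19615 (iv D15349) D15348
theorem F88977 : act 2 n19615 = n16542 := d20_1 D19615 (iv D16542) (iv F70278)
def n19616 : Q := act 5 n15349
theorem D19616 : act 5 n15349 = n19616 := rfl
theorem F88981 : act 0 n19616 = n15371 := d4_1 D19616 (iv D15371) (iv F70282)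
theorem F88982 : act 2 n19616 = n15350 := d19_1 D19616 (iv D15350) (iv F70283)
def n19617 : Q := act 7 n15349
theorem D19617 : act 7 n15349 = n19617 := rfl
def n19618 : Q := act 4 n15350
theorem D19618 : act 4 n15350 = n19618 := rfl
theorem F88989 : act 0 n19618 = n15373 := d3_1 D19618 (iv D15373) (iv F70287)
theorem F88990 : act 1 n19618 = n16545 := d11_1 D19618 (iv D16545) (iv F70288)
theorem F88991 : act 3 n19618 = n15357 := d24_1 D19618 (iv D15357) F55412 (iv F55393) (iv F70289)
theorem F88993 : act 2 n16569 = n19618 := d17_5 F88991 F70326 F62961 (iv F58906) (iv F75001)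
theorem F88994 : act 8 n16565 = n19618 := d28_0 F88991 (iv F70328) (iv F74988)
theorem F88995 : act 4 n19616 = n16569 := d18_0 F88993 (iv D19618) (iv F88982)
theorem F88996 : act 1 n16607 = n19616 := d11_3 F88995 F75000 (iv F75140)
theorem F88997 : act 8 n16567 = n19616 := d33_0 F88995 (iv D16569) D16567
theorem F88998 : act 5 n19615 = n16607 := d12_0 F88996 (iv D19616) (iv F88976)
def n19619 : Q := act 7 n15350
theorem D19619 : act 7 n15350 = n19619 := rfl
theorem F88999 : act 0 n19619 = n15374 := d6_1 D19619 (iv D15374) (iv F70287)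
theorem F89000 : act 1 n19619 = n16546 := d14_1 D19619 (iv D16546) (iv F70288)
theorem F89001 : act 3 n19619 = n15352 := d27_1 D19619 (iv D15352) (iv F70289)
def n19620 : Q := act 8 n15350
theorem D19620 : act 8 n15350 = n19620 := rfl
theorem F89003 : act 0 n19620 = n15375 := d7_1 D19620 (iv D15375) (iv F70287)
theorem F89004 : act 1 n19620 = n16547 := d15_1 D19620 (iv D16547) (iv F70288)
theorem F89005 : act 2 n19620 = n16567 := d22_1 D19620 F88997 F88982
theorem F89006 : act 3 n19620 = n15353 := d28_1 D19620 (iv D15353) (iv F70289)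
def n19621 : Q := act 6 n15352
theorem D19621 : act 6 n15352 = n19621 := rfl
theorem F89009 : act 0 n19621 = n15376 := d5_1 D19621 (iv D15376) (iv F70295)
def n19622 : Q := act 8 n15352
theorem D19622 : act 8 n15352 = n19622 := rfl
theorem F89016 : act 4 n19622 = n15361 := d33_1 D19622 (iv D15361) (iv F70298)
def n19623 : Q := act 9 n15353
theorem D19623 : act 9 n15353 = n19623 := rfl
theorem F89020 : act 1 n19623 = n16550 := d16_1 D19623 (iv D16550) (iv F70301)
def n19624 : Q := act 7 n15354
theorem D19624 : act 7 n15354 = n19624 := rfl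
theorem F89029 : act 5 n19624 = n17930 := d36_1 D19624 F80520 F70311
theorem F89031 : act 8 n19624 = n15468 := d42_2 (iv F70310) D19624 (iv D15468)
def n19625 : Q := act 7 n15355
theorem D19625 : act 7 n15355 = n19625 := rfl
theorem F89034 : act 2 n19625 = n15358 := d21_1 D19625 (iv D15358) (iv F70314)
theorem F89038 : act 8 n19625 = n17880 := d42_2 (iv F70316) D19625 (iv D17880)
def n19626 : Q := act 7 n15357
theorem D19626 : act 7 n15357 = n19626 := rfl
theorem F89042 : act 4 n19626 = n15358 := d32_1 D19626 (iv D15358) D15357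
theorem F89044 : act 8 n19626 = n17879 := d42_2 F70328 D19626 (iv D17879)
def n19627 : Q := act 6 n15358
theorem D19627 : act 6 n15358 = n19627 := rfl
def n19628 : Q := act 8 n15358
theorem D19628 : act 8 n15358 = n19628 := rfl
theorem F89052 : act 3 n19628 = n15361 := d28_1 D19628 (iv D15361) (iv F70331)
theorem F89054 : act 5 n19628 = n15472 := d37_1 D19628 (iv D15472) F55808 (iv F55418) (iv F70332)
def n19629 : Q := act 9 n15359
theorem D19629 : act 9 n15359 = n19629 := rfl
theorem F89057 : act 1 n19629 = n16560 := d16_1 D19629 (iv D16560) (iv F70334)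
theorem F89060 : act 4 n19629 = n17561 := d34_1 D19629 F79047 (iv F70337)
theorem F89061 : act 5 n19629 = n15473 := d38_1 D19629 (iv D15473) (iv F70338)
def n19630 : Q := act 8 n15360
theorem D19630 : act 8 n15360 = n19630 := rfl
theorem F89065 : act 6 n19630 = n15361 := d40_1 D19630 (iv D15361) D15360
def n19631 : Q := act 9 n15361
theorem D19631 : act 9 n15361 = n19631 := rfl
theorem F89069 : act 5 n19631 = n15475 := d38_1 D19631 (iv D15475) (iv F70346)
def n19632 : Q := act 0 n15363
theorem D19632 : act 0 n15363 = n19632 := rfl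
theorem F89071 : act 2 n19632 = n15389 := d1_2 (iv F70352) D19632 (iv D15389)
theorem F89074 : act 7 n19632 = n15369 := d6_2 (iv F70355) D19632 (iv D15369)
def n19633 : Q := act 6 n15363
theorem D19633 : act 6 n15363 = n19633 := rfl
theorem F89076 : act 1 n19633 = n15364 := d13_1 D19633 (iv D15364) D15363
theorem F89077 : act 2 n19633 = n15390 := d20_1 D19633 (iv D15390) (iv F70352)
def n19634 : Q := act 5 n15364
theorem D19634 : act 5 n15364 = n19634 := rfl
theorem F89081 : act 2 n19634 = n15365 := d19_1 D19634 (iv D15365) (iv F70357)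
def n19635 : Q := act 7 n15364
theorem D19635 : act 7 n15364 = n19635 := rfl
theorem F89083 : act 2 n19635 = n15366 := d21_1 D19635 (iv D15366) (iv F70357)
def n19636 : Q := act 4 n15365
theorem D19636 : act 4 n15365 = n19636 := rfl
theorem F89088 : act 1 n19636 = n15393 := d11_1 D19636 (iv D15393) (iv F70361)
theorem F89089 : act 3 n19636 = n19636 := d24_1 D19636 (iv D19636) F70362 F55437 (iv F70362)
theorem F89090 : act 5 n19636 = n19636 := d30_2 D15365 D19636 (iv D19636) (iv D15365) F55433
def n19637 : Q := act 7 n15365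
theorem D19637 : act 7 n15365 = n19637 := rfl
theorem F89091 : act 1 n19637 = n15394 := d14_1 D19637 (iv D15394) (iv F70361)
theorem F89092 : act 3 n19637 = n15367 := d27_1 D19637 (iv D15367) (iv F70362)
theorem F89093 : act 5 n19637 = n15366 := d36_1 D19637 (iv D15366) D15365
def n19638 : Q := act 8 n15365
theorem D19638 : act 8 n15365 = n19638 := rfl
theorem F89094 : act 1 n19638 = n15395 := d15_1 D19638 (iv D15395) (iv F70361)
theorem F89095 : act 3 n19638 = n15368 := d28_1 D19638 (iv D15368) (iv F70362)
theorem F89096 : act 5 n19638 = n19638 := d37_1 D19638 (iv D19638) (iv D15365) F55434 D15365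
def n19639 : Q := act 6 n15367
theorem D19639 : act 6 n15367 = n19639 := rfl
theorem F89097 : act 1 n19639 = n15396 := d13_1 D19639 (iv D15396) (iv F70368)
theorem F89100 : act 5 n19639 = n15376 := d35_1 D19639 (iv D15376) F55460 (iv F55441) (iv F70371)
def n19640 : Q := act 8 n15367
theorem D19640 : act 8 n15367 = n19640 := rfl
theorem F89101 : act 1 n19640 = n15397 := d15_1 D19640 (iv D15397) (iv F70368)
theorem F89102 : act 2 n19640 = n19640 := d22_1 D19640 (iv D19640) F70369
theorem F89103 : act 4 n19640 = n19640 := d33_1 D19640 (iv D19640) F70370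
theorem F89104 : act 5 n19640 = n19640 := d37_1 D19640 (iv D19640) F70371 F55442 (iv F70371)
theorem F89105 : act 7 n19640 = n15368 := d42_1 D19640 (iv D15368) D15367
def n19641 : Q := act 9 n15368
theorem D19641 : act 9 n15368 = n19641 := rfl
theorem F89106 : act 1 n19641 = n15398 := d16_1 D19641 (iv D15398) (iv F70372)
theorem F89107 : act 2 n19641 = n19641 := d23_1 D19641 (iv D19641) F70373
theorem F89108 : act 4 n19641 = n19641 := d34_1 D19641 (iv D19641) F70374
theorem F89109 : act 5 n19641 = n19641 := d38_1 D19641 (iv D19641) F70375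
def n19642 : Q := act 6 n15369
theorem D19642 : act 6 n15369 = n19642 := rfl
theorem F89111 : act 2 n19642 = n15399 := d20_1 D19642 (iv D15399) (iv F70376)
def n19643 : Q := act 5 n15370
theorem D19643 : act 5 n15370 = n19643 := rfl
theorem F89115 : act 1 n19643 = n15371 := d12_1 D19643 (iv D15371) (iv F70380)
theorem F89116 : act 2 n19643 = n15400 := d19_1 D19643 (iv D15400) (iv F70381)
theorem F89117 : act 3 n19643 = n19643 := d25_1 D19643 (iv D19643) F70382
def n19644 : Q := act 7 n15370
theorem D19644 : act 7 n15370 = n19644 := rfl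
def n19645 : Q := act 4 n15371
theorem D19645 : act 4 n15371 = n19645 := rfl
theorem F89123 : act 0 n19645 = n16569 := d3_1 D19645 (iv F88995) F88981
theorem F89124 : act 2 n19645 = n15373 := d18_1 D19645 (iv D15373) (iv F70385)
theorem F89125 : act 5 n19645 = n19645 := d30_2 D15371 D19645 (iv D19645) (iv D15371) F55449
theorem F89126 : act 3 n16540 = n19645 := d17_0 F89124 F70392 (iv F70414) (iv F70416) (iv F74884)
theorem F89127 : act 8 n19645 = n16537 := d28_2 D16540 F89126 F74873
def n19646 : Q := act 7 n15371
theorem D19646 : act 7 n15371 = n19646 := rfl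
def n19647 : Q := act 8 n15371
theorem D19647 : act 8 n15371 = n19647 := rfl
theorem F89131 : act 0 n19647 = n16567 := d7_1 D19647 F88997 F88981
theorem F89132 : act 2 n19647 = n15375 := d22_1 D19647 (iv D15375) (iv F70385)
theorem F89133 : act 3 n19647 = n19647 := d28_1 D19647 (iv D19647) F70386
theorem F89134 : act 4 n19647 = n16537 := d33_1 D19647 (iv F89127) (iv D19645)
theorem F89135 : act 5 n19647 = n19647 := d37_1 D19647 (iv D19647) (iv D15371) F55450 D15371
def n19648 : Q := act 7 n15373
theorem D19648 : act 7 n15373 = n19648 := rfl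
def n19649 : Q := act 8 n15373
theorem D19649 : act 8 n15373 = n19649 := rfl
theorem F89143 : act 3 n19649 = n15383 := d28_1 D19649 (iv D15383) (iv F70392)
theorem F89144 : act 4 n19649 = n15375 := d33_1 D19649 (iv D15375) D15373
theorem F89145 : act 5 n16536 = n19649 := d25_0 F89143 (iv F70435) (iv F74869)
def n19650 : Q := act 6 n15374
theorem D19650 : act 6 n15374 = n19650 := rfl
def n19652 : Q := act 9 n15375
theorem D19652 : act 9 n15375 = n19652 := rfl
theorem F89152 : act 1 n19652 = n15409 := d16_1 D19652 (iv D15409) (iv F70397)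
def n19653 : Q := act 8 n15376
theorem D19653 : act 8 n15376 = n19653 := rfl
theorem F89155 : act 1 n19653 = n15410 := d15_1 D19653 (iv D15410) (iv F70400)
theorem F89157 : act 4 n19653 = n15387 := d33_1 D19653 (iv D15387) (iv F70402)
def n19654 : Q := act 9 n15377
theorem D19654 : act 9 n15377 = n19654 := rfl
theorem F89161 : act 4 n19654 = n15388 := d34_1 D19654 (iv D15388) (iv F70405)
theorem F89163 : act 7 n19654 = n15378 := d43_1 D19654 (iv D15378) (iv F70407)
def n19659 : Q := act 6 n15382
theorem D19659 : act 6 n15382 = n19659 := rfl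
def n19660 : Q := act 8 n15382
theorem D19660 : act 8 n15382 = n19660 := rfl
theorem F89194 : act 7 n19660 = n15383 := d42_1 D19660 (iv D15383) D15382
theorem F89195 : act 5 n17843 = n19660 := d36_3 F89194 (iv F70435) D17843
def n19661 : Q := act 9 n15383
theorem D19661 : act 9 n15383 = n19661 := rfl
def n19662 : Q := act 8 n15384
theorem D19662 : act 8 n15384 = n19662 := rfl
theorem F89203 : act 6 n19662 = n15385 := d40_1 D19662 (iv D15385) D15384
def n19664 : Q := act 5 n15387
theorem D19664 : act 5 n15387 = n19664 := rfl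
theorem F89210 : act 6 n19664 = n15485 := d35_2 (iv F70448) D19664 (iv D15485) F55870 (iv F55487)
def n19666 : Q := act 6 n15389
theorem D19666 : act 6 n15389 = n19666 := rfl
theorem F89215 : act 0 n19666 = n15390 := d5_1 D19666 (iv D15390) D15389
theorem F89217 : act 3 n19666 = n15420 := d26_1 D19666 (iv D15420) (iv F70454)
def n19667 : Q := act 5 n15390
theorem D19667 : act 5 n15390 = n19667 := rfl
theorem F89220 : act 1 n19667 = n15391 := d12_1 D19667 (iv D15391) (iv F70458)
theorem F89221 : act 3 n19667 = n15421 := d25_1 D19667 (iv D15421) (iv F70459)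
def n19668 : Q := act 7 n15390
theorem D19668 : act 7 n15390 = n19668 := rfl
theorem F89223 : act 3 n19668 = n15422 := d27_1 D19668 (iv D15422) (iv F70459)
theorem F89225 : act 6 n19668 = n15401 := d39_1 D19668 (iv D15401) (iv D11984) (iv F55494) D15390
def n19669 : Q := act 4 n15391
theorem D19669 : act 4 n15391 = n19669 := rfl
theorem F89227 : act 0 n19669 = n16603 := d3_1 D19669 (iv D16603) (iv F70462)
theorem F89228 : act 2 n19669 = n15393 := d18_1 D19669 (iv D15393) (iv F70463)
def n19670 : Q := act 7 n15391
theorem D19670 : act 7 n15391 = n19670 := rfl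
theorem F89230 : act 0 n19670 = n16604 := d6_1 D19670 (iv D16604) (iv F70462)
theorem F89231 : act 2 n19670 = n15394 := d21_1 D19670 (iv D15394) (iv F70463)
theorem F89232 : act 3 n19670 = n15424 := d27_1 D19670 (iv D15424) (iv F70464)
theorem F89233 : act 5 n19670 = n15392 := d36_1 D19670 (iv D15392) D15391
def n19671 : Q := act 8 n15391
theorem D19671 : act 8 n15391 = n19671 := rfl
def n19672 : Q := act 7 n15393
theorem D19672 : act 7 n15393 = n19672 := rfl
theorem F89238 : act 0 n19672 = n16606 := d6_1 D19672 (iv D16606) (iv F70471)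
theorem F89240 : act 4 n19672 = n15394 := d32_1 D19672 (iv D15394) D15393
def n19673 : Q := act 8 n15393
theorem D19673 : act 8 n15393 = n19673 := rfl
theorem F89244 : act 4 n19673 = n15395 := d33_1 D19673 (iv D15395) D15393
def n19674 : Q := act 6 n15394
theorem D19674 : act 6 n15394 = n19674 := rfl
theorem F89245 : act 0 n19674 = n16608 := d5_1 D19674 (iv D16608) (iv F70474)
theorem F89246 : act 3 n19674 = n15396 := d26_1 D19674 (iv D15396) (iv F70475)
theorem F89247 : act 5 n19674 = n15407 := d35_1 D19674 (iv D15407) F55537 (iv F55506) (iv F70476)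
def n19675 : Q := act 8 n15394
theorem D19675 : act 8 n15394 = n19675 := rfl
theorem F89248 : act 0 n19675 = n16609 := d7_1 D19675 (iv D16609) (iv F70474)
theorem F89249 : act 3 n19675 = n15397 := d28_1 D19675 (iv D15397) (iv F70475)
def n19676 : Q := act 9 n15395
theorem D19676 : act 9 n15395 = n19676 := rfl
theorem F89253 : act 3 n19676 = n15398 := d29_1 D19676 (iv D15398) (iv F70478)
theorem F89254 : act 5 n19676 = n19676 := d38_1 D19676 (iv D19676) F70479
def n19677 : Q := act 8 n15396
theorem D19677 : act 8 n15396 = n19677 := rfl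
theorem F89255 : act 0 n19677 = n16611 := d7_1 D19677 (iv D16611) (iv F70480)
theorem F89256 : act 2 n19677 = n15431 := d22_1 D19677 (iv D15431) (iv F70481)
theorem F89257 : act 4 n19677 = n19677 := d33_1 D19677 (iv D19677) F70482
theorem F89258 : act 6 n19677 = n15397 := d40_1 D19677 (iv D15397) D15396
def n19678 : Q := act 9 n15397
theorem D19678 : act 9 n15397 = n19678 := rfl
theorem F89259 : act 0 n19678 = n16612 := d8_1 D19678 (iv D16612) (iv F70484)
theorem F89260 : act 2 n19678 = n15432 := d23_1 D19678 (iv D15432) (iv F70485)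
theorem F89261 : act 4 n19678 = n19678 := d34_1 D19678 (iv D19678) F70486
theorem F89262 : act 5 n19678 = n19678 := d38_1 D19678 (iv D19678) F70487
theorem F89263 : act 7 n19678 = n15398 := d43_1 D19678 (iv D15398) (iv F70488)
def n19679 : Q := act 5 n15399
theorem D19679 : act 5 n15399 = n19679 := rfl
theorem F89265 : act 1 n19679 = n16613 := d12_1 D19679 (iv D16613) (iv F70494)
def n19680 : Q := act 7 n15399
theorem D19680 : act 7 n15399 = n19680 := rfl
def n19681 : Q := act 4 n15400
theorem D19681 : act 4 n15400 = n19681 := rfl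
theorem F89272 : act 1 n19681 = n15402 := d11_1 D19681 (iv D15402) (iv F70498)
theorem F89273 : act 3 n19681 = n19681 := d24_1 D19681 (iv D19681) F70499 F55628 (iv F70499)
theorem F89274 : act 5 n19681 = n19681 := d30_2 D15400 D19681 (iv D19681) (iv D15400) F55522
def n19682 : Q := act 7 n15400
theorem D19682 : act 7 n15400 = n19682 := rfl
theorem F89275 : act 1 n19682 = n15403 := d14_1 D19682 (iv D15403) (iv F70498)
theorem F89277 : act 5 n19682 = n15401 := d36_1 D19682 (iv D15401) D15400
def n19683 : Q := act 8 n15400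
theorem D19683 : act 8 n15400 = n19683 := rfl
theorem F89278 : act 1 n19683 = n15404 := d15_1 D19683 (iv D15404) (iv F70498)
theorem F89279 : act 3 n19683 = n15436 := d28_1 D19683 (iv D15436) (iv F70499)
theorem F89280 : act 5 n19683 = n19683 := d37_1 D19683 (iv D19683) (iv D15400) F55523 D15400
def n19684 : Q := act 7 n15402
theorem D19684 : act 7 n15402 = n19684 := rfl
theorem F89282 : act 2 n19684 = n15405 := d21_1 D19684 (iv D15405) (iv F70505)
theorem F89284 : act 4 n19684 = n15403 := d32_1 D19684 (iv D15403) D15402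
def n19685 : Q := act 8 n15402
theorem D19685 : act 8 n15402 = n19685 := rfl
theorem F89286 : act 0 n19685 = n16619 := d7_1 D19685 (iv D16619) (iv F70504)
theorem F89287 : act 2 n19685 = n15406 := d22_1 D19685 (iv D15406) (iv F70505)
theorem F89289 : act 4 n19685 = n15404 := d33_1 D19685 (iv D15404) D15402
def n19686 : Q := act 6 n15403
theorem D19686 : act 6 n15403 = n19686 := rfl
theorem F89290 : act 0 n19686 = n16620 := d5_1 D19686 (iv D16620) (iv F70508)
theorem F89291 : act 2 n19686 = n15407 := d20_1 D19686 (iv D15407) (iv F70509)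
theorem F89292 : act 3 n19686 = n15437 := d26_1 D19686 (iv D15437) (iv F70510)
def n19687 : Q := act 8 n15403
theorem D19687 : act 8 n15403 = n19687 := rfl
theorem F89294 : act 2 n19687 = n15408 := d22_1 D19687 (iv D15408) (iv F70509)
theorem F89295 : act 3 n19687 = n15438 := d28_1 D19687 (iv D15438) (iv F70510)
theorem F89297 : act 7 n19687 = n15404 := d42_1 D19687 (iv D15404) D15403
def n19688 : Q := act 9 n15404
theorem D19688 : act 9 n15404 = n19688 := rfl
theorem F89298 : act 0 n19688 = n16622 := d8_1 D19688 (iv D16622) (iv F70512)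
theorem F89299 : act 2 n19688 = n15409 := d23_1 D19688 (iv D15409) (iv F70513)
theorem F89300 : act 3 n19688 = n15439 := d29_1 D19688 (iv D15439) (iv F70514)
theorem F89301 : act 5 n19688 = n19688 := d38_1 D19688 (iv D19688) F70515
def n19689 : Q := act 6 n15405
theorem D19689 : act 6 n15405 = n19689 := rfl
theorem F89303 : act 3 n19689 = n15412 := d26_1 D19689 (iv D15412) (iv F70517)
theorem F89304 : act 4 n19689 = n15407 := d31_1 D19689 (iv D15407) (iv F70518)
def n19690 : Q := act 8 n15405
theorem D19690 : act 8 n15405 = n19690 := rfl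
theorem F89306 : act 3 n19690 = n15413 := d28_1 D19690 (iv D15413) (iv F70517)
theorem F89307 : act 4 n19690 = n15408 := d33_1 D19690 (iv D15408) (iv F70518)
theorem F89308 : act 7 n19690 = n15406 := d42_1 D19690 (iv D15406) D15405
def n19691 : Q := act 5 n15406
theorem D19691 : act 5 n15406 = n19691 := rfl
theorem F89309 : act 0 n19691 = n16625 := d4_1 D19691 (iv D16625) (iv F70520)
theorem F89311 : act 3 n19691 = n15414 := d25_1 D19691 (iv D15414) (iv F70521)
theorem F89314 : act 6 n16535 = n19691 := d26_0 F89311 (iv F70553) (iv F74863)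
def n19692 : Q := act 9 n15406
theorem D19692 : act 9 n15406 = n19692 := rfl
theorem F89315 : act 0 n19692 = n16626 := d8_1 D19692 (iv D16626) (iv F70520)
def n19693 : Q := act 8 n15407
theorem D19693 : act 8 n15407 = n19693 := rfl
def n19694 : Q := act 9 n15408
theorem D19694 : act 9 n15408 = n19694 := rfl
theorem F89324 : act 7 n19694 = n15409 := d43_1 D19694 (iv D15409) (iv F70528)
def n19695 : Q := act 5 n15410
theorem D19695 : act 5 n15410 = n19695 := rfl
theorem F89326 : act 2 n19695 = n15442 := d19_1 D19695 (iv D15442) (iv F70533)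
def n19696 : Q := act 9 n15410
theorem D19696 : act 9 n15410 = n19696 := rfl
theorem F89329 : act 2 n19696 = n15443 := d23_1 D19696 (iv D15443) (iv F70533)
theorem F89330 : act 4 n19696 = n15419 := d34_1 D19696 (iv D15419) (iv F70534)
def n19698 : Q := act 8 n15412
theorem D19698 : act 8 n15412 = n19698 := rfl
theorem F89336 : act 0 n19698 = n16632 := d7_1 D19698 (iv D16632) (iv F70541)
theorem F89339 : act 6 n19698 = n15413 := d40_1 D19698 (iv D15413) D15412
def n19699 : Q := act 5 n15413
theorem D19699 : act 5 n15413 = n19699 := rfl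
theorem F89344 : act 7 n19699 = n15414 := d36_2 (iv F70547) D19699 (iv D15414)
theorem F89346 : act 6 n17850 = n19699 := d39_5 F89344 (iv F70553) F62835 D13835 D17850
def n19700 : Q := act 9 n15413
theorem D19700 : act 9 n15413 = n19700 := rfl
def n19701 : Q := act 9 n15414
theorem D19701 : act 9 n15414 = n19701 := rfl
theorem F89354 : act 4 n19701 = n15491 := d34_1 D19701 (iv D15491) (iv F70551)
theorem F89356 : act 6 n19701 = n17509 := d41_1 D19701 F78842 F70553
def n19702 : Q := act 5 n15416
theorem D19702 : act 5 n15416 = n19702 := rfl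
theorem F89360 : act 6 n19702 = n15492 := d35_2 (iv F70560) D19702 (iv D15492) F55901 (iv F55567)
def n19703 : Q := act 9 n15416
theorem D19703 : act 9 n15416 = n19703 := rfl
def n19704 : Q := act 4 n15418
theorem D19704 : act 4 n15418 = n19704 := rfl
theorem F89367 : act 2 n19704 = n15444 := d18_1 D19704 (iv D15444) (iv F70567)
theorem F89368 : act 6 n19704 = n15494 := d31_2 (iv F70568) D19704 (iv D15494)
def n19705 : Q := act 9 n15418
theorem D19705 : act 9 n15418 = n19705 := rfl
theorem F89372 : act 5 n19705 = n15419 := d38_1 D19705 (iv D15419) D15418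
def n19706 : Q := act 5 n15420
theorem D19706 : act 5 n15420 = n19706 := rfl
theorem F89374 : act 0 n19706 = n15421 := d4_1 D19706 (iv D15421) (iv F70573)
def n19707 : Q := act 7 n15420
theorem D19707 : act 7 n15420 = n19707 := rfl
theorem F89380 : act 4 n19707 = n15447 := d32_1 D19707 (iv D15447) (iv F70576)
theorem F89381 : act 6 n19707 = n15434 := d39_1 D19707 (iv D15434) (iv D12010) (iv F55583) D15420
def n19708 : Q := act 4 n15421
theorem D19708 : act 4 n15421 = n19708 := rfl
theorem F89385 : act 5 n19708 = n15448 := d30_2 D15421 D19708 (iv D15448) (iv D12023) (iv F55587)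
def n19709 : Q := act 7 n15421
theorem D19709 : act 7 n15421 = n19709 := rfl
theorem F89388 : act 5 n19709 = n15422 := d36_1 D19709 (iv D15422) D15421
def n19711 : Q := act 3 n15423
theorem D19711 : act 3 n15423 = n19711 := rfl
theorem F89394 : act 5 n19711 = n15451 := d25_2 (iv F70587) D19711 (iv D15451)
def n19712 : Q := act 7 n15423
theorem D19712 : act 7 n15423 = n19712 := rfl
theorem F89395 : act 0 n19712 = n16647 := d6_1 D19712 (iv D16647) (iv F70585)
theorem F89397 : act 4 n19712 = n15424 := d32_1 D19712 (iv D15424) D15423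
theorem F89398 : act 5 n19712 = n15452 := d36_1 D19712 (iv D15452) (iv F70587)
def n19714 : Q := act 6 n15424
theorem D19714 : act 6 n15424 = n19714 := rfl
theorem F89404 : act 5 n19714 = n15437 := d35_1 D19714 (iv D15437) F55636 (iv F55594) (iv F70590)
def n19715 : Q := act 8 n15424
theorem D19715 : act 8 n15424 = n19715 := rfl
def n19717 : Q := act 6 n15426
theorem D19717 : act 6 n15426 = n19717 := rfl
theorem F89415 : act 4 n19717 = n15428 := d31_1 D19717 (iv D15428) (iv F70597)
def n19718 : Q := act 8 n15426
theorem D19718 : act 8 n15426 = n19718 := rfl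
theorem F89420 : act 4 n19718 = n15429 := d33_1 D19718 (iv D15429) (iv F70597)
def n19721 : Q := act 8 n15428
theorem D19721 : act 8 n15428 = n19721 := rfl
def n19723 : Q := act 5 n15431
theorem D19723 : act 5 n15431 = n19723 := rfl
theorem F89441 : act 0 n19723 = n16658 := d4_1 D19723 (iv D16658) (iv F70616)
theorem F89442 : act 1 n19723 = n19723 := d12_1 D19723 (iv D19723) F70617
theorem F89443 : act 6 n19723 = n19723 := d35_2 (iv F70619) D19723 (iv D19723) F70619 F55615
theorem F89444 : act 8 n19723 = n15442 := d37_2 D15431 D19723 (iv D15442) (iv D12018) (iv F55611)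
def n19724 : Q := act 9 n15431
theorem D19724 : act 9 n15431 = n19724 := rfl
theorem F89445 : act 0 n19724 = n16659 := d8_1 D19724 (iv D16659) (iv F70616)
theorem F89446 : act 1 n19724 = n19724 := d16_1 D19724 (iv D19724) F70617
theorem F89447 : act 4 n19724 = n19724 := d34_1 D19724 (iv D19724) F70618
theorem F89448 : act 6 n19724 = n15432 := d41_1 D19724 (iv D15432) (iv F70619)
def n19725 : Q := act 7 n15433
theorem D19725 : act 7 n15433 = n19725 := rfl
theorem F89453 : act 5 n19725 = n15434 := d36_1 D19725 (iv D15434) D15433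
def n19726 : Q := act 8 n15433
theorem D19726 : act 8 n15433 = n19726 := rfl
theorem F89454 : act 0 n19726 = n15436 := d7_1 D19726 (iv D15436) (iv F70625)
def n19727 : Q := act 6 n15435
theorem D19727 : act 6 n15435 = n19727 := rfl
theorem F89459 : act 1 n19727 = n15437 := d13_1 D19727 (iv D15437) (iv F70634)
def n19728 : Q := act 8 n15435
theorem D19728 : act 8 n15435 = n19728 := rfl
theorem F89462 : act 1 n19728 = n15438 := d15_1 D19728 (iv D15438) (iv F70634)
theorem F89466 : act 7 n19728 = n15436 := d42_1 D19728 (iv D15436) D15435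
def n19729 : Q := act 9 n15436
theorem D19729 : act 9 n15436 = n19729 := rfl
theorem F89467 : act 1 n19729 = n15439 := d16_1 D19729 (iv D15439) (iv F70638)
theorem F89468 : act 2 n19729 = n19729 := d23_1 D19729 (iv D19729) F70639
theorem F89469 : act 4 n19729 = n19729 := d34_1 D19729 (iv D19729) F70640
theorem F89470 : act 5 n19729 = n19729 := d38_1 D19729 (iv D19729) F70641
def n19730 : Q := act 8 n15437
theorem D19730 : act 8 n15437 = n19730 := rfl
theorem F89471 : act 0 n19730 = n16665 := d7_1 D19730 (iv D16665) (iv F70642)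
theorem F89472 : act 2 n19730 = n15440 := d22_1 D19730 (iv D15440) (iv F70643)
theorem F89473 : act 4 n19730 = n19730 := d33_1 D19730 (iv D19730) F70644
theorem F89474 : act 6 n19730 = n15438 := d40_1 D19730 (iv D15438) D15437
def n19731 : Q := act 9 n15438
theorem D19731 : act 9 n15438 = n19731 := rfl
theorem F89475 : act 0 n19731 = n16666 := d8_1 D19731 (iv D16666) (iv F70645)
theorem F89476 : act 2 n19731 = n15441 := d23_1 D19731 (iv D15441) (iv F70646)
theorem F89477 : act 4 n19731 = n19731 := d34_1 D19731 (iv D19731) F70647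
theorem F89478 : act 5 n19731 = n19731 := d38_1 D19731 (iv D19731) F70648
theorem F89479 : act 7 n19731 = n15439 := d43_1 D19731 (iv D15439) (iv F70649)
def n19732 : Q := act 5 n15440
theorem D19732 : act 5 n15440 = n19732 := rfl
theorem F89480 : act 0 n19732 = n16667 := d4_1 D19732 (iv D16667) (iv F70654)
theorem F89481 : act 1 n19732 = n19732 := d12_1 D19732 (iv D19732) F70655
theorem F89482 : act 3 n19732 = n15442 := d25_1 D19732 (iv D15442) (iv F70656)
theorem F89483 : act 6 n19732 = n19732 := d35_2 (iv F70658) D19732 (iv D19732) F70658 F55649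
def n19733 : Q := act 9 n15440
theorem D19733 : act 9 n15440 = n19733 := rfl
theorem F89484 : act 0 n19733 = n16668 := d8_1 D19733 (iv D16668) (iv F70654)
theorem F89485 : act 1 n19733 = n19733 := d16_1 D19733 (iv D19733) F70655
theorem F89486 : act 3 n19733 = n15443 := d29_1 D19733 (iv D15443) (iv F70656)
theorem F89487 : act 4 n19733 = n19733 := d34_1 D19733 (iv D19733) F70657
theorem F89488 : act 6 n19733 = n15441 := d41_1 D19733 (iv D15441) (iv F70658)
def n19734 : Q := act 4 n15442
theorem D19734 : act 4 n15442 = n19734 := rfl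
theorem F89491 : act 5 n19734 = n15444 := d30_2 D15442 D19734 (iv D15444) (iv D12020) (iv F55658)
def n19735 : Q := act 9 n15442
theorem D19735 : act 9 n15442 = n19735 := rfl
theorem F89493 : act 0 n19735 = n16670 := d8_1 D19735 (iv D16670) (iv F70665)
theorem F89494 : act 1 n19735 = n19735 := d16_1 D19735 (iv D19735) F70666
theorem F89495 : act 5 n19735 = n15443 := d38_1 D19735 (iv D15443) D15442
theorem F89496 : act 6 n19735 = n19735 := d41_1 D19735 (iv D19735) F70667
def n19736 : Q := act 3 n15444
theorem D19736 : act 3 n15444 = n19736 := rfl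
theorem F89500 : act 6 n19736 = n15496 := d26_2 (iv F70674) D19736 (iv D15496)
def n19739 : Q := act 4 n15446
theorem D19739 : act 4 n15446 = n19739 := rfl
theorem F89511 : act 0 n19739 = n15448 := d3_1 D19739 (iv D15448) (iv F70681)
theorem F89512 : act 1 n19739 = n16674 := d11_1 D19739 (iv D16674) (iv F70682)
def n19740 : Q := act 7 n15446
theorem D19740 : act 7 n15446 = n19740 := rfl
theorem F89519 : act 5 n19740 = n15447 := d36_1 D19740 (iv D15447) D15446
def n19741 : Q := act 8 n15446
theorem D19741 : act 8 n15446 = n19741 := rfl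
theorem F89521 : act 0 n19741 = n15450 := d7_1 D19741 (iv D15450) (iv F70681)
theorem F89522 : act 1 n19741 = n16676 := d15_1 D19741 (iv D16676) (iv F70682)
def n19742 : Q := act 3 n15448
theorem D19742 : act 3 n15448 = n19742 := rfl
def n19743 : Q := act 7 n15448
theorem D19743 : act 7 n15448 = n19743 := rfl
def n19745 : Q := act 8 n15449
theorem D19745 : act 8 n15449 = n19745 := rfl
theorem F89543 : act 7 n19745 = n15450 := d42_1 D19745 (iv D15450) D15449
def n19748 : Q := act 8 n15451
theorem D19748 : act 8 n15451 = n19748 := rfl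
theorem F89555 : act 2 n19748 = n19748 := d22_1 D19748 (iv D19748) F70706
theorem F89556 : act 3 n19748 = n15453 := d28_1 D19748 (iv D15453) D15451
def n19749 : Q := act 8 n15452
theorem D19749 : act 8 n15452 = n19749 := rfl
theorem F89559 : act 0 n19749 = n16684 := d7_1 D19749 (iv D16684) (iv F70709)
def n19750 : Q := act 5 n15453
theorem D19750 : act 5 n15453 = n19750 := rfl
theorem F89566 : act 4 n19750 = n19750 := d30_1 D19750 (iv D19750) F70715 F55699 (iv F70715)
def n19752 : Q := act 9 n15454
theorem D19752 : act 9 n15454 = n19752 := rfl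
theorem F89577 : act 7 n19752 = n15455 := d43_1 D19752 (iv D15455) (iv F70722)
def n19753 : Q := act 5 n15456
theorem D19753 : act 5 n15456 = n19753 := rfl
theorem F89578 : act 0 n19753 = n16688 := d4_1 D19753 (iv D16688) (iv F70728)
def n19754 : Q := act 9 n15456
theorem D19754 : act 9 n15456 = n19754 := rfl
theorem F89583 : act 0 n19754 = n16689 := d8_1 D19754 (iv D16689) (iv F70728)
def n19763 : Q := act 6 n15469
theorem D19763 : act 6 n15469 = n19763 := rfl
theorem F89635 : act 4 n19763 = n18347 := d31_1 D19763 F82593 (iv F70804)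
def n19764 : Q := act 6 n15470
theorem D19764 : act 6 n15470 = n19764 := rfl
theorem F89641 : act 1 n19764 = n16703 := d13_1 D19764 (iv D16703) (iv F70809)
theorem F89644 : act 4 n19764 = n15471 := d31_1 D19764 (iv D15471) (iv F70812)
theorem F89646 : act 8 n19764 = n18345 := d40_2 (iv F70814) D19764 (iv D18345)
def n19765 : Q := act 8 n15471
theorem D19765 : act 8 n15471 = n19765 := rfl
theorem F89651 : act 3 n19765 = n15474 := d28_1 D19765 (iv D15474) (iv F70818)
theorem F89652 : act 4 n19765 = n18345 := d33_1 D19765 (iv F89646) F89644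
theorem F89653 : act 6 n19765 = n15472 := d40_1 D19765 (iv D15472) D15471
def n19766 : Q := act 9 n15472
theorem D19766 : act 9 n15472 = n19766 := rfl
def n19767 : Q := act 5 n15474
theorem D19767 : act 5 n15474 = n19767 := rfl
theorem F89663 : act 1 n19767 = n16708 := d12_1 D19767 (iv D16708) (iv F70836)
def n19768 : Q := act 9 n15474
theorem D19768 : act 9 n15474 = n19768 := rfl
theorem F89671 : act 6 n19768 = n15475 := d41_1 D19768 (iv D15475) (iv F70839)
def n19769 : Q := act 6 n15476
theorem D19769 : act 6 n15476 = n19769 := rfl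
theorem F89676 : act 2 n19769 = n15480 := d20_1 D19769 (iv D15480) (iv F70849)
theorem F89678 : act 4 n19769 = n15477 := d31_1 D19769 (iv D15477) (iv F70851)
theorem F89680 : act 8 n19769 = n18306 := d40_2 (iv F70853) D19769 (iv D18306)
def n19772 : Q := act 5 n15480
theorem D19772 : act 5 n15480 = n19772 := rfl
theorem F89696 : act 1 n19772 = n15487 := d12_1 D19772 (iv D15487) (iv F70874)
def n19773 : Q := act 8 n15480
theorem D19773 : act 8 n15480 = n19773 := rfl
theorem F89703 : act 1 n19773 = n15488 := d15_1 D19773 (iv D15488) (iv F70874)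
theorem F89706 : act 4 n19773 = n15483 := d33_1 D19773 (iv D15483) (iv F70876)
theorem F89707 : act 6 n19773 = n15481 := d40_1 D19773 (iv D15481) D15480
theorem F89709 : act 5 n18315 = n19773 := d35_5 F89707 (iv F70885) F64809 (iv F64857) D18315
def n19775 : Q := act 5 n15483
theorem D19775 : act 5 n15483 = n19775 := rfl
theorem F89719 : act 3 n19775 = n15485 := d25_1 D19775 (iv D15485) (iv F70895)
def n19776 : Q := act 9 n15483
theorem D19776 : act 9 n15483 = n19776 := rfl
theorem F89723 : act 3 n19776 = n15486 := d29_1 D19776 (iv D15486) (iv F70895)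
def n19779 : Q := act 8 n15487
theorem D19779 : act 8 n15487 = n19779 := rfl
theorem F89736 : act 0 n19779 = n16725 := d7_1 D19779 (iv D16725) (iv F70912)
def n19780 : Q := act 5 n15488
theorem D19780 : act 5 n15488 = n19780 := rfl
theorem F89742 : act 0 n19780 = n16726 := d4_1 D19780 (iv D16726) (iv F70919)
theorem F89743 : act 1 n19780 = n18315 := d12_1 D19780 F89709 F89703
theorem F89746 : act 6 n19780 = n18310 := d35_2 (iv F70923) D19780 F82416 F70931 (iv D15489)
def n19781 : Q := act 9 n15488
theorem D19781 : act 9 n15488 = n19781 := rfl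
theorem F89751 : act 4 n19781 = n15493 := d34_1 D19781 (iv D15493) (iv F70922)
theorem F89752 : act 6 n19781 = n15490 := d41_1 D19781 (iv D15490) (iv F70923)
def n19782 : Q := act 9 n15489
theorem D19782 : act 9 n15489 = n19782 := rfl
theorem F89760 : act 6 n19782 = n18080 := d41_1 D19782 F81252 F70931
theorem F89761 : act 7 n19782 = n15491 := d43_1 D19782 (iv D15491) (iv F70929)
def n19783 : Q := act 8 n15491
theorem D19783 : act 8 n15491 = n19783 := rfl
theorem F89762 : act 0 n19783 = n16731 := d7_1 D19783 (iv D16731) (iv F70938)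
theorem F89767 : act 6 n19783 = n15514 := d40_1 D19783 F71064 (iv F70943)
def n19784 : Q := act 4 n15492
theorem D19784 : act 4 n15492 = n19784 := rfl
def n19786 : Q := act 3 n15494
theorem D19786 : act 3 n15494 = n19786 := rfl
def n19788 : Q := act 8 n15495
theorem D19788 : act 8 n15495 = n19788 := rfl
def n19789 : Q := act 2 n15496
theorem D19789 : act 2 n15496 = n19789 := rfl
def n19790 : Q := act 9 n15496
theorem D19790 : act 9 n15496 = n19790 := rfl
def n19792 : Q := act 2 n15499
theorem D19792 : act 2 n15499 = n19792 := rfl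
theorem F89811 : act 5 n19792 = n15530 := d19_2 (iv F70983) D19792 (iv D15530)
def n19793 : Q := act 6 n15499
theorem D19793 : act 6 n15499 = n19793 := rfl
theorem F89816 : act 3 n19793 = n15500 := d26_1 D19793 (iv D15500) D15499
def n19794 : Q := act 5 n15500
theorem D19794 : act 5 n15500 = n19794 := rfl
theorem F89820 : act 1 n19794 = n15506 := d12_1 D19794 (iv D15506) (iv F70987)
theorem F89821 : act 2 n19794 = n19794 := d19_1 D19794 (iv D19794) F70988
theorem F89822 : act 6 n19794 = n15532 := d35_2 D15500 D19794 (iv D15532) (iv D12097) (iv F55930)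
theorem F89823 : act 9 n19794 = n19794 := d38_2 F70991 D19794 (iv D19794)
def n19795 : Q := act 7 n15500
theorem D19795 : act 7 n15500 = n19795 := rfl
theorem F89826 : act 4 n19795 = n15501 := d32_1 D19795 (iv D15501) (iv F70989)
def n19796 : Q := act 2 n15502
theorem D19796 : act 2 n15502 = n19796 := rfl
theorem F89831 : act 3 n19796 = n15508 := d17_2 D15502 D19796 (iv D15508) (iv D12079) (iv F55940)
theorem F89833 : act 5 n19796 = n15544 := d19_2 (iv F71000) D19796 (iv D15544)
theorem F89835 : act 8 n19796 = n16284 := d22_2 (iv F71002) D19796 (iv D16284)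
def n19797 : Q := act 6 n15502
theorem D19797 : act 6 n15502 = n19797 := rfl
def n19798 : Q := act 5 n15503
theorem D19798 : act 5 n15503 = n19798 := rfl
theorem F89842 : act 0 n19798 = n16309 := d4_1 D19798 (iv D16309) (iv F71004)
theorem F89844 : act 4 n19798 = n15506 := d30_1 D19798 (iv D15506) F55958 (iv F55948) (iv F71006)
theorem F89845 : act 6 n19798 = n15546 := d35_2 D15503 D19798 (iv D15546) (iv D12106) (iv F55941)
def n19799 : Q := act 7 n15503
theorem D19799 : act 7 n15503 = n19799 := rfl
theorem F89850 : act 6 n19799 = n16283 := d39_1 D19799 (iv D16283) (iv D12653) (iv F55942) D15503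
def n19800 : Q := act 5 n15505
theorem D19800 : act 5 n15505 = n19800 := rfl
theorem F89854 : act 3 n19800 = n15506 := d25_1 D19800 (iv D15506) (iv F71017)
theorem F89855 : act 6 n19800 = n15548 := d35_2 D15505 D19800 (iv D15548) (iv D12108) (iv F55953)
def n19801 : Q := act 7 n15505
theorem D19801 : act 7 n15505 = n19801 := rfl
theorem F89858 : act 3 n19801 = n15507 := d27_1 D19801 (iv D15507) (iv F71017)
def n19802 : Q := act 7 n15506
theorem D19802 : act 7 n15506 = n19802 := rfl
theorem F89863 : act 2 n19802 = n15512 := d21_1 D19802 (iv D15512) (iv F71021)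
def n19803 : Q := act 8 n15506
theorem D19803 : act 8 n15506 = n19803 := rfl
theorem F89866 : act 2 n19803 = n15513 := d22_1 D19803 (iv D15513) (iv F71021)
theorem F89867 : act 5 n19803 = n19803 := d37_1 D19803 (iv D19803) (iv D15506) F55959 D15506
theorem F89868 : act 6 n19803 = n15551 := d40_1 D19803 (iv D15551) (iv F71022)
def n19804 : Q := act 1 n15508
theorem D19804 : act 1 n15508 = n19804 := rfl
theorem F89871 : act 5 n19804 = n15566 := d12_2 (iv F71031) D19804 (iv D15566)
theorem F89873 : act 8 n19804 = n17509 := d15_2 (iv F71033) D19804 (iv D17509)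
def n19805 : Q := act 6 n15508
theorem D19805 : act 6 n15508 = n19805 := rfl
def n19806 : Q := act 5 n15509
theorem D19806 : act 5 n15509 = n19806 := rfl
theorem F89884 : act 6 n19806 = n15568 := d35_2 D15509 D19806 (iv D15568) (iv D12122) (iv F55969)
def n19807 : Q := act 7 n15509
theorem D19807 : act 7 n15509 = n19807 := rfl
theorem F89890 : act 6 n19807 = n17506 := d39_1 D19807 (iv D17506) (iv D13580) (iv F55970) D15509
def n19808 : Q := act 7 n15510
theorem D19808 : act 7 n15510 = n19808 := rfl
theorem F89895 : act 4 n19808 = n15512 := d32_1 D19808 (iv D15512) (iv F71043)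
theorem F89896 : act 5 n19808 = n15511 := d36_1 D19808 (iv D15511) D15510
def n19809 : Q := act 8 n15510
theorem D19809 : act 8 n15510 = n19809 := rfl
theorem F89900 : act 4 n19809 = n15513 := d33_1 D19809 (iv D15513) (iv F71043)
theorem F89902 : act 6 n19809 = n15571 := d40_1 D19809 (iv D15571) (iv F71044)
def n19810 : Q := act 6 n15512
theorem D19810 : act 6 n15512 = n19810 := rfl
theorem F89906 : act 7 n19810 = n15572 := d39_2 D15512 D19810 (iv D15572) (iv D12125) (iv F55987)
def n19811 : Q := act 8 n15512
theorem D19811 : act 8 n15512 = n19811 := rfl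
theorem F89911 : act 7 n19811 = n15513 := d42_1 D19811 (iv D15513) D15512
def n19812 : Q := act 9 n15513
theorem D19812 : act 9 n15513 = n19812 := rfl
theorem F89912 : act 1 n19812 = n19812 := d16_1 D19812 (iv D19812) F71056
theorem F89913 : act 3 n19812 = n19812 := d29_1 D19812 (iv D19812) F71057
theorem F89914 : act 5 n19812 = n19812 := d38_1 D19812 (iv D19812) F71058
theorem F89915 : act 6 n19812 = n15574 := d41_1 D19812 (iv D15574) (iv F71059)
theorem F89916 : act 8 n19812 = n19812 := d44_1 D19812 (iv D19812) (iv D15513) F55988 D15513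
def n19813 : Q := act 0 n15514
theorem D19813 : act 0 n15514 = n19813 := rfl
theorem F89920 : act 5 n19813 = n15521 := d4_2 (iv F71062) D19813 (iv D15521)
theorem F89921 : act 6 n19813 = n16731 := d5_2 F89767 D19813 (iv F89762)
def n19814 : Q := act 7 n15515
theorem D19814 : act 7 n15515 = n19814 := rfl
theorem F89929 : act 6 n19814 = n18069 := d39_1 D19814 (iv D18069) (iv D14036) (iv F55998) D15515
def n19815 : Q := act 0 n15517
theorem D19815 : act 0 n15517 = n19815 := rfl
theorem F89935 : act 4 n19815 = n15593 := d3_2 (iv F71081) D19815 (iv D15593)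
theorem F89936 : act 5 n19815 = n18066 := d4_2 (iv F71082) D19815 (iv D18066)
def n19821 : Q := act 2 n15522
theorem D19821 : act 2 n15522 = n19821 := rfl
theorem F89978 : act 8 n19821 = n15604 := d22_2 (iv F71115) D19821 (iv D15604)
def n19822 : Q := act 6 n15522
theorem D19822 : act 6 n15522 = n19822 := rfl
theorem F89980 : act 0 n19822 = n15531 := d5_1 D19822 (iv D15531) (iv F71112)
theorem F89981 : act 3 n19822 = n15523 := d26_1 D19822 (iv D15523) D15522
theorem F89982 : act 4 n19822 = n15733 := d31_1 D19822 (iv D15733) (iv F71113)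
theorem F89983 : act 8 n19822 = n15605 := d40_2 (iv F71115) D19822 (iv D15605)
theorem F89984 : act 9 n19822 = n19822 := d41_2 F71116 D19822 (iv D19822)
def n19823 : Q := act 5 n15523
theorem D19823 : act 5 n15523 = n19823 := rfl
theorem F89985 : act 0 n19823 = n15532 := d4_1 D19823 (iv D15532) (iv F71117)
theorem F89986 : act 2 n19823 = n19823 := d19_1 D19823 (iv D19823) F71118
theorem F89987 : act 9 n19823 = n19823 := d38_2 F71121 D19823 (iv D19823)
def n19824 : Q := act 7 n15523
theorem D19824 : act 7 n15523 = n19824 := rfl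
theorem F89988 : act 0 n19824 = n15533 := d6_1 D19824 (iv D15533) (iv F71117)
theorem F89989 : act 2 n19824 = n19824 := d21_1 D19824 (iv D19824) F71118
theorem F89990 : act 4 n19824 = n15524 := d32_1 D19824 (iv D15524) (iv F71119)
theorem F89991 : act 6 n19824 = n19824 := d39_1 D19824 (iv D19824) (iv D15523) F56044 D15523
theorem F89992 : act 8 n19824 = n15607 := d42_2 (iv F71120) D19824 (iv D15607)
theorem F89993 : act 9 n19824 = n19824 := d43_2 F71121 D19824 (iv D19824)
def n19825 : Q := act 3 n15525
theorem D19825 : act 3 n15525 = n19825 := rfl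
theorem F89994 : act 1 n19825 = n15538 := d10_1 D19825 (iv D15538) (iv F71128)
theorem F89995 : act 4 n19825 = n15742 := d24_2 D15525 D19825 (iv D15742) (iv D12250) (iv F56054)
theorem F89996 : act 8 n19825 = n15527 := d28_2 (iv F71130) D19825 (iv D15527)
def n19826 : Q := act 6 n15525
theorem D19826 : act 6 n15525 = n19826 := rfl
theorem F89997 : act 1 n19826 = n15539 := d13_1 D19826 (iv D15539) (iv F71128)
theorem F89998 : act 2 n19826 = n19826 := d20_1 D19826 (iv D19826) F71129
theorem F89999 : act 4 n19826 = n15526 := d31_1 D19826 (iv D15526) D15525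
theorem F90000 : act 8 n19826 = n15528 := d40_2 (iv F71130) D19826 (iv D15528)
def n19827 : Q := act 7 n15526
theorem D19827 : act 7 n15526 = n19827 := rfl
theorem F90001 : act 1 n19827 = n15540 := d14_1 D19827 (iv D15540) (iv F71131)
theorem F90002 : act 2 n19827 = n19827 := d21_1 D19827 (iv D19827) F71132
theorem F90003 : act 3 n19827 = n15744 := d27_1 D19827 (iv D15744) (iv F71133)
theorem F90004 : act 5 n19827 = n15612 := d36_1 D19827 (iv D15612) (iv F71134)
theorem F90005 : act 8 n19827 = n15529 := d42_2 (iv F71135) D19827 (iv D15529)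
def n19828 : Q := act 2 n15527
theorem D19828 : act 2 n15527 = n19828 := rfl
theorem F90006 : act 3 n19828 = n19828 := d17_2 D15527 D19828 (iv D19828) (iv D15527) F56057
theorem F90007 : act 4 n19828 = n15748 := d18_2 (iv F71137) D19828 (iv D15748)
theorem F90008 : act 9 n19828 = n19828 := d23_2 F71138 D19828 (iv D19828)
def n19829 : Q := act 6 n15527
theorem D19829 : act 6 n15527 = n19829 := rfl
theorem F90009 : act 1 n19829 = n15545 := d13_1 D19829 (iv D15545) (iv F71136)
theorem F90010 : act 3 n19829 = n15528 := d26_1 D19829 (iv D15528) D15527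
theorem F90011 : act 4 n19829 = n15749 := d31_1 D19829 (iv D15749) (iv F71137)
theorem F90012 : act 9 n19829 = n19829 := d41_2 F71138 D19829 (iv D19829)
def n19830 : Q := act 5 n15528
theorem D19830 : act 5 n15528 = n19830 := rfl
theorem F90013 : act 1 n19830 = n15546 := d12_1 D19830 (iv D15546) (iv F71139)
theorem F90014 : act 2 n19830 = n19830 := d19_1 D19830 (iv D19830) F71140
theorem F90015 : act 4 n19830 = n15532 := d30_1 D19830 (iv D15532) F56071 (iv F56062) (iv F71141)
theorem F90016 : act 9 n19830 = n19830 := d38_2 F71142 D19830 (iv D19830)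
def n19831 : Q := act 7 n15528
theorem D19831 : act 7 n15528 = n19831 := rfl
theorem F90017 : act 1 n19831 = n15547 := d14_1 D19831 (iv D15547) (iv F71139)
theorem F90018 : act 2 n19831 = n19831 := d21_1 D19831 (iv D19831) F71140
theorem F90019 : act 4 n19831 = n15529 := d32_1 D19831 (iv D15529) (iv F71141)
theorem F90020 : act 9 n19831 = n19831 := d43_2 F71142 D19831 (iv D19831)
def n19832 : Q := act 6 n15530
theorem D19832 : act 6 n15530 = n19832 := rfl
theorem F90022 : act 2 n19832 = n15531 := d20_1 D19832 (iv D15531) D15530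
theorem F90025 : act 8 n19832 = n15617 := d40_2 (iv F71152) D19832 (iv D15617)
def n19833 : Q := act 5 n15531
theorem D19833 : act 5 n15531 = n19833 := rfl
theorem F90027 : act 1 n19833 = n15548 := d12_1 D19833 (iv D15548) (iv F71154)
theorem F90028 : act 3 n19833 = n15532 := d25_1 D19833 (iv D15532) (iv F71155)
theorem F90029 : act 9 n19833 = n19833 := d38_2 F71158 D19833 (iv D19833)
def n19834 : Q := act 7 n15531
theorem D19834 : act 7 n15531 = n19834 := rfl
theorem F90030 : act 1 n19834 = n15549 := d14_1 D19834 (iv D15549) (iv F71154)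
theorem F90031 : act 3 n19834 = n15533 := d27_1 D19834 (iv D15533) (iv F71155)
theorem F90032 : act 4 n19834 = n15754 := d32_1 D19834 (iv D15754) (iv F71156)
theorem F90033 : act 6 n19834 = n19834 := d39_1 D19834 (iv D19834) (iv D15531) F56066 D15531
theorem F90034 : act 8 n19834 = n15619 := d42_2 (iv F71157) D19834 (iv D15619)
theorem F90035 : act 9 n19834 = n19834 := d43_2 F71158 D19834 (iv D19834)
def n19835 : Q := act 7 n15532
theorem D19835 : act 7 n15532 = n19835 := rfl
theorem F90036 : act 1 n19835 = n15550 := d14_1 D19835 (iv D15550) (iv F71159)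
theorem F90037 : act 2 n19835 = n19835 := d21_1 D19835 (iv D19835) F71160
theorem F90038 : act 5 n19835 = n15533 := d36_1 D19835 (iv D15533) D15532
theorem F90039 : act 9 n19835 = n19835 := d43_2 F71161 D19835 (iv D19835)
def n19836 : Q := act 8 n15532
theorem D19836 : act 8 n15532 = n19836 := rfl
theorem F90040 : act 1 n19836 = n15551 := d15_1 D19836 (iv D15551) (iv F71159)
theorem F90041 : act 2 n19836 = n19836 := d22_1 D19836 (iv D19836) F71160
theorem F90042 : act 5 n19836 = n15621 := d37_1 D19836 (iv D15621) (iv D12160) (iv F56072) D15532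
def n19837 : Q := act 3 n15534
theorem D19837 : act 3 n15534 = n19837 := rfl
theorem F90043 : act 0 n19837 = n15900 := d2_1 D19837 (iv D15900) (iv F71168)
theorem F90044 : act 5 n19837 = n15538 := d25_2 (iv F71170) D19837 (iv D15538)
theorem F90045 : act 7 n19837 = n15881 := d27_2 (iv F71171) D19837 (iv D15881)
theorem F90046 : act 8 n19837 = n15884 := d28_2 (iv F71172) D19837 (iv D15884)
def n19838 : Q := act 6 n15534
theorem D19838 : act 6 n15534 = n19838 := rfl
theorem F90047 : act 0 n19838 = n15901 := d5_1 D19838 (iv D15901) (iv F71168)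
theorem F90048 : act 2 n19838 = n15553 := d20_1 D19838 (iv D15553) (iv F71169)
theorem F90049 : act 4 n19838 = n15535 := d31_1 D19838 (iv D15535) D15534
theorem F90050 : act 8 n19838 = n15885 := d40_2 (iv F71172) D19838 (iv D15885)
def n19839 : Q := act 7 n15535
theorem D19839 : act 7 n15535 = n19839 := rfl
theorem F90051 : act 0 n19839 = n15902 := d6_1 D19839 (iv D15902) (iv F71173)
theorem F90052 : act 2 n19839 = n15554 := d21_1 D19839 (iv D15554) (iv F71174)
theorem F90053 : act 5 n19839 = n15626 := d36_1 D19839 (iv D15626) (iv F71175)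
theorem F90054 : act 6 n19839 = n15883 := d39_1 D19839 (iv D15883) (iv D12353) (iv F56082) D15535
theorem F90055 : act 8 n19839 = n15886 := d42_2 (iv F71176) D19839 (iv D15886)
def n19840 : Q := act 3 n15536
theorem D19840 : act 3 n15536 = n19840 := rfl
theorem F90056 : act 0 n19840 = n15897 := d2_1 D19840 (iv D15897) (iv F71177)
theorem F90057 : act 4 n19840 = n15764 := d24_2 D15536 D19840 (iv D15764) (iv D12265) (iv F56086)
theorem F90058 : act 5 n19840 = n15881 := d25_2 (iv F71179) D19840 (iv D15881)
theorem F90059 : act 7 n19840 = n15538 := d27_2 (iv F71180) D19840 (iv D15538)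
theorem F90060 : act 8 n19840 = n15541 := d28_2 (iv F71181) D19840 (iv D15541)
def n19841 : Q := act 6 n15536
theorem D19841 : act 6 n15536 = n19841 := rfl
theorem F90061 : act 0 n19841 = n15898 := d5_1 D19841 (iv D15898) (iv F71177)
theorem F90062 : act 2 n19841 = n15556 := d20_1 D19841 (iv D15556) (iv F71178)
theorem F90063 : act 4 n19841 = n15537 := d31_1 D19841 (iv D15537) D15536
theorem F90064 : act 8 n19841 = n15542 := d40_2 (iv F71181) D19841 (iv D15542)
def n19842 : Q := act 7 n15537
theorem D19842 : act 7 n15537 = n19842 := rfl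
theorem F90065 : act 0 n19842 = n15899 := d6_1 D19842 (iv D15899) (iv F71182)
theorem F90066 : act 2 n19842 = n15557 := d21_1 D19842 (iv D15557) (iv F71183)
theorem F90067 : act 3 n19842 = n15766 := d27_1 D19842 (iv D15766) (iv F71184)
theorem F90068 : act 6 n19842 = n15540 := d39_1 D19842 (iv D15540) (iv D12102) (iv F56087) D15537
theorem F90069 : act 8 n19842 = n15543 := d42_2 (iv F71185) D19842 (iv D15543)
def n19843 : Q := act 2 n15538
theorem D19843 : act 2 n15538 = n19843 := rfl
theorem F90070 : act 3 n19843 = n15558 := d17_2 D15538 D19843 (iv D15558) (iv D12115) (iv F56089)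
theorem F90071 : act 4 n19843 = n15770 := d18_2 (iv F71186) D19843 (iv D15770)
theorem F90072 : act 8 n19843 = n15544 := d22_2 (iv F71187) D19843 (iv D15544)
def n19844 : Q := act 6 n15538
theorem D19844 : act 6 n15538 = n19844 := rfl
theorem F90073 : act 3 n19844 = n15539 := d26_1 D19844 (iv D15539) D15538
theorem F90074 : act 4 n19844 = n15771 := d31_1 D19844 (iv D15771) (iv F71186)
theorem F90075 : act 8 n19844 = n15545 := d40_2 (iv F71187) D19844 (iv D15545)
def n19845 : Q := act 5 n15539
theorem D19845 : act 5 n15539 = n19845 := rfl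
theorem F90076 : act 2 n19845 = n15560 := d19_1 D19845 (iv D15560) (iv F71188)
theorem F90077 : act 4 n19845 = n15629 := d30_1 D19845 (iv D15629) F56350 (iv F56093) (iv F71189)
def n19846 : Q := act 7 n15539
theorem D19846 : act 7 n15539 = n19846 := rfl
theorem F90078 : act 2 n19846 = n15561 := d21_1 D19846 (iv D15561) (iv F71188)
theorem F90079 : act 4 n19846 = n15540 := d32_1 D19846 (iv D15540) (iv F71189)
theorem F90080 : act 8 n19846 = n15547 := d42_2 (iv F71190) D19846 (iv D15547)
def n19847 : Q := act 2 n15541
theorem D19847 : act 2 n15541 = n19847 := rfl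
theorem F90081 : act 0 n19847 = n16303 := d1_1 D19847 (iv D16303) (iv F71195)
theorem F90083 : act 4 n19847 = n15774 := d18_2 (iv F71196) D19847 (iv D15774)
theorem F90084 : act 5 n19847 = n16280 := d19_2 (iv F71197) D19847 (iv D16280)
theorem F90085 : act 7 n19847 = n15544 := d21_2 (iv F71198) D19847 (iv D15544)
def n19848 : Q := act 6 n15541
theorem D19848 : act 6 n15541 = n19848 := rfl
theorem F90087 : act 0 n19848 = n16304 := d5_1 D19848 (iv D16304) (iv F71195)
theorem F90088 : act 3 n19848 = n15542 := d26_1 D19848 (iv D15542) D15541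
theorem F90089 : act 4 n19848 = n15775 := d31_1 D19848 (iv D15775) (iv F71196)
theorem F90090 : act 9 n19848 = n19848 := d41_2 F71199 D19848 (iv D19848)
def n19849 : Q := act 5 n15542
theorem D19849 : act 5 n15542 = n19849 := rfl
theorem F90091 : act 0 n19849 = n16305 := d4_1 D19849 (iv D16305) (iv F71200)
def n19850 : Q := act 7 n15542
theorem D19850 : act 7 n15542 = n19850 := rfl
theorem F90096 : act 0 n19850 = n16306 := d6_1 D19850 (iv D16306) (iv F71200)
theorem F90097 : act 2 n19850 = n15565 := d21_1 D19850 (iv D15565) (iv F71201)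
theorem F90098 : act 4 n19850 = n15543 := d32_1 D19850 (iv D15543) (iv F71202)
theorem F90099 : act 6 n19850 = n15547 := d39_1 D19850 (iv D15547) (iv D12106) (iv F56098) D15542
theorem F90100 : act 9 n19850 = n19850 := d43_2 F71203 D19850 (iv D19850)
def n19851 : Q := act 1 n15544
theorem D19851 : act 1 n15544 = n19851 := rfl
theorem F90101 : act 3 n19851 = n15566 := d10_2 (iv F71210) D19851 (iv D15566)
theorem F90102 : act 4 n19851 = n15778 := d11_2 (iv F71211) D19851 (iv D15778)
theorem F90103 : act 9 n19851 = n19851 := d16_2 F71212 D19851 (iv D19851)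
def n19852 : Q := act 6 n15544
theorem D19852 : act 6 n15544 = n19852 := rfl
theorem F90104 : act 2 n19852 = n15545 := d20_1 D19852 (iv D15545) D15544
theorem F90105 : act 3 n19852 = n15567 := d26_1 D19852 (iv D15567) (iv F71210)
theorem F90106 : act 4 n19852 = n15779 := d31_1 D19852 (iv D15779) (iv F71211)
theorem F90107 : act 9 n19852 = n19852 := d41_2 F71212 D19852 (iv D19852)
def n19853 : Q := act 5 n15545
theorem D19853 : act 5 n15545 = n19853 := rfl
theorem F90108 : act 3 n19853 = n15546 := d25_1 D19853 (iv D15546) (iv F71213)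
theorem F90109 : act 9 n19853 = n19853 := d38_2 F71215 D19853 (iv D19853)
def n19854 : Q := act 7 n15545
theorem D19854 : act 7 n15545 = n19854 := rfl
theorem F90110 : act 3 n19854 = n15547 := d27_1 D19854 (iv D15547) (iv F71213)
theorem F90111 : act 4 n19854 = n15781 := d32_1 D19854 (iv D15781) (iv F71214)
theorem F90112 : act 9 n19854 = n19854 := d43_2 F71215 D19854 (iv D19854)
def n19855 : Q := act 7 n15546
theorem D19855 : act 7 n15546 = n19855 := rfl
theorem F90113 : act 2 n19855 = n15570 := d21_1 D19855 (iv D15570) (iv F71216)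
theorem F90114 : act 4 n19855 = n15550 := d32_1 D19855 (iv D15550) (iv F71217)
theorem F90115 : act 5 n19855 = n15547 := d36_1 D19855 (iv D15547) D15546
theorem F90116 : act 9 n19855 = n19855 := d43_2 F71218 D19855 (iv D19855)
def n19856 : Q := act 8 n15546
theorem D19856 : act 8 n15546 = n19856 := rfl
theorem F90117 : act 2 n19856 = n15571 := d22_1 D19856 (iv D15571) (iv F71216)
theorem F90118 : act 4 n19856 = n15551 := d33_1 D19856 (iv D15551) (iv F71217)
def n19857 : Q := act 4 n15548
theorem D19857 : act 4 n15548 = n19857 := rfl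
theorem F90119 : act 2 n19857 = n19857 := d18_1 D19857 (iv D19857) F71222
theorem F90120 : act 5 n19857 = n15784 := d30_2 D15548 D19857 (iv D15784) (iv D12279) (iv F56116)
theorem F90121 : act 9 n19857 = n19857 := d34_2 F71224 D19857 (iv D19857)
def n19858 : Q := act 7 n15548
theorem D19858 : act 7 n15548 = n19858 := rfl
theorem F90122 : act 2 n19858 = n19858 := d21_1 D19858 (iv D19858) F71222
theorem F90123 : act 3 n19858 = n15550 := d27_1 D19858 (iv D15550) (iv F71223)
theorem F90124 : act 5 n19858 = n15549 := d36_1 D19858 (iv D15549) D15548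
theorem F90125 : act 9 n19858 = n19858 := d43_2 F71224 D19858 (iv D19858)
def n19859 : Q := act 8 n15548
theorem D19859 : act 8 n15548 = n19859 := rfl
theorem F90126 : act 2 n19859 = n19859 := d22_1 D19859 (iv D19859) F71222
theorem F90127 : act 3 n19859 = n15551 := d28_1 D19859 (iv D15551) (iv F71223)
theorem F90128 : act 5 n19859 = n15639 := d37_1 D19859 (iv D15639) (iv D12172) (iv F56117) D15548
def n19860 : Q := act 6 n15550
theorem D19860 : act 6 n15550 = n19860 := rfl
theorem F90129 : act 2 n19860 = n15572 := d20_1 D19860 (iv D15572) (iv F71231)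
theorem F90130 : act 5 n19860 = n19860 := d35_1 D19860 (iv D19860) F71232 F56123 (iv F71232)
theorem F90131 : act 9 n19860 = n19860 := d41_2 F71233 D19860 (iv D19860)
def n19861 : Q := act 8 n15550
theorem D19861 : act 8 n15550 = n19861 := rfl
theorem F90132 : act 2 n19861 = n15573 := d22_1 D19861 (iv D15573) (iv F71231)
theorem F90133 : act 5 n19861 = n15641 := d37_1 D19861 (iv D15641) F56379 (iv F56124) (iv F71232)
theorem F90134 : act 7 n19861 = n15551 := d42_1 D19861 (iv D15551) D15550
def n19862 : Q := act 9 n15551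
theorem D19862 : act 9 n15551 = n19862 := rfl
theorem F90135 : act 2 n19862 = n15574 := d23_1 D19862 (iv D15574) (iv F71234)
theorem F90136 : act 5 n19862 = n15642 := d38_1 D19862 (iv D15642) (iv F71235)
theorem F90137 : act 8 n19862 = n19862 := d44_1 D19862 (iv D19862) (iv D15551) F56120 D15551
def n19863 : Q := act 2 n15552
theorem D19863 : act 2 n15552 = n19863 := rfl
theorem F90140 : act 5 n19863 = n15558 := d19_2 (iv F71239) D19863 (iv D15558)
theorem F90142 : act 8 n19863 = n16929 := d22_2 (iv F71241) D19863 (iv D16929)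
def n19864 : Q := act 6 n15552
theorem D19864 : act 6 n15552 = n19864 := rfl
theorem F90143 : act 0 n19864 = n16953 := d5_1 D19864 (iv D16953) (iv F71236)
theorem F90145 : act 3 n19864 = n15553 := d26_1 D19864 (iv D15553) D15552
def n19865 : Q := act 5 n15553
theorem D19865 : act 5 n15553 = n19865 := rfl
theorem F90148 : act 0 n19865 = n16954 := d4_1 D19865 (iv D16954) (iv F71242)
theorem F90149 : act 1 n19865 = n19865 := d12_1 D19865 (iv D19865) F71243
theorem F90150 : act 4 n19865 = n15645 := d30_1 D19865 (iv D15645) F56388 (iv F56134) (iv F71244)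
theorem F90151 : act 6 n19865 = n15560 := d35_2 D15553 D19865 (iv D15560) (iv D12116) (iv F56128)
def n19866 : Q := act 7 n15553
theorem D19866 : act 7 n15553 = n19866 := rfl
theorem F90152 : act 0 n19866 = n16955 := d6_1 D19866 (iv D16955) (iv F71242)
theorem F90153 : act 1 n19866 = n19866 := d14_1 D19866 (iv D19866) F71243
theorem F90154 : act 4 n19866 = n15554 := d32_1 D19866 (iv D15554) (iv F71244)
theorem F90155 : act 6 n19866 = n16928 := d39_1 D19866 (iv D16928) (iv D13140) (iv F56129) D15553
theorem F90156 : act 8 n19866 = n16932 := d42_2 (iv F71245) D19866 (iv D16932)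
def n19867 : Q := act 2 n15555
theorem D19867 : act 2 n15555 = n19867 := rfl
theorem F90158 : act 4 n19867 = n15575 := d18_2 (iv F71254) D19867 (iv D15575)
theorem F90159 : act 5 n19867 = n16925 := d19_2 (iv F71255) D19867 (iv D16925)
theorem F90160 : act 7 n19867 = n15558 := d21_2 (iv F71256) D19867 (iv D15558)
theorem F90161 : act 8 n19867 = n15562 := d22_2 (iv F71257) D19867 (iv D15562)
def n19868 : Q := act 6 n15555
theorem D19868 : act 6 n15555 = n19868 := rfl
theorem F90164 : act 3 n19868 = n15556 := d26_1 D19868 (iv D15556) D15555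
theorem F90165 : act 4 n19868 = n15576 := d31_1 D19868 (iv D15576) (iv F71254)
def n19869 : Q := act 5 n15556
theorem D19869 : act 5 n15556 = n19869 := rfl
theorem F90167 : act 0 n19869 = n16950 := d4_1 D19869 (iv D16950) (iv F71258)
theorem F90168 : act 1 n19869 = n19869 := d12_1 D19869 (iv D19869) F71259
theorem F90169 : act 6 n19869 = n16927 := d35_2 D15556 D19869 (iv D16927) (iv D13140) (iv F56138)
def n19870 : Q := act 7 n15556
theorem D19870 : act 7 n15556 = n19870 := rfl
theorem F90170 : act 0 n19870 = n16951 := d6_1 D19870 (iv D16951) (iv F71258)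
theorem F90171 : act 1 n19870 = n19870 := d14_1 D19870 (iv D19870) F71259
theorem F90172 : act 4 n19870 = n15557 := d32_1 D19870 (iv D15557) (iv F71260)
theorem F90173 : act 6 n19870 = n15561 := d39_1 D19870 (iv D15561) (iv D12116) (iv F56139) D15556
theorem F90174 : act 8 n19870 = n15565 := d42_2 (iv F71261) D19870 (iv D15565)
def n19871 : Q := act 1 n15558
theorem D19871 : act 1 n15558 = n19871 := rfl
theorem F90175 : act 2 n19871 = n19871 := d9_2 D15558 D19871 (iv D19871) (iv D15558) F56145
theorem F90176 : act 4 n19871 = n15579 := d11_2 (iv F71267) D19871 (iv D15579)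
theorem F90177 : act 8 n19871 = n15566 := d15_2 (iv F71268) D19871 (iv D15566)
def n19872 : Q := act 6 n15558
theorem D19872 : act 6 n15558 = n19872 := rfl
theorem F90178 : act 2 n19872 = n15559 := d20_1 D19872 (iv D15559) D15558
theorem F90179 : act 4 n19872 = n15580 := d31_1 D19872 (iv D15580) (iv F71267)
theorem F90180 : act 8 n19872 = n15567 := d40_2 (iv F71268) D19872 (iv D15567)
def n19873 : Q := act 5 n15559
theorem D19873 : act 5 n15559 = n19873 := rfl
theorem F90181 : act 1 n19873 = n19873 := d12_1 D19873 (iv D19873) F71269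
theorem F90182 : act 3 n19873 = n15560 := d25_1 D19873 (iv D15560) (iv F71270)
def n19874 : Q := act 7 n15559
theorem D19874 : act 7 n15559 = n19874 := rfl
theorem F90183 : act 1 n19874 = n19874 := d14_1 D19874 (iv D19874) F71269
theorem F90184 : act 3 n19874 = n15561 := d27_1 D19874 (iv D15561) (iv F71270)
theorem F90185 : act 4 n19874 = n15582 := d32_1 D19874 (iv D15582) (iv F71271)
theorem F90186 : act 8 n19874 = n15569 := d42_2 (iv F71272) D19874 (iv D15569)
def n19875 : Q := act 7 n15560
theorem D19875 : act 7 n15560 = n19875 := rfl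
theorem F90187 : act 1 n19875 = n19875 := d14_1 D19875 (iv D19875) F71273
theorem F90188 : act 4 n19875 = n15651 := d32_1 D19875 (iv D15651) (iv F71274)
theorem F90189 : act 5 n19875 = n15561 := d36_1 D19875 (iv D15561) D15560
def n19876 : Q := act 8 n15560
theorem D19876 : act 8 n15560 = n19876 := rfl
theorem F90190 : act 1 n19876 = n19876 := d15_1 D19876 (iv D19876) F71273
theorem F90191 : act 4 n19876 = n15652 := d33_1 D19876 (iv D15652) (iv F71274)
theorem F90192 : act 5 n19876 = n15571 := d37_1 D19876 (iv D15571) (iv D12123) (iv F56150) D15560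
def n19877 : Q := act 1 n15562
theorem D19877 : act 1 n15562 = n19877 := rfl
theorem F90194 : act 4 n19877 = n15584 := d11_2 (iv F71279) D19877 (iv D15584)
theorem F90195 : act 5 n19877 = n17503 := d12_2 (iv F71280) D19877 (iv D17503)
theorem F90196 : act 7 n19877 = n15566 := d14_2 (iv F71281) D19877 (iv D15566)
def n19878 : Q := act 6 n15562
theorem D19878 : act 6 n15562 = n19878 := rfl
theorem F90200 : act 4 n19878 = n15585 := d31_1 D19878 (iv D15585) (iv F71279)
def n19880 : Q := act 7 n15563
theorem D19880 : act 7 n15563 = n19880 := rfl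
theorem F90209 : act 3 n19880 = n15565 := d27_1 D19880 (iv D15565) (iv F71285)
theorem F90211 : act 6 n19880 = n15569 := d39_1 D19880 (iv D15569) (iv D12122) (iv F56159) D15563
def n19881 : Q := act 7 n15564
theorem D19881 : act 7 n15564 = n19881 := rfl
theorem F90216 : act 5 n19881 = n15565 := d36_1 D19881 (iv D15565) D15564
def n19883 : Q := act 0 n15566
theorem D19883 : act 0 n15566 = n19883 := rfl
theorem F90223 : act 4 n19883 = n15590 := d3_2 (iv F71299) D19883 (iv D15590)
def n19884 : Q := act 6 n15566
theorem D19884 : act 6 n15566 = n19884 := rfl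
theorem F90225 : act 1 n19884 = n15567 := d13_1 D19884 (iv D15567) D15566
theorem F90226 : act 2 n19884 = n19884 := d20_1 D19884 (iv D19884) F71298
theorem F90227 : act 4 n19884 = n15591 := d31_1 D19884 (iv D15591) (iv F71299)
theorem F90228 : act 9 n19884 = n19884 := d41_2 F71300 D19884 (iv D19884)
def n19885 : Q := act 5 n15567
theorem D19885 : act 5 n15567 = n19885 := rfl
theorem F90229 : act 2 n19885 = n15568 := d19_1 D19885 (iv D15568) (iv F71301)
def n19886 : Q := act 7 n15567
theorem D19886 : act 7 n15567 = n19886 := rfl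
theorem F90232 : act 2 n19886 = n15569 := d21_1 D19886 (iv D15569) (iv F71301)
theorem F90233 : act 4 n19886 = n15592 := d32_1 D19886 (iv D15592) (iv F71302)
theorem F90234 : act 9 n19886 = n19886 := d43_2 F71303 D19886 (iv D19886)
def n19887 : Q := act 7 n15568
theorem D19887 : act 7 n15568 = n19887 := rfl
theorem F90236 : act 3 n19887 = n15570 := d27_1 D19887 (iv D15570) (iv F71305)
def n19888 : Q := act 8 n15568
theorem D19888 : act 8 n15568 = n19888 := rfl
theorem F90241 : act 3 n19888 = n15571 := d28_1 D19888 (iv D15571) (iv F71305)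
def n19889 : Q := act 6 n15570
theorem D19889 : act 6 n15570 = n19889 := rfl
theorem F90244 : act 4 n19889 = n15572 := d31_1 D19889 (iv D15572) (iv F71313)
def n19890 : Q := act 8 n15570
theorem D19890 : act 8 n15570 = n19890 := rfl
theorem F90246 : act 1 n19890 = n19890 := d15_1 D19890 (iv D19890) F71312
theorem F90247 : act 4 n19890 = n15573 := d33_1 D19890 (iv D15573) (iv F71313)
theorem F90248 : act 7 n19890 = n15571 := d42_1 D19890 (iv D15571) D15570
def n19891 : Q := act 9 n15571
theorem D19891 : act 9 n15571 = n19891 := rfl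
theorem F90249 : act 1 n19891 = n19891 := d16_1 D19891 (iv D19891) F71316
theorem F90250 : act 4 n19891 = n15574 := d34_1 D19891 (iv D15574) (iv F71317)
theorem F90251 : act 8 n19891 = n19891 := d44_1 D19891 (iv D19891) (iv D15571) F56179 D15571
def n19892 : Q := act 8 n15572
theorem D19892 : act 8 n15572 = n19892 := rfl
theorem F90252 : act 1 n19892 = n19892 := d15_1 D19892 (iv D19892) F71318
theorem F90253 : act 3 n19892 = n19892 := d28_1 D19892 (iv D19892) F71319
theorem F90254 : act 6 n19892 = n15573 := d40_1 D19892 (iv D15573) D15572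
def n19893 : Q := act 9 n15573
theorem D19893 : act 9 n15573 = n19893 := rfl
theorem F90255 : act 1 n19893 = n19893 := d16_1 D19893 (iv D19893) F71322
theorem F90256 : act 3 n19893 = n19893 := d29_1 D19893 (iv D19893) F71323
theorem F90257 : act 5 n19893 = n15663 := d38_1 D19893 (iv D15663) (iv F71324)
theorem F90258 : act 7 n19893 = n15574 := d43_1 D19893 (iv D15574) (iv F71325)
theorem F90259 : act 8 n19893 = n19893 := d44_1 D19893 (iv D19893) (iv D15573) F56186 D15573
def n19894 : Q := act 1 n15575
theorem D19894 : act 1 n15575 = n19894 := rfl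
theorem F90260 : act 2 n19894 = n19894 := d9_2 D15575 D19894 (iv D19894) (iv D15575) F56190
theorem F90261 : act 3 n19894 = n15845 := d10_2 (iv F71330) D19894 (iv D15845)
theorem F90262 : act 5 n19894 = n19894 := d12_2 F71331 D19894 (iv D19894)
theorem F90263 : act 7 n19894 = n15579 := d14_2 (iv F71332) D19894 (iv D15579)
theorem F90264 : act 8 n19894 = n15584 := d15_2 (iv F71333) D19894 (iv D15584)
def n19895 : Q := act 6 n15575
theorem D19895 : act 6 n15575 = n19895 := rfl
theorem F90265 : act 2 n19895 = n15576 := d20_1 D19895 (iv D15576) D15575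
theorem F90266 : act 3 n19895 = n15846 := d26_1 D19895 (iv D15846) (iv F71330)
theorem F90267 : act 8 n19895 = n15585 := d40_2 (iv F71333) D19895 (iv D15585)
def n19896 : Q := act 5 n15576
theorem D19896 : act 5 n15576 = n19896 := rfl
theorem F90268 : act 1 n19896 = n19896 := d12_1 D19896 (iv D19896) F71334
theorem F90269 : act 3 n19896 = n15577 := d25_1 D19896 (iv D15577) (iv F71335)
theorem F90270 : act 6 n19896 = n19896 := d35_2 D15576 D19896 (iv D19896) (iv D15576) F56191
def n19897 : Q := act 7 n15576
theorem D19897 : act 7 n15576 = n19897 := rfl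
theorem F90271 : act 1 n19897 = n19897 := d14_1 D19897 (iv D19897) F71334
theorem F90272 : act 3 n19897 = n15578 := d27_1 D19897 (iv D15578) (iv F71335)
theorem F90273 : act 6 n19897 = n15582 := d39_1 D19897 (iv D15582) (iv D12131) (iv F56192) D15576
theorem F90274 : act 8 n19897 = n15587 := d42_2 (iv F71336) D19897 (iv D15587)
def n19898 : Q := act 7 n15577
theorem D19898 : act 7 n15577 = n19898 := rfl
theorem F90275 : act 1 n19898 = n19898 := d14_1 D19898 (iv D19898) F71337
theorem F90276 : act 2 n19898 = n15849 := d21_1 D19898 (iv D15849) (iv F71338)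
theorem F90277 : act 5 n19898 = n15578 := d36_1 D19898 (iv D15578) D15577
def n19899 : Q := act 8 n15577
theorem D19899 : act 8 n15577 = n19899 := rfl
theorem F90278 : act 1 n19899 = n19899 := d15_1 D19899 (iv D19899) F71337
theorem F90279 : act 2 n19899 = n15850 := d22_1 D19899 (iv D15850) (iv F71338)
theorem F90280 : act 5 n19899 = n15589 := d37_1 D19899 (iv D15589) (iv D12136) (iv F56197) D15577
theorem F90281 : act 6 n19899 = n19899 := d40_1 D19899 (iv D19899) F71339
def n19900 : Q := act 0 n15579
theorem D19900 : act 0 n15579 = n19900 := rfl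
theorem F90282 : act 2 n19900 = n19900 := d1_2 F71345 D19900 (iv D19900)
theorem F90283 : act 3 n19900 = n15857 := d2_2 (iv F71346) D19900 (iv D15857)
theorem F90284 : act 5 n19900 = n19900 := d4_2 F71347 D19900 (iv D19900)
theorem F90285 : act 8 n19900 = n15590 := d7_2 (iv F71348) D19900 (iv D15590)
def n19901 : Q := act 6 n15579
theorem D19901 : act 6 n15579 = n19901 := rfl
theorem F90286 : act 1 n19901 = n15580 := d13_1 D19901 (iv D15580) D15579
theorem F90287 : act 2 n19901 = n19901 := d20_1 D19901 (iv D19901) F71345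
theorem F90288 : act 3 n19901 = n15858 := d26_1 D19901 (iv D15858) (iv F71346)
theorem F90289 : act 8 n19901 = n15591 := d40_2 (iv F71348) D19901 (iv D15591)
def n19902 : Q := act 5 n15580
theorem D19902 : act 5 n15580 = n19902 := rfl
theorem F90290 : act 2 n19902 = n15581 := d19_1 D19902 (iv D15581) (iv F71349)
theorem F90291 : act 3 n19902 = n15859 := d25_1 D19902 (iv D15859) (iv F71350)
theorem F90292 : act 6 n19902 = n19902 := d35_2 D15580 D19902 (iv D19902) (iv D15580) F56203
theorem F90293 : act 8 n19902 = n19902 := d37_2 (iv F71351) D19902 (iv D19902) F71351 F56240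
def n19903 : Q := act 7 n15580
theorem D19903 : act 7 n15580 = n19903 := rfl
theorem F90294 : act 2 n19903 = n15582 := d21_1 D19903 (iv D15582) (iv F71349)
theorem F90295 : act 3 n19903 = n15860 := d27_1 D19903 (iv D15860) (iv F71350)
theorem F90296 : act 8 n19903 = n15592 := d42_2 (iv F71351) D19903 (iv D15592)
def n19904 : Q := act 4 n15581
theorem D19904 : act 4 n15581 = n19904 := rfl
theorem F90297 : act 1 n19904 = n19904 := d11_1 D19904 (iv D19904) F71352
theorem F90298 : act 3 n19904 = n15668 := d24_1 D19904 (iv D15668) F56446 (iv F56210) (iv F71353)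
theorem F90299 : act 6 n19904 = n19904 := d31_2 F71354 D19904 (iv D19904)
theorem F90300 : act 8 n19904 = n19904 := d33_2 F71355 D19904 (iv D19904)
def n19905 : Q := act 7 n15581
theorem D19905 : act 7 n15581 = n19905 := rfl
theorem F90301 : act 1 n19905 = n19905 := d14_1 D19905 (iv D19905) F71352
theorem F90302 : act 3 n19905 = n15583 := d27_1 D19905 (iv D15583) (iv F71353)
theorem F90303 : act 5 n19905 = n15582 := d36_1 D19905 (iv D15582) D15581
theorem F90304 : act 8 n19905 = n19905 := d42_2 F71355 D19905 (iv D19905)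
def n19906 : Q := act 6 n15583
theorem D19906 : act 6 n15583 = n19906 := rfl
theorem F90305 : act 1 n19906 = n19906 := d13_1 D19906 (iv D19906) F71359
theorem F90306 : act 2 n19906 = n15863 := d20_1 D19906 (iv D15863) (iv F71360)
theorem F90307 : act 4 n19906 = n15670 := d31_1 D19906 (iv D15670) (iv F71361)
theorem F90308 : act 7 n19906 = n19906 := d39_2 D15583 D19906 (iv D19906) (iv D15583) F56211
theorem F90309 : act 8 n19906 = n19906 := d40_2 F71363 D19906 (iv D19906)
def n19907 : Q := act 0 n15584
theorem D19907 : act 0 n15584 = n19907 := rfl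
theorem F90313 : act 7 n19907 = n15590 := d6_2 (iv F71367) D19907 (iv D15590)
def n19908 : Q := act 6 n15584
theorem D19908 : act 6 n15584 = n19908 := rfl
theorem F90315 : act 1 n19908 = n15585 := d13_1 D19908 (iv D15585) D15584
theorem F90317 : act 3 n19908 = n15865 := d26_1 D19908 (iv D15865) (iv F71365)
def n19909 : Q := act 5 n15585
theorem D19909 : act 5 n15585 = n19909 := rfl
theorem F90319 : act 2 n19909 = n15586 := d19_1 D19909 (iv D15586) (iv F71369)
theorem F90320 : act 3 n19909 = n15866 := d25_1 D19909 (iv D15866) (iv F71370)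
def n19910 : Q := act 7 n15585
theorem D19910 : act 7 n15585 = n19910 := rfl
theorem F90323 : act 2 n19910 = n15587 := d21_1 D19910 (iv D15587) (iv F71369)
theorem F90324 : act 3 n19910 = n15867 := d27_1 D19910 (iv D15867) (iv F71370)
theorem F90325 : act 6 n19910 = n15592 := d39_1 D19910 (iv D15592) (iv D12139) (iv F56219) D15585
theorem F90326 : act 9 n19910 = n19910 := d43_2 F71371 D19910 (iv D19910)
def n19912 : Q := act 7 n15586
theorem D19912 : act 7 n15586 = n19912 := rfl
theorem F90332 : act 3 n19912 = n15588 := d27_1 D19912 (iv D15588) (iv F71373)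
theorem F90333 : act 5 n19912 = n15587 := d36_1 D19912 (iv D15587) D15586
def n19913 : Q := act 8 n15586
theorem D19913 : act 8 n15586 = n19913 := rfl
theorem F90337 : act 3 n19913 = n15589 := d28_1 D19913 (iv D15589) (iv F71373)
def n19914 : Q := act 8 n15588
theorem D19914 : act 8 n15588 = n19914 := rfl
theorem F90339 : act 1 n19914 = n19914 := d15_1 D19914 (iv D19914) F71380
theorem F90340 : act 2 n19914 = n15871 := d22_1 D19914 (iv D15871) (iv F71381)
theorem F90341 : act 4 n19914 = n19914 := d33_1 D19914 (iv D19914) F71382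
theorem F90342 : act 6 n19914 = n19914 := d40_1 D19914 (iv D19914) F71384
theorem F90343 : act 7 n19914 = n15589 := d42_1 D19914 (iv D15589) D15588
def n19915 : Q := act 9 n15589
theorem D19915 : act 9 n15589 = n19915 := rfl
theorem F90345 : act 2 n19915 = n15872 := d23_1 D19915 (iv D15872) (iv F71387)
def n19916 : Q := act 6 n15590
theorem D19916 : act 6 n15590 = n19916 := rfl
theorem F90349 : act 0 n19916 = n15591 := d5_1 D19916 (iv D15591) D15590
theorem F90350 : act 2 n19916 = n19916 := d20_1 D19916 (iv D19916) F71390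
theorem F90351 : act 3 n19916 = n15873 := d26_1 D19916 (iv D15873) (iv F71391)
theorem F90352 : act 5 n19916 = n19916 := d35_1 D19916 (iv D19916) F71392 F56267 (iv F71392)
theorem F90353 : act 9 n19916 = n19916 := d41_2 F71393 D19916 (iv D19916)
def n19917 : Q := act 7 n15591
theorem D19917 : act 7 n15591 = n19917 := rfl
theorem F90354 : act 1 n19917 = n15592 := d14_1 D19917 (iv D15592) (iv F71394)
theorem F90355 : act 2 n19917 = n19917 := d21_1 D19917 (iv D19917) F71395
theorem F90356 : act 3 n19917 = n15874 := d27_1 D19917 (iv D15874) (iv F71396)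
theorem F90357 : act 5 n19917 = n19917 := d36_1 D19917 (iv D19917) F71397
theorem F90358 : act 9 n19917 = n19917 := d43_2 F71398 D19917 (iv D19917)
def n19919 : Q := act 5 n15594
theorem D19919 : act 5 n15594 = n19919 := rfl
theorem F90367 : act 3 n19919 = n15876 := d25_1 D19919 (iv D15876) (iv F71410)
theorem F90370 : act 8 n16277 = n19919 := d28_0 F90367 (iv F72468) D16277
def n19921 : Q := act 8 n15595
theorem D19921 : act 8 n15595 = n19921 := rfl
theorem F90375 : act 2 n19921 = n15597 := d22_1 D19921 (iv D15597) (iv F71414)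
theorem F90376 : act 3 n19921 = n15878 := d28_1 D19921 (iv D15878) (iv F71415)
def n19922 : Q := act 8 n15596
theorem D19922 : act 8 n15596 = n19922 := rfl
theorem F90382 : act 4 n19922 = n15597 := d33_1 D19922 (iv D15597) D15596
def n19924 : Q := act 3 n15599
theorem D19924 : act 3 n15599 = n19924 := rfl
theorem F90390 : act 0 n19924 = n15610 := d2_1 D19924 (iv D15610) (iv F71432)
theorem F90391 : act 4 n19924 = n15881 := d24_2 D15599 D19924 (iv D15881) (iv D12352) (iv F56272)
theorem F90392 : act 8 n19924 = n15601 := d28_2 (iv F71434) D19924 (iv D15601)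
def n19925 : Q := act 6 n15599
theorem D19925 : act 6 n15599 = n19925 := rfl
theorem F90393 : act 0 n19925 = n15611 := d5_1 D19925 (iv D15611) (iv F71432)
theorem F90394 : act 2 n19925 = n19925 := d20_1 D19925 (iv D19925) F71433
theorem F90395 : act 4 n19925 = n15600 := d31_1 D19925 (iv D15600) D15599
theorem F90396 : act 8 n19925 = n15602 := d40_2 (iv F71434) D19925 (iv D15602)
def n19926 : Q := act 7 n15600
theorem D19926 : act 7 n15600 = n19926 := rfl
theorem F90397 : act 0 n19926 = n15612 := d6_1 D19926 (iv D15612) (iv F71435)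
theorem F90398 : act 2 n19926 = n19926 := d21_1 D19926 (iv D19926) F71436
theorem F90399 : act 3 n19926 = n15883 := d27_1 D19926 (iv D15883) (iv F71437)
theorem F90400 : act 8 n19926 = n15603 := d42_2 (iv F71438) D19926 (iv D15603)
def n19927 : Q := act 2 n15601
theorem D19927 : act 2 n15601 = n19927 := rfl
theorem F90401 : act 0 n19927 = n15613 := d1_1 D19927 (iv D15613) (iv F71439)
theorem F90403 : act 4 n19927 = n15887 := d18_2 (iv F71440) D19927 (iv D15887)
def n19928 : Q := act 6 n15601
theorem D19928 : act 6 n15601 = n19928 := rfl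
theorem F90406 : act 0 n19928 = n15614 := d5_1 D19928 (iv D15614) (iv F71439)
theorem F90407 : act 3 n19928 = n15602 := d26_1 D19928 (iv D15602) D15601
theorem F90408 : act 4 n19928 = n15888 := d31_1 D19928 (iv D15888) (iv F71440)
theorem F90409 : act 9 n19928 = n15674 := d41_2 (iv F71442) D19928 (iv D15674)
def n19929 : Q := act 5 n15602
theorem D19929 : act 5 n15602 = n19929 := rfl
theorem F90410 : act 0 n19929 = n15615 := d4_1 D19929 (iv D15615) (iv F71443)
theorem F90411 : act 2 n19929 = n19929 := d19_1 D19929 (iv D19929) F71444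
theorem F90412 : act 4 n19929 = n15606 := d30_1 D19929 (iv D15606) F56290 (iv F56281) (iv F71445)
theorem F90413 : act 6 n19929 = n19929 := d35_2 D15602 D19929 (iv D19929) (iv D15602) F56276
theorem F90414 : act 9 n19929 = n15675 := d38_2 (iv F71446) D19929 (iv D15675)
def n19930 : Q := act 7 n15602
theorem D19930 : act 7 n15602 = n19930 := rfl
theorem F90415 : act 0 n19930 = n15616 := d6_1 D19930 (iv D15616) (iv F71443)
theorem F90416 : act 2 n19930 = n19930 := d21_1 D19930 (iv D19930) F71444
theorem F90417 : act 4 n19930 = n15603 := d32_1 D19930 (iv D15603) (iv F71445)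
theorem F90418 : act 9 n19930 = n15676 := d43_2 (iv F71446) D19930 (iv D15676)
def n19932 : Q := act 6 n15604
theorem D19932 : act 6 n15604 = n19932 := rfl
theorem F90426 : act 2 n19932 = n15605 := d20_1 D19932 (iv D15605) D15604
theorem F90429 : act 9 n19932 = n15678 := d41_2 (iv F71457) D19932 (iv D15678)
def n19933 : Q := act 5 n15605
theorem D19933 : act 5 n15605 = n19933 := rfl
theorem F90430 : act 0 n19933 = n15618 := d4_1 D19933 (iv D15618) (iv F71458)
theorem F90431 : act 3 n19933 = n15606 := d25_1 D19933 (iv D15606) (iv F71459)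
theorem F90432 : act 6 n19933 = n19933 := d35_2 D15605 D19933 (iv D19933) (iv D15605) F56285
theorem F90433 : act 9 n19933 = n15679 := d38_2 (iv F71461) D19933 (iv D15679)
def n19934 : Q := act 7 n15605
theorem D19934 : act 7 n15605 = n19934 := rfl
theorem F90434 : act 0 n19934 = n15619 := d6_1 D19934 (iv D15619) (iv F71458)
theorem F90435 : act 3 n19934 = n15607 := d27_1 D19934 (iv D15607) (iv F71459)
theorem F90436 : act 4 n19934 = n15894 := d32_1 D19934 (iv D15894) (iv F71460)
theorem F90437 : act 6 n19934 = n19934 := d39_1 D19934 (iv D19934) (iv D15605) F56286 D15605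
theorem F90438 : act 9 n19934 = n15680 := d43_2 (iv F71461) D19934 (iv D15680)
def n19935 : Q := act 7 n15606
theorem D19935 : act 7 n15606 = n19935 := rfl
theorem F90439 : act 0 n19935 = n15620 := d6_1 D19935 (iv D15620) (iv F71462)
theorem F90440 : act 2 n19935 = n19935 := d21_1 D19935 (iv D19935) F71463
theorem F90441 : act 5 n19935 = n15607 := d36_1 D19935 (iv D15607) D15606
theorem F90442 : act 9 n19935 = n15681 := d43_2 (iv F71465) D19935 (iv D15681)
def n19936 : Q := act 8 n15606
theorem D19936 : act 8 n15606 = n19936 := rfl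
theorem F90443 : act 0 n19936 = n15621 := d7_1 D19936 (iv D15621) (iv F71462)
theorem F90444 : act 2 n19936 = n19936 := d22_1 D19936 (iv D19936) F71463
theorem F90445 : act 6 n19936 = n19936 := d40_1 D19936 (iv D19936) F71464
def n19937 : Q := act 3 n15608
theorem D19937 : act 3 n15608 = n19937 := rfl
theorem F90446 : act 1 n19937 = n15624 := d10_1 D19937 (iv D15624) (iv F71471)
theorem F90447 : act 5 n19937 = n15610 := d25_2 (iv F71473) D19937 (iv D15610)
theorem F90448 : act 8 n19937 = n19937 := d28_2 F71474 D19937 (iv D19937)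
def n19938 : Q := act 6 n15608
theorem D19938 : act 6 n15608 = n19938 := rfl
theorem F90449 : act 1 n19938 = n15625 := d13_1 D19938 (iv D15625) (iv F71471)
theorem F90450 : act 2 n19938 = n19938 := d20_1 D19938 (iv D19938) F71472
theorem F90451 : act 4 n19938 = n15609 := d31_1 D19938 (iv D15609) D15608
theorem F90452 : act 8 n19938 = n19938 := d40_2 F71474 D19938 (iv D19938)
def n19939 : Q := act 7 n15609
theorem D19939 : act 7 n15609 = n19939 := rfl
theorem F90453 : act 1 n19939 = n15626 := d14_1 D19939 (iv D15626) (iv F71475)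
theorem F90454 : act 2 n19939 = n19939 := d21_1 D19939 (iv D19939) F71476
theorem F90455 : act 8 n19939 = n19939 := d42_2 F71477 D19939 (iv D19939)
def n19940 : Q := act 2 n15610
theorem D19940 : act 2 n15610 = n19940 := rfl
theorem F90456 : act 3 n19940 = n19940 := d17_2 D15610 D19940 (iv D19940) (iv D15610) F56301
theorem F90457 : act 4 n19940 = n15906 := d18_2 (iv F71479) D19940 (iv D15906)
theorem F90458 : act 8 n19940 = n15613 := d22_2 (iv F71480) D19940 (iv D15613)
def n19941 : Q := act 6 n15610
theorem D19941 : act 6 n15610 = n19941 := rfl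
theorem F90459 : act 1 n19941 = n15628 := d13_1 D19941 (iv D15628) (iv F71478)
theorem F90460 : act 3 n19941 = n15611 := d26_1 D19941 (iv D15611) D15610
theorem F90461 : act 4 n19941 = n15907 := d31_1 D19941 (iv D15907) (iv F71479)
theorem F90462 : act 8 n19941 = n15614 := d40_2 (iv F71480) D19941 (iv D15614)
def n19942 : Q := act 5 n15611
theorem D19942 : act 5 n15611 = n19942 := rfl
theorem F90463 : act 1 n19942 = n15629 := d12_1 D19942 (iv D15629) (iv F71481)
theorem F90464 : act 2 n19942 = n19942 := d19_1 D19942 (iv D19942) F71482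
def n19943 : Q := act 7 n15611
theorem D19943 : act 7 n15611 = n19943 := rfl
theorem F90465 : act 1 n19943 = n15630 := d14_1 D19943 (iv D15630) (iv F71481)
theorem F90466 : act 2 n19943 = n19943 := d21_1 D19943 (iv D19943) F71482
theorem F90467 : act 4 n19943 = n15612 := d32_1 D19943 (iv D15612) (iv F71483)
theorem F90468 : act 8 n19943 = n15616 := d42_2 (iv F71484) D19943 (iv D15616)
def n19944 : Q := act 1 n15613
theorem D19944 : act 1 n15613 = n19944 := rfl
theorem F90469 : act 2 n19944 = n15631 := d9_2 D15613 D19944 (iv D15631) (iv D12168) (iv F56307)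
theorem F90470 : act 3 n19944 = n19944 := d10_2 F71489 D19944 (iv D19944)
theorem F90471 : act 4 n19944 = n15914 := d11_2 (iv F71490) D19944 (iv D15914)
theorem F90472 : act 5 n19944 = n19944 := d12_2 F71491 D19944 (iv D19944)
theorem F90473 : act 9 n19944 = n15683 := d16_2 (iv F71492) D19944 (iv D15683)
def n19945 : Q := act 6 n15613
theorem D19945 : act 6 n15613 = n19945 := rfl
theorem F90474 : act 2 n19945 = n15614 := d20_1 D19945 (iv D15614) D15613
theorem F90475 : act 3 n19945 = n19945 := d26_1 D19945 (iv D19945) F71489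
theorem F90476 : act 4 n19945 = n15915 := d31_1 D19945 (iv D15915) (iv F71490)
theorem F90477 : act 9 n19945 = n15684 := d41_2 (iv F71492) D19945 (iv D15684)
def n19946 : Q := act 5 n15614
theorem D19946 : act 5 n15614 = n19946 := rfl
theorem F90478 : act 1 n19946 = n15633 := d12_1 D19946 (iv D15633) (iv F71493)
theorem F90479 : act 3 n19946 = n15615 := d25_1 D19946 (iv D15615) (iv F71494)
theorem F90480 : act 6 n19946 = n19946 := d35_2 D15614 D19946 (iv D19946) (iv D15614) F56309
theorem F90481 : act 9 n19946 = n15685 := d38_2 (iv F71496) D19946 (iv D15685)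
def n19947 : Q := act 7 n15614
theorem D19947 : act 7 n15614 = n19947 := rfl
theorem F90482 : act 1 n19947 = n15634 := d14_1 D19947 (iv D15634) (iv F71493)
theorem F90483 : act 3 n19947 = n15616 := d27_1 D19947 (iv D15616) (iv F71494)
theorem F90484 : act 4 n19947 = n15917 := d32_1 D19947 (iv D15917) (iv F71495)
theorem F90485 : act 9 n19947 = n15686 := d43_2 (iv F71496) D19947 (iv D15686)
def n19948 : Q := act 7 n15615
theorem D19948 : act 7 n15615 = n19948 := rfl
theorem F90486 : act 1 n19948 = n15635 := d14_1 D19948 (iv D15635) (iv F71497)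
theorem F90487 : act 2 n19948 = n19948 := d21_1 D19948 (iv D19948) F71498
theorem F90488 : act 4 n19948 = n15620 := d32_1 D19948 (iv D15620) (iv F71499)
theorem F90489 : act 5 n19948 = n15616 := d36_1 D19948 (iv D15616) D15615
theorem F90490 : act 9 n19948 = n15687 := d43_2 (iv F71501) D19948 (iv D15687)
def n19949 : Q := act 8 n15615
theorem D19949 : act 8 n15615 = n19949 := rfl
theorem F90491 : act 1 n19949 = n15636 := d15_1 D19949 (iv D15636) (iv F71497)
theorem F90492 : act 2 n19949 = n19949 := d22_1 D19949 (iv D19949) F71498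
theorem F90493 : act 4 n19949 = n15621 := d33_1 D19949 (iv D15621) (iv F71499)
theorem F90494 : act 6 n19949 = n19949 := d40_1 D19949 (iv D19949) F71500
def n19950 : Q := act 5 n15617
theorem D19950 : act 5 n15617 = n19950 := rfl
theorem F90496 : act 2 n19950 = n15618 := d19_1 D19950 (iv D15618) (iv F71507)
theorem F90499 : act 9 n19950 = n15689 := d38_2 (iv F71510) D19950 (iv D15689)
def n19951 : Q := act 7 n15617
theorem D19951 : act 7 n15617 = n19951 := rfl
theorem F90501 : act 2 n19951 = n15619 := d21_1 D19951 (iv D15619) (iv F71507)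
theorem F90505 : act 9 n19951 = n15690 := d43_2 (iv F71510) D19951 (iv D15690)
def n19952 : Q := act 4 n15618
theorem D19952 : act 4 n15618 = n19952 := rfl
theorem F90506 : act 1 n19952 = n15637 := d11_1 D19952 (iv D15637) (iv F71511)
theorem F90507 : act 5 n19952 = n15922 := d30_2 D15618 D19952 (iv D15922) (iv D12380) (iv F56328)
def n19953 : Q := act 7 n15618
theorem D19953 : act 7 n15618 = n19953 := rfl
theorem F90510 : act 1 n19953 = n15638 := d14_1 D19953 (iv D15638) (iv F71511)
theorem F90511 : act 3 n19953 = n15620 := d27_1 D19953 (iv D15620) (iv F71512)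
theorem F90512 : act 5 n19953 = n15619 := d36_1 D19953 (iv D15619) D15618
theorem F90513 : act 9 n19953 = n15692 := d43_2 (iv F71514) D19953 (iv D15692)
def n19954 : Q := act 8 n15618
theorem D19954 : act 8 n15618 = n19954 := rfl
theorem F90514 : act 1 n19954 = n15639 := d15_1 D19954 (iv D15639) (iv F71511)
theorem F90515 : act 3 n19954 = n15621 := d28_1 D19954 (iv D15621) (iv F71512)
theorem F90516 : act 6 n19954 = n19954 := d40_1 D19954 (iv D19954) F71513
def n19955 : Q := act 6 n15620
theorem D19955 : act 6 n15620 = n19955 := rfl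
theorem F90517 : act 1 n19955 = n15640 := d13_1 D19955 (iv D15640) (iv F71520)
theorem F90518 : act 2 n19955 = n19955 := d20_1 D19955 (iv D19955) F71521
theorem F90519 : act 5 n19955 = n19955 := d35_1 D19955 (iv D19955) F71522 F56337 (iv F71522)
theorem F90520 : act 7 n19955 = n19955 := d39_2 D15620 D19955 (iv D19955) (iv D15620) F56332
theorem F90521 : act 9 n19955 = n15694 := d41_2 (iv F71523) D19955 (iv D15694)
def n19956 : Q := act 8 n15620
theorem D19956 : act 8 n15620 = n19956 := rfl
theorem F90522 : act 1 n19956 = n15641 := d15_1 D19956 (iv D15641) (iv F71520)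
theorem F90523 : act 2 n19956 = n19956 := d22_1 D19956 (iv D19956) F71521
theorem F90524 : act 7 n19956 = n15621 := d42_1 D19956 (iv D15621) D15620
def n19957 : Q := act 9 n15621
theorem D19957 : act 9 n15621 = n19957 := rfl
theorem F90525 : act 1 n19957 = n15642 := d16_1 D19957 (iv D15642) (iv F71524)
theorem F90526 : act 2 n19957 = n19957 := d23_1 D19957 (iv D19957) F71525
theorem F90527 : act 6 n19957 = n19957 := d41_1 D19957 (iv D19957) F71526
theorem F90528 : act 8 n19957 = n15696 := d44_1 D19957 (iv D15696) (iv D12215) (iv F56333) D15621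
def n19958 : Q := act 3 n15622
theorem D19958 : act 3 n15622 = n19958 := rfl
theorem F90529 : act 4 n19958 = n15624 := d24_2 D15622 D19958 (iv D15624) (iv D12163) (iv F56340)
theorem F90530 : act 5 n19958 = n15930 := d25_2 (iv F71528) D19958 (iv D15930)
theorem F90531 : act 8 n19958 = n19958 := d28_2 F71529 D19958 (iv D19958)
def n19959 : Q := act 6 n15622
theorem D19959 : act 6 n15622 = n19959 := rfl
theorem F90532 : act 2 n19959 = n19959 := d20_1 D19959 (iv D19959) F71527
theorem F90533 : act 4 n19959 = n15623 := d31_1 D19959 (iv D15623) D15622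
theorem F90534 : act 8 n19959 = n19959 := d40_2 F71529 D19959 (iv D19959)
def n19960 : Q := act 7 n15623
theorem D19960 : act 7 n15623 = n19960 := rfl
theorem F90535 : act 2 n19960 = n19960 := d21_1 D19960 (iv D19960) F71530
theorem F90536 : act 3 n19960 = n15626 := d27_1 D19960 (iv D15626) (iv F71531)
theorem F90537 : act 8 n19960 = n19960 := d42_2 F71532 D19960 (iv D19960)
def n19961 : Q := act 2 n15624
theorem D19961 : act 2 n15624 = n19961 := rfl
theorem F90538 : act 3 n19961 = n15643 := d17_2 D15624 D19961 (iv D15643) (iv D12176) (iv F56342)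
theorem F90539 : act 5 n19961 = n15627 := d19_2 (iv F71533) D19961 (iv D15627)
theorem F90540 : act 8 n19961 = n19961 := d22_2 F71534 D19961 (iv D19961)
def n19962 : Q := act 6 n15624
theorem D19962 : act 6 n15624 = n19962 := rfl
theorem F90541 : act 3 n19962 = n15625 := d26_1 D19962 (iv D15625) D15624
theorem F90542 : act 8 n19962 = n19962 := d40_2 F71534 D19962 (iv D19962)
def n19963 : Q := act 5 n15625
theorem D19963 : act 5 n15625 = n19963 := rfl
theorem F90543 : act 2 n19963 = n15645 := d19_1 D19963 (iv D15645) (iv F71535)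
theorem F90544 : act 6 n19963 = n15629 := d35_2 D15625 D19963 (iv D15629) (iv D12166) (iv F56343)
def n19964 : Q := act 7 n15625
theorem D19964 : act 7 n15625 = n19964 := rfl
theorem F90545 : act 2 n19964 = n15646 := d21_1 D19964 (iv D15646) (iv F71535)
theorem F90546 : act 4 n19964 = n15626 := d32_1 D19964 (iv D15626) (iv F71536)
theorem F90547 : act 8 n19964 = n19964 := d42_2 F71537 D19964 (iv D19964)
def n19965 : Q := act 1 n15627
theorem D19965 : act 1 n15627 = n19965 := rfl
theorem F90548 : act 3 n19965 = n15647 := d10_2 (iv F71540) D19965 (iv D15647)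
theorem F90549 : act 4 n19965 = n15954 := d11_2 (iv F71541) D19965 (iv D15954)
theorem F90550 : act 8 n19965 = n15631 := d15_2 (iv F71542) D19965 (iv D15631)
def n19966 : Q := act 6 n15627
theorem D19966 : act 6 n15627 = n19966 := rfl
theorem F90551 : act 2 n19966 = n15628 := d20_1 D19966 (iv D15628) D15627
theorem F90552 : act 3 n19966 = n15648 := d26_1 D19966 (iv D15648) (iv F71540)
theorem F90553 : act 4 n19966 = n15955 := d31_1 D19966 (iv D15955) (iv F71541)
theorem F90554 : act 8 n19966 = n15632 := d40_2 (iv F71542) D19966 (iv D15632)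
def n19967 : Q := act 5 n15628
theorem D19967 : act 5 n15628 = n19967 := rfl
theorem F90555 : act 3 n19967 = n15629 := d25_1 D19967 (iv D15629) (iv F71543)
def n19968 : Q := act 7 n15628
theorem D19968 : act 7 n15628 = n19968 := rfl
theorem F90556 : act 3 n19968 = n15630 := d27_1 D19968 (iv D15630) (iv F71543)
theorem F90557 : act 4 n19968 = n15957 := d32_1 D19968 (iv D15957) (iv F71544)
theorem F90558 : act 8 n19968 = n15634 := d42_2 (iv F71545) D19968 (iv D15634)
def n19969 : Q := act 7 n15629
theorem D19969 : act 7 n15629 = n19969 := rfl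
theorem F90559 : act 2 n19969 = n15651 := d21_1 D19969 (iv D15651) (iv F71546)
theorem F90560 : act 5 n19969 = n15630 := d36_1 D19969 (iv D15630) D15629
def n19970 : Q := act 8 n15629
theorem D19970 : act 8 n15629 = n19970 := rfl
theorem F90561 : act 2 n19970 = n15652 := d22_1 D19970 (iv D15652) (iv F71546)
theorem F90562 : act 5 n19970 = n15636 := d37_1 D19970 (iv D15636) (iv D12170) (iv F56351) D15629
def n19971 : Q := act 0 n15631
theorem D19971 : act 0 n15631 = n19971 := rfl
theorem F90563 : act 3 n19971 = n15653 := d2_2 (iv F71550) D19971 (iv D15653)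
theorem F90564 : act 4 n19971 = n15966 := d3_2 (iv F71551) D19971 (iv D15966)
theorem F90566 : act 9 n19971 = n15697 := d8_2 (iv F71553) D19971 (iv D15697)
def n19972 : Q := act 6 n15631
theorem D19972 : act 6 n15631 = n19972 := rfl
theorem F90567 : act 1 n19972 = n15632 := d13_1 D19972 (iv D15632) D15631
theorem F90568 : act 3 n19972 = n15654 := d26_1 D19972 (iv D15654) (iv F71550)
theorem F90569 : act 4 n19972 = n15967 := d31_1 D19972 (iv D15967) (iv F71551)
theorem F90570 : act 9 n19972 = n15698 := d41_2 (iv F71553) D19972 (iv D15698)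
def n19973 : Q := act 5 n15632
theorem D19973 : act 5 n15632 = n19973 := rfl
theorem F90571 : act 2 n19973 = n15633 := d19_1 D19973 (iv D15633) (iv F71554)
theorem F90572 : act 3 n19973 = n15655 := d25_1 D19973 (iv D15655) (iv F71555)
theorem F90573 : act 6 n19973 = n19973 := d35_2 D15632 D19973 (iv D19973) (iv D15632) F56357
theorem F90574 : act 9 n19973 = n15699 := d38_2 (iv F71557) D19973 (iv D15699)
def n19974 : Q := act 7 n15632
theorem D19974 : act 7 n15632 = n19974 := rfl
theorem F90575 : act 2 n19974 = n15634 := d21_1 D19974 (iv D15634) (iv F71554)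
theorem F90576 : act 3 n19974 = n15656 := d27_1 D19974 (iv D15656) (iv F71555)
theorem F90577 : act 4 n19974 = n15969 := d32_1 D19974 (iv D15969) (iv F71556)
theorem F90578 : act 9 n19974 = n15700 := d43_2 (iv F71557) D19974 (iv D15700)
def n19975 : Q := act 4 n15633
theorem D19975 : act 4 n15633 = n19975 := rfl
theorem F90579 : act 3 n19975 = n15637 := d24_1 D19975 (iv D15637) F56370 (iv F56363) (iv F71558)
theorem F90580 : act 5 n19975 = n15970 := d30_2 D15633 D19975 (iv D15970) (iv D12412) (iv F56360)
theorem F90581 : act 6 n19975 = n19975 := d31_2 F71559 D19975 (iv D19975)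
theorem F90582 : act 9 n19975 = n15701 := d34_2 (iv F71560) D19975 (iv D15701)
def n19976 : Q := act 7 n15633
theorem D19976 : act 7 n15633 = n19976 := rfl
theorem F90583 : act 3 n19976 = n15635 := d27_1 D19976 (iv D15635) (iv F71558)
theorem F90584 : act 5 n19976 = n15634 := d36_1 D19976 (iv D15634) D15633
theorem F90585 : act 9 n19976 = n15702 := d43_2 (iv F71560) D19976 (iv D15702)
def n19977 : Q := act 8 n15633
theorem D19977 : act 8 n15633 = n19977 := rfl
theorem F90586 : act 3 n19977 = n15636 := d28_1 D19977 (iv D15636) (iv F71558)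
theorem F90587 : act 6 n19977 = n19977 := d40_1 D19977 (iv D19977) F71559
def n19978 : Q := act 6 n15635
theorem D19978 : act 6 n15635 = n19978 := rfl
theorem F90588 : act 2 n19978 = n15659 := d20_1 D19978 (iv D15659) (iv F71564)
theorem F90589 : act 4 n19978 = n15640 := d31_1 D19978 (iv D15640) (iv F71565)
theorem F90590 : act 7 n19978 = n19978 := d39_2 D15635 D19978 (iv D19978) (iv D15635) F56364
theorem F90591 : act 9 n19978 = n15704 := d41_2 (iv F71567) D19978 (iv D15704)
def n19979 : Q := act 8 n15635
theorem D19979 : act 8 n15635 = n19979 := rfl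
theorem F90592 : act 2 n19979 = n15660 := d22_1 D19979 (iv D15660) (iv F71564)
theorem F90593 : act 4 n19979 = n15641 := d33_1 D19979 (iv D15641) (iv F71565)
theorem F90594 : act 7 n19979 = n15636 := d42_1 D19979 (iv D15636) D15635
def n19980 : Q := act 9 n15636
theorem D19980 : act 9 n15636 = n19980 := rfl
theorem F90595 : act 2 n19980 = n15661 := d23_1 D19980 (iv D15661) (iv F71568)
theorem F90596 : act 4 n19980 = n15642 := d34_1 D19980 (iv D15642) (iv F71569)
theorem F90597 : act 6 n19980 = n19980 := d41_1 D19980 (iv D19980) F71570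
theorem F90598 : act 8 n19980 = n15706 := d44_1 D19980 (iv D15706) (iv D12221) (iv F56365) D15636
def n19981 : Q := act 7 n15637
theorem D19981 : act 7 n15637 = n19981 := rfl
theorem F90599 : act 2 n19981 = n19981 := d21_1 D19981 (iv D19981) F71571
theorem F90600 : act 4 n19981 = n15638 := d32_1 D19981 (iv D15638) D15637
theorem F90601 : act 5 n19981 = n15976 := d36_1 D19981 (iv D15976) (iv F71572)
theorem F90602 : act 9 n19981 = n15707 := d43_2 (iv F71574) D19981 (iv D15707)
def n19982 : Q := act 8 n15637
theorem D19982 : act 8 n15637 = n19982 := rfl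
theorem F90603 : act 2 n19982 = n19982 := d22_1 D19982 (iv D19982) F71571
theorem F90604 : act 4 n19982 = n15639 := d33_1 D19982 (iv D15639) D15637
theorem F90605 : act 6 n19982 = n19982 := d40_1 D19982 (iv D19982) F71573
def n19983 : Q := act 6 n15638
theorem D19983 : act 6 n15638 = n19983 := rfl
theorem F90606 : act 2 n19983 = n19983 := d20_1 D19983 (iv D19983) F71575
theorem F90607 : act 3 n19983 = n15640 := d26_1 D19983 (iv D15640) (iv F71576)
theorem F90608 : act 5 n19983 = n19983 := d35_1 D19983 (iv D19983) F71577 F56376 (iv F71577)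
theorem F90609 : act 7 n19983 = n19983 := d39_2 D15638 D19983 (iv D19983) (iv D15638) F56371
theorem F90610 : act 9 n19983 = n15709 := d41_2 (iv F71578) D19983 (iv D15709)
def n19984 : Q := act 8 n15638
theorem D19984 : act 8 n15638 = n19984 := rfl
theorem F90611 : act 2 n19984 = n19984 := d22_1 D19984 (iv D19984) F71575
theorem F90612 : act 3 n19984 = n15641 := d28_1 D19984 (iv D15641) (iv F71576)
theorem F90613 : act 7 n19984 = n15639 := d42_1 D19984 (iv D15639) D15638
def n19985 : Q := act 9 n15639
theorem D19985 : act 9 n15639 = n19985 := rfl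
theorem F90614 : act 2 n19985 = n19985 := d23_1 D19985 (iv D19985) F71579
theorem F90615 : act 3 n19985 = n15642 := d29_1 D19985 (iv D15642) (iv F71580)
theorem F90616 : act 6 n19985 = n19985 := d41_1 D19985 (iv D19985) F71581
theorem F90617 : act 8 n19985 = n15711 := d44_1 D19985 (iv D15711) (iv D12224) (iv F56372) D15639
def n19986 : Q := act 8 n15640
theorem D19986 : act 8 n15640 = n19986 := rfl
theorem F90618 : act 2 n19986 = n15662 := d22_1 D19986 (iv D15662) (iv F71582)
theorem F90619 : act 6 n19986 = n15641 := d40_1 D19986 (iv D15641) D15640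
theorem F90620 : act 7 n19986 = n19986 := d42_1 D19986 (iv D19986) F71584
def n19987 : Q := act 9 n15641
theorem D19987 : act 9 n15641 = n19987 := rfl
theorem F90621 : act 2 n19987 = n15663 := d23_1 D19987 (iv D15663) (iv F71586)
theorem F90622 : act 7 n19987 = n15642 := d43_1 D19987 (iv D15642) (iv F71587)
theorem F90623 : act 8 n19987 = n15713 := d44_1 D19987 (iv D15713) (iv D12226) (iv F56380) D15641
def n19988 : Q := act 1 n15643
theorem D19988 : act 1 n15643 = n19988 := rfl
theorem F90624 : act 2 n19988 = n19988 := d9_2 D15643 D19988 (iv D19988) (iv D15643) F56383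
theorem F90625 : act 4 n19988 = n19988 := d11_2 F71591 D19988 (iv D19988)
theorem F90626 : act 5 n19988 = n15647 := d12_2 (iv F71592) D19988 (iv D15647)
theorem F90627 : act 8 n19988 = n19988 := d15_2 F71593 D19988 (iv D19988)
def n19989 : Q := act 6 n15643
theorem D19989 : act 6 n15643 = n19989 := rfl
theorem F90628 : act 2 n19989 = n15644 := d20_1 D19989 (iv D15644) D15643
theorem F90629 : act 4 n19989 = n19989 := d31_1 D19989 (iv D19989) F71591
theorem F90630 : act 8 n19989 = n19989 := d40_2 F71593 D19989 (iv D19989)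
def n19990 : Q := act 5 n15644
theorem D19990 : act 5 n15644 = n19990 := rfl
theorem F90631 : act 1 n19990 = n19990 := d12_1 D19990 (iv D19990) F71594
theorem F90632 : act 3 n19990 = n15645 := d25_1 D19990 (iv D15645) (iv F71595)
theorem F90633 : act 6 n19990 = n15649 := d35_2 D15644 D19990 (iv D15649) (iv D12180) (iv F56385)
def n19991 : Q := act 7 n15644
theorem D19991 : act 7 n15644 = n19991 := rfl
theorem F90634 : act 1 n19991 = n19991 := d14_1 D19991 (iv D19991) F71594
theorem F90635 : act 3 n19991 = n15646 := d27_1 D19991 (iv D15646) (iv F71595)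
theorem F90636 : act 4 n19991 = n19991 := d32_1 D19991 (iv D19991) F71596
theorem F90637 : act 8 n19991 = n19991 := d42_2 F71597 D19991 (iv D19991)
def n19992 : Q := act 7 n15645
theorem D19992 : act 7 n15645 = n19992 := rfl
theorem F90638 : act 1 n19992 = n19992 := d14_1 D19992 (iv D19992) F71598
theorem F90639 : act 5 n19992 = n15646 := d36_1 D19992 (iv D15646) D15645
def n19993 : Q := act 8 n15645
theorem D19993 : act 8 n15645 = n19993 := rfl
theorem F90640 : act 1 n19993 = n19993 := d15_1 D19993 (iv D19993) F71598
theorem F90641 : act 5 n19993 = n19993 := d37_1 D19993 (iv D19993) (iv D15645) F56389 D15645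
theorem F90642 : act 6 n19993 = n15652 := d40_1 D19993 (iv D15652) (iv F71599)
def n19994 : Q := act 0 n15647
theorem D19994 : act 0 n15647 = n19994 := rfl
theorem F90644 : act 4 n19994 = n15664 := d3_2 (iv F71604) D19994 (iv D15664)
theorem F90645 : act 8 n19994 = n15653 := d7_2 (iv F71605) D19994 (iv D15653)
def n19995 : Q := act 6 n15647
theorem D19995 : act 6 n15647 = n19995 := rfl
theorem F90646 : act 1 n19995 = n15648 := d13_1 D19995 (iv D15648) D15647
theorem F90647 : act 2 n19995 = n19995 := d20_1 D19995 (iv D19995) F71603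
theorem F90648 : act 4 n19995 = n15665 := d31_1 D19995 (iv D15665) (iv F71604)
theorem F90649 : act 8 n19995 = n15654 := d40_2 (iv F71605) D19995 (iv D15654)
def n19996 : Q := act 5 n15648
theorem D19996 : act 5 n15648 = n19996 := rfl
theorem F90650 : act 2 n19996 = n15649 := d19_1 D19996 (iv D15649) (iv F71606)
def n19997 : Q := act 7 n15648
theorem D19997 : act 7 n15648 = n19997 := rfl
theorem F90651 : act 2 n19997 = n15650 := d21_1 D19997 (iv D15650) (iv F71606)
theorem F90652 : act 4 n19997 = n15667 := d32_1 D19997 (iv D15667) (iv F71607)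
theorem F90653 : act 8 n19997 = n15656 := d42_2 (iv F71608) D19997 (iv D15656)
def n19998 : Q := act 4 n15649
theorem D19998 : act 4 n15649 = n19998 := rfl
theorem F90654 : act 1 n19998 = n19998 := d11_1 D19998 (iv D19998) F71609
theorem F90655 : act 5 n19998 = n15668 := d30_2 D15649 D19998 (iv D15668) (iv D12194) (iv F56397)
def n19999 : Q := act 7 n15649
theorem D19999 : act 7 n15649 = n19999 := rfl
theorem F90656 : act 1 n19999 = n19999 := d14_1 D19999 (iv D19999) F71609
theorem F90657 : act 3 n19999 = n15651 := d27_1 D19999 (iv D15651) (iv F71610)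
theorem F90658 : act 5 n19999 = n15650 := d36_1 D19999 (iv D15650) D15649
def n20000 : Q := act 8 n15649
theorem D20000 : act 8 n15649 = n20000 := rfl
theorem F90659 : act 1 n20000 = n20000 := d15_1 D20000 (iv D20000) F71609
theorem F90660 : act 3 n20000 = n15652 := d28_1 D20000 (iv D15652) (iv F71610)
theorem F90661 : act 5 n20000 = n15658 := d37_1 D20000 (iv D15658) (iv D12185) (iv F56398) D15649
def n20001 : Q := act 6 n15651
theorem D20001 : act 6 n15651 = n20001 := rfl
theorem F90662 : act 1 n20001 = n20001 := d13_1 D20001 (iv D20001) F71615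
def n20002 : Q := act 8 n15651
theorem D20002 : act 8 n15651 = n20002 := rfl
theorem F90663 : act 1 n20002 = n20002 := d15_1 D20002 (iv D20002) F71615
theorem F90664 : act 5 n20002 = n15660 := d37_1 D20002 (iv D15660) F56421 (iv F56402) (iv F71616)
theorem F90665 : act 7 n20002 = n15652 := d42_1 D20002 (iv D15652) D15651
def n20003 : Q := act 9 n15652
theorem D20003 : act 9 n15652 = n20003 := rfl
theorem F90666 : act 1 n20003 = n20003 := d16_1 D20003 (iv D20003) F71617
theorem F90667 : act 5 n20003 = n15661 := d38_1 D20003 (iv D15661) (iv F71618)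
def n20004 : Q := act 6 n15653
theorem D20004 : act 6 n15653 = n20004 := rfl
theorem F90668 : act 0 n20004 = n15654 := d5_1 D20004 (iv D15654) D15653
theorem F90671 : act 9 n20004 = n15714 := d41_2 (iv F71622) D20004 (iv D15714)
def n20005 : Q := act 5 n15654
theorem D20005 : act 5 n15654 = n20005 := rfl
theorem F90672 : act 1 n20005 = n15655 := d12_1 D20005 (iv D15655) (iv F71623)
theorem F90673 : act 2 n20005 = n20005 := d19_1 D20005 (iv D20005) F71624
theorem F90674 : act 4 n20005 = n20005 := d30_1 D20005 (iv D20005) F71625 F56463 (iv F71625)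
theorem F90675 : act 6 n20005 = n20005 := d35_2 D15654 D20005 (iv D20005) (iv D15654) F56405
theorem F90676 : act 9 n20005 = n15715 := d38_2 (iv F71626) D20005 (iv D15715)
def n20006 : Q := act 7 n15654
theorem D20006 : act 7 n15654 = n20006 := rfl
theorem F90677 : act 1 n20006 = n15656 := d14_1 D20006 (iv D15656) (iv F71623)
theorem F90678 : act 2 n20006 = n20006 := d21_1 D20006 (iv D20006) F71624
theorem F90679 : act 4 n20006 = n15672 := d32_1 D20006 (iv D15672) (iv F71625)
theorem F90680 : act 9 n20006 = n15716 := d43_2 (iv F71626) D20006 (iv D15716)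
def n20007 : Q := act 7 n15655
theorem D20007 : act 7 n15655 = n20007 := rfl
theorem F90681 : act 2 n20007 = n15657 := d21_1 D20007 (iv D15657) (iv F71627)
theorem F90682 : act 4 n20007 = n20007 := d32_1 D20007 (iv D20007) F71628
theorem F90683 : act 5 n20007 = n15656 := d36_1 D20007 (iv D15656) D15655
theorem F90684 : act 9 n20007 = n15717 := d43_2 (iv F71630) D20007 (iv D15717)
def n20008 : Q := act 8 n15655
theorem D20008 : act 8 n15655 = n20008 := rfl
theorem F90685 : act 2 n20008 = n15658 := d22_1 D20008 (iv D15658) (iv F71627)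
theorem F90686 : act 4 n20008 = n20008 := d33_1 D20008 (iv D20008) F71628
theorem F90687 : act 6 n20008 = n20008 := d40_1 D20008 (iv D20008) F71629
def n20009 : Q := act 6 n15657
theorem D20009 : act 6 n15657 = n20009 := rfl
theorem F90688 : act 1 n20009 = n20009 := d13_1 D20009 (iv D20009) F71634
theorem F90689 : act 3 n20009 = n15659 := d26_1 D20009 (iv D15659) (iv F71635)
theorem F90690 : act 4 n20009 = n20009 := d31_1 D20009 (iv D20009) F71636
theorem F90691 : act 7 n20009 = n20009 := d39_2 D15657 D20009 (iv D20009) (iv D15657) F56413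
theorem F90692 : act 9 n20009 = n15719 := d41_2 (iv F71638) D20009 (iv D15719)
def n20010 : Q := act 8 n15657
theorem D20010 : act 8 n15657 = n20010 := rfl
theorem F90693 : act 1 n20010 = n20010 := d15_1 D20010 (iv D20010) F71634
theorem F90694 : act 3 n20010 = n15660 := d28_1 D20010 (iv D15660) (iv F71635)
theorem F90695 : act 4 n20010 = n20010 := d33_1 D20010 (iv D20010) F71636
theorem F90696 : act 7 n20010 = n15658 := d42_1 D20010 (iv D15658) D15657
def n20011 : Q := act 9 n15658
theorem D20011 : act 9 n15658 = n20011 := rfl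
theorem F90697 : act 1 n20011 = n20011 := d16_1 D20011 (iv D20011) F71639
theorem F90698 : act 3 n20011 = n15661 := d29_1 D20011 (iv D15661) (iv F71640)
theorem F90699 : act 4 n20011 = n20011 := d34_1 D20011 (iv D20011) F71641
theorem F90700 : act 6 n20011 = n20011 := d41_1 D20011 (iv D20011) F71642
theorem F90701 : act 8 n20011 = n15721 := d44_1 D20011 (iv D15721) (iv D12233) (iv F56414) D15658
def n20012 : Q := act 8 n15659
theorem D20012 : act 8 n15659 = n20012 := rfl
theorem F90702 : act 1 n20012 = n20012 := d15_1 D20012 (iv D20012) F71643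
theorem F90703 : act 4 n20012 = n15662 := d33_1 D20012 (iv D15662) (iv F71644)
theorem F90704 : act 6 n20012 = n15660 := d40_1 D20012 (iv D15660) D15659
theorem F90705 : act 7 n20012 = n20012 := d42_1 D20012 (iv D20012) F71645
def n20013 : Q := act 9 n15660
theorem D20013 : act 9 n15660 = n20013 := rfl
theorem F90706 : act 1 n20013 = n20013 := d16_1 D20013 (iv D20013) F71647
theorem F90707 : act 4 n20013 = n15663 := d34_1 D20013 (iv D15663) (iv F71648)
theorem F90708 : act 7 n20013 = n15661 := d43_1 D20013 (iv D15661) (iv F71649)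
theorem F90709 : act 8 n20013 = n15723 := d44_1 D20013 (iv D15723) (iv D12235) (iv F56422) D15660
def n20014 : Q := act 5 n15662
theorem D20014 : act 5 n15662 = n20014 := rfl
theorem F90710 : act 1 n20014 = n20014 := d12_1 D20014 (iv D20014) F71654
theorem F90711 : act 3 n20014 = n20014 := d25_1 D20014 (iv D20014) F71655
theorem F90712 : act 7 n20014 = n20014 := d36_2 F71657 D20014 (iv D20014)
theorem F90713 : act 8 n20014 = n20014 := d37_2 D15662 D20014 (iv D20014) (iv D15662) F56428
def n20015 : Q := act 9 n15662
theorem D20015 : act 9 n15662 = n20015 := rfl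
theorem F90714 : act 1 n20015 = n20015 := d16_1 D20015 (iv D20015) F71654
theorem F90715 : act 3 n20015 = n20015 := d29_1 D20015 (iv D20015) F71655
theorem F90716 : act 6 n20015 = n15663 := d41_1 D20015 (iv D15663) (iv F71656)
theorem F90717 : act 7 n20015 = n20015 := d43_1 D20015 (iv D20015) F71657
theorem F90718 : act 8 n20015 = n15725 := d44_1 D20015 (iv D15725) (iv D12237) (iv F56430) D15662
def n20016 : Q := act 6 n15664
theorem D20016 : act 6 n15664 = n20016 := rfl
theorem F90719 : act 0 n20016 = n15665 := d5_1 D20016 (iv D15665) D15664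
theorem F90722 : act 8 n20016 = n15671 := d40_2 (iv F71665) D20016 (iv D15671)
def n20017 : Q := act 5 n15665
theorem D20017 : act 5 n15665 = n20017 := rfl
theorem F90723 : act 1 n20017 = n15666 := d12_1 D20017 (iv D15666) (iv F71666)
theorem F90724 : act 2 n20017 = n20017 := d19_1 D20017 (iv D20017) F71667
theorem F90725 : act 3 n20017 = n16073 := d25_1 D20017 (iv D16073) (iv F71668)
theorem F90726 : act 6 n20017 = n20017 := d35_2 D15665 D20017 (iv D20017) (iv D15665) F56440
theorem F90727 : act 8 n20017 = n20017 := d37_2 (iv F71669) D20017 (iv D20017) F71669 F56463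
def n20018 : Q := act 7 n15665
theorem D20018 : act 7 n15665 = n20018 := rfl
theorem F90728 : act 1 n20018 = n15667 := d14_1 D20018 (iv D15667) (iv F71666)
theorem F90729 : act 2 n20018 = n20018 := d21_1 D20018 (iv D20018) F71667
theorem F90731 : act 8 n20018 = n15672 := d42_2 (iv F71669) D20018 (iv D15672)
def n20019 : Q := act 4 n15666
theorem D20019 : act 4 n15666 = n20019 := rfl
theorem F90732 : act 2 n20019 = n15668 := d18_1 D20019 (iv D15668) (iv F71670)
theorem F90733 : act 6 n20019 = n20019 := d31_2 F71672 D20019 (iv D20019)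
theorem F90734 : act 8 n20019 = n20019 := d33_2 F71673 D20019 (iv D20019)
def n20020 : Q := act 7 n15666
theorem D20020 : act 7 n15666 = n20020 := rfl
theorem F90735 : act 2 n20020 = n15669 := d21_1 D20020 (iv D15669) (iv F71670)
theorem F90736 : act 3 n20020 = n16076 := d27_1 D20020 (iv D16076) (iv F71671)
theorem F90737 : act 5 n20020 = n15667 := d36_1 D20020 (iv D15667) D15666
theorem F90738 : act 8 n20020 = n20020 := d42_2 F71673 D20020 (iv D20020)
def n20021 : Q := act 7 n15668
theorem D20021 : act 7 n15668 = n20021 := rfl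
theorem F90739 : act 1 n20021 = n20021 := d14_1 D20021 (iv D20021) F71677
theorem F90740 : act 4 n20021 = n15669 := d32_1 D20021 (iv D15669) D15668
theorem F90741 : act 8 n20021 = n20021 := d42_2 F71679 D20021 (iv D20021)
def n20022 : Q := act 6 n15669
theorem D20022 : act 6 n15669 = n20022 := rfl
theorem F90742 : act 1 n20022 = n20022 := d13_1 D20022 (iv D20022) F71680
theorem F90743 : act 3 n20022 = n15670 := d26_1 D20022 (iv D15670) (iv F71681)
theorem F90744 : act 7 n20022 = n20022 := d39_2 D15669 D20022 (iv D20022) (iv D15669) F56447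
theorem F90745 : act 8 n20022 = n20022 := d40_2 F71683 D20022 (iv D20022)
def n20023 : Q := act 7 n15671
theorem D20023 : act 7 n15671 = n20023 := rfl
theorem F90750 : act 9 n20023 = n15726 := d43_2 (iv F71692) D20023 (iv D15726)
def n20024 : Q := act 1 n15673
theorem D20024 : act 1 n15673 = n20024 := rfl
theorem F90752 : act 4 n20024 = n16106 := d11_2 (iv F71700) D20024 (iv D16106)
def n20025 : Q := act 6 n15673
theorem D20025 : act 6 n15673 = n20025 := rfl
theorem F90754 : act 0 n20025 = n15684 := d5_1 D20025 (iv D15684) (iv F71698)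
theorem F90755 : act 2 n20025 = n15674 := d20_1 D20025 (iv D15674) D15673
def n20026 : Q := act 5 n15674
theorem D20026 : act 5 n15674 = n20026 := rfl
theorem F90758 : act 0 n20026 = n15685 := d4_1 D20026 (iv D15685) (iv F71702)
theorem F90759 : act 3 n20026 = n15675 := d25_1 D20026 (iv D15675) (iv F71703)
theorem F90760 : act 6 n20026 = n20026 := d35_2 D15674 D20026 (iv D20026) (iv D15674) F56471
def n20027 : Q := act 7 n15674
theorem D20027 : act 7 n15674 = n20027 := rfl
theorem F90761 : act 0 n20027 = n15686 := d6_1 D20027 (iv D15686) (iv F71702)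
theorem F90762 : act 3 n20027 = n15676 := d27_1 D20027 (iv D15676) (iv F71703)
theorem F90763 : act 4 n20027 = n16109 := d32_1 D20027 (iv D16109) (iv F71704)
def n20028 : Q := act 7 n15675
theorem D20028 : act 7 n15675 = n20028 := rfl
theorem F90764 : act 0 n20028 = n15687 := d6_1 D20028 (iv D15687) (iv F71705)
theorem F90765 : act 2 n20028 = n20028 := d21_1 D20028 (iv D20028) F71706
theorem F90766 : act 4 n20028 = n15681 := d32_1 D20028 (iv D15681) (iv F71707)
theorem F90767 : act 5 n20028 = n15676 := d36_1 D20028 (iv D15676) D15675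
def n20029 : Q := act 8 n15675
theorem D20029 : act 8 n15675 = n20029 := rfl
theorem F90768 : act 0 n20029 = n15688 := d7_1 D20029 (iv D15688) (iv F71705)
theorem F90769 : act 2 n20029 = n20029 := d22_1 D20029 (iv D20029) F71706
theorem F90770 : act 4 n20029 = n15682 := d33_1 D20029 (iv D15682) (iv F71707)
theorem F90771 : act 6 n20029 = n20029 := d40_1 D20029 (iv D20029) F71708
def n20030 : Q := act 6 n15677
theorem D20030 : act 6 n15677 = n20030 := rfl
theorem F90773 : act 1 n20030 = n15678 := d13_1 D20030 (iv D15678) D15677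
theorem F90775 : act 4 n20030 = n16112 := d31_1 D20030 (iv D16112) (iv F71714)
def n20031 : Q := act 5 n15678
theorem D20031 : act 5 n15678 = n20031 := rfl
theorem F90778 : act 2 n20031 = n15679 := d19_1 D20031 (iv D15679) (iv F71719)
def n20032 : Q := act 7 n15678
theorem D20032 : act 7 n15678 = n20032 := rfl
theorem F90782 : act 2 n20032 = n15680 := d21_1 D20032 (iv D15680) (iv F71719)
def n20033 : Q := act 4 n15679
theorem D20033 : act 4 n15679 = n20033 := rfl
theorem F90788 : act 5 n20033 = n16115 := d30_2 D15679 D20033 (iv D16115) (iv D12520) (iv F56487)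
def n20034 : Q := act 7 n15679
theorem D20034 : act 7 n15679 = n20034 := rfl
theorem F90790 : act 0 n20034 = n15692 := d6_1 D20034 (iv D15692) (iv F71723)
theorem F90791 : act 3 n20034 = n15681 := d27_1 D20034 (iv D15681) (iv F71724)
theorem F90792 : act 5 n20034 = n15680 := d36_1 D20034 (iv D15680) D15679
def n20035 : Q := act 8 n15679
theorem D20035 : act 8 n15679 = n20035 := rfl
theorem F90793 : act 0 n20035 = n15693 := d7_1 D20035 (iv D15693) (iv F71723)
theorem F90794 : act 3 n20035 = n15682 := d28_1 D20035 (iv D15682) (iv F71724)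
theorem F90795 : act 5 n20035 = n20035 := d37_1 D20035 (iv D20035) (iv D15679) F56488 D15679
theorem F90796 : act 6 n20035 = n20035 := d40_1 D20035 (iv D20035) F71725
def n20036 : Q := act 6 n15681
theorem D20036 : act 6 n15681 = n20036 := rfl
theorem F90797 : act 0 n20036 = n15694 := d5_1 D20036 (iv D15694) (iv F71731)
theorem F90798 : act 2 n20036 = n20036 := d20_1 D20036 (iv D20036) F71732
theorem F90799 : act 5 n20036 = n20036 := d35_1 D20036 (iv D20036) F71733 F56495 (iv F71733)
theorem F90800 : act 7 n20036 = n20036 := d39_2 D15681 D20036 (iv D20036) (iv D15681) F56491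
def n20037 : Q := act 8 n15681
theorem D20037 : act 8 n15681 = n20037 := rfl
theorem F90801 : act 0 n20037 = n15695 := d7_1 D20037 (iv D15695) (iv F71731)
theorem F90802 : act 2 n20037 = n20037 := d22_1 D20037 (iv D20037) F71732
theorem F90803 : act 5 n20037 = n20037 := d37_1 D20037 (iv D20037) F71733 F56496 (iv F71733)
theorem F90804 : act 7 n20037 = n15682 := d42_1 D20037 (iv D15682) D15681
def n20038 : Q := act 9 n15682
theorem D20038 : act 9 n15682 = n20038 := rfl
theorem F90805 : act 0 n20038 = n15696 := d8_1 D20038 (iv D15696) (iv F71734)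
theorem F90806 : act 2 n20038 = n20038 := d23_1 D20038 (iv D20038) F71735
theorem F90807 : act 5 n20038 = n20038 := d38_1 D20038 (iv D20038) F71736
theorem F90808 : act 6 n20038 = n20038 := d41_1 D20038 (iv D20038) F71737
def n20039 : Q := act 0 n15683
theorem D20039 : act 0 n15683 = n20039 := rfl
theorem F90809 : act 2 n20039 = n15697 := d1_2 (iv F71738) D20039 (iv D15697)
def n20040 : Q := act 6 n15683
theorem D20040 : act 6 n15683 = n20040 := rfl
theorem F90813 : act 1 n20040 = n15684 := d13_1 D20040 (iv D15684) D15683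
theorem F90814 : act 2 n20040 = n15698 := d20_1 D20040 (iv D15698) (iv F71738)
theorem F90815 : act 3 n20040 = n20040 := d26_1 D20040 (iv D20040) F71739
def n20041 : Q := act 5 n15684
theorem D20041 : act 5 n15684 = n20041 := rfl
theorem F90817 : act 2 n20041 = n15685 := d19_1 D20041 (iv D15685) (iv F71742)
def n20042 : Q := act 7 n15684
theorem D20042 : act 7 n15684 = n20042 := rfl
theorem F90820 : act 2 n20042 = n15686 := d21_1 D20042 (iv D15686) (iv F71742)
theorem F90821 : act 3 n20042 = n20042 := d27_1 D20042 (iv D20042) F71743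
theorem F90822 : act 4 n20042 = n16140 := d32_1 D20042 (iv D16140) (iv F71744)
def n20043 : Q := act 4 n15685
theorem D20043 : act 4 n15685 = n20043 := rfl
theorem F90823 : act 1 n20043 = n15701 := d11_1 D20043 (iv D15701) (iv F71745)
theorem F90824 : act 3 n20043 = n15691 := d24_1 D20043 (iv D15691) F56516 (iv F56505) (iv F71746)
theorem F90825 : act 5 n20043 = n16141 := d30_2 D15685 D20043 (iv D16141) (iv D12537) (iv F56502)
def n20044 : Q := act 7 n15685
theorem D20044 : act 7 n15685 = n20044 := rfl
theorem F90827 : act 1 n20044 = n15702 := d14_1 D20044 (iv D15702) (iv F71745)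
theorem F90828 : act 3 n20044 = n15687 := d27_1 D20044 (iv D15687) (iv F71746)
theorem F90829 : act 5 n20044 = n15686 := d36_1 D20044 (iv D15686) D15685
def n20045 : Q := act 8 n15685
theorem D20045 : act 8 n15685 = n20045 := rfl
theorem F90830 : act 1 n20045 = n15703 := d15_1 D20045 (iv D15703) (iv F71745)
theorem F90831 : act 3 n20045 = n15688 := d28_1 D20045 (iv D15688) (iv F71746)
theorem F90832 : act 6 n20045 = n20045 := d40_1 D20045 (iv D20045) F71747
def n20046 : Q := act 6 n15687
theorem D20046 : act 6 n15687 = n20046 := rfl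
theorem F90833 : act 1 n20046 = n15704 := d13_1 D20046 (iv D15704) (iv F71751)
theorem F90834 : act 2 n20046 = n20046 := d20_1 D20046 (iv D20046) F71752
theorem F90835 : act 4 n20046 = n15694 := d31_1 D20046 (iv D15694) (iv F71753)
theorem F90836 : act 7 n20046 = n20046 := d39_2 D15687 D20046 (iv D20046) (iv D15687) F56506
def n20047 : Q := act 8 n15687
theorem D20047 : act 8 n15687 = n20047 := rfl
theorem F90837 : act 1 n20047 = n15705 := d15_1 D20047 (iv D15705) (iv F71751)
theorem F90838 : act 2 n20047 = n20047 := d22_1 D20047 (iv D20047) F71752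
theorem F90839 : act 4 n20047 = n15695 := d33_1 D20047 (iv D15695) (iv F71753)
theorem F90840 : act 7 n20047 = n15688 := d42_1 D20047 (iv D15688) D15687
def n20048 : Q := act 9 n15688
theorem D20048 : act 9 n15688 = n20048 := rfl
theorem F90841 : act 1 n20048 = n15706 := d16_1 D20048 (iv D15706) (iv F71755)
theorem F90842 : act 2 n20048 = n20048 := d23_1 D20048 (iv D20048) F71756
theorem F90843 : act 4 n20048 = n15696 := d34_1 D20048 (iv D15696) (iv F71757)
theorem F90844 : act 6 n20048 = n20048 := d41_1 D20048 (iv D20048) F71758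
def n20050 : Q := act 7 n15689
theorem D20050 : act 7 n15689 = n20050 := rfl
theorem F90850 : act 2 n20050 = n15692 := d21_1 D20050 (iv D15692) (iv F71760)
def n20051 : Q := act 8 n15689
theorem D20051 : act 8 n15689 = n20051 := rfl
theorem F90854 : act 2 n20051 = n15693 := d22_1 D20051 (iv D15693) (iv F71760)
def n20052 : Q := act 7 n15691
theorem D20052 : act 7 n15691 = n20052 := rfl
theorem F90858 : act 1 n20052 = n15707 := d14_1 D20052 (iv D15707) (iv F71769)
theorem F90859 : act 4 n20052 = n15692 := d32_1 D20052 (iv D15692) D15691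
def n20053 : Q := act 8 n15691
theorem D20053 : act 8 n15691 = n20053 := rfl
theorem F90861 : act 1 n20053 = n15708 := d15_1 D20053 (iv D15708) (iv F71769)
theorem F90862 : act 4 n20053 = n15693 := d33_1 D20053 (iv D15693) D15691
def n20054 : Q := act 6 n15692
theorem D20054 : act 6 n15692 = n20054 := rfl
theorem F90864 : act 1 n20054 = n15709 := d13_1 D20054 (iv D15709) (iv F71772)
theorem F90865 : act 3 n20054 = n15694 := d26_1 D20054 (iv D15694) (iv F71773)
theorem F90866 : act 5 n20054 = n20054 := d35_1 D20054 (iv D20054) F71774 F56521 (iv F71774)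
theorem F90867 : act 7 n20054 = n20054 := d39_2 D15692 D20054 (iv D20054) (iv D15692) F56517
def n20055 : Q := act 8 n15692
theorem D20055 : act 8 n15692 = n20055 := rfl
theorem F90868 : act 1 n20055 = n15710 := d15_1 D20055 (iv D15710) (iv F71772)
theorem F90869 : act 3 n20055 = n15695 := d28_1 D20055 (iv D15695) (iv F71773)
theorem F90870 : act 5 n20055 = n20055 := d37_1 D20055 (iv D20055) F71774 F56522 (iv F71774)
theorem F90871 : act 7 n20055 = n15693 := d42_1 D20055 (iv D15693) D15692
def n20056 : Q := act 9 n15693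
theorem D20056 : act 9 n15693 = n20056 := rfl
theorem F90872 : act 1 n20056 = n15711 := d16_1 D20056 (iv D15711) (iv F71775)
theorem F90873 : act 3 n20056 = n15696 := d29_1 D20056 (iv D15696) (iv F71776)
theorem F90874 : act 5 n20056 = n20056 := d38_1 D20056 (iv D20056) F71777
theorem F90875 : act 6 n20056 = n20056 := d41_1 D20056 (iv D20056) F71778
def n20057 : Q := act 8 n15694
theorem D20057 : act 8 n15694 = n20057 := rfl
theorem F90876 : act 1 n20057 = n15712 := d15_1 D20057 (iv D15712) (iv F71779)
theorem F90877 : act 2 n20057 = n20057 := d22_1 D20057 (iv D20057) F71780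
theorem F90878 : act 6 n20057 = n15695 := d40_1 D20057 (iv D15695) D15694
theorem F90879 : act 7 n20057 = n20057 := d42_1 D20057 (iv D20057) F71782
def n20058 : Q := act 9 n15695
theorem D20058 : act 9 n15695 = n20058 := rfl
theorem F90880 : act 1 n20058 = n15713 := d16_1 D20058 (iv D15713) (iv F71783)
theorem F90881 : act 2 n20058 = n20058 := d23_1 D20058 (iv D20058) F71784
theorem F90882 : act 5 n20058 = n20058 := d38_1 D20058 (iv D20058) F71785
theorem F90883 : act 7 n20058 = n15696 := d43_1 D20058 (iv D15696) (iv F71786)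
def n20059 : Q := act 6 n15697
theorem D20059 : act 6 n15697 = n20059 := rfl
theorem F90884 : act 0 n20059 = n15698 := d5_1 D20059 (iv D15698) D15697
theorem F90885 : act 3 n20059 = n15714 := d26_1 D20059 (iv D15714) (iv F71791)
def n20060 : Q := act 5 n15698
theorem D20060 : act 5 n15698 = n20060 := rfl
theorem F90887 : act 1 n20060 = n15699 := d12_1 D20060 (iv D15699) (iv F71794)
theorem F90888 : act 3 n20060 = n15715 := d25_1 D20060 (iv D15715) (iv F71795)
theorem F90889 : act 6 n20060 = n20060 := d35_2 D15698 D20060 (iv D20060) (iv D15698) F56532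
def n20061 : Q := act 7 n15698
theorem D20061 : act 7 n15698 = n20061 := rfl
theorem F90890 : act 1 n20061 = n15700 := d14_1 D20061 (iv D15700) (iv F71794)
theorem F90891 : act 3 n20061 = n15716 := d27_1 D20061 (iv D15716) (iv F71795)
theorem F90892 : act 4 n20061 = n16185 := d32_1 D20061 (iv D16185) (iv F71796)
def n20062 : Q := act 4 n15699
theorem D20062 : act 4 n15699 = n20062 := rfl
theorem F90893 : act 2 n20062 = n15701 := d18_1 D20062 (iv D15701) (iv F71797)
theorem F90894 : act 3 n20062 = n20062 := d24_1 D20062 (iv D20062) F71798 F56572 (iv F71798)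
theorem F90895 : act 5 n20062 = n16186 := d30_2 D15699 D20062 (iv D16186) (iv D12567) (iv F56535)
theorem F90896 : act 6 n20062 = n20062 := d31_2 F71799 D20062 (iv D20062)
def n20063 : Q := act 7 n15699
theorem D20063 : act 7 n15699 = n20063 := rfl
theorem F90897 : act 2 n20063 = n15702 := d21_1 D20063 (iv D15702) (iv F71797)
theorem F90898 : act 3 n20063 = n15717 := d27_1 D20063 (iv D15717) (iv F71798)
theorem F90899 : act 5 n20063 = n15700 := d36_1 D20063 (iv D15700) D15699
def n20064 : Q := act 8 n15699
theorem D20064 : act 8 n15699 = n20064 := rfl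
theorem F90900 : act 2 n20064 = n15703 := d22_1 D20064 (iv D15703) (iv F71797)
theorem F90901 : act 3 n20064 = n15718 := d28_1 D20064 (iv D15718) (iv F71798)
theorem F90902 : act 6 n20064 = n20064 := d40_1 D20064 (iv D20064) F71799
def n20065 : Q := act 7 n15701
theorem D20065 : act 7 n15701 = n20065 := rfl
theorem F90903 : act 3 n20065 = n15707 := d27_1 D20065 (iv D15707) (iv F71803)
theorem F90904 : act 4 n20065 = n15702 := d32_1 D20065 (iv D15702) D15701
theorem F90905 : act 5 n20065 = n16189 := d36_1 D20065 (iv D16189) (iv F71804)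
def n20066 : Q := act 8 n15701
theorem D20066 : act 8 n15701 = n20066 := rfl
theorem F90906 : act 3 n20066 = n15708 := d28_1 D20066 (iv D15708) (iv F71803)
theorem F90907 : act 4 n20066 = n15703 := d33_1 D20066 (iv D15703) D15701
theorem F90908 : act 6 n20066 = n20066 := d40_1 D20066 (iv D20066) F71805
def n20067 : Q := act 6 n15702
theorem D20067 : act 6 n15702 = n20067 := rfl
theorem F90909 : act 3 n20067 = n15704 := d26_1 D20067 (iv D15704) (iv F71806)
theorem F90910 : act 7 n20067 = n20067 := d39_2 D15702 D20067 (iv D20067) (iv D15702) F56537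
def n20068 : Q := act 8 n15702
theorem D20068 : act 8 n15702 = n20068 := rfl
theorem F90911 : act 3 n20068 = n15705 := d28_1 D20068 (iv D15705) (iv F71806)
theorem F90912 : act 7 n20068 = n15703 := d42_1 D20068 (iv D15703) D15702
def n20069 : Q := act 9 n15703
theorem D20069 : act 9 n15703 = n20069 := rfl
theorem F90913 : act 3 n20069 = n15706 := d29_1 D20069 (iv D15706) (iv F71808)
theorem F90914 : act 6 n20069 = n20069 := d41_1 D20069 (iv D20069) F71809
def n20070 : Q := act 8 n15704
theorem D20070 : act 8 n15704 = n20070 := rfl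
theorem F90915 : act 2 n20070 = n15722 := d22_1 D20070 (iv D15722) (iv F71810)
theorem F90916 : act 4 n20070 = n15712 := d33_1 D20070 (iv D15712) (iv F71811)
theorem F90917 : act 6 n20070 = n15705 := d40_1 D20070 (iv D15705) D15704
theorem F90918 : act 7 n20070 = n20070 := d42_1 D20070 (iv D20070) F71812
def n20071 : Q := act 9 n15705
theorem D20071 : act 9 n15705 = n20071 := rfl
theorem F90919 : act 2 n20071 = n15723 := d23_1 D20071 (iv D15723) (iv F71813)
theorem F90920 : act 4 n20071 = n15713 := d34_1 D20071 (iv D15713) (iv F71814)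
theorem F90921 : act 7 n20071 = n15706 := d43_1 D20071 (iv D15706) (iv F71815)
def n20072 : Q := act 6 n15707
theorem D20072 : act 6 n15707 = n20072 := rfl
theorem F90922 : act 2 n20072 = n20072 := d20_1 D20072 (iv D20072) F71819
theorem F90923 : act 4 n20072 = n15709 := d31_1 D20072 (iv D15709) (iv F71820)
theorem F90924 : act 7 n20072 = n20072 := d39_2 D15707 D20072 (iv D20072) (iv D15707) F56548
def n20073 : Q := act 8 n15707
theorem D20073 : act 8 n15707 = n20073 := rfl
theorem F90925 : act 2 n20073 = n20073 := d22_1 D20073 (iv D20073) F71819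
theorem F90926 : act 4 n20073 = n15710 := d33_1 D20073 (iv D15710) (iv F71820)
theorem F90927 : act 7 n20073 = n15708 := d42_1 D20073 (iv D15708) D15707
def n20074 : Q := act 5 n15708
theorem D20074 : act 5 n15708 = n20074 := rfl
def n20075 : Q := act 9 n15708
theorem D20075 : act 9 n15708 = n20075 := rfl
theorem F90931 : act 2 n20075 = n20075 := d23_1 D20075 (iv D20075) F71822
theorem F90932 : act 4 n20075 = n15711 := d34_1 D20075 (iv D15711) (iv F71823)
theorem F90933 : act 6 n20075 = n20075 := d41_1 D20075 (iv D20075) F71824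
def n20076 : Q := act 8 n15709
theorem D20076 : act 8 n15709 = n20076 := rfl
theorem F90934 : act 2 n20076 = n20076 := d22_1 D20076 (iv D20076) F71825
theorem F90935 : act 3 n20076 = n15712 := d28_1 D20076 (iv D15712) (iv F71826)
theorem F90936 : act 6 n20076 = n15710 := d40_1 D20076 (iv D15710) D15709
theorem F90937 : act 7 n20076 = n20076 := d42_1 D20076 (iv D20076) F71828
def n20077 : Q := act 9 n15710
theorem D20077 : act 9 n15710 = n20077 := rfl
theorem F90938 : act 2 n20077 = n20077 := d23_1 D20077 (iv D20077) F71829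
theorem F90939 : act 3 n20077 = n15713 := d29_1 D20077 (iv D15713) (iv F71830)
theorem F90940 : act 5 n20077 = n20077 := d38_1 D20077 (iv D20077) F71831
theorem F90941 : act 7 n20077 = n15711 := d43_1 D20077 (iv D15711) (iv F71832)
def n20078 : Q := act 5 n15712
theorem D20078 : act 5 n15712 = n20078 := rfl
theorem F90942 : act 2 n20078 = n15724 := d19_1 D20078 (iv D15724) (iv F71837)
theorem F90943 : act 6 n20078 = n20078 := d35_2 (iv F71838) D20078 (iv D20078) F71838 F56560
theorem F90944 : act 7 n20078 = n20078 := d36_2 F71839 D20078 (iv D20078)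
theorem F90945 : act 8 n20078 = n20078 := d37_2 D15712 D20078 (iv D20078) (iv D15712) F56557
def n20079 : Q := act 9 n15712
theorem D20079 : act 9 n15712 = n20079 := rfl
theorem F90946 : act 2 n20079 = n15725 := d23_1 D20079 (iv D15725) (iv F71837)
theorem F90947 : act 6 n20079 = n15713 := d41_1 D20079 (iv D15713) (iv F71838)
theorem F90948 : act 7 n20079 = n20079 := d43_1 D20079 (iv D20079) F71839
def n20080 : Q := act 5 n15714
theorem D20080 : act 5 n15714 = n20080 := rfl
theorem F90949 : act 0 n20080 = n15715 := d4_1 D20080 (iv D15715) (iv F71843)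
def n20081 : Q := act 7 n15714
theorem D20081 : act 7 n15714 = n20081 := rfl
def n20082 : Q := act 7 n15715
theorem D20082 : act 7 n15715 = n20082 := rfl
theorem F90956 : act 1 n20082 = n15717 := d14_1 D20082 (iv D15717) (iv F71846)
theorem F90957 : act 2 n20082 = n20082 := d21_1 D20082 (iv D20082) F71847
theorem F90958 : act 4 n20082 = n20082 := d32_1 D20082 (iv D20082) F71848
theorem F90959 : act 5 n20082 = n15716 := d36_1 D20082 (iv D15716) D15715
def n20083 : Q := act 8 n15715
theorem D20083 : act 8 n15715 = n20083 := rfl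
theorem F90960 : act 1 n20083 = n15718 := d15_1 D20083 (iv D15718) (iv F71846)
def n20084 : Q := act 6 n15717
theorem D20084 : act 6 n15717 = n20084 := rfl
theorem F90964 : act 2 n20084 = n15719 := d20_1 D20084 (iv D15719) (iv F71853)
theorem F90965 : act 4 n20084 = n20084 := d31_1 D20084 (iv D20084) F71854
theorem F90966 : act 7 n20084 = n20084 := d39_2 D15717 D20084 (iv D20084) (iv D15717) F56573
def n20085 : Q := act 8 n15717
theorem D20085 : act 8 n15717 = n20085 := rfl
theorem F90967 : act 2 n20085 = n15720 := d22_1 D20085 (iv D15720) (iv F71853)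
theorem F90968 : act 4 n20085 = n20085 := d33_1 D20085 (iv D20085) F71854
theorem F90969 : act 7 n20085 = n15718 := d42_1 D20085 (iv D15718) D15717
def n20086 : Q := act 9 n15718
theorem D20086 : act 9 n15718 = n20086 := rfl
theorem F90970 : act 2 n20086 = n15721 := d23_1 D20086 (iv D15721) (iv F71856)
theorem F90971 : act 4 n20086 = n20086 := d34_1 D20086 (iv D20086) F71857
theorem F90972 : act 6 n20086 = n20086 := d41_1 D20086 (iv D20086) F71858
def n20087 : Q := act 8 n15719
theorem D20087 : act 8 n15719 = n20087 := rfl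
theorem F90973 : act 1 n20087 = n20087 := d15_1 D20087 (iv D20087) F71859
theorem F90974 : act 3 n20087 = n15722 := d28_1 D20087 (iv D15722) (iv F71860)
theorem F90975 : act 4 n20087 = n20087 := d33_1 D20087 (iv D20087) F71861
theorem F90976 : act 6 n20087 = n15720 := d40_1 D20087 (iv D15720) D15719
theorem F90977 : act 7 n20087 = n20087 := d42_1 D20087 (iv D20087) F71862
def n20088 : Q := act 9 n15720
theorem D20088 : act 9 n15720 = n20088 := rfl
theorem F90978 : act 1 n20088 = n20088 := d16_1 D20088 (iv D20088) F71863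
theorem F90979 : act 3 n20088 = n15723 := d29_1 D20088 (iv D15723) (iv F71864)
theorem F90980 : act 4 n20088 = n20088 := d34_1 D20088 (iv D20088) F71865
theorem F90981 : act 7 n20088 = n15721 := d43_1 D20088 (iv D15721) (iv F71866)
def n20089 : Q := act 5 n15722
theorem D20089 : act 5 n15722 = n20089 := rfl
theorem F90982 : act 1 n20089 = n20089 := d12_1 D20089 (iv D20089) F71871
theorem F90983 : act 7 n20089 = n20089 := d36_2 F71874 D20089 (iv D20089)
def n20090 : Q := act 9 n15722
theorem D20090 : act 9 n15722 = n20090 := rfl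
theorem F90984 : act 1 n20090 = n20090 := d16_1 D20090 (iv D20090) F71871
theorem F90985 : act 4 n20090 = n15725 := d34_1 D20090 (iv D15725) (iv F71872)
theorem F90986 : act 6 n20090 = n15723 := d41_1 D20090 (iv D15723) (iv F71873)
theorem F90987 : act 7 n20090 = n20090 := d43_1 D20090 (iv D20090) F71874
def n20091 : Q := act 4 n15724
theorem D20091 : act 4 n15724 = n20091 := rfl
theorem F90988 : act 1 n20091 = n20091 := d11_1 D20091 (iv D20091) F71878
theorem F90989 : act 6 n20091 = n20091 := d31_2 F71880 D20091 (iv D20091)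
theorem F90990 : act 7 n20091 = n20091 := d32_2 F71881 D20091 (iv D20091)
theorem F90991 : act 8 n20091 = n20091 := d33_2 F71882 D20091 (iv D20091)
def n20092 : Q := act 9 n15724
theorem D20092 : act 9 n15724 = n20092 := rfl
theorem F90992 : act 1 n20092 = n20092 := d16_1 D20092 (iv D20092) F71878
theorem F90993 : act 3 n20092 = n20092 := d29_1 D20092 (iv D20092) F71879
theorem F90994 : act 5 n20092 = n15725 := d38_1 D20092 (iv D15725) D15724
theorem F90995 : act 6 n20092 = n20092 := d41_1 D20092 (iv D20092) F71880
theorem F90996 : act 7 n20092 = n20092 := d43_1 D20092 (iv D20092) F71881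
def n20093 : Q := act 3 n15727
theorem D20093 : act 3 n15727 = n20093 := rfl
theorem F90997 : act 0 n20093 = n15742 := d2_1 D20093 (iv D15742) (iv F71891)
theorem F90998 : act 8 n20093 = n15729 := d28_2 (iv F71893) D20093 (iv D15729)
def n20094 : Q := act 6 n15727
theorem D20094 : act 6 n15727 = n20094 := rfl
theorem F90999 : act 0 n20094 = n15743 := d5_1 D20094 (iv D15743) (iv F71891)
theorem F91000 : act 2 n20094 = n16741 := d20_1 D20094 (iv D16741) (iv F71892)
theorem F91001 : act 4 n20094 = n15728 := d31_1 D20094 (iv D15728) D15727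
theorem F91002 : act 8 n20094 = n15730 := d40_2 (iv F71893) D20094 (iv D15730)
def n20095 : Q := act 7 n15728
theorem D20095 : act 7 n15728 = n20095 := rfl
theorem F91003 : act 0 n20095 = n15744 := d6_1 D20095 (iv D15744) (iv F71894)
theorem F91004 : act 2 n20095 = n16742 := d21_1 D20095 (iv D16742) (iv F71895)
theorem F91005 : act 5 n20095 = n15883 := d36_1 D20095 (iv D15883) (iv F71896)
theorem F91006 : act 8 n20095 = n15731 := d42_2 (iv F71897) D20095 (iv D15731)
def n20096 : Q := act 2 n15729
theorem D20096 : act 2 n15729 = n20096 := rfl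
theorem F91007 : act 0 n20096 = n15748 := d1_1 D20096 (iv D15748) (iv F71898)
theorem F91008 : act 3 n20096 = n16746 := d17_2 D15729 D20096 (iv D16746) (iv D13006) (iv F56613)
theorem F91009 : act 5 n20096 = n20096 := d19_2 F71899 D20096 (iv D20096)
theorem F91010 : act 9 n20096 = n20096 := d23_2 F71900 D20096 (iv D20096)
def n20097 : Q := act 6 n15729
theorem D20097 : act 6 n15729 = n20097 := rfl
theorem F91011 : act 0 n20097 = n15749 := d5_1 D20097 (iv D15749) (iv F71898)
theorem F91012 : act 3 n20097 = n15730 := d26_1 D20097 (iv D15730) D15729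
theorem F91013 : act 9 n20097 = n20097 := d41_2 F71900 D20097 (iv D20097)
def n20098 : Q := act 5 n15730
theorem D20098 : act 5 n15730 = n20098 := rfl
theorem F91014 : act 0 n20098 = n15750 := d4_1 D20098 (iv D15750) (iv F71901)
theorem F91015 : act 2 n20098 = n16748 := d19_1 D20098 (iv D16748) (iv F71902)
theorem F91016 : act 4 n20098 = n15734 := d30_1 D20098 (iv D15734) F56627 (iv F56618) (iv F71903)
theorem F91017 : act 6 n20098 = n20098 := d35_2 D15730 D20098 (iv D20098) (iv D15730) F56614
theorem F91018 : act 9 n20098 = n20098 := d38_2 F71904 D20098 (iv D20098)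
def n20099 : Q := act 7 n15730
theorem D20099 : act 7 n15730 = n20099 := rfl
theorem F91019 : act 0 n20099 = n15751 := d6_1 D20099 (iv D15751) (iv F71901)
theorem F91020 : act 2 n20099 = n16749 := d21_1 D20099 (iv D16749) (iv F71902)
theorem F91021 : act 4 n20099 = n15731 := d32_1 D20099 (iv D15731) (iv F71903)
theorem F91022 : act 9 n20099 = n20099 := d43_2 F71904 D20099 (iv D20099)
def n20101 : Q := act 6 n15732
theorem D20101 : act 6 n15732 = n20101 := rfl
theorem F91030 : act 2 n20101 = n15733 := d20_1 D20101 (iv D15733) D15732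
theorem F91032 : act 8 n20101 = n15892 := d40_2 (iv F71913) D20101 (iv D15892)
def n20102 : Q := act 5 n15733
theorem D20102 : act 5 n15733 = n20102 := rfl
theorem F91034 : act 0 n20102 = n15753 := d4_1 D20102 (iv D15753) (iv F71915)
theorem F91035 : act 3 n20102 = n15734 := d25_1 D20102 (iv D15734) (iv F71916)
theorem F91036 : act 6 n20102 = n20102 := d35_2 D15733 D20102 (iv D20102) (iv D15733) F56621
theorem F91037 : act 9 n20102 = n20102 := d38_2 F71918 D20102 (iv D20102)
def n20103 : Q := act 7 n15733
theorem D20103 : act 7 n15733 = n20103 := rfl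
theorem F91038 : act 0 n20103 = n15754 := d6_1 D20103 (iv D15754) (iv F71915)
theorem F91039 : act 3 n20103 = n15735 := d27_1 D20103 (iv D15735) (iv F71916)
theorem F91040 : act 6 n20103 = n20103 := d39_1 D20103 (iv D20103) (iv D15733) F56622 D15733
theorem F91041 : act 8 n20103 = n15894 := d42_2 (iv F71917) D20103 (iv D15894)
theorem F91042 : act 9 n20103 = n20103 := d43_2 F71918 D20103 (iv D20103)
def n20104 : Q := act 7 n15734
theorem D20104 : act 7 n15734 = n20104 := rfl
theorem F91043 : act 0 n20104 = n15755 := d6_1 D20104 (iv D15755) (iv F71919)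
theorem F91044 : act 2 n20104 = n16754 := d21_1 D20104 (iv D16754) (iv F71920)
theorem F91045 : act 5 n20104 = n15735 := d36_1 D20104 (iv D15735) D15734
theorem F91046 : act 9 n20104 = n20104 := d43_2 F71922 D20104 (iv D20104)
def n20105 : Q := act 8 n15734
theorem D20105 : act 8 n15734 = n20105 := rfl
theorem F91047 : act 0 n20105 = n15756 := d7_1 D20105 (iv D15756) (iv F71919)
theorem F91049 : act 5 n20105 = n15896 := d37_1 D20105 (iv D15896) (iv D12361) (iv F56628) D15734
def n20106 : Q := act 3 n15736
theorem D20106 : act 3 n15736 = n20106 := rfl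
theorem F91051 : act 1 n20106 = n15759 := d10_1 D20106 (iv D15759) (iv F71929)
theorem F91052 : act 5 n20106 = n15742 := d25_2 (iv F71931) D20106 (iv D15742)
theorem F91053 : act 7 n20106 = n15767 := d27_2 (iv F71932) D20106 (iv D15767)
theorem F91054 : act 8 n20106 = n20106 := d28_2 F71933 D20106 (iv D20106)
theorem F91055 : act 9 n20106 = n15764 := d29_2 (iv F71934) D20106 (iv D15764)
def n20107 : Q := act 6 n15736
theorem D20107 : act 6 n15736 = n20107 := rfl
theorem F91056 : act 1 n20107 = n15760 := d13_1 D20107 (iv D15760) (iv F71929)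
theorem F91057 : act 2 n20107 = n15804 := d20_1 D20107 (iv D15804) (iv F71930)
theorem F91058 : act 4 n20107 = n15737 := d31_1 D20107 (iv D15737) D15736
theorem F91059 : act 8 n20107 = n20107 := d40_2 F71933 D20107 (iv D20107)
theorem F91060 : act 9 n20107 = n15765 := d41_2 (iv F71934) D20107 (iv D15765)
def n20108 : Q := act 7 n15737
theorem D20108 : act 7 n15737 = n20108 := rfl
theorem F91061 : act 1 n20108 = n15761 := d14_1 D20108 (iv D15761) (iv F71935)
theorem F91062 : act 2 n20108 = n15805 := d21_1 D20108 (iv D15805) (iv F71936)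
theorem F91063 : act 5 n20108 = n15899 := d36_1 D20108 (iv D15899) (iv F71937)
theorem F91064 : act 6 n20108 = n15769 := d39_1 D20108 (iv D15769) (iv D12268) (iv F56637) D15737
theorem F91065 : act 8 n20108 = n20108 := d42_2 F71938 D20108 (iv D20108)
theorem F91066 : act 9 n20108 = n15766 := d43_2 (iv F71939) D20108 (iv D15766)
def n20109 : Q := act 3 n15738
theorem D20109 : act 3 n15738 = n20109 := rfl
theorem F91067 : act 1 n20109 = n15764 := d10_1 D20109 (iv D15764) (iv F71940)
theorem F91068 : act 5 n20109 = n15767 := d25_2 (iv F71942) D20109 (iv D15767)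
theorem F91069 : act 7 n20109 = n15742 := d27_2 (iv F71943) D20109 (iv D15742)
theorem F91070 : act 8 n20109 = n15745 := d28_2 (iv F71944) D20109 (iv D15745)
theorem F91071 : act 9 n20109 = n15759 := d29_2 (iv F71945) D20109 (iv D15759)
def n20110 : Q := act 6 n15738
theorem D20110 : act 6 n15738 = n20110 := rfl
theorem F91072 : act 1 n20110 = n15765 := d13_1 D20110 (iv D15765) (iv F71940)
theorem F91073 : act 2 n20110 = n15794 := d20_1 D20110 (iv D15794) (iv F71941)
theorem F91074 : act 4 n20110 = n15739 := d31_1 D20110 (iv D15739) D15738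
theorem F91075 : act 8 n20110 = n15746 := d40_2 (iv F71944) D20110 (iv D15746)
theorem F91076 : act 9 n20110 = n15760 := d41_2 (iv F71945) D20110 (iv D15760)
def n20111 : Q := act 7 n15739
theorem D20111 : act 7 n15739 = n20111 := rfl
theorem F91077 : act 1 n20111 = n15766 := d14_1 D20111 (iv D15766) (iv F71946)
theorem F91078 : act 2 n20111 = n15795 := d21_1 D20111 (iv D15795) (iv F71947)
theorem F91079 : act 5 n20111 = n15938 := d36_1 D20111 (iv D15938) (iv F71948)
theorem F91080 : act 6 n20111 = n15744 := d39_1 D20111 (iv D15744) (iv D12251) (iv F56642) D15739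
theorem F91081 : act 8 n20111 = n15747 := d42_2 (iv F71949) D20111 (iv D15747)
theorem F91082 : act 9 n20111 = n15761 := d43_2 (iv F71950) D20111 (iv D15761)
def n20112 : Q := act 3 n15740
theorem D20112 : act 3 n15740 = n20112 := rfl
theorem F91083 : act 1 n20112 = n15767 := d10_1 D20112 (iv D15767) (iv F71951)
theorem F91084 : act 5 n20112 = n15764 := d25_2 (iv F71953) D20112 (iv D15764)
theorem F91085 : act 7 n20112 = n15759 := d27_2 (iv F71954) D20112 (iv D15759)
theorem F91086 : act 8 n20112 = n20112 := d28_2 F71955 D20112 (iv D20112)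
theorem F91087 : act 9 n20112 = n15742 := d29_2 (iv F71956) D20112 (iv D15742)
def n20113 : Q := act 6 n15740
theorem D20113 : act 6 n15740 = n20113 := rfl
theorem F91088 : act 1 n20113 = n15768 := d13_1 D20113 (iv D15768) (iv F71951)
theorem F91089 : act 2 n20113 = n15791 := d20_1 D20113 (iv D15791) (iv F71952)
theorem F91090 : act 4 n20113 = n15741 := d31_1 D20113 (iv D15741) D15740
theorem F91091 : act 8 n20113 = n20113 := d40_2 F71955 D20113 (iv D20113)
theorem F91092 : act 9 n20113 = n15743 := d41_2 (iv F71956) D20113 (iv D15743)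
def n20114 : Q := act 7 n15741
theorem D20114 : act 7 n15741 = n20114 := rfl
theorem F91093 : act 1 n20114 = n15769 := d14_1 D20114 (iv D15769) (iv F71957)
theorem F91094 : act 2 n20114 = n15792 := d21_1 D20114 (iv D15792) (iv F71958)
theorem F91095 : act 5 n20114 = n15905 := d36_1 D20114 (iv D15905) (iv F71959)
theorem F91096 : act 6 n20114 = n15761 := d39_1 D20114 (iv D15761) (iv D12263) (iv F56647) D15741
theorem F91097 : act 8 n20114 = n20114 := d42_2 F71960 D20114 (iv D20114)
theorem F91098 : act 9 n20114 = n15744 := d43_2 (iv F71961) D20114 (iv D15744)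
def n20115 : Q := act 2 n15742
theorem D20115 : act 2 n15742 = n20115 := rfl
theorem F91099 : act 3 n20115 = n16756 := d17_2 D15742 D20115 (iv D16756) (iv D13013) (iv F56651)
theorem F91100 : act 8 n20115 = n15748 := d22_2 (iv F71963) D20115 (iv D15748)
def n20116 : Q := act 6 n15742
theorem D20116 : act 6 n15742 = n20116 := rfl
theorem F91101 : act 1 n20116 = n15771 := d13_1 D20116 (iv D15771) (iv F71962)
theorem F91102 : act 3 n20116 = n15743 := d26_1 D20116 (iv D15743) D15742
theorem F91103 : act 8 n20116 = n15749 := d40_2 (iv F71963) D20116 (iv D15749)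
def n20117 : Q := act 5 n15743
theorem D20117 : act 5 n15743 = n20117 := rfl
theorem F91104 : act 1 n20117 = n15772 := d12_1 D20117 (iv D15772) (iv F71964)
theorem F91105 : act 2 n20117 = n16758 := d19_1 D20117 (iv D16758) (iv F71965)
theorem F91106 : act 4 n20117 = n15908 := d30_1 D20117 (iv D15908) F57106 (iv F56655) (iv F71966)
def n20118 : Q := act 7 n15743
theorem D20118 : act 7 n15743 = n20118 := rfl
theorem F91107 : act 1 n20118 = n15773 := d14_1 D20118 (iv D15773) (iv F71964)
theorem F91108 : act 2 n20118 = n16759 := d21_1 D20118 (iv D16759) (iv F71965)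
theorem F91109 : act 4 n20118 = n15744 := d32_1 D20118 (iv D15744) (iv F71966)
theorem F91110 : act 8 n20118 = n15751 := d42_2 (iv F71967) D20118 (iv D15751)
def n20119 : Q := act 2 n15745
theorem D20119 : act 2 n15745 = n20119 := rfl
theorem F91111 : act 3 n20119 = n16760 := d17_2 D15745 D20119 (iv D16760) (iv D13016) (iv F56658)
theorem F91112 : act 5 n20119 = n20119 := d19_2 F71973 D20119 (iv D20119)
theorem F91113 : act 7 n20119 = n15748 := d21_2 (iv F71974) D20119 (iv D15748)
theorem F91114 : act 9 n20119 = n20119 := d23_2 F71975 D20119 (iv D20119)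
def n20120 : Q := act 6 n15745
theorem D20120 : act 6 n15745 = n20120 := rfl
theorem F91115 : act 1 n20120 = n15775 := d13_1 D20120 (iv D15775) (iv F71972)
theorem F91116 : act 3 n20120 = n15746 := d26_1 D20120 (iv D15746) D15745
theorem F91117 : act 9 n20120 = n20120 := d41_2 F71975 D20120 (iv D20120)
def n20121 : Q := act 5 n15746
theorem D20121 : act 5 n15746 = n20121 := rfl
theorem F91118 : act 1 n20121 = n15776 := d12_1 D20121 (iv D15776) (iv F71976)
theorem F91119 : act 2 n20121 = n16762 := d19_1 D20121 (iv D16762) (iv F71977)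
theorem F91120 : act 4 n20121 = n20121 := d30_1 D20121 (iv D20121) F71978 F56664 (iv F71978)
theorem F91121 : act 6 n20121 = n20121 := d35_2 D15746 D20121 (iv D20121) (iv D15746) F56659
theorem F91122 : act 9 n20121 = n20121 := d38_2 F71979 D20121 (iv D20121)
def n20122 : Q := act 7 n15746
theorem D20122 : act 7 n15746 = n20122 := rfl
theorem F91123 : act 1 n20122 = n15777 := d14_1 D20122 (iv D15777) (iv F71976)
theorem F91124 : act 2 n20122 = n16763 := d21_1 D20122 (iv D16763) (iv F71977)
theorem F91125 : act 4 n20122 = n15747 := d32_1 D20122 (iv D15747) (iv F71978)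
theorem F91126 : act 6 n20122 = n15751 := d39_1 D20122 (iv D15751) (iv D12255) (iv F56660) D15746
theorem F91127 : act 9 n20122 = n20122 := d43_2 F71979 D20122 (iv D20122)
def n20123 : Q := act 1 n15748
theorem D20123 : act 1 n15748 = n20123 := rfl
theorem F91128 : act 2 n20123 = n15778 := d9_2 D15748 D20123 (iv D15778) (iv D12275) (iv F56666)
theorem F91129 : act 3 n20123 = n16764 := d10_2 (iv F71985) D20123 (iv D16764)
theorem F91130 : act 5 n20123 = n20123 := d12_2 F71986 D20123 (iv D20123)
theorem F91131 : act 9 n20123 = n20123 := d16_2 F71987 D20123 (iv D20123)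
def n20124 : Q := act 6 n15748
theorem D20124 : act 6 n15748 = n20124 := rfl
theorem F91132 : act 2 n20124 = n15749 := d20_1 D20124 (iv D15749) D15748
theorem F91133 : act 3 n20124 = n16765 := d26_1 D20124 (iv D16765) (iv F71985)
theorem F91134 : act 9 n20124 = n20124 := d41_2 F71987 D20124 (iv D20124)
def n20125 : Q := act 5 n15749
theorem D20125 : act 5 n15749 = n20125 := rfl
theorem F91135 : act 1 n20125 = n15780 := d12_1 D20125 (iv D15780) (iv F71988)
theorem F91136 : act 3 n20125 = n15750 := d25_1 D20125 (iv D15750) (iv F71989)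
theorem F91137 : act 6 n20125 = n20125 := d35_2 D15749 D20125 (iv D20125) (iv D15749) F56667
theorem F91138 : act 9 n20125 = n20125 := d38_2 F71990 D20125 (iv D20125)
def n20126 : Q := act 7 n15749
theorem D20126 : act 7 n15749 = n20126 := rfl
theorem F91139 : act 1 n20126 = n15781 := d14_1 D20126 (iv D15781) (iv F71988)
theorem F91140 : act 3 n20126 = n15751 := d27_1 D20126 (iv D15751) (iv F71989)
theorem F91141 : act 9 n20126 = n20126 := d43_2 F71990 D20126 (iv D20126)
def n20127 : Q := act 7 n15750
theorem D20127 : act 7 n15750 = n20127 := rfl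
theorem F91142 : act 1 n20127 = n15782 := d14_1 D20127 (iv D15782) (iv F71991)
theorem F91143 : act 2 n20127 = n16768 := d21_1 D20127 (iv D16768) (iv F71992)
theorem F91144 : act 4 n20127 = n15755 := d32_1 D20127 (iv D15755) (iv F71993)
theorem F91145 : act 5 n20127 = n15751 := d36_1 D20127 (iv D15751) D15750
theorem F91146 : act 9 n20127 = n20127 := d43_2 F71995 D20127 (iv D20127)
def n20128 : Q := act 8 n15750
theorem D20128 : act 8 n15750 = n20128 := rfl
theorem F91147 : act 1 n20128 = n15783 := d15_1 D20128 (iv D15783) (iv F71991)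
theorem F91148 : act 2 n20128 = n16769 := d22_1 D20128 (iv D16769) (iv F71992)
theorem F91149 : act 4 n20128 = n15756 := d33_1 D20128 (iv D15756) (iv F71993)
theorem F91150 : act 6 n20128 = n20128 := d40_1 D20128 (iv D20128) F71994
def n20129 : Q := act 5 n15752
theorem D20129 : act 5 n15752 = n20129 := rfl
theorem F91152 : act 2 n20129 = n15753 := d19_1 D20129 (iv D15753) (iv F72001)
def n20130 : Q := act 7 n15752
theorem D20130 : act 7 n15752 = n20130 := rfl
theorem F91157 : act 2 n20130 = n15754 := d21_1 D20130 (iv D15754) (iv F72001)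
theorem F91160 : act 8 n20130 = n15921 := d42_2 (iv F72003) D20130 (iv D15921)
def n20131 : Q := act 4 n15753
theorem D20131 : act 4 n15753 = n20131 := rfl
theorem F91162 : act 1 n20131 = n15784 := d11_1 D20131 (iv D15784) (iv F72005)
theorem F91163 : act 6 n20131 = n20131 := d31_2 F72007 D20131 (iv D20131)
theorem F91164 : act 9 n20131 = n20131 := d34_2 F72008 D20131 (iv D20131)
def n20132 : Q := act 7 n15753
theorem D20132 : act 7 n15753 = n20132 := rfl
theorem F91165 : act 1 n20132 = n15785 := d14_1 D20132 (iv D15785) (iv F72005)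
theorem F91166 : act 3 n20132 = n15755 := d27_1 D20132 (iv D15755) (iv F72006)
theorem F91167 : act 5 n20132 = n15754 := d36_1 D20132 (iv D15754) D15753
theorem F91168 : act 9 n20132 = n20132 := d43_2 F72008 D20132 (iv D20132)
def n20133 : Q := act 8 n15753
theorem D20133 : act 8 n15753 = n20133 := rfl
theorem F91169 : act 1 n20133 = n15786 := d15_1 D20133 (iv D15786) (iv F72005)
theorem F91170 : act 3 n20133 = n15756 := d28_1 D20133 (iv D15756) (iv F72006)
theorem F91171 : act 5 n20133 = n15924 := d37_1 D20133 (iv D15924) (iv D12380) (iv F56685) D15753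
def n20134 : Q := act 6 n15755
theorem D20134 : act 6 n15755 = n20134 := rfl
theorem F91173 : act 1 n20134 = n15787 := d13_1 D20134 (iv D15787) (iv F72014)
theorem F91174 : act 2 n20134 = n16775 := d20_1 D20134 (iv D16775) (iv F72015)
theorem F91175 : act 5 n20134 = n20134 := d35_1 D20134 (iv D20134) F72016 F56694 (iv F72016)
theorem F91176 : act 7 n20134 = n20134 := d39_2 D15755 D20134 (iv D20134) (iv D15755) F56689
theorem F91177 : act 9 n20134 = n20134 := d41_2 F72017 D20134 (iv D20134)
def n20135 : Q := act 8 n15755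
theorem D20135 : act 8 n15755 = n20135 := rfl
theorem F91178 : act 1 n20135 = n15788 := d15_1 D20135 (iv D15788) (iv F72014)
theorem F91179 : act 2 n20135 = n16776 := d22_1 D20135 (iv D16776) (iv F72015)
theorem F91180 : act 5 n20135 = n15926 := d37_1 D20135 (iv D15926) F57153 (iv F56695) (iv F72016)
theorem F91181 : act 7 n20135 = n15756 := d42_1 D20135 (iv D15756) D15755
def n20136 : Q := act 9 n15756
theorem D20136 : act 9 n15756 = n20136 := rfl
theorem F91182 : act 1 n20136 = n15789 := d16_1 D20136 (iv D15789) (iv F72018)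
def n20137 : Q := act 3 n15757
theorem D20137 : act 3 n15757 = n20137 := rfl
theorem F91187 : act 4 n20137 = n15759 := d24_2 D15757 D20137 (iv D15759) (iv D12262) (iv F56698)
theorem F91188 : act 8 n20137 = n20137 := d28_2 F72023 D20137 (iv D20137)
def n20138 : Q := act 6 n15757
theorem D20138 : act 6 n15757 = n20138 := rfl
theorem F91189 : act 2 n20138 = n20138 := d20_1 D20138 (iv D20138) F72022
theorem F91190 : act 4 n20138 = n15758 := d31_1 D20138 (iv D15758) D15757
theorem F91191 : act 8 n20138 = n20138 := d40_2 F72023 D20138 (iv D20138)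
def n20139 : Q := act 7 n15758
theorem D20139 : act 7 n15758 = n20139 := rfl
theorem F91192 : act 2 n20139 = n20139 := d21_1 D20139 (iv D20139) F72024
theorem F91193 : act 3 n20139 = n15761 := d27_1 D20139 (iv D15761) (iv F72025)
theorem F91194 : act 5 n20139 = n15932 := d36_1 D20139 (iv D15932) (iv F72026)
theorem F91195 : act 8 n20139 = n20139 := d42_2 F72027 D20139 (iv D20139)
def n20140 : Q := act 2 n15759
theorem D20140 : act 2 n15759 = n20140 := rfl
theorem F91196 : act 3 n20140 = n15796 := d17_2 D15759 D20140 (iv D15796) (iv D12287) (iv F56700)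
theorem F91197 : act 5 n20140 = n15770 := d19_2 (iv F72028) D20140 (iv D15770)
theorem F91198 : act 8 n20140 = n20140 := d22_2 F72029 D20140 (iv D20140)
def n20141 : Q := act 6 n15759
theorem D20141 : act 6 n15759 = n20141 := rfl
theorem F91199 : act 3 n20141 = n15760 := d26_1 D20141 (iv D15760) D15759
theorem F91200 : act 8 n20141 = n20141 := d40_2 F72029 D20141 (iv D20141)
def n20142 : Q := act 5 n15760
theorem D20142 : act 5 n15760 = n20142 := rfl
theorem F91201 : act 2 n20142 = n15798 := d19_1 D20142 (iv D15798) (iv F72030)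
theorem F91202 : act 4 n20142 = n15941 := d30_1 D20142 (iv D15941) F57183 (iv F56704) (iv F72031)
theorem F91203 : act 6 n20142 = n15772 := d35_2 D15760 D20142 (iv D15772) (iv D12270) (iv F56701)
def n20143 : Q := act 7 n15760
theorem D20143 : act 7 n15760 = n20143 := rfl
theorem F91204 : act 2 n20143 = n15799 := d21_1 D20143 (iv D15799) (iv F72030)
theorem F91205 : act 4 n20143 = n15761 := d32_1 D20143 (iv D15761) (iv F72031)
theorem F91206 : act 8 n20143 = n20143 := d42_2 F72032 D20143 (iv D20143)
def n20144 : Q := act 3 n15762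
theorem D20144 : act 3 n15762 = n20144 := rfl
theorem F91207 : act 1 n20144 = n15936 := d10_1 D20144 (iv D15936) (iv F72036)
theorem F91208 : act 5 n20144 = n15903 := d25_2 (iv F72038) D20144 (iv D15903)
theorem F91209 : act 7 n20144 = n15943 := d27_2 (iv F72039) D20144 (iv D15943)
theorem F91210 : act 8 n20144 = n20144 := d28_2 F72040 D20144 (iv D20144)
theorem F91211 : act 9 n20144 = n15897 := d29_2 (iv F72041) D20144 (iv D15897)
def n20145 : Q := act 6 n15762
theorem D20145 : act 6 n15762 = n20145 := rfl
theorem F91212 : act 1 n20145 = n15937 := d13_1 D20145 (iv D15937) (iv F72036)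
theorem F91213 : act 2 n20145 = n15801 := d20_1 D20145 (iv D15801) (iv F72037)
theorem F91214 : act 4 n20145 = n15763 := d31_1 D20145 (iv D15763) D15762
theorem F91215 : act 8 n20145 = n20145 := d40_2 F72040 D20145 (iv D20145)
theorem F91216 : act 9 n20145 = n15898 := d41_2 (iv F72041) D20145 (iv D15898)
def n20146 : Q := act 7 n15763
theorem D20146 : act 7 n15763 = n20146 := rfl
theorem F91217 : act 1 n20146 = n15938 := d14_1 D20146 (iv D15938) (iv F72042)
theorem F91218 : act 2 n20146 = n15802 := d21_1 D20146 (iv D15802) (iv F72043)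
theorem F91219 : act 5 n20146 = n15766 := d36_1 D20146 (iv D15766) (iv F72044)
theorem F91220 : act 6 n20146 = n15945 := d39_1 D20146 (iv D15945) (iv D12395) (iv F56708) D15763
theorem F91221 : act 8 n20146 = n20146 := d42_2 F72045 D20146 (iv D20146)
theorem F91222 : act 9 n20146 = n15899 := d43_2 (iv F72046) D20146 (iv D15899)
def n20147 : Q := act 2 n15764
theorem D20147 : act 2 n15764 = n20147 := rfl
theorem F91223 : act 3 n20147 = n15806 := d17_2 D15764 D20147 (iv D15806) (iv D12294) (iv F56711)
theorem F91224 : act 7 n20147 = n15770 := d21_2 (iv F72047) D20147 (iv D15770)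
theorem F91225 : act 8 n20147 = n15774 := d22_2 (iv F72048) D20147 (iv D15774)
def n20148 : Q := act 6 n15764
theorem D20148 : act 6 n15764 = n20148 := rfl
theorem F91226 : act 3 n20148 = n15765 := d26_1 D20148 (iv D15765) D15764
theorem F91227 : act 8 n20148 = n15775 := d40_2 (iv F72048) D20148 (iv D15775)
def n20149 : Q := act 5 n15765
theorem D20149 : act 5 n15765 = n20149 := rfl
theorem F91228 : act 2 n20149 = n15808 := d19_1 D20149 (iv D15808) (iv F72049)
def n20150 : Q := act 7 n15765
theorem D20150 : act 7 n15765 = n20150 := rfl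
theorem F91229 : act 2 n20150 = n15809 := d21_1 D20150 (iv D15809) (iv F72049)
theorem F91230 : act 4 n20150 = n15766 := d32_1 D20150 (iv D15766) (iv F72050)
theorem F91231 : act 6 n20150 = n15773 := d39_1 D20150 (iv D15773) (iv D12270) (iv F56712) D15765
theorem F91232 : act 8 n20150 = n15777 := d42_2 (iv F72051) D20150 (iv D15777)
def n20151 : Q := act 2 n15767
theorem D20151 : act 2 n15767 = n20151 := rfl
theorem F91233 : act 3 n20151 = n15810 := d17_2 D15767 D20151 (iv D15810) (iv D12297) (iv F56716)
theorem F91234 : act 8 n20151 = n20151 := d22_2 F72055 D20151 (iv D20151)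
theorem F91235 : act 9 n20151 = n15770 := d23_2 (iv F72056) D20151 (iv D15770)
def n20152 : Q := act 6 n15767
theorem D20152 : act 6 n15767 = n20152 := rfl
theorem F91236 : act 3 n20152 = n15768 := d26_1 D20152 (iv D15768) D15767
theorem F91237 : act 8 n20152 = n20152 := d40_2 F72055 D20152 (iv D20152)
theorem F91238 : act 9 n20152 = n15771 := d41_2 (iv F72056) D20152 (iv D15771)
def n20153 : Q := act 5 n15768
theorem D20153 : act 5 n15768 = n20153 := rfl
theorem F91239 : act 2 n20153 = n15812 := d19_1 D20153 (iv D15812) (iv F72057)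
theorem F91240 : act 4 n20153 = n15952 := d30_1 D20153 (iv D15952) F57203 (iv F56720) (iv F72058)
theorem F91241 : act 9 n20153 = n15772 := d38_2 (iv F72060) D20153 (iv D15772)
def n20154 : Q := act 7 n15768
theorem D20154 : act 7 n15768 = n20154 := rfl
theorem F91242 : act 2 n20154 = n15813 := d21_1 D20154 (iv D15813) (iv F72057)
theorem F91243 : act 4 n20154 = n15769 := d32_1 D20154 (iv D15769) (iv F72058)
theorem F91244 : act 8 n20154 = n20154 := d42_2 F72059 D20154 (iv D20154)
theorem F91245 : act 9 n20154 = n15773 := d43_2 (iv F72060) D20154 (iv D15773)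
def n20155 : Q := act 1 n15770
theorem D20155 : act 1 n15770 = n20155 := rfl
theorem F91246 : act 3 n20155 = n15814 := d10_2 (iv F72065) D20155 (iv D15814)
theorem F91247 : act 8 n20155 = n15778 := d15_2 (iv F72066) D20155 (iv D15778)
def n20156 : Q := act 6 n15770
theorem D20156 : act 6 n15770 = n20156 := rfl
theorem F91248 : act 2 n20156 = n15771 := d20_1 D20156 (iv D15771) D15770
theorem F91249 : act 3 n20156 = n15815 := d26_1 D20156 (iv D15815) (iv F72065)
theorem F91250 : act 8 n20156 = n15779 := d40_2 (iv F72066) D20156 (iv D15779)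
def n20157 : Q := act 5 n15771
theorem D20157 : act 5 n15771 = n20157 := rfl
theorem F91251 : act 3 n20157 = n15772 := d25_1 D20157 (iv D15772) (iv F72067)
def n20158 : Q := act 7 n15771
theorem D20158 : act 7 n15771 = n20158 := rfl
theorem F91252 : act 3 n20158 = n15773 := d27_1 D20158 (iv D15773) (iv F72067)
theorem F91253 : act 8 n20158 = n15781 := d42_2 (iv F72068) D20158 (iv D15781)
def n20159 : Q := act 7 n15772
theorem D20159 : act 7 n15772 = n20159 := rfl
theorem F91254 : act 2 n20159 = n15818 := d21_1 D20159 (iv D15818) (iv F72069)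
theorem F91255 : act 4 n20159 = n15958 := d32_1 D20159 (iv D15958) (iv F72070)
theorem F91256 : act 5 n20159 = n15773 := d36_1 D20159 (iv D15773) D15772
def n20160 : Q := act 8 n15772
theorem D20160 : act 8 n15772 = n20160 := rfl
theorem F91257 : act 2 n20160 = n15819 := d22_1 D20160 (iv D15819) (iv F72069)
theorem F91258 : act 4 n20160 = n15959 := d33_1 D20160 (iv D15959) (iv F72070)
theorem F91259 : act 5 n20160 = n15783 := d37_1 D20160 (iv D15783) (iv D12277) (iv F56726) D15772
def n20161 : Q := act 1 n15774
theorem D20161 : act 1 n15774 = n20161 := rfl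
theorem F91260 : act 3 n20161 = n15820 := d10_2 (iv F72074) D20161 (iv D15820)
theorem F91261 : act 5 n20161 = n20161 := d12_2 F72075 D20161 (iv D20161)
theorem F91262 : act 7 n20161 = n15778 := d14_2 (iv F72076) D20161 (iv D15778)
theorem F91263 : act 9 n20161 = n20161 := d16_2 F72077 D20161 (iv D20161)
def n20162 : Q := act 6 n15774
theorem D20162 : act 6 n15774 = n20162 := rfl
theorem F91264 : act 2 n20162 = n15775 := d20_1 D20162 (iv D15775) D15774
theorem F91265 : act 3 n20162 = n15821 := d26_1 D20162 (iv D15821) (iv F72074)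
theorem F91266 : act 9 n20162 = n20162 := d41_2 F72077 D20162 (iv D20162)
def n20163 : Q := act 5 n15775
theorem D20163 : act 5 n15775 = n20163 := rfl
theorem F91267 : act 3 n20163 = n15776 := d25_1 D20163 (iv D15776) (iv F72078)
theorem F91268 : act 6 n20163 = n20163 := d35_2 D15775 D20163 (iv D20163) (iv D15775) F56730
theorem F91269 : act 9 n20163 = n20163 := d38_2 F72079 D20163 (iv D20163)
def n20164 : Q := act 7 n15775
theorem D20164 : act 7 n15775 = n20164 := rfl
theorem F91270 : act 3 n20164 = n15777 := d27_1 D20164 (iv D15777) (iv F72078)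
theorem F91271 : act 6 n20164 = n15781 := d39_1 D20164 (iv D15781) (iv D12276) (iv F56731) D15775
theorem F91272 : act 9 n20164 = n20164 := d43_2 F72079 D20164 (iv D20164)
def n20165 : Q := act 7 n15776
theorem D20165 : act 7 n15776 = n20165 := rfl
theorem F91273 : act 2 n20165 = n15824 := d21_1 D20165 (iv D15824) (iv F72080)
theorem F91274 : act 4 n20165 = n20165 := d32_1 D20165 (iv D20165) F72081
theorem F91275 : act 5 n20165 = n15777 := d36_1 D20165 (iv D15777) D15776
theorem F91276 : act 9 n20165 = n20165 := d43_2 F72083 D20165 (iv D20165)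
def n20166 : Q := act 8 n15776
theorem D20166 : act 8 n15776 = n20166 := rfl
theorem F91277 : act 2 n20166 = n15825 := d22_1 D20166 (iv D15825) (iv F72080)
theorem F91278 : act 4 n20166 = n20166 := d33_1 D20166 (iv D20166) F72081
theorem F91279 : act 6 n20166 = n20166 := d40_1 D20166 (iv D20166) F72082
def n20167 : Q := act 0 n15778
theorem D20167 : act 0 n15778 = n20167 := rfl
theorem F91280 : act 3 n20167 = n15826 := d2_2 (iv F72088) D20167 (iv D15826)
theorem F91281 : act 5 n20167 = n20167 := d4_2 F72089 D20167 (iv D20167)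
theorem F91282 : act 9 n20167 = n20167 := d8_2 F72090 D20167 (iv D20167)
def n20168 : Q := act 6 n15778
theorem D20168 : act 6 n15778 = n20168 := rfl
theorem F91283 : act 1 n20168 = n15779 := d13_1 D20168 (iv D15779) D15778
theorem F91284 : act 3 n20168 = n15827 := d26_1 D20168 (iv D15827) (iv F72088)
theorem F91285 : act 9 n20168 = n20168 := d41_2 F72090 D20168 (iv D20168)
def n20169 : Q := act 5 n15779
theorem D20169 : act 5 n15779 = n20169 := rfl
theorem F91286 : act 2 n20169 = n15780 := d19_1 D20169 (iv D15780) (iv F72091)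
theorem F91287 : act 3 n20169 = n15828 := d25_1 D20169 (iv D15828) (iv F72092)
theorem F91288 : act 6 n20169 = n20169 := d35_2 D15779 D20169 (iv D20169) (iv D15779) F56741
theorem F91289 : act 9 n20169 = n20169 := d38_2 F72093 D20169 (iv D20169)
def n20170 : Q := act 7 n15779
theorem D20170 : act 7 n15779 = n20170 := rfl
theorem F91290 : act 2 n20170 = n15781 := d21_1 D20170 (iv D15781) (iv F72091)
theorem F91291 : act 3 n20170 = n15829 := d27_1 D20170 (iv D15829) (iv F72092)
theorem F91292 : act 9 n20170 = n20170 := d43_2 F72093 D20170 (iv D20170)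
def n20171 : Q := act 4 n15780
theorem D20171 : act 4 n15780 = n20171 := rfl
theorem F91293 : act 3 n20171 = n15784 := d24_1 D20171 (iv D15784) F56753 (iv F56746) (iv F72094)
theorem F91294 : act 6 n20171 = n20171 := d31_2 F72095 D20171 (iv D20171)
theorem F91295 : act 9 n20171 = n20171 := d34_2 F72096 D20171 (iv D20171)
def n20172 : Q := act 7 n15780
theorem D20172 : act 7 n15780 = n20172 := rfl
theorem F91296 : act 3 n20172 = n15782 := d27_1 D20172 (iv D15782) (iv F72094)
theorem F91297 : act 5 n20172 = n15781 := d36_1 D20172 (iv D15781) D15780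
theorem F91298 : act 9 n20172 = n20172 := d43_2 F72096 D20172 (iv D20172)
def n20173 : Q := act 8 n15780
theorem D20173 : act 8 n15780 = n20173 := rfl
theorem F91299 : act 3 n20173 = n15783 := d28_1 D20173 (iv D15783) (iv F72094)
theorem F91300 : act 6 n20173 = n20173 := d40_1 D20173 (iv D20173) F72095
def n20174 : Q := act 6 n15782
theorem D20174 : act 6 n15782 = n20174 := rfl
theorem F91301 : act 2 n20174 = n15832 := d20_1 D20174 (iv D15832) (iv F72099)
theorem F91302 : act 4 n20174 = n15787 := d31_1 D20174 (iv D15787) (iv F72100)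
theorem F91303 : act 7 n20174 = n20174 := d39_2 D15782 D20174 (iv D20174) (iv D15782) F56747
theorem F91304 : act 9 n20174 = n20174 := d41_2 F72102 D20174 (iv D20174)
def n20175 : Q := act 8 n15782
theorem D20175 : act 8 n15782 = n20175 := rfl
theorem F91305 : act 2 n20175 = n15833 := d22_1 D20175 (iv D15833) (iv F72099)
theorem F91306 : act 4 n20175 = n15788 := d33_1 D20175 (iv D15788) (iv F72100)
theorem F91307 : act 7 n20175 = n15783 := d42_1 D20175 (iv D15783) D15782
def n20176 : Q := act 9 n15783
theorem D20176 : act 9 n15783 = n20176 := rfl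
theorem F91308 : act 2 n20176 = n15834 := d23_1 D20176 (iv D15834) (iv F72103)
theorem F91309 : act 4 n20176 = n15789 := d34_1 D20176 (iv D15789) (iv F72104)
theorem F91310 : act 6 n20176 = n20176 := d41_1 D20176 (iv D20176) F72105
theorem F91311 : act 8 n20176 = n20176 := d44_1 D20176 (iv D20176) (iv D15783) F56748 D15783
def n20177 : Q := act 7 n15784
theorem D20177 : act 7 n15784 = n20177 := rfl
theorem F91312 : act 2 n20177 = n20177 := d21_1 D20177 (iv D20177) F72106
theorem F91313 : act 4 n20177 = n15785 := d32_1 D20177 (iv D15785) D15784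
theorem F91314 : act 9 n20177 = n20177 := d43_2 F72108 D20177 (iv D20177)
def n20178 : Q := act 8 n15784
theorem D20178 : act 8 n15784 = n20178 := rfl
theorem F91315 : act 2 n20178 = n20178 := d22_1 D20178 (iv D20178) F72106
theorem F91316 : act 4 n20178 = n15786 := d33_1 D20178 (iv D15786) D15784
theorem F91317 : act 6 n20178 = n20178 := d40_1 D20178 (iv D20178) F72107
def n20179 : Q := act 6 n15785
theorem D20179 : act 6 n15785 = n20179 := rfl
theorem F91318 : act 2 n20179 = n20179 := d20_1 D20179 (iv D20179) F72109
theorem F91319 : act 3 n20179 = n15787 := d26_1 D20179 (iv D15787) (iv F72110)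
theorem F91320 : act 5 n20179 = n20179 := d35_1 D20179 (iv D20179) F72111 F56758 (iv F72111)
theorem F91321 : act 7 n20179 = n20179 := d39_2 D15785 D20179 (iv D20179) (iv D15785) F56754
theorem F91322 : act 9 n20179 = n20179 := d41_2 F72112 D20179 (iv D20179)
def n20180 : Q := act 8 n15785
theorem D20180 : act 8 n15785 = n20180 := rfl
theorem F91323 : act 2 n20180 = n20180 := d22_1 D20180 (iv D20180) F72109
theorem F91324 : act 3 n20180 = n15788 := d28_1 D20180 (iv D15788) (iv F72110)
theorem F91325 : act 5 n20180 = n15979 := d37_1 D20180 (iv D15979) F57254 (iv F56759) (iv F72111)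
theorem F91326 : act 7 n20180 = n15786 := d42_1 D20180 (iv D15786) D15785
def n20181 : Q := act 9 n15786
theorem D20181 : act 9 n15786 = n20181 := rfl
theorem F91328 : act 3 n20181 = n15789 := d29_1 D20181 (iv D15789) (iv F72114)
def n20182 : Q := act 8 n15787
theorem D20182 : act 8 n15787 = n20182 := rfl
theorem F91332 : act 2 n20182 = n15835 := d22_1 D20182 (iv D15835) (iv F72117)
theorem F91333 : act 6 n20182 = n15788 := d40_1 D20182 (iv D15788) D15787
theorem F91334 : act 7 n20182 = n20182 := d42_1 D20182 (iv D20182) F72119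
def n20183 : Q := act 9 n15788
theorem D20183 : act 9 n15788 = n20183 := rfl
theorem F91335 : act 2 n20183 = n15836 := d23_1 D20183 (iv D15836) (iv F72121)
theorem F91336 : act 5 n20183 = n15982 := d38_1 D20183 (iv D15982) (iv F72122)
theorem F91337 : act 7 n20183 = n15789 := d43_1 D20183 (iv D15789) (iv F72123)
theorem F91338 : act 8 n20183 = n20183 := d44_1 D20183 (iv D20183) (iv D15788) F56763 D15788
def n20184 : Q := act 2 n15790
theorem D20184 : act 2 n15790 = n20184 := rfl
theorem F91339 : act 4 n20184 = n20184 := d18_2 F72129 D20184 (iv D20184)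
theorem F91340 : act 5 n20184 = n15806 := d19_2 (iv F72130) D20184 (iv D15806)
theorem F91341 : act 7 n20184 = n15796 := d21_2 (iv F72131) D20184 (iv D15796)
theorem F91342 : act 8 n20184 = n20184 := d22_2 F72132 D20184 (iv D20184)
theorem F91343 : act 9 n20184 = n16756 := d23_2 (iv F72133) D20184 (iv D16756)
def n20185 : Q := act 6 n15790
theorem D20185 : act 6 n15790 = n20185 := rfl
theorem F91344 : act 1 n20185 = n16787 := d13_1 D20185 (iv D16787) (iv F72128)
theorem F91345 : act 3 n20185 = n15791 := d26_1 D20185 (iv D15791) D15790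
theorem F91346 : act 4 n20185 = n20185 := d31_1 D20185 (iv D20185) F72129
theorem F91347 : act 8 n20185 = n20185 := d40_2 F72132 D20185 (iv D20185)
theorem F91348 : act 9 n20185 = n16757 := d41_2 (iv F72133) D20185 (iv D16757)
def n20186 : Q := act 5 n15791
theorem D20186 : act 5 n15791 = n20186 := rfl
theorem F91349 : act 1 n20186 = n16788 := d12_1 D20186 (iv D16788) (iv F72134)
theorem F91350 : act 4 n20186 = n16958 := d30_1 D20186 (iv D16958) F60150 (iv F56774) (iv F72135)
theorem F91351 : act 6 n20186 = n15808 := d35_2 D15791 D20186 (iv D15808) (iv D12295) (iv F56768)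
theorem F91352 : act 9 n20186 = n16758 := d38_2 (iv F72137) D20186 (iv D16758)
def n20187 : Q := act 7 n15791
theorem D20187 : act 7 n15791 = n20187 := rfl
theorem F91353 : act 1 n20187 = n16789 := d14_1 D20187 (iv D16789) (iv F72134)
theorem F91354 : act 4 n20187 = n15792 := d32_1 D20187 (iv D15792) (iv F72135)
theorem F91355 : act 6 n20187 = n15799 := d39_1 D20187 (iv D15799) (iv D12288) (iv F56769) D15791
theorem F91356 : act 8 n20187 = n20187 := d42_2 F72136 D20187 (iv D20187)
theorem F91357 : act 9 n20187 = n16759 := d43_2 (iv F72137) D20187 (iv D16759)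
def n20188 : Q := act 2 n15793
theorem D20188 : act 2 n15793 = n20188 := rfl
theorem F91358 : act 4 n20188 = n20188 := d18_2 F72145 D20188 (iv D20188)
theorem F91359 : act 5 n20188 = n15810 := d19_2 (iv F72146) D20188 (iv D15810)
theorem F91360 : act 7 n20188 = n16756 := d21_2 (iv F72147) D20188 (iv D16756)
theorem F91361 : act 8 n20188 = n16760 := d22_2 (iv F72148) D20188 (iv D16760)
theorem F91362 : act 9 n20188 = n15796 := d23_2 (iv F72149) D20188 (iv D15796)
def n20189 : Q := act 6 n15793
theorem D20189 : act 6 n15793 = n20189 := rfl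
theorem F91363 : act 1 n20189 = n16783 := d13_1 D20189 (iv D16783) (iv F72144)
theorem F91364 : act 3 n20189 = n15794 := d26_1 D20189 (iv D15794) D15793
theorem F91365 : act 4 n20189 = n20189 := d31_1 D20189 (iv D20189) F72145
theorem F91366 : act 8 n20189 = n16761 := d40_2 (iv F72148) D20189 (iv D16761)
theorem F91367 : act 9 n20189 = n15797 := d41_2 (iv F72149) D20189 (iv D15797)
def n20190 : Q := act 5 n15794
theorem D20190 : act 5 n15794 = n20190 := rfl
theorem F91368 : act 1 n20190 = n16784 := d12_1 D20190 (iv D16784) (iv F72150)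
theorem F91369 : act 4 n20190 = n15992 := d30_1 D20190 (iv D15992) F57296 (iv F56784) (iv F72151)
theorem F91370 : act 6 n20190 = n15812 := d35_2 D15794 D20190 (iv D15812) (iv D12298) (iv F56778)
theorem F91371 : act 9 n20190 = n15798 := d38_2 (iv F72153) D20190 (iv D15798)
def n20191 : Q := act 7 n15794
theorem D20191 : act 7 n15794 = n20191 := rfl
theorem F91372 : act 1 n20191 = n16785 := d14_1 D20191 (iv D16785) (iv F72150)
theorem F91373 : act 4 n20191 = n15795 := d32_1 D20191 (iv D15795) (iv F72151)
theorem F91374 : act 6 n20191 = n16759 := d39_1 D20191 (iv D16759) (iv D13014) (iv F56779) D15794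
theorem F91375 : act 8 n20191 = n16763 := d42_2 (iv F72152) D20191 (iv D16763)
theorem F91376 : act 9 n20191 = n15799 := d43_2 (iv F72153) D20191 (iv D15799)
def n20192 : Q := act 1 n15796
theorem D20192 : act 1 n15796 = n20192 := rfl
theorem F91377 : act 2 n20192 = n16819 := d9_2 D15796 D20192 (iv D16819) (iv D13057) (iv F56787)
theorem F91378 : act 4 n20192 = n20192 := d11_2 F72160 D20192 (iv D20192)
theorem F91379 : act 5 n20192 = n15814 := d12_2 (iv F72161) D20192 (iv D15814)
theorem F91380 : act 8 n20192 = n20192 := d15_2 F72162 D20192 (iv D20192)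
def n20193 : Q := act 6 n15796
theorem D20193 : act 6 n15796 = n20193 := rfl
theorem F91381 : act 2 n20193 = n15797 := d20_1 D20193 (iv D15797) D15796
theorem F91382 : act 4 n20193 = n20193 := d31_1 D20193 (iv D20193) F72160
theorem F91383 : act 8 n20193 = n20193 := d40_2 F72162 D20193 (iv D20193)
def n20194 : Q := act 5 n15797
theorem D20194 : act 5 n15797 = n20194 := rfl
theorem F91384 : act 1 n20194 = n16821 := d12_1 D20194 (iv D16821) (iv F72163)
theorem F91385 : act 3 n20194 = n15798 := d25_1 D20194 (iv D15798) (iv F72164)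
theorem F91386 : act 6 n20194 = n15816 := d35_2 D15797 D20194 (iv D15816) (iv D12301) (iv F56789)
def n20195 : Q := act 7 n15797
theorem D20195 : act 7 n15797 = n20195 := rfl
theorem F91387 : act 1 n20195 = n16822 := d14_1 D20195 (iv D16822) (iv F72163)
theorem F91388 : act 3 n20195 = n15799 := d27_1 D20195 (iv D15799) (iv F72164)
theorem F91389 : act 4 n20195 = n20195 := d32_1 D20195 (iv D20195) F72165
theorem F91390 : act 8 n20195 = n20195 := d42_2 F72166 D20195 (iv D20195)
def n20196 : Q := act 7 n15798
theorem D20196 : act 7 n15798 = n20196 := rfl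
theorem F91391 : act 1 n20196 = n16823 := d14_1 D20196 (iv D16823) (iv F72167)
theorem F91392 : act 4 n20196 = n15998 := d32_1 D20196 (iv D15998) (iv F72168)
theorem F91393 : act 5 n20196 = n15799 := d36_1 D20196 (iv D15799) D15798
def n20197 : Q := act 8 n15798
theorem D20197 : act 8 n15798 = n20197 := rfl
theorem F91394 : act 1 n20197 = n16824 := d15_1 D20197 (iv D16824) (iv F72167)
theorem F91395 : act 4 n20197 = n15999 := d33_1 D20197 (iv D15999) (iv F72168)
theorem F91396 : act 5 n20197 = n20197 := d37_1 D20197 (iv D20197) (iv D15798) F56793 D15798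
theorem F91397 : act 6 n20197 = n15819 := d40_1 D20197 (iv D15819) (iv F72169)
def n20198 : Q := act 2 n15800
theorem D20198 : act 2 n15800 = n20198 := rfl
theorem F91398 : act 4 n20198 = n15837 := d18_2 (iv F72174) D20198 (iv D15837)
theorem F91400 : act 7 n20198 = n16000 := d21_2 (iv F72176) D20198 (iv D16000)
theorem F91401 : act 8 n20198 = n20198 := d22_2 F72177 D20198 (iv D20198)
theorem F91402 : act 9 n20198 = n16948 := d23_2 (iv F72178) D20198 (iv D16948)
def n20199 : Q := act 6 n15800
theorem D20199 : act 6 n15800 = n20199 := rfl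
theorem F91403 : act 1 n20199 = n16826 := d13_1 D20199 (iv D16826) (iv F72173)
theorem F91404 : act 3 n20199 = n15801 := d26_1 D20199 (iv D15801) D15800
theorem F91405 : act 4 n20199 = n15838 := d31_1 D20199 (iv D15838) (iv F72174)
theorem F91406 : act 8 n20199 = n20199 := d40_2 F72177 D20199 (iv D20199)
theorem F91407 : act 9 n20199 = n16949 := d41_2 (iv F72178) D20199 (iv D16949)
def n20200 : Q := act 5 n15801
theorem D20200 : act 5 n15801 = n20200 := rfl
theorem F91408 : act 1 n20200 = n16827 := d12_1 D20200 (iv D16827) (iv F72179)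
theorem F91409 : act 4 n20200 = n15808 := d30_1 D20200 (iv D15808) F56823 (iv F56805) (iv F72180)
theorem F91410 : act 6 n20200 = n16958 := d35_2 D15801 D20200 (iv D16958) (iv D13162) (iv F56799)
theorem F91411 : act 9 n20200 = n16950 := d38_2 (iv F72182) D20200 (iv D16950)
def n20201 : Q := act 7 n15801
theorem D20201 : act 7 n15801 = n20201 := rfl
theorem F91412 : act 1 n20201 = n16828 := d14_1 D20201 (iv D16828) (iv F72179)
theorem F91413 : act 4 n20201 = n15802 := d32_1 D20201 (iv D15802) (iv F72180)
theorem F91414 : act 6 n20201 = n16003 := d39_1 D20201 (iv D16003) (iv D12435) (iv F56800) D15801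
theorem F91415 : act 8 n20201 = n20201 := d42_2 F72181 D20201 (iv D20201)
theorem F91416 : act 9 n20201 = n16951 := d43_2 (iv F72182) D20201 (iv D16951)
def n20202 : Q := act 2 n15803
theorem D20202 : act 2 n15803 = n20202 := rfl
theorem F91417 : act 4 n20202 = n15841 := d18_2 (iv F72190) D20202 (iv D15841)
theorem F91418 : act 5 n20202 = n16756 := d19_2 (iv F72191) D20202 (iv D16756)
theorem F91419 : act 7 n20202 = n15810 := d21_2 (iv F72192) D20202 (iv D15810)
theorem F91420 : act 8 n20202 = n20202 := d22_2 F72193 D20202 (iv D20202)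
theorem F91421 : act 9 n20202 = n15806 := d23_2 (iv F72194) D20202 (iv D15806)
def n20203 : Q := act 6 n15803
theorem D20203 : act 6 n15803 = n20203 := rfl
theorem F91422 : act 1 n20203 = n16779 := d13_1 D20203 (iv D16779) (iv F72189)
theorem F91423 : act 3 n20203 = n15804 := d26_1 D20203 (iv D15804) D15803
theorem F91424 : act 4 n20203 = n15842 := d31_1 D20203 (iv D15842) (iv F72190)
theorem F91425 : act 8 n20203 = n20203 := d40_2 F72193 D20203 (iv D20203)
theorem F91426 : act 9 n20203 = n15807 := d41_2 (iv F72194) D20203 (iv D15807)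
def n20204 : Q := act 5 n15804
theorem D20204 : act 5 n15804 = n20204 := rfl
theorem F91427 : act 1 n20204 = n16780 := d12_1 D20204 (iv D16780) (iv F72195)
theorem F91428 : act 4 n20204 = n16950 := d30_1 D20204 (iv D16950) F60130 (iv F56815) (iv F72196)
theorem F91429 : act 6 n20204 = n16758 := d35_2 D15804 D20204 (iv D16758) (iv D13014) (iv F56809)
theorem F91430 : act 9 n20204 = n15808 := d38_2 (iv F72198) D20204 (iv D15808)
def n20205 : Q := act 7 n15804
theorem D20205 : act 7 n15804 = n20205 := rfl
theorem F91431 : act 1 n20205 = n16781 := d14_1 D20205 (iv D16781) (iv F72195)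
theorem F91432 : act 4 n20205 = n15805 := d32_1 D20205 (iv D15805) (iv F72196)
theorem F91433 : act 6 n20205 = n15813 := d39_1 D20205 (iv D15813) (iv D12298) (iv F56810) D15804
theorem F91434 : act 8 n20205 = n20205 := d42_2 F72197 D20205 (iv D20205)
theorem F91435 : act 9 n20205 = n15809 := d43_2 (iv F72198) D20205 (iv D15809)
def n20206 : Q := act 1 n15806
theorem D20206 : act 1 n15806 = n20206 := rfl
theorem F91436 : act 2 n20206 = n16829 := d9_2 D15806 D20206 (iv D16829) (iv D13064) (iv F56818)
theorem F91437 : act 4 n20206 = n15845 := d11_2 (iv F72205) D20206 (iv D15845)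
theorem F91438 : act 7 n20206 = n15814 := d14_2 (iv F72206) D20206 (iv D15814)
theorem F91439 : act 8 n20206 = n15820 := d15_2 (iv F72207) D20206 (iv D15820)
def n20207 : Q := act 6 n15806
theorem D20207 : act 6 n15806 = n20207 := rfl
theorem F91440 : act 2 n20207 = n15807 := d20_1 D20207 (iv D15807) D15806
theorem F91441 : act 4 n20207 = n15846 := d31_1 D20207 (iv D15846) (iv F72205)
theorem F91442 : act 8 n20207 = n15821 := d40_2 (iv F72207) D20207 (iv D15821)
def n20208 : Q := act 5 n15807
theorem D20208 : act 5 n15807 = n20208 := rfl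
theorem F91443 : act 1 n20208 = n16831 := d12_1 D20208 (iv D16831) (iv F72208)
theorem F91444 : act 3 n20208 = n15808 := d25_1 D20208 (iv D15808) (iv F72209)
def n20209 : Q := act 7 n15807
theorem D20209 : act 7 n15807 = n20209 := rfl
theorem F91445 : act 1 n20209 = n16832 := d14_1 D20209 (iv D16832) (iv F72208)
theorem F91446 : act 3 n20209 = n15809 := d27_1 D20209 (iv D15809) (iv F72209)
theorem F91447 : act 4 n20209 = n15848 := d32_1 D20209 (iv D15848) (iv F72210)
theorem F91448 : act 6 n20209 = n15817 := d39_1 D20209 (iv D15817) (iv D12301) (iv F56820) D15807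
theorem F91449 : act 8 n20209 = n15823 := d42_2 (iv F72211) D20209 (iv D15823)
def n20210 : Q := act 7 n15808
theorem D20210 : act 7 n15808 = n20210 := rfl
theorem F91450 : act 1 n20210 = n16833 := d14_1 D20210 (iv D16833) (iv F72212)
theorem F91451 : act 5 n20210 = n15809 := d36_1 D20210 (iv D15809) D15808
def n20211 : Q := act 8 n15808
theorem D20211 : act 8 n15808 = n20211 := rfl
theorem F91452 : act 1 n20211 = n16834 := d15_1 D20211 (iv D16834) (iv F72212)
theorem F91453 : act 5 n20211 = n15825 := d37_1 D20211 (iv D15825) (iv D12306) (iv F56824) D15808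
def n20212 : Q := act 1 n15810
theorem D20212 : act 1 n15810 = n20212 := rfl
theorem F91454 : act 2 n20212 = n16835 := d9_2 D15810 D20212 (iv D16835) (iv D13068) (iv F56829)
theorem F91455 : act 4 n20212 = n15851 := d11_2 (iv F72217) D20212 (iv D15851)
theorem F91456 : act 8 n20212 = n20212 := d15_2 F72218 D20212 (iv D20212)
theorem F91457 : act 9 n20212 = n15814 := d16_2 (iv F72219) D20212 (iv D15814)
def n20213 : Q := act 6 n15810
theorem D20213 : act 6 n15810 = n20213 := rfl
theorem F91458 : act 2 n20213 = n15811 := d20_1 D20213 (iv D15811) D15810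
theorem F91459 : act 4 n20213 = n15852 := d31_1 D20213 (iv D15852) (iv F72217)
theorem F91460 : act 8 n20213 = n20213 := d40_2 F72218 D20213 (iv D20213)
theorem F91461 : act 9 n20213 = n15815 := d41_2 (iv F72219) D20213 (iv D15815)
def n20214 : Q := act 5 n15811
theorem D20214 : act 5 n15811 = n20214 := rfl
theorem F91462 : act 1 n20214 = n16837 := d12_1 D20214 (iv D16837) (iv F72220)
theorem F91463 : act 3 n20214 = n15812 := d25_1 D20214 (iv D15812) (iv F72221)
theorem F91464 : act 9 n20214 = n15816 := d38_2 (iv F72224) D20214 (iv D15816)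
def n20215 : Q := act 7 n15811
theorem D20215 : act 7 n15811 = n20215 := rfl
theorem F91465 : act 1 n20215 = n16838 := d14_1 D20215 (iv D16838) (iv F72220)
theorem F91466 : act 3 n20215 = n15813 := d27_1 D20215 (iv D15813) (iv F72221)
theorem F91467 : act 4 n20215 = n15854 := d32_1 D20215 (iv D15854) (iv F72222)
theorem F91468 : act 8 n20215 = n20215 := d42_2 F72223 D20215 (iv D20215)
theorem F91469 : act 9 n20215 = n15817 := d43_2 (iv F72224) D20215 (iv D15817)
def n20216 : Q := act 7 n15812
theorem D20216 : act 7 n15812 = n20216 := rfl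
theorem F91470 : act 1 n20216 = n16839 := d14_1 D20216 (iv D16839) (iv F72225)
theorem F91471 : act 4 n20216 = n16014 := d32_1 D20216 (iv D16014) (iv F72226)
theorem F91472 : act 5 n20216 = n15813 := d36_1 D20216 (iv D15813) D15812
theorem F91473 : act 9 n20216 = n15818 := d43_2 (iv F72227) D20216 (iv D15818)
def n20217 : Q := act 8 n15812
theorem D20217 : act 8 n15812 = n20217 := rfl
theorem F91474 : act 1 n20217 = n16840 := d15_1 D20217 (iv D16840) (iv F72225)
theorem F91475 : act 4 n20217 = n16015 := d33_1 D20217 (iv D16015) (iv F72226)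
theorem F91476 : act 5 n20217 = n20217 := d37_1 D20217 (iv D20217) (iv D15812) F56835 D15812
def n20218 : Q := act 0 n15814
theorem D20218 : act 0 n15814 = n20218 := rfl
theorem F91477 : act 2 n20218 = n16841 := d1_2 (iv F72232) D20218 (iv D16841)
theorem F91478 : act 4 n20218 = n15857 := d3_2 (iv F72233) D20218 (iv D15857)
theorem F91479 : act 8 n20218 = n15826 := d7_2 (iv F72234) D20218 (iv D15826)
def n20219 : Q := act 6 n15814
theorem D20219 : act 6 n15814 = n20219 := rfl
theorem F91480 : act 1 n20219 = n15815 := d13_1 D20219 (iv D15815) D15814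
theorem F91481 : act 2 n20219 = n16842 := d20_1 D20219 (iv D16842) (iv F72232)
theorem F91482 : act 4 n20219 = n15858 := d31_1 D20219 (iv D15858) (iv F72233)
theorem F91483 : act 8 n20219 = n15827 := d40_2 (iv F72234) D20219 (iv D15827)
def n20220 : Q := act 5 n15815
theorem D20220 : act 5 n15815 = n20220 := rfl
theorem F91484 : act 2 n20220 = n15816 := d19_1 D20220 (iv D15816) (iv F72235)
def n20221 : Q := act 7 n15815
theorem D20221 : act 7 n15815 = n20221 := rfl
theorem F91485 : act 2 n20221 = n15817 := d21_1 D20221 (iv D15817) (iv F72235)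
theorem F91486 : act 4 n20221 = n15860 := d32_1 D20221 (iv D15860) (iv F72236)
theorem F91487 : act 8 n20221 = n15829 := d42_2 (iv F72237) D20221 (iv D15829)
def n20222 : Q := act 4 n15816
theorem D20222 : act 4 n15816 = n20222 := rfl
theorem F91488 : act 1 n20222 = n16845 := d11_1 D20222 (iv D16845) (iv F72238)
theorem F91489 : act 3 n20222 = n16020 := d24_1 D20222 (iv D16020) F57358 (iv F56849) (iv F72239)
theorem F91490 : act 5 n20222 = n15861 := d30_2 D15816 D20222 (iv D15861) (iv D12333) (iv F56846)
def n20223 : Q := act 7 n15816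
theorem D20223 : act 7 n15816 = n20223 := rfl
theorem F91491 : act 1 n20223 = n16846 := d14_1 D20223 (iv D16846) (iv F72238)
theorem F91492 : act 3 n20223 = n15818 := d27_1 D20223 (iv D15818) (iv F72239)
theorem F91493 : act 5 n20223 = n15817 := d36_1 D20223 (iv D15817) D15816
def n20224 : Q := act 8 n15816
theorem D20224 : act 8 n15816 = n20224 := rfl
theorem F91494 : act 1 n20224 = n16847 := d15_1 D20224 (iv D16847) (iv F72238)
theorem F91495 : act 3 n20224 = n15819 := d28_1 D20224 (iv D15819) (iv F72239)
theorem F91496 : act 5 n20224 = n15831 := d37_1 D20224 (iv D15831) (iv D12310) (iv F56847) D15816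
def n20225 : Q := act 6 n15818
theorem D20225 : act 6 n15818 = n20225 := rfl
theorem F91497 : act 1 n20225 = n16848 := d13_1 D20225 (iv D16848) (iv F72244)
theorem F91498 : act 4 n20225 = n16023 := d31_1 D20225 (iv D16023) (iv F72245)
def n20226 : Q := act 8 n15818
theorem D20226 : act 8 n15818 = n20226 := rfl
theorem F91499 : act 1 n20226 = n16849 := d15_1 D20226 (iv D16849) (iv F72244)
theorem F91500 : act 4 n20226 = n16024 := d33_1 D20226 (iv D16024) (iv F72245)
theorem F91501 : act 5 n20226 = n15833 := d37_1 D20226 (iv D15833) F56887 (iv F56852) (iv F72246)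
theorem F91502 : act 7 n20226 = n15819 := d42_1 D20226 (iv D15819) D15818
def n20227 : Q := act 9 n15819
theorem D20227 : act 9 n15819 = n20227 := rfl
theorem F91503 : act 1 n20227 = n16850 := d16_1 D20227 (iv D16850) (iv F72247)
theorem F91504 : act 4 n20227 = n16025 := d34_1 D20227 (iv D16025) (iv F72248)
theorem F91505 : act 5 n20227 = n15834 := d38_1 D20227 (iv D15834) (iv F72249)
def n20228 : Q := act 0 n15820
theorem D20228 : act 0 n15820 = n20228 := rfl
theorem F91506 : act 2 n20228 = n16851 := d1_2 (iv F72250) D20228 (iv D16851)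
theorem F91507 : act 4 n20228 = n15864 := d3_2 (iv F72251) D20228 (iv D15864)
theorem F91508 : act 5 n20228 = n20228 := d4_2 F72252 D20228 (iv D20228)
theorem F91509 : act 7 n20228 = n15826 := d6_2 (iv F72253) D20228 (iv D15826)
theorem F91510 : act 9 n20228 = n20228 := d8_2 F72254 D20228 (iv D20228)
def n20229 : Q := act 6 n15820
theorem D20229 : act 6 n15820 = n20229 := rfl
theorem F91511 : act 1 n20229 = n15821 := d13_1 D20229 (iv D15821) D15820
theorem F91512 : act 2 n20229 = n16852 := d20_1 D20229 (iv D16852) (iv F72250)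
theorem F91513 : act 4 n20229 = n15865 := d31_1 D20229 (iv D15865) (iv F72251)
theorem F91514 : act 9 n20229 = n20229 := d41_2 F72254 D20229 (iv D20229)
def n20230 : Q := act 5 n15821
theorem D20230 : act 5 n15821 = n20230 := rfl
theorem F91515 : act 2 n20230 = n15822 := d19_1 D20230 (iv D15822) (iv F72255)
theorem F91516 : act 6 n20230 = n20230 := d35_2 D15821 D20230 (iv D20230) (iv D15821) F56854
theorem F91517 : act 9 n20230 = n20230 := d38_2 F72257 D20230 (iv D20230)
def n20231 : Q := act 7 n15821
theorem D20231 : act 7 n15821 = n20231 := rfl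
theorem F91518 : act 2 n20231 = n15823 := d21_1 D20231 (iv D15823) (iv F72255)
theorem F91519 : act 4 n20231 = n15867 := d32_1 D20231 (iv D15867) (iv F72256)
theorem F91520 : act 6 n20231 = n15829 := d39_1 D20231 (iv D15829) (iv D12309) (iv F56855) D15821
theorem F91521 : act 9 n20231 = n20231 := d43_2 F72257 D20231 (iv D20231)
def n20232 : Q := act 4 n15822
theorem D20232 : act 4 n15822 = n20232 := rfl
theorem F91522 : act 1 n20232 = n16855 := d11_1 D20232 (iv D16855) (iv F72258)
theorem F91523 : act 3 n20232 = n20232 := d24_1 D20232 (iv D20232) F72259 F56862 (iv F72259)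
theorem F91524 : act 5 n20232 = n15868 := d30_2 D15822 D20232 (iv D15868) (iv D12338) (iv F56859)
theorem F91525 : act 6 n20232 = n20232 := d31_2 F72260 D20232 (iv D20232)
theorem F91526 : act 9 n20232 = n20232 := d34_2 F72261 D20232 (iv D20232)
theorem F91527 : act 8 n17189 = n20232 := d37_0 F91524 (iv F72429) (iv D13559) (iv F60806) D17189
def n20233 : Q := act 7 n15822
theorem D20233 : act 7 n15822 = n20233 := rfl
theorem F91528 : act 1 n20233 = n16856 := d14_1 D20233 (iv D16856) (iv F72258)
theorem F91529 : act 3 n20233 = n15824 := d27_1 D20233 (iv D15824) (iv F72259)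
theorem F91530 : act 5 n20233 = n15823 := d36_1 D20233 (iv D15823) D15822
theorem F91531 : act 9 n20233 = n20233 := d43_2 F72261 D20233 (iv D20233)
def n20234 : Q := act 8 n15822
theorem D20234 : act 8 n15822 = n20234 := rfl
theorem F91532 : act 1 n20234 = n16857 := d15_1 D20234 (iv D16857) (iv F72258)
theorem F91533 : act 3 n20234 = n15825 := d28_1 D20234 (iv D15825) (iv F72259)
theorem F91534 : act 4 n20234 = n17189 := d33_1 D20234 F91527 (iv D20232)
theorem F91535 : act 6 n20234 = n20234 := d40_1 D20234 (iv D20234) F72260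
theorem F91536 : act 9 n17198 = n20234 := d34_0 F91534 F77537 D17198
def n20235 : Q := act 6 n15824
theorem D20235 : act 6 n15824 = n20235 := rfl
theorem F91537 : act 1 n20235 = n16858 := d13_1 D20235 (iv D16858) (iv F72267)
theorem F91538 : act 4 n20235 = n20235 := d31_1 D20235 (iv D20235) F72268
theorem F91539 : act 5 n20235 = n15832 := d35_1 D20235 (iv D15832) F56887 (iv F56867) (iv F72269)
theorem F91540 : act 7 n20235 = n20235 := d39_2 D15824 D20235 (iv D20235) (iv D15824) F56863
theorem F91541 : act 9 n20235 = n20235 := d41_2 F72270 D20235 (iv D20235)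
def n20236 : Q := act 8 n15824
theorem D20236 : act 8 n15824 = n20236 := rfl
theorem F91542 : act 1 n20236 = n16859 := d15_1 D20236 (iv D16859) (iv F72267)
theorem F91543 : act 4 n20236 = n20236 := d33_1 D20236 (iv D20236) F72268
theorem F91544 : act 7 n20236 = n15825 := d42_1 D20236 (iv D15825) D15824
def n20237 : Q := act 9 n15825
theorem D20237 : act 9 n15825 = n20237 := rfl
theorem F91545 : act 1 n20237 = n16860 := d16_1 D20237 (iv D16860) (iv F72271)
theorem F91546 : act 3 n20237 = n17198 := d29_1 D20237 F91536 F91533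
theorem F91547 : act 4 n20237 = n20237 := d34_1 D20237 (iv D20237) F72272
theorem F91548 : act 6 n20237 = n20237 := d41_1 D20237 (iv D20237) F72273
theorem F91549 : act 8 n20237 = n20237 := d44_1 D20237 (iv D20237) (iv D15825) F56864 D15825
def n20238 : Q := act 6 n15826
theorem D20238 : act 6 n15826 = n20238 := rfl
theorem F91550 : act 0 n20238 = n15827 := d5_1 D20238 (iv D15827) D15826
theorem F91551 : act 2 n20238 = n16861 := d20_1 D20238 (iv D16861) (iv F72274)
theorem F91552 : act 4 n20238 = n15873 := d31_1 D20238 (iv D15873) (iv F72275)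
theorem F91553 : act 9 n20238 = n20238 := d41_2 F72277 D20238 (iv D20238)
def n20239 : Q := act 5 n15827
theorem D20239 : act 5 n15827 = n20239 := rfl
theorem F91554 : act 1 n20239 = n15828 := d12_1 D20239 (iv D15828) (iv F72278)
theorem F91555 : act 2 n20239 = n16862 := d19_1 D20239 (iv D16862) (iv F72279)
theorem F91556 : act 4 n20239 = n20239 := d30_1 D20239 (iv D20239) F72280 F57000 (iv F72280)
theorem F91557 : act 6 n20239 = n20239 := d35_2 D15827 D20239 (iv D20239) (iv D15827) F56871
theorem F91558 : act 9 n20239 = n20239 := d38_2 F72281 D20239 (iv D20239)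
def n20240 : Q := act 7 n15827
theorem D20240 : act 7 n15827 = n20240 := rfl
theorem F91559 : act 1 n20240 = n15829 := d14_1 D20240 (iv D15829) (iv F72278)
theorem F91560 : act 2 n20240 = n16863 := d21_1 D20240 (iv D16863) (iv F72279)
theorem F91561 : act 4 n20240 = n15874 := d32_1 D20240 (iv D15874) (iv F72280)
theorem F91562 : act 9 n20240 = n20240 := d43_2 F72281 D20240 (iv D20240)
def n20241 : Q := act 7 n15828
theorem D20241 : act 7 n15828 = n20241 := rfl
theorem F91563 : act 2 n20241 = n15830 := d21_1 D20241 (iv D15830) (iv F72282)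
theorem F91564 : act 4 n20241 = n20241 := d32_1 D20241 (iv D20241) F72283
theorem F91565 : act 5 n20241 = n15829 := d36_1 D20241 (iv D15829) D15828
theorem F91566 : act 9 n20241 = n20241 := d43_2 F72285 D20241 (iv D20241)
def n20242 : Q := act 8 n15828
theorem D20242 : act 8 n15828 = n20242 := rfl
theorem F91567 : act 2 n20242 = n15831 := d22_1 D20242 (iv D15831) (iv F72282)
theorem F91568 : act 4 n20242 = n20242 := d33_1 D20242 (iv D20242) F72283
theorem F91569 : act 6 n20242 = n20242 := d40_1 D20242 (iv D20242) F72284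
def n20243 : Q := act 6 n15830
theorem D20243 : act 6 n15830 = n20243 := rfl
theorem F91570 : act 1 n20243 = n16866 := d13_1 D20243 (iv D16866) (iv F72289)
theorem F91571 : act 3 n20243 = n15832 := d26_1 D20243 (iv D15832) (iv F72290)
theorem F91572 : act 4 n20243 = n20243 := d31_1 D20243 (iv D20243) F72291
theorem F91573 : act 7 n20243 = n20243 := d39_2 D15830 D20243 (iv D20243) (iv D15830) F56879
theorem F91574 : act 9 n20243 = n20243 := d41_2 F72293 D20243 (iv D20243)
def n20244 : Q := act 8 n15830
theorem D20244 : act 8 n15830 = n20244 := rfl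
theorem F91575 : act 1 n20244 = n16867 := d15_1 D20244 (iv D16867) (iv F72289)
theorem F91576 : act 3 n20244 = n15833 := d28_1 D20244 (iv D15833) (iv F72290)
theorem F91577 : act 4 n20244 = n20244 := d33_1 D20244 (iv D20244) F72291
theorem F91578 : act 7 n20244 = n15831 := d42_1 D20244 (iv D15831) D15830
def n20245 : Q := act 9 n15831
theorem D20245 : act 9 n15831 = n20245 := rfl
theorem F91579 : act 1 n20245 = n16868 := d16_1 D20245 (iv D16868) (iv F72294)
theorem F91580 : act 3 n20245 = n15834 := d29_1 D20245 (iv D15834) (iv F72295)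
theorem F91581 : act 4 n20245 = n20245 := d34_1 D20245 (iv D20245) F72296
theorem F91582 : act 6 n20245 = n20245 := d41_1 D20245 (iv D20245) F72297
theorem F91583 : act 8 n20245 = n20245 := d44_1 D20245 (iv D20245) (iv D15831) F56880 D15831
def n20246 : Q := act 8 n15832
theorem D20246 : act 8 n15832 = n20246 := rfl
theorem F91584 : act 1 n20246 = n16869 := d15_1 D20246 (iv D16869) (iv F72298)
theorem F91585 : act 4 n20246 = n15835 := d33_1 D20246 (iv D15835) (iv F72299)
theorem F91586 : act 6 n20246 = n15833 := d40_1 D20246 (iv D15833) D15832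
theorem F91587 : act 7 n20246 = n20246 := d42_1 D20246 (iv D20246) F72300
def n20247 : Q := act 9 n15833
theorem D20247 : act 9 n15833 = n20247 := rfl
theorem F91588 : act 1 n20247 = n16870 := d16_1 D20247 (iv D16870) (iv F72302)
theorem F91589 : act 4 n20247 = n15836 := d34_1 D20247 (iv D15836) (iv F72303)
theorem F91590 : act 7 n20247 = n15834 := d43_1 D20247 (iv D15834) (iv F72304)
theorem F91591 : act 8 n20247 = n20247 := d44_1 D20247 (iv D20247) (iv D15833) F56888 D15833
def n20248 : Q := act 5 n15835
theorem D20248 : act 5 n15835 = n20248 := rfl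
theorem F91592 : act 1 n20248 = n16871 := d12_1 D20248 (iv D16871) (iv F72309)
theorem F91593 : act 3 n20248 = n20248 := d25_1 D20248 (iv D20248) F72310
theorem F91594 : act 6 n20248 = n16046 := d35_2 (iv F72311) D20248 (iv D16046) F57428 (iv F56899)
theorem F91595 : act 7 n20248 = n20248 := d36_2 F72312 D20248 (iv D20248)
theorem F91596 : act 8 n20248 = n20248 := d37_2 D15835 D20248 (iv D20248) (iv D15835) F56894
def n20249 : Q := act 9 n15835
theorem D20249 : act 9 n15835 = n20249 := rfl
theorem F91597 : act 1 n20249 = n16872 := d16_1 D20249 (iv D16872) (iv F72309)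
theorem F91598 : act 3 n20249 = n20249 := d29_1 D20249 (iv D20249) F72310
theorem F91599 : act 6 n20249 = n15836 := d41_1 D20249 (iv D15836) (iv F72311)
theorem F91600 : act 7 n20249 = n20249 := d43_1 D20249 (iv D20249) F72312
theorem F91601 : act 8 n20249 = n20249 := d44_1 D20249 (iv D20249) (iv D15835) F56896 D15835
def n20250 : Q := act 1 n15837
theorem D20250 : act 1 n15837 = n20250 := rfl
theorem F91602 : act 2 n20250 = n16877 := d9_2 D15837 D20250 (iv D16877) (iv D13098) (iv F56906)
theorem F91603 : act 5 n20250 = n20250 := d12_2 F72318 D20250 (iv D20250)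
theorem F91604 : act 7 n20250 = n16048 := d14_2 (iv F72319) D20250 (iv D16048)
theorem F91605 : act 8 n20250 = n20250 := d15_2 F72320 D20250 (iv D20250)
def n20251 : Q := act 6 n15837
theorem D20251 : act 6 n15837 = n20251 := rfl
theorem F91606 : act 2 n20251 = n15838 := d20_1 D20251 (iv D15838) D15837
theorem F91607 : act 8 n20251 = n20251 := d40_2 F72320 D20251 (iv D20251)
def n20252 : Q := act 5 n15838
theorem D20252 : act 5 n15838 = n20252 := rfl
theorem F91608 : act 1 n20252 = n16879 := d12_1 D20252 (iv D16879) (iv F72321)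
theorem F91609 : act 3 n20252 = n15839 := d25_1 D20252 (iv D15839) (iv F72322)
theorem F91610 : act 6 n20252 = n20252 := d35_2 D15838 D20252 (iv D20252) (iv D15838) F56907
def n20253 : Q := act 7 n15838
theorem D20253 : act 7 n15838 = n20253 := rfl
theorem F91611 : act 1 n20253 = n16880 := d14_1 D20253 (iv D16880) (iv F72321)
theorem F91612 : act 3 n20253 = n15840 := d27_1 D20253 (iv D15840) (iv F72322)
theorem F91613 : act 6 n20253 = n16051 := d39_1 D20253 (iv D16051) (iv D12469) (iv F56908) D15838
theorem F91614 : act 8 n20253 = n20253 := d42_2 F72323 D20253 (iv D20253)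
def n20254 : Q := act 7 n15839
theorem D20254 : act 7 n15839 = n20254 := rfl
theorem F91615 : act 1 n20254 = n16881 := d14_1 D20254 (iv D16881) (iv F72324)
theorem F91616 : act 4 n20254 = n15849 := d32_1 D20254 (iv D15849) (iv F72325)
theorem F91617 : act 5 n20254 = n15840 := d36_1 D20254 (iv D15840) D15839
def n20255 : Q := act 8 n15839
theorem D20255 : act 8 n15839 = n20255 := rfl
theorem F91618 : act 1 n20255 = n16882 := d15_1 D20255 (iv D16882) (iv F72324)
theorem F91619 : act 4 n20255 = n15850 := d33_1 D20255 (iv D15850) (iv F72325)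
theorem F91620 : act 5 n20255 = n20255 := d37_1 D20255 (iv D20255) (iv D15839) F56912 D15839
theorem F91621 : act 6 n20255 = n20255 := d40_1 D20255 (iv D20255) F72326
def n20256 : Q := act 1 n15841
theorem D20256 : act 1 n15841 = n20256 := rfl
theorem F91622 : act 2 n20256 = n16883 := d9_2 D15841 D20256 (iv D16883) (iv D13102) (iv F56917)
theorem F91623 : act 5 n20256 = n20256 := d12_2 F72331 D20256 (iv D20256)
theorem F91624 : act 7 n20256 = n15851 := d14_2 (iv F72332) D20256 (iv D15851)
theorem F91625 : act 8 n20256 = n20256 := d15_2 F72333 D20256 (iv D20256)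
theorem F91626 : act 9 n20256 = n15845 := d16_2 (iv F72334) D20256 (iv D15845)
def n20257 : Q := act 6 n15841
theorem D20257 : act 6 n15841 = n20257 := rfl
theorem F91627 : act 2 n20257 = n15842 := d20_1 D20257 (iv D15842) D15841
theorem F91628 : act 8 n20257 = n20257 := d40_2 F72333 D20257 (iv D20257)
theorem F91629 : act 9 n20257 = n15846 := d41_2 (iv F72334) D20257 (iv D15846)
def n20258 : Q := act 5 n15842
theorem D20258 : act 5 n15842 = n20258 := rfl
theorem F91630 : act 1 n20258 = n16885 := d12_1 D20258 (iv D16885) (iv F72335)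
theorem F91631 : act 3 n20258 = n15843 := d25_1 D20258 (iv D15843) (iv F72336)
theorem F91632 : act 6 n20258 = n20258 := d35_2 D15842 D20258 (iv D20258) (iv D15842) F56918
theorem F91633 : act 9 n20258 = n15847 := d38_2 (iv F72338) D20258 (iv D15847)
def n20259 : Q := act 7 n15842
theorem D20259 : act 7 n15842 = n20259 := rfl
theorem F91634 : act 1 n20259 = n16886 := d14_1 D20259 (iv D16886) (iv F72335)
theorem F91635 : act 3 n20259 = n15844 := d27_1 D20259 (iv D15844) (iv F72336)
theorem F91636 : act 6 n20259 = n15854 := d39_1 D20259 (iv D15854) (iv D12328) (iv F56919) D15842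
theorem F91637 : act 8 n20259 = n20259 := d42_2 F72337 D20259 (iv D20259)
theorem F91638 : act 9 n20259 = n15848 := d43_2 (iv F72338) D20259 (iv D15848)
def n20260 : Q := act 7 n15843
theorem D20260 : act 7 n15843 = n20260 := rfl
theorem F91639 : act 1 n20260 = n16887 := d14_1 D20260 (iv D16887) (iv F72339)
theorem F91640 : act 5 n20260 = n15844 := d36_1 D20260 (iv D15844) D15843
theorem F91641 : act 9 n20260 = n15849 := d43_2 (iv F72341) D20260 (iv D15849)
def n20261 : Q := act 8 n15843
theorem D20261 : act 8 n15843 = n20261 := rfl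
theorem F91642 : act 1 n20261 = n16888 := d15_1 D20261 (iv D16888) (iv F72339)
theorem F91643 : act 5 n20261 = n20261 := d37_1 D20261 (iv D20261) (iv D15843) F56924 D15843
theorem F91644 : act 6 n20261 = n20261 := d40_1 D20261 (iv D20261) F72340
def n20262 : Q := act 0 n15845
theorem D20262 : act 0 n15845 = n20262 := rfl
theorem F91645 : act 2 n20262 = n16889 := d1_2 (iv F72347) D20262 (iv D16889)
theorem F91646 : act 5 n20262 = n20262 := d4_2 F72348 D20262 (iv D20262)
theorem F91647 : act 7 n20262 = n15857 := d6_2 (iv F72349) D20262 (iv D15857)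
theorem F91648 : act 8 n20262 = n15864 := d7_2 (iv F72350) D20262 (iv D15864)
def n20263 : Q := act 6 n15845
theorem D20263 : act 6 n15845 = n20263 := rfl
theorem F91649 : act 1 n20263 = n15846 := d13_1 D20263 (iv D15846) D15845
theorem F91650 : act 2 n20263 = n16890 := d20_1 D20263 (iv D16890) (iv F72347)
theorem F91651 : act 8 n20263 = n15865 := d40_2 (iv F72350) D20263 (iv D15865)
def n20264 : Q := act 5 n15846
theorem D20264 : act 5 n15846 = n20264 := rfl
theorem F91652 : act 2 n20264 = n15847 := d19_1 D20264 (iv D15847) (iv F72351)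
theorem F91653 : act 6 n20264 = n20264 := d35_2 D15846 D20264 (iv D20264) (iv D15846) F56930
def n20265 : Q := act 7 n15846
theorem D20265 : act 7 n15846 = n20265 := rfl
theorem F91654 : act 2 n20265 = n15848 := d21_1 D20265 (iv D15848) (iv F72351)
theorem F91655 : act 6 n20265 = n15860 := d39_1 D20265 (iv D15860) (iv D12332) (iv F56931) D15846
theorem F91656 : act 8 n20265 = n15867 := d42_2 (iv F72352) D20265 (iv D15867)
def n20266 : Q := act 4 n15847
theorem D20266 : act 4 n15847 = n20266 := rfl
theorem F91657 : act 1 n20266 = n16893 := d11_1 D20266 (iv D16893) (iv F72353)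
theorem F91658 : act 6 n20266 = n20266 := d31_2 F72355 D20266 (iv D20266)
theorem F91659 : act 8 n17429 = n20266 := d15_0 F91657 (iv F76352) (iv F78512)
def n20267 : Q := act 7 n15847
theorem D20267 : act 7 n15847 = n20267 := rfl
theorem F91660 : act 1 n20267 = n16894 := d14_1 D20267 (iv D16894) (iv F72353)
theorem F91661 : act 3 n20267 = n15849 := d27_1 D20267 (iv D15849) (iv F72354)
theorem F91662 : act 5 n20267 = n15848 := d36_1 D20267 (iv D15848) D15847
def n20268 : Q := act 8 n15847
theorem D20268 : act 8 n15847 = n20268 := rfl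
theorem F91663 : act 1 n20268 = n16895 := d15_1 D20268 (iv D16895) (iv F72353)
theorem F91664 : act 3 n20268 = n15850 := d28_1 D20268 (iv D15850) (iv F72354)
theorem F91665 : act 4 n20268 = n17429 := d33_1 D20268 F91659 (iv D20266)
theorem F91666 : act 5 n20268 = n15870 := d37_1 D20268 (iv D15870) (iv D12338) (iv F56935) D15847
theorem F91667 : act 6 n20268 = n20268 := d40_1 D20268 (iv D20268) F72355
theorem F91668 : act 9 n17440 = n20268 := d38_0 F91666 (iv F72439) (iv F78554)
def n20269 : Q := act 6 n15849
theorem D20269 : act 6 n15849 = n20269 := rfl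
theorem F91669 : act 1 n20269 = n16896 := d13_1 D20269 (iv D16896) (iv F72360)
theorem F91670 : act 5 n20269 = n15863 := d35_1 D20269 (iv D15863) F56971 (iv F56940) (iv F72361)
theorem F91671 : act 7 n20269 = n20269 := d39_2 D15849 D20269 (iv D20269) (iv D15849) F56937
def n20270 : Q := act 8 n15849
theorem D20270 : act 8 n15849 = n20270 := rfl
theorem F91672 : act 1 n20270 = n16897 := d15_1 D20270 (iv D16897) (iv F72360)
theorem F91673 : act 5 n20270 = n15871 := d37_1 D20270 (iv D15871) F56989 (iv F56941) (iv F72361)
theorem F91674 : act 7 n20270 = n15850 := d42_1 D20270 (iv D15850) D15849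
def n20271 : Q := act 9 n15850
theorem D20271 : act 9 n15850 = n20271 := rfl
theorem F91675 : act 1 n20271 = n16898 := d16_1 D20271 (iv D16898) (iv F72362)
theorem F91676 : act 3 n20271 = n17440 := d29_1 D20271 F91668 F91664
theorem F91677 : act 5 n20271 = n15872 := d38_1 D20271 (iv D15872) (iv F72363)
theorem F91678 : act 6 n20271 = n20271 := d41_1 D20271 (iv D20271) F72364
def n20272 : Q := act 0 n15851
theorem D20272 : act 0 n15851 = n20272 := rfl
theorem F91679 : act 2 n20272 = n16899 := d1_2 (iv F72365) D20272 (iv D16899)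
theorem F91680 : act 5 n20272 = n20272 := d4_2 F72366 D20272 (iv D20272)
theorem F91681 : act 8 n20272 = n20272 := d7_2 F72367 D20272 (iv D20272)
theorem F91682 : act 9 n20272 = n15857 := d8_2 (iv F72368) D20272 (iv D15857)
def n20273 : Q := act 6 n15851
theorem D20273 : act 6 n15851 = n20273 := rfl
theorem F91683 : act 1 n20273 = n15852 := d13_1 D20273 (iv D15852) D15851
theorem F91684 : act 2 n20273 = n16900 := d20_1 D20273 (iv D16900) (iv F72365)
theorem F91685 : act 8 n20273 = n20273 := d40_2 F72367 D20273 (iv D20273)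
theorem F91686 : act 9 n20273 = n15858 := d41_2 (iv F72368) D20273 (iv D15858)
def n20274 : Q := act 5 n15852
theorem D20274 : act 5 n15852 = n20274 := rfl
theorem F91687 : act 2 n20274 = n15853 := d19_1 D20274 (iv D15853) (iv F72369)
theorem F91688 : act 6 n20274 = n20274 := d35_2 D15852 D20274 (iv D20274) (iv D15852) F56942
theorem F91689 : act 9 n20274 = n15859 := d38_2 (iv F72371) D20274 (iv D15859)
def n20275 : Q := act 7 n15852
theorem D20275 : act 7 n15852 = n20275 := rfl
theorem F91690 : act 2 n20275 = n15854 := d21_1 D20275 (iv D15854) (iv F72369)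
theorem F91691 : act 8 n20275 = n20275 := d42_2 F72370 D20275 (iv D20275)
theorem F91692 : act 9 n20275 = n15860 := d43_2 (iv F72371) D20275 (iv D15860)
def n20276 : Q := act 4 n15853
theorem D20276 : act 4 n15853 = n20276 := rfl
theorem F91693 : act 1 n20276 = n16903 := d11_1 D20276 (iv D16903) (iv F72372)
theorem F91694 : act 3 n20276 = n16067 := d24_1 D20276 (iv D16067) F57472 (iv F56950) (iv F72373)
theorem F91695 : act 6 n20276 = n20276 := d31_2 F72374 D20276 (iv D20276)
theorem F91696 : act 9 n20276 = n15861 := d34_2 (iv F72375) D20276 (iv D15861)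
def n20277 : Q := act 7 n15853
theorem D20277 : act 7 n15853 = n20277 := rfl
theorem F91697 : act 1 n20277 = n16904 := d14_1 D20277 (iv D16904) (iv F72372)
theorem F91698 : act 3 n20277 = n15855 := d27_1 D20277 (iv D15855) (iv F72373)
theorem F91699 : act 5 n20277 = n15854 := d36_1 D20277 (iv D15854) D15853
theorem F91700 : act 9 n20277 = n15862 := d43_2 (iv F72375) D20277 (iv D15862)
def n20278 : Q := act 8 n15853
theorem D20278 : act 8 n15853 = n20278 := rfl
theorem F91701 : act 1 n20278 = n16905 := d15_1 D20278 (iv D16905) (iv F72372)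
theorem F91702 : act 3 n20278 = n15856 := d28_1 D20278 (iv D15856) (iv F72373)
theorem F91703 : act 5 n20278 = n20278 := d37_1 D20278 (iv D20278) (iv D15853) F56947 D15853
theorem F91704 : act 6 n20278 = n20278 := d40_1 D20278 (iv D20278) F72374
theorem F91705 : act 9 n20278 = n20278 := d44_2 (iv F72375) D20278 (iv D20278) F72375 F56965
def n20279 : Q := act 6 n15855
theorem D20279 : act 6 n15855 = n20279 := rfl
theorem F91706 : act 1 n20279 = n16906 := d13_1 D20279 (iv D16906) (iv F72380)
theorem F91707 : act 4 n20279 = n16070 := d31_1 D20279 (iv D16070) (iv F72381)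
theorem F91708 : act 7 n20279 = n20279 := d39_2 D15855 D20279 (iv D20279) (iv D15855) F56951
theorem F91709 : act 9 n20279 = n15863 := d41_2 (iv F72383) D20279 (iv D15863)
def n20280 : Q := act 8 n15855
theorem D20280 : act 8 n15855 = n20280 := rfl
theorem F91710 : act 1 n20280 = n16907 := d15_1 D20280 (iv D16907) (iv F72380)
theorem F91711 : act 4 n20280 = n16071 := d33_1 D20280 (iv D16071) (iv F72381)
theorem F91712 : act 5 n20280 = n20280 := d37_1 D20280 (iv D20280) F72382 F56955 (iv F72382)
theorem F91713 : act 7 n20280 = n15856 := d42_1 D20280 (iv D15856) D15855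
theorem F91714 : act 9 n20280 = n20280 := d44_2 (iv F72383) D20280 (iv D20280) F72383 F56972
def n20281 : Q := act 6 n15857
theorem D20281 : act 6 n15857 = n20281 := rfl
theorem F91715 : act 0 n20281 = n15858 := d5_1 D20281 (iv D15858) D15857
theorem F91716 : act 2 n20281 = n16908 := d20_1 D20281 (iv D16908) (iv F72389)
theorem F91717 : act 8 n20281 = n15873 := d40_2 (iv F72391) D20281 (iv D15873)
def n20282 : Q := act 5 n15858
theorem D20282 : act 5 n15858 = n20282 := rfl
theorem F91718 : act 1 n20282 = n15859 := d12_1 D20282 (iv D15859) (iv F72392)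
theorem F91719 : act 2 n20282 = n16909 := d19_1 D20282 (iv D16909) (iv F72393)
theorem F91720 : act 6 n20282 = n20282 := d35_2 D15858 D20282 (iv D20282) (iv D15858) F56958
theorem F91721 : act 8 n20282 = n20282 := d37_2 (iv F72394) D20282 (iv D20282) F72394 F57000
def n20283 : Q := act 7 n15858
theorem D20283 : act 7 n15858 = n20283 := rfl
theorem F91722 : act 1 n20283 = n15860 := d14_1 D20283 (iv D15860) (iv F72392)
theorem F91723 : act 2 n20283 = n16910 := d21_1 D20283 (iv D16910) (iv F72393)
theorem F91724 : act 8 n20283 = n15874 := d42_2 (iv F72394) D20283 (iv D15874)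
def n20284 : Q := act 4 n15859
theorem D20284 : act 4 n15859 = n20284 := rfl
theorem F91725 : act 2 n20284 = n15861 := d18_1 D20284 (iv D15861) (iv F72395)
theorem F91726 : act 6 n20284 = n20284 := d31_2 F72396 D20284 (iv D20284)
theorem F91727 : act 8 n20284 = n20284 := d33_2 F72397 D20284 (iv D20284)
def n20285 : Q := act 7 n15859
theorem D20285 : act 7 n15859 = n20285 := rfl
theorem F91728 : act 2 n20285 = n15862 := d21_1 D20285 (iv D15862) (iv F72395)
theorem F91729 : act 5 n20285 = n15860 := d36_1 D20285 (iv D15860) D15859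
theorem F91730 : act 8 n20285 = n20285 := d42_2 F72397 D20285 (iv D20285)
def n20286 : Q := act 7 n15861
theorem D20286 : act 7 n15861 = n20286 := rfl
theorem F91731 : act 1 n20286 = n16913 := d14_1 D20286 (iv D16913) (iv F72400)
theorem F91732 : act 3 n20286 = n16077 := d27_1 D20286 (iv D16077) (iv F72401)
theorem F91733 : act 4 n20286 = n15862 := d32_1 D20286 (iv D15862) D15861
theorem F91734 : act 8 n20286 = n20286 := d42_2 F72403 D20286 (iv D20286)
def n20287 : Q := act 6 n15862
theorem D20287 : act 6 n15862 = n20287 := rfl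
theorem F91735 : act 1 n20287 = n16914 := d13_1 D20287 (iv D16914) (iv F72404)
theorem F91736 : act 3 n20287 = n15863 := d26_1 D20287 (iv D15863) (iv F72405)
theorem F91737 : act 7 n20287 = n20287 := d39_2 D15862 D20287 (iv D20287) (iv D15862) F56964
theorem F91738 : act 8 n20287 = n20287 := d40_2 F72407 D20287 (iv D20287)
def n20288 : Q := act 6 n15864
theorem D20288 : act 6 n15864 = n20288 := rfl
theorem F91739 : act 0 n20288 = n15865 := d5_1 D20288 (iv D15865) D15864
theorem F91740 : act 2 n20288 = n16915 := d20_1 D20288 (iv D16915) (iv F72412)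
def n20289 : Q := act 5 n15865
theorem D20289 : act 5 n15865 = n20289 := rfl
theorem F91742 : act 1 n20289 = n15866 := d12_1 D20289 (iv D15866) (iv F72416)
theorem F91743 : act 2 n20289 = n16260 := d19_1 D20289 (iv F73789) (iv F72417)
theorem F91744 : act 6 n20289 = n15876 := d35_2 D15865 D20289 (iv D15876) (iv D12346) (iv F56974)
theorem F91746 : act 4 n16258 = n20289 := d31_3 F91744 (iv F72467) (iv F73777)
theorem F91747 : act 8 n16256 = n20289 := d40_0 F91744 (iv F72468) (iv F73770)
def n20290 : Q := act 7 n15865
theorem D20290 : act 7 n15865 = n20290 := rfl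
theorem F91748 : act 1 n20290 = n15867 := d14_1 D20290 (iv D15867) (iv F72416)
theorem F91749 : act 2 n20290 = n16916 := d21_1 D20290 (iv D16916) (iv F72417)
theorem F91750 : act 6 n20290 = n15874 := d39_1 D20290 (iv D15874) (iv D12343) (iv F56975) D15865
theorem F91751 : act 9 n20290 = n20290 := d43_2 F72418 D20290 (iv D20290)
def n20291 : Q := act 4 n15866
theorem D20291 : act 4 n15866 = n20291 := rfl
theorem F91753 : act 2 n20291 = n15868 := d18_1 D20291 (iv D15868) (iv F72419)
theorem F91754 : act 6 n20291 = n15877 := d31_2 (iv F72420) D20291 (iv D15877)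
theorem F91756 : act 8 n16254 = n20291 := d40_0 F91754 (iv F72474) (iv F73764)
def n20292 : Q := act 7 n15866
theorem D20292 : act 7 n15866 = n20292 := rfl
theorem F91757 : act 2 n20292 = n15869 := d21_1 D20292 (iv D15869) (iv F72419)
theorem F91758 : act 5 n20292 = n15867 := d36_1 D20292 (iv D15867) D15866
theorem F91759 : act 6 n20292 = n20292 := d39_1 D20292 (iv D20292) F72420 F57017 (iv F72420)
theorem F91760 : act 9 n20292 = n20292 := d43_2 F72421 D20292 (iv D20292)
def n20293 : Q := act 8 n15866
theorem D20293 : act 8 n15866 = n20293 := rfl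
theorem F91762 : act 2 n20293 = n15870 := d22_1 D20293 (iv D15870) (iv F72419)
theorem F91764 : act 6 n20293 = n15878 := d40_1 D20293 (iv D15878) (iv F72420)
theorem F91765 : act 9 n16264 = n20293 := d41_0 F91764 (iv F72480) (iv F73804)
def n20294 : Q := act 7 n15868
theorem D20294 : act 7 n15868 = n20294 := rfl
theorem F91766 : act 1 n20294 = n16918 := d14_1 D20294 (iv D16918) (iv F72425)
theorem F91767 : act 3 n20294 = n20294 := d27_1 D20294 (iv D20294) F72426
theorem F91768 : act 4 n20294 = n15869 := d32_1 D20294 (iv D15869) D15868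
theorem F91769 : act 6 n20294 = n20294 := d39_1 D20294 (iv D20294) F72427 F57022 (iv F72427)
theorem F91770 : act 8 n20294 = n17492 := d42_2 F72429 D20294 (iv D17492)
theorem F91771 : act 9 n20294 = n20294 := d43_2 F72428 D20294 (iv D20294)
def n20295 : Q := act 8 n15869
theorem D20295 : act 8 n15869 = n20295 := rfl
theorem F91772 : act 1 n20295 = n16919 := d15_1 D20295 (iv D16919) (iv F72430)
theorem F91773 : act 3 n20295 = n15871 := d28_1 D20295 (iv D15871) (iv F72431)
theorem F91775 : act 6 n20295 = n20295 := d40_1 D20295 (iv D20295) F72433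
theorem F91776 : act 7 n20295 = n15870 := d42_1 D20295 (iv D15870) D15869
theorem F91777 : act 9 n17495 = n20295 := d43_0 F91776 (iv F72439) D17495
def n20296 : Q := act 9 n15871
theorem D20296 : act 9 n15871 = n20296 := rfl
theorem F91778 : act 1 n20296 = n16920 := d16_1 D20296 (iv D16920) (iv F72440)
theorem F91779 : act 3 n20296 = n17495 := d29_1 D20296 F91777 F91773
theorem F91780 : act 4 n20296 = n20296 := d34_1 D20296 (iv D20296) F72441
theorem F91781 : act 6 n20296 = n20296 := d41_1 D20296 (iv D20296) F72442
theorem F91782 : act 7 n20296 = n15872 := d43_1 D20296 (iv D15872) (iv F72443)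
theorem F91783 : act 8 n20296 = n20296 := d44_1 D20296 (iv D20296) (iv D15871) F56991 D15871
def n20297 : Q := act 7 n15873
theorem D20297 : act 7 n15873 = n20297 := rfl
theorem F91784 : act 0 n20297 = n15874 := d6_1 D20297 (iv D15874) (iv F72449)
theorem F91785 : act 2 n20297 = n16921 := d21_1 D20297 (iv D16921) (iv F72450)
theorem F91786 : act 5 n20297 = n20297 := d36_1 D20297 (iv D20297) F72451
theorem F91787 : act 9 n20297 = n20297 := d43_2 F72452 D20297 (iv D20297)
def n20298 : Q := act 3 n15879
theorem D20298 : act 3 n15879 = n20298 := rfl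
theorem F91788 : act 0 n20298 = n15903 := d2_1 D20298 (iv D15903) (iv F72481)
theorem F91789 : act 8 n20298 = n16095 := d28_2 (iv F72483) D20298 (iv D16095)
theorem F91790 : act 9 n20298 = n15881 := d29_2 (iv F72484) D20298 (iv D15881)
def n20299 : Q := act 6 n15879
theorem D20299 : act 6 n15879 = n20299 := rfl
theorem F91791 : act 0 n20299 = n15904 := d5_1 D20299 (iv D15904) (iv F72481)
theorem F91792 : act 2 n20299 = n16923 := d20_1 D20299 (iv D16923) (iv F72482)
theorem F91793 : act 4 n20299 = n15880 := d31_1 D20299 (iv D15880) D15879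
theorem F91794 : act 8 n20299 = n16096 := d40_2 (iv F72483) D20299 (iv D16096)
theorem F91795 : act 9 n20299 = n15882 := d41_2 (iv F72484) D20299 (iv D15882)
def n20300 : Q := act 7 n15880
theorem D20300 : act 7 n15880 = n20300 := rfl
theorem F91796 : act 0 n20300 = n15905 := d6_1 D20300 (iv D15905) (iv F72485)
theorem F91797 : act 2 n20300 = n16924 := d21_1 D20300 (iv D16924) (iv F72486)
theorem F91798 : act 8 n20300 = n16097 := d42_2 (iv F72487) D20300 (iv D16097)
theorem F91799 : act 9 n20300 = n15883 := d43_2 (iv F72488) D20300 (iv D15883)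
def n20301 : Q := act 2 n15881
theorem D20301 : act 2 n15881 = n20301 := rfl
theorem F91800 : act 0 n20301 = n15906 := d1_1 D20301 (iv D15906) (iv F72489)
theorem F91802 : act 8 n20301 = n15887 := d22_2 (iv F72490) D20301 (iv D15887)
def n20302 : Q := act 6 n15881
theorem D20302 : act 6 n15881 = n20302 := rfl
theorem F91803 : act 0 n20302 = n15907 := d5_1 D20302 (iv D15907) (iv F72489)
theorem F91804 : act 3 n20302 = n15882 := d26_1 D20302 (iv D15882) D15881
theorem F91805 : act 8 n20302 = n15888 := d40_2 (iv F72490) D20302 (iv D15888)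
def n20303 : Q := act 5 n15882
theorem D20303 : act 5 n15882 = n20303 := rfl
theorem F91806 : act 0 n20303 = n15908 := d4_1 D20303 (iv D15908) (iv F72491)
theorem F91807 : act 2 n20303 = n16927 := d19_1 D20303 (iv D16927) (iv F72492)
def n20304 : Q := act 7 n15882
theorem D20304 : act 7 n15882 = n20304 := rfl
theorem F91808 : act 0 n20304 = n15909 := d6_1 D20304 (iv D15909) (iv F72491)
theorem F91809 : act 2 n20304 = n16928 := d21_1 D20304 (iv D16928) (iv F72492)
theorem F91810 : act 4 n20304 = n15883 := d32_1 D20304 (iv D15883) (iv F72493)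
theorem F91811 : act 8 n20304 = n15890 := d42_2 (iv F72494) D20304 (iv D15890)
def n20305 : Q := act 2 n15884
theorem D20305 : act 2 n15884 = n20305 := rfl
theorem F91815 : act 7 n20305 = n15887 := d21_2 (iv F72500) D20305 (iv D15887)
def n20306 : Q := act 6 n15884
theorem D20306 : act 6 n15884 = n20306 := rfl
theorem F91817 : act 0 n20306 = n15911 := d5_1 D20306 (iv D15911) (iv F72498)
theorem F91818 : act 3 n20306 = n15885 := d26_1 D20306 (iv D15885) D15884
theorem F91819 : act 9 n20306 = n16103 := d41_2 (iv F72501) D20306 (iv D16103)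
def n20307 : Q := act 5 n15885
theorem D20307 : act 5 n15885 = n20307 := rfl
theorem F91824 : act 9 n20307 = n16104 := d38_2 (iv F72505) D20307 (iv D16104)
def n20308 : Q := act 7 n15885
theorem D20308 : act 7 n15885 = n20308 := rfl
theorem F91825 : act 0 n20308 = n15913 := d6_1 D20308 (iv D15913) (iv F72502)
theorem F91826 : act 2 n20308 = n16932 := d21_1 D20308 (iv D16932) (iv F72503)
theorem F91827 : act 4 n20308 = n15886 := d32_1 D20308 (iv D15886) (iv F72504)
theorem F91828 : act 6 n20308 = n15890 := d39_1 D20308 (iv D15890) (iv D12357) (iv F57046) D15885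
theorem F91829 : act 9 n20308 = n16105 := d43_2 (iv F72505) D20308 (iv D16105)
def n20309 : Q := act 1 n15887
theorem D20309 : act 1 n15887 = n20309 := rfl
def n20310 : Q := act 6 n15887
theorem D20310 : act 6 n15887 = n20310 := rfl
theorem F91833 : act 0 n20310 = n15915 := d5_1 D20310 (iv D15915) (iv F72511)
theorem F91834 : act 2 n20310 = n15888 := d20_1 D20310 (iv D15888) D15887
def n20311 : Q := act 5 n15888
theorem D20311 : act 5 n15888 = n20311 := rfl
theorem F91837 : act 0 n20311 = n15916 := d4_1 D20311 (iv D15916) (iv F72515)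
theorem F91838 : act 3 n20311 = n15889 := d25_1 D20311 (iv D15889) (iv F72516)
theorem F91839 : act 6 n20311 = n16290 := d35_2 D15888 D20311 (iv D16290) (iv D12659) (iv F57053)
def n20312 : Q := act 7 n15888
theorem D20312 : act 7 n15888 = n20312 := rfl
theorem F91841 : act 0 n20312 = n15917 := d6_1 D20312 (iv D15917) (iv F72515)
theorem F91842 : act 3 n20312 = n15890 := d27_1 D20312 (iv D15890) (iv F72516)
theorem F91843 : act 9 n20312 = n16109 := d43_2 (iv F72517) D20312 (iv D16109)
def n20313 : Q := act 7 n15889
theorem D20313 : act 7 n15889 = n20313 := rfl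
theorem F91844 : act 0 n20313 = n15918 := d6_1 D20313 (iv D15918) (iv F72518)
theorem F91847 : act 5 n20313 = n15890 := d36_1 D20313 (iv D15890) D15889
def n20314 : Q := act 8 n15889
theorem D20314 : act 8 n15889 = n20314 := rfl
theorem F91849 : act 0 n20314 = n15919 := d7_1 D20314 (iv D15919) (iv F72518)
theorem F91852 : act 6 n20314 = n16293 := d40_1 D20314 (iv D16293) (iv F72521)
def n20315 : Q := act 6 n15891
theorem D20315 : act 6 n15891 = n20315 := rfl
def n20316 : Q := act 5 n15892
theorem D20316 : act 5 n15892 = n20316 := rfl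
theorem F91860 : act 6 n20316 = n16295 := d35_2 D15892 D20316 (iv D16295) (iv D12663) (iv F57065)
def n20317 : Q := act 7 n15892
theorem D20317 : act 7 n15892 = n20317 := rfl
theorem F91863 : act 2 n20317 = n15894 := d21_1 D20317 (iv D15894) (iv F72533)
theorem F91866 : act 9 n20317 = n16114 := d43_2 (iv F72535) D20317 (iv D16114)
def n20319 : Q := act 7 n15893
theorem D20319 : act 7 n15893 = n20319 := rfl
theorem F91872 : act 5 n20319 = n15894 := d36_1 D20319 (iv D15894) D15893
def n20320 : Q := act 8 n15893
theorem D20320 : act 8 n15893 = n20320 := rfl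
def n20322 : Q := act 8 n15895
theorem D20322 : act 8 n15895 = n20322 := rfl
theorem F91882 : act 0 n20322 = n15926 := d7_1 D20322 (iv D15926) (iv F72544)
theorem F91884 : act 7 n20322 = n15896 := d42_1 D20322 (iv D15896) D15895
def n20323 : Q := act 9 n15896
theorem D20323 : act 9 n15896 = n20323 := rfl
theorem F91888 : act 8 n20323 = n16120 := d44_1 D20323 (iv D16120) (iv D12523) (iv F57074) D15896
def n20324 : Q := act 2 n15897
theorem D20324 : act 2 n15897 = n20324 := rfl
theorem F91889 : act 3 n20324 = n16948 := d17_2 D15897 D20324 (iv D16948) (iv D13155) (iv F57081)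
theorem F91890 : act 5 n20324 = n15906 := d19_2 (iv F72552) D20324 (iv D15906)
theorem F91891 : act 8 n20324 = n16303 := d22_2 (iv F72553) D20324 (iv D16303)
def n20325 : Q := act 6 n15897
theorem D20325 : act 6 n15897 = n20325 := rfl
theorem F91892 : act 1 n20325 = n15940 := d13_1 D20325 (iv D15940) (iv F72551)
theorem F91893 : act 3 n20325 = n15898 := d26_1 D20325 (iv D15898) D15897
theorem F91894 : act 8 n20325 = n16304 := d40_2 (iv F72553) D20325 (iv D16304)
def n20326 : Q := act 5 n15898
theorem D20326 : act 5 n15898 = n20326 := rfl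
theorem F91895 : act 1 n20326 = n15941 := d12_1 D20326 (iv D15941) (iv F72554)
theorem F91896 : act 2 n20326 = n16950 := d19_1 D20326 (iv D16950) (iv F72555)
theorem F91897 : act 6 n20326 = n15908 := d35_2 D15898 D20326 (iv D15908) (iv D12370) (iv F57082)
def n20327 : Q := act 7 n15898
theorem D20327 : act 7 n15898 = n20327 := rfl
theorem F91898 : act 1 n20327 = n15942 := d14_1 D20327 (iv D15942) (iv F72554)
theorem F91899 : act 2 n20327 = n16951 := d21_1 D20327 (iv D16951) (iv F72555)
theorem F91900 : act 4 n20327 = n15899 := d32_1 D20327 (iv D15899) (iv F72556)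
theorem F91901 : act 8 n20327 = n16306 := d42_2 (iv F72557) D20327 (iv D16306)
def n20328 : Q := act 2 n15900
theorem D20328 : act 2 n15900 = n20328 := rfl
theorem F91903 : act 7 n20328 = n15906 := d21_2 (iv F72562) D20328 (iv D15906)
theorem F91904 : act 8 n20328 = n15910 := d22_2 (iv F72563) D20328 (iv D15910)
def n20329 : Q := act 6 n15900
theorem D20329 : act 6 n15900 = n20329 := rfl
theorem F91905 : act 1 n20329 = n15947 := d13_1 D20329 (iv D15947) (iv F72561)
theorem F91906 : act 3 n20329 = n15901 := d26_1 D20329 (iv D15901) D15900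
theorem F91907 : act 8 n20329 = n15911 := d40_2 (iv F72563) D20329 (iv D15911)
def n20330 : Q := act 5 n15901
theorem D20330 : act 5 n15901 = n20330 := rfl
theorem F91908 : act 1 n20330 = n15948 := d12_1 D20330 (iv D15948) (iv F72564)
theorem F91909 : act 2 n20330 = n16954 := d19_1 D20330 (iv D16954) (iv F72565)
def n20331 : Q := act 7 n15901
theorem D20331 : act 7 n15901 = n20331 := rfl
theorem F91910 : act 1 n20331 = n15949 := d14_1 D20331 (iv D15949) (iv F72564)
theorem F91911 : act 2 n20331 = n16955 := d21_1 D20331 (iv D16955) (iv F72565)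
theorem F91912 : act 4 n20331 = n15902 := d32_1 D20331 (iv D15902) (iv F72566)
theorem F91913 : act 6 n20331 = n15909 := d39_1 D20331 (iv D15909) (iv D12370) (iv F57089) D15901
theorem F91914 : act 8 n20331 = n15913 := d42_2 (iv F72567) D20331 (iv D15913)
def n20332 : Q := act 2 n15903
theorem D20332 : act 2 n15903 = n20332 := rfl
theorem F91915 : act 3 n20332 = n16956 := d17_2 D15903 D20332 (iv D16956) (iv D13161) (iv F57095)
theorem F91916 : act 8 n20332 = n16121 := d22_2 (iv F72573) D20332 (iv D16121)
theorem F91917 : act 9 n20332 = n15906 := d23_2 (iv F72574) D20332 (iv D15906)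
def n20333 : Q := act 6 n15903
theorem D20333 : act 6 n15903 = n20333 := rfl
theorem F91918 : act 1 n20333 = n15951 := d13_1 D20333 (iv D15951) (iv F72572)
theorem F91919 : act 3 n20333 = n15904 := d26_1 D20333 (iv D15904) D15903
theorem F91920 : act 8 n20333 = n16122 := d40_2 (iv F72573) D20333 (iv D16122)
theorem F91921 : act 9 n20333 = n15907 := d41_2 (iv F72574) D20333 (iv D15907)
def n20334 : Q := act 5 n15904
theorem D20334 : act 5 n15904 = n20334 := rfl
theorem F91922 : act 1 n20334 = n15952 := d12_1 D20334 (iv D15952) (iv F72575)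
theorem F91923 : act 2 n20334 = n16958 := d19_1 D20334 (iv D16958) (iv F72576)
theorem F91924 : act 9 n20334 = n15908 := d38_2 (iv F72579) D20334 (iv D15908)
def n20335 : Q := act 7 n15904
theorem D20335 : act 7 n15904 = n20335 := rfl
theorem F91925 : act 1 n20335 = n15953 := d14_1 D20335 (iv D15953) (iv F72575)
theorem F91926 : act 2 n20335 = n16959 := d21_1 D20335 (iv D16959) (iv F72576)
theorem F91927 : act 4 n20335 = n15905 := d32_1 D20335 (iv D15905) (iv F72577)
theorem F91928 : act 8 n20335 = n16124 := d42_2 (iv F72578) D20335 (iv D16124)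
theorem F91929 : act 9 n20335 = n15909 := d43_2 (iv F72579) D20335 (iv D15909)
def n20336 : Q := act 1 n15906
theorem D20336 : act 1 n15906 = n20336 := rfl
theorem F91930 : act 2 n20336 = n15954 := d9_2 D15906 D20336 (iv D15954) (iv D12402) (iv F57102)
theorem F91932 : act 8 n20336 = n15914 := d15_2 (iv F72585) D20336 (iv D15914)
def n20337 : Q := act 6 n15906
theorem D20337 : act 6 n15906 = n20337 := rfl
theorem F91933 : act 2 n20337 = n15907 := d20_1 D20337 (iv D15907) D15906
theorem F91934 : act 3 n20337 = n16961 := d26_1 D20337 (iv D16961) (iv F72584)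
theorem F91935 : act 8 n20337 = n15915 := d40_2 (iv F72585) D20337 (iv D15915)
def n20338 : Q := act 5 n15907
theorem D20338 : act 5 n15907 = n20338 := rfl
theorem F91936 : act 1 n20338 = n15956 := d12_1 D20338 (iv D15956) (iv F72586)
theorem F91937 : act 3 n20338 = n15908 := d25_1 D20338 (iv D15908) (iv F72587)
def n20339 : Q := act 7 n15907
theorem D20339 : act 7 n15907 = n20339 := rfl
theorem F91938 : act 1 n20339 = n15957 := d14_1 D20339 (iv D15957) (iv F72586)
theorem F91939 : act 3 n20339 = n15909 := d27_1 D20339 (iv D15909) (iv F72587)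
theorem F91940 : act 8 n20339 = n15917 := d42_2 (iv F72588) D20339 (iv D15917)
def n20340 : Q := act 7 n15908
theorem D20340 : act 7 n15908 = n20340 := rfl
theorem F91941 : act 1 n20340 = n15958 := d14_1 D20340 (iv D15958) (iv F72589)
theorem F91942 : act 2 n20340 = n16964 := d21_1 D20340 (iv D16964) (iv F72590)
theorem F91943 : act 5 n20340 = n15909 := d36_1 D20340 (iv D15909) D15908
def n20341 : Q := act 8 n15908
theorem D20341 : act 8 n15908 = n20341 := rfl
theorem F91944 : act 1 n20341 = n15959 := d15_1 D20341 (iv D15959) (iv F72589)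
theorem F91945 : act 2 n20341 = n16965 := d22_1 D20341 (iv D16965) (iv F72590)
theorem F91946 : act 5 n20341 = n15919 := d37_1 D20341 (iv D15919) (iv D12377) (iv F57107) D15908
def n20342 : Q := act 1 n15910
theorem D20342 : act 1 n15910 = n20342 := rfl
theorem F91947 : act 2 n20342 = n15960 := d9_2 D15910 D20342 (iv D15960) (iv D12406) (iv F57111)
theorem F91949 : act 5 n20342 = n16317 := d12_2 (iv F72596) D20342 (iv D16317)
def n20343 : Q := act 6 n15910
theorem D20343 : act 6 n15910 = n20343 := rfl
theorem F91952 : act 2 n20343 = n15911 := d20_1 D20343 (iv D15911) D15910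
theorem F91954 : act 9 n20343 = n16132 := d41_2 (iv F72598) D20343 (iv D16132)
def n20344 : Q := act 5 n15911
theorem D20344 : act 5 n15911 = n20344 := rfl
theorem F91956 : act 3 n20344 = n15912 := d25_1 D20344 (iv D15912) (iv F72600)
theorem F91958 : act 9 n20344 = n16133 := d38_2 (iv F72601) D20344 (iv D16133)
def n20345 : Q := act 7 n15911
theorem D20345 : act 7 n15911 = n20345 := rfl
theorem F91959 : act 1 n20345 = n15963 := d14_1 D20345 (iv D15963) (iv F72599)
theorem F91960 : act 3 n20345 = n15913 := d27_1 D20345 (iv D15913) (iv F72600)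
theorem F91961 : act 6 n20345 = n15917 := d39_1 D20345 (iv D15917) (iv D12376) (iv F57113) D15911
theorem F91962 : act 9 n20345 = n16134 := d43_2 (iv F72601) D20345 (iv D16134)
def n20346 : Q := act 7 n15912
theorem D20346 : act 7 n15912 = n20346 := rfl
theorem F91963 : act 1 n20346 = n15964 := d14_1 D20346 (iv D15964) (iv F72602)
theorem F91965 : act 4 n20346 = n20346 := d32_1 D20346 (iv D20346) F72604
theorem F91966 : act 5 n20346 = n15913 := d36_1 D20346 (iv D15913) D15912
theorem F91967 : act 9 n20346 = n16135 := d43_2 (iv F72606) D20346 (iv D16135)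
def n20347 : Q := act 8 n15912
theorem D20347 : act 8 n15912 = n20347 := rfl
theorem F91968 : act 1 n20347 = n15965 := d15_1 D20347 (iv D15965) (iv F72602)
theorem F91970 : act 4 n20347 = n20347 := d33_1 D20347 (iv D20347) F72604
theorem F91971 : act 6 n20347 = n16322 := d40_1 D20347 (iv D16322) (iv F72605)
def n20349 : Q := act 6 n15914
theorem D20349 : act 6 n15914 = n20349 := rfl
theorem F91976 : act 1 n20349 = n15915 := d13_1 D20349 (iv D15915) D15914
theorem F91977 : act 2 n20349 = n15967 := d20_1 D20349 (iv D15967) (iv F72612)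
theorem F91978 : act 3 n20349 = n16973 := d26_1 D20349 (iv D16973) (iv F72613)
def n20350 : Q := act 5 n15915
theorem D20350 : act 5 n15915 = n20350 := rfl
theorem F91980 : act 2 n20350 = n15916 := d19_1 D20350 (iv D15916) (iv F72616)
def n20351 : Q := act 7 n15915
theorem D20351 : act 7 n15915 = n20351 := rfl
theorem F91984 : act 2 n20351 = n15917 := d21_1 D20351 (iv D15917) (iv F72616)
theorem F91985 : act 3 n20351 = n16975 := d27_1 D20351 (iv D16975) (iv F72617)
theorem F91986 : act 9 n20351 = n16140 := d43_2 (iv F72618) D20351 (iv D16140)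
def n20352 : Q := act 4 n15916
theorem D20352 : act 4 n15916 = n20352 := rfl
theorem F91987 : act 1 n20352 = n15970 := d11_1 D20352 (iv D15970) (iv F72619)
theorem F91989 : act 6 n20352 = n16327 := d31_2 (iv F72621) D20352 (iv D16327)
theorem F91990 : act 9 n20352 = n16141 := d34_2 (iv F72622) D20352 (iv D16141)
def n20353 : Q := act 7 n15916
theorem D20353 : act 7 n15916 = n20353 := rfl
theorem F91991 : act 1 n20353 = n15971 := d14_1 D20353 (iv D15971) (iv F72619)
theorem F91992 : act 3 n20353 = n15918 := d27_1 D20353 (iv D15918) (iv F72620)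
theorem F91993 : act 5 n20353 = n15917 := d36_1 D20353 (iv D15917) D15916
theorem F91994 : act 9 n20353 = n16142 := d43_2 (iv F72622) D20353 (iv D16142)
def n20354 : Q := act 8 n15916
theorem D20354 : act 8 n15916 = n20354 := rfl
theorem F91995 : act 1 n20354 = n15972 := d15_1 D20354 (iv D15972) (iv F72619)
theorem F91996 : act 3 n20354 = n15919 := d28_1 D20354 (iv D15919) (iv F72620)
def n20355 : Q := act 6 n15918
theorem D20355 : act 6 n15918 = n20355 := rfl
theorem F91998 : act 1 n20355 = n15973 := d13_1 D20355 (iv D15973) (iv F72626)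
theorem F92000 : act 4 n20355 = n15925 := d31_1 D20355 (iv D15925) (iv F72628)
theorem F92001 : act 7 n20355 = n16330 := d39_2 D15918 D20355 (iv D16330) (iv D12686) (iv F57133)
def n20356 : Q := act 8 n15918
theorem D20356 : act 8 n15918 = n20356 := rfl
theorem F92003 : act 1 n20356 = n15974 := d15_1 D20356 (iv D15974) (iv F72626)
theorem F92004 : act 2 n20356 = n16980 := d22_1 D20356 (iv D16980) (iv F72627)
theorem F92005 : act 4 n20356 = n15926 := d33_1 D20356 (iv D15926) (iv F72628)
theorem F92006 : act 7 n20356 = n15919 := d42_1 D20356 (iv D15919) D15918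
def n20357 : Q := act 9 n15919
theorem D20357 : act 9 n15919 = n20357 := rfl
theorem F92007 : act 1 n20357 = n15975 := d16_1 D20357 (iv D15975) (iv F72631)
def n20361 : Q := act 7 n15922
theorem D20361 : act 7 n15922 = n20361 := rfl
theorem F92025 : act 1 n20361 = n15976 := d14_1 D20361 (iv D15976) (iv F72645)
theorem F92027 : act 9 n20361 = n16150 := d43_2 (iv F72647) D20361 (iv D16150)
def n20362 : Q := act 8 n15922
theorem D20362 : act 8 n15922 = n20362 := rfl
theorem F92028 : act 1 n20362 = n15977 := d15_1 D20362 (iv D15977) (iv F72645)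
theorem F92030 : act 6 n20362 = n16337 := d40_1 D20362 (iv D16337) (iv F72646)
def n20363 : Q := act 6 n15923
theorem D20363 : act 6 n15923 = n20363 := rfl
theorem F92032 : act 3 n20363 = n15925 := d26_1 D20363 (iv D15925) (iv F72649)
theorem F92034 : act 7 n20363 = n16338 := d39_2 D15923 D20363 (iv D16338) (iv D12691) (iv F57145)
def n20364 : Q := act 8 n15923
theorem D20364 : act 8 n15923 = n20364 := rfl
theorem F92036 : act 1 n20364 = n15979 := d15_1 D20364 (iv D15979) (iv F72648)
theorem F92037 : act 3 n20364 = n15926 := d28_1 D20364 (iv D15926) (iv F72649)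
def n20366 : Q := act 8 n15925
theorem D20366 : act 8 n15925 = n20366 := rfl
theorem F92043 : act 1 n20366 = n15981 := d15_1 D20366 (iv D15981) (iv F72655)
theorem F92045 : act 6 n20366 = n15926 := d40_1 D20366 (iv D15926) D15925
theorem F92046 : act 7 n20366 = n16341 := d42_1 D20366 (iv D16341) (iv F72658)
def n20367 : Q := act 9 n15926
theorem D20367 : act 9 n15926 = n20367 := rfl
theorem F92047 : act 1 n20367 = n15982 := d16_1 D20367 (iv D15982) (iv F72660)
def n20368 : Q := act 3 n15928
theorem D20368 : act 3 n15928 = n20368 := rfl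
theorem F92051 : act 4 n20368 = n15936 := d24_2 D15928 D20368 (iv D15936) (iv D12389) (iv F57159)
theorem F92052 : act 8 n20368 = n20368 := d28_2 F72668 D20368 (iv D20368)
theorem F92053 : act 9 n20368 = n15930 := d29_2 (iv F72669) D20368 (iv D15930)
def n20369 : Q := act 6 n15928
theorem D20369 : act 6 n15928 = n20369 := rfl
theorem F92054 : act 2 n20369 = n20369 := d20_1 D20369 (iv D20369) F72667
theorem F92055 : act 4 n20369 = n15929 := d31_1 D20369 (iv D15929) D15928
theorem F92056 : act 8 n20369 = n20369 := d40_2 F72668 D20369 (iv D20369)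
theorem F92057 : act 9 n20369 = n15931 := d41_2 (iv F72669) D20369 (iv D15931)
def n20370 : Q := act 7 n15929
theorem D20370 : act 7 n15929 = n20370 := rfl
theorem F92058 : act 2 n20370 = n20370 := d21_1 D20370 (iv D20370) F72670
theorem F92059 : act 3 n20370 = n15938 := d27_1 D20370 (iv D15938) (iv F72671)
theorem F92060 : act 8 n20370 = n20370 := d42_2 F72672 D20370 (iv D20370)
theorem F92061 : act 9 n20370 = n15932 := d43_2 (iv F72673) D20370 (iv D15932)
def n20371 : Q := act 2 n15930
theorem D20371 : act 2 n15930 = n20371 := rfl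
theorem F92062 : act 3 n20371 = n20371 := d17_2 D15930 D20371 (iv D20371) (iv D15930) F57162
theorem F92063 : act 4 n20371 = n15939 := d18_2 (iv F72674) D20371 (iv D15939)
theorem F92064 : act 8 n20371 = n16343 := d22_2 (iv F72675) D20371 (iv D16343)
def n20372 : Q := act 6 n15930
theorem D20372 : act 6 n15930 = n20372 := rfl
theorem F92065 : act 3 n20372 = n15931 := d26_1 D20372 (iv D15931) D15930
theorem F92066 : act 4 n20372 = n15940 := d31_1 D20372 (iv D15940) (iv F72674)
theorem F92067 : act 8 n20372 = n16344 := d40_2 (iv F72675) D20372 (iv D16344)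
def n20373 : Q := act 5 n15931
theorem D20373 : act 5 n15931 = n20373 := rfl
theorem F92068 : act 2 n20373 = n20373 := d19_1 D20373 (iv D20373) F72676
def n20374 : Q := act 7 n15931
theorem D20374 : act 7 n15931 = n20374 := rfl
theorem F92069 : act 2 n20374 = n20374 := d21_1 D20374 (iv D20374) F72676
theorem F92070 : act 4 n20374 = n15932 := d32_1 D20374 (iv D15932) (iv F72677)
theorem F92071 : act 8 n20374 = n16346 := d42_2 (iv F72678) D20374 (iv D16346)
def n20375 : Q := act 2 n15933
theorem D20375 : act 2 n15933 = n20375 := rfl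
theorem F92072 : act 3 n20375 = n15986 := d17_2 D15933 D20375 (iv D15986) (iv D12424) (iv F57167)
theorem F92073 : act 5 n20375 = n15946 := d19_2 (iv F72682) D20375 (iv D15946)
theorem F92074 : act 7 n20375 = n15939 := d21_2 (iv F72683) D20375 (iv D15939)
def n20376 : Q := act 6 n15933
theorem D20376 : act 6 n15933 = n20376 := rfl
theorem F92076 : act 3 n20376 = n15934 := d26_1 D20376 (iv D15934) D15933
theorem F92077 : act 8 n20376 = n16348 := d40_2 (iv F72684) D20376 (iv D16348)
def n20377 : Q := act 5 n15934
theorem D20377 : act 5 n15934 = n20377 := rfl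
theorem F92078 : act 2 n20377 = n15988 := d19_1 D20377 (iv D15988) (iv F72685)
theorem F92079 : act 6 n20377 = n15948 := d35_2 D15934 D20377 (iv D15948) (iv D12397) (iv F57168)
def n20378 : Q := act 7 n15934
theorem D20378 : act 7 n15934 = n20378 := rfl
theorem F92080 : act 2 n20378 = n15989 := d21_1 D20378 (iv D15989) (iv F72685)
theorem F92081 : act 4 n20378 = n15935 := d32_1 D20378 (iv D15935) (iv F72686)
theorem F92082 : act 6 n20378 = n15942 := d39_1 D20378 (iv D15942) (iv D12392) (iv F57169) D15934
theorem F92083 : act 8 n20378 = n16350 := d42_2 (iv F72687) D20378 (iv D16350)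
def n20379 : Q := act 2 n15936
theorem D20379 : act 2 n15936 = n20379 := rfl
theorem F92084 : act 3 n20379 = n15990 := d17_2 D15936 D20379 (iv D15990) (iv D12427) (iv F57173)
theorem F92085 : act 5 n20379 = n15950 := d19_2 (iv F72691) D20379 (iv D15950)
theorem F92086 : act 8 n20379 = n20379 := d22_2 F72692 D20379 (iv D20379)
theorem F92087 : act 9 n20379 = n15939 := d23_2 (iv F72693) D20379 (iv D15939)
def n20380 : Q := act 6 n15936
theorem D20380 : act 6 n15936 = n20380 := rfl
theorem F92088 : act 3 n20380 = n15937 := d26_1 D20380 (iv D15937) D15936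
theorem F92089 : act 8 n20380 = n20380 := d40_2 F72692 D20380 (iv D20380)
theorem F92090 : act 9 n20380 = n15940 := d41_2 (iv F72693) D20380 (iv D15940)
def n20381 : Q := act 5 n15937
theorem D20381 : act 5 n15937 = n20381 := rfl
theorem F92091 : act 2 n20381 = n15992 := d19_1 D20381 (iv D15992) (iv F72694)
theorem F92092 : act 6 n20381 = n15952 := d35_2 D15937 D20381 (iv D15952) (iv D12400) (iv F57174)
theorem F92093 : act 9 n20381 = n15941 := d38_2 (iv F72697) D20381 (iv D15941)
def n20382 : Q := act 7 n15937
theorem D20382 : act 7 n15937 = n20382 := rfl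
theorem F92094 : act 2 n20382 = n15993 := d21_1 D20382 (iv D15993) (iv F72694)
theorem F92095 : act 4 n20382 = n15938 := d32_1 D20382 (iv D15938) (iv F72695)
theorem F92096 : act 8 n20382 = n20382 := d42_2 F72696 D20382 (iv D20382)
theorem F92097 : act 9 n20382 = n15942 := d43_2 (iv F72697) D20382 (iv D15942)
def n20383 : Q := act 1 n15939
theorem D20383 : act 1 n15939 = n20383 := rfl
theorem F92098 : act 3 n20383 = n15994 := d10_2 (iv F72701) D20383 (iv D15994)
theorem F92099 : act 5 n20383 = n15954 := d12_2 (iv F72702) D20383 (iv D15954)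
theorem F92100 : act 8 n20383 = n16351 := d15_2 (iv F72703) D20383 (iv D16351)
def n20384 : Q := act 6 n15939
theorem D20384 : act 6 n15939 = n20384 := rfl
theorem F92101 : act 2 n20384 = n15940 := d20_1 D20384 (iv D15940) D15939
theorem F92102 : act 3 n20384 = n15995 := d26_1 D20384 (iv D15995) (iv F72701)
theorem F92103 : act 8 n20384 = n16352 := d40_2 (iv F72703) D20384 (iv D16352)
def n20385 : Q := act 5 n15940
theorem D20385 : act 5 n15940 = n20385 := rfl
theorem F92104 : act 3 n20385 = n15941 := d25_1 D20385 (iv D15941) (iv F72704)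
theorem F92105 : act 6 n20385 = n15956 := d35_2 D15940 D20385 (iv D15956) (iv D12403) (iv F57180)
def n20386 : Q := act 7 n15940
theorem D20386 : act 7 n15940 = n20386 := rfl
theorem F92106 : act 3 n20386 = n15942 := d27_1 D20386 (iv D15942) (iv F72704)
theorem F92107 : act 8 n20386 = n16354 := d42_2 (iv F72705) D20386 (iv D16354)
def n20387 : Q := act 7 n15941
theorem D20387 : act 7 n15941 = n20387 := rfl
theorem F92108 : act 2 n20387 = n15998 := d21_1 D20387 (iv D15998) (iv F72706)
theorem F92109 : act 5 n20387 = n15942 := d36_1 D20387 (iv D15942) D15941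
def n20388 : Q := act 8 n15941
theorem D20388 : act 8 n15941 = n20388 := rfl
theorem F92110 : act 2 n20388 = n15999 := d22_1 D20388 (iv D15999) (iv F72706)
theorem F92111 : act 5 n20388 = n16356 := d37_1 D20388 (iv D16356) (iv D12704) (iv F57184) D15941
theorem F92112 : act 6 n20388 = n15959 := d40_1 D20388 (iv D15959) (iv F72707)
def n20389 : Q := act 2 n15943
theorem D20389 : act 2 n15943 = n20389 := rfl
theorem F92113 : act 3 n20389 = n16000 := d17_2 D15943 D20389 (iv D16000) (iv D12434) (iv F57187)
theorem F92114 : act 8 n20389 = n20389 := d22_2 F72711 D20389 (iv D20389)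
def n20390 : Q := act 6 n15943
theorem D20390 : act 6 n15943 = n20390 := rfl
theorem F92115 : act 3 n20390 = n15944 := d26_1 D20390 (iv D15944) D15943
theorem F92116 : act 8 n20390 = n20390 := d40_2 F72711 D20390 (iv D20390)
def n20391 : Q := act 5 n15944
theorem D20391 : act 5 n15944 = n20391 := rfl
theorem F92117 : act 2 n20391 = n16002 := d19_1 D20391 (iv D16002) (iv F72712)
theorem F92118 : act 4 n20391 = n15948 := d30_1 D20391 (iv D15948) F57195 (iv F57190) (iv F72713)
def n20392 : Q := act 7 n15944
theorem D20392 : act 7 n15944 = n20392 := rfl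
theorem F92119 : act 2 n20392 = n16003 := d21_1 D20392 (iv D16003) (iv F72712)
theorem F92120 : act 4 n20392 = n15945 := d32_1 D20392 (iv D15945) (iv F72713)
theorem F92121 : act 8 n20392 = n20392 := d42_2 F72714 D20392 (iv D20392)
def n20393 : Q := act 1 n15946
theorem D20393 : act 1 n15946 = n20393 := rfl
theorem F92123 : act 7 n20393 = n15954 := d14_2 (iv F72719) D20393 (iv D15954)
theorem F92124 : act 8 n20393 = n15960 := d15_2 (iv F72720) D20393 (iv D15960)
def n20394 : Q := act 6 n15946
theorem D20394 : act 6 n15946 = n20394 := rfl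
theorem F92125 : act 2 n20394 = n15947 := d20_1 D20394 (iv D15947) D15946
theorem F92127 : act 8 n20394 = n15961 := d40_2 (iv F72720) D20394 (iv D15961)
def n20395 : Q := act 5 n15947
theorem D20395 : act 5 n15947 = n20395 := rfl
theorem F92128 : act 3 n20395 = n15948 := d25_1 D20395 (iv D15948) (iv F72721)
def n20396 : Q := act 7 n15947
theorem D20396 : act 7 n15947 = n20396 := rfl
theorem F92129 : act 3 n20396 = n15949 := d27_1 D20396 (iv D15949) (iv F72721)
theorem F92130 : act 6 n20396 = n15957 := d39_1 D20396 (iv D15957) (iv D12403) (iv F57192) D15947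
theorem F92131 : act 8 n20396 = n15963 := d42_2 (iv F72722) D20396 (iv D15963)
def n20397 : Q := act 7 n15948
theorem D20397 : act 7 n15948 = n20397 := rfl
theorem F92132 : act 2 n20397 = n16008 := d21_1 D20397 (iv D16008) (iv F72723)
theorem F92133 : act 5 n20397 = n15949 := d36_1 D20397 (iv D15949) D15948
def n20398 : Q := act 8 n15948
theorem D20398 : act 8 n15948 = n20398 := rfl
theorem F92134 : act 2 n20398 = n16009 := d22_1 D20398 (iv D16009) (iv F72723)
theorem F92135 : act 5 n20398 = n15965 := d37_1 D20398 (iv D15965) (iv D12408) (iv F57196) D15948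
def n20399 : Q := act 1 n15950
theorem D20399 : act 1 n15950 = n20399 := rfl
theorem F92136 : act 3 n20399 = n16010 := d10_2 (iv F72728) D20399 (iv D16010)
theorem F92137 : act 8 n20399 = n16157 := d15_2 (iv F72729) D20399 (iv D16157)
theorem F92138 : act 9 n20399 = n15954 := d16_2 (iv F72730) D20399 (iv D15954)
def n20400 : Q := act 6 n15950
theorem D20400 : act 6 n15950 = n20400 := rfl
theorem F92139 : act 2 n20400 = n15951 := d20_1 D20400 (iv D15951) D15950
theorem F92140 : act 3 n20400 = n16011 := d26_1 D20400 (iv D16011) (iv F72728)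
theorem F92141 : act 8 n20400 = n16158 := d40_2 (iv F72729) D20400 (iv D16158)
theorem F92142 : act 9 n20400 = n15955 := d41_2 (iv F72730) D20400 (iv D15955)
def n20401 : Q := act 5 n15951
theorem D20401 : act 5 n15951 = n20401 := rfl
theorem F92143 : act 3 n20401 = n15952 := d25_1 D20401 (iv D15952) (iv F72731)
theorem F92144 : act 9 n20401 = n15956 := d38_2 (iv F72733) D20401 (iv D15956)
def n20402 : Q := act 7 n15951
theorem D20402 : act 7 n15951 = n20402 := rfl
theorem F92145 : act 3 n20402 = n15953 := d27_1 D20402 (iv D15953) (iv F72731)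
theorem F92146 : act 8 n20402 = n16160 := d42_2 (iv F72732) D20402 (iv D16160)
theorem F92147 : act 9 n20402 = n15957 := d43_2 (iv F72733) D20402 (iv D15957)
def n20403 : Q := act 7 n15952
theorem D20403 : act 7 n15952 = n20403 := rfl
theorem F92148 : act 2 n20403 = n16014 := d21_1 D20403 (iv D16014) (iv F72734)
theorem F92149 : act 5 n20403 = n15953 := d36_1 D20403 (iv D15953) D15952
theorem F92150 : act 9 n20403 = n15958 := d43_2 (iv F72735) D20403 (iv D15958)
def n20404 : Q := act 8 n15952
theorem D20404 : act 8 n15952 = n20404 := rfl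
theorem F92151 : act 2 n20404 = n16015 := d22_1 D20404 (iv D16015) (iv F72734)
theorem F92152 : act 5 n20404 = n16162 := d37_1 D20404 (iv D16162) (iv D12551) (iv F57204) D15952
def n20405 : Q := act 0 n15954
theorem D20405 : act 0 n15954 = n20405 := rfl
theorem F92154 : act 8 n20405 = n15966 := d7_2 (iv F72741) D20405 (iv D15966)
def n20406 : Q := act 6 n15954
theorem D20406 : act 6 n15954 = n20406 := rfl
theorem F92155 : act 1 n20406 = n15955 := d13_1 D20406 (iv D15955) D15954
theorem F92156 : act 3 n20406 = n16017 := d26_1 D20406 (iv D16017) (iv F72740)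
theorem F92157 : act 8 n20406 = n15967 := d40_2 (iv F72741) D20406 (iv D15967)
def n20407 : Q := act 5 n15955
theorem D20407 : act 5 n15955 = n20407 := rfl
theorem F92158 : act 2 n20407 = n15956 := d19_1 D20407 (iv D15956) (iv F72742)
theorem F92159 : act 3 n20407 = n16018 := d25_1 D20407 (iv D16018) (iv F72743)
def n20408 : Q := act 7 n15955
theorem D20408 : act 7 n15955 = n20408 := rfl
theorem F92160 : act 2 n20408 = n15957 := d21_1 D20408 (iv D15957) (iv F72742)
theorem F92161 : act 3 n20408 = n16019 := d27_1 D20408 (iv D16019) (iv F72743)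
theorem F92162 : act 8 n20408 = n15969 := d42_2 (iv F72744) D20408 (iv D15969)
def n20409 : Q := act 4 n15956
theorem D20409 : act 4 n15956 = n20409 := rfl
def n20410 : Q := act 7 n15956
theorem D20410 : act 7 n15956 = n20410 := rfl
theorem F92163 : act 3 n20410 = n15958 := d27_1 D20410 (iv D15958) (iv F72745)
theorem F92164 : act 5 n20410 = n15957 := d36_1 D20410 (iv D15957) D15956
def n20411 : Q := act 8 n15956
theorem D20411 : act 8 n15956 = n20411 := rfl
theorem F92165 : act 3 n20411 = n15959 := d28_1 D20411 (iv D15959) (iv F72745)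
theorem F92166 : act 5 n20411 = n15972 := d37_1 D20411 (iv D15972) (iv D12412) (iv F57212) D15956
def n20412 : Q := act 6 n15958
theorem D20412 : act 6 n15958 = n20412 := rfl
theorem F92167 : act 2 n20412 = n16023 := d20_1 D20412 (iv D16023) (iv F72748)
def n20413 : Q := act 8 n15958
theorem D20413 : act 8 n15958 = n20413 := rfl
theorem F92168 : act 2 n20413 = n16024 := d22_1 D20413 (iv D16024) (iv F72748)
theorem F92169 : act 5 n20413 = n15974 := d37_1 D20413 (iv D15974) F57244 (iv F57216) (iv F72749)
theorem F92170 : act 7 n20413 = n15959 := d42_1 D20413 (iv D15959) D15958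
def n20414 : Q := act 9 n15959
theorem D20414 : act 9 n15959 = n20414 := rfl
theorem F92171 : act 2 n20414 = n16025 := d23_1 D20414 (iv D16025) (iv F72750)
theorem F92172 : act 5 n20414 = n15975 := d38_1 D20414 (iv D15975) (iv F72751)
def n20416 : Q := act 6 n15960
theorem D20416 : act 6 n15960 = n20416 := rfl
def n20418 : Q := act 7 n15961
theorem D20418 : act 7 n15961 = n20418 := rfl
def n20420 : Q := act 7 n15962
theorem D20420 : act 7 n15962 = n20420 := rfl
theorem F92191 : act 3 n20420 = n15964 := d27_1 D20420 (iv D15964) (iv F72759)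
def n20421 : Q := act 8 n15962
theorem D20421 : act 8 n15962 = n20421 := rfl
def n20422 : Q := act 6 n15964
theorem D20422 : act 6 n15964 = n20422 := rfl
theorem F92196 : act 2 n20422 = n16033 := d20_1 D20422 (iv D16033) (iv F72765)
theorem F92197 : act 4 n20422 = n20422 := d31_1 D20422 (iv D20422) F72766
theorem F92198 : act 5 n20422 = n15973 := d35_1 D20422 (iv D15973) F57244 (iv F57229) (iv F72767)
theorem F92200 : act 9 n20422 = n16180 := d41_2 (iv F72768) D20422 (iv D16180)
def n20423 : Q := act 8 n15964
theorem D20423 : act 8 n15964 = n20423 := rfl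
theorem F92201 : act 2 n20423 = n16034 := d22_1 D20423 (iv D16034) (iv F72765)
theorem F92202 : act 4 n20423 = n20423 := d33_1 D20423 (iv D20423) F72766
theorem F92203 : act 7 n20423 = n15965 := d42_1 D20423 (iv D15965) D15964
def n20424 : Q := act 9 n15965
theorem D20424 : act 9 n15965 = n20424 := rfl
theorem F92204 : act 2 n20424 = n16035 := d23_1 D20424 (iv D16035) (iv F72769)
theorem F92205 : act 4 n20424 = n20424 := d34_1 D20424 (iv D20424) F72770
theorem F92206 : act 6 n20424 = n16386 := d41_1 D20424 (iv D16386) (iv F72771)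
theorem F92207 : act 8 n20424 = n16182 := d44_1 D20424 (iv D16182) (iv D12564) (iv F57226) D15965
def n20425 : Q := act 6 n15966
theorem D20425 : act 6 n15966 = n20425 := rfl
theorem F92208 : act 0 n20425 = n15967 := d5_1 D20425 (iv D15967) D15966
def n20426 : Q := act 5 n15967
theorem D20426 : act 5 n15967 = n20426 := rfl
theorem F92211 : act 1 n20426 = n15968 := d12_1 D20426 (iv D15968) (iv F72775)
theorem F92212 : act 3 n20426 = n16037 := d25_1 D20426 (iv D16037) (iv F72776)
theorem F92214 : act 9 n20426 = n16184 := d38_2 (iv F72777) D20426 (iv D16184)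
def n20427 : Q := act 7 n15967
theorem D20427 : act 7 n15967 = n20427 := rfl
theorem F92215 : act 1 n20427 = n15969 := d14_1 D20427 (iv D15969) (iv F72775)
theorem F92217 : act 9 n20427 = n16185 := d43_2 (iv F72777) D20427 (iv D16185)
def n20428 : Q := act 4 n15968
theorem D20428 : act 4 n15968 = n20428 := rfl
theorem F92218 : act 2 n20428 = n15970 := d18_1 D20428 (iv D15970) (iv F72778)
theorem F92219 : act 3 n20428 = n20428 := d24_1 D20428 (iv D20428) F72779 F57400 (iv F72779)
theorem F92220 : act 6 n20428 = n16390 := d31_2 (iv F72780) D20428 (iv D16390)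
theorem F92221 : act 9 n20428 = n16186 := d34_2 (iv F72781) D20428 (iv D16186)
def n20429 : Q := act 7 n15968
theorem D20429 : act 7 n15968 = n20429 := rfl
theorem F92222 : act 2 n20429 = n15971 := d21_1 D20429 (iv D15971) (iv F72778)
theorem F92223 : act 3 n20429 = n16039 := d27_1 D20429 (iv D16039) (iv F72779)
theorem F92224 : act 5 n20429 = n15969 := d36_1 D20429 (iv D15969) D15968
theorem F92225 : act 9 n20429 = n16187 := d43_2 (iv F72781) D20429 (iv D16187)
def n20430 : Q := act 8 n15968
theorem D20430 : act 8 n15968 = n20430 := rfl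
theorem F92226 : act 2 n20430 = n15972 := d22_1 D20430 (iv D15972) (iv F72778)
theorem F92227 : act 3 n20430 = n16040 := d28_1 D20430 (iv D16040) (iv F72779)
theorem F92228 : act 6 n20430 = n16392 := d40_1 D20430 (iv D16392) (iv F72780)
def n20431 : Q := act 7 n15970
theorem D20431 : act 7 n15970 = n20431 := rfl
theorem F92229 : act 3 n20431 = n15976 := d27_1 D20431 (iv D15976) (iv F72785)
theorem F92230 : act 4 n20431 = n15971 := d32_1 D20431 (iv D15971) D15970
theorem F92231 : act 9 n20431 = n16189 := d43_2 (iv F72787) D20431 (iv D16189)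
def n20432 : Q := act 8 n15970
theorem D20432 : act 8 n15970 = n20432 := rfl
theorem F92232 : act 3 n20432 = n15977 := d28_1 D20432 (iv D15977) (iv F72785)
theorem F92233 : act 4 n20432 = n15972 := d33_1 D20432 (iv D15972) D15970
theorem F92234 : act 6 n20432 = n16394 := d40_1 D20432 (iv D16394) (iv F72786)
def n20433 : Q := act 6 n15971
theorem D20433 : act 6 n15971 = n20433 := rfl
theorem F92235 : act 3 n20433 = n15973 := d26_1 D20433 (iv D15973) (iv F72788)
theorem F92236 : act 7 n20433 = n16395 := d39_2 D15971 D20433 (iv D16395) (iv D12730) (iv F57238)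
def n20434 : Q := act 8 n15971
theorem D20434 : act 8 n15971 = n20434 := rfl
theorem F92238 : act 3 n20434 = n15974 := d28_1 D20434 (iv D15974) (iv F72788)
theorem F92239 : act 7 n20434 = n15972 := d42_1 D20434 (iv D15972) D15971
def n20435 : Q := act 9 n15972
theorem D20435 : act 9 n15972 = n20435 := rfl
theorem F92240 : act 3 n20435 = n15975 := d29_1 D20435 (iv D15975) (iv F72791)
theorem F92241 : act 6 n20435 = n16397 := d41_1 D20435 (iv D16397) (iv F72792)
theorem F92242 : act 8 n20435 = n16193 := d44_1 D20435 (iv D16193) (iv D12571) (iv F57239) D15972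
def n20436 : Q := act 8 n15973
theorem D20436 : act 8 n15973 = n20436 := rfl
theorem F92243 : act 2 n20436 = n16044 := d22_1 D20436 (iv D16044) (iv F72793)
theorem F92244 : act 4 n20436 = n15981 := d33_1 D20436 (iv D15981) (iv F72794)
theorem F92245 : act 6 n20436 = n15974 := d40_1 D20436 (iv D15974) D15973
theorem F92246 : act 7 n20436 = n16398 := d42_1 D20436 (iv D16398) (iv F72795)
def n20437 : Q := act 9 n15974
theorem D20437 : act 9 n15974 = n20437 := rfl
theorem F92247 : act 2 n20437 = n16045 := d23_1 D20437 (iv D16045) (iv F72797)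
theorem F92248 : act 4 n20437 = n15982 := d34_1 D20437 (iv D15982) (iv F72798)
theorem F92249 : act 7 n20437 = n15975 := d43_1 D20437 (iv D15975) (iv F72799)
theorem F92250 : act 8 n20437 = n16195 := d44_1 D20437 (iv D16195) (iv D12573) (iv F57245) D15974
def n20438 : Q := act 6 n15976
theorem D20438 : act 6 n15976 = n20438 := rfl
theorem F92254 : act 9 n20438 = n16196 := d41_2 (iv F72806) D20438 (iv D16196)
def n20439 : Q := act 8 n15976
theorem D20439 : act 8 n15976 = n20439 := rfl
theorem F92255 : act 2 n20439 = n20439 := d22_1 D20439 (iv D20439) F72804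
theorem F92256 : act 4 n20439 = n15979 := d33_1 D20439 (iv D15979) (iv F72805)
theorem F92257 : act 7 n20439 = n15977 := d42_1 D20439 (iv D15977) D15976
def n20440 : Q := act 5 n15977
theorem D20440 : act 5 n15977 = n20440 := rfl
theorem F92258 : act 2 n20440 = n20440 := d19_1 D20440 (iv D20440) F72807
def n20441 : Q := act 9 n15977
theorem D20441 : act 9 n15977 = n20441 := rfl
def n20442 : Q := act 8 n15978
theorem D20442 : act 8 n15978 = n20442 := rfl
theorem F92264 : act 3 n20442 = n15981 := d28_1 D20442 (iv D15981) (iv F72811)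
theorem F92265 : act 6 n20442 = n15979 := d40_1 D20442 (iv D15979) D15978
def n20443 : Q := act 9 n15979
theorem D20443 : act 9 n15979 = n20443 := rfl
theorem F92268 : act 3 n20443 = n15982 := d29_1 D20443 (iv D15982) (iv F72816)
def n20444 : Q := act 5 n15981
theorem D20444 : act 5 n15981 = n20444 := rfl
theorem F92271 : act 2 n20444 = n16046 := d19_1 D20444 (iv D16046) (iv F72822)
theorem F92273 : act 8 n20444 = n20444 := d37_2 D15981 D20444 (iv D20444) (iv D15981) F57260
def n20445 : Q := act 9 n15981
theorem D20445 : act 9 n15981 = n20445 := rfl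
theorem F92274 : act 2 n20445 = n16047 := d23_1 D20445 (iv D16047) (iv F72822)
theorem F92275 : act 6 n20445 = n15982 := d41_1 D20445 (iv D15982) (iv F72823)
theorem F92277 : act 8 n20445 = n16203 := d44_1 D20445 (iv D16203) (iv D12580) (iv F57262) D15981
def n20446 : Q := act 2 n15983
theorem D20446 : act 2 n15983 = n20446 := rfl
theorem F92278 : act 4 n20446 = n20446 := d18_2 F72829 D20446 (iv D20446)
theorem F92279 : act 5 n20446 = n16000 := d19_2 (iv F72830) D20446 (iv D16000)
theorem F92280 : act 7 n20446 = n16956 := d21_2 (iv F72831) D20446 (iv D16956)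
theorem F92282 : act 9 n20446 = n16952 := d23_2 (iv F72833) D20446 (iv D16952)
def n20447 : Q := act 6 n15983
theorem D20447 : act 6 n15983 = n20447 := rfl
theorem F92283 : act 1 n20447 = n17007 := d13_1 D20447 (iv D17007) (iv F72828)
theorem F92284 : act 3 n20447 = n15984 := d26_1 D20447 (iv D15984) D15983
theorem F92285 : act 4 n20447 = n20447 := d31_1 D20447 (iv D20447) F72829
theorem F92287 : act 9 n20447 = n16953 := d41_2 (iv F72833) D20447 (iv D16953)
def n20448 : Q := act 5 n15984
theorem D20448 : act 5 n15984 = n20448 := rfl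
theorem F92288 : act 1 n20448 = n17008 := d12_1 D20448 (iv D17008) (iv F72834)
theorem F92289 : act 4 n20448 = n15988 := d30_1 D20448 (iv D15988) F57284 (iv F57275) (iv F72835)
theorem F92290 : act 6 n20448 = n16002 := d35_2 D15984 D20448 (iv D16002) (iv D12435) (iv F57269)
theorem F92291 : act 9 n20448 = n16954 := d38_2 (iv F72837) D20448 (iv D16954)
def n20449 : Q := act 7 n15984
theorem D20449 : act 7 n15984 = n20449 := rfl
theorem F92292 : act 1 n20449 = n17009 := d14_1 D20449 (iv D17009) (iv F72834)
theorem F92293 : act 4 n20449 = n15985 := d32_1 D20449 (iv D15985) (iv F72835)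
theorem F92294 : act 6 n20449 = n16959 := d39_1 D20449 (iv D16959) (iv D13162) (iv F57270) D15984
theorem F92295 : act 8 n20449 = n17269 := d42_2 (iv F72836) D20449 (iv D17269)
theorem F92296 : act 9 n20449 = n16955 := d43_2 (iv F72837) D20449 (iv D16955)
def n20450 : Q := act 1 n15986
theorem D20450 : act 1 n15986 = n20450 := rfl
theorem F92300 : act 7 n20450 = n15994 := d14_2 (iv F72846) D20450 (iv D15994)
def n20451 : Q := act 6 n15986
theorem D20451 : act 6 n15986 = n20451 := rfl
theorem F92302 : act 2 n20451 = n15987 := d20_1 D20451 (iv D15987) D15986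
theorem F92303 : act 4 n20451 = n20451 := d31_1 D20451 (iv D20451) F72844
def n20452 : Q := act 5 n15987
theorem D20452 : act 5 n15987 = n20452 := rfl
theorem F92306 : act 3 n20452 = n15988 := d25_1 D20452 (iv D15988) (iv F72849)
theorem F92307 : act 6 n20452 = n16006 := d35_2 D15987 D20452 (iv D16006) (iv D12438) (iv F57280)
def n20453 : Q := act 7 n15987
theorem D20453 : act 7 n15987 = n20453 := rfl
theorem F92308 : act 1 n20453 = n17066 := d14_1 D20453 (iv D17066) (iv F72848)
theorem F92309 : act 3 n20453 = n15989 := d27_1 D20453 (iv D15989) (iv F72849)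
theorem F92310 : act 4 n20453 = n20453 := d32_1 D20453 (iv D20453) F72850
theorem F92311 : act 6 n20453 = n15997 := d39_1 D20453 (iv D15997) (iv D12431) (iv F57281) D15987
theorem F92312 : act 8 n20453 = n16415 := d42_2 (iv F72851) D20453 (iv D16415)
def n20454 : Q := act 7 n15988
theorem D20454 : act 7 n15988 = n20454 := rfl
theorem F92313 : act 1 n20454 = n17067 := d14_1 D20454 (iv D17067) (iv F72852)
theorem F92314 : act 5 n20454 = n15989 := d36_1 D20454 (iv D15989) D15988
def n20455 : Q := act 8 n15988
theorem D20455 : act 8 n15988 = n20455 := rfl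
theorem F92316 : act 5 n20455 = n16417 := d37_1 D20455 (iv D16417) (iv D12747) (iv F57285) D15988
theorem F92317 : act 6 n20455 = n16009 := d40_1 D20455 (iv D16009) (iv F72853)
def n20456 : Q := act 1 n15990
theorem D20456 : act 1 n15990 = n20456 := rfl
theorem F92318 : act 2 n20456 = n17069 := d9_2 D15990 D20456 (iv D17069) (iv D13240) (iv F57290)
theorem F92319 : act 4 n20456 = n20456 := d11_2 F72858 D20456 (iv D20456)
theorem F92320 : act 5 n20456 = n16010 := d12_2 (iv F72859) D20456 (iv D16010)
theorem F92321 : act 8 n20456 = n20456 := d15_2 F72860 D20456 (iv D20456)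
theorem F92322 : act 9 n20456 = n15994 := d16_2 (iv F72861) D20456 (iv D15994)
def n20457 : Q := act 6 n15990
theorem D20457 : act 6 n15990 = n20457 := rfl
theorem F92323 : act 2 n20457 = n15991 := d20_1 D20457 (iv D15991) D15990
theorem F92324 : act 4 n20457 = n20457 := d31_1 D20457 (iv D20457) F72858
theorem F92325 : act 8 n20457 = n20457 := d40_2 F72860 D20457 (iv D20457)
theorem F92326 : act 9 n20457 = n15995 := d41_2 (iv F72861) D20457 (iv D15995)
def n20458 : Q := act 5 n15991
theorem D20458 : act 5 n15991 = n20458 := rfl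
theorem F92327 : act 1 n20458 = n17071 := d12_1 D20458 (iv D17071) (iv F72862)
theorem F92328 : act 3 n20458 = n15992 := d25_1 D20458 (iv D15992) (iv F72863)
theorem F92329 : act 6 n20458 = n16012 := d35_2 D15991 D20458 (iv D16012) (iv D12442) (iv F57292)
theorem F92330 : act 9 n20458 = n15996 := d38_2 (iv F72866) D20458 (iv D15996)
def n20459 : Q := act 7 n15991
theorem D20459 : act 7 n15991 = n20459 := rfl
theorem F92331 : act 1 n20459 = n17072 := d14_1 D20459 (iv D17072) (iv F72862)
theorem F92332 : act 3 n20459 = n15993 := d27_1 D20459 (iv D15993) (iv F72863)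
theorem F92333 : act 4 n20459 = n20459 := d32_1 D20459 (iv D20459) F72864
theorem F92334 : act 8 n20459 = n20459 := d42_2 F72865 D20459 (iv D20459)
theorem F92335 : act 9 n20459 = n15997 := d43_2 (iv F72866) D20459 (iv D15997)
def n20460 : Q := act 7 n15992
theorem D20460 : act 7 n15992 = n20460 := rfl
theorem F92336 : act 1 n20460 = n17073 := d14_1 D20460 (iv D17073) (iv F72867)
theorem F92337 : act 5 n20460 = n15993 := d36_1 D20460 (iv D15993) D15992
theorem F92338 : act 9 n20460 = n15998 := d43_2 (iv F72869) D20460 (iv D15998)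
def n20461 : Q := act 8 n15992
theorem D20461 : act 8 n15992 = n20461 := rfl
theorem F92339 : act 1 n20461 = n17074 := d15_1 D20461 (iv D17074) (iv F72867)
theorem F92340 : act 5 n20461 = n20461 := d37_1 D20461 (iv D20461) (iv D15992) F57297 D15992
theorem F92341 : act 6 n20461 = n16015 := d40_1 D20461 (iv D16015) (iv F72868)
def n20462 : Q := act 0 n15994
theorem D20462 : act 0 n15994 = n20462 := rfl
theorem F92344 : act 5 n20462 = n16016 := d4_2 (iv F72876) D20462 (iv D16016)
def n20463 : Q := act 6 n15994
theorem D20463 : act 6 n15994 = n20463 := rfl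
theorem F92346 : act 1 n20463 = n15995 := d13_1 D20463 (iv D15995) D15994
theorem F92347 : act 2 n20463 = n17076 := d20_1 D20463 (iv D17076) (iv F72874)
theorem F92348 : act 4 n20463 = n20463 := d31_1 D20463 (iv D20463) F72875
def n20464 : Q := act 5 n15995
theorem D20464 : act 5 n15995 = n20464 := rfl
theorem F92350 : act 2 n20464 = n15996 := d19_1 D20464 (iv D15996) (iv F72878)
theorem F92351 : act 6 n20464 = n16018 := d35_2 D15995 D20464 (iv D16018) (iv D12446) (iv F57304)
def n20465 : Q := act 7 n15995
theorem D20465 : act 7 n15995 = n20465 := rfl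
theorem F92352 : act 2 n20465 = n15997 := d21_1 D20465 (iv D15997) (iv F72878)
theorem F92353 : act 4 n20465 = n20465 := d32_1 D20465 (iv D20465) F72879
theorem F92354 : act 8 n20465 = n16421 := d42_2 (iv F72880) D20465 (iv D16421)
def n20466 : Q := act 4 n15996
theorem D20466 : act 4 n15996 = n20466 := rfl
theorem F92355 : act 1 n20466 = n17079 := d11_1 D20466 (iv D17079) (iv F72881)
theorem F92356 : act 5 n20466 = n20466 := d30_2 D15996 D20466 (iv D20466) (iv D15996) F57308
theorem F92357 : act 6 n20466 = n16020 := d31_2 (iv F72883) D20466 (iv D16020)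
def n20467 : Q := act 7 n15996
theorem D20467 : act 7 n15996 = n20467 := rfl
theorem F92358 : act 1 n20467 = n17080 := d14_1 D20467 (iv D17080) (iv F72881)
theorem F92359 : act 3 n20467 = n15998 := d27_1 D20467 (iv D15998) (iv F72882)
theorem F92360 : act 5 n20467 = n15997 := d36_1 D20467 (iv D15997) D15996
def n20468 : Q := act 8 n15996
theorem D20468 : act 8 n15996 = n20468 := rfl
theorem F92361 : act 1 n20468 = n17081 := d15_1 D20468 (iv D17081) (iv F72881)
theorem F92362 : act 3 n20468 = n15999 := d28_1 D20468 (iv D15999) (iv F72882)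
theorem F92363 : act 5 n20468 = n16424 := d37_1 D20468 (iv D16424) (iv D12751) (iv F57309) D15996
theorem F92364 : act 6 n20468 = n16022 := d40_1 D20468 (iv D16022) (iv F72883)
def n20469 : Q := act 6 n15998
theorem D20469 : act 6 n15998 = n20469 := rfl
theorem F92365 : act 1 n20469 = n17082 := d13_1 D20469 (iv D17082) (iv F72888)
theorem F92366 : act 7 n20469 = n16023 := d39_2 D15998 D20469 (iv D16023) (iv D12449) (iv F57311)
def n20470 : Q := act 8 n15998
theorem D20470 : act 8 n15998 = n20470 := rfl
theorem F92367 : act 1 n20470 = n17083 := d15_1 D20470 (iv D17083) (iv F72888)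
theorem F92368 : act 5 n20470 = n16426 := d37_1 D20470 (iv D16426) F58460 (iv F57314) (iv F72889)
theorem F92369 : act 7 n20470 = n15999 := d42_1 D20470 (iv D15999) D15998
def n20471 : Q := act 9 n15999
theorem D20471 : act 9 n15999 = n20471 := rfl
theorem F92370 : act 1 n20471 = n17084 := d16_1 D20471 (iv D17084) (iv F72890)
theorem F92371 : act 5 n20471 = n16427 := d38_1 D20471 (iv D16427) (iv F72891)
theorem F92372 : act 6 n20471 = n16025 := d41_1 D20471 (iv D16025) (iv F72892)
def n20472 : Q := act 1 n16000
theorem D20472 : act 1 n16000 = n20472 := rfl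
theorem F92373 : act 2 n20472 = n17085 := d9_2 D16000 D20472 (iv D17085) (iv D13250) (iv F57315)
theorem F92374 : act 4 n20472 = n16048 := d11_2 (iv F72893) D20472 (iv D16048)
theorem F92375 : act 8 n20472 = n20472 := d15_2 F72894 D20472 (iv D20472)
def n20473 : Q := act 6 n16000
theorem D20473 : act 6 n16000 = n20473 := rfl
theorem F92376 : act 2 n20473 = n16001 := d20_1 D20473 (iv D16001) D16000
theorem F92377 : act 4 n20473 = n16049 := d31_1 D20473 (iv D16049) (iv F72893)
theorem F92378 : act 8 n20473 = n20473 := d40_2 F72894 D20473 (iv D20473)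
def n20474 : Q := act 5 n16001
theorem D20474 : act 5 n16001 = n20474 := rfl
theorem F92379 : act 1 n20474 = n17087 := d12_1 D20474 (iv D17087) (iv F72895)
theorem F92380 : act 3 n20474 = n16002 := d25_1 D20474 (iv D16002) (iv F72896)
def n20475 : Q := act 7 n16001
theorem D20475 : act 7 n16001 = n20475 := rfl
theorem F92381 : act 1 n20475 = n17088 := d14_1 D20475 (iv D17088) (iv F72895)
theorem F92382 : act 3 n20475 = n16003 := d27_1 D20475 (iv D16003) (iv F72896)
theorem F92383 : act 4 n20475 = n16051 := d32_1 D20475 (iv D16051) (iv F72897)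
theorem F92384 : act 8 n20475 = n20475 := d42_2 F72898 D20475 (iv D20475)
def n20476 : Q := act 7 n16002
theorem D20476 : act 7 n16002 = n20476 := rfl
theorem F92385 : act 1 n20476 = n17089 := d14_1 D20476 (iv D17089) (iv F72899)
theorem F92386 : act 4 n20476 = n16008 := d32_1 D20476 (iv D16008) (iv F72900)
theorem F92387 : act 5 n20476 = n16003 := d36_1 D20476 (iv D16003) D16002
def n20477 : Q := act 8 n16002
theorem D20477 : act 8 n16002 = n20477 := rfl
theorem F92389 : act 4 n20477 = n16009 := d33_1 D20477 (iv D16009) (iv F72900)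
theorem F92390 : act 5 n20477 = n20477 := d37_1 D20477 (iv D20477) (iv D16002) F57320 D16002
def n20480 : Q := act 5 n16005
theorem D20480 : act 5 n16005 = n20480 := rfl
def n20482 : Q := act 4 n16006
theorem D20482 : act 4 n16006 = n20482 := rfl
theorem F92405 : act 5 n20482 = n16058 := d30_2 D16006 D20482 (iv D16058) (iv D12474) (iv F57330)
def n20483 : Q := act 7 n16006
theorem D20483 : act 7 n16006 = n20483 := rfl
theorem F92407 : act 3 n20483 = n16008 := d27_1 D20483 (iv D16008) (iv F72912)
theorem F92408 : act 5 n20483 = n16007 := d36_1 D20483 (iv D16007) D16006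
def n20485 : Q := act 6 n16008
theorem D20485 : act 6 n16008 = n20485 := rfl
theorem F92412 : act 1 n20485 = n17104 := d13_1 D20485 (iv D17104) (iv F72918)
theorem F92413 : act 5 n20485 = n16023 := d35_1 D20485 (iv D16023) F57364 (iv F57335) (iv F72919)
def n20486 : Q := act 8 n16008
theorem D20486 : act 8 n16008 = n20486 := rfl
theorem F92415 : act 5 n20486 = n16034 := d37_1 D20486 (iv D16034) F57386 (iv F57336) (iv F72919)
theorem F92416 : act 7 n20486 = n16009 := d42_1 D20486 (iv D16009) D16008
def n20487 : Q := act 9 n16009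
theorem D20487 : act 9 n16009 = n20487 := rfl
theorem F92418 : act 5 n20487 = n16035 := d38_1 D20487 (iv D16035) (iv F72921)
def n20488 : Q := act 0 n16010
theorem D20488 : act 0 n16010 = n20488 := rfl
theorem F92419 : act 2 n20488 = n17107 := d1_2 (iv F72922) D20488 (iv D17107)
theorem F92421 : act 8 n20488 = n16204 := d7_2 (iv F72924) D20488 (iv D16204)
theorem F92422 : act 9 n20488 = n16016 := d8_2 (iv F72925) D20488 (iv D16016)
def n20489 : Q := act 6 n16010
theorem D20489 : act 6 n16010 = n20489 := rfl
theorem F92423 : act 1 n20489 = n16011 := d13_1 D20489 (iv D16011) D16010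
theorem F92424 : act 2 n20489 = n17108 := d20_1 D20489 (iv D17108) (iv F72922)
theorem F92425 : act 4 n20489 = n16064 := d31_1 D20489 (iv D16064) (iv F72923)
theorem F92426 : act 8 n20489 = n16205 := d40_2 (iv F72924) D20489 (iv D16205)
theorem F92427 : act 9 n20489 = n16017 := d41_2 (iv F72925) D20489 (iv D16017)
def n20490 : Q := act 5 n16011
theorem D20490 : act 5 n16011 = n20490 := rfl
theorem F92428 : act 2 n20490 = n16012 := d19_1 D20490 (iv D16012) (iv F72926)
theorem F92429 : act 9 n20490 = n16018 := d38_2 (iv F72929) D20490 (iv D16018)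
def n20491 : Q := act 7 n16011
theorem D20491 : act 7 n16011 = n20491 := rfl
theorem F92430 : act 2 n20491 = n16013 := d21_1 D20491 (iv D16013) (iv F72926)
theorem F92431 : act 4 n20491 = n16066 := d32_1 D20491 (iv D16066) (iv F72927)
theorem F92432 : act 8 n20491 = n16207 := d42_2 (iv F72928) D20491 (iv D16207)
theorem F92433 : act 9 n20491 = n16019 := d43_2 (iv F72929) D20491 (iv D16019)
def n20492 : Q := act 4 n16012
theorem D20492 : act 4 n16012 = n20492 := rfl
theorem F92434 : act 1 n20492 = n17111 := d11_1 D20492 (iv D17111) (iv F72930)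
theorem F92435 : act 5 n20492 = n16067 := d30_2 D16012 D20492 (iv D16067) (iv D12480) (iv F57342)
theorem F92436 : act 9 n20492 = n16020 := d34_2 (iv F72932) D20492 (iv D16020)
def n20493 : Q := act 7 n16012
theorem D20493 : act 7 n16012 = n20493 := rfl
theorem F92437 : act 1 n20493 = n17112 := d14_1 D20493 (iv D17112) (iv F72930)
theorem F92438 : act 3 n20493 = n16014 := d27_1 D20493 (iv D16014) (iv F72931)
theorem F92439 : act 5 n20493 = n16013 := d36_1 D20493 (iv D16013) D16012
theorem F92440 : act 9 n20493 = n16021 := d43_2 (iv F72932) D20493 (iv D16021)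
def n20494 : Q := act 8 n16012
theorem D20494 : act 8 n16012 = n20494 := rfl
theorem F92441 : act 1 n20494 = n17113 := d15_1 D20494 (iv D17113) (iv F72930)
theorem F92442 : act 3 n20494 = n16015 := d28_1 D20494 (iv D16015) (iv F72931)
theorem F92443 : act 5 n20494 = n16210 := d37_1 D20494 (iv D16210) (iv D12584) (iv F57343) D16012
def n20495 : Q := act 6 n16014
theorem D20495 : act 6 n16014 = n20495 := rfl
theorem F92444 : act 1 n20495 = n17114 := d13_1 D20495 (iv D17114) (iv F72938)
theorem F92445 : act 9 n20495 = n16023 := d41_2 (iv F72940) D20495 (iv D16023)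
def n20496 : Q := act 8 n16014
theorem D20496 : act 8 n16014 = n20496 := rfl
theorem F92446 : act 1 n20496 = n17115 := d15_1 D20496 (iv D17115) (iv F72938)
theorem F92447 : act 5 n20496 = n16212 := d37_1 D20496 (iv D16212) F57827 (iv F57349) (iv F72939)
theorem F92448 : act 7 n20496 = n16015 := d42_1 D20496 (iv D16015) D16014
def n20497 : Q := act 9 n16015
theorem D20497 : act 9 n16015 = n20497 := rfl
theorem F92449 : act 1 n20497 = n17116 := d16_1 D20497 (iv D17116) (iv F72941)
theorem F92450 : act 5 n20497 = n16213 := d38_1 D20497 (iv D16213) (iv F72942)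
theorem F92451 : act 8 n20497 = n16025 := d44_1 D20497 (iv D16025) (iv D12450) (iv F57346) D16015
def n20498 : Q := act 6 n16016
theorem D20498 : act 6 n16016 = n20498 := rfl
theorem F92452 : act 0 n20498 = n16017 := d5_1 D20498 (iv D16017) D16016
def n20499 : Q := act 5 n16017
theorem D20499 : act 5 n16017 = n20499 := rfl
theorem F92456 : act 1 n20499 = n16018 := d12_1 D20499 (iv D16018) (iv F72946)
theorem F92457 : act 2 n20499 = n17118 := d19_1 D20499 (iv D17118) (iv F72947)
def n20500 : Q := act 7 n16017
theorem D20500 : act 7 n16017 = n20500 := rfl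
def n20501 : Q := act 4 n16018
theorem D20501 : act 4 n16018 = n20501 := rfl
theorem F92462 : act 2 n20501 = n16020 := d18_1 D20501 (iv D16020) (iv F72950)
theorem F92463 : act 5 n20501 = n16075 := d30_2 D16018 D20501 (iv D16075) (iv D12486) (iv F57355)
def n20502 : Q := act 7 n16018
theorem D20502 : act 7 n16018 = n20502 := rfl
theorem F92464 : act 2 n20502 = n16021 := d21_1 D20502 (iv D16021) (iv F72950)
theorem F92465 : act 5 n20502 = n16019 := d36_1 D20502 (iv D16019) D16018
def n20503 : Q := act 8 n16018
theorem D20503 : act 8 n16018 = n20503 := rfl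
theorem F92466 : act 2 n20503 = n16022 := d22_1 D20503 (iv D16022) (iv F72950)
theorem F92467 : act 5 n20503 = n16040 := d37_1 D20503 (iv D16040) (iv D12459) (iv F57356) D16018
def n20504 : Q := act 7 n16020
theorem D20504 : act 7 n16020 = n20504 := rfl
theorem F92468 : act 1 n20504 = n17123 := d14_1 D20504 (iv D17123) (iv F72954)
theorem F92469 : act 4 n20504 = n16021 := d32_1 D20504 (iv D16021) D16020
theorem F92470 : act 5 n20504 = n16077 := d36_1 D20504 (iv D16077) (iv F72955)
def n20505 : Q := act 8 n16020
theorem D20505 : act 8 n16020 = n20505 := rfl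
theorem F92471 : act 1 n20505 = n17124 := d15_1 D20505 (iv D17124) (iv F72954)
theorem F92472 : act 4 n20505 = n16022 := d33_1 D20505 (iv D16022) D16020
theorem F92473 : act 5 n20505 = n20505 := d37_1 D20505 (iv D20505) F72955 F57499 (iv F72955)
def n20506 : Q := act 6 n16021
theorem D20506 : act 6 n16021 = n20506 := rfl
theorem F92474 : act 1 n20506 = n17125 := d13_1 D20506 (iv D17125) (iv F72956)
theorem F92475 : act 3 n20506 = n16023 := d26_1 D20506 (iv D16023) (iv F72957)
def n20507 : Q := act 8 n16021
theorem D20507 : act 8 n16021 = n20507 := rfl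
theorem F92476 : act 1 n20507 = n17126 := d15_1 D20507 (iv D17126) (iv F72956)
theorem F92477 : act 3 n20507 = n16024 := d28_1 D20507 (iv D16024) (iv F72957)
theorem F92478 : act 5 n20507 = n16042 := d37_1 D20507 (iv D16042) F57409 (iv F57362) (iv F72958)
theorem F92479 : act 7 n20507 = n16022 := d42_1 D20507 (iv D16022) D16021
def n20508 : Q := act 9 n16022
theorem D20508 : act 9 n16022 = n20508 := rfl
theorem F92480 : act 1 n20508 = n17127 := d16_1 D20508 (iv D17127) (iv F72959)
theorem F92481 : act 3 n20508 = n16025 := d29_1 D20508 (iv D16025) (iv F72960)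
theorem F92482 : act 5 n20508 = n16043 := d38_1 D20508 (iv D16043) (iv F72961)
def n20509 : Q := act 8 n16023
theorem D20509 : act 8 n16023 = n20509 := rfl
theorem F92483 : act 1 n20509 = n17128 := d15_1 D20509 (iv D17128) (iv F72962)
theorem F92484 : act 6 n20509 = n16024 := d40_1 D20509 (iv D16024) D16023
def n20510 : Q := act 9 n16024
theorem D20510 : act 9 n16024 = n20510 := rfl
theorem F92485 : act 1 n20510 = n17129 := d16_1 D20510 (iv D17129) (iv F72963)
theorem F92486 : act 5 n20510 = n16045 := d38_1 D20510 (iv D16045) (iv F72964)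
theorem F92487 : act 7 n20510 = n16025 := d43_1 D20510 (iv D16025) (iv F72965)
def n20515 : Q := act 7 n16028
theorem D20515 : act 7 n16028 = n20515 := rfl
theorem F92506 : act 5 n20515 = n16029 := d36_1 D20515 (iv D16029) D16028
def n20519 : Q := act 6 n16031
theorem D20519 : act 6 n16031 = n20519 := rfl
theorem F92520 : act 3 n20519 = n16033 := d26_1 D20519 (iv D16033) (iv F72990)
theorem F92521 : act 5 n20519 = n16041 := d35_1 D20519 (iv D16041) F57409 (iv F57382) (iv F72991)
theorem F92522 : act 7 n20519 = n16464 := d39_2 D16031 D20519 (iv D16464) (iv D12780) (iv F57377)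
def n20522 : Q := act 8 n16033
theorem D20522 : act 8 n16033 = n20522 := rfl
theorem F92531 : act 1 n20522 = n17141 := d15_1 D20522 (iv D17141) (iv F72996)
theorem F92532 : act 4 n20522 = n20522 := d33_1 D20522 (iv D20522) F72997
theorem F92533 : act 6 n20522 = n16034 := d40_1 D20522 (iv D16034) D16033
theorem F92534 : act 7 n20522 = n16467 := d42_1 D20522 (iv D16467) (iv F72999)
def n20523 : Q := act 9 n16034
theorem D20523 : act 9 n16034 = n20523 := rfl
theorem F92536 : act 4 n20523 = n20523 := d34_1 D20523 (iv D20523) F73002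
theorem F92537 : act 7 n20523 = n16035 := d43_1 D20523 (iv D16035) (iv F73003)
theorem F92538 : act 8 n20523 = n16239 := d44_1 D20523 (iv D16239) (iv D12606) (iv F57387) D16034
def n20526 : Q := act 7 n16037
theorem D20526 : act 7 n16037 = n20526 := rfl
theorem F92548 : act 1 n20526 = n16039 := d14_1 D20526 (iv D16039) (iv F73012)
theorem F92549 : act 2 n20526 = n17145 := d21_1 D20526 (iv D17145) (iv F73013)
def n20527 : Q := act 8 n16037
theorem D20527 : act 8 n16037 = n20527 := rfl
theorem F92553 : act 1 n20527 = n16040 := d15_1 D20527 (iv D16040) (iv F73012)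
theorem F92555 : act 4 n20527 = n20527 := d33_1 D20527 (iv D20527) F73014
def n20528 : Q := act 6 n16039
theorem D20528 : act 6 n16039 = n20528 := rfl
theorem F92557 : act 2 n20528 = n16041 := d20_1 D20528 (iv D16041) (iv F73021)
def n20529 : Q := act 8 n16039
theorem D20529 : act 8 n16039 = n20529 := rfl
theorem F92561 : act 2 n20529 = n16042 := d22_1 D20529 (iv D16042) (iv F73021)
theorem F92562 : act 4 n20529 = n20529 := d33_1 D20529 (iv D20529) F73022
theorem F92563 : act 7 n20529 = n16040 := d42_1 D20529 (iv D16040) D16039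
def n20530 : Q := act 9 n16040
theorem D20530 : act 9 n16040 = n20530 := rfl
theorem F92564 : act 2 n20530 = n16043 := d23_1 D20530 (iv D16043) (iv F73025)
theorem F92565 : act 4 n20530 = n20530 := d34_1 D20530 (iv D20530) F73026
theorem F92566 : act 6 n20530 = n16475 := d41_1 D20530 (iv D16475) (iv F73027)
theorem F92567 : act 8 n20530 = n16246 := d44_1 D20530 (iv D16246) (iv D12612) (iv F57402) D16040
def n20531 : Q := act 8 n16041
theorem D20531 : act 8 n16041 = n20531 := rfl
theorem F92568 : act 1 n20531 = n17150 := d15_1 D20531 (iv D17150) (iv F73028)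
theorem F92569 : act 3 n20531 = n16044 := d28_1 D20531 (iv D16044) (iv F73029)
theorem F92570 : act 4 n20531 = n20531 := d33_1 D20531 (iv D20531) F73030
theorem F92571 : act 6 n20531 = n16042 := d40_1 D20531 (iv D16042) D16041
theorem F92572 : act 7 n20531 = n16476 := d42_1 D20531 (iv D16476) (iv F73031)
def n20532 : Q := act 9 n16042
theorem D20532 : act 9 n16042 = n20532 := rfl
theorem F92573 : act 1 n20532 = n17151 := d16_1 D20532 (iv D17151) (iv F73033)
theorem F92574 : act 3 n20532 = n16045 := d29_1 D20532 (iv D16045) (iv F73034)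
theorem F92575 : act 4 n20532 = n20532 := d34_1 D20532 (iv D20532) F73035
theorem F92576 : act 7 n20532 = n16043 := d43_1 D20532 (iv D16043) (iv F73036)
theorem F92577 : act 8 n20532 = n16248 := d44_1 D20532 (iv D16248) (iv D12614) (iv F57410) D16042
def n20533 : Q := act 5 n16044
theorem D20533 : act 5 n16044 = n20533 := rfl
theorem F92579 : act 7 n20533 = n16478 := d36_2 (iv F73045) D20533 (iv D16478)
def n20534 : Q := act 9 n16044
theorem D20534 : act 9 n16044 = n20534 := rfl
theorem F92581 : act 4 n20534 = n16047 := d34_1 D20534 (iv D16047) (iv F73043)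
theorem F92582 : act 6 n20534 = n16045 := d41_1 D20534 (iv D16045) (iv F73044)
theorem F92583 : act 7 n20534 = n16479 := d43_1 D20534 (iv D16479) (iv F73045)
theorem F92584 : act 8 n20534 = n16250 := d44_1 D20534 (iv D16250) (iv D12616) (iv F57418) D16044
def n20535 : Q := act 4 n16046
theorem D20535 : act 4 n16046 = n20535 := rfl
theorem F92585 : act 1 n20535 = n17154 := d11_1 D20535 (iv D17154) (iv F73050)
theorem F92586 : act 7 n20535 = n16480 := d32_2 (iv F73052) D20535 (iv D16480)
theorem F92587 : act 8 n20535 = n20535 := d33_2 F73053 D20535 (iv D20535)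
def n20536 : Q := act 9 n16046
theorem D20536 : act 9 n16046 = n20536 := rfl
theorem F92588 : act 1 n20536 = n17155 := d16_1 D20536 (iv D17155) (iv F73050)
theorem F92589 : act 3 n20536 = n20536 := d29_1 D20536 (iv D20536) F73051
theorem F92590 : act 5 n20536 = n16047 := d38_1 D20536 (iv D16047) D16046
theorem F92591 : act 7 n20536 = n16481 := d43_1 D20536 (iv D16481) (iv F73052)
def n20537 : Q := act 0 n16048
theorem D20537 : act 0 n16048 = n20537 := rfl
theorem F92592 : act 2 n20537 = n17161 := d1_2 (iv F73059) D20537 (iv D17161)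
theorem F92593 : act 5 n20537 = n20537 := d4_2 F73060 D20537 (iv D20537)
theorem F92594 : act 8 n20537 = n20537 := d7_2 F73061 D20537 (iv D20537)
def n20538 : Q := act 6 n16048
theorem D20538 : act 6 n16048 = n20538 := rfl
theorem F92595 : act 1 n20538 = n16049 := d13_1 D20538 (iv D16049) D16048
theorem F92596 : act 2 n20538 = n17162 := d20_1 D20538 (iv D17162) (iv F73059)
theorem F92597 : act 8 n20538 = n20538 := d40_2 F73061 D20538 (iv D20538)
def n20539 : Q := act 5 n16049
theorem D20539 : act 5 n16049 = n20539 := rfl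
theorem F92598 : act 2 n20539 = n16050 := d19_1 D20539 (iv D16050) (iv F73062)
theorem F92599 : act 6 n20539 = n20539 := d35_2 D16049 D20539 (iv D20539) (iv D16049) F57434
def n20540 : Q := act 7 n16049
theorem D20540 : act 7 n16049 = n20540 := rfl
theorem F92600 : act 2 n20540 = n16051 := d21_1 D20540 (iv D16051) (iv F73062)
theorem F92601 : act 8 n20540 = n20540 := d42_2 F73063 D20540 (iv D20540)
def n20541 : Q := act 4 n16050
theorem D20541 : act 4 n16050 = n20541 := rfl
theorem F92603 : act 3 n20541 = n16058 := d24_1 D20541 (iv D16058) F57452 (iv F57440) (iv F73065)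
theorem F92604 : act 6 n20541 = n20541 := d31_2 F73066 D20541 (iv D20541)
def n20542 : Q := act 7 n16050
theorem D20542 : act 7 n16050 = n20542 := rfl
theorem F92605 : act 1 n20542 = n17166 := d14_1 D20542 (iv D17166) (iv F73064)
theorem F92606 : act 3 n20542 = n16052 := d27_1 D20542 (iv D16052) (iv F73065)
theorem F92607 : act 5 n20542 = n16051 := d36_1 D20542 (iv D16051) D16050
def n20543 : Q := act 8 n16050
theorem D20543 : act 8 n16050 = n20543 := rfl
theorem F92609 : act 3 n20543 = n16053 := d28_1 D20543 (iv D16053) (iv F73065)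
theorem F92610 : act 5 n20543 = n20543 := d37_1 D20543 (iv D20543) (iv D16050) F57438 D16050
theorem F92611 : act 6 n20543 = n20543 := d40_1 D20543 (iv D20543) F73066
theorem F92612 : act 9 n20543 = n20543 := d44_2 F84235 D20543 (iv D20543) (iv F84235) F84234
def n20544 : Q := act 6 n16052
theorem D20544 : act 6 n16052 = n20544 := rfl
theorem F92613 : act 1 n20544 = n17168 := d13_1 D20544 (iv D17168) (iv F73070)
theorem F92614 : act 4 n20544 = n16061 := d31_1 D20544 (iv D16061) (iv F73071)
theorem F92615 : act 7 n20544 = n20544 := d39_2 D16052 D20544 (iv D20544) (iv D16052) F57441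
def n20545 : Q := act 8 n16052
theorem D20545 : act 8 n16052 = n20545 := rfl
theorem F92617 : act 4 n20545 = n16062 := d33_1 D20545 (iv D16062) (iv F73071)
theorem F92618 : act 5 n20545 = n20545 := d37_1 D20545 (iv D20545) F73072 F57444 (iv F73072)
theorem F92619 : act 7 n20545 = n16053 := d42_1 D20545 (iv D16053) D16052
theorem F92620 : act 9 n20545 = n20545 := d44_2 F84247 D20545 (iv D20545) (iv F84247) F84246
def n20549 : Q := act 4 n16056
theorem D20549 : act 4 n16056 = n20549 := rfl
def n20550 : Q := act 7 n16056
theorem D20550 : act 7 n16056 = n20550 := rfl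
theorem F92634 : act 5 n20550 = n16057 := d36_1 D20550 (iv D16057) D16056
def n20552 : Q := act 7 n16058
theorem D20552 : act 7 n16058 = n20552 := rfl
theorem F92640 : act 4 n20552 = n16059 := d32_1 D20552 (iv D16059) D16058
def n20554 : Q := act 6 n16059
theorem D20554 : act 6 n16059 = n20554 := rfl
theorem F92646 : act 3 n20554 = n16061 := d26_1 D20554 (iv D16061) (iv F73093)
theorem F92647 : act 5 n20554 = n16078 := d35_1 D20554 (iv D16078) F57502 (iv F57456) (iv F73094)
theorem F92648 : act 7 n20554 = n20554 := d39_2 D16059 D20554 (iv D20554) (iv D16059) F57453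
def n20556 : Q := act 8 n16061
theorem D20556 : act 8 n16061 = n20556 := rfl
theorem F92655 : act 5 n20556 = n20556 := d37_1 D20556 (iv D20556) F73101 F57506 (iv F73101)
theorem F92656 : act 6 n20556 = n16062 := d40_1 D20556 (iv D16062) D16061
theorem F92657 : act 7 n20556 = n20556 := d42_1 D20556 (iv D20556) F73102
theorem F92658 : act 9 n20556 = n20556 := d44_2 F84691 D20556 (iv D20556) (iv F84691) F84690
def n20557 : Q := act 6 n16063
theorem D20557 : act 6 n16063 = n20557 := rfl
theorem F92659 : act 0 n20557 = n16064 := d5_1 D20557 (iv D16064) D16063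
theorem F92661 : act 8 n20557 = n16253 := d40_2 (iv F73109) D20557 (iv D16253)
def n20558 : Q := act 5 n16064
theorem D20558 : act 5 n16064 = n20558 := rfl
theorem F92663 : act 1 n20558 = n16065 := d12_1 D20558 (iv D16065) (iv F73111)
theorem F92664 : act 2 n20558 = n17189 := d19_1 D20558 (iv D17189) (iv F73112)
theorem F92665 : act 6 n20558 = n20558 := d35_2 D16064 D20558 (iv D20558) (iv D16064) F57465
theorem F92666 : act 9 n20558 = n16073 := d38_2 (iv F73114) D20558 (iv D16073)
def n20559 : Q := act 7 n16064
theorem D20559 : act 7 n16064 = n20559 := rfl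
theorem F92670 : act 9 n20559 = n16074 := d43_2 (iv F73114) D20559 (iv D16074)
def n20560 : Q := act 4 n16065
theorem D20560 : act 4 n16065 = n20560 := rfl
theorem F92671 : act 2 n20560 = n16067 := d18_1 D20560 (iv D16067) (iv F73115)
theorem F92672 : act 6 n20560 = n20560 := d31_2 F73116 D20560 (iv D20560)
theorem F92673 : act 9 n20560 = n16075 := d34_2 (iv F73117) D20560 (iv D16075)
def n20561 : Q := act 7 n16065
theorem D20561 : act 7 n16065 = n20561 := rfl
theorem F92674 : act 2 n20561 = n16068 := d21_1 D20561 (iv D16068) (iv F73115)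
theorem F92675 : act 5 n20561 = n16066 := d36_1 D20561 (iv D16066) D16065
theorem F92676 : act 9 n20561 = n16076 := d43_2 (iv F73117) D20561 (iv D16076)
def n20562 : Q := act 8 n16065
theorem D20562 : act 8 n16065 = n20562 := rfl
theorem F92678 : act 5 n20562 = n16258 := d37_1 D20562 (iv D16258) (iv D12622) (iv F57469) D16065
def n20563 : Q := act 7 n16067
theorem D20563 : act 7 n16067 = n20563 := rfl
theorem F92681 : act 1 n20563 = n17192 := d14_1 D20563 (iv D17192) (iv F73121)
theorem F92682 : act 4 n20563 = n16068 := d32_1 D20563 (iv D16068) D16067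
theorem F92683 : act 9 n20563 = n16077 := d43_2 (iv F73123) D20563 (iv D16077)
def n20564 : Q := act 8 n16067
theorem D20564 : act 8 n16067 = n20564 := rfl
theorem F92684 : act 1 n20564 = n16853 := d15_1 D20564 (iv F76168) (iv F73121)
theorem F92685 : act 4 n20564 = n16069 := d33_1 D20564 (iv D16069) D16067
theorem F92686 : act 6 n20564 = n20564 := d40_1 D20564 (iv D20564) F73122
theorem F92687 : act 9 n20564 = n20564 := d44_2 (iv F73123) D20564 (iv D20564) F73123 F57499
theorem F92688 : act 5 n16852 = n20564 := d30_0 F92685 F73130 (iv F73786) (iv F73789) (iv F76161)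
def n20565 : Q := act 6 n16068
theorem D20565 : act 6 n16068 = n20565 := rfl
theorem F92689 : act 1 n20565 = n17193 := d13_1 D20565 (iv D17193) (iv F73124)
theorem F92690 : act 3 n20565 = n16070 := d26_1 D20565 (iv D16070) (iv F73125)
theorem F92691 : act 7 n20565 = n20565 := d39_2 D16068 D20565 (iv D20565) (iv D16068) F57473
theorem F92692 : act 9 n20565 = n16078 := d41_2 (iv F73127) D20565 (iv D16078)
def n20566 : Q := act 8 n16068
theorem D20566 : act 8 n16068 = n20566 := rfl
theorem F92693 : act 1 n20566 = n17194 := d15_1 D20566 (iv D17194) (iv F73124)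
theorem F92694 : act 3 n20566 = n16071 := d28_1 D20566 (iv D16071) (iv F73125)
theorem F92695 : act 5 n20566 = n16261 := d37_1 D20566 (iv D16261) F57960 (iv F57477) (iv F73126)
theorem F92696 : act 7 n20566 = n16069 := d42_1 D20566 (iv D16069) D16068
theorem F92697 : act 9 n20566 = n20566 := d44_2 (iv F73127) D20566 (iv D20566) F73127 F57503
def n20567 : Q := act 8 n16070
theorem D20567 : act 8 n16070 = n20567 := rfl
theorem F92698 : act 1 n20567 = n17195 := d15_1 D20567 (iv D17195) (iv F73133)
theorem F92699 : act 5 n20567 = n20567 := d37_1 D20567 (iv D20567) (iv F84688) F84690 F84688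
theorem F92700 : act 6 n20567 = n16071 := d40_1 D20567 (iv D16071) D16070
theorem F92701 : act 7 n20567 = n20567 := d42_1 D20567 (iv D20567) F73134
theorem F92702 : act 9 n20567 = n20567 := d44_2 (iv F73135) D20567 (iv D20567) F73135 F57506
def n20568 : Q := act 5 n16072
theorem D20568 : act 5 n16072 = n20568 := rfl
theorem F92703 : act 0 n20568 = n16073 := d4_1 D20568 (iv D16073) (iv F73140)
def n20570 : Q := act 4 n16073
theorem D20570 : act 4 n16073 = n20570 := rfl
theorem F92710 : act 1 n20570 = n16075 := d11_1 D20570 (iv D16075) (iv F73143)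
theorem F92711 : act 2 n20570 = n17198 := d18_1 D20570 (iv D17198) (iv F73144)
theorem F92712 : act 6 n20570 = n20570 := d31_2 F73145 D20570 (iv D20570)
theorem F92713 : act 8 n20570 = n20570 := d33_2 F73146 D20570 (iv D20570)
def n20571 : Q := act 7 n16073
theorem D20571 : act 7 n16073 = n20571 := rfl
theorem F92714 : act 1 n20571 = n16076 := d14_1 D20571 (iv D16076) (iv F73143)
theorem F92716 : act 5 n20571 = n16074 := d36_1 D20571 (iv D16074) D16073
def n20572 : Q := act 3 n16075
theorem D20572 : act 3 n16075 = n20572 := rfl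
theorem F92718 : act 6 n20572 = n20572 := d26_2 F73151 D20572 (iv D20572)
theorem F92719 : act 8 n20572 = n20572 := d28_2 F73152 D20572 (iv D20572)
def n20573 : Q := act 7 n16075
theorem D20573 : act 7 n16075 = n20573 := rfl
theorem F92720 : act 2 n20573 = n16077 := d21_1 D20573 (iv D16077) (iv F73150)
theorem F92721 : act 4 n20573 = n16076 := d32_1 D20573 (iv D16076) D16075
theorem F92722 : act 8 n20573 = n20573 := d42_2 F73152 D20573 (iv D20573)
def n20574 : Q := act 6 n16076
theorem D20574 : act 6 n16076 = n20574 := rfl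
theorem F92723 : act 2 n20574 = n16078 := d20_1 D20574 (iv D16078) (iv F73153)
theorem F92724 : act 7 n20574 = n20574 := d39_2 D16076 D20574 (iv D20574) (iv D16076) F57493
theorem F92725 : act 8 n20574 = n20574 := d40_2 F73155 D20574 (iv D20574)
def n20575 : Q := act 6 n16077
theorem D20575 : act 6 n16077 = n20575 := rfl
theorem F92726 : act 1 n20575 = n17202 := d13_1 D20575 (iv D17202) (iv F73156)
theorem F92727 : act 4 n20575 = n16078 := d31_1 D20575 (iv D16078) (iv F73157)
theorem F92728 : act 7 n20575 = n20575 := d39_2 D16077 D20575 (iv D20575) (iv D16077) F57498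
theorem F92729 : act 8 n20575 = n20575 := d40_2 F73158 D20575 (iv D20575)
def n20594 : Q := act 2 n16095
theorem D20594 : act 2 n16095 = n20594 := rfl
theorem F92808 : act 0 n20594 = n16121 := d1_1 D20594 (iv D16121) (iv F73231)
theorem F92811 : act 9 n20594 = n16098 := d23_2 (iv F73233) D20594 (iv D16098)
def n20595 : Q := act 6 n16095
theorem D20595 : act 6 n16095 = n20595 := rfl
theorem F92812 : act 0 n20595 = n16122 := d5_1 D20595 (iv D16122) (iv F73231)
theorem F92813 : act 3 n20595 = n16096 := d26_1 D20595 (iv D16096) D16095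
theorem F92814 : act 9 n20595 = n16099 := d41_2 (iv F73233) D20595 (iv D16099)
def n20596 : Q := act 5 n16096
theorem D20596 : act 5 n16096 = n20596 := rfl
theorem F92815 : act 0 n20596 = n16123 := d4_1 D20596 (iv D16123) (iv F73234)
theorem F92819 : act 9 n20596 = n16100 := d38_2 (iv F73237) D20596 (iv D16100)
def n20597 : Q := act 7 n16096
theorem D20597 : act 7 n16096 = n20597 := rfl
theorem F92820 : act 0 n20597 = n16124 := d6_1 D20597 (iv D16124) (iv F73234)
theorem F92821 : act 2 n20597 = n17231 := d21_1 D20597 (iv D17231) (iv F73235)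
theorem F92822 : act 4 n20597 = n16097 := d32_1 D20597 (iv D16097) (iv F73236)
theorem F92823 : act 9 n20597 = n16101 := d43_2 (iv F73237) D20597 (iv D16101)
def n20598 : Q := act 1 n16098
theorem D20598 : act 1 n16098 = n20598 := rfl
theorem F92826 : act 8 n20598 = n16106 := d15_2 (iv F73245) D20598 (iv D16106)
def n20599 : Q := act 6 n16098
theorem D20599 : act 6 n16098 = n20599 := rfl
theorem F92827 : act 0 n20599 = n16126 := d5_1 D20599 (iv D16126) (iv F73242)
theorem F92828 : act 2 n20599 = n16099 := d20_1 D20599 (iv D16099) D16098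
theorem F92830 : act 8 n20599 = n16107 := d40_2 (iv F73245) D20599 (iv D16107)
def n20600 : Q := act 5 n16099
theorem D20600 : act 5 n16099 = n20600 := rfl
theorem F92831 : act 0 n20600 = n16127 := d4_1 D20600 (iv D16127) (iv F73246)
def n20601 : Q := act 7 n16099
theorem D20601 : act 7 n16099 = n20601 := rfl
theorem F92834 : act 0 n20601 = n16128 := d6_1 D20601 (iv D16128) (iv F73246)
theorem F92835 : act 3 n20601 = n16101 := d27_1 D20601 (iv D16101) (iv F73247)
theorem F92836 : act 8 n20601 = n16109 := d42_2 (iv F73248) D20601 (iv D16109)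
def n20602 : Q := act 7 n16100
theorem D20602 : act 7 n16100 = n20602 := rfl
theorem F92837 : act 0 n20602 = n16129 := d6_1 D20602 (iv D16129) (iv F73249)
theorem F92840 : act 5 n20602 = n16101 := d36_1 D20602 (iv D16101) D16100
def n20604 : Q := act 1 n16102
theorem D20604 : act 1 n16102 = n20604 := rfl
theorem F92847 : act 5 n20604 = n16535 := d12_2 (iv F73259) D20604 (iv D16535)
theorem F92848 : act 7 n20604 = n16106 := d14_2 (iv F73260) D20604 (iv D16106)
def n20605 : Q := act 6 n16102
theorem D20605 : act 6 n16102 = n20605 := rfl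
theorem F92850 : act 2 n20605 = n16103 := d20_1 D20605 (iv D16103) D16102
theorem F92851 : act 3 n20605 = n17239 := d26_1 D20605 (iv D17239) (iv F73258)
def n20606 : Q := act 5 n16103
theorem D20606 : act 5 n16103 = n20606 := rfl
theorem F92853 : act 3 n20606 = n16104 := d25_1 D20606 (iv D16104) (iv F73262)
def n20607 : Q := act 7 n16103
theorem D20607 : act 7 n16103 = n20607 := rfl
theorem F92855 : act 0 n20607 = n16134 := d6_1 D20607 (iv D16134) (iv F73261)
theorem F92856 : act 3 n20607 = n16105 := d27_1 D20607 (iv D16105) (iv F73262)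
theorem F92857 : act 6 n20607 = n16109 := d39_1 D20607 (iv D16109) (iv D12515) (iv F57590) D16103
def n20608 : Q := act 7 n16104
theorem D20608 : act 7 n16104 = n20608 := rfl
def n20609 : Q := act 8 n16104
theorem D20609 : act 8 n16104 = n20609 := rfl
theorem F92865 : act 6 n20609 = n16540 := d40_1 D20609 (iv D16540) (iv F73266)
def n20613 : Q := act 7 n16107
theorem D20613 : act 7 n16107 = n20613 := rfl
theorem F92875 : act 0 n20613 = n16140 := d6_1 D20613 (iv D16140) (iv F73273)
theorem F92876 : act 2 n20613 = n16109 := d21_1 D20613 (iv D16109) (iv F73274)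
def n20614 : Q := act 4 n16108
theorem D20614 : act 4 n16108 = n20614 := rfl
theorem F92880 : act 6 n20614 = n16545 := d31_2 (iv F73278) D20614 (iv D16545)
def n20615 : Q := act 7 n16108
theorem D20615 : act 7 n16108 = n20615 := rfl
theorem F92881 : act 0 n20615 = n16142 := d6_1 D20615 (iv D16142) (iv F73276)
theorem F92883 : act 5 n20615 = n16109 := d36_1 D20615 (iv D16109) D16108
def n20616 : Q := act 8 n16108
theorem D20616 : act 8 n16108 = n20616 := rfl
theorem F92886 : act 6 n20616 = n16547 := d40_1 D20616 (iv D16547) (iv F73278)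
def n20618 : Q := act 8 n16110
theorem D20618 : act 8 n16110 = n20618 := rfl
theorem F92891 : act 0 n20618 = n16145 := d7_1 D20618 (iv D16145) (iv F73281)
theorem F92894 : act 7 n20618 = n16111 := d42_1 D20618 (iv D16111) D16110
def n20619 : Q := act 9 n16111
theorem D20619 : act 9 n16111 = n20619 := rfl
def n20620 : Q := act 5 n16112
theorem D20620 : act 5 n16112 = n20620 := rfl
theorem F92901 : act 2 n20620 = n17375 := d19_1 D20620 (iv F86864) F86862
theorem F92903 : act 6 n20620 = n16551 := d35_2 D16112 D20620 (iv D16551) (iv D12849) (iv F57612)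
theorem F92904 : act 4 n17373 = n20620 := d31_3 F92903 (iv F74929) (iv F78278)
def n20622 : Q := act 4 n16113
theorem D20622 : act 4 n16113 = n20622 := rfl
theorem F92914 : act 6 n20622 = n16553 := d31_2 (iv F73296) D20622 (iv D16553)
def n20625 : Q := act 7 n16115
theorem D20625 : act 7 n16115 = n20625 := rfl
def n20626 : Q := act 8 n16115
theorem D20626 : act 8 n16115 = n20626 := rfl
theorem F92930 : act 0 n20626 = n16151 := d7_1 D20626 (iv D16151) (iv F73302)
theorem F92931 : act 1 n20626 = n17294 := d15_1 D20626 F86882 F86879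
theorem F92934 : act 6 n20626 = n16557 := d40_1 D20626 (iv D16557) (iv F73303)
theorem F92935 : act 5 n17293 = n20626 := d35_5 F92934 (iv F74959) (iv D13857) (iv F61138) D17293
def n20629 : Q := act 9 n16117
theorem D20629 : act 9 n16117 = n20629 := rfl
theorem F92947 : act 6 n20629 = n16560 := d41_1 D20629 (iv D16560) (iv F73310)
def n20631 : Q := act 9 n16119
theorem D20631 : act 9 n16119 = n20631 := rfl
theorem F92955 : act 7 n20631 = n16120 := d43_1 D20631 (iv D16120) (iv F73318)
def n20632 : Q := act 1 n16121
theorem D20632 : act 1 n16121 = n20632 := rfl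
theorem F92956 : act 2 n20632 = n16157 := d9_2 D16121 D20632 (iv D16157) (iv D12549) (iv F57633)
theorem F92958 : act 5 n20632 = n20632 := d12_2 F73324 D20632 (iv D20632)
theorem F92959 : act 9 n20632 = n16125 := d16_2 (iv F73325) D20632 (iv D16125)
def n20633 : Q := act 6 n16121
theorem D20633 : act 6 n16121 = n20633 := rfl
theorem F92960 : act 2 n20633 = n16122 := d20_1 D20633 (iv D16122) D16121
theorem F92961 : act 3 n20633 = n17277 := d26_1 D20633 (iv D17277) (iv F73323)
theorem F92962 : act 9 n20633 = n16126 := d41_2 (iv F73325) D20633 (iv D16126)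
def n20634 : Q := act 5 n16122
theorem D20634 : act 5 n16122 = n20634 := rfl
theorem F92963 : act 1 n20634 = n16159 := d12_1 D20634 (iv D16159) (iv F73326)
theorem F92964 : act 3 n20634 = n16123 := d25_1 D20634 (iv D16123) (iv F73327)
theorem F92965 : act 6 n20634 = n20634 := d35_2 D16122 D20634 (iv D20634) (iv D16122) F57634
theorem F92966 : act 9 n20634 = n16127 := d38_2 (iv F73328) D20634 (iv D16127)
def n20635 : Q := act 7 n16122
theorem D20635 : act 7 n16122 = n20635 := rfl
theorem F92967 : act 1 n20635 = n16160 := d14_1 D20635 (iv D16160) (iv F73326)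
theorem F92968 : act 3 n20635 = n16124 := d27_1 D20635 (iv D16124) (iv F73327)
theorem F92969 : act 9 n20635 = n16128 := d43_2 (iv F73328) D20635 (iv D16128)
def n20636 : Q := act 7 n16123
theorem D20636 : act 7 n16123 = n20636 := rfl
theorem F92970 : act 1 n20636 = n16161 := d14_1 D20636 (iv D16161) (iv F73329)
theorem F92971 : act 2 n20636 = n17280 := d21_1 D20636 (iv D17280) (iv F73330)
theorem F92972 : act 4 n20636 = n20636 := d32_1 D20636 (iv D20636) F73331
theorem F92973 : act 5 n20636 = n16124 := d36_1 D20636 (iv D16124) D16123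
theorem F92974 : act 9 n20636 = n16129 := d43_2 (iv F73333) D20636 (iv D16129)
def n20637 : Q := act 8 n16123
theorem D20637 : act 8 n16123 = n20637 := rfl
theorem F92975 : act 1 n20637 = n16162 := d15_1 D20637 (iv D16162) (iv F73329)
theorem F92976 : act 2 n20637 = n17281 := d22_1 D20637 (iv D17281) (iv F73330)
theorem F92977 : act 4 n20637 = n20637 := d33_1 D20637 (iv D20637) F73331
theorem F92978 : act 6 n20637 = n20637 := d40_1 D20637 (iv D20637) F73332
def n20638 : Q := act 0 n16125
theorem D20638 : act 0 n16125 = n20638 := rfl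
theorem F92979 : act 2 n20638 = n16163 := d1_2 (iv F73338) D20638 (iv D16163)
def n20639 : Q := act 6 n16125
theorem D20639 : act 6 n16125 = n20639 := rfl
theorem F92983 : act 1 n20639 = n16126 := d13_1 D20639 (iv D16126) D16125
theorem F92984 : act 2 n20639 = n16164 := d20_1 D20639 (iv D16164) (iv F73338)
theorem F92985 : act 3 n20639 = n17283 := d26_1 D20639 (iv D17283) (iv F73339)
theorem F92986 : act 8 n20639 = n16138 := d40_2 (iv F73341) D20639 (iv D16138)
def n20640 : Q := act 5 n16126
theorem D20640 : act 5 n16126 = n20640 := rfl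
theorem F92987 : act 2 n20640 = n16127 := d19_1 D20640 (iv D16127) (iv F73342)
def n20641 : Q := act 7 n16126
theorem D20641 : act 7 n16126 = n20641 := rfl
theorem F92990 : act 2 n20641 = n16128 := d21_1 D20641 (iv D16128) (iv F73342)
theorem F92991 : act 3 n20641 = n17285 := d27_1 D20641 (iv D17285) (iv F73343)
theorem F92992 : act 8 n20641 = n16140 := d42_2 (iv F73344) D20641 (iv D16140)
def n20642 : Q := act 4 n16127
theorem D20642 : act 4 n16127 = n20642 := rfl
theorem F92993 : act 1 n20642 = n16167 := d11_1 D20642 (iv D16167) (iv F73345)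
theorem F92994 : act 3 n20642 = n20642 := d24_1 D20642 (iv D20642) F73346 F57652 (iv F73346)
theorem F92995 : act 6 n20642 = n20642 := d31_2 F73347 D20642 (iv D20642)
def n20643 : Q := act 7 n16127
theorem D20643 : act 7 n16127 = n20643 := rfl
theorem F92996 : act 1 n20643 = n16168 := d14_1 D20643 (iv D16168) (iv F73345)
theorem F92997 : act 3 n20643 = n16129 := d27_1 D20643 (iv D16129) (iv F73346)
theorem F92998 : act 5 n20643 = n16128 := d36_1 D20643 (iv D16128) D16127
def n20644 : Q := act 8 n16127
theorem D20644 : act 8 n16127 = n20644 := rfl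
theorem F92999 : act 1 n20644 = n16169 := d15_1 D20644 (iv D16169) (iv F73345)
theorem F93001 : act 5 n20644 = n16143 := d37_1 D20644 (iv D16143) (iv D12537) (iv F57649) D16127
def n20645 : Q := act 6 n16129
theorem D20645 : act 6 n16129 = n20645 := rfl
theorem F93003 : act 1 n20645 = n16170 := d13_1 D20645 (iv D16170) (iv F73351)
theorem F93004 : act 2 n20645 = n17289 := d20_1 D20645 (iv D17289) (iv F73352)
theorem F93005 : act 4 n20645 = n20645 := d31_1 D20645 (iv D20645) F73353
theorem F93006 : act 7 n20645 = n20645 := d39_2 D16129 D20645 (iv D20645) (iv D16129) F57653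
def n20646 : Q := act 8 n16129
theorem D20646 : act 8 n16129 = n20646 := rfl
theorem F93007 : act 1 n20646 = n16171 := d15_1 D20646 (iv D16171) (iv F73351)
theorem F93010 : act 5 n20646 = n16145 := d37_1 D20646 (iv D16145) F57684 (iv F57657) (iv F73354)
def n20647 : Q := act 9 n16130
theorem D20647 : act 9 n16130 = n20647 := rfl
theorem F93012 : act 1 n20647 = n16172 := d16_1 D20647 (iv D16172) (iv F73355)
def n20648 : Q := act 0 n16131
theorem D20648 : act 0 n16131 = n20648 := rfl
theorem F93019 : act 5 n20648 = n16563 := d4_2 (iv F73362) D20648 (iv D16563)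
def n20649 : Q := act 6 n16131
theorem D20649 : act 6 n16131 = n20649 := rfl
theorem F93023 : act 3 n20649 = n17293 := d26_1 D20649 (iv D17293) (iv F73361)
def n20650 : Q := act 5 n16132
theorem D20650 : act 5 n16132 = n20650 := rfl
theorem F93026 : act 6 n20650 = n16565 := d35_2 D16132 D20650 (iv D16565) (iv D12859) (iv F57659)
def n20651 : Q := act 7 n16132
theorem D20651 : act 7 n16132 = n20651 := rfl
theorem F93027 : act 2 n20651 = n16134 := d21_1 D20651 (iv D16134) (iv F73364)
theorem F93029 : act 6 n20651 = n16140 := d39_1 D20651 (iv D16140) (iv D12536) (iv F57660) D16132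
def n20652 : Q := act 4 n16133
theorem D20652 : act 4 n16133 = n20652 := rfl
theorem F93032 : act 6 n20652 = n16567 := d31_2 (iv F73368) D20652 (iv D16567)
def n20653 : Q := act 7 n16133
theorem D20653 : act 7 n16133 = n20653 := rfl
theorem F93034 : act 3 n20653 = n16135 := d27_1 D20653 (iv D16135) (iv F73367)
theorem F93035 : act 5 n20653 = n16134 := d36_1 D20653 (iv D16134) D16133
def n20654 : Q := act 8 n16133
theorem D20654 : act 8 n16133 = n20654 := rfl
theorem F93037 : act 3 n20654 = n16136 := d28_1 D20654 (iv D16136) (iv F73367)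
def n20656 : Q := act 8 n16135
theorem D20656 : act 8 n16135 = n20656 := rfl
theorem F93044 : act 1 n20656 = n16181 := d15_1 D20656 (iv D16181) (iv F73372)
theorem F93046 : act 4 n20656 = n20656 := d33_1 D20656 (iv D20656) F73374
theorem F93047 : act 7 n20656 = n16136 := d42_1 D20656 (iv D16136) D16135
def n20657 : Q := act 9 n16136
theorem D20657 : act 9 n16136 = n20657 := rfl
theorem F93048 : act 1 n20657 = n16182 := d16_1 D20657 (iv D16182) (iv F73376)
theorem F93050 : act 4 n20657 = n20657 := d34_1 D20657 (iv D20657) F73378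
theorem F93051 : act 6 n20657 = n16572 := d41_1 D20657 (iv D16572) (iv F73379)
def n20659 : Q := act 5 n16138
theorem D20659 : act 5 n16138 = n20659 := rfl
theorem F93055 : act 1 n20659 = n16139 := d12_1 D20659 (iv D16139) (iv F73383)
theorem F93056 : act 2 n20659 = n16184 := d19_1 D20659 (iv D16184) (iv F73384)
theorem F93057 : act 3 n20659 = n17303 := d25_1 D20659 (iv D17303) (iv F73385)
theorem F93058 : act 6 n20659 = n16574 := d35_2 D16138 D20659 (iv D16574) (iv D12865) (iv F57673)
def n20660 : Q := act 7 n16138
theorem D20660 : act 7 n16138 = n20660 := rfl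
theorem F93059 : act 1 n20660 = n16140 := d14_1 D20660 (iv D16140) (iv F73383)
theorem F93060 : act 2 n20660 = n16185 := d21_1 D20660 (iv D16185) (iv F73384)
def n20662 : Q := act 7 n16139
theorem D20662 : act 7 n16139 = n20662 := rfl
theorem F93064 : act 2 n20662 = n16142 := d21_1 D20662 (iv D16142) (iv F73386)
theorem F93066 : act 5 n20662 = n16140 := d36_1 D20662 (iv D16140) D16139
def n20664 : Q := act 7 n16141
theorem D20664 : act 7 n16141 = n20664 := rfl
theorem F93070 : act 1 n20664 = n16189 := d14_1 D20664 (iv D16189) (iv F73391)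
theorem F93072 : act 4 n20664 = n16142 := d32_1 D20664 (iv D16142) D16141
def n20666 : Q := act 6 n16142
theorem D20666 : act 6 n16142 = n20666 := rfl
theorem F93077 : act 1 n20666 = n16191 := d13_1 D20666 (iv D16191) (iv F73394)
theorem F93079 : act 7 n20666 = n16581 := d39_2 D16142 D20666 (iv D16581) (iv D12869) (iv F57678)
def n20667 : Q := act 8 n16142
theorem D20667 : act 8 n16142 = n20667 := rfl
theorem F93080 : act 1 n20667 = n16192 := d15_1 D20667 (iv D16192) (iv F73394)
theorem F93081 : act 3 n20667 = n16145 := d28_1 D20667 (iv D16145) (iv F73395)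
def n20668 : Q := act 9 n16143
theorem D20668 : act 9 n16143 = n20668 := rfl
theorem F93083 : act 1 n20668 = n16193 := d16_1 D20668 (iv D16193) (iv F73397)
def n20669 : Q := act 8 n16144
theorem D20669 : act 8 n16144 = n20669 := rfl
theorem F93086 : act 1 n20669 = n16194 := d15_1 D20669 (iv D16194) (iv F73400)
theorem F93089 : act 6 n20669 = n16145 := d40_1 D20669 (iv D16145) D16144
theorem F93090 : act 7 n20669 = n16584 := d42_1 D20669 (iv D16584) (iv F73403)
def n20670 : Q := act 9 n16145
theorem D20670 : act 9 n16145 = n20670 := rfl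
theorem F93091 : act 1 n20670 = n16195 := d16_1 D20670 (iv D16195) (iv F73404)
def n20673 : Q := act 8 n16147
theorem D20673 : act 8 n16147 = n20673 := rfl
theorem F93108 : act 6 n20673 = n16588 := d40_1 D20673 (iv D16588) (iv F73414)
theorem F93109 : act 5 n17368 = n20673 := d35_5 F93108 (iv F75076) (iv D13893) (iv F61335) D17368
def n20677 : Q := act 6 n16150
theorem D20677 : act 6 n16150 = n20677 := rfl
theorem F93127 : act 7 n20677 = n16592 := d39_2 D16150 D20677 (iv D16592) (iv D12877) (iv F57699)
def n20678 : Q := act 8 n16150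
theorem D20678 : act 8 n16150 = n20678 := rfl
theorem F93128 : act 1 n20678 = n16197 := d15_1 D20678 (iv D16197) (iv F73424)
theorem F93130 : act 7 n20678 = n16151 := d42_1 D20678 (iv D16151) D16150
def n20679 : Q := act 5 n16151
theorem D20679 : act 5 n16151 = n20679 := rfl
theorem F93131 : act 0 n20679 = n17293 := d4_1 D20679 F92935 F92930
theorem F93132 : act 1 n20679 = n16198 := d12_1 D20679 (iv D16198) (iv F73426)
theorem F93135 : act 6 n20679 = n17292 := d35_2 (iv F73428) D20679 F77969 F75100 (iv D16594)
def n20685 : Q := act 0 n16157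
theorem D20685 : act 0 n16157 = n20685 := rfl
theorem F93156 : act 3 n20685 = n16204 := d2_2 (iv F73449) D20685 (iv D16204)
theorem F93158 : act 9 n20685 = n16163 := d8_2 (iv F73451) D20685 (iv D16163)
def n20686 : Q := act 6 n16157
theorem D20686 : act 6 n16157 = n20686 := rfl
theorem F93159 : act 1 n20686 = n16158 := d13_1 D20686 (iv D16158) D16157
theorem F93160 : act 3 n20686 = n16205 := d26_1 D20686 (iv D16205) (iv F73449)
theorem F93161 : act 9 n20686 = n16164 := d41_2 (iv F73451) D20686 (iv D16164)
def n20687 : Q := act 5 n16158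
theorem D20687 : act 5 n16158 = n20687 := rfl
theorem F93162 : act 2 n20687 = n16159 := d19_1 D20687 (iv D16159) (iv F73452)
theorem F93163 : act 3 n20687 = n16206 := d25_1 D20687 (iv D16206) (iv F73453)
theorem F93164 : act 6 n20687 = n20687 := d35_2 D16158 D20687 (iv D20687) (iv D16158) F57720
theorem F93165 : act 9 n20687 = n16165 := d38_2 (iv F73454) D20687 (iv D16165)
def n20688 : Q := act 7 n16158
theorem D20688 : act 7 n16158 = n20688 := rfl
theorem F93166 : act 2 n20688 = n16160 := d21_1 D20688 (iv D16160) (iv F73452)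
theorem F93167 : act 3 n20688 = n16207 := d27_1 D20688 (iv D16207) (iv F73453)
theorem F93168 : act 9 n20688 = n16166 := d43_2 (iv F73454) D20688 (iv D16166)
def n20689 : Q := act 4 n16159
theorem D20689 : act 4 n16159 = n20689 := rfl
theorem F93169 : act 3 n20689 = n20689 := d24_1 D20689 (iv D20689) F73455 F57725 (iv F73455)
theorem F93170 : act 6 n20689 = n20689 := d31_2 F73456 D20689 (iv D20689)
theorem F93171 : act 9 n20689 = n16167 := d34_2 (iv F73457) D20689 (iv D16167)
def n20690 : Q := act 7 n16159
theorem D20690 : act 7 n16159 = n20690 := rfl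
theorem F93172 : act 3 n20690 = n16161 := d27_1 D20690 (iv D16161) (iv F73455)
theorem F93173 : act 5 n20690 = n16160 := d36_1 D20690 (iv D16160) D16159
theorem F93174 : act 9 n20690 = n16168 := d43_2 (iv F73457) D20690 (iv D16168)
def n20691 : Q := act 8 n16159
theorem D20691 : act 8 n16159 = n20691 := rfl
theorem F93175 : act 3 n20691 = n16162 := d28_1 D20691 (iv D16162) (iv F73455)
theorem F93176 : act 6 n20691 = n20691 := d40_1 D20691 (iv D20691) F73456
def n20692 : Q := act 6 n16161
theorem D20692 : act 6 n16161 = n20692 := rfl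
theorem F93177 : act 2 n20692 = n16211 := d20_1 D20692 (iv D16211) (iv F73460)
theorem F93178 : act 4 n20692 = n20692 := d31_1 D20692 (iv D20692) F73461
theorem F93179 : act 7 n20692 = n20692 := d39_2 D16161 D20692 (iv D20692) (iv D16161) F57726
theorem F93180 : act 9 n20692 = n16170 := d41_2 (iv F73463) D20692 (iv D16170)
def n20693 : Q := act 8 n16161
theorem D20693 : act 8 n16161 = n20693 := rfl
theorem F93181 : act 2 n20693 = n16212 := d22_1 D20693 (iv D16212) (iv F73460)
theorem F93182 : act 4 n20693 = n20693 := d33_1 D20693 (iv D20693) F73461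
theorem F93183 : act 7 n20693 = n16162 := d42_1 D20693 (iv D16162) D16161
def n20694 : Q := act 9 n16162
theorem D20694 : act 9 n16162 = n20694 := rfl
theorem F93184 : act 2 n20694 = n16213 := d23_1 D20694 (iv D16213) (iv F73464)
theorem F93185 : act 4 n20694 = n20694 := d34_1 D20694 (iv D20694) F73465
theorem F93186 : act 6 n20694 = n20694 := d41_1 D20694 (iv D20694) F73466
theorem F93187 : act 8 n20694 = n16172 := d44_1 D20694 (iv D16172) (iv D12558) (iv F57727) D16162
def n20695 : Q := act 6 n16163
theorem D20695 : act 6 n16163 = n20695 := rfl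
theorem F93188 : act 0 n20695 = n16164 := d5_1 D20695 (iv D16164) D16163
theorem F93189 : act 3 n20695 = n16214 := d26_1 D20695 (iv D16214) (iv F73467)
def n20696 : Q := act 5 n16164
theorem D20696 : act 5 n16164 = n20696 := rfl
theorem F93191 : act 1 n20696 = n16165 := d12_1 D20696 (iv D16165) (iv F73470)
theorem F93192 : act 3 n20696 = n16215 := d25_1 D20696 (iv D16215) (iv F73471)
theorem F93193 : act 6 n20696 = n20696 := d35_2 D16164 D20696 (iv D20696) (iv D16164) F57732
def n20697 : Q := act 7 n16164
theorem D20697 : act 7 n16164 = n20697 := rfl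
theorem F93194 : act 1 n20697 = n16166 := d14_1 D20697 (iv D16166) (iv F73470)
theorem F93196 : act 8 n20697 = n16185 := d42_2 (iv F73472) D20697 (iv D16185)
def n20698 : Q := act 4 n16165
theorem D20698 : act 4 n16165 = n20698 := rfl
theorem F93197 : act 2 n20698 = n16167 := d18_1 D20698 (iv D16167) (iv F73473)
def n20699 : Q := act 7 n16165
theorem D20699 : act 7 n16165 = n20699 := rfl
theorem F93199 : act 2 n20699 = n16168 := d21_1 D20699 (iv D16168) (iv F73473)
theorem F93200 : act 3 n20699 = n16218 := d27_1 D20699 (iv D16218) (iv F73474)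
theorem F93201 : act 5 n20699 = n16166 := d36_1 D20699 (iv D16166) D16165
def n20700 : Q := act 8 n16165
theorem D20700 : act 8 n16165 = n20700 := rfl
theorem F93202 : act 2 n20700 = n16169 := d22_1 D20700 (iv D16169) (iv F73473)
theorem F93203 : act 3 n20700 = n16219 := d28_1 D20700 (iv D16219) (iv F73474)
theorem F93204 : act 5 n20700 = n16188 := d37_1 D20700 (iv D16188) (iv D12567) (iv F57736) D16165
theorem F93205 : act 6 n20700 = n20700 := d40_1 D20700 (iv D20700) F73475
def n20701 : Q := act 7 n16167
theorem D20701 : act 7 n16167 = n20701 := rfl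
theorem F93206 : act 3 n20701 = n20701 := d27_1 D20701 (iv D20701) F73479
theorem F93207 : act 4 n20701 = n16168 := d32_1 D20701 (iv D16168) D16167
def n20702 : Q := act 8 n16167
theorem D20702 : act 8 n16167 = n20702 := rfl
theorem F93208 : act 3 n20702 = n20702 := d28_1 D20702 (iv D20702) F73479
theorem F93209 : act 4 n20702 = n16169 := d33_1 D20702 (iv D16169) D16167
theorem F93210 : act 6 n20702 = n20702 := d40_1 D20702 (iv D20702) F73480
def n20703 : Q := act 6 n16168
theorem D20703 : act 6 n16168 = n20703 := rfl
theorem F93211 : act 3 n20703 = n16170 := d26_1 D20703 (iv D16170) (iv F73481)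
theorem F93212 : act 7 n20703 = n20703 := d39_2 D16168 D20703 (iv D20703) (iv D16168) F57738
def n20704 : Q := act 8 n16168
theorem D20704 : act 8 n16168 = n20704 := rfl
theorem F93213 : act 3 n20704 = n16171 := d28_1 D20704 (iv D16171) (iv F73481)
theorem F93214 : act 5 n20704 = n16192 := d37_1 D20704 (iv D16192) F57775 (iv F57740) (iv F73482)
theorem F93215 : act 7 n20704 = n16169 := d42_1 D20704 (iv D16169) D16168
def n20705 : Q := act 9 n16169
theorem D20705 : act 9 n16169 = n20705 := rfl
theorem F93216 : act 3 n20705 = n16172 := d29_1 D20705 (iv D16172) (iv F73483)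
theorem F93217 : act 5 n20705 = n16193 := d38_1 D20705 (iv D16193) (iv F73484)
theorem F93218 : act 6 n20705 = n20705 := d41_1 D20705 (iv D20705) F73485
def n20706 : Q := act 8 n16170
theorem D20706 : act 8 n16170 = n20706 := rfl
theorem F93219 : act 2 n20706 = n16225 := d22_1 D20706 (iv D16225) (iv F73486)
theorem F93220 : act 4 n20706 = n20706 := d33_1 D20706 (iv D20706) F73487
theorem F93221 : act 6 n20706 = n16171 := d40_1 D20706 (iv D16171) D16170
theorem F93222 : act 7 n20706 = n20706 := d42_1 D20706 (iv D20706) F73488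
def n20707 : Q := act 9 n16171
theorem D20707 : act 9 n16171 = n20707 := rfl
theorem F93223 : act 2 n20707 = n16226 := d23_1 D20707 (iv D16226) (iv F73489)
theorem F93224 : act 4 n20707 = n20707 := d34_1 D20707 (iv D20707) F73490
theorem F93225 : act 5 n20707 = n16195 := d38_1 D20707 (iv D16195) (iv F73491)
theorem F93226 : act 7 n20707 = n16172 := d43_1 D20707 (iv D16172) (iv F73492)
def n20710 : Q := act 7 n16174
theorem D20710 : act 7 n16174 = n20710 := rfl
theorem F93234 : act 6 n20710 = n16185 := d39_1 D20710 (iv D16185) (iv D12566) (iv F57750) D16174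
def n20711 : Q := act 4 n16175
theorem D20711 : act 4 n16175 = n20711 := rfl
def n20713 : Q := act 8 n16175
theorem D20713 : act 8 n16175 = n20713 := rfl
theorem F93241 : act 3 n20713 = n16232 := d28_1 D20713 (iv D16232) (iv F73503)
def n20715 : Q := act 8 n16177
theorem D20715 : act 8 n16177 = n20715 := rfl
theorem F93247 : act 6 n20715 = n16607 := d40_1 D20715 (iv D16607) (iv F73509)
def n20716 : Q := act 6 n16178
theorem D20716 : act 6 n16178 = n20716 := rfl
theorem F93248 : act 3 n20716 = n16180 := d26_1 D20716 (iv D16180) (iv F73510)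
theorem F93250 : act 7 n20716 = n16608 := d39_2 D16178 D20716 (iv D16608) (iv D12889) (iv F57754)
def n20717 : Q := act 8 n16178
theorem D20717 : act 8 n16178 = n20717 := rfl
def n20719 : Q := act 8 n16180
theorem D20719 : act 8 n16180 = n20719 := rfl
theorem F93255 : act 2 n20719 = n16238 := d22_1 D20719 (iv D16238) (iv F73514)
theorem F93256 : act 4 n20719 = n20719 := d33_1 D20719 (iv D20719) F73515
theorem F93257 : act 6 n20719 = n16181 := d40_1 D20719 (iv D16181) D16180
def n20720 : Q := act 9 n16181
theorem D20720 : act 9 n16181 = n20720 := rfl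
theorem F93259 : act 2 n20720 = n16239 := d23_1 D20720 (iv D16239) (iv F73518)
theorem F93260 : act 4 n20720 = n20720 := d34_1 D20720 (iv D20720) F73519
theorem F93261 : act 7 n20720 = n16182 := d43_1 D20720 (iv D16182) (iv F73520)
def n20722 : Q := act 7 n16183
theorem D20722 : act 7 n16183 = n20722 := rfl
theorem F93265 : act 0 n20722 = n16185 := d6_1 D20722 (iv D16185) (iv F73524)
def n20723 : Q := act 4 n16184
theorem D20723 : act 4 n16184 = n20723 := rfl
theorem F93267 : act 1 n20723 = n16186 := d11_1 D20723 (iv D16186) (iv F73526)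
theorem F93269 : act 6 n20723 = n16615 := d31_2 (iv F73528) D20723 (iv D16615)
def n20724 : Q := act 7 n16184
theorem D20724 : act 7 n16184 = n20724 := rfl
theorem F93270 : act 1 n20724 = n16187 := d14_1 D20724 (iv D16187) (iv F73526)
theorem F93272 : act 5 n20724 = n16185 := d36_1 D20724 (iv D16185) D16184
def n20725 : Q := act 8 n16184
theorem D20725 : act 8 n16184 = n20725 := rfl
theorem F93273 : act 1 n20725 = n16188 := d15_1 D20725 (iv D16188) (iv F73526)
theorem F93275 : act 6 n20725 = n16617 := d40_1 D20725 (iv D16617) (iv F73528)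
def n20726 : Q := act 7 n16186
theorem D20726 : act 7 n16186 = n20726 := rfl
theorem F93276 : act 2 n20726 = n16189 := d21_1 D20726 (iv D16189) (iv F73531)
theorem F93277 : act 3 n20726 = n20726 := d27_1 D20726 (iv D20726) F73532
theorem F93278 : act 4 n20726 = n16187 := d32_1 D20726 (iv D16187) D16186
def n20727 : Q := act 8 n16186
theorem D20727 : act 8 n16186 = n20727 := rfl
theorem F93281 : act 4 n20727 = n16188 := d33_1 D20727 (iv D16188) D16186
def n20728 : Q := act 6 n16187
theorem D20728 : act 6 n16187 = n20728 := rfl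
theorem F93285 : act 7 n20728 = n16620 := d39_2 D16187 D20728 (iv D16620) (iv D12898) (iv F57769)
def n20729 : Q := act 8 n16187
theorem D20729 : act 8 n16187 = n20729 := rfl
theorem F93286 : act 2 n20729 = n16192 := d22_1 D20729 (iv D16192) (iv F73534)
theorem F93287 : act 3 n20729 = n16245 := d28_1 D20729 (iv D16245) (iv F73535)
theorem F93288 : act 7 n20729 = n16188 := d42_1 D20729 (iv D16188) D16187
def n20730 : Q := act 9 n16188
theorem D20730 : act 9 n16188 = n20730 := rfl
theorem F93289 : act 2 n20730 = n16193 := d23_1 D20730 (iv D16193) (iv F73537)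
theorem F93290 : act 3 n20730 = n16246 := d29_1 D20730 (iv D16246) (iv F73538)
theorem F93291 : act 6 n20730 = n16622 := d41_1 D20730 (iv D16622) (iv F73539)
def n20731 : Q := act 6 n16189
theorem D20731 : act 6 n16189 = n20731 := rfl
theorem F93294 : act 7 n20731 = n16623 := d39_2 D16189 D20731 (iv D16623) (iv D12900) (iv F57773)
def n20732 : Q := act 8 n16189
theorem D20732 : act 8 n16189 = n20732 := rfl
theorem F93296 : act 4 n20732 = n16192 := d33_1 D20732 (iv D16192) (iv F73541)
theorem F93297 : act 7 n20732 = n16190 := d42_1 D20732 (iv D16190) D16189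
def n20733 : Q := act 5 n16190
theorem D20733 : act 5 n16190 = n20733 := rfl
def n20734 : Q := act 9 n16190
theorem D20734 : act 9 n16190 = n20734 := rfl
theorem F93300 : act 4 n20734 = n16193 := d34_1 D20734 (iv D16193) (iv F73543)
def n20735 : Q := act 8 n16191
theorem D20735 : act 8 n16191 = n20735 := rfl
theorem F93302 : act 3 n20735 = n16194 := d28_1 D20735 (iv D16194) (iv F73545)
theorem F93303 : act 6 n20735 = n16192 := d40_1 D20735 (iv D16192) D16191
theorem F93304 : act 7 n20735 = n16627 := d42_1 D20735 (iv D16627) (iv F73546)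
def n20736 : Q := act 9 n16192
theorem D20736 : act 9 n16192 = n20736 := rfl
theorem F93305 : act 3 n20736 = n16195 := d29_1 D20736 (iv D16195) (iv F73547)
theorem F93306 : act 7 n20736 = n16193 := d43_1 D20736 (iv D16193) (iv F73548)
def n20737 : Q := act 5 n16194
theorem D20737 : act 5 n16194 = n20737 := rfl
theorem F93307 : act 2 n20737 = n16249 := d19_1 D20737 (iv D16249) (iv F73551)
theorem F93308 : act 7 n20737 = n16629 := d36_2 (iv F73554) D20737 (iv D16629)
def n20738 : Q := act 9 n16194
theorem D20738 : act 9 n16194 = n20738 := rfl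
theorem F93309 : act 2 n20738 = n16250 := d23_1 D20738 (iv D16250) (iv F73551)
theorem F93310 : act 4 n20738 = n16203 := d34_1 D20738 (iv D16203) (iv F73552)
theorem F93311 : act 6 n20738 = n16195 := d41_1 D20738 (iv D16195) (iv F73553)
def n20739 : Q := act 5 n16196
theorem D20739 : act 5 n16196 = n20739 := rfl
theorem F93315 : act 7 n20739 = n16631 := d36_2 (iv F73560) D20739 (iv D16631)
def n20740 : Q := act 8 n16196
theorem D20740 : act 8 n16196 = n20740 := rfl
theorem F93319 : act 7 n20740 = n16632 := d42_1 D20740 (iv D16632) (iv F73560)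
def n20741 : Q := act 5 n16197
theorem D20741 : act 5 n16197 = n20741 := rfl
theorem F93322 : act 7 n20741 = n16198 := d36_2 (iv F73563) D20741 (iv D16198)
def n20743 : Q := act 6 n16198
theorem D20743 : act 6 n16198 = n20743 := rfl
theorem F93330 : act 5 n20743 = n16635 := d35_1 D20743 (iv D16635) (iv D12909) (iv F57791) D16198
theorem F93331 : act 7 n17244 = n20743 := d36_0 F93330 (iv F75224) (iv F77787)
def n20745 : Q := act 5 n16200
theorem D20745 : act 5 n16200 = n20745 := rfl
theorem F93338 : act 7 n20745 = n16637 := d36_2 (iv F73572) D20745 (iv D16637)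
def n20746 : Q := act 9 n16200
theorem D20746 : act 9 n16200 = n20746 := rfl
def n20747 : Q := act 4 n16202
theorem D20747 : act 4 n16202 = n20747 := rfl
theorem F93346 : act 7 n20747 = n16639 := d32_2 (iv F73579) D20747 (iv D16639)
def n20749 : Q := act 6 n16204
theorem D20749 : act 6 n16204 = n20749 := rfl
theorem F93352 : act 0 n20749 = n16205 := d5_1 D20749 (iv D16205) D16204
theorem F93353 : act 2 n20749 = n17428 := d20_1 D20749 (iv D17428) (iv F73584)
theorem F93355 : act 9 n20749 = n16214 := d41_2 (iv F73587) D20749 (iv D16214)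
def n20750 : Q := act 5 n16205
theorem D20750 : act 5 n16205 = n20750 := rfl
theorem F93356 : act 1 n20750 = n16206 := d12_1 D20750 (iv D16206) (iv F73588)
theorem F93357 : act 2 n20750 = n17429 := d19_1 D20750 (iv D17429) (iv F73589)
theorem F93358 : act 6 n20750 = n20750 := d35_2 D16205 D20750 (iv D20750) (iv D16205) F57812
theorem F93359 : act 9 n20750 = n16215 := d38_2 (iv F73591) D20750 (iv D16215)
def n20751 : Q := act 7 n16205
theorem D20751 : act 7 n16205 = n20751 := rfl
theorem F93360 : act 1 n20751 = n16207 := d14_1 D20751 (iv D16207) (iv F73588)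
theorem F93363 : act 9 n20751 = n16216 := d43_2 (iv F73591) D20751 (iv D16216)
def n20752 : Q := act 4 n16206
theorem D20752 : act 4 n16206 = n20752 := rfl
theorem F93364 : act 2 n20752 = n16208 := d18_1 D20752 (iv D16208) (iv F73592)
theorem F93365 : act 5 n20752 = n16256 := d30_2 D16206 D20752 (iv D16256) (iv D12622) (iv F57815)
theorem F93367 : act 9 n20752 = n16217 := d34_2 (iv F73594) D20752 (iv D16217)
def n20753 : Q := act 7 n16206
theorem D20753 : act 7 n16206 = n20753 := rfl
theorem F93368 : act 2 n20753 = n16209 := d21_1 D20753 (iv D16209) (iv F73592)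
theorem F93369 : act 5 n20753 = n16207 := d36_1 D20753 (iv D16207) D16206
theorem F93370 : act 9 n20753 = n16218 := d43_2 (iv F73594) D20753 (iv D16218)
def n20754 : Q := act 8 n16206
theorem D20754 : act 8 n16206 = n20754 := rfl
theorem F93371 : act 2 n20754 = n16210 := d22_1 D20754 (iv D16210) (iv F73592)
theorem F93372 : act 6 n20754 = n20754 := d40_1 D20754 (iv D20754) F73593
def n20755 : Q := act 7 n16208
theorem D20755 : act 7 n16208 = n20755 := rfl
theorem F93373 : act 1 n20755 = n17432 := d14_1 D20755 (iv D17432) (iv F73598)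
theorem F93374 : act 3 n20755 = n20755 := d27_1 D20755 (iv D20755) F73599
theorem F93375 : act 4 n20755 = n16209 := d32_1 D20755 (iv D16209) D16208
theorem F93376 : act 5 n20755 = n16259 := d36_1 D20755 (iv D16259) (iv F73600)
theorem F93377 : act 9 n20755 = n16220 := d43_2 (iv F73602) D20755 (iv D16220)
def n20756 : Q := act 8 n16208
theorem D20756 : act 8 n16208 = n20756 := rfl
theorem F93378 : act 1 n20756 = n16891 := d15_1 D20756 F76342 (iv F73598)
theorem F93379 : act 3 n20756 = n20756 := d28_1 D20756 (iv D20756) F73599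
theorem F93380 : act 4 n20756 = n16210 := d33_1 D20756 (iv D16210) D16208
theorem F93381 : act 5 n20756 = n16890 := d37_1 D20756 F76337 F73789 (iv D16260) (iv F73600)
theorem F93382 : act 6 n20756 = n20756 := d40_1 D20756 (iv D20756) F73601
def n20757 : Q := act 6 n16209
theorem D20757 : act 6 n16209 = n20757 := rfl
theorem F93383 : act 1 n20757 = n17433 := d13_1 D20757 (iv D17433) (iv F73603)
theorem F93384 : act 3 n20757 = n16211 := d26_1 D20757 (iv D16211) (iv F73604)
theorem F93385 : act 7 n20757 = n20757 := d39_2 D16209 D20757 (iv D20757) (iv D16209) F57819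
theorem F93386 : act 9 n20757 = n16222 := d41_2 (iv F73606) D20757 (iv D16222)
def n20758 : Q := act 8 n16209
theorem D20758 : act 8 n16209 = n20758 := rfl
theorem F93387 : act 1 n20758 = n17434 := d15_1 D20758 (iv D17434) (iv F73603)
theorem F93388 : act 3 n20758 = n16212 := d28_1 D20758 (iv D16212) (iv F73604)
theorem F93389 : act 7 n20758 = n16210 := d42_1 D20758 (iv D16210) D16209
def n20759 : Q := act 9 n16210
theorem D20759 : act 9 n16210 = n20759 := rfl
theorem F93390 : act 1 n20759 = n17435 := d16_1 D20759 (iv D17435) (iv F73607)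
theorem F93391 : act 3 n20759 = n16213 := d29_1 D20759 (iv D16213) (iv F73608)
theorem F93392 : act 6 n20759 = n20759 := d41_1 D20759 (iv D20759) F73609
theorem F93393 : act 8 n20759 = n16224 := d44_1 D20759 (iv D16224) (iv D12594) (iv F57820) D16210
def n20760 : Q := act 8 n16211
theorem D20760 : act 8 n16211 = n20760 := rfl
theorem F93394 : act 1 n20760 = n17436 := d15_1 D20760 (iv D17436) (iv F73610)
theorem F93395 : act 4 n20760 = n20760 := d33_1 D20760 (iv D20760) F73611
theorem F93396 : act 6 n20760 = n16212 := d40_1 D20760 (iv D16212) D16211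
theorem F93397 : act 7 n20760 = n20760 := d42_1 D20760 (iv D20760) F73612
def n20761 : Q := act 9 n16212
theorem D20761 : act 9 n16212 = n20761 := rfl
theorem F93398 : act 1 n20761 = n17437 := d16_1 D20761 (iv D17437) (iv F73614)
theorem F93399 : act 4 n20761 = n20761 := d34_1 D20761 (iv D20761) F73615
theorem F93400 : act 7 n20761 = n16213 := d43_1 D20761 (iv D16213) (iv F73616)
theorem F93401 : act 8 n20761 = n16226 := d44_1 D20761 (iv D16226) (iv D12596) (iv F57828) D16212
def n20762 : Q := act 5 n16214
theorem D20762 : act 5 n16214 = n20762 := rfl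
theorem F93403 : act 2 n20762 = n17438 := d19_1 D20762 (iv D17438) (iv F73622)
def n20763 : Q := act 7 n16214
theorem D20763 : act 7 n16214 = n20763 := rfl
theorem F93406 : act 2 n20763 = n17439 := d21_1 D20763 (iv D17439) (iv F73622)
def n20764 : Q := act 4 n16215
theorem D20764 : act 4 n16215 = n20764 := rfl
theorem F93411 : act 5 n20764 = n16264 := d30_2 D16215 D20764 (iv D16264) (iv D12629) (iv F57838)
def n20765 : Q := act 7 n16215
theorem D20765 : act 7 n16215 = n20765 := rfl
theorem F93413 : act 1 n20765 = n16218 := d14_1 D20765 (iv D16218) (iv F73625)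
theorem F93415 : act 5 n20765 = n16216 := d36_1 D20765 (iv D16216) D16215
def n20766 : Q := act 8 n16215
theorem D20766 : act 8 n16215 = n20766 := rfl
theorem F93416 : act 1 n20766 = n16219 := d15_1 D20766 (iv D16219) (iv F73625)
theorem F93418 : act 5 n20766 = n16243 := d37_1 D20766 (iv D16243) (iv D12609) (iv F57839) D16215
theorem F93419 : act 6 n20766 = n20766 := d40_1 D20766 (iv D20766) F73627
def n20768 : Q := act 7 n16217
theorem D20768 : act 7 n16217 = n20768 := rfl
theorem F93423 : act 2 n20768 = n16220 := d21_1 D20768 (iv D16220) (iv F73632)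
theorem F93424 : act 4 n20768 = n16218 := d32_1 D20768 (iv D16218) D16217
def n20769 : Q := act 8 n16217
theorem D20769 : act 8 n16217 = n20769 := rfl
theorem F93426 : act 2 n20769 = n16221 := d22_1 D20769 (iv D16221) (iv F73632)
theorem F93427 : act 4 n20769 = n16219 := d33_1 D20769 (iv D16219) D16217
def n20770 : Q := act 6 n16218
theorem D20770 : act 6 n16218 = n20770 := rfl
theorem F93430 : act 2 n20770 = n16222 := d20_1 D20770 (iv D16222) (iv F73635)
theorem F93431 : act 7 n20770 = n20770 := d39_2 D16218 D20770 (iv D20770) (iv D16218) F57841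
def n20771 : Q := act 8 n16218
theorem D20771 : act 8 n16218 = n20771 := rfl
theorem F93432 : act 2 n20771 = n16223 := d22_1 D20771 (iv D16223) (iv F73635)
theorem F93433 : act 5 n20771 = n16245 := d37_1 D20771 (iv D16245) F57911 (iv F57844) (iv F73636)
theorem F93434 : act 7 n20771 = n16219 := d42_1 D20771 (iv D16219) D16218
def n20772 : Q := act 9 n16219
theorem D20772 : act 9 n16219 = n20772 := rfl
theorem F93435 : act 2 n20772 = n16224 := d23_1 D20772 (iv D16224) (iv F73637)
theorem F93436 : act 5 n20772 = n16246 := d38_1 D20772 (iv D16246) (iv F73638)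
theorem F93437 : act 6 n20772 = n20772 := d41_1 D20772 (iv D20772) F73639
def n20773 : Q := act 6 n16220
theorem D20773 : act 6 n16220 = n20773 := rfl
theorem F93438 : act 1 n20773 = n17448 := d13_1 D20773 (iv D17448) (iv F73640)
theorem F93439 : act 3 n20773 = n20773 := d26_1 D20773 (iv D20773) F73641
theorem F93440 : act 4 n20773 = n16222 := d31_1 D20773 (iv D16222) (iv F73642)
theorem F93441 : act 5 n20773 = n20773 := d35_1 D20773 (iv D20773) F73643 F57992 (iv F73643)
theorem F93442 : act 7 n20773 = n20773 := d39_2 D16220 D20773 (iv D20773) (iv D16220) F57848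
def n20774 : Q := act 8 n16220
theorem D20774 : act 8 n16220 = n20774 := rfl
theorem F93443 : act 1 n20774 = n17449 := d15_1 D20774 (iv D17449) (iv F73640)
theorem F93444 : act 3 n20774 = n20774 := d28_1 D20774 (iv D20774) F73641
theorem F93445 : act 4 n20774 = n16223 := d33_1 D20774 (iv D16223) (iv F73642)
theorem F93446 : act 5 n20774 = n20774 := d37_1 D20774 (iv D20774) F73643 F57993 (iv F73643)
theorem F93447 : act 7 n20774 = n16221 := d42_1 D20774 (iv D16221) D16220
def n20775 : Q := act 9 n16221
theorem D20775 : act 9 n16221 = n20775 := rfl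
theorem F93448 : act 1 n20775 = n17450 := d16_1 D20775 (iv D17450) (iv F73644)
theorem F93449 : act 3 n20775 = n20775 := d29_1 D20775 (iv D20775) F73645
theorem F93450 : act 4 n20775 = n16224 := d34_1 D20775 (iv D16224) (iv F73646)
theorem F93451 : act 5 n20775 = n20775 := d38_1 D20775 (iv D20775) F73647
theorem F93452 : act 6 n20775 = n20775 := d41_1 D20775 (iv D20775) F73648
def n20776 : Q := act 8 n16222
theorem D20776 : act 8 n16222 = n20776 := rfl
theorem F93453 : act 1 n20776 = n17451 := d15_1 D20776 (iv D17451) (iv F73649)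
theorem F93454 : act 3 n20776 = n16225 := d28_1 D20776 (iv D16225) (iv F73650)
theorem F93455 : act 6 n20776 = n16223 := d40_1 D20776 (iv D16223) D16222
theorem F93456 : act 7 n20776 = n20776 := d42_1 D20776 (iv D20776) F73651
def n20777 : Q := act 9 n16223
theorem D20777 : act 9 n16223 = n20777 := rfl
theorem F93457 : act 1 n20777 = n17452 := d16_1 D20777 (iv D17452) (iv F73652)
theorem F93458 : act 3 n20777 = n16226 := d29_1 D20777 (iv D16226) (iv F73653)
theorem F93459 : act 5 n20777 = n16248 := d38_1 D20777 (iv D16248) (iv F73654)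
theorem F93460 : act 7 n20777 = n16224 := d43_1 D20777 (iv D16224) (iv F73655)
def n20778 : Q := act 5 n16225
theorem D20778 : act 5 n16225 = n20778 := rfl
theorem F93461 : act 1 n20778 = n17453 := d12_1 D20778 (iv D17453) (iv F73660)
theorem F93462 : act 6 n20778 = n16249 := d35_2 (iv F73662) D20778 (iv D16249) F57929 (iv F57861)
theorem F93463 : act 7 n20778 = n20778 := d36_2 F73663 D20778 (iv D20778)
def n20779 : Q := act 9 n16225
theorem D20779 : act 9 n16225 = n20779 := rfl
theorem F93464 : act 1 n20779 = n17454 := d16_1 D20779 (iv D17454) (iv F73660)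
theorem F93465 : act 4 n20779 = n20779 := d34_1 D20779 (iv D20779) F73661
theorem F93466 : act 6 n20779 = n16226 := d41_1 D20779 (iv D16226) (iv F73662)
theorem F93467 : act 7 n20779 = n20779 := d43_1 D20779 (iv D20779) F73663
def n20780 : Q := act 5 n16227
theorem D20780 : act 5 n16227 = n20780 := rfl
theorem F93470 : act 6 n20780 = n16641 := d35_2 D16227 D20780 (iv D16641) (iv D12915) (iv F57869)
def n20788 : Q := act 6 n16231
theorem D20788 : act 6 n16231 = n20788 := rfl
theorem F93496 : act 5 n20788 = n16244 := d35_1 D20788 (iv D16244) F57911 (iv F57878) (iv F73682)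
theorem F93497 : act 7 n20788 = n16649 := d39_2 D16231 D20788 (iv D16649) (iv D12919) (iv F57875)
def n20796 : Q := act 5 n16238
theorem D20796 : act 5 n16238 = n20796 := rfl
theorem F93525 : act 7 n20796 = n16658 := d36_2 (iv F73707) D20796 (iv D16658)
theorem F93526 : act 8 n20796 = n16249 := d37_2 D16238 D20796 (iv D16249) (iv D12616) (iv F57891)
def n20797 : Q := act 9 n16238
theorem D20797 : act 9 n16238 = n20797 := rfl
theorem F93528 : act 4 n20797 = n20797 := d34_1 D20797 (iv D20797) F73705
theorem F93529 : act 6 n20797 = n16239 := d41_1 D20797 (iv D16239) (iv F73706)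
theorem F93530 : act 7 n20797 = n16659 := d43_1 D20797 (iv D16659) (iv F73707)
def n20798 : Q := act 7 n16240
theorem D20798 : act 7 n16240 = n20798 := rfl
def n20800 : Q := act 6 n16242
theorem D20800 : act 6 n16242 = n20800 := rfl
theorem F93542 : act 7 n20800 = n16662 := d39_2 D16242 D20800 (iv D16662) (iv D12930) (iv F57905)
def n20801 : Q := act 8 n16242
theorem D20801 : act 8 n16242 = n20801 := rfl
theorem F93543 : act 1 n20801 = n16245 := d15_1 D20801 (iv D16245) (iv F73718)
theorem F93546 : act 7 n20801 = n16243 := d42_1 D20801 (iv D16243) D16242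
def n20802 : Q := act 9 n16243
theorem D20802 : act 9 n16243 = n20802 := rfl
theorem F93547 : act 1 n20802 = n16246 := d16_1 D20802 (iv D16246) (iv F73722)
theorem F93549 : act 4 n20802 = n20802 := d34_1 D20802 (iv D20802) F73724
def n20803 : Q := act 8 n16244
theorem D20803 : act 8 n16244 = n20803 := rfl
theorem F93551 : act 2 n20803 = n16247 := d22_1 D20803 (iv D16247) (iv F73726)
theorem F93553 : act 6 n20803 = n16245 := d40_1 D20803 (iv D16245) D16244
def n20804 : Q := act 9 n16245
theorem D20804 : act 9 n16245 = n20804 := rfl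
theorem F93555 : act 2 n20804 = n16248 := d23_1 D20804 (iv D16248) (iv F73729)
theorem F93556 : act 4 n20804 = n20804 := d34_1 D20804 (iv D20804) F73730
theorem F93557 : act 7 n20804 = n16246 := d43_1 D20804 (iv D16246) (iv F73731)
def n20805 : Q := act 5 n16247
theorem D20805 : act 5 n16247 = n20805 := rfl
theorem F93559 : act 3 n20805 = n16249 := d25_1 D20805 (iv D16249) (iv F73736)
theorem F93560 : act 7 n20805 = n16667 := d36_2 (iv F73739) D20805 (iv D16667)
def n20806 : Q := act 9 n16247
theorem D20806 : act 9 n16247 = n20806 := rfl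
theorem F93561 : act 1 n20806 = n17481 := d16_1 D20806 (iv D17481) (iv F73735)
theorem F93562 : act 3 n20806 = n16250 := d29_1 D20806 (iv D16250) (iv F73736)
theorem F93563 : act 4 n20806 = n20806 := d34_1 D20806 (iv D20806) F73737
theorem F93564 : act 6 n20806 = n16248 := d41_1 D20806 (iv D16248) (iv F73738)
theorem F93565 : act 7 n20806 = n16668 := d43_1 D20806 (iv D16668) (iv F73739)
def n20807 : Q := act 4 n16249
theorem D20807 : act 4 n16249 = n20807 := rfl
theorem F93566 : act 1 n20807 = n17482 := d11_1 D20807 (iv D17482) (iv F73744)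
theorem F93567 : act 5 n20807 = n16251 := d30_2 D16249 D20807 (iv D16251) (iv D12618) (iv F57928)
theorem F93568 : act 7 n20807 = n16669 := d32_2 (iv F73745) D20807 (iv D16669)
def n20808 : Q := act 9 n16249
theorem D20808 : act 9 n16249 = n20808 := rfl
theorem F93570 : act 5 n20808 = n16250 := d38_1 D20808 (iv D16250) D16249
theorem F93571 : act 7 n20808 = n16670 := d43_1 D20808 (iv D16670) (iv F73745)
def n20809 : Q := act 3 n16251
theorem D20809 : act 3 n16251 = n20809 := rfl
def n20810 : Q := act 9 n16251
theorem D20810 : act 9 n16251 = n20810 := rfl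
theorem F93578 : act 4 n20810 = n16252 := d34_1 D20810 (iv D16252) D16251
def n20811 : Q := act 8 n16252
theorem D20811 : act 8 n16252 = n20811 := rfl
def n20812 : Q := act 5 n16253
theorem D20812 : act 5 n16253 = n20812 := rfl
theorem F93588 : act 6 n20812 = n16276 := d35_2 D16253 D20812 (iv D16276) (iv D12644) (iv F57944)
theorem F93589 : act 9 n20812 = n16262 := d38_2 (iv F73761) D20812 (iv D16262)
def n20814 : Q := act 7 n16254
theorem D20814 : act 7 n16254 = n20814 := rfl
theorem F93597 : act 9 n20814 = n16265 := d43_2 (iv F73765) D20814 (iv D16265)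
def n20815 : Q := act 3 n16256
theorem D20815 : act 3 n16256 = n20815 := rfl
theorem F93599 : act 6 n20815 = n16277 := d26_2 (iv F73770) D20815 (iv D16277)
def n20816 : Q := act 7 n16256
theorem D20816 : act 7 n16256 = n20816 := rfl
theorem F93604 : act 9 n20816 = n16267 := d43_2 (iv F73771) D20816 (iv D16267)
def n20817 : Q := act 8 n16257
theorem D20817 : act 8 n16257 = n20817 := rfl
def n20818 : Q := act 8 n16259
theorem D20818 : act 8 n16259 = n20818 := rfl
theorem F93609 : act 1 n20818 = n16917 := d15_1 D20818 F76461 (iv F73779)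
theorem F93610 : act 3 n20818 = n20818 := d28_1 D20818 (iv D20818) F73780
theorem F93611 : act 4 n20818 = n16261 := d33_1 D20818 (iv D16261) (iv F73781)
theorem F93612 : act 6 n20818 = n20818 := d40_1 D20818 (iv D20818) F73782
theorem F93613 : act 7 n20818 = n16260 := d42_1 D20818 (iv D16260) D16259
theorem F93614 : act 9 n20818 = n20818 := d44_2 (iv F73783) D20818 (iv D20818) F73783 F57993
theorem F93615 : act 5 n16916 = n20818 := d36_3 F93613 (iv F73789) D16916
def n20819 : Q := act 4 n16262
theorem D20819 : act 4 n16262 = n20819 := rfl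
theorem F93617 : act 2 n20819 = n17493 := d18_1 D20819 (iv D17493) (iv F73796)
theorem F93618 : act 6 n20819 = n16278 := d31_2 (iv F73797) D20819 (iv D16278)
def n20820 : Q := act 7 n16262
theorem D20820 : act 7 n16262 = n20820 := rfl
theorem F93622 : act 5 n20820 = n16263 := d36_1 D20820 (iv D16263) D16262
def n20822 : Q := act 7 n16264
theorem D20822 : act 7 n16264 = n20822 := rfl
theorem F93630 : act 4 n20822 = n16265 := d32_1 D20822 (iv D16265) D16264
def n20831 : Q := act 3 n16278
theorem D20831 : act 3 n16278 = n20831 := rfl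
def n20832 : Q := act 1 n16280
theorem D20832 : act 1 n16280 = n20832 := rfl
def n20834 : Q := act 5 n16281
theorem D20834 : act 5 n16281 = n20834 := rfl
theorem F93681 : act 0 n20834 = n16313 := d4_1 D20834 (iv D16313) (iv F73872)
def n20837 : Q := act 8 n16282
theorem D20837 : act 8 n16282 = n20837 := rfl
theorem F93697 : act 5 n20837 = n16293 := d37_1 D20837 (iv D16293) (iv D12660) (iv F58074) D16282
def n20838 : Q := act 1 n16284
theorem D20838 : act 1 n16284 = n20838 := rfl
theorem F93700 : act 7 n20838 = n16288 := d14_2 (iv F73889) D20838 (iv D16288)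
theorem F93701 : act 9 n20838 = n16535 := d16_2 (iv F73890) D20838 (iv D16535)
def n20839 : Q := act 6 n16284
theorem D20839 : act 6 n16284 = n20839 := rfl
theorem F93706 : act 9 n20839 = n16536 := d41_2 (iv F73890) D20839 (iv D16536)
def n20840 : Q := act 5 n16285
theorem D20840 : act 5 n16285 = n20840 := rfl
theorem F93708 : act 3 n20840 = n16286 := d25_1 D20840 (iv D16286) (iv F73892)
theorem F93709 : act 9 n20840 = n16537 := d38_2 (iv F73894) D20840 (iv D16537)
def n20841 : Q := act 7 n16285
theorem D20841 : act 7 n16285 = n20841 := rfl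
theorem F93710 : act 0 n20841 = n16320 := d6_1 D20841 (iv D16320) (iv F73891)
theorem F93713 : act 6 n20841 = n16291 := d39_1 D20841 (iv D16291) (iv D12659) (iv F58084) D16285
def n20842 : Q := act 7 n16286
theorem D20842 : act 7 n16286 = n20842 := rfl
theorem F93715 : act 0 n20842 = n16321 := d6_1 D20842 (iv D16321) (iv F73895)
def n20844 : Q := act 0 n16288
theorem D20844 : act 0 n16288 = n20844 := rfl
theorem F93724 : act 3 n20844 = n17515 := d2_2 (iv F73904) D20844 (iv D17515)
def n20847 : Q := act 7 n16289
theorem D20847 : act 7 n16289 = n20847 := rfl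
theorem F93736 : act 2 n20847 = n16291 := d21_1 D20847 (iv D16291) (iv F73908)
theorem F93737 : act 3 n20847 = n17518 := d27_1 D20847 (iv D17518) (iv F73909)
def n20848 : Q := act 4 n16290
theorem D20848 : act 4 n16290 = n20848 := rfl
theorem F93741 : act 3 n20848 = n16297 := d24_1 D20848 (iv D16297) F58125 (iv F58106) (iv F73913)
theorem F93743 : act 9 n20848 = n16545 := d34_2 (iv F73914) D20848 (iv D16545)
def n20850 : Q := act 8 n16290
theorem D20850 : act 8 n16290 = n20850 := rfl
def n20853 : Q := act 9 n16293
theorem D20853 : act 9 n16293 = n20853 := rfl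
theorem F93761 : act 8 n20853 = n16550 := d44_1 D20853 (iv D16550) (iv D12848) (iv F58107) D16293
def n20854 : Q := act 5 n16294
theorem D20854 : act 5 n16294 = n20854 := rfl
theorem F93764 : act 2 n20854 = n17931 := d19_1 D20854 F87769 F87764
theorem F93765 : act 3 n20854 = n17525 := d25_1 D20854 (iv D17525) (iv F73929)
theorem F93766 : act 9 n20854 = n16551 := d38_2 (iv F73932) D20854 (iv D16551)
def n20856 : Q := act 4 n16295
theorem D20856 : act 4 n16295 = n20856 := rfl
theorem F93777 : act 2 n20856 = n16297 := d18_1 D20856 (iv D16297) (iv F73934)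
theorem F93779 : act 9 n20856 = n16553 := d34_2 (iv F73936) D20856 (iv D16553)
def n20860 : Q := act 8 n16297
theorem D20860 : act 8 n16297 = n20860 := rfl
def n20862 : Q := act 8 n16298
theorem D20862 : act 8 n16298 = n20862 := rfl
theorem F93803 : act 7 n20862 = n16299 := d42_1 D20862 (iv D16299) D16298
def n20863 : Q := act 9 n16299
theorem D20863 : act 9 n16299 = n20863 := rfl
theorem F93807 : act 8 n20863 = n16560 := d44_1 D20863 (iv D16560) (iv D12854) (iv F58126) D16299
def n20866 : Q := act 1 n16303
theorem D20866 : act 1 n16303 = n20866 := rfl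
theorem F93816 : act 2 n20866 = n16351 := d9_2 D16303 D20866 (iv D16351) (iv D12702) (iv F58140)
theorem F93817 : act 3 n20866 = n17537 := d10_2 (iv F73966) D20866 (iv D17537)
theorem F93818 : act 5 n20866 = n16311 := d12_2 (iv F73967) D20866 (iv D16311)
theorem F93819 : act 9 n20866 = n20866 := d16_2 F73968 D20866 (iv D20866)
def n20867 : Q := act 6 n16303
theorem D20867 : act 6 n16303 = n20867 := rfl
theorem F93820 : act 2 n20867 = n16304 := d20_1 D20867 (iv D16304) D16303
theorem F93821 : act 3 n20867 = n17538 := d26_1 D20867 (iv D17538) (iv F73966)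
theorem F93822 : act 9 n20867 = n20867 := d41_2 F73968 D20867 (iv D20867)
def n20868 : Q := act 5 n16304
theorem D20868 : act 5 n16304 = n20868 := rfl
theorem F93823 : act 1 n20868 = n16353 := d12_1 D20868 (iv D16353) (iv F73969)
theorem F93824 : act 3 n20868 = n16305 := d25_1 D20868 (iv D16305) (iv F73970)
theorem F93825 : act 6 n20868 = n16313 := d35_2 D16304 D20868 (iv D16313) (iv D12675) (iv F58141)
theorem F93826 : act 9 n20868 = n20868 := d38_2 F73971 D20868 (iv D20868)
def n20869 : Q := act 7 n16304
theorem D20869 : act 7 n16304 = n20869 := rfl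
theorem F93827 : act 1 n20869 = n16354 := d14_1 D20869 (iv D16354) (iv F73969)
theorem F93828 : act 3 n20869 = n16306 := d27_1 D20869 (iv D16306) (iv F73970)
theorem F93829 : act 9 n20869 = n20869 := d43_2 F73971 D20869 (iv D20869)
def n20870 : Q := act 7 n16305
theorem D20870 : act 7 n16305 = n20870 := rfl
theorem F93830 : act 1 n20870 = n16355 := d14_1 D20870 (iv D16355) (iv F73972)
theorem F93831 : act 2 n20870 = n17541 := d21_1 D20870 (iv D17541) (iv F73973)
theorem F93832 : act 4 n20870 = n20870 := d32_1 D20870 (iv D20870) F73974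
theorem F93833 : act 5 n20870 = n16306 := d36_1 D20870 (iv D16306) D16305
theorem F93834 : act 9 n20870 = n20870 := d43_2 F73976 D20870 (iv D20870)
def n20871 : Q := act 8 n16305
theorem D20871 : act 8 n16305 = n20871 := rfl
theorem F93835 : act 1 n20871 = n16356 := d15_1 D20871 (iv D16356) (iv F73972)
theorem F93838 : act 6 n20871 = n16316 := d40_1 D20871 (iv D16316) (iv F73975)
def n20872 : Q := act 1 n16307
theorem D20872 : act 1 n16307 = n20872 := rfl
theorem F93839 : act 2 n20872 = n16361 := d9_2 D16307 D20872 (iv D16361) (iv D12709) (iv F58151)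
def n20873 : Q := act 6 n16307
theorem D20873 : act 6 n16307 = n20873 := rfl
def n20874 : Q := act 5 n16308
theorem D20874 : act 5 n16308 = n20874 := rfl
theorem F93851 : act 3 n20874 = n16309 := d25_1 D20874 (iv D16309) (iv F73987)
def n20875 : Q := act 7 n16308
theorem D20875 : act 7 n16308 = n20875 := rfl
theorem F93856 : act 6 n20875 = n16314 := d39_1 D20875 (iv D16314) (iv D12675) (iv F58153) D16308
theorem F93857 : act 8 n20875 = n16320 := d42_2 (iv F73989) D20875 (iv D16320)
def n20876 : Q := act 7 n16309
theorem D20876 : act 7 n16309 = n20876 := rfl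
theorem F93860 : act 2 n20876 = n17547 := d21_1 D20876 (iv D17547) (iv F73992)
theorem F93861 : act 5 n20876 = n16310 := d36_1 D20876 (iv D16310) D16309
def n20877 : Q := act 8 n16309
theorem D20877 : act 8 n16309 = n20877 := rfl
theorem F93863 : act 1 n20877 = n16366 := d15_1 D20877 (iv D16366) (iv F73991)
theorem F93865 : act 5 n20877 = n16322 := d37_1 D20877 (iv D16322) (iv D12680) (iv F58159) D16309
def n20878 : Q := act 0 n16311
theorem D20878 : act 0 n16311 = n20878 := rfl
theorem F93866 : act 2 n20878 = n16367 := d1_2 (iv F74000) D20878 (iv D16367)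
theorem F93869 : act 8 n20878 = n16323 := d7_2 (iv F74003) D20878 (iv D16323)
def n20879 : Q := act 6 n16311
theorem D20879 : act 6 n16311 = n20879 := rfl
theorem F93871 : act 1 n20879 = n16312 := d13_1 D20879 (iv D16312) D16311
theorem F93872 : act 2 n20879 = n16368 := d20_1 D20879 (iv D16368) (iv F74000)
theorem F93873 : act 3 n20879 = n17550 := d26_1 D20879 (iv D17550) (iv F74001)
def n20880 : Q := act 5 n16312
theorem D20880 : act 5 n16312 = n20880 := rfl
theorem F93877 : act 2 n20880 = n16313 := d19_1 D20880 (iv D16313) (iv F74005)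
def n20881 : Q := act 7 n16312
theorem D20881 : act 7 n16312 = n20881 := rfl
theorem F93880 : act 2 n20881 = n16314 := d21_1 D20881 (iv D16314) (iv F74005)
theorem F93881 : act 3 n20881 = n17552 := d27_1 D20881 (iv D17552) (iv F74006)
def n20882 : Q := act 4 n16313
theorem D20882 : act 4 n16313 = n20882 := rfl
theorem F93885 : act 1 n20882 = n16371 := d11_1 D20882 (iv D16371) (iv F74010)
def n20883 : Q := act 7 n16313
theorem D20883 : act 7 n16313 = n20883 := rfl
def n20884 : Q := act 8 n16313
theorem D20884 : act 8 n16313 = n20884 := rfl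
theorem F93893 : act 1 n20884 = n16373 := d15_1 D20884 (iv D16373) (iv F74010)
theorem F93895 : act 5 n20884 = n16329 := d37_1 D20884 (iv D16329) (iv D12684) (iv F58174) D16313
def n20885 : Q := act 6 n16315
theorem D20885 : act 6 n16315 = n20885 := rfl
theorem F93896 : act 1 n20885 = n16374 := d13_1 D20885 (iv D16374) (iv F74018)
def n20886 : Q := act 8 n16315
theorem D20886 : act 8 n16315 = n20886 := rfl
theorem F93900 : act 1 n20886 = n16375 := d15_1 D20886 (iv D16375) (iv F74018)
theorem F93903 : act 5 n20886 = n16331 := d37_1 D20886 (iv D16331) F58220 (iv F58183) (iv F74021)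
theorem F93904 : act 7 n20886 = n16316 := d42_1 D20886 (iv D16316) D16315
def n20887 : Q := act 9 n16316
theorem D20887 : act 9 n16316 = n20887 := rfl
theorem F93905 : act 1 n20887 = n16376 := d16_1 D20887 (iv D16376) (iv F74023)
def n20888 : Q := act 0 n16317
theorem D20888 : act 0 n16317 = n20888 := rfl
theorem F93910 : act 2 n20888 = n16377 := d1_2 (iv F74027) D20888 (iv D16377)
theorem F93913 : act 7 n20888 = n16323 := d6_2 (iv F74030) D20888 (iv D16323)
def n20889 : Q := act 6 n16317
theorem D20889 : act 6 n16317 = n20889 := rfl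
theorem F93915 : act 1 n20889 = n16318 := d13_1 D20889 (iv D16318) D16317
theorem F93916 : act 2 n20889 = n16378 := d20_1 D20889 (iv D16378) (iv F74027)
theorem F93917 : act 3 n20889 = n17560 := d26_1 D20889 (iv D17560) (iv F74028)
def n20890 : Q := act 5 n16318
theorem D20890 : act 5 n16318 = n20890 := rfl
theorem F93920 : act 2 n20890 = n16319 := d19_1 D20890 (iv D16319) (iv F74032)
theorem F93921 : act 3 n20890 = n17561 := d25_1 D20890 (iv D17561) (iv F74033)
def n20891 : Q := act 7 n16318
theorem D20891 : act 7 n16318 = n20891 := rfl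
theorem F93926 : act 6 n20891 = n16326 := d39_1 D20891 (iv D16326) (iv D12683) (iv F58187) D16318
def n20893 : Q := act 7 n16319
theorem D20893 : act 7 n16319 = n20893 := rfl
theorem F93934 : act 5 n20893 = n16320 := d36_1 D20893 (iv D16320) D16319
def n20894 : Q := act 8 n16319
theorem D20894 : act 8 n16319 = n20894 := rfl
theorem F93937 : act 3 n20894 = n16322 := d28_1 D20894 (iv D16322) (iv F74037)
def n20897 : Q := act 9 n16322
theorem D20897 : act 9 n16322 = n20897 := rfl
theorem F93947 : act 1 n20897 = n16386 := d16_1 D20897 (iv D16386) (iv F74049)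
theorem F93949 : act 4 n20897 = n20897 := d34_1 D20897 (iv D20897) F74051
theorem F93950 : act 8 n20897 = n16572 := d44_1 D20897 (iv D16572) (iv D12863) (iv F58196) D16322
def n20899 : Q := act 5 n16324
theorem D20899 : act 5 n16324 = n20899 := rfl
theorem F93957 : act 2 n20899 = n16388 := d19_1 D20899 (iv D16388) (iv F74057)
theorem F93958 : act 3 n20899 = n17570 := d25_1 D20899 (iv D17570) (iv F74058)
theorem F93959 : act 9 n20899 = n16574 := d38_2 (iv F74060) D20899 (iv D16574)
def n20900 : Q := act 7 n16324
theorem D20900 : act 7 n16324 = n20900 := rfl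
theorem F93961 : act 2 n20900 = n16389 := d21_1 D20900 (iv D16389) (iv F74057)
theorem F93962 : act 3 n20900 = n17571 := d27_1 D20900 (iv D17571) (iv F74058)
def n20902 : Q := act 7 n16325
theorem D20902 : act 7 n16325 = n20902 := rfl
theorem F93968 : act 2 n20902 = n16328 := d21_1 D20902 (iv D16328) (iv F74061)
theorem F93969 : act 3 n20902 = n17573 := d27_1 D20902 (iv D17573) (iv F74062)
def n20904 : Q := act 7 n16327
theorem D20904 : act 7 n16327 = n20904 := rfl
theorem F93974 : act 1 n20904 = n16393 := d14_1 D20904 (iv D16393) (iv F74068)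
theorem F93978 : act 9 n20904 = n16579 := d43_2 (iv F74071) D20904 (iv D16579)
def n20905 : Q := act 8 n16327
theorem D20905 : act 8 n16327 = n20905 := rfl
theorem F93979 : act 1 n20905 = n16394 := d15_1 D20905 (iv D16394) (iv F74068)
def n20907 : Q := act 8 n16328
theorem D20907 : act 8 n16328 = n20907 := rfl
theorem F93985 : act 1 n20907 = n16396 := d15_1 D20907 (iv D16396) (iv F74072)
theorem F93986 : act 3 n20907 = n16331 := d28_1 D20907 (iv D16331) (iv F74073)
theorem F93987 : act 7 n20907 = n16329 := d42_1 D20907 (iv D16329) D16328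
def n20908 : Q := act 9 n16329
theorem D20908 : act 9 n16329 = n20908 := rfl
theorem F93988 : act 1 n20908 = n16397 := d16_1 D20908 (iv D16397) (iv F74076)
def n20910 : Q := act 9 n16331
theorem D20910 : act 9 n16331 = n20910 := rfl
theorem F93995 : act 1 n20910 = n16399 := d16_1 D20910 (iv D16399) (iv F74082)
def n20917 : Q := act 6 n16336
theorem D20917 : act 6 n16336 = n20917 := rfl
theorem F94030 : act 9 n20917 = n16592 := d41_2 (iv F74106) D20917 (iv D16592)
def n20918 : Q := act 8 n16336
theorem D20918 : act 8 n16336 = n20918 := rfl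
theorem F94031 : act 1 n20918 = n16401 := d15_1 D20918 (iv D16401) (iv F74103)
theorem F94033 : act 7 n20918 = n16337 := d42_1 D20918 (iv D16337) D16336
def n20919 : Q := act 5 n16337
theorem D20919 : act 5 n16337 = n20919 := rfl
theorem F94034 : act 1 n20919 = n16402 := d12_1 D20919 (iv D16402) (iv F74107)
def n20921 : Q := act 8 n16338
theorem D20921 : act 8 n16338 = n20921 := rfl
theorem F94040 : act 1 n20921 = n16404 := d15_1 D20921 (iv D16404) (iv F74109)
theorem F94041 : act 3 n20921 = n16341 := d28_1 D20921 (iv D16341) (iv F74110)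
def n20923 : Q := act 5 n16341
theorem D20923 : act 5 n16341 = n20923 := rfl
theorem F94048 : act 1 n20923 = n16406 := d12_1 D20923 (iv D16406) (iv F74121)
theorem F94049 : act 2 n20923 = n17594 := d19_1 D20923 (iv D17594) (iv F74122)
def n20924 : Q := act 9 n16341
theorem D20924 : act 9 n16341 = n20924 := rfl
def n20925 : Q := act 1 n16343
theorem D20925 : act 1 n16343 = n20925 := rfl
theorem F94056 : act 3 n20925 = n20925 := d10_2 F74129 D20925 (iv D20925)
theorem F94057 : act 4 n20925 = n16351 := d11_2 (iv F74130) D20925 (iv D16351)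
theorem F94058 : act 5 n20925 = n20925 := d12_2 F74131 D20925 (iv D20925)
theorem F94059 : act 9 n20925 = n20925 := d16_2 F74132 D20925 (iv D20925)
def n20926 : Q := act 6 n16343
theorem D20926 : act 6 n16343 = n20926 := rfl
theorem F94060 : act 2 n20926 = n16344 := d20_1 D20926 (iv D16344) D16343
theorem F94061 : act 3 n20926 = n20926 := d26_1 D20926 (iv D20926) F74129
theorem F94062 : act 4 n20926 = n16352 := d31_1 D20926 (iv D16352) (iv F74130)
theorem F94063 : act 9 n20926 = n20926 := d41_2 F74132 D20926 (iv D20926)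
def n20927 : Q := act 5 n16344
theorem D20927 : act 5 n16344 = n20927 := rfl
theorem F94064 : act 3 n20927 = n16345 := d25_1 D20927 (iv D16345) (iv F74133)
theorem F94065 : act 6 n20927 = n20927 := d35_2 D16344 D20927 (iv D20927) (iv D16344) F58259
theorem F94066 : act 9 n20927 = n20927 := d38_2 F74135 D20927 (iv D20927)
def n20928 : Q := act 7 n16344
theorem D20928 : act 7 n16344 = n20928 := rfl
theorem F94067 : act 3 n20928 = n16346 := d27_1 D20928 (iv D16346) (iv F74133)
theorem F94068 : act 4 n20928 = n16354 := d32_1 D20928 (iv D16354) (iv F74134)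
theorem F94069 : act 9 n20928 = n20928 := d43_2 F74135 D20928 (iv D20928)
def n20929 : Q := act 7 n16345
theorem D20929 : act 7 n16345 = n20929 := rfl
theorem F94070 : act 2 n20929 = n20929 := d21_1 D20929 (iv D20929) F74136
theorem F94071 : act 4 n20929 = n20929 := d32_1 D20929 (iv D20929) F74137
theorem F94072 : act 5 n20929 = n16346 := d36_1 D20929 (iv D16346) D16345
theorem F94073 : act 9 n20929 = n20929 := d43_2 F74139 D20929 (iv D20929)
def n20930 : Q := act 8 n16345
theorem D20930 : act 8 n16345 = n20930 := rfl
theorem F94074 : act 2 n20930 = n20930 := d22_1 D20930 (iv D20930) F74136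
theorem F94075 : act 4 n20930 = n20930 := d33_1 D20930 (iv D20930) F74137
theorem F94076 : act 6 n20930 = n20930 := d40_1 D20930 (iv D20930) F74138
def n20931 : Q := act 1 n16347
theorem D20931 : act 1 n16347 = n20931 := rfl
theorem F94078 : act 5 n20931 = n16361 := d12_2 (iv F74144) D20931 (iv D16361)
theorem F94079 : act 7 n20931 = n16351 := d14_2 (iv F74145) D20931 (iv D16351)
def n20932 : Q := act 6 n16347
theorem D20932 : act 6 n16347 = n20932 := rfl
theorem F94081 : act 2 n20932 = n16348 := d20_1 D20932 (iv D16348) D16347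
def n20933 : Q := act 5 n16348
theorem D20933 : act 5 n16348 = n20933 := rfl
theorem F94085 : act 6 n20933 = n16363 := d35_2 D16348 D20933 (iv D16363) (iv D12710) (iv F58268)
def n20934 : Q := act 7 n16348
theorem D20934 : act 7 n16348 = n20934 := rfl
theorem F94087 : act 3 n20934 = n16350 := d27_1 D20934 (iv D16350) (iv F74147)
theorem F94088 : act 6 n20934 = n16354 := d39_1 D20934 (iv D16354) (iv D12703) (iv F58269) D16348
theorem F94089 : act 9 n20934 = n20934 := d43_2 F74148 D20934 (iv D20934)
def n20935 : Q := act 7 n16349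
theorem D20935 : act 7 n16349 = n20935 := rfl
theorem F94090 : act 2 n20935 = n16416 := d21_1 D20935 (iv D16416) (iv F74149)
theorem F94091 : act 5 n20935 = n16350 := d36_1 D20935 (iv D16350) D16349
theorem F94092 : act 9 n20935 = n20935 := d43_2 F74151 D20935 (iv D20935)
def n20936 : Q := act 8 n16349
theorem D20936 : act 8 n16349 = n20936 := rfl
theorem F94093 : act 2 n20936 = n16417 := d22_1 D20936 (iv D16417) (iv F74149)
theorem F94094 : act 6 n20936 = n16366 := d40_1 D20936 (iv D16366) (iv F74150)
def n20937 : Q := act 0 n16351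
theorem D20937 : act 0 n16351 = n20937 := rfl
theorem F94095 : act 3 n20937 = n16418 := d2_2 (iv F74156) D20937 (iv D16418)
theorem F94096 : act 5 n20937 = n16367 := d4_2 (iv F74157) D20937 (iv D16367)
def n20938 : Q := act 6 n16351
theorem D20938 : act 6 n16351 = n20938 := rfl
theorem F94098 : act 1 n20938 = n16352 := d13_1 D20938 (iv D16352) D16351
theorem F94100 : act 9 n20938 = n20938 := d41_2 F74158 D20938 (iv D20938)
def n20939 : Q := act 5 n16352
theorem D20939 : act 5 n16352 = n20939 := rfl
theorem F94101 : act 2 n20939 = n16353 := d19_1 D20939 (iv D16353) (iv F74159)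
theorem F94102 : act 3 n20939 = n16420 := d25_1 D20939 (iv D16420) (iv F74160)
theorem F94103 : act 6 n20939 = n16369 := d35_2 D16352 D20939 (iv D16369) (iv D12714) (iv F58278)
theorem F94104 : act 9 n20939 = n20939 := d38_2 F74161 D20939 (iv D20939)
def n20940 : Q := act 7 n16352
theorem D20940 : act 7 n16352 = n20940 := rfl
theorem F94105 : act 2 n20940 = n16354 := d21_1 D20940 (iv D16354) (iv F74159)
theorem F94106 : act 3 n20940 = n16421 := d27_1 D20940 (iv D16421) (iv F74160)
theorem F94107 : act 9 n20940 = n20940 := d43_2 F74161 D20940 (iv D20940)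
def n20941 : Q := act 4 n16353
theorem D20941 : act 4 n16353 = n20941 := rfl
theorem F94108 : act 3 n20941 = n20941 := d24_1 D20941 (iv D20941) F74162 F58283 (iv F74162)
theorem F94109 : act 6 n20941 = n16371 := d31_2 (iv F74163) D20941 (iv D16371)
theorem F94110 : act 9 n20941 = n20941 := d34_2 F74164 D20941 (iv D20941)
def n20942 : Q := act 7 n16353
theorem D20942 : act 7 n16353 = n20942 := rfl
theorem F94111 : act 3 n20942 = n16355 := d27_1 D20942 (iv D16355) (iv F74162)
theorem F94112 : act 5 n20942 = n16354 := d36_1 D20942 (iv D16354) D16353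
theorem F94113 : act 9 n20942 = n20942 := d43_2 F74164 D20942 (iv D20942)
def n20943 : Q := act 8 n16353
theorem D20943 : act 8 n16353 = n20943 := rfl
theorem F94114 : act 3 n20943 = n16356 := d28_1 D20943 (iv D16356) (iv F74162)
theorem F94115 : act 6 n20943 = n16373 := d40_1 D20943 (iv D16373) (iv F74163)
def n20944 : Q := act 6 n16355
theorem D20944 : act 6 n16355 = n20944 := rfl
theorem F94116 : act 2 n20944 = n16425 := d20_1 D20944 (iv D16425) (iv F74167)
theorem F94117 : act 4 n20944 = n20944 := d31_1 D20944 (iv D20944) F74168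
theorem F94118 : act 7 n20944 = n16374 := d39_2 D16355 D20944 (iv D16374) (iv D12717) (iv F58284)
theorem F94119 : act 9 n20944 = n20944 := d41_2 F74170 D20944 (iv D20944)
def n20945 : Q := act 8 n16355
theorem D20945 : act 8 n16355 = n20945 := rfl
theorem F94120 : act 2 n20945 = n16426 := d22_1 D20945 (iv D16426) (iv F74167)
theorem F94121 : act 4 n20945 = n20945 := d33_1 D20945 (iv D20945) F74168
theorem F94122 : act 7 n20945 = n16356 := d42_1 D20945 (iv D16356) D16355
def n20946 : Q := act 9 n16356
theorem D20946 : act 9 n16356 = n20946 := rfl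
theorem F94123 : act 2 n20946 = n16427 := d23_1 D20946 (iv D16427) (iv F74171)
theorem F94124 : act 4 n20946 = n20946 := d34_1 D20946 (iv D20946) F74172
theorem F94125 : act 6 n20946 = n16376 := d41_1 D20946 (iv D16376) (iv F74173)
theorem F94126 : act 8 n20946 = n20946 := d44_1 D20946 (iv D20946) (iv D16356) F58285 D16356
def n20951 : Q := act 8 n16359
theorem D20951 : act 8 n16359 = n20951 := rfl
theorem F94145 : act 4 n20951 = n16366 := d33_1 D20951 (iv D16366) (iv F74185)
def n20953 : Q := act 6 n16361
theorem D20953 : act 6 n16361 = n20953 := rfl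
theorem F94153 : act 3 n20953 = n16434 := d26_1 D20953 (iv D16434) (iv F74192)
def n20954 : Q := act 5 n16362
theorem D20954 : act 5 n16362 = n20954 := rfl
theorem F94158 : act 3 n20954 = n16435 := d25_1 D20954 (iv D16435) (iv F74198)
def n20955 : Q := act 7 n16362
theorem D20955 : act 7 n16362 = n20955 := rfl
theorem F94160 : act 2 n20955 = n16364 := d21_1 D20955 (iv D16364) (iv F74197)
theorem F94161 : act 3 n20955 = n16436 := d27_1 D20955 (iv D16436) (iv F74198)
theorem F94163 : act 6 n20955 = n16370 := d39_1 D20955 (iv D16370) (iv D12714) (iv F58305) D16362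
theorem F94164 : act 8 n20955 = n16380 := d42_2 (iv F74200) D20955 (iv D16380)
def n20959 : Q := act 6 n16365
theorem D20959 : act 6 n16365 = n20959 := rfl
theorem F94174 : act 5 n20959 = n16374 := d35_1 D20959 (iv D16374) F58336 (iv F58316) (iv F74210)
def n20960 : Q := act 8 n16365
theorem D20960 : act 8 n16365 = n20960 := rfl
theorem F94177 : act 5 n20960 = n16385 := d37_1 D20960 (iv D16385) F58357 (iv F58317) (iv F74210)
def n20961 : Q := act 9 n16366
theorem D20961 : act 9 n16366 = n20961 := rfl
theorem F94180 : act 5 n20961 = n16386 := d38_1 D20961 (iv D16386) (iv F74213)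
def n20962 : Q := act 6 n16367
theorem D20962 : act 6 n16367 = n20962 := rfl
theorem F94183 : act 3 n20962 = n16443 := d26_1 D20962 (iv D16443) (iv F74214)
def n20963 : Q := act 5 n16368
theorem D20963 : act 5 n16368 = n20963 := rfl
theorem F94187 : act 1 n20963 = n16369 := d12_1 D20963 (iv D16369) (iv F74218)
def n20964 : Q := act 7 n16368
theorem D20964 : act 7 n16368 = n20964 := rfl
theorem F94193 : act 8 n20964 = n16389 := d42_2 (iv F74221) D20964 (iv D16389)
def n20965 : Q := act 4 n16369
theorem D20965 : act 4 n16369 = n20965 := rfl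
theorem F94195 : act 2 n20965 = n16371 := d18_1 D20965 (iv D16371) (iv F74223)
def n20966 : Q := act 7 n16369
theorem D20966 : act 7 n16369 = n20966 := rfl
theorem F94200 : act 5 n20966 = n16370 := d36_1 D20966 (iv D16370) D16369
def n20967 : Q := act 8 n16369
theorem D20967 : act 8 n16369 = n20967 := rfl
theorem F94202 : act 2 n20967 = n16373 := d22_1 D20967 (iv D16373) (iv F74223)
theorem F94203 : act 3 n20967 = n16448 := d28_1 D20967 (iv D16448) (iv F74224)
theorem F94204 : act 5 n20967 = n16392 := d37_1 D20967 (iv D16392) (iv D12727) (iv F58326) D16369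
def n20968 : Q := act 7 n16371
theorem D20968 : act 7 n16371 = n20968 := rfl
theorem F94206 : act 4 n20968 = n16372 := d32_1 D20968 (iv D16372) D16371
def n20969 : Q := act 8 n16371
theorem D20969 : act 8 n16371 = n20969 := rfl
theorem F94209 : act 3 n20969 = n20969 := d28_1 D20969 (iv D20969) F74231
theorem F94210 : act 4 n20969 = n16373 := d33_1 D20969 (iv D16373) D16371
def n20970 : Q := act 6 n16372
theorem D20970 : act 6 n16372 = n20970 := rfl
theorem F94211 : act 3 n20970 = n16374 := d26_1 D20970 (iv D16374) (iv F74234)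
def n20971 : Q := act 8 n16372
theorem D20971 : act 8 n16372 = n20971 := rfl
theorem F94214 : act 5 n20971 = n16396 := d37_1 D20971 (iv D16396) F58379 (iv F58332) (iv F74235)
theorem F94215 : act 7 n20971 = n16373 := d42_1 D20971 (iv D16373) D16372
def n20972 : Q := act 9 n16373
theorem D20972 : act 9 n16373 = n20972 := rfl
theorem F94216 : act 3 n20972 = n16376 := d29_1 D20972 (iv D16376) (iv F74237)
theorem F94217 : act 5 n20972 = n16397 := d38_1 D20972 (iv D16397) (iv F74238)
theorem F94218 : act 8 n20972 = n20972 := d44_1 D20972 (iv D20972) (iv D16373) F58329 D16373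
def n20973 : Q := act 8 n16374
theorem D20973 : act 8 n16374 = n20973 := rfl
theorem F94219 : act 2 n20973 = n16454 := d22_1 D20973 (iv D16454) (iv F74239)
theorem F94221 : act 6 n20973 = n16375 := d40_1 D20973 (iv D16375) D16374
def n20974 : Q := act 9 n16375
theorem D20974 : act 9 n16375 = n20974 := rfl
theorem F94224 : act 5 n20974 = n16399 := d38_1 D20974 (iv D16399) (iv F74244)
theorem F94225 : act 7 n20974 = n16376 := d43_1 D20974 (iv D16376) (iv F74245)
def n20975 : Q := act 6 n16377
theorem D20975 : act 6 n16377 = n20975 := rfl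
theorem F94228 : act 3 n20975 = n16456 := d26_1 D20975 (iv D16456) (iv F74250)
def n20976 : Q := act 5 n16378
theorem D20976 : act 5 n16378 = n20976 := rfl
theorem F94232 : act 3 n20976 = n16457 := d25_1 D20976 (iv D16457) (iv F74255)
def n20977 : Q := act 7 n16378
theorem D20977 : act 7 n16378 = n20977 := rfl
theorem F94235 : act 3 n20977 = n16458 := d27_1 D20977 (iv D16458) (iv F74255)
theorem F94237 : act 6 n20977 = n16389 := d39_1 D20977 (iv D16389) (iv D12726) (iv F58343) D16378
def n20978 : Q := act 4 n16379
theorem D20978 : act 4 n16379 = n20978 := rfl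
theorem F94239 : act 2 n20978 = n16381 := d18_1 D20978 (iv D16381) (iv F74258)
theorem F94241 : act 9 n20978 = n16603 := d34_2 (iv F74260) D20978 (iv D16603)
def n20979 : Q := act 7 n16379
theorem D20979 : act 7 n16379 = n20979 := rfl
theorem F94242 : act 2 n20979 = n16382 := d21_1 D20979 (iv D16382) (iv F74258)
theorem F94243 : act 3 n20979 = n16460 := d27_1 D20979 (iv D16460) (iv F74259)
theorem F94244 : act 5 n20979 = n16380 := d36_1 D20979 (iv D16380) D16379
theorem F94245 : act 9 n20979 = n16604 := d43_2 (iv F74260) D20979 (iv D16604)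
def n20981 : Q := act 7 n16381
theorem D20981 : act 7 n16381 = n20981 := rfl
def n20983 : Q := act 6 n16382
theorem D20983 : act 6 n16382 = n20983 := rfl
def n20984 : Q := act 8 n16382
theorem D20984 : act 8 n16382 = n20984 := rfl
theorem F94257 : act 3 n20984 = n16385 := d28_1 D20984 (iv D16385) (iv F74269)
def n20986 : Q := act 8 n16384
theorem D20986 : act 8 n16384 = n20986 := rfl
theorem F94261 : act 2 n20986 = n16467 := d22_1 D20986 (iv D16467) (iv F74273)
theorem F94263 : act 6 n20986 = n16385 := d40_1 D20986 (iv D16385) D16384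
def n20987 : Q := act 9 n16385
theorem D20987 : act 9 n16385 = n20987 := rfl
theorem F94267 : act 8 n20987 = n16612 := d44_1 D20987 (iv D16612) (iv D12892) (iv F58358) D16385
def n20988 : Q := act 5 n16387
theorem D20988 : act 5 n16387 = n20988 := rfl
def n20989 : Q := act 7 n16387
theorem D20989 : act 7 n16387 = n20989 := rfl
def n20990 : Q := act 4 n16388
theorem D20990 : act 4 n16388 = n20990 := rfl
theorem F94275 : act 1 n20990 = n16390 := d11_1 D20990 (iv D16390) (iv F74287)
theorem F94278 : act 9 n20990 = n16615 := d34_2 (iv F74289) D20990 (iv D16615)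
def n20991 : Q := act 7 n16388
theorem D20991 : act 7 n16388 = n20991 := rfl
theorem F94279 : act 1 n20991 = n16391 := d14_1 D20991 (iv D16391) (iv F74287)
theorem F94282 : act 9 n20991 = n16616 := d43_2 (iv F74289) D20991 (iv D16616)
def n20992 : Q := act 8 n16388
theorem D20992 : act 8 n16388 = n20992 := rfl
theorem F94283 : act 1 n20992 = n16392 := d15_1 D20992 (iv D16392) (iv F74287)
def n20993 : Q := act 7 n16390
theorem D20993 : act 7 n16390 = n20993 := rfl
theorem F94289 : act 9 n20993 = n16618 := d43_2 (iv F74297) D20993 (iv D16618)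
def n20994 : Q := act 8 n16390
theorem D20994 : act 8 n16390 = n20994 := rfl
theorem F94290 : act 2 n20994 = n16394 := d22_1 D20994 (iv D16394) (iv F74294)
theorem F94291 : act 3 n20994 = n20994 := d28_1 D20994 (iv D20994) F74295
theorem F94292 : act 4 n20994 = n16392 := d33_1 D20994 (iv D16392) D16390
def n20995 : Q := act 6 n16391
theorem D20995 : act 6 n16391 = n20995 := rfl
def n20996 : Q := act 8 n16391
theorem D20996 : act 8 n16391 = n20996 := rfl
theorem F94298 : act 7 n20996 = n16392 := d42_1 D20996 (iv D16392) D16391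
def n20997 : Q := act 9 n16392
theorem D20997 : act 9 n16392 = n20997 := rfl
theorem F94299 : act 2 n20997 = n16397 := d23_1 D20997 (iv D16397) (iv F74302)
theorem F94300 : act 3 n20997 = n16475 := d29_1 D20997 (iv D16475) (iv F74303)
theorem F94301 : act 8 n20997 = n16622 := d44_1 D20997 (iv D16622) (iv D12899) (iv F58370) D16392
def n20999 : Q := act 8 n16393
theorem D20999 : act 8 n16393 = n20999 := rfl
theorem F94307 : act 7 n20999 = n16394 := d42_1 D20999 (iv D16394) D16393
def n21000 : Q := act 5 n16394
theorem D21000 : act 5 n16394 = n21000 := rfl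
theorem F94308 : act 3 n21000 = n16402 := d25_1 D21000 (iv D16402) (iv F74308)
theorem F94309 : act 8 n21000 = n21000 := d37_2 D16394 D21000 (iv D21000) (iv D16394) F58376
def n21001 : Q := act 9 n16394
theorem D21001 : act 9 n16394 = n21001 := rfl
theorem F94311 : act 4 n21001 = n16397 := d34_1 D21001 (iv D16397) (iv F74309)
def n21003 : Q := act 9 n16396
theorem D21003 : act 9 n16396 = n21003 := rfl
theorem F94315 : act 3 n21003 = n16399 := d29_1 D21003 (iv D16399) (iv F74312)
theorem F94316 : act 7 n21003 = n16397 := d43_1 D21003 (iv D16397) (iv F74313)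
def n21004 : Q := act 5 n16398
theorem D21004 : act 5 n16398 = n21004 := rfl
def n21005 : Q := act 9 n16398
theorem D21005 : act 9 n16398 = n21005 := rfl
theorem F94321 : act 6 n21005 = n16399 := d41_1 D21005 (iv D16399) (iv F74318)
def n21008 : Q := act 5 n16401
theorem D21008 : act 5 n16401 = n21008 := rfl
theorem F94332 : act 7 n21008 = n16402 := d36_2 (iv F74328) D21008 (iv D16402)
def n21010 : Q := act 6 n16402
theorem D21010 : act 6 n16402 = n21010 := rfl
theorem F94338 : act 2 n21010 = n21010 := d20_1 D21010 (iv D21010) F74329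
theorem F94339 : act 4 n21010 = n21010 := d31_1 D21010 (iv D21010) F74330
theorem F94340 : act 8 n21010 = n21010 := d40_2 F74331 D21010 (iv D21010)
def n21011 : Q := act 9 n16402
theorem D21011 : act 9 n16402 = n21011 := rfl
def n21012 : Q := act 5 n16404
theorem D21012 : act 5 n16404 = n21012 := rfl
def n21015 : Q := act 9 n16406
theorem D21015 : act 9 n16406 = n21015 := rfl
def n21017 : Q := act 5 n16409
theorem D21017 : act 5 n16409 = n21017 := rfl
theorem F94364 : act 6 n21017 = n16429 := d35_2 D16409 D21017 (iv D16429) (iv D12756) (iv F58417)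
def n21018 : Q := act 7 n16409
theorem D21018 : act 7 n16409 = n21018 := rfl
def n21019 : Q := act 7 n16410
theorem D21019 : act 7 n16410 = n21019 := rfl
theorem F94372 : act 4 n21019 = n16416 := d32_1 D21019 (iv D16416) (iv F74359)
def n21020 : Q := act 8 n16410
theorem D21020 : act 8 n16410 = n21020 := rfl
theorem F94376 : act 4 n21020 = n16417 := d33_1 D21020 (iv D16417) (iv F74359)
theorem F94377 : act 6 n21020 = n16432 := d40_1 D21020 (iv D16432) (iv F74360)
def n21024 : Q := act 7 n16413
theorem D21024 : act 7 n16413 = n21024 := rfl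
theorem F94392 : act 6 n21024 = n16421 := d39_1 D21024 (iv D16421) (iv D12750) (iv F58430) D16413
def n21028 : Q := act 6 n16416
theorem D21028 : act 6 n16416 = n21028 := rfl
theorem F94406 : act 5 n21028 = n16425 := d35_1 D21028 (iv D16425) F58460 (iv F58441) (iv F74384)
theorem F94407 : act 7 n21028 = n16440 := d39_2 D16416 D21028 (iv D16440) (iv D12763) (iv F58437)
def n21029 : Q := act 8 n16416
theorem D21029 : act 8 n16416 = n21029 := rfl
theorem F94410 : act 7 n21029 = n16417 := d42_1 D21029 (iv D16417) D16416
def n21030 : Q := act 9 n16417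
theorem D21030 : act 9 n16417 = n21030 := rfl
def n21031 : Q := act 6 n16418
theorem D21031 : act 6 n16418 = n21031 := rfl
theorem F94415 : act 2 n21031 = n17697 := d20_1 D21031 (iv D17697) (iv F74388)
def n21032 : Q := act 5 n16419
theorem D21032 : act 5 n16419 = n21032 := rfl
theorem F94418 : act 1 n21032 = n16420 := d12_1 D21032 (iv D16420) (iv F74392)
theorem F94420 : act 6 n21032 = n16444 := d35_2 D16419 D21032 (iv D16444) (iv D12766) (iv F58445)
def n21034 : Q := act 4 n16420
theorem D21034 : act 4 n16420 = n21034 := rfl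
theorem F94426 : act 2 n21034 = n16422 := d18_1 D21034 (iv D16422) (iv F74396)
def n21035 : Q := act 7 n16420
theorem D21035 : act 7 n16420 = n21035 := rfl
theorem F94430 : act 2 n21035 = n16423 := d21_1 D21035 (iv D16423) (iv F74396)
theorem F94431 : act 5 n21035 = n16421 := d36_1 D21035 (iv D16421) D16420
theorem F94432 : act 9 n21035 = n21035 := d43_2 F74398 D21035 (iv D21035)
def n21036 : Q := act 8 n16420
theorem D21036 : act 8 n16420 = n21036 := rfl
theorem F94433 : act 2 n21036 = n16424 := d22_1 D21036 (iv D16424) (iv F74396)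
theorem F94434 : act 6 n21036 = n16448 := d40_1 D21036 (iv D16448) (iv F74397)
def n21037 : Q := act 7 n16422
theorem D21037 : act 7 n16422 = n21037 := rfl
theorem F94437 : act 4 n21037 = n16423 := d32_1 D21037 (iv D16423) D16422
def n21038 : Q := act 8 n16422
theorem D21038 : act 8 n16422 = n21038 := rfl
theorem F94440 : act 1 n21038 = n17704 := d15_1 D21038 (iv D17704) (iv F74402)
theorem F94441 : act 3 n21038 = n21038 := d28_1 D21038 (iv D21038) F74403
theorem F94442 : act 4 n21038 = n16424 := d33_1 D21038 (iv D16424) D16422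
theorem F94443 : act 6 n21038 = n16450 := d40_1 D21038 (iv D16450) (iv F74405)
def n21039 : Q := act 6 n16423
theorem D21039 : act 6 n16423 = n21039 := rfl
theorem F94445 : act 3 n21039 = n16425 := d26_1 D21039 (iv D16425) (iv F74408)
theorem F94446 : act 7 n21039 = n16451 := d39_2 D16423 D21039 (iv D16451) (iv D12770) (iv F58452)
def n21040 : Q := act 8 n16423
theorem D21040 : act 8 n16423 = n21040 := rfl
theorem F94448 : act 1 n21040 = n17706 := d15_1 D21040 (iv D17706) (iv F74407)
theorem F94449 : act 3 n21040 = n16426 := d28_1 D21040 (iv D16426) (iv F74408)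
theorem F94450 : act 7 n21040 = n16424 := d42_1 D21040 (iv D16424) D16423
def n21041 : Q := act 9 n16424
theorem D21041 : act 9 n16424 = n21041 := rfl
theorem F94451 : act 1 n21041 = n17707 := d16_1 D21041 (iv D17707) (iv F74411)
theorem F94452 : act 3 n21041 = n16427 := d29_1 D21041 (iv D16427) (iv F74412)
theorem F94453 : act 6 n21041 = n16453 := d41_1 D21041 (iv D16453) (iv F74413)
theorem F94454 : act 8 n21041 = n21041 := d44_1 D21041 (iv D21041) (iv D16424) F58453 D16424
def n21042 : Q := act 8 n16425
theorem D21042 : act 8 n16425 = n21042 := rfl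
theorem F94455 : act 1 n21042 = n17708 := d15_1 D21042 (iv D17708) (iv F74414)
theorem F94456 : act 4 n21042 = n21042 := d33_1 D21042 (iv D21042) F74415
theorem F94457 : act 6 n21042 = n16426 := d40_1 D21042 (iv D16426) D16425
theorem F94458 : act 7 n21042 = n16454 := d42_1 D21042 (iv D16454) (iv F74416)
def n21043 : Q := act 9 n16426
theorem D21043 : act 9 n16426 = n21043 := rfl
theorem F94459 : act 1 n21043 = n17709 := d16_1 D21043 (iv D17709) (iv F74418)
theorem F94460 : act 4 n21043 = n21043 := d34_1 D21043 (iv D21043) F74419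
theorem F94461 : act 7 n21043 = n16427 := d43_1 D21043 (iv D16427) (iv F74420)
theorem F94462 : act 8 n21043 = n21043 := d44_1 D21043 (iv D21043) (iv D16426) F58461 D16426
def n21052 : Q := act 6 n16433
theorem D21052 : act 6 n16433 = n21052 := rfl
theorem F94497 : act 4 n21052 = n16490 := d31_1 D21052 (iv D16490) (iv F74447)
def n21054 : Q := act 7 n16434
theorem D21054 : act 7 n16434 = n21054 := rfl
theorem F94505 : act 4 n21054 = n16492 := d32_1 D21054 (iv D16492) (iv F74453)
theorem F94506 : act 6 n21054 = n16445 := d39_1 D21054 (iv D16445) (iv D12766) (iv F58485) D16434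
def n21055 : Q := act 4 n16435
theorem D21055 : act 4 n16435 = n21055 := rfl
theorem F94510 : act 5 n21055 = n16493 := d30_2 D16435 D21055 (iv D16493) (iv D12804) (iv F58489)
def n21056 : Q := act 7 n16435
theorem D21056 : act 7 n16435 = n21056 := rfl
theorem F94513 : act 5 n21056 = n16436 := d36_1 D21056 (iv D16436) D16435
def n21063 : Q := act 8 n16440
theorem D21063 : act 8 n16440 = n21063 := rfl
theorem F94536 : act 6 n21063 = n16441 := d40_1 D21063 (iv D16441) D16440
def n21065 : Q := act 5 n16443
theorem D21065 : act 5 n16443 = n21065 := rfl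
def n21066 : Q := act 7 n16443
theorem D21066 : act 7 n16443 = n21066 := rfl
def n21068 : Q := act 7 n16444
theorem D21068 : act 7 n16444 = n21068 := rfl
theorem F94555 : act 5 n21068 = n16445 := d36_1 D21068 (iv D16445) D16444
def n21069 : Q := act 8 n16444
theorem D21069 : act 8 n16444 = n21069 := rfl
theorem F94557 : act 1 n21069 = n16448 := d15_1 D21069 (iv D16448) (iv F74487)
def n21072 : Q := act 8 n16446
theorem D21072 : act 8 n16446 = n21072 := rfl
theorem F94567 : act 2 n21072 = n16450 := d22_1 D21072 (iv D16450) (iv F74495)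
theorem F94568 : act 4 n21072 = n16448 := d33_1 D21072 (iv D16448) D16446
def n21073 : Q := act 6 n16447
theorem D21073 : act 6 n16447 = n21073 := rfl
def n21074 : Q := act 8 n16447
theorem D21074 : act 8 n16447 = n21074 := rfl
theorem F94572 : act 2 n21074 = n16452 := d22_1 D21074 (iv D16452) (iv F74498)
theorem F94574 : act 7 n21074 = n16448 := d42_1 D21074 (iv D16448) D16447
def n21075 : Q := act 9 n16448
theorem D21075 : act 9 n16448 = n21075 := rfl
theorem F94575 : act 2 n21075 = n16453 := d23_1 D21075 (iv D16453) (iv F74501)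
theorem F94576 : act 5 n21075 = n16475 := d38_1 D21075 (iv D16475) (iv F74502)
def n21077 : Q := act 8 n16449
theorem D21077 : act 8 n16449 = n21077 := rfl
theorem F94584 : act 4 n21077 = n16452 := d33_1 D21077 (iv D16452) (iv F74505)
theorem F94586 : act 7 n21077 = n16450 := d42_1 D21077 (iv D16450) D16449
def n21078 : Q := act 9 n16450
theorem D21078 : act 9 n16450 = n21078 := rfl
theorem F94589 : act 4 n21078 = n16453 := d34_1 D21078 (iv D16453) (iv F74510)
def n21079 : Q := act 8 n16451
theorem D21079 : act 8 n16451 = n21079 := rfl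
theorem F94593 : act 3 n21079 = n16454 := d28_1 D21079 (iv D16454) (iv F74513)
theorem F94594 : act 6 n21079 = n16452 := d40_1 D21079 (iv D16452) D16451
def n21080 : Q := act 9 n16452
theorem D21080 : act 9 n16452 = n21080 := rfl
theorem F94595 : act 1 n21080 = n17744 := d16_1 D21080 (iv D17744) (iv F74515)
theorem F94596 : act 3 n21080 = n16455 := d29_1 D21080 (iv D16455) (iv F74516)
theorem F94597 : act 5 n21080 = n16477 := d38_1 D21080 (iv D16477) (iv F74517)
theorem F94598 : act 7 n21080 = n16453 := d43_1 D21080 (iv D16453) (iv F74518)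
theorem F94599 : act 8 n21080 = n21080 := d44_1 D21080 (iv D21080) (iv D16452) F58528 D16452
def n21081 : Q := act 5 n16454
theorem D21081 : act 5 n16454 = n21081 := rfl
theorem F94600 : act 1 n21081 = n17745 := d12_1 D21081 (iv D17745) (iv F74523)
theorem F94601 : act 6 n21081 = n16478 := d35_2 (iv F74525) D21081 (iv D16478) F58609 (iv F58537)
def n21082 : Q := act 9 n16454
theorem D21082 : act 9 n16454 = n21082 := rfl
theorem F94602 : act 1 n21082 = n17746 := d16_1 D21082 (iv D17746) (iv F74523)
theorem F94603 : act 4 n21082 = n21082 := d34_1 D21082 (iv D21082) F74524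
theorem F94604 : act 6 n21082 = n16455 := d41_1 D21082 (iv D16455) (iv F74525)
theorem F94605 : act 8 n21082 = n21082 := d44_1 D21082 (iv D21082) (iv D16454) F58534 D16454
def n21084 : Q := act 7 n16456
theorem D21084 : act 7 n16456 = n21084 := rfl
theorem F94611 : act 4 n21084 = n16512 := d32_1 D21084 (iv D16512) (iv F74533)
theorem F94612 : act 6 n21084 = n16470 := d39_1 D21084 (iv D16470) (iv D12785) (iv F58545) D16456
def n21085 : Q := act 4 n16457
theorem D21085 : act 4 n16457 = n21085 := rfl
theorem F94616 : act 5 n21085 = n16513 := d30_2 D16457 D21085 (iv D16513) (iv D12820) (iv F58549)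
def n21086 : Q := act 7 n16457
theorem D21086 : act 7 n16457 = n21086 := rfl
theorem F94620 : act 5 n21086 = n16458 := d36_1 D21086 (iv D16458) D16457
def n21089 : Q := act 7 n16459
theorem D21089 : act 7 n16459 = n21089 := rfl
theorem F94628 : act 4 n21089 = n16460 := d32_1 D21089 (iv D16460) D16459
theorem F94629 : act 5 n21089 = n16517 := d36_1 D21089 (iv D16517) (iv F74544)
def n21091 : Q := act 6 n16460
theorem D21091 : act 6 n16460 = n21091 := rfl
theorem F94634 : act 5 n21091 = n16473 := d35_1 D21091 (iv D16473) F58591 (iv F58555) (iv F74547)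
def n21092 : Q := act 8 n16460
theorem D21092 : act 8 n16460 = n21092 := rfl
def n21094 : Q := act 6 n16462
theorem D21094 : act 6 n16462 = n21094 := rfl
theorem F94642 : act 4 n21094 = n16464 := d31_1 D21094 (iv D16464) (iv F74552)
def n21095 : Q := act 8 n16462
theorem D21095 : act 8 n16462 = n21095 := rfl
theorem F94647 : act 4 n21095 = n16465 := d33_1 D21095 (iv D16465) (iv F74552)
def n21098 : Q := act 8 n16464
theorem D21098 : act 8 n16464 = n21098 := rfl
theorem F94657 : act 3 n21098 = n16467 := d28_1 D21098 (iv D16467) (iv F74559)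
def n21100 : Q := act 5 n16467
theorem D21100 : act 5 n16467 = n21100 := rfl
theorem F94663 : act 1 n21100 = n17764 := d12_1 D21100 (iv D17764) (iv F74568)
theorem F94664 : act 8 n21100 = n16478 := d37_2 D16467 D21100 (iv D16478) (iv D12793) (iv F58569)
def n21101 : Q := act 9 n16467
theorem D21101 : act 9 n16467 = n21101 := rfl
theorem F94668 : act 8 n21101 = n16659 := d44_1 D21101 (iv D16659) (iv D12926) (iv F58570) D16467
def n21102 : Q := act 7 n16469
theorem D21102 : act 7 n16469 = n21102 := rfl
theorem F94672 : act 5 n21102 = n16470 := d36_1 D21102 (iv D16470) D16469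
def n21104 : Q := act 6 n16471
theorem D21104 : act 6 n16471 = n21104 := rfl
theorem F94677 : act 1 n21104 = n16473 := d13_1 D21104 (iv D16473) (iv F74583)
def n21105 : Q := act 8 n16471
theorem D21105 : act 8 n16471 = n21105 := rfl
theorem F94684 : act 7 n21105 = n16472 := d42_1 D21105 (iv D16472) D16471
def n21106 : Q := act 9 n16472
theorem D21106 : act 9 n16472 = n21106 := rfl
theorem F94685 : act 1 n21106 = n16475 := d16_1 D21106 (iv D16475) (iv F74588)
def n21107 : Q := act 8 n16473
theorem D21107 : act 8 n16473 = n21107 := rfl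
theorem F94689 : act 2 n21107 = n16476 := d22_1 D21107 (iv D16476) (iv F74591)
def n21108 : Q := act 9 n16474
theorem D21108 : act 9 n16474 = n21108 := rfl
theorem F94692 : act 2 n21108 = n16477 := d23_1 D21108 (iv D16477) (iv F74594)
theorem F94694 : act 7 n21108 = n16475 := d43_1 D21108 (iv D16475) (iv F74596)
def n21109 : Q := act 5 n16476
theorem D21109 : act 5 n16476 = n21109 := rfl
theorem F94696 : act 1 n21109 = n17773 := d12_1 D21109 (iv D17773) (iv F74600)
theorem F94697 : act 3 n21109 = n16478 := d25_1 D21109 (iv D16478) (iv F74601)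
def n21110 : Q := act 9 n16476
theorem D21110 : act 9 n16476 = n21110 := rfl
theorem F94698 : act 1 n21110 = n17774 := d16_1 D21110 (iv D17774) (iv F74600)
theorem F94699 : act 3 n21110 = n16479 := d29_1 D21110 (iv D16479) (iv F74601)
theorem F94700 : act 4 n21110 = n21110 := d34_1 D21110 (iv D21110) F74602
theorem F94701 : act 6 n21110 = n16477 := d41_1 D21110 (iv D16477) (iv F74603)
theorem F94702 : act 8 n21110 = n16668 := d44_1 D21110 (iv D16668) (iv D12935) (iv F58598) D16476
def n21111 : Q := act 4 n16478
theorem D21111 : act 4 n16478 = n21111 := rfl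
theorem F94704 : act 5 n21111 = n16480 := d30_2 D16478 D21111 (iv D16480) (iv D12795) (iv F58608)
def n21112 : Q := act 9 n16478
theorem D21112 : act 9 n16478 = n21112 := rfl
theorem F94706 : act 5 n21112 = n16479 := d38_1 D21112 (iv D16479) D16478
def n21113 : Q := act 3 n16480
theorem D21113 : act 3 n16480 = n21113 := rfl
def n21114 : Q := act 9 n16480
theorem D21114 : act 9 n16480 = n21114 := rfl
theorem F94712 : act 4 n21114 = n16481 := d34_1 D21114 (iv D16481) D16480
def n21126 : Q := act 5 n16490
theorem D21126 : act 5 n16490 = n21126 := rfl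
def n21129 : Q := act 7 n16491
theorem D21129 : act 7 n16491 = n21129 := rfl
theorem F94784 : act 5 n21129 = n16492 := d36_1 D21129 (iv D16492) D16491
def n21130 : Q := act 8 n16491
theorem D21130 : act 8 n16491 = n21130 := rfl
theorem F94789 : act 5 n21130 = n16515 := d37_1 D21130 (iv D16515) (iv D12820) (iv F58655) D16491
def n21132 : Q := act 7 n16493
theorem D21132 : act 7 n16493 = n21132 := rfl
theorem F94795 : act 4 n21132 = n16494 := d32_1 D21132 (iv D16494) D16493
def n21134 : Q := act 6 n16494
theorem D21134 : act 6 n16494 = n21134 := rfl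
theorem F94802 : act 5 n21134 = n16509 := d35_1 D21134 (iv D16509) F58713 (iv F58663) (iv F74682)
def n21135 : Q := act 8 n16494
theorem D21135 : act 8 n16494 = n21135 := rfl
theorem F94807 : act 5 n21135 = n16519 := d37_1 D21135 (iv D16519) F58745 (iv F58664) (iv F74682)
def n21142 : Q := act 9 n16499
theorem D21142 : act 9 n16499 = n21142 := rfl
theorem F94835 : act 7 n21142 = n16500 := d43_1 D21142 (iv D16500) (iv F74702)
def n21149 : Q := act 7 n16507
theorem D21149 : act 7 n16507 = n21149 := rfl
theorem F94871 : act 3 n21149 = n16508 := d27_1 D21149 (iv D16508) D16507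
def n21150 : Q := act 6 n16508
theorem D21150 : act 6 n16508 = n21150 := rfl
theorem F94876 : act 4 n21150 = n16509 := d31_1 D21150 (iv D16509) (iv F74746)
def n21153 : Q := act 7 n16511
theorem D21153 : act 7 n16511 = n21153 := rfl
theorem F94891 : act 5 n21153 = n16512 := d36_1 D21153 (iv D16512) D16511
def n21154 : Q := act 8 n16511
theorem D21154 : act 8 n16511 = n21154 := rfl
theorem F94895 : act 2 n21154 = n17814 := d22_1 D21154 (iv D17814) (iv F74761)
def n21156 : Q := act 7 n16513
theorem D21156 : act 7 n16513 = n21156 := rfl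
def n21157 : Q := act 8 n16513
theorem D21157 : act 8 n16513 = n21157 := rfl
theorem F94907 : act 1 n21157 = n16518 := d15_1 D21157 (iv D16518) (iv F74770)
theorem F94908 : act 2 n21157 = n17817 := d22_1 D21157 (iv D17817) (iv F74771)
def n21158 : Q := act 8 n16514
theorem D21158 : act 8 n16514 = n21158 := rfl
theorem F94915 : act 7 n21158 = n16515 := d42_1 D21158 (iv D16515) D16514
def n21159 : Q := act 9 n16515
theorem D21159 : act 9 n16515 = n21159 := rfl
theorem F94916 : act 1 n21159 = n16520 := d16_1 D21159 (iv D16520) (iv F74780)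
theorem F94919 : act 6 n21159 = n16529 := d41_1 D21159 (iv D16529) (iv F74783)
def n21162 : Q := act 8 n16517
theorem D21162 : act 8 n16517 = n21162 := rfl
theorem F94933 : act 7 n21162 = n16518 := d42_1 D21162 (iv D16518) D16517
def n21165 : Q := act 9 n16519
theorem D21165 : act 9 n16519 = n21165 := rfl
theorem F94942 : act 7 n21165 = n16520 := d43_1 D21165 (iv D16520) (iv F74798)
def n21166 : Q := act 5 n16521
theorem D21166 : act 5 n16521 = n21166 := rfl
def n21167 : Q := act 9 n16521
theorem D21167 : act 9 n16521 = n21167 := rfl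
theorem F94951 : act 7 n21167 = n16523 := d43_1 D21167 (iv D16523) (iv F74807)
def n21183 : Q := act 0 n16535
theorem D21183 : act 0 n16535 = n21183 := rfl
theorem F95015 : act 1 n21183 = n16563 := d0_2 D16535 D21183 (iv D16563) (iv D12858) (iv F58814)
theorem F95018 : act 6 n21183 = n16625 := d5_2 (iv F89314) D21183 (iv F89309)
theorem F95019 : act 7 n21183 = n16541 := d6_2 (iv F74865) D21183 (iv D16541)
def n21184 : Q := act 7 n16536
theorem D21184 : act 7 n16536 = n21184 := rfl
theorem F95025 : act 6 n21184 = n16544 := d39_1 D21184 (iv D16544) (iv D12844) (iv F58817) D16536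
def n21185 : Q := act 7 n16537
theorem D21185 : act 7 n16537 = n21185 := rfl
theorem F95029 : act 5 n21185 = n16538 := d36_1 D21185 (iv D16538) D16537
def n21186 : Q := act 6 n16539
theorem D21186 : act 6 n16539 = n21186 := rfl
theorem F95033 : act 5 n21186 = n16548 := d35_1 D21186 (iv D16548) F58848 (iv F58829) (iv F74882)
def n21187 : Q := act 8 n16539
theorem D21187 : act 8 n16539 = n21187 := rfl
theorem F95034 : act 0 n21187 = n16571 := d7_1 D21187 (iv D16571) (iv F74879)
theorem F95038 : act 7 n21187 = n16540 := d42_1 D21187 (iv D16540) D16539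
def n21189 : Q := act 6 n16541
theorem D21189 : act 6 n16541 = n21189 := rfl
theorem F95045 : act 3 n21189 = n17848 := d26_1 D21189 (iv D17848) (iv F74888)
def n21190 : Q := act 5 n16542
theorem D21190 : act 5 n16542 = n21190 := rfl
theorem F95048 : act 1 n21190 = n16543 := d12_1 D21190 (iv D16543) (iv F74891)
theorem F95049 : act 2 n21190 = n16607 := d19_1 D21190 (iv F88998) F88977
theorem F95050 : act 3 n21190 = n17849 := d25_1 D21190 (iv D17849) (iv F74892)
theorem F95052 : act 8 n16603 = n21190 := d22_0 F95049 (iv D16607) (iv F75128)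
def n21191 : Q := act 7 n16542
theorem D21191 : act 7 n16542 = n21191 := rfl
theorem F95054 : act 3 n21191 = n17850 := d27_1 D21191 (iv D17850) (iv F74892)
def n21192 : Q := act 4 n16543
theorem D21192 : act 4 n16543 = n21192 := rfl
theorem F95059 : act 2 n21192 = n16545 := d18_1 D21192 (iv D16545) (iv F74896)
theorem F95061 : act 3 n16645 = n21192 := d17_0 F95059 F74904 (iv F74938) (iv F74940) (iv F75255)
theorem F95062 : act 8 n21192 = n16601 := d28_2 D16645 F95061 F75122
def n21193 : Q := act 7 n16543
theorem D21193 : act 7 n16543 = n21193 := rfl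
theorem F95064 : act 2 n21193 = n16546 := d21_1 D21193 (iv D16546) (iv F74896)
theorem F95065 : act 3 n21193 = n17852 := d27_1 D21193 (iv D17852) (iv F74897)
def n21194 : Q := act 8 n16543
theorem D21194 : act 8 n16543 = n21194 := rfl
theorem F95068 : act 1 n21194 = n16603 := d15_1 D21194 F95052 F95048
theorem F95069 : act 2 n21194 = n16547 := d22_1 D21194 (iv D16547) (iv F74896)
theorem F95070 : act 3 n21194 = n17853 := d28_1 D21194 (iv D17853) (iv F74897)
theorem F95071 : act 4 n21194 = n16601 := d33_1 D21194 (iv F95062) (iv D21192)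
def n21195 : Q := act 7 n16545
theorem D21195 : act 7 n16545 = n21195 := rfl
theorem F95074 : act 3 n21195 = n16556 := d27_1 D21195 (iv D16556) (iv F74904)
def n21196 : Q := act 8 n16545
theorem D21196 : act 8 n16545 = n21196 := rfl
theorem F95078 : act 1 n21196 = n16565 := d15_1 D21196 F88994 F88990
theorem F95079 : act 2 n21196 = n16601 := d22_1 D21196 (iv F95062) F95059
def n21199 : Q := act 9 n16547
theorem D21199 : act 9 n16547 = n21199 := rfl
def n21202 : Q := act 7 n16551
theorem D21202 : act 7 n16551 = n21202 := rfl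
theorem F95104 : act 3 n21202 = n17862 := d27_1 D21202 (iv D17862) (iv F74927)
theorem F95107 : act 8 n21202 = n17925 := d42_2 (iv F74928) D21202 (iv D17925)
def n21203 : Q := act 7 n16553
theorem D21203 : act 7 n16553 = n21203 := rfl
theorem F95110 : act 2 n21203 = n16556 := d21_1 D21203 (iv D16556) (iv F74938)
theorem F95114 : act 8 n21203 = n17924 := d42_2 F74941 D21203 (iv D17924)
def n21204 : Q := act 6 n16554
theorem D21204 : act 6 n16554 = n21204 := rfl
theorem F95116 : act 2 n21204 = n16558 := d20_1 D21204 (iv D16558) (iv F74943)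
def n21205 : Q := act 8 n16554
theorem D21205 : act 8 n16554 = n21205 := rfl
theorem F95121 : act 2 n21205 = n16559 := d22_1 D21205 (iv D16559) (iv F74943)
theorem F95122 : act 3 n21205 = n17868 := d28_1 D21205 (iv D17868) (iv F74944)
def n21206 : Q := act 9 n16555
theorem D21206 : act 9 n16555 = n21206 := rfl
theorem F95128 : act 2 n21206 = n16560 := d23_1 D21206 (iv D16560) (iv F74948)
theorem F95129 : act 3 n21206 = n17869 := d29_1 D21206 (iv D17869) (iv F74949)
theorem F95130 : act 4 n21206 = n17643 := d34_1 D21206 F79373 (iv F74950)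
def n21207 : Q := act 6 n16556
theorem D21207 : act 6 n16556 = n21207 := rfl
theorem F95132 : act 0 n21207 = n16592 := d5_1 D21207 (iv D16592) (iv F74952)
theorem F95133 : act 4 n21207 = n16558 := d31_1 D21207 (iv D16558) (iv F74953)
def n21208 : Q := act 8 n16556
theorem D21208 : act 8 n16556 = n21208 := rfl
theorem F95136 : act 2 n21208 = n17924 := d22_1 D21208 (iv F95114) F95110
theorem F95137 : act 4 n21208 = n16559 := d33_1 D21208 (iv D16559) (iv F74953)
theorem F95138 : act 7 n21208 = n16557 := d42_1 D21208 (iv D16557) D16556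
theorem F95139 : act 5 n17878 = n21208 := d36_3 F95138 (iv F74959) D17878
def n21209 : Q := act 9 n16557
theorem D21209 : act 9 n16557 = n21209 := rfl
theorem F95141 : act 1 n21209 = n17561 := d16_1 D21209 F79047 (iv F74956)
theorem F95142 : act 2 n21209 = n17643 := d23_1 D21209 F79373 (iv F74957)
def n21210 : Q := act 8 n16558
theorem D21210 : act 8 n16558 = n21210 := rfl
theorem F95146 : act 3 n21210 = n16561 := d28_1 D21210 (iv D16561) (iv F74961)
theorem F95147 : act 6 n21210 = n16559 := d40_1 D21210 (iv D16559) D16558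
def n21211 : Q := act 9 n16559
theorem D21211 : act 9 n16559 = n21211 := rfl
theorem F95150 : act 5 n21211 = n16707 := d38_1 D21211 (iv D16707) (iv F74965)
def n21212 : Q := act 5 n16561
theorem D21212 : act 5 n16561 = n21212 := rfl
theorem F95154 : act 6 n21212 = n16708 := d35_2 (iv F74972) D21212 (iv D16708) F59298 (iv F58880)
def n21214 : Q := act 6 n16563
theorem D21214 : act 6 n16563 = n21214 := rfl
theorem F95160 : act 1 n21214 = n16625 := d13_1 D21214 (iv F95018) F95015
theorem F95161 : act 2 n21214 = n16600 := d20_1 D21214 (iv D16600) (iv F74977)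
def n21215 : Q := act 7 n16564
theorem D21215 : act 7 n16564 = n21215 := rfl
theorem F95168 : act 3 n21215 = n17878 := d27_1 D21215 (iv D17878) (iv F74984)
theorem F95170 : act 6 n21215 = n16575 := d39_1 D21215 (iv D16575) (iv D12865) (iv F58888) D16564
def n21216 : Q := act 7 n16565
theorem D21216 : act 7 n16565 = n21216 := rfl
theorem F95172 : act 2 n21216 = n16568 := d21_1 D21216 (iv D16568) (iv F74987)
theorem F95174 : act 5 n21216 = n16566 := d36_1 D21216 (iv D16566) D16565
def n21220 : Q := act 9 n16569
theorem D21220 : act 9 n16569 = n21220 := rfl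
theorem F95187 : act 3 n21220 = n16572 := d29_1 D21220 (iv D16572) (iv F75001)
def n21223 : Q := act 5 n16573
theorem D21223 : act 5 n16573 = n21223 := rfl
theorem F95198 : act 0 n21223 = n16574 := d4_1 D21223 (iv D16574) (iv F75016)
theorem F95200 : act 3 n21223 = n17886 := d25_1 D21223 (iv D17886) (iv F75018)
def n21225 : Q := act 4 n16574
theorem D21225 : act 4 n16574 = n21225 := rfl
theorem F95206 : act 1 n21225 = n16576 := d11_1 D21225 (iv D16576) (iv F75021)
theorem F95207 : act 2 n21225 = n16615 := d18_1 D21225 (iv D16615) (iv F75022)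
def n21226 : Q := act 7 n16574
theorem D21226 : act 7 n16574 = n21226 := rfl
theorem F95210 : act 2 n21226 = n16616 := d21_1 D21226 (iv D16616) (iv F75022)
theorem F95211 : act 3 n21226 = n17889 := d27_1 D21226 (iv D17889) (iv F75023)
def n21227 : Q := act 8 n16574
theorem D21227 : act 8 n16574 = n21227 := rfl
theorem F95214 : act 2 n21227 = n16617 := d22_1 D21227 (iv D16617) (iv F75022)
theorem F95215 : act 3 n21227 = n17890 := d28_1 D21227 (iv D17890) (iv F75023)
def n21228 : Q := act 3 n16576
theorem D21228 : act 3 n16576 = n21228 := rfl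
theorem F95218 : act 2 n21228 = n16586 := d17_1 D21228 (iv D16586) F58946 (iv F58925) (iv F75029)
theorem F95219 : act 4 n21228 = n17891 := d24_2 D16576 D21228 (iv D17891) (iv D13869) (iv F58919)
theorem F95221 : act 8 n16641 = n21228 := d22_0 F95218 (iv F75066) (iv F75242)
def n21229 : Q := act 7 n16576
theorem D21229 : act 7 n16576 = n21229 := rfl
theorem F95222 : act 2 n21229 = n16579 := d21_1 D21229 (iv D16579) (iv F75029)
def n21230 : Q := act 8 n16576
theorem D21230 : act 8 n16576 = n21230 := rfl
theorem F95226 : act 2 n21230 = n16580 := d22_1 D21230 (iv D16580) (iv F75029)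
theorem F95227 : act 3 n21230 = n16641 := d28_1 D21230 F95221 (iv D21228)
theorem F95228 : act 4 n21230 = n16578 := d33_1 D21230 (iv D16578) D16576
def n21232 : Q := act 8 n16577
theorem D21232 : act 8 n16577 = n21232 := rfl
theorem F95232 : act 2 n21232 = n16582 := d22_1 D21232 (iv D16582) (iv F75031)
theorem F95233 : act 3 n21232 = n17895 := d28_1 D21232 (iv D17895) (iv F75032)
def n21234 : Q := act 6 n16579
theorem D21234 : act 6 n16579 = n21234 := rfl
theorem F95239 : act 1 n21234 = n16623 := d13_1 D21234 (iv D16623) (iv F75037)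
def n21235 : Q := act 8 n16579
theorem D21235 : act 8 n16579 = n21235 := rfl
theorem F95242 : act 1 n21235 = n16624 := d15_1 D21235 (iv D16624) (iv F75037)
def n21237 : Q := act 8 n16581
theorem D21237 : act 8 n16581 = n21237 := rfl
theorem F95249 : act 1 n21237 = n16627 := d15_1 D21237 (iv D16627) (iv F75044)
theorem F95251 : act 6 n21237 = n16582 := d40_1 D21237 (iv D16582) D16581
def n21238 : Q := act 9 n16582
theorem D21238 : act 9 n16582 = n21238 := rfl
theorem F95252 : act 1 n21238 = n16628 := d16_1 D21238 (iv D16628) (iv F75046)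
def n21239 : Q := act 5 n16584
theorem D21239 : act 5 n16584 = n21239 := rfl
theorem F95256 : act 1 n21239 = n16629 := d12_1 D21239 (iv D16629) (iv F75053)
theorem F95257 : act 2 n21239 = n17903 := d19_1 D21239 (iv D17903) (iv F75054)
def n21241 : Q := act 7 n16586
theorem D21241 : act 7 n16586 = n21241 := rfl
theorem F95265 : act 3 n21241 = n16587 := d27_1 D21241 (iv D16587) D16586
theorem F95266 : act 4 n21241 = n17905 := d32_1 D21241 (iv D17905) (iv F75064)
theorem F95268 : act 8 n21241 = n17967 := d42_2 F75066 D21241 (iv D17967)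
def n21242 : Q := act 6 n16587
theorem D21242 : act 6 n16587 = n21242 := rfl
def n21243 : Q := act 8 n16587
theorem D21243 : act 8 n16587 = n21243 := rfl
theorem F95274 : act 2 n21243 = n16593 := d22_1 D21243 (iv D16593) (iv F75068)
theorem F95275 : act 3 n21243 = n17967 := d28_1 D21243 (iv F95268) F95265
theorem F95277 : act 7 n21243 = n16588 := d42_1 D21243 (iv D16588) D16587
theorem F95278 : act 5 n17923 = n21243 := d36_3 F95277 (iv F75076) D17923
def n21244 : Q := act 9 n16588
theorem D21244 : act 9 n16588 = n21244 := rfl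
theorem F95281 : act 2 n21244 = n16595 := d23_1 D21244 (iv D16595) (iv F75073)
theorem F95282 : act 3 n21244 = n17747 := d29_1 D21244 F79783 (iv F75074)
def n21248 : Q := act 8 n16592
theorem D21248 : act 8 n16592 = n21248 := rfl
theorem F95297 : act 1 n21248 = n16632 := d15_1 D21248 (iv D16632) (iv F75090)
theorem F95299 : act 6 n21248 = n16593 := d40_1 D21248 (iv D16593) D16592
def n21249 : Q := act 5 n16593
theorem D21249 : act 5 n16593 = n21249 := rfl
theorem F95304 : act 7 n21249 = n16594 := d36_2 (iv F75094) D21249 (iv D16594)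
theorem F95306 : act 6 n17887 = n21249 := d39_5 F95304 (iv F75100) F62943 D13866 D17887
def n21250 : Q := act 9 n16593
theorem D21250 : act 9 n16593 = n21250 := rfl
theorem F95307 : act 1 n21250 = n16634 := d16_1 D21250 (iv D16634) (iv F75092)
def n21251 : Q := act 9 n16594
theorem D21251 : act 9 n16594 = n21251 := rfl
theorem F95312 : act 2 n21251 = n17642 := d23_1 D21251 F79370 (iv F75097)
theorem F95315 : act 6 n21251 = n17559 := d41_1 D21251 F79041 F75100
def n21252 : Q := act 5 n16596
theorem D21252 : act 5 n16596 = n21252 := rfl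
theorem F95318 : act 6 n21252 = n16721 := d35_2 (iv F75105) D21252 (iv D16721) F59354 (iv F58966)
def n21254 : Q := act 4 n16598
theorem D21254 : act 4 n16598 = n21254 := rfl
theorem F95325 : act 6 n21254 = n16723 := d31_2 (iv F75112) D21254 (iv D16723)
def n21256 : Q := act 7 n16600
theorem D21256 : act 7 n16600 = n21256 := rfl
theorem F95332 : act 3 n21256 = n16642 := d27_1 D21256 (iv D16642) (iv F75118)
theorem F95334 : act 6 n21256 = n16614 := d39_1 D21256 (iv D16614) (iv D12894) (iv F58980) D16600
def n21257 : Q := act 7 n16601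
theorem D21257 : act 7 n16601 = n21257 := rfl
theorem F95337 : act 3 n21257 = n16644 := d27_1 D21257 (iv D16644) (iv F75122)
def n21258 : Q := act 3 n16603
theorem D21258 : act 3 n16603 = n21258 := rfl
theorem F95341 : act 4 n21258 = n16646 := d24_2 D16603 D21258 (iv D16646) (iv D12918) (iv F58987)
theorem F95343 : act 8 n21258 = n17849 := d28_2 (iv F95052) D21258 (iv F95050)
def n21259 : Q := act 7 n16603
theorem D21259 : act 7 n16603 = n21259 := rfl
theorem F95344 : act 2 n21259 = n16606 := d21_1 D21259 (iv D16606) (iv F75128)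
def n21260 : Q := act 6 n16604
theorem D21260 : act 6 n16604 = n21260 := rfl
theorem F95347 : act 2 n21260 = n16608 := d20_1 D21260 (iv D16608) (iv F75130)
theorem F95348 : act 3 n21260 = n16649 := d26_1 D21260 (iv D16649) (iv F75131)
theorem F95349 : act 5 n21260 = n16620 := d35_1 D21260 (iv D16620) F59024 (iv F58991) (iv F75132)
def n21261 : Q := act 8 n16604
theorem D21261 : act 8 n16604 = n21261 := rfl
theorem F95350 : act 2 n21261 = n16609 := d22_1 D21261 (iv D16609) (iv F75130)
theorem F95351 : act 3 n21261 = n16650 := d28_1 D21261 (iv D16650) (iv F75131)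
def n21263 : Q := act 6 n16606
theorem D21263 : act 6 n16606 = n21263 := rfl
def n21264 : Q := act 8 n16606
theorem D21264 : act 8 n16606 = n21264 := rfl
theorem F95361 : act 7 n21264 = n16607 := d42_1 D21264 (iv D16607) D16606
def n21266 : Q := act 8 n16608
theorem D21266 : act 8 n16608 = n21266 := rfl
def n21267 : Q := act 9 n16609
theorem D21267 : act 9 n16609 = n21267 := rfl
def n21268 : Q := act 5 n16611
theorem D21268 : act 5 n16611 = n21268 := rfl
theorem F95369 : act 2 n21268 = n16658 := d19_1 D21268 (iv D16658) (iv F75148)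
theorem F95371 : act 8 n21268 = n16629 := d37_2 D16611 D21268 (iv D16629) (iv D12905) (iv F59001)
def n21269 : Q := act 9 n16611
theorem D21269 : act 9 n16611 = n21269 := rfl
theorem F95372 : act 2 n21269 = n16659 := d23_1 D21269 (iv D16659) (iv F75148)
theorem F95374 : act 6 n21269 = n16612 := d41_1 D21269 (iv D16612) (iv F75150)
def n21270 : Q := act 4 n16613
theorem D21270 : act 4 n16613 = n21270 := rfl
theorem F95375 : act 0 n21270 = n16615 := d3_1 D21270 (iv D16615) (iv F75155)
def n21271 : Q := act 7 n16613
theorem D21271 : act 7 n16613 = n21271 := rfl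
theorem F95380 : act 5 n21271 = n16614 := d36_1 D21271 (iv D16614) D16613
def n21272 : Q := act 8 n16613
theorem D21272 : act 8 n16613 = n21272 := rfl
theorem F95381 : act 0 n21272 = n16617 := d7_1 D21272 (iv D16617) (iv F75155)
theorem F95382 : act 3 n21272 = n16661 := d28_1 D21272 (iv D16661) (iv F75156)
def n21273 : Q := act 7 n16615
theorem D21273 : act 7 n16615 = n21273 := rfl
theorem F95384 : act 1 n21273 = n16618 := d14_1 D21273 (iv D16618) (iv F75161)
theorem F95386 : act 4 n21273 = n16616 := d32_1 D21273 (iv D16616) D16615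
def n21274 : Q := act 8 n16615
theorem D21274 : act 8 n16615 = n21274 := rfl
theorem F95388 : act 1 n21274 = n16619 := d15_1 D21274 (iv D16619) (iv F75161)
theorem F95390 : act 4 n21274 = n16617 := d33_1 D21274 (iv D16617) D16615
def n21275 : Q := act 6 n16616
theorem D21275 : act 6 n16616 = n21275 := rfl
def n21276 : Q := act 8 n16616
theorem D21276 : act 8 n16616 = n21276 := rfl
def n21277 : Q := act 9 n16617
theorem D21277 : act 9 n16617 = n21277 := rfl
def n21278 : Q := act 6 n16618
theorem D21278 : act 6 n16618 = n21278 := rfl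
def n21279 : Q := act 8 n16618
theorem D21279 : act 8 n16618 = n21279 := rfl
theorem F95403 : act 2 n21279 = n16624 := d22_1 D21279 (iv D16624) (iv F75170)
theorem F95406 : act 7 n21279 = n16619 := d42_1 D21279 (iv D16619) D16618
def n21280 : Q := act 5 n16619
theorem D21280 : act 5 n16619 = n21280 := rfl
theorem F95407 : act 2 n21280 = n16625 := d19_1 D21280 (iv D16625) (iv F75174)
def n21281 : Q := act 9 n16619
theorem D21281 : act 9 n16619 = n21281 := rfl
theorem F95413 : act 4 n21281 = n16622 := d34_1 D21281 (iv D16622) (iv F75176)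
def n21282 : Q := act 8 n16620
theorem D21282 : act 8 n16620 = n21282 := rfl
theorem F95415 : act 3 n21282 = n16665 := d28_1 D21282 (iv D16665) (iv F75178)
def n21283 : Q := act 9 n16621
theorem D21283 : act 9 n16621 = n21283 := rfl
theorem F95420 : act 7 n21283 = n16622 := d43_1 D21283 (iv D16622) (iv F75182)
def n21285 : Q := act 8 n16623
theorem D21285 : act 8 n16623 = n21285 := rfl
theorem F95423 : act 3 n21285 = n16632 := d28_1 D21285 (iv D16632) (iv F75186)
def n21286 : Q := act 5 n16624
theorem D21286 : act 5 n16624 = n21286 := rfl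
theorem F95426 : act 3 n21286 = n16633 := d25_1 D21286 (iv D16633) (iv F75188)
theorem F95428 : act 7 n21286 = n16625 := d36_2 (iv F75190) D21286 (iv D16625)
def n21287 : Q := act 9 n16624
theorem D21287 : act 9 n16624 = n21287 := rfl
def n21289 : Q := act 5 n16627
theorem D21289 : act 5 n16627 = n21289 := rfl
def n21291 : Q := act 4 n16629
theorem D21291 : act 4 n16629 = n21291 := rfl
theorem F95441 : act 5 n21291 = n16639 := d30_2 D16629 D21291 (iv D16639) (iv D12913) (iv F59040)
def n21292 : Q := act 9 n16629
theorem D21292 : act 9 n16629 = n21292 := rfl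
def n21294 : Q := act 5 n16632
theorem D21294 : act 5 n16632 = n21294 := rfl
def n21295 : Q := act 9 n16632
theorem D21295 : act 9 n16632 = n21295 := rfl
def n21296 : Q := act 6 n16633
theorem D21296 : act 6 n16633 = n21296 := rfl
theorem F95456 : act 4 n21296 = n16728 := d31_1 D21296 (iv D16728) (iv F75213)
theorem F95457 : act 7 n21296 = n17848 := d39_2 (iv F75214) D21296 (iv D17848) F75224 (iv D16635)
def n21297 : Q := act 9 n16633
theorem D21297 : act 9 n16633 = n21297 := rfl
theorem F95460 : act 4 n21297 = n16729 := d34_1 D21297 (iv D16729) (iv F75213)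
def n21301 : Q := act 9 n16637
theorem D21301 : act 9 n16637 = n21301 := rfl
theorem F95477 : act 5 n21301 = n16638 := d38_1 D21301 (iv D16638) D16637
def n21305 : Q := act 4 n16641
theorem D21305 : act 4 n16641 = n21305 := rfl
theorem F95489 : act 3 n21305 = n17893 := d24_1 D21305 F80383 (iv F75035) (iv F95228) F95227
theorem F95490 : act 5 n21305 = n16674 := d30_2 D16641 D21305 (iv D16674) (iv D12941) (iv F59070)
def n21306 : Q := act 7 n16641
theorem D21306 : act 7 n16641 = n21306 := rfl
theorem F95494 : act 5 n21306 = n16642 := d36_1 D21306 (iv D16642) D16641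
def n21307 : Q := act 3 n16643
theorem D21307 : act 3 n16643 = n21307 := rfl
theorem F95497 : act 2 n21307 = n17855 := d17_1 D21307 F80238 (iv F80288) F80289 (iv F75249)
theorem F95498 : act 4 n21307 = n17853 := d24_2 D16643 D21307 (iv F95070) F95071 F75122
theorem F95499 : act 5 n21307 = n16677 := d25_2 (iv F75250) D21307 (iv D16677)
theorem F95500 : act 8 n17851 = n21307 := d33_0 F95498 (iv D17853) D17851
def n21308 : Q := act 7 n16643
theorem D21308 : act 7 n16643 = n21308 := rfl
theorem F95503 : act 4 n21308 = n16644 := d32_1 D21308 (iv D16644) D16643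
theorem F95504 : act 5 n21308 = n16678 := d36_1 D21308 (iv D16678) (iv F75250)
def n21309 : Q := act 8 n16643
theorem D21309 : act 8 n16643 = n21309 := rfl
theorem F95508 : act 3 n21309 = n17851 := d28_1 D21309 F95500 (iv D21307)
theorem F95509 : act 4 n21309 = n16645 := d33_1 D21309 (iv D16645) D16643
theorem F95510 : act 5 n18312 = n21309 := d25_0 F95508 F80224 D18312
def n21310 : Q := act 6 n16644
theorem D21310 : act 6 n16644 = n21310 := rfl
theorem F95513 : act 5 n21310 = n16662 := d35_1 D21310 (iv D16662) F59119 (iv F59077) (iv F75253)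
def n21313 : Q := act 7 n16646
theorem D21313 : act 7 n16646 = n21313 := rfl
theorem F95523 : act 5 n21313 = n16682 := d36_1 D21313 (iv D16682) (iv F75258)
def n21314 : Q := act 8 n16646
theorem D21314 : act 8 n16646 = n21314 := rfl
theorem F95527 : act 4 n21314 = n17849 := d33_1 D21314 (iv F95343) F95341
theorem F95528 : act 5 n18309 = n21314 := d30_0 F95527 (iv D17849) F62864 D14269 D18309
def n21316 : Q := act 8 n16647
theorem D21316 : act 8 n16647 = n21316 := rfl
theorem F95533 : act 4 n21316 = n16650 := d33_1 D21316 (iv D16650) (iv F75260)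
def n21319 : Q := act 8 n16649
theorem D21319 : act 8 n16649 = n21319 := rfl
theorem F95544 : act 6 n21319 = n16650 := d40_1 D21319 (iv D16650) D16649
def n21322 : Q := act 5 n16653
theorem D21322 : act 5 n16653 = n21322 := rfl
theorem F95556 : act 8 n21322 = n16688 := d37_2 D16653 D21322 (iv D16688) (iv D12951) (iv F59088)
def n21325 : Q := act 5 n16656
theorem D21325 : act 5 n16656 = n21325 := rfl
theorem F95566 : act 1 n21325 = n17983 := d12_1 D21325 (iv D17983) (iv F75287)
theorem F95569 : act 8 n21325 = n16667 := d37_2 D16656 D21325 (iv D16667) (iv D12935) (iv F59094)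
def n21327 : Q := act 4 n16658
theorem D21327 : act 4 n16658 = n21327 := rfl
theorem F95574 : act 5 n21327 = n21327 := d30_2 D16658 D21327 (iv D21327) (iv D16658) F59103
theorem F95575 : act 6 n21327 = n21327 := d31_2 F75295 D21327 (iv D21327)
theorem F95576 : act 8 n21327 = n16669 := d33_2 (iv F75296) D21327 (iv D16669)
def n21328 : Q := act 9 n16658
theorem D21328 : act 9 n16658 = n21328 := rfl
theorem F95578 : act 5 n21328 = n16659 := d38_1 D21328 (iv D16659) D16658
theorem F95579 : act 6 n21328 = n21328 := d41_1 D21328 (iv D21328) F75295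
def n21329 : Q := act 6 n16660
theorem D21329 : act 6 n16660 = n21329 := rfl
def n21332 : Q := act 8 n16662
theorem D21332 : act 8 n16662 = n21332 := rfl
theorem F95592 : act 1 n21332 = n16665 := d15_1 D21332 (iv D16665) (iv F75308)
def n21334 : Q := act 5 n16665
theorem D21334 : act 5 n16665 = n21334 := rfl
theorem F95601 : act 2 n21334 = n16667 := d19_1 D21334 (iv D16667) (iv F75320)
def n21335 : Q := act 9 n16665
theorem D21335 : act 9 n16665 = n21335 := rfl
theorem F95603 : act 2 n21335 = n16668 := d23_1 D21335 (iv D16668) (iv F75320)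
def n21336 : Q := act 4 n16667
theorem D21336 : act 4 n16667 = n21336 := rfl
def n21337 : Q := act 9 n16667
theorem D21337 : act 9 n16667 = n21337 := rfl
theorem F95610 : act 3 n21337 = n16670 := d29_1 D21337 (iv D16670) (iv F75328)
theorem F95611 : act 5 n21337 = n16668 := d38_1 D21337 (iv D16668) D16667
theorem F95612 : act 6 n21337 = n21337 := d41_1 D21337 (iv D21337) F75329
def n21338 : Q := act 3 n16669
theorem D21338 : act 3 n16669 = n21338 := rfl
def n21339 : Q := act 9 n16669
theorem D21339 : act 9 n16669 = n21339 := rfl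
def n21340 : Q := act 8 n16670
theorem D21340 : act 8 n16670 = n21340 := rfl
def n21344 : Q := act 3 n16674
theorem D21344 : act 3 n16674 = n21344 := rfl
theorem F95637 : act 5 n21344 = n17893 := d25_2 F95490 D21344 (iv F95489)
theorem F95639 : act 8 n18362 = n21344 := d37_0 F95637 (iv D17893) F62984 D14316 D18362
def n21345 : Q := act 7 n16674
theorem D21345 : act 7 n16674 = n21345 := rfl
def n21346 : Q := act 8 n16674
theorem D21346 : act 8 n16674 = n21346 := rfl
theorem F95645 : act 2 n21346 = n18002 := d22_1 D21346 (iv D18002) (iv F75352)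
def n21347 : Q := act 8 n16675
theorem D21347 : act 8 n16675 = n21347 := rfl
theorem F95655 : act 7 n21347 = n16676 := d42_1 D21347 (iv D16676) D16675
def n21348 : Q := act 9 n16676
theorem D21348 : act 9 n16676 = n21348 := rfl
theorem F95660 : act 6 n21348 = n16693 := d41_1 D21348 (iv D16693) (iv F75363)
def n21349 : Q := act 2 n16677
theorem D21349 : act 2 n16677 = n21349 := rfl
theorem F95665 : act 5 n21349 = n17855 := d19_2 F95499 D21349 (iv F95497)
theorem F95666 : act 6 n21349 = n16694 := d20_2 (iv F75366) D21349 (iv D16694)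
theorem F95667 : act 8 n18320 = n21349 := d37_0 F95665 (iv D17855) F62875 D14275 D18320
def n21350 : Q := act 7 n16677
theorem D21350 : act 7 n16677 = n21350 := rfl
theorem F95668 : act 1 n21350 = n16682 := d14_1 D21350 (iv D16682) (iv F75364)
def n21351 : Q := act 8 n16677
theorem D21351 : act 8 n16677 = n21351 := rfl
theorem F95674 : act 2 n21351 = n18320 := d22_1 D21351 F95667 (iv D21349)
def n21352 : Q := act 8 n16678
theorem D21352 : act 8 n16678 = n21352 := rfl
theorem F95679 : act 1 n21352 = n16684 := d15_1 D21352 (iv D16684) (iv F75367)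
theorem F95680 : act 2 n21352 = n18007 := d22_1 D21352 (iv D18007) (iv F75368)
theorem F95683 : act 7 n21352 = n16679 := d42_1 D21352 (iv D16679) D16678
def n21353 : Q := act 5 n16679
theorem D21353 : act 5 n16679 = n21353 := rfl
theorem F95690 : act 8 n21353 = n18312 := d37_2 D16679 D21353 F95510 (iv D21309) F75250
def n21354 : Q := act 9 n16679
theorem D21354 : act 9 n16679 = n21354 := rfl
theorem F95691 : act 1 n21354 = n16686 := d16_1 D21354 (iv D16686) (iv F75371)
theorem F95694 : act 6 n21354 = n16696 := d41_1 D21354 (iv D16696) (iv F75374)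
def n21355 : Q := act 9 n16680
theorem D21355 : act 9 n16680 = n21355 := rfl
theorem F95700 : act 7 n21355 = n16681 := d43_1 D21355 (iv D16681) (iv F75380)
def n21356 : Q := act 8 n16682
theorem D21356 : act 8 n16682 = n21356 := rfl
def n21359 : Q := act 5 n16684
theorem D21359 : act 5 n16684 = n21359 := rfl
def n21360 : Q := act 9 n16684
theorem D21360 : act 9 n16684 = n21360 := rfl
theorem F95722 : act 7 n21360 = n16686 := d43_1 D21360 (iv D16686) (iv F75397)
def n21363 : Q := act 9 n16688
theorem D21363 : act 9 n16688 = n21363 := rfl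
theorem F95732 : act 1 n21363 = n18018 := d16_1 D21363 (iv D18018) (iv F75409)
def n21368 : Q := act 8 n16694
theorem D21368 : act 8 n16694 = n21368 := rfl
theorem F95763 : act 3 n21368 = n18022 := d28_1 D21368 (iv D18022) (iv F75437)
theorem F95766 : act 6 n21368 = n18320 := d40_1 D21368 F95667 F95666
def n21370 : Q := act 6 n16698
theorem D21370 : act 6 n16698 = n21370 := rfl
theorem F95774 : act 1 n21370 = n16700 := d13_1 D21370 (iv D16700) (iv F75456)
theorem F95776 : act 3 n21370 = n18025 := d26_1 D21370 (iv D18025) (iv F75458)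
theorem F95777 : act 4 n21370 = n18395 := d31_1 D21370 F82807 (iv F75459)
theorem F95780 : act 8 n21370 = n18394 := d40_2 (iv F75461) D21370 (iv D18394)
def n21371 : Q := act 6 n16699
theorem D21371 : act 6 n16699 = n21371 := rfl
theorem F95786 : act 4 n21371 = n16700 := d31_1 D21371 (iv D16700) (iv F75467)
theorem F95788 : act 8 n21371 = n18393 := d40_2 (iv F75469) D21371 (iv D18393)
def n21372 : Q := act 8 n16700
theorem D21372 : act 8 n16700 = n21372 := rfl
theorem F95790 : act 0 n21372 = n16714 := d7_1 D21372 (iv D16714) (iv F75471)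
theorem F95791 : act 1 n21372 = n18394 := d15_1 D21372 (iv F95780) F95774
theorem F95794 : act 4 n21372 = n18393 := d33_1 D21372 (iv F95788) F95786
def n21373 : Q := act 9 n16701
theorem D21373 : act 9 n16701 = n21373 := rfl
theorem F95799 : act 2 n21373 = n16707 := d23_1 D21373 (iv D16707) (iv F75479)
theorem F95800 : act 3 n21373 = n18033 := d29_1 D21373 (iv D18033) (iv F75480)
def n21374 : Q := act 5 n16703
theorem D21374 : act 5 n16703 = n21374 := rfl
theorem F95804 : act 0 n21374 = n16716 := d4_1 D21374 (iv D16716) (iv F75490)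
def n21375 : Q := act 8 n16703
theorem D21375 : act 8 n16703 = n21375 := rfl
theorem F95810 : act 0 n21375 = n16717 := d7_1 D21375 (iv D16717) (iv F75490)
theorem F95814 : act 4 n21375 = n16706 := d33_1 D21375 (iv D16706) (iv F75492)
theorem F95815 : act 6 n21375 = n16704 := d40_1 D21375 (iv D16704) D16703
theorem F95817 : act 5 n18355 = n21375 := d35_5 F95815 (iv F75501) F64985 (iv F65034) D18355
def n21376 : Q := act 9 n16704
theorem D21376 : act 9 n16704 = n21376 := rfl
theorem F95820 : act 2 n21376 = n18197 := d23_1 D21376 F81809 (iv F75497)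
theorem F95823 : act 5 n21376 = n18128 := d38_1 D21376 F81492 F75501
def n21377 : Q := act 5 n16706
theorem D21377 : act 5 n16706 = n21377 := rfl
theorem F95827 : act 3 n21377 = n16708 := d25_1 D21377 (iv D16708) (iv F75511)
def n21378 : Q := act 9 n16706
theorem D21378 : act 9 n16706 = n21378 := rfl
theorem F95830 : act 0 n21378 = n16722 := d8_1 D21378 (iv D16722) (iv F75510)
theorem F95831 : act 3 n21378 = n16709 := d29_1 D21378 (iv D16709) (iv F75511)
def n21379 : Q := act 4 n16708
theorem D21379 : act 4 n16708 = n21379 := rfl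
def n21380 : Q := act 9 n16708
theorem D21380 : act 9 n16708 = n21380 := rfl
def n21381 : Q := act 6 n16710
theorem D21381 : act 6 n16710 = n21381 := rfl
theorem F95850 : act 8 n21381 = n18429 := d40_2 (iv F75534) D21381 (iv D18429)
def n21383 : Q := act 8 n16711
theorem D21383 : act 8 n16711 = n21383 := rfl
theorem F95862 : act 4 n21383 = n16714 := d33_1 D21383 (iv D16714) (iv F75538)
theorem F95863 : act 6 n21383 = n16712 := d40_1 D21383 (iv D16712) D16711
theorem F95865 : act 5 n18402 = n21383 := d35_5 F95863 (iv F75547) F65174 (iv F65240) D18402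
def n21384 : Q := act 9 n16712
theorem D21384 : act 9 n16712 = n21384 := rfl
theorem F95868 : act 2 n21384 = n16719 := d23_1 D21384 (iv D16719) (iv F75543)
theorem F95869 : act 3 n21384 = n18256 := d29_1 D21384 F82108 (iv F75544)
def n21385 : Q := act 5 n16714
theorem D21385 : act 5 n16714 = n21385 := rfl
def n21387 : Q := act 8 n16716
theorem D21387 : act 8 n16716 = n21387 := rfl
def n21388 : Q := act 5 n16717
theorem D21388 : act 5 n16717 = n21388 := rfl
theorem F95890 : act 0 n21388 = n18355 := d4_1 D21388 F95817 F95810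
def n21389 : Q := act 9 n16717
theorem D21389 : act 9 n16717 = n21389 := rfl
theorem F95898 : act 4 n21389 = n16722 := d34_1 D21389 (iv D16722) (iv F75574)
def n21391 : Q := act 8 n16720
theorem D21391 : act 8 n16720 = n21391 := rfl
theorem F95910 : act 1 n21391 = n16731 := d15_1 D21391 (iv D16731) (iv F75590)
theorem F95911 : act 2 n21391 = n18180 := d22_1 D21391 F81732 (iv F75591)
theorem F95914 : act 6 n21391 = n18114 := d40_1 D21391 F81426 (iv F75594)
def n21392 : Q := act 4 n16721
theorem D21392 : act 4 n16721 = n21392 := rfl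
def n21393 : Q := act 9 n16721
theorem D21393 : act 9 n16721 = n21393 := rfl
def n21394 : Q := act 3 n16723
theorem D21394 : act 3 n16723 = n21394 := rfl
def n21395 : Q := act 9 n16723
theorem D21395 : act 9 n16723 = n21395 := rfl
def n21397 : Q := act 5 n16725
theorem D21397 : act 5 n16725 = n21397 := rfl
theorem F95941 : act 8 n21397 = n16726 := d37_2 D16725 D21397 (iv D16726) (iv D12990) D12989
def n21399 : Q := act 4 n16726
theorem D21399 : act 4 n16726 = n21399 := rfl
theorem F95949 : act 5 n21399 = n16732 := d30_2 D16726 D21399 (iv D16732) (iv D12995) (iv F59378)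
def n21400 : Q := act 6 n16726
theorem D21400 : act 6 n16726 = n21400 := rfl
theorem F95951 : act 0 n21400 = n18310 := d5_1 D21400 (iv F89746) F89742
theorem F95955 : act 5 n21400 = n16728 := d35_1 D21400 (iv D16728) (iv D12991) (iv F59379) D16726
theorem F95956 : act 7 n18308 = n21400 := d36_0 F95955 F75631 D18308
def n21401 : Q := act 9 n16726
theorem D21401 : act 9 n16726 = n21401 := rfl
theorem F95959 : act 5 n21401 = n16727 := d38_1 D21401 (iv D16727) D16726
def n21402 : Q := act 9 n16728
theorem D21402 : act 9 n16728 = n21402 := rfl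
theorem F95965 : act 6 n21402 = n16729 := d41_1 D21402 (iv D16729) D16728
theorem F95966 : act 7 n21402 = n18078 := d43_1 D21402 F81243 (iv F75631)
def n21403 : Q := act 8 n16729
theorem D21403 : act 8 n16729 = n21403 := rfl
def n21404 : Q := act 3 n16732
theorem D21404 : act 3 n16732 = n21404 := rfl
theorem F95972 : act 4 n21404 = n16734 := d24_2 D16732 D21404 (iv D16734) (iv D12997) (iv F59398)
def n21413 : Q := act 2 n16740
theorem D21413 : act 2 n16740 = n21413 := rfl
theorem F96010 : act 0 n21413 = n16756 := d1_1 D21413 (iv D16756) (iv F75680)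
theorem F96011 : act 4 n21413 = n21413 := d18_2 F75682 D21413 (iv D21413)
theorem F96012 : act 8 n21413 = n16746 := d22_2 (iv F75683) D21413 (iv D16746)
def n21414 : Q := act 6 n16740
theorem D21414 : act 6 n16740 = n21414 := rfl
theorem F96013 : act 0 n21414 = n16757 := d5_1 D21414 (iv D16757) (iv F75680)
theorem F96014 : act 1 n21414 = n21414 := d13_1 D21414 (iv D21414) F75681
theorem F96015 : act 3 n21414 = n16741 := d26_1 D21414 (iv D16741) D16740
theorem F96016 : act 4 n21414 = n21414 := d31_1 D21414 (iv D21414) F75682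
theorem F96017 : act 8 n21414 = n16747 := d40_2 (iv F75683) D21414 (iv D16747)
def n21415 : Q := act 5 n16741
theorem D21415 : act 5 n16741 = n21415 := rfl
theorem F96018 : act 0 n21415 = n16758 := d4_1 D21415 (iv D16758) (iv F75684)
theorem F96019 : act 1 n21415 = n21415 := d12_1 D21415 (iv D21415) F75685
theorem F96020 : act 4 n21415 = n16927 := d30_1 D21415 (iv D16927) F60058 (iv F59433) (iv F75686)
def n21416 : Q := act 7 n16741
theorem D21416 : act 7 n16741 = n21416 := rfl
theorem F96021 : act 0 n21416 = n16759 := d6_1 D21416 (iv D16759) (iv F75684)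
theorem F96022 : act 1 n21416 = n21416 := d14_1 D21416 (iv D21416) F75685
theorem F96023 : act 4 n21416 = n16742 := d32_1 D21416 (iv D16742) (iv F75686)
theorem F96024 : act 8 n21416 = n16749 := d42_2 (iv F75687) D21416 (iv D16749)
def n21417 : Q := act 2 n16743
theorem D21417 : act 2 n16743 = n21417 := rfl
theorem F96025 : act 0 n21417 = n16760 := d1_1 D21417 (iv D16760) (iv F75693)
theorem F96026 : act 4 n21417 = n21417 := d18_2 F75695 D21417 (iv D21417)
theorem F96027 : act 5 n21417 = n21417 := d19_2 F75696 D21417 (iv D21417)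
theorem F96028 : act 7 n21417 = n16746 := d21_2 (iv F75697) D21417 (iv D16746)
theorem F96029 : act 9 n21417 = n21417 := d23_2 F75698 D21417 (iv D21417)
def n21418 : Q := act 6 n16743
theorem D21418 : act 6 n16743 = n21418 := rfl
theorem F96030 : act 0 n21418 = n16761 := d5_1 D21418 (iv D16761) (iv F75693)
theorem F96031 : act 1 n21418 = n21418 := d13_1 D21418 (iv D21418) F75694
theorem F96032 : act 3 n21418 = n16744 := d26_1 D21418 (iv D16744) D16743
theorem F96033 : act 4 n21418 = n21418 := d31_1 D21418 (iv D21418) F75695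
theorem F96034 : act 9 n21418 = n21418 := d41_2 F75698 D21418 (iv D21418)
def n21419 : Q := act 5 n16744
theorem D21419 : act 5 n16744 = n21419 := rfl
theorem F96035 : act 0 n21419 = n16762 := d4_1 D21419 (iv D16762) (iv F75699)
theorem F96036 : act 1 n21419 = n21419 := d12_1 D21419 (iv D21419) F75700
theorem F96037 : act 4 n21419 = n21419 := d30_1 D21419 (iv D21419) F75701 F59443 (iv F75701)
theorem F96038 : act 6 n21419 = n21419 := d35_2 D16744 D21419 (iv D21419) (iv D16744) F59437
theorem F96039 : act 9 n21419 = n21419 := d38_2 F75702 D21419 (iv D21419)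
def n21420 : Q := act 7 n16744
theorem D21420 : act 7 n16744 = n21420 := rfl
theorem F96040 : act 0 n21420 = n16763 := d6_1 D21420 (iv D16763) (iv F75699)
theorem F96041 : act 1 n21420 = n21420 := d14_1 D21420 (iv D21420) F75700
theorem F96042 : act 4 n21420 = n16745 := d32_1 D21420 (iv D16745) (iv F75701)
theorem F96043 : act 6 n21420 = n16749 := d39_1 D21420 (iv D16749) (iv D13007) (iv F59438) D16744
theorem F96044 : act 9 n21420 = n21420 := d43_2 F75702 D21420 (iv D21420)
def n21421 : Q := act 1 n16746
theorem D21421 : act 1 n16746 = n21421 := rfl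
theorem F96045 : act 2 n21421 = n21421 := d9_2 D16746 D21421 (iv D21421) (iv D16746) F59446
theorem F96046 : act 4 n21421 = n21421 := d11_2 F75710 D21421 (iv D21421)
theorem F96047 : act 5 n21421 = n21421 := d12_2 F75711 D21421 (iv D21421)
theorem F96048 : act 9 n21421 = n21421 := d16_2 F75712 D21421 (iv D21421)
def n21422 : Q := act 6 n16746
theorem D21422 : act 6 n16746 = n21422 := rfl
theorem F96049 : act 0 n21422 = n16765 := d5_1 D21422 (iv D16765) (iv F75709)
theorem F96050 : act 2 n21422 = n16747 := d20_1 D21422 (iv D16747) D16746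
theorem F96051 : act 4 n21422 = n21422 := d31_1 D21422 (iv D21422) F75710
theorem F96052 : act 9 n21422 = n21422 := d41_2 F75712 D21422 (iv D21422)
def n21423 : Q := act 5 n16747
theorem D21423 : act 5 n16747 = n21423 := rfl
theorem F96053 : act 0 n21423 = n16766 := d4_1 D21423 (iv D16766) (iv F75713)
theorem F96054 : act 1 n21423 = n21423 := d12_1 D21423 (iv D21423) F75714
theorem F96055 : act 3 n21423 = n16748 := d25_1 D21423 (iv D16748) (iv F75715)
theorem F96056 : act 6 n21423 = n21423 := d35_2 D16747 D21423 (iv D21423) (iv D16747) F59448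
theorem F96057 : act 9 n21423 = n21423 := d38_2 F75717 D21423 (iv D21423)
def n21424 : Q := act 7 n16747
theorem D21424 : act 7 n16747 = n21424 := rfl
theorem F96058 : act 0 n21424 = n16767 := d6_1 D21424 (iv D16767) (iv F75713)
theorem F96059 : act 1 n21424 = n21424 := d14_1 D21424 (iv D21424) F75714
theorem F96060 : act 3 n21424 = n16749 := d27_1 D21424 (iv D16749) (iv F75715)
theorem F96061 : act 4 n21424 = n21424 := d32_1 D21424 (iv D21424) F75716
theorem F96062 : act 9 n21424 = n21424 := d43_2 F75717 D21424 (iv D21424)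
def n21425 : Q := act 7 n16748
theorem D21425 : act 7 n16748 = n21425 := rfl
theorem F96063 : act 0 n21425 = n16768 := d6_1 D21425 (iv D16768) (iv F75718)
theorem F96064 : act 1 n21425 = n21425 := d14_1 D21425 (iv D21425) F75719
theorem F96065 : act 4 n21425 = n16754 := d32_1 D21425 (iv D16754) (iv F75720)
theorem F96066 : act 5 n21425 = n16749 := d36_1 D21425 (iv D16749) D16748
theorem F96067 : act 9 n21425 = n21425 := d43_2 F75722 D21425 (iv D21425)
def n21426 : Q := act 8 n16748
theorem D21426 : act 8 n16748 = n21426 := rfl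
theorem F96070 : act 4 n21426 = n16755 := d33_1 D21426 (iv D16755) (iv F75720)
def n21430 : Q := act 4 n16752
theorem D21430 : act 4 n16752 = n21430 := rfl
def n21431 : Q := act 7 n16752
theorem D21431 : act 7 n16752 = n21431 := rfl
theorem F96095 : act 3 n21431 = n16754 := d27_1 D21431 (iv D16754) (iv F75741)
theorem F96096 : act 5 n21431 = n16753 := d36_1 D21431 (iv D16753) D16752
def n21433 : Q := act 6 n16754
theorem D21433 : act 6 n16754 = n21433 := rfl
theorem F96103 : act 0 n21433 = n16775 := d5_1 D21433 (iv D16775) (iv F75751)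
theorem F96104 : act 1 n21433 = n21433 := d13_1 D21433 (iv D21433) F75752
theorem F96105 : act 5 n21433 = n21433 := d35_1 D21433 (iv D21433) F75753 F59478 (iv F75753)
theorem F96106 : act 7 n21433 = n21433 := d39_2 D16754 D21433 (iv D21433) (iv D16754) F59473
theorem F96107 : act 9 n21433 = n21433 := d41_2 F75754 D21433 (iv D21433)
def n21434 : Q := act 8 n16754
theorem D21434 : act 8 n16754 = n21434 := rfl
theorem F96111 : act 7 n21434 = n16755 := d42_1 D21434 (iv D16755) D16754
def n21436 : Q := act 1 n16756
theorem D21436 : act 1 n16756 = n21436 := rfl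
theorem F96117 : act 2 n21436 = n16790 := d9_2 D16756 D21436 (iv D16790) (iv D13037) (iv F59481)
theorem F96118 : act 4 n21436 = n21436 := d11_2 F75759 D21436 (iv D21436)
theorem F96119 : act 8 n21436 = n16764 := d15_2 (iv F75760) D21436 (iv D16764)
def n21437 : Q := act 6 n16756
theorem D21437 : act 6 n16756 = n21437 := rfl
theorem F96120 : act 2 n21437 = n16757 := d20_1 D21437 (iv D16757) D16756
theorem F96121 : act 4 n21437 = n21437 := d31_1 D21437 (iv D21437) F75759
theorem F96122 : act 8 n21437 = n16765 := d40_2 (iv F75760) D21437 (iv D16765)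
def n21438 : Q := act 5 n16757
theorem D21438 : act 5 n16757 = n21438 := rfl
theorem F96123 : act 1 n21438 = n16792 := d12_1 D21438 (iv D16792) (iv F75761)
theorem F96124 : act 3 n21438 = n16758 := d25_1 D21438 (iv D16758) (iv F75762)
def n21439 : Q := act 7 n16757
theorem D21439 : act 7 n16757 = n21439 := rfl
theorem F96125 : act 1 n21439 = n16793 := d14_1 D21439 (iv D16793) (iv F75761)
theorem F96126 : act 3 n21439 = n16759 := d27_1 D21439 (iv D16759) (iv F75762)
theorem F96127 : act 4 n21439 = n21439 := d32_1 D21439 (iv D21439) F75763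
theorem F96128 : act 8 n21439 = n16767 := d42_2 (iv F75764) D21439 (iv D16767)
def n21440 : Q := act 7 n16758
theorem D21440 : act 7 n16758 = n21440 := rfl
theorem F96129 : act 1 n21440 = n16794 := d14_1 D21440 (iv D16794) (iv F75765)
theorem F96130 : act 4 n21440 = n16964 := d32_1 D21440 (iv D16964) (iv F75766)
theorem F96131 : act 5 n21440 = n16759 := d36_1 D21440 (iv D16759) D16758
def n21441 : Q := act 8 n16758
theorem D21441 : act 8 n16758 = n21441 := rfl
theorem F96132 : act 1 n21441 = n16795 := d15_1 D21441 (iv D16795) (iv F75765)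
theorem F96133 : act 4 n21441 = n16965 := d33_1 D21441 (iv D16965) (iv F75766)
def n21442 : Q := act 1 n16760
theorem D21442 : act 1 n16760 = n21442 := rfl
theorem F96135 : act 2 n21442 = n16796 := d9_2 D16760 D21442 (iv D16796) (iv D13041) (iv F59491)
theorem F96136 : act 4 n21442 = n21442 := d11_2 F75770 D21442 (iv D21442)
theorem F96137 : act 5 n21442 = n21442 := d12_2 F75771 D21442 (iv D21442)
theorem F96138 : act 7 n21442 = n16764 := d14_2 (iv F75772) D21442 (iv D16764)
theorem F96139 : act 9 n21442 = n21442 := d16_2 F75773 D21442 (iv D21442)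
def n21443 : Q := act 6 n16760
theorem D21443 : act 6 n16760 = n21443 := rfl
theorem F96140 : act 2 n21443 = n16761 := d20_1 D21443 (iv D16761) D16760
theorem F96141 : act 4 n21443 = n21443 := d31_1 D21443 (iv D21443) F75770
theorem F96142 : act 9 n21443 = n21443 := d41_2 F75773 D21443 (iv D21443)
def n21444 : Q := act 5 n16761
theorem D21444 : act 5 n16761 = n21444 := rfl
theorem F96143 : act 1 n21444 = n16798 := d12_1 D21444 (iv D16798) (iv F75774)
theorem F96144 : act 3 n21444 = n16762 := d25_1 D21444 (iv D16762) (iv F75775)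
theorem F96145 : act 6 n21444 = n21444 := d35_2 D16761 D21444 (iv D21444) (iv D16761) F59493
theorem F96146 : act 9 n21444 = n21444 := d38_2 F75777 D21444 (iv D21444)
def n21445 : Q := act 7 n16761
theorem D21445 : act 7 n16761 = n21445 := rfl
theorem F96147 : act 1 n21445 = n16799 := d14_1 D21445 (iv D16799) (iv F75774)
theorem F96148 : act 3 n21445 = n16763 := d27_1 D21445 (iv D16763) (iv F75775)
theorem F96149 : act 4 n21445 = n21445 := d32_1 D21445 (iv D21445) F75776
theorem F96150 : act 6 n21445 = n16767 := d39_1 D21445 (iv D16767) (iv D13020) (iv F59494) D16761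
theorem F96151 : act 9 n21445 = n21445 := d43_2 F75777 D21445 (iv D21445)
def n21446 : Q := act 7 n16762
theorem D21446 : act 7 n16762 = n21446 := rfl
theorem F96152 : act 1 n21446 = n16800 := d14_1 D21446 (iv D16800) (iv F75778)
theorem F96153 : act 4 n21446 = n21446 := d32_1 D21446 (iv D21446) F75779
theorem F96154 : act 5 n21446 = n16763 := d36_1 D21446 (iv D16763) D16762
theorem F96155 : act 9 n21446 = n21446 := d43_2 F75781 D21446 (iv D21446)
def n21447 : Q := act 8 n16762
theorem D21447 : act 8 n16762 = n21447 := rfl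
theorem F96156 : act 1 n21447 = n16801 := d15_1 D21447 (iv D16801) (iv F75778)
theorem F96157 : act 4 n21447 = n21447 := d33_1 D21447 (iv D21447) F75779
theorem F96158 : act 6 n21447 = n21447 := d40_1 D21447 (iv D21447) F75780
def n21448 : Q := act 0 n16764
theorem D21448 : act 0 n16764 = n21448 := rfl
theorem F96159 : act 2 n21448 = n16802 := d1_2 (iv F75786) D21448 (iv D16802)
theorem F96160 : act 4 n21448 = n21448 := d3_2 F75787 D21448 (iv D21448)
theorem F96161 : act 5 n21448 = n21448 := d4_2 F75788 D21448 (iv D21448)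
theorem F96162 : act 9 n21448 = n21448 := d8_2 F75789 D21448 (iv D21448)
def n21449 : Q := act 6 n16764
theorem D21449 : act 6 n16764 = n21449 := rfl
theorem F96163 : act 1 n21449 = n16765 := d13_1 D21449 (iv D16765) D16764
theorem F96164 : act 2 n21449 = n16803 := d20_1 D21449 (iv D16803) (iv F75786)
theorem F96165 : act 4 n21449 = n21449 := d31_1 D21449 (iv D21449) F75787
theorem F96166 : act 9 n21449 = n21449 := d41_2 F75789 D21449 (iv D21449)
def n21450 : Q := act 5 n16765
theorem D21450 : act 5 n16765 = n21450 := rfl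
theorem F96167 : act 2 n21450 = n16766 := d19_1 D21450 (iv D16766) (iv F75790)
theorem F96168 : act 6 n21450 = n21450 := d35_2 D16765 D21450 (iv D21450) (iv D16765) F59505
theorem F96169 : act 9 n21450 = n21450 := d38_2 F75792 D21450 (iv D21450)
def n21451 : Q := act 7 n16765
theorem D21451 : act 7 n16765 = n21451 := rfl
theorem F96170 : act 2 n21451 = n16767 := d21_1 D21451 (iv D16767) (iv F75790)
theorem F96171 : act 4 n21451 = n21451 := d32_1 D21451 (iv D21451) F75791
theorem F96172 : act 9 n21451 = n21451 := d43_2 F75792 D21451 (iv D21451)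
def n21452 : Q := act 4 n16766
theorem D21452 : act 4 n16766 = n21452 := rfl
theorem F96173 : act 1 n21452 = n16806 := d11_1 D21452 (iv D16806) (iv F75793)
theorem F96174 : act 3 n21452 = n16772 := d24_1 D21452 (iv D16772) F59524 (iv F59512) (iv F75794)
def n21453 : Q := act 7 n16766
theorem D21453 : act 7 n16766 = n21453 := rfl
theorem F96178 : act 1 n21453 = n16807 := d14_1 D21453 (iv D16807) (iv F75793)
theorem F96179 : act 3 n21453 = n16768 := d27_1 D21453 (iv D16768) (iv F75794)
theorem F96180 : act 5 n21453 = n16767 := d36_1 D21453 (iv D16767) D16766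
theorem F96181 : act 9 n21453 = n21453 := d43_2 F75796 D21453 (iv D21453)
def n21454 : Q := act 8 n16766
theorem D21454 : act 8 n16766 = n21454 := rfl
theorem F96182 : act 1 n21454 = n16808 := d15_1 D21454 (iv D16808) (iv F75793)
theorem F96183 : act 3 n21454 = n16769 := d28_1 D21454 (iv D16769) (iv F75794)
def n21455 : Q := act 6 n16768
theorem D21455 : act 6 n16768 = n21455 := rfl
theorem F96185 : act 1 n21455 = n16809 := d13_1 D21455 (iv D16809) (iv F75801)
theorem F96186 : act 4 n21455 = n16775 := d31_1 D21455 (iv D16775) (iv F75802)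
theorem F96187 : act 7 n21455 = n21455 := d39_2 D16768 D21455 (iv D21455) (iv D16768) F59513
theorem F96188 : act 9 n21455 = n21455 := d41_2 F75804 D21455 (iv D21455)
def n21456 : Q := act 8 n16768
theorem D21456 : act 8 n16768 = n21456 := rfl
theorem F96189 : act 1 n21456 = n16810 := d15_1 D21456 (iv D16810) (iv F75801)
theorem F96191 : act 7 n21456 = n16769 := d42_1 D21456 (iv D16769) D16768
def n21457 : Q := act 9 n16769
theorem D21457 : act 9 n16769 = n21457 := rfl
theorem F96192 : act 1 n21457 = n16811 := d16_1 D21457 (iv D16811) (iv F75805)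
def n21461 : Q := act 7 n16772
theorem D21461 : act 7 n16772 = n21461 := rfl
theorem F96209 : act 1 n21461 = n16812 := d14_1 D21461 (iv D16812) (iv F75818)
theorem F96210 : act 4 n21461 = n16773 := d32_1 D21461 (iv D16773) D16772
def n21463 : Q := act 6 n16773
theorem D21463 : act 6 n16773 = n21463 := rfl
theorem F96216 : act 1 n21463 = n16814 := d13_1 D21463 (iv D16814) (iv F75822)
theorem F96217 : act 3 n21463 = n16775 := d26_1 D21463 (iv D16775) (iv F75823)
def n21466 : Q := act 8 n16775
theorem D21466 : act 8 n16775 = n21466 := rfl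
theorem F96230 : act 1 n21466 = n16817 := d15_1 D21466 (iv D16817) (iv F75830)
theorem F96231 : act 6 n21466 = n16776 := d40_1 D21466 (iv D16776) D16775
def n21467 : Q := act 9 n16776
theorem D21467 : act 9 n16776 = n21467 := rfl
theorem F96233 : act 1 n21467 = n16818 := d16_1 D21467 (iv D16818) (iv F75834)
def n21468 : Q := act 1 n16778
theorem D21468 : act 1 n16778 = n21468 := rfl
theorem F96237 : act 3 n21468 = n16819 := d10_2 (iv F75842) D21468 (iv D16819)
theorem F96238 : act 4 n21468 = n16883 := d11_2 (iv F75843) D21468 (iv D16883)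
theorem F96239 : act 5 n21468 = n16790 := d12_2 (iv F75844) D21468 (iv D16790)
theorem F96240 : act 7 n21468 = n16835 := d14_2 (iv F75845) D21468 (iv D16835)
theorem F96241 : act 8 n21468 = n21468 := d15_2 F75846 D21468 (iv D21468)
theorem F96242 : act 9 n21468 = n16829 := d16_2 (iv F75847) D21468 (iv D16829)
def n21469 : Q := act 6 n16778
theorem D21469 : act 6 n16778 = n21469 := rfl
theorem F96243 : act 0 n21469 = n21469 := d5_1 D21469 (iv D21469) F75841
theorem F96244 : act 2 n21469 = n16779 := d20_1 D21469 (iv D16779) D16778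
theorem F96245 : act 3 n21469 = n16820 := d26_1 D21469 (iv D16820) (iv F75842)
theorem F96246 : act 4 n21469 = n16884 := d31_1 D21469 (iv D16884) (iv F75843)
theorem F96247 : act 8 n21469 = n21469 := d40_2 F75846 D21469 (iv D21469)
theorem F96248 : act 9 n21469 = n16830 := d41_2 (iv F75847) D21469 (iv D16830)
def n21470 : Q := act 5 n16779
theorem D21470 : act 5 n16779 = n21470 := rfl
theorem F96249 : act 0 n21470 = n21470 := d4_1 D21470 (iv D21470) F75848
theorem F96250 : act 3 n21470 = n16780 := d25_1 D21470 (iv D16780) (iv F75849)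
theorem F96251 : act 6 n21470 = n16792 := d35_2 D16779 D21470 (iv D16792) (iv D13038) (iv F59541)
theorem F96252 : act 9 n21470 = n16831 := d38_2 (iv F75852) D21470 (iv D16831)
def n21471 : Q := act 7 n16779
theorem D21471 : act 7 n16779 = n21471 := rfl
theorem F96253 : act 0 n21471 = n21471 := d6_1 D21471 (iv D21471) F75848
theorem F96254 : act 3 n21471 = n16781 := d27_1 D21471 (iv D16781) (iv F75849)
theorem F96255 : act 4 n21471 = n16886 := d32_1 D21471 (iv D16886) (iv F75850)
theorem F96256 : act 6 n21471 = n16838 := d39_1 D21471 (iv D16838) (iv D13069) (iv F59542) D16779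
theorem F96257 : act 8 n21471 = n21471 := d42_2 F75851 D21471 (iv D21471)
theorem F96258 : act 9 n21471 = n16832 := d43_2 (iv F75852) D21471 (iv D16832)
def n21472 : Q := act 7 n16780
theorem D21472 : act 7 n16780 = n21472 := rfl
theorem F96259 : act 0 n21472 = n21472 := d6_1 D21472 (iv D21472) F75853
theorem F96260 : act 2 n21472 = n16823 := d21_1 D21472 (iv D16823) (iv F75854)
theorem F96261 : act 4 n21472 = n17000 := d32_1 D21472 (iv D17000) (iv F75855)
theorem F96262 : act 5 n21472 = n16781 := d36_1 D21472 (iv D16781) D16780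
theorem F96263 : act 9 n21472 = n16833 := d43_2 (iv F75857) D21472 (iv D16833)
def n21473 : Q := act 8 n16780
theorem D21473 : act 8 n16780 = n21473 := rfl
theorem F96264 : act 0 n21473 = n21473 := d7_1 D21473 (iv D21473) F75853
theorem F96265 : act 2 n21473 = n16824 := d22_1 D21473 (iv D16824) (iv F75854)
theorem F96266 : act 4 n21473 = n17001 := d33_1 D21473 (iv D17001) (iv F75855)
theorem F96267 : act 5 n21473 = n21473 := d37_1 D21473 (iv D21473) (iv D16780) F59548 D16780
theorem F96268 : act 6 n21473 = n16795 := d40_1 D21473 (iv D16795) (iv F75856)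
def n21474 : Q := act 1 n16782
theorem D21474 : act 1 n16782 = n21474 := rfl
theorem F96269 : act 3 n21474 = n16829 := d10_2 (iv F75865) D21474 (iv D16829)
theorem F96270 : act 4 n21474 = n21474 := d11_2 F75866 D21474 (iv D21474)
theorem F96271 : act 5 n21474 = n16835 := d12_2 (iv F75867) D21474 (iv D16835)
theorem F96272 : act 7 n21474 = n16790 := d14_2 (iv F75868) D21474 (iv D16790)
theorem F96273 : act 8 n21474 = n16796 := d15_2 (iv F75869) D21474 (iv D16796)
theorem F96274 : act 9 n21474 = n16819 := d16_2 (iv F75870) D21474 (iv D16819)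
def n21475 : Q := act 6 n16782
theorem D21475 : act 6 n16782 = n21475 := rfl
theorem F96275 : act 0 n21475 = n21475 := d5_1 D21475 (iv D21475) F75864
theorem F96276 : act 2 n21475 = n16783 := d20_1 D21475 (iv D16783) D16782
theorem F96277 : act 3 n21475 = n16830 := d26_1 D21475 (iv D16830) (iv F75865)
theorem F96278 : act 4 n21475 = n21475 := d31_1 D21475 (iv D21475) F75866
theorem F96279 : act 8 n21475 = n16797 := d40_2 (iv F75869) D21475 (iv D16797)
theorem F96280 : act 9 n21475 = n16820 := d41_2 (iv F75870) D21475 (iv D16820)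
def n21476 : Q := act 5 n16783
theorem D21476 : act 5 n16783 = n21476 := rfl
theorem F96281 : act 0 n21476 = n21476 := d4_1 D21476 (iv D21476) F75871
theorem F96282 : act 3 n21476 = n16784 := d25_1 D21476 (iv D16784) (iv F75872)
theorem F96283 : act 6 n21476 = n16837 := d35_2 D16783 D21476 (iv D16837) (iv D13069) (iv F59559)
theorem F96284 : act 9 n21476 = n16821 := d38_2 (iv F75875) D21476 (iv D16821)
def n21477 : Q := act 7 n16783
theorem D21477 : act 7 n16783 = n21477 := rfl
theorem F96285 : act 0 n21477 = n21477 := d6_1 D21477 (iv D21477) F75871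
theorem F96286 : act 3 n21477 = n16785 := d27_1 D21477 (iv D16785) (iv F75872)
theorem F96287 : act 4 n21477 = n21477 := d32_1 D21477 (iv D21477) F75873
theorem F96288 : act 6 n21477 = n16793 := d39_1 D21477 (iv D16793) (iv D13038) (iv F59560) D16783
theorem F96289 : act 8 n21477 = n16799 := d42_2 (iv F75874) D21477 (iv D16799)
theorem F96290 : act 9 n21477 = n16822 := d43_2 (iv F75875) D21477 (iv D16822)
def n21478 : Q := act 7 n16784
theorem D21478 : act 7 n16784 = n21478 := rfl
theorem F96291 : act 0 n21478 = n21478 := d6_1 D21478 (iv D21478) F75876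
theorem F96292 : act 2 n21478 = n16833 := d21_1 D21478 (iv D16833) (iv F75877)
theorem F96293 : act 4 n21478 = n17073 := d32_1 D21478 (iv D17073) (iv F75878)
theorem F96294 : act 5 n21478 = n16785 := d36_1 D21478 (iv D16785) D16784
theorem F96295 : act 9 n21478 = n16823 := d43_2 (iv F75880) D21478 (iv D16823)
def n21479 : Q := act 8 n16784
theorem D21479 : act 8 n16784 = n21479 := rfl
theorem F96296 : act 0 n21479 = n21479 := d7_1 D21479 (iv D21479) F75876
theorem F96297 : act 2 n21479 = n16834 := d22_1 D21479 (iv D16834) (iv F75877)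
theorem F96298 : act 4 n21479 = n17074 := d33_1 D21479 (iv D17074) (iv F75878)
theorem F96299 : act 5 n21479 = n16801 := d37_1 D21479 (iv D16801) (iv D13043) (iv F59566) D16784
theorem F96300 : act 6 n21479 = n16840 := d40_1 D21479 (iv D16840) (iv F75879)
def n21480 : Q := act 1 n16786
theorem D21480 : act 1 n16786 = n21480 := rfl
theorem F96301 : act 3 n21480 = n16835 := d10_2 (iv F75888) D21480 (iv D16835)
theorem F96302 : act 4 n21480 = n21480 := d11_2 F75889 D21480 (iv D21480)
theorem F96303 : act 5 n21480 = n16829 := d12_2 (iv F75890) D21480 (iv D16829)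
theorem F96304 : act 7 n21480 = n16819 := d14_2 (iv F75891) D21480 (iv D16819)
theorem F96305 : act 8 n21480 = n21480 := d15_2 F75892 D21480 (iv D21480)
theorem F96306 : act 9 n21480 = n16790 := d16_2 (iv F75893) D21480 (iv D16790)
def n21481 : Q := act 6 n16786
theorem D21481 : act 6 n16786 = n21481 := rfl
theorem F96307 : act 0 n21481 = n21481 := d5_1 D21481 (iv D21481) F75887
theorem F96308 : act 2 n21481 = n16787 := d20_1 D21481 (iv D16787) D16786
theorem F96309 : act 3 n21481 = n16836 := d26_1 D21481 (iv D16836) (iv F75888)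
theorem F96310 : act 4 n21481 = n21481 := d31_1 D21481 (iv D21481) F75889
theorem F96311 : act 8 n21481 = n21481 := d40_2 F75892 D21481 (iv D21481)
theorem F96312 : act 9 n21481 = n16791 := d41_2 (iv F75893) D21481 (iv D16791)
def n21482 : Q := act 5 n16787
theorem D21482 : act 5 n16787 = n21482 := rfl
theorem F96313 : act 0 n21482 = n21482 := d4_1 D21482 (iv D21482) F75894
theorem F96314 : act 3 n21482 = n16788 := d25_1 D21482 (iv D16788) (iv F75895)
theorem F96315 : act 6 n21482 = n16831 := d35_2 D16787 D21482 (iv D16831) (iv D13065) (iv F59577)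
theorem F96316 : act 9 n21482 = n16792 := d38_2 (iv F75898) D21482 (iv D16792)
def n21483 : Q := act 7 n16787
theorem D21483 : act 7 n16787 = n21483 := rfl
theorem F96317 : act 0 n21483 = n21483 := d6_1 D21483 (iv D21483) F75894
theorem F96318 : act 3 n21483 = n16789 := d27_1 D21483 (iv D16789) (iv F75895)
theorem F96319 : act 4 n21483 = n21483 := d32_1 D21483 (iv D21483) F75896
theorem F96320 : act 6 n21483 = n16822 := d39_1 D21483 (iv D16822) (iv D13058) (iv F59578) D16787
theorem F96321 : act 8 n21483 = n21483 := d42_2 F75897 D21483 (iv D21483)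
theorem F96322 : act 9 n21483 = n16793 := d43_2 (iv F75898) D21483 (iv D16793)
def n21484 : Q := act 7 n16788
theorem D21484 : act 7 n16788 = n21484 := rfl
theorem F96323 : act 0 n21484 = n21484 := d6_1 D21484 (iv D21484) F75899
theorem F96324 : act 2 n21484 = n16839 := d21_1 D21484 (iv D16839) (iv F75900)
theorem F96325 : act 4 n21484 = n17020 := d32_1 D21484 (iv D17020) (iv F75901)
theorem F96326 : act 5 n21484 = n16789 := d36_1 D21484 (iv D16789) D16788
theorem F96327 : act 9 n21484 = n16794 := d43_2 (iv F75903) D21484 (iv D16794)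
def n21485 : Q := act 8 n16788
theorem D21485 : act 8 n16788 = n21485 := rfl
theorem F96328 : act 0 n21485 = n21485 := d7_1 D21485 (iv D21485) F75899
theorem F96329 : act 2 n21485 = n16840 := d22_1 D21485 (iv D16840) (iv F75900)
theorem F96330 : act 4 n21485 = n17021 := d33_1 D21485 (iv D17021) (iv F75901)
theorem F96331 : act 5 n21485 = n21485 := d37_1 D21485 (iv D21485) (iv D16788) F59584 D16788
theorem F96332 : act 6 n21485 = n16834 := d40_1 D21485 (iv D16834) (iv F75902)
def n21486 : Q := act 0 n16790
theorem D21486 : act 0 n16790 = n21486 := rfl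
theorem F96333 : act 1 n21486 = n21486 := d0_2 D16790 D21486 (iv D21486) (iv D16790) F59593
theorem F96334 : act 3 n21486 = n16841 := d2_2 (iv F75910) D21486 (iv D16841)
theorem F96335 : act 4 n21486 = n21486 := d3_2 F75911 D21486 (iv D21486)
theorem F96336 : act 8 n21486 = n16802 := d7_2 (iv F75912) D21486 (iv D16802)
def n21487 : Q := act 6 n16790
theorem D21487 : act 6 n16790 = n21487 := rfl
theorem F96337 : act 1 n21487 = n16791 := d13_1 D21487 (iv D16791) D16790
theorem F96338 : act 3 n21487 = n16842 := d26_1 D21487 (iv D16842) (iv F75910)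
theorem F96339 : act 4 n21487 = n21487 := d31_1 D21487 (iv D21487) F75911
theorem F96340 : act 8 n21487 = n16803 := d40_2 (iv F75912) D21487 (iv D16803)
def n21488 : Q := act 5 n16791
theorem D21488 : act 5 n16791 = n21488 := rfl
theorem F96341 : act 0 n21488 = n21488 := d4_1 D21488 (iv D21488) F75913
theorem F96342 : act 2 n21488 = n16792 := d19_1 D21488 (iv D16792) (iv F75914)
theorem F96343 : act 3 n21488 = n16843 := d25_1 D21488 (iv D16843) (iv F75915)
def n21489 : Q := act 7 n16791
theorem D21489 : act 7 n16791 = n21489 := rfl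
theorem F96344 : act 0 n21489 = n21489 := d6_1 D21489 (iv D21489) F75913
theorem F96345 : act 2 n21489 = n16793 := d21_1 D21489 (iv D16793) (iv F75914)
theorem F96346 : act 3 n21489 = n16844 := d27_1 D21489 (iv D16844) (iv F75915)
theorem F96347 : act 4 n21489 = n21489 := d32_1 D21489 (iv D21489) F75916
theorem F96348 : act 8 n21489 = n16805 := d42_2 (iv F75917) D21489 (iv D16805)
def n21490 : Q := act 4 n16792
theorem D21490 : act 4 n16792 = n21490 := rfl
theorem F96349 : act 0 n21490 = n21490 := d3_1 D21490 (iv D21490) F75918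
theorem F96350 : act 3 n21490 = n17026 := d24_1 D21490 (iv D17026) F60345 (iv F59603) (iv F75919)
theorem F96351 : act 5 n21490 = n21490 := d30_2 D16792 D21490 (iv D21490) (iv D16792) F59599
def n21491 : Q := act 7 n16792
theorem D21491 : act 7 n16792 = n21491 := rfl
theorem F96352 : act 0 n21491 = n21491 := d6_1 D21491 (iv D21491) F75918
theorem F96353 : act 3 n21491 = n16794 := d27_1 D21491 (iv D16794) (iv F75919)
theorem F96354 : act 5 n21491 = n16793 := d36_1 D21491 (iv D16793) D16792
def n21492 : Q := act 8 n16792
theorem D21492 : act 8 n16792 = n21492 := rfl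
theorem F96355 : act 0 n21492 = n21492 := d7_1 D21492 (iv D21492) F75918
theorem F96356 : act 3 n21492 = n16795 := d28_1 D21492 (iv D16795) (iv F75919)
theorem F96357 : act 5 n21492 = n16808 := d37_1 D21492 (iv D16808) (iv D13047) (iv F59600) D16792
def n21493 : Q := act 6 n16794
theorem D21493 : act 6 n16794 = n21493 := rfl
theorem F96358 : act 0 n21493 = n21493 := d5_1 D21493 (iv D21493) F75924
theorem F96359 : act 2 n21493 = n16848 := d20_1 D21493 (iv D16848) (iv F75925)
theorem F96360 : act 4 n21493 = n17029 := d31_1 D21493 (iv D17029) (iv F75926)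
def n21494 : Q := act 8 n16794
theorem D21494 : act 8 n16794 = n21494 := rfl
theorem F96361 : act 0 n21494 = n21494 := d7_1 D21494 (iv D21494) F75924
theorem F96362 : act 2 n21494 = n16849 := d22_1 D21494 (iv D16849) (iv F75925)
theorem F96363 : act 4 n21494 = n17030 := d33_1 D21494 (iv D17030) (iv F75926)
theorem F96364 : act 5 n21494 = n16810 := d37_1 D21494 (iv D16810) F59648 (iv F59607) (iv F75927)
theorem F96365 : act 7 n21494 = n16795 := d42_1 D21494 (iv D16795) D16794
def n21495 : Q := act 9 n16795
theorem D21495 : act 9 n16795 = n21495 := rfl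
theorem F96366 : act 0 n21495 = n21495 := d8_1 D21495 (iv D21495) F75928
theorem F96367 : act 2 n21495 = n16850 := d23_1 D21495 (iv D16850) (iv F75929)
theorem F96368 : act 4 n21495 = n17031 := d34_1 D21495 (iv D17031) (iv F75930)
theorem F96369 : act 5 n21495 = n16811 := d38_1 D21495 (iv D16811) (iv F75931)
def n21496 : Q := act 0 n16796
theorem D21496 : act 0 n16796 = n21496 := rfl
theorem F96370 : act 1 n21496 = n21496 := d0_2 D16796 D21496 (iv D21496) (iv D16796) F59608
theorem F96371 : act 3 n21496 = n16851 := d2_2 (iv F75932) D21496 (iv D16851)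
theorem F96372 : act 4 n21496 = n21496 := d3_2 F75933 D21496 (iv D21496)
theorem F96373 : act 5 n21496 = n21496 := d4_2 F75934 D21496 (iv D21496)
theorem F96374 : act 7 n21496 = n16802 := d6_2 (iv F75935) D21496 (iv D16802)
theorem F96375 : act 9 n21496 = n21496 := d8_2 F75936 D21496 (iv D21496)
def n21497 : Q := act 6 n16796
theorem D21497 : act 6 n16796 = n21497 := rfl
theorem F96376 : act 1 n21497 = n16797 := d13_1 D21497 (iv D16797) D16796
theorem F96377 : act 3 n21497 = n16852 := d26_1 D21497 (iv D16852) (iv F75932)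
theorem F96378 : act 4 n21497 = n21497 := d31_1 D21497 (iv D21497) F75933
theorem F96379 : act 9 n21497 = n21497 := d41_2 F75936 D21497 (iv D21497)
def n21498 : Q := act 5 n16797
theorem D21498 : act 5 n16797 = n21498 := rfl
theorem F96380 : act 0 n21498 = n21498 := d4_1 D21498 (iv D21498) F75937
theorem F96381 : act 2 n21498 = n16798 := d19_1 D21498 (iv D16798) (iv F75938)
theorem F96382 : act 3 n21498 = n16853 := d25_1 D21498 (iv D16853) (iv F75939)
theorem F96383 : act 6 n21498 = n21498 := d35_2 D16797 D21498 (iv D21498) (iv D16797) F59611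
theorem F96384 : act 9 n21498 = n21498 := d38_2 F75941 D21498 (iv D21498)
theorem F96385 : act 4 n16905 = n21498 := d24_0 F96382 F76165 F60826 (iv F59932) (iv F76404)
theorem F96386 : act 8 n16903 = n21498 := d28_0 F96382 (iv F76168) (iv F76396)
def n21499 : Q := act 7 n16797
theorem D21499 : act 7 n16797 = n21499 := rfl
theorem F96387 : act 0 n21499 = n21499 := d6_1 D21499 (iv D21499) F75937
theorem F96388 : act 2 n21499 = n16799 := d21_1 D21499 (iv D16799) (iv F75938)
theorem F96389 : act 3 n21499 = n16854 := d27_1 D21499 (iv D16854) (iv F75939)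
theorem F96390 : act 4 n21499 = n21499 := d32_1 D21499 (iv D21499) F75940
theorem F96391 : act 6 n21499 = n16805 := d39_1 D21499 (iv D16805) (iv D13046) (iv F59612) D16797
theorem F96392 : act 9 n21499 = n21499 := d43_2 F75941 D21499 (iv D21499)
def n21500 : Q := act 4 n16798
theorem D21500 : act 4 n16798 = n21500 := rfl
theorem F96393 : act 0 n21500 = n21500 := d3_1 D21500 (iv D21500) F75942
theorem F96394 : act 2 n21500 = n16905 := d18_1 D21500 F96385 F96381
theorem F96395 : act 3 n21500 = n21500 := d24_1 D21500 (iv D21500) F75943 F59620 (iv F75943)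
theorem F96396 : act 5 n21500 = n21500 := d30_2 D16798 D21500 (iv D21500) (iv D16798) F59616
theorem F96397 : act 6 n21500 = n21500 := d31_2 F75944 D21500 (iv D21500)
theorem F96398 : act 9 n21500 = n21500 := d34_2 F75945 D21500 (iv D21500)
theorem F96399 : act 8 n16901 = n21500 := d22_0 F96394 (iv D16905) (iv F76386)
def n21501 : Q := act 7 n16798
theorem D21501 : act 7 n16798 = n21501 := rfl
theorem F96400 : act 0 n21501 = n21501 := d6_1 D21501 (iv D21501) F75942
theorem F96401 : act 3 n21501 = n16800 := d27_1 D21501 (iv D16800) (iv F75943)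
theorem F96402 : act 5 n21501 = n16799 := d36_1 D21501 (iv D16799) D16798
theorem F96403 : act 9 n21501 = n21501 := d43_2 F75945 D21501 (iv D21501)
def n21502 : Q := act 8 n16798
theorem D21502 : act 8 n16798 = n21502 := rfl
theorem F96404 : act 0 n21502 = n21502 := d7_1 D21502 (iv D21502) F75942
theorem F96405 : act 2 n21502 = n16903 := d22_1 D21502 F96386 F96381
theorem F96406 : act 3 n21502 = n16801 := d28_1 D21502 (iv D16801) (iv F75943)
theorem F96407 : act 4 n21502 = n16901 := d33_1 D21502 F96399 (iv D21500)
theorem F96408 : act 6 n21502 = n21502 := d40_1 D21502 (iv D21502) F75944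
theorem F96409 : act 9 n16911 = n21502 := d34_0 F96407 F76389 D16911
def n21503 : Q := act 6 n16800
theorem D21503 : act 6 n16800 = n21503 := rfl
theorem F96410 : act 0 n21503 = n21503 := d5_1 D21503 (iv D21503) F75951
theorem F96411 : act 2 n21503 = n16858 := d20_1 D21503 (iv D16858) (iv F75952)
theorem F96412 : act 4 n21503 = n21503 := d31_1 D21503 (iv D21503) F75953
theorem F96413 : act 5 n21503 = n16809 := d35_1 D21503 (iv D16809) F59648 (iv F59626) (iv F75954)
theorem F96414 : act 7 n21503 = n21503 := d39_2 D16800 D21503 (iv D21503) (iv D16800) F59621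
theorem F96415 : act 9 n21503 = n21503 := d41_2 F75955 D21503 (iv D21503)
def n21504 : Q := act 8 n16800
theorem D21504 : act 8 n16800 = n21504 := rfl
theorem F96416 : act 0 n21504 = n21504 := d7_1 D21504 (iv D21504) F75951
theorem F96417 : act 2 n21504 = n16859 := d22_1 D21504 (iv D16859) (iv F75952)
theorem F96418 : act 4 n21504 = n21504 := d33_1 D21504 (iv D21504) F75953
theorem F96419 : act 7 n21504 = n16801 := d42_1 D21504 (iv D16801) D16800
def n21505 : Q := act 9 n16801
theorem D21505 : act 9 n16801 = n21505 := rfl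
theorem F96420 : act 0 n21505 = n21505 := d8_1 D21505 (iv D21505) F75956
theorem F96421 : act 2 n21505 = n16860 := d23_1 D21505 (iv D16860) (iv F75957)
theorem F96422 : act 3 n21505 = n16911 := d29_1 D21505 F96409 F96406
theorem F96423 : act 4 n21505 = n21505 := d34_1 D21505 (iv D21505) F75958
theorem F96424 : act 6 n21505 = n21505 := d41_1 D21505 (iv D21505) F75959
theorem F96425 : act 8 n21505 = n21505 := d44_1 D21505 (iv D21505) (iv D16801) F59622 D16801
def n21506 : Q := act 6 n16802
theorem D21506 : act 6 n16802 = n21506 := rfl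
theorem F96426 : act 0 n21506 = n16803 := d5_1 D21506 (iv D16803) D16802
theorem F96427 : act 1 n21506 = n21506 := d13_1 D21506 (iv D21506) F75960
theorem F96428 : act 3 n21506 = n16861 := d26_1 D21506 (iv D16861) (iv F75961)
theorem F96429 : act 4 n21506 = n21506 := d31_1 D21506 (iv D21506) F75962
theorem F96430 : act 9 n21506 = n21506 := d41_2 F75964 D21506 (iv D21506)
def n21507 : Q := act 5 n16803
theorem D21507 : act 5 n16803 = n21507 := rfl
theorem F96431 : act 1 n21507 = n16804 := d12_1 D21507 (iv D16804) (iv F75965)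
theorem F96432 : act 3 n21507 = n16862 := d25_1 D21507 (iv D16862) (iv F75966)
theorem F96433 : act 6 n21507 = n21507 := d35_2 D16803 D21507 (iv D21507) (iv D16803) F59630
theorem F96434 : act 9 n21507 = n21507 := d38_2 F75968 D21507 (iv D21507)
def n21508 : Q := act 7 n16803
theorem D21508 : act 7 n16803 = n21508 := rfl
theorem F96435 : act 1 n21508 = n16805 := d14_1 D21508 (iv D16805) (iv F75965)
theorem F96436 : act 3 n21508 = n16863 := d27_1 D21508 (iv D16863) (iv F75966)
theorem F96437 : act 4 n21508 = n21508 := d32_1 D21508 (iv D21508) F75967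
theorem F96438 : act 9 n21508 = n21508 := d43_2 F75968 D21508 (iv D21508)
def n21509 : Q := act 4 n16804
theorem D21509 : act 4 n16804 = n21509 := rfl
theorem F96439 : act 0 n21509 = n21509 := d3_1 D21509 (iv D21509) F75969
theorem F96440 : act 2 n21509 = n16806 := d18_1 D21509 (iv D16806) (iv F75970)
theorem F96441 : act 3 n21509 = n21509 := d24_1 D21509 (iv D21509) F75971 F59795 (iv F75971)
theorem F96442 : act 5 n21509 = n21509 := d30_2 D16804 D21509 (iv D21509) (iv D16804) F59635
theorem F96443 : act 6 n21509 = n21509 := d31_2 F75972 D21509 (iv D21509)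
theorem F96444 : act 9 n21509 = n21509 := d34_2 F75973 D21509 (iv D21509)
def n21510 : Q := act 7 n16804
theorem D21510 : act 7 n16804 = n21510 := rfl
theorem F96445 : act 0 n21510 = n21510 := d6_1 D21510 (iv D21510) F75969
theorem F96446 : act 2 n21510 = n16807 := d21_1 D21510 (iv D16807) (iv F75970)
theorem F96447 : act 3 n21510 = n16864 := d27_1 D21510 (iv D16864) (iv F75971)
theorem F96448 : act 5 n21510 = n16805 := d36_1 D21510 (iv D16805) D16804
theorem F96449 : act 9 n21510 = n21510 := d43_2 F75973 D21510 (iv D21510)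
def n21511 : Q := act 8 n16804
theorem D21511 : act 8 n16804 = n21511 := rfl
theorem F96450 : act 0 n21511 = n21511 := d7_1 D21511 (iv D21511) F75969
theorem F96451 : act 2 n21511 = n16808 := d22_1 D21511 (iv D16808) (iv F75970)
theorem F96452 : act 3 n21511 = n16865 := d28_1 D21511 (iv D16865) (iv F75971)
theorem F96453 : act 6 n21511 = n21511 := d40_1 D21511 (iv D21511) F75972
def n21512 : Q := act 7 n16806
theorem D21512 : act 7 n16806 = n21512 := rfl
theorem F96454 : act 0 n21512 = n21512 := d6_1 D21512 (iv D21512) F75979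
theorem F96455 : act 3 n21512 = n16812 := d27_1 D21512 (iv D16812) (iv F75980)
theorem F96456 : act 4 n21512 = n16807 := d32_1 D21512 (iv D16807) D16806
theorem F96457 : act 5 n21512 = n21512 := d36_1 D21512 (iv D21512) F75981
theorem F96458 : act 9 n21512 = n21512 := d43_2 F75983 D21512 (iv D21512)
def n21513 : Q := act 8 n16806
theorem D21513 : act 8 n16806 = n21513 := rfl
theorem F96460 : act 3 n21513 = n16813 := d28_1 D21513 (iv D16813) (iv F75980)
theorem F96461 : act 4 n21513 = n16808 := d33_1 D21513 (iv D16808) D16806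
def n21514 : Q := act 6 n16807
theorem D21514 : act 6 n16807 = n21514 := rfl
theorem F96463 : act 0 n21514 = n21514 := d5_1 D21514 (iv D21514) F75984
theorem F96464 : act 3 n21514 = n16809 := d26_1 D21514 (iv D16809) (iv F75985)
theorem F96465 : act 7 n21514 = n21514 := d39_2 D16807 D21514 (iv D21514) (iv D16807) F59639
theorem F96466 : act 9 n21514 = n21514 := d41_2 F75987 D21514 (iv D21514)
def n21515 : Q := act 8 n16807
theorem D21515 : act 8 n16807 = n21515 := rfl
theorem F96467 : act 0 n21515 = n21515 := d7_1 D21515 (iv D21515) F75984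
theorem F96468 : act 3 n21515 = n16810 := d28_1 D21515 (iv D16810) (iv F75985)
theorem F96469 : act 7 n21515 = n16808 := d42_1 D21515 (iv D16808) D16807
def n21516 : Q := act 9 n16808
theorem D21516 : act 9 n16808 = n21516 := rfl
theorem F96470 : act 0 n21516 = n21516 := d8_1 D21516 (iv D21516) F75988
theorem F96471 : act 3 n21516 = n16811 := d29_1 D21516 (iv D16811) (iv F75989)
theorem F96472 : act 6 n21516 = n21516 := d41_1 D21516 (iv D21516) F75990
theorem F96473 : act 8 n21516 = n21516 := d44_1 D21516 (iv D21516) (iv D16808) F59640 D16808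
def n21517 : Q := act 8 n16809
theorem D21517 : act 8 n16809 = n21517 := rfl
theorem F96474 : act 0 n21517 = n21517 := d7_1 D21517 (iv D21517) F75991
theorem F96475 : act 2 n21517 = n16869 := d22_1 D21517 (iv D16869) (iv F75992)
theorem F96476 : act 4 n21517 = n16817 := d33_1 D21517 (iv D16817) (iv F75993)
theorem F96477 : act 6 n21517 = n16810 := d40_1 D21517 (iv D16810) D16809
theorem F96478 : act 7 n21517 = n21517 := d42_1 D21517 (iv D21517) F75994
def n21518 : Q := act 9 n16810
theorem D21518 : act 9 n16810 = n21518 := rfl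
theorem F96479 : act 0 n21518 = n21518 := d8_1 D21518 (iv D21518) F75996
theorem F96480 : act 2 n21518 = n16870 := d23_1 D21518 (iv D16870) (iv F75997)
theorem F96481 : act 4 n21518 = n16818 := d34_1 D21518 (iv D16818) (iv F75998)
theorem F96482 : act 7 n21518 = n16811 := d43_1 D21518 (iv D16811) (iv F75999)
theorem F96483 : act 8 n21518 = n21518 := d44_1 D21518 (iv D21518) (iv D16810) F59649 D16810
def n21519 : Q := act 6 n16812
theorem D21519 : act 6 n16812 = n21519 := rfl
theorem F96484 : act 0 n21519 = n21519 := d5_1 D21519 (iv D21519) F76005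
theorem F96485 : act 2 n21519 = n21519 := d20_1 D21519 (iv D21519) F76006
theorem F96486 : act 4 n21519 = n16814 := d31_1 D21519 (iv D16814) (iv F76007)
theorem F96487 : act 7 n21519 = n21519 := d39_2 D16812 D21519 (iv D21519) (iv D16812) F59657
theorem F96488 : act 9 n21519 = n21519 := d41_2 F76009 D21519 (iv D21519)
def n21520 : Q := act 8 n16812
theorem D21520 : act 8 n16812 = n21520 := rfl
theorem F96492 : act 7 n21520 = n16813 := d42_1 D21520 (iv D16813) D16812
def n21521 : Q := act 5 n16813
theorem D21521 : act 5 n16813 = n21521 := rfl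
theorem F96495 : act 4 n21521 = n17057 := d30_1 D21521 (iv D17057) F60436 (iv F59667) (iv F76012)
def n21523 : Q := act 8 n16814
theorem D21523 : act 8 n16814 = n21523 := rfl
theorem F96504 : act 3 n21523 = n16817 := d28_1 D21523 (iv D16817) (iv F76016)
theorem F96505 : act 6 n21523 = n16815 := d40_1 D21523 (iv D16815) D16814
def n21524 : Q := act 9 n16815
theorem D21524 : act 9 n16815 = n21524 := rfl
theorem F96509 : act 3 n21524 = n16818 := d29_1 D21524 (iv D16818) (iv F76022)
def n21525 : Q := act 5 n16817
theorem D21525 : act 5 n16817 = n21525 := rfl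
theorem F96514 : act 2 n21525 = n16871 := d19_1 D21525 (iv D16871) (iv F76032)
theorem F96515 : act 6 n21525 = n17061 := d35_2 (iv F76033) D21525 (iv D17061) F60455 (iv F59676)
def n21526 : Q := act 9 n16817
theorem D21526 : act 9 n16817 = n21526 := rfl
theorem F96518 : act 0 n21526 = n21526 := d8_1 D21526 (iv D21526) F76031
theorem F96519 : act 2 n21526 = n16872 := d23_1 D21526 (iv D16872) (iv F76032)
theorem F96520 : act 6 n21526 = n16818 := d41_1 D21526 (iv D16818) (iv F76033)
theorem F96521 : act 7 n21526 = n21526 := d43_1 D21526 (iv D21526) F76034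
theorem F96522 : act 8 n21526 = n21526 := d44_1 D21526 (iv D21526) (iv D16817) F59673 D16817
def n21527 : Q := act 0 n16819
theorem D21527 : act 0 n16819 = n21527 := rfl
theorem F96523 : act 1 n21527 = n21527 := d0_2 D16819 D21527 (iv D21527) (iv D16819) F59683
theorem F96524 : act 4 n21527 = n21527 := d3_2 F76040 D21527 (iv D21527)
theorem F96525 : act 5 n21527 = n16841 := d4_2 (iv F76041) D21527 (iv D16841)
theorem F96526 : act 8 n21527 = n21527 := d7_2 F76042 D21527 (iv D21527)
def n21528 : Q := act 6 n16819
theorem D21528 : act 6 n16819 = n21528 := rfl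
theorem F96527 : act 1 n21528 = n16820 := d13_1 D21528 (iv D16820) D16819
theorem F96528 : act 4 n21528 = n21528 := d31_1 D21528 (iv D21528) F76040
theorem F96529 : act 8 n21528 = n21528 := d40_2 F76042 D21528 (iv D21528)
def n21529 : Q := act 5 n16820
theorem D21529 : act 5 n16820 = n21529 := rfl
theorem F96530 : act 0 n21529 = n21529 := d4_1 D21529 (iv D21529) F76043
theorem F96531 : act 2 n21529 = n16821 := d19_1 D21529 (iv D16821) (iv F76044)
theorem F96532 : act 6 n21529 = n16843 := d35_2 D16820 D21529 (iv D16843) (iv D13073) (iv F59685)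
def n21530 : Q := act 7 n16820
theorem D21530 : act 7 n16820 = n21530 := rfl
theorem F96533 : act 0 n21530 = n21530 := d6_1 D21530 (iv D21530) F76043
theorem F96534 : act 2 n21530 = n16822 := d21_1 D21530 (iv D16822) (iv F76044)
theorem F96535 : act 4 n21530 = n21530 := d32_1 D21530 (iv D21530) F76045
theorem F96536 : act 8 n21530 = n21530 := d42_2 F76046 D21530 (iv D21530)
def n21531 : Q := act 4 n16821
theorem D21531 : act 4 n16821 = n21531 := rfl
theorem F96537 : act 0 n21531 = n21531 := d3_1 D21531 (iv D21531) F76047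
theorem F96538 : act 3 n21531 = n17079 := d24_1 D21531 (iv D17079) F60501 (iv F59692) (iv F76048)
theorem F96539 : act 5 n21531 = n21531 := d30_2 D16821 D21531 (iv D21531) (iv D16821) F59689
theorem F96540 : act 6 n21531 = n16845 := d31_2 (iv F76049) D21531 (iv D16845)
def n21532 : Q := act 7 n16821
theorem D21532 : act 7 n16821 = n21532 := rfl
theorem F96541 : act 0 n21532 = n21532 := d6_1 D21532 (iv D21532) F76047
theorem F96542 : act 3 n21532 = n16823 := d27_1 D21532 (iv D16823) (iv F76048)
theorem F96543 : act 5 n21532 = n16822 := d36_1 D21532 (iv D16822) D16821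
def n21533 : Q := act 8 n16821
theorem D21533 : act 8 n16821 = n21533 := rfl
theorem F96544 : act 0 n21533 = n21533 := d7_1 D21533 (iv D21533) F76047
theorem F96545 : act 3 n21533 = n16824 := d28_1 D21533 (iv D16824) (iv F76048)
theorem F96546 : act 5 n21533 = n21533 := d37_1 D21533 (iv D21533) (iv D16821) F59690 D16821
theorem F96547 : act 6 n21533 = n16847 := d40_1 D21533 (iv D16847) (iv F76049)
def n21534 : Q := act 6 n16823
theorem D21534 : act 6 n16823 = n21534 := rfl
theorem F96548 : act 0 n21534 = n21534 := d5_1 D21534 (iv D21534) F76054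
theorem F96549 : act 4 n21534 = n17082 := d31_1 D21534 (iv D17082) (iv F76055)
theorem F96550 : act 7 n21534 = n16848 := d39_2 D16823 D21534 (iv D16848) (iv D13076) (iv F59693)
def n21535 : Q := act 8 n16823
theorem D21535 : act 8 n16823 = n21535 := rfl
theorem F96551 : act 0 n21535 = n21535 := d7_1 D21535 (iv D21535) F76054
theorem F96552 : act 4 n21535 = n17083 := d33_1 D21535 (iv D17083) (iv F76055)
theorem F96553 : act 5 n21535 = n21535 := d37_1 D21535 (iv D21535) F76056 F59696 (iv F76056)
theorem F96554 : act 7 n21535 = n16824 := d42_1 D21535 (iv D16824) D16823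
def n21536 : Q := act 9 n16824
theorem D21536 : act 9 n16824 = n21536 := rfl
theorem F96555 : act 0 n21536 = n21536 := d8_1 D21536 (iv D21536) F76057
theorem F96556 : act 4 n21536 = n17084 := d34_1 D21536 (iv D17084) (iv F76058)
theorem F96557 : act 5 n21536 = n21536 := d38_1 D21536 (iv D21536) F76059
theorem F96558 : act 6 n21536 = n16850 := d41_1 D21536 (iv D16850) (iv F76060)
def n21538 : Q := act 6 n16825
theorem D21538 : act 6 n16825 = n21538 := rfl
theorem F96565 : act 0 n21538 = n21538 := d5_1 D21538 (iv D21538) F76061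
theorem F96566 : act 2 n21538 = n16826 := d20_1 D21538 (iv D16826) D16825
theorem F96567 : act 3 n21538 = n17070 := d26_1 D21538 (iv D17070) (iv F76062)
theorem F96568 : act 4 n21538 = n16878 := d31_1 D21538 (iv D16878) (iv F76063)
theorem F96569 : act 8 n21538 = n21538 := d40_2 F76066 D21538 (iv D21538)
theorem F96570 : act 9 n21538 = n16997 := d41_2 (iv F76067) D21538 (iv D16997)
def n21539 : Q := act 5 n16826
theorem D21539 : act 5 n16826 = n21539 := rfl
theorem F96571 : act 0 n21539 = n21539 := d4_1 D21539 (iv D21539) F76068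
theorem F96572 : act 3 n21539 = n16827 := d25_1 D21539 (iv D16827) (iv F76069)
theorem F96573 : act 6 n21539 = n17018 := d35_2 D16826 D21539 (iv D17018) (iv D13204) (iv F59699)
theorem F96574 : act 9 n21539 = n16998 := d38_2 (iv F76072) D21539 (iv D16998)
def n21540 : Q := act 7 n16826
theorem D21540 : act 7 n16826 = n21540 := rfl
theorem F96575 : act 0 n21540 = n21540 := d6_1 D21540 (iv D21540) F76068
theorem F96576 : act 3 n21540 = n16828 := d27_1 D21540 (iv D16828) (iv F76069)
theorem F96577 : act 4 n21540 = n16880 := d32_1 D21540 (iv D16880) (iv F76070)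
theorem F96578 : act 6 n21540 = n17088 := d39_1 D21540 (iv D17088) (iv D13251) (iv F59700) D16826
theorem F96579 : act 8 n21540 = n21540 := d42_2 F76071 D21540 (iv D21540)
theorem F96580 : act 9 n21540 = n16999 := d43_2 (iv F76072) D21540 (iv D16999)
def n21541 : Q := act 7 n16827
theorem D21541 : act 7 n16827 = n21541 := rfl
theorem F96581 : act 0 n21541 = n21541 := d6_1 D21541 (iv D21541) F76073
theorem F96582 : act 2 n21541 = n17073 := d21_1 D21541 (iv D17073) (iv F76074)
theorem F96583 : act 4 n21541 = n16833 := d32_1 D21541 (iv D16833) (iv F76075)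
theorem F96584 : act 5 n21541 = n16828 := d36_1 D21541 (iv D16828) D16827
theorem F96585 : act 9 n21541 = n17000 := d43_2 (iv F76077) D21541 (iv D17000)
def n21542 : Q := act 8 n16827
theorem D21542 : act 8 n16827 = n21542 := rfl
theorem F96586 : act 0 n21542 = n21542 := d7_1 D21542 (iv D21542) F76073
theorem F96587 : act 2 n21542 = n17074 := d22_1 D21542 (iv D17074) (iv F76074)
theorem F96588 : act 4 n21542 = n16834 := d33_1 D21542 (iv D16834) (iv F76075)
theorem F96589 : act 5 n21542 = n21542 := d37_1 D21542 (iv D21542) (iv D16827) F59706 D16827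
theorem F96590 : act 6 n21542 = n17021 := d40_1 D21542 (iv D17021) (iv F76076)
def n21543 : Q := act 0 n16829
theorem D21543 : act 0 n16829 = n21543 := rfl
theorem F96591 : act 1 n21543 = n21543 := d0_2 D16829 D21543 (iv D21543) (iv D16829) F59715
theorem F96592 : act 4 n21543 = n16889 := d3_2 (iv F76084) D21543 (iv D16889)
theorem F96593 : act 7 n21543 = n16841 := d6_2 (iv F76085) D21543 (iv D16841)
theorem F96594 : act 8 n21543 = n16851 := d7_2 (iv F76086) D21543 (iv D16851)
def n21544 : Q := act 6 n16829
theorem D21544 : act 6 n16829 = n21544 := rfl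
theorem F96595 : act 1 n21544 = n16830 := d13_1 D21544 (iv D16830) D16829
theorem F96596 : act 4 n21544 = n16890 := d31_1 D21544 (iv D16890) (iv F76084)
theorem F96597 : act 8 n21544 = n16852 := d40_2 (iv F76086) D21544 (iv D16852)
def n21545 : Q := act 5 n16830
theorem D21545 : act 5 n16830 = n21545 := rfl
theorem F96598 : act 0 n21545 = n21545 := d4_1 D21545 (iv D21545) F76087
theorem F96599 : act 2 n21545 = n16831 := d19_1 D21545 (iv D16831) (iv F76088)
theorem F96600 : act 4 n21545 = n17113 := d30_1 D21545 F77238 F76343 (iv D16891) (iv F76089)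
theorem F96601 : act 8 n21545 = n17111 := d37_2 (iv F76090) D21545 F77230 F76168 (iv D16853)
def n21546 : Q := act 7 n16830
theorem D21546 : act 7 n16830 = n21546 := rfl
theorem F96602 : act 0 n21546 = n21546 := d6_1 D21546 (iv D21546) F76087
theorem F96603 : act 2 n21546 = n16832 := d21_1 D21546 (iv D16832) (iv F76088)
theorem F96604 : act 4 n21546 = n16892 := d32_1 D21546 (iv D16892) (iv F76089)
theorem F96605 : act 6 n21546 = n16844 := d39_1 D21546 (iv D16844) (iv D13073) (iv F59717) D16830
theorem F96606 : act 8 n21546 = n16854 := d42_2 (iv F76090) D21546 (iv D16854)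
def n21547 : Q := act 4 n16831
theorem D21547 : act 4 n16831 = n21547 := rfl
theorem F96607 : act 0 n21547 = n21547 := d3_1 D21547 (iv D21547) F76091
theorem F96608 : act 2 n21547 = n17113 := d18_1 D21547 (iv F96600) F96599
theorem F96609 : act 5 n21547 = n16893 := d30_2 D16831 D21547 (iv D16893) (iv D13108) (iv F59721)
theorem F96610 : act 8 n17109 = n21547 := d37_0 F96609 (iv F76352) (iv D13506) (iv F60565) D17109
def n21548 : Q := act 7 n16831
theorem D21548 : act 7 n16831 = n21548 := rfl
theorem F96611 : act 0 n21548 = n21548 := d6_1 D21548 (iv D21548) F76091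
theorem F96612 : act 3 n21548 = n16833 := d27_1 D21548 (iv D16833) (iv F76092)
theorem F96613 : act 5 n21548 = n16832 := d36_1 D21548 (iv D16832) D16831
def n21549 : Q := act 8 n16831
theorem D21549 : act 8 n16831 = n21549 := rfl
theorem F96614 : act 0 n21549 = n21549 := d7_1 D21549 (iv D21549) F76091
theorem F96615 : act 2 n21549 = n17111 := d22_1 D21549 (iv F96601) F96599
theorem F96616 : act 3 n21549 = n16834 := d28_1 D21549 (iv D16834) (iv F76092)
theorem F96617 : act 4 n21549 = n17109 := d33_1 D21549 F96610 (iv D21547)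
theorem F96618 : act 5 n21549 = n16857 := d37_1 D21549 (iv D16857) (iv D13080) (iv F59722) D16831
theorem F96619 : act 9 n17120 = n21549 := d38_0 F96618 (iv F76190) (iv F77257)
def n21550 : Q := act 6 n16833
theorem D21550 : act 6 n16833 = n21550 := rfl
theorem F96620 : act 0 n21550 = n21550 := d5_1 D21550 (iv D21550) F76098
theorem F96621 : act 5 n21550 = n16848 := d35_1 D21550 (iv D16848) F59758 (iv F59726) (iv F76099)
def n21551 : Q := act 8 n16833
theorem D21551 : act 8 n16833 = n21551 := rfl
theorem F96622 : act 0 n21551 = n21551 := d7_1 D21551 (iv D21551) F76098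
theorem F96623 : act 5 n21551 = n16859 := d37_1 D21551 (iv D16859) F59781 (iv F59727) (iv F76099)
theorem F96624 : act 7 n21551 = n16834 := d42_1 D21551 (iv D16834) D16833
def n21552 : Q := act 9 n16834
theorem D21552 : act 9 n16834 = n21552 := rfl
theorem F96625 : act 0 n21552 = n21552 := d8_1 D21552 (iv D21552) F76100
theorem F96626 : act 3 n21552 = n17120 := d29_1 D21552 F96619 F96616
theorem F96627 : act 5 n21552 = n16860 := d38_1 D21552 (iv D16860) (iv F76101)
def n21553 : Q := act 0 n16835
theorem D21553 : act 0 n16835 = n21553 := rfl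
theorem F96628 : act 1 n21553 = n21553 := d0_2 D16835 D21553 (iv D21553) (iv D16835) F59728
theorem F96629 : act 4 n21553 = n16899 := d3_2 (iv F76102) D21553 (iv D16899)
theorem F96630 : act 8 n21553 = n21553 := d7_2 F76103 D21553 (iv D21553)
theorem F96631 : act 9 n21553 = n16841 := d8_2 (iv F76104) D21553 (iv D16841)
def n21554 : Q := act 6 n16835
theorem D21554 : act 6 n16835 = n21554 := rfl
theorem F96632 : act 1 n21554 = n16836 := d13_1 D21554 (iv D16836) D16835
theorem F96633 : act 4 n21554 = n16900 := d31_1 D21554 (iv D16900) (iv F76102)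
theorem F96634 : act 8 n21554 = n21554 := d40_2 F76103 D21554 (iv D21554)
theorem F96635 : act 9 n21554 = n16842 := d41_2 (iv F76104) D21554 (iv D16842)
def n21555 : Q := act 5 n16836
theorem D21555 : act 5 n16836 = n21555 := rfl
theorem F96636 : act 0 n21555 = n21555 := d4_1 D21555 (iv D21555) F76105
theorem F96637 : act 2 n21555 = n16837 := d19_1 D21555 (iv D16837) (iv F76106)
theorem F96638 : act 9 n21555 = n16843 := d38_2 (iv F76109) D21555 (iv D16843)
def n21556 : Q := act 7 n16836
theorem D21556 : act 7 n16836 = n21556 := rfl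
theorem F96639 : act 0 n21556 = n21556 := d6_1 D21556 (iv D21556) F76105
theorem F96640 : act 2 n21556 = n16838 := d21_1 D21556 (iv D16838) (iv F76106)
theorem F96641 : act 4 n21556 = n16902 := d32_1 D21556 (iv D16902) (iv F76107)
theorem F96642 : act 8 n21556 = n21556 := d42_2 F76108 D21556 (iv D21556)
theorem F96643 : act 9 n21556 = n16844 := d43_2 (iv F76109) D21556 (iv D16844)
def n21557 : Q := act 4 n16837
theorem D21557 : act 4 n16837 = n21557 := rfl
theorem F96644 : act 0 n21557 = n21557 := d3_1 D21557 (iv D21557) F76110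
theorem F96645 : act 3 n21557 = n17111 := d24_1 D21557 (iv D17111) F60568 (iv F59738) (iv F76111)
theorem F96646 : act 5 n21557 = n16903 := d30_2 D16837 D21557 (iv D16903) (iv D13114) (iv F59734)
theorem F96647 : act 9 n21557 = n16845 := d34_2 (iv F76112) D21557 (iv D16845)
def n21558 : Q := act 7 n16837
theorem D21558 : act 7 n16837 = n21558 := rfl
theorem F96648 : act 0 n21558 = n21558 := d6_1 D21558 (iv D21558) F76110
theorem F96649 : act 3 n21558 = n16839 := d27_1 D21558 (iv D16839) (iv F76111)
theorem F96650 : act 5 n21558 = n16838 := d36_1 D21558 (iv D16838) D16837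
theorem F96651 : act 9 n21558 = n16846 := d43_2 (iv F76112) D21558 (iv D16846)
def n21559 : Q := act 8 n16837
theorem D21559 : act 8 n16837 = n21559 := rfl
theorem F96652 : act 0 n21559 = n21559 := d7_1 D21559 (iv D21559) F76110
theorem F96653 : act 3 n21559 = n16840 := d28_1 D21559 (iv D16840) (iv F76111)
theorem F96654 : act 5 n21559 = n21559 := d37_1 D21559 (iv D21559) (iv D16837) F59735 D16837
def n21560 : Q := act 6 n16839
theorem D21560 : act 6 n16839 = n21560 := rfl
theorem F96655 : act 0 n21560 = n21560 := d5_1 D21560 (iv D21560) F76118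
theorem F96656 : act 4 n21560 = n17114 := d31_1 D21560 (iv D17114) (iv F76119)
theorem F96657 : act 9 n21560 = n16848 := d41_2 (iv F76121) D21560 (iv D16848)
def n21561 : Q := act 8 n16839
theorem D21561 : act 8 n16839 = n21561 := rfl
theorem F96658 : act 0 n21561 = n21561 := d7_1 D21561 (iv D21561) F76118
theorem F96659 : act 4 n21561 = n17115 := d33_1 D21561 (iv D17115) (iv F76119)
theorem F96660 : act 5 n21561 = n21561 := d37_1 D21561 (iv D21561) F76120 F59742 (iv F76120)
theorem F96661 : act 7 n21561 = n16840 := d42_1 D21561 (iv D16840) D16839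
def n21562 : Q := act 9 n16840
theorem D21562 : act 9 n16840 = n21562 := rfl
theorem F96662 : act 0 n21562 = n21562 := d8_1 D21562 (iv D21562) F76122
theorem F96663 : act 4 n21562 = n17116 := d34_1 D21562 (iv D17116) (iv F76123)
theorem F96664 : act 5 n21562 = n21562 := d38_1 D21562 (iv D21562) F76124
theorem F96665 : act 8 n21562 = n16850 := d44_1 D21562 (iv D16850) (iv D13077) (iv F59739) D16840
def n21563 : Q := act 6 n16841
theorem D21563 : act 6 n16841 = n21563 := rfl
theorem F96666 : act 0 n21563 = n16842 := d5_1 D21563 (iv D16842) D16841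
theorem F96667 : act 1 n21563 = n21563 := d13_1 D21563 (iv D21563) F76125
theorem F96668 : act 4 n21563 = n16908 := d31_1 D21563 (iv D16908) (iv F76126)
theorem F96669 : act 8 n21563 = n16861 := d40_2 (iv F76127) D21563 (iv D16861)
def n21564 : Q := act 5 n16842
theorem D21564 : act 5 n16842 = n21564 := rfl
theorem F96670 : act 1 n21564 = n16843 := d12_1 D21564 (iv D16843) (iv F76128)
def n21565 : Q := act 7 n16842
theorem D21565 : act 7 n16842 = n21565 := rfl
theorem F96671 : act 1 n21565 = n16844 := d14_1 D21565 (iv D16844) (iv F76128)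
theorem F96672 : act 4 n21565 = n16910 := d32_1 D21565 (iv D16910) (iv F76129)
theorem F96673 : act 8 n21565 = n16863 := d42_2 (iv F76130) D21565 (iv D16863)
def n21566 : Q := act 4 n16843
theorem D21566 : act 4 n16843 = n21566 := rfl
theorem F96674 : act 0 n21566 = n21566 := d3_1 D21566 (iv D21566) F76131
theorem F96675 : act 2 n21566 = n16845 := d18_1 D21566 (iv D16845) (iv F76132)
theorem F96676 : act 5 n21566 = n16911 := d30_2 D16843 D21566 (iv D16911) (iv D13120) (iv F59748)
def n21567 : Q := act 7 n16843
theorem D21567 : act 7 n16843 = n21567 := rfl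
theorem F96677 : act 0 n21567 = n21567 := d6_1 D21567 (iv D21567) F76131
theorem F96678 : act 2 n21567 = n16846 := d21_1 D21567 (iv D16846) (iv F76132)
theorem F96679 : act 5 n21567 = n16844 := d36_1 D21567 (iv D16844) D16843
def n21568 : Q := act 8 n16843
theorem D21568 : act 8 n16843 = n21568 := rfl
theorem F96680 : act 0 n21568 = n21568 := d7_1 D21568 (iv D21568) F76131
theorem F96681 : act 2 n21568 = n16847 := d22_1 D21568 (iv D16847) (iv F76132)
theorem F96682 : act 5 n21568 = n16865 := d37_1 D21568 (iv D16865) (iv D13086) (iv F59749) D16843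
def n21569 : Q := act 7 n16845
theorem D21569 : act 7 n16845 = n21569 := rfl
theorem F96683 : act 0 n21569 = n21569 := d6_1 D21569 (iv D21569) F76137
theorem F96684 : act 3 n21569 = n17123 := d27_1 D21569 (iv D17123) (iv F76138)
theorem F96685 : act 4 n21569 = n16846 := d32_1 D21569 (iv D16846) D16845
theorem F96686 : act 5 n21569 = n16913 := d36_1 D21569 (iv D16913) (iv F76139)
def n21570 : Q := act 8 n16845
theorem D21570 : act 8 n16845 = n21570 := rfl
theorem F96687 : act 0 n21570 = n21570 := d7_1 D21570 (iv D21570) F76137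
theorem F96688 : act 3 n21570 = n17124 := d28_1 D21570 (iv D17124) (iv F76138)
theorem F96689 : act 4 n21570 = n16847 := d33_1 D21570 (iv D16847) D16845
theorem F96690 : act 5 n21570 = n21570 := d37_1 D21570 (iv D21570) F76139 F59955 (iv F76139)
def n21571 : Q := act 6 n16846
theorem D21571 : act 6 n16846 = n21571 := rfl
theorem F96691 : act 0 n21571 = n21571 := d5_1 D21571 (iv D21571) F76140
theorem F96692 : act 3 n21571 = n16848 := d26_1 D21571 (iv D16848) (iv F76141)
def n21572 : Q := act 8 n16846
theorem D21572 : act 8 n16846 = n21572 := rfl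
theorem F96693 : act 0 n21572 = n21572 := d7_1 D21572 (iv D21572) F76140
theorem F96694 : act 3 n21572 = n16849 := d28_1 D21572 (iv D16849) (iv F76141)
theorem F96695 : act 5 n21572 = n16867 := d37_1 D21572 (iv D16867) F59805 (iv F59755) (iv F76142)
theorem F96696 : act 7 n21572 = n16847 := d42_1 D21572 (iv D16847) D16846
def n21573 : Q := act 9 n16847
theorem D21573 : act 9 n16847 = n21573 := rfl
theorem F96697 : act 0 n21573 = n21573 := d8_1 D21573 (iv D21573) F76143
theorem F96698 : act 3 n21573 = n16850 := d29_1 D21573 (iv D16850) (iv F76144)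
theorem F96699 : act 5 n21573 = n16868 := d38_1 D21573 (iv D16868) (iv F76145)
def n21574 : Q := act 8 n16848
theorem D21574 : act 8 n16848 = n21574 := rfl
theorem F96700 : act 0 n21574 = n21574 := d7_1 D21574 (iv D21574) F76146
theorem F96701 : act 4 n21574 = n17128 := d33_1 D21574 (iv D17128) (iv F76147)
theorem F96702 : act 6 n21574 = n16849 := d40_1 D21574 (iv D16849) D16848
def n21575 : Q := act 9 n16849
theorem D21575 : act 9 n16849 = n21575 := rfl
theorem F96703 : act 0 n21575 = n21575 := d8_1 D21575 (iv D21575) F76148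
theorem F96704 : act 4 n21575 = n17129 := d34_1 D21575 (iv D17129) (iv F76149)
theorem F96705 : act 5 n21575 = n16870 := d38_1 D21575 (iv D16870) (iv F76150)
theorem F96706 : act 7 n21575 = n16850 := d43_1 D21575 (iv D16850) (iv F76151)
def n21576 : Q := act 6 n16851
theorem D21576 : act 6 n16851 = n21576 := rfl
theorem F96707 : act 0 n21576 = n16852 := d5_1 D21576 (iv D16852) D16851
theorem F96708 : act 1 n21576 = n21576 := d13_1 D21576 (iv D21576) F76155
theorem F96709 : act 4 n21576 = n16915 := d31_1 D21576 (iv D16915) (iv F76156)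
theorem F96710 : act 9 n21576 = n21576 := d41_2 F76159 D21576 (iv D21576)
def n21577 : Q := act 7 n16852
theorem D21577 : act 7 n16852 = n21577 := rfl
theorem F96711 : act 1 n21577 = n16854 := d14_1 D21577 (iv D16854) (iv F76160)
theorem F96712 : act 4 n21577 = n16916 := d32_1 D21577 (iv D16916) (iv F76161)
theorem F96713 : act 6 n21577 = n16863 := d39_1 D21577 (iv D16863) (iv D13085) (iv F59764) D16852
theorem F96714 : act 9 n21577 = n21577 := d43_2 F76162 D21577 (iv D21577)
def n21578 : Q := act 7 n16853
theorem D21578 : act 7 n16853 = n21578 := rfl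
theorem F96715 : act 0 n21578 = n21578 := d6_1 D21578 (iv D21578) F76163
theorem F96716 : act 2 n21578 = n16856 := d21_1 D21578 (iv D16856) (iv F76164)
theorem F96717 : act 4 n21578 = n17194 := d32_1 D21578 F77557 (iv F76165)
theorem F96718 : act 5 n21578 = n16854 := d36_1 D21578 (iv D16854) D16853
theorem F96719 : act 8 n21578 = n17192 := d42_2 F76168 D21578 (iv D17192)
theorem F96720 : act 9 n21578 = n21578 := d43_2 F76167 D21578 (iv D21578)
def n21579 : Q := act 7 n16855
theorem D21579 : act 7 n16855 = n21579 := rfl
theorem F96721 : act 0 n21579 = n21579 := d6_1 D21579 (iv D21579) F76174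
theorem F96722 : act 2 n21579 = n17194 := d21_1 D21579 F77557 (iv F76175)
theorem F96723 : act 3 n21579 = n21579 := d27_1 D21579 (iv D21579) F76176
theorem F96724 : act 4 n21579 = n16856 := d32_1 D21579 (iv D16856) D16855
theorem F96725 : act 5 n21579 = n16918 := d36_1 D21579 (iv D16918) (iv F76177)
theorem F96726 : act 8 n21579 = n17191 := d42_2 F76180 D21579 (iv D17191)
theorem F96727 : act 9 n21579 = n21579 := d43_2 F76179 D21579 (iv D21579)
def n21580 : Q := act 6 n16856
theorem D21580 : act 6 n16856 = n21580 := rfl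
theorem F96728 : act 0 n21580 = n21580 := d5_1 D21580 (iv D21580) F76181
theorem F96729 : act 3 n21580 = n16858 := d26_1 D21580 (iv D16858) (iv F76182)
theorem F96730 : act 5 n21580 = n16866 := d35_1 D21580 (iv D16866) F59805 (iv F59777) (iv F76183)
theorem F96731 : act 7 n21580 = n21580 := d39_2 D16856 D21580 (iv D21580) (iv D16856) F59772
theorem F96732 : act 9 n21580 = n21580 := d41_2 F76184 D21580 (iv D21580)
def n21581 : Q := act 8 n16856
theorem D21581 : act 8 n16856 = n21581 := rfl
theorem F96733 : act 0 n21581 = n21581 := d7_1 D21581 (iv D21581) F76181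
theorem F96734 : act 2 n21581 = n17192 := d22_1 D21581 (iv F96719) F96716
theorem F96735 : act 3 n21581 = n16859 := d28_1 D21581 (iv D16859) (iv F76182)
theorem F96737 : act 7 n21581 = n16857 := d42_1 D21581 (iv D16857) D16856
theorem F96738 : act 9 n17200 = n21581 := d43_0 F96737 (iv F76190) D17200
def n21582 : Q := act 8 n16858
theorem D21582 : act 8 n16858 = n21582 := rfl
theorem F96739 : act 0 n21582 = n21582 := d7_1 D21582 (iv D21582) F76191
theorem F96740 : act 4 n21582 = n21582 := d33_1 D21582 (iv D21582) F76192
theorem F96741 : act 6 n21582 = n16859 := d40_1 D21582 (iv D16859) D16858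
theorem F96742 : act 7 n21582 = n21582 := d42_1 D21582 (iv D21582) F76194
def n21583 : Q := act 9 n16859
theorem D21583 : act 9 n16859 = n21583 := rfl
theorem F96743 : act 0 n21583 = n21583 := d8_1 D21583 (iv D21583) F76196
theorem F96744 : act 3 n21583 = n17200 := d29_1 D21583 F96738 F96735
theorem F96745 : act 4 n21583 = n21583 := d34_1 D21583 (iv D21583) F76197
theorem F96746 : act 7 n21583 = n16860 := d43_1 D21583 (iv D16860) (iv F76198)
theorem F96747 : act 8 n21583 = n21583 := d44_1 D21583 (iv D21583) (iv D16859) F59782 D16859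
def n21584 : Q := act 5 n16861
theorem D21584 : act 5 n16861 = n21584 := rfl
theorem F96748 : act 0 n21584 = n16862 := d4_1 D21584 (iv D16862) (iv F76204)
theorem F96749 : act 1 n21584 = n21584 := d12_1 D21584 (iv D21584) F76205
theorem F96750 : act 4 n21584 = n21584 := d30_1 D21584 (iv D21584) F76206 F60030 (iv F76206)
theorem F96751 : act 6 n21584 = n21584 := d35_2 D16861 D21584 (iv D21584) (iv D16861) F59788
theorem F96752 : act 9 n21584 = n21584 := d38_2 F76207 D21584 (iv D21584)
def n21585 : Q := act 7 n16861
theorem D21585 : act 7 n16861 = n21585 := rfl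
theorem F96753 : act 0 n21585 = n16863 := d6_1 D21585 (iv D16863) (iv F76204)
theorem F96754 : act 1 n21585 = n21585 := d14_1 D21585 (iv D21585) F76205
theorem F96755 : act 4 n21585 = n16921 := d32_1 D21585 (iv D16921) (iv F76206)
theorem F96756 : act 9 n21585 = n21585 := d43_2 F76207 D21585 (iv D21585)
def n21586 : Q := act 7 n16862
theorem D21586 : act 7 n16862 = n21586 := rfl
theorem F96757 : act 1 n21586 = n16864 := d14_1 D21586 (iv D16864) (iv F76208)
theorem F96758 : act 4 n21586 = n21586 := d32_1 D21586 (iv D21586) F76209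
theorem F96759 : act 5 n21586 = n16863 := d36_1 D21586 (iv D16863) D16862
theorem F96760 : act 9 n21586 = n21586 := d43_2 F76211 D21586 (iv D21586)
def n21587 : Q := act 8 n16862
theorem D21587 : act 8 n16862 = n21587 := rfl
theorem F96761 : act 1 n21587 = n16865 := d15_1 D21587 (iv D16865) (iv F76208)
theorem F96762 : act 4 n21587 = n21587 := d33_1 D21587 (iv D21587) F76209
theorem F96763 : act 6 n21587 = n21587 := d40_1 D21587 (iv D21587) F76210
def n21588 : Q := act 6 n16864
theorem D21588 : act 6 n16864 = n21588 := rfl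
theorem F96764 : act 0 n21588 = n21588 := d5_1 D21588 (iv D21588) F76215
theorem F96765 : act 2 n21588 = n16866 := d20_1 D21588 (iv D16866) (iv F76216)
theorem F96766 : act 4 n21588 = n21588 := d31_1 D21588 (iv D21588) F76217
theorem F96767 : act 7 n21588 = n21588 := d39_2 D16864 D21588 (iv D21588) (iv D16864) F59796
theorem F96768 : act 9 n21588 = n21588 := d41_2 F76219 D21588 (iv D21588)
def n21589 : Q := act 8 n16864
theorem D21589 : act 8 n16864 = n21589 := rfl
theorem F96769 : act 0 n21589 = n21589 := d7_1 D21589 (iv D21589) F76215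
theorem F96770 : act 2 n21589 = n16867 := d22_1 D21589 (iv D16867) (iv F76216)
theorem F96771 : act 4 n21589 = n21589 := d33_1 D21589 (iv D21589) F76217
theorem F96772 : act 7 n21589 = n16865 := d42_1 D21589 (iv D16865) D16864
def n21590 : Q := act 9 n16865
theorem D21590 : act 9 n16865 = n21590 := rfl
theorem F96773 : act 0 n21590 = n21590 := d8_1 D21590 (iv D21590) F76220
theorem F96774 : act 2 n21590 = n16868 := d23_1 D21590 (iv D16868) (iv F76221)
theorem F96775 : act 4 n21590 = n21590 := d34_1 D21590 (iv D21590) F76222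
theorem F96776 : act 6 n21590 = n21590 := d41_1 D21590 (iv D21590) F76223
theorem F96777 : act 8 n21590 = n21590 := d44_1 D21590 (iv D21590) (iv D16865) F59797 D16865
def n21591 : Q := act 8 n16866
theorem D21591 : act 8 n16866 = n21591 := rfl
theorem F96778 : act 0 n21591 = n21591 := d7_1 D21591 (iv D21591) F76224
theorem F96779 : act 3 n21591 = n16869 := d28_1 D21591 (iv D16869) (iv F76225)
theorem F96780 : act 4 n21591 = n21591 := d33_1 D21591 (iv D21591) F76226
theorem F96781 : act 6 n21591 = n16867 := d40_1 D21591 (iv D16867) D16866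
theorem F96782 : act 7 n21591 = n21591 := d42_1 D21591 (iv D21591) F76227
def n21592 : Q := act 9 n16867
theorem D21592 : act 9 n16867 = n21592 := rfl
theorem F96783 : act 0 n21592 = n21592 := d8_1 D21592 (iv D21592) F76229
theorem F96784 : act 3 n21592 = n16870 := d29_1 D21592 (iv D16870) (iv F76230)
theorem F96785 : act 4 n21592 = n21592 := d34_1 D21592 (iv D21592) F76231
theorem F96786 : act 7 n21592 = n16868 := d43_1 D21592 (iv D16868) (iv F76232)
theorem F96787 : act 8 n21592 = n21592 := d44_1 D21592 (iv D21592) (iv D16867) F59806 D16867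
def n21593 : Q := act 5 n16869
theorem D21593 : act 5 n16869 = n21593 := rfl
theorem F96788 : act 0 n21593 = n21593 := d4_1 D21593 (iv D21593) F76238
theorem F96789 : act 7 n21593 = n21593 := d36_2 F76241 D21593 (iv D21593)
def n21594 : Q := act 9 n16869
theorem D21594 : act 9 n16869 = n21594 := rfl
theorem F96790 : act 0 n21594 = n21594 := d8_1 D21594 (iv D21594) F76238
theorem F96791 : act 4 n21594 = n16872 := d34_1 D21594 (iv D16872) (iv F76239)
theorem F96792 : act 6 n21594 = n16870 := d41_1 D21594 (iv D16870) (iv F76240)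
theorem F96793 : act 7 n21594 = n21594 := d43_1 D21594 (iv D21594) F76241
theorem F96794 : act 8 n21594 = n21594 := d44_1 D21594 (iv D21594) (iv D16869) F59814 D16869
def n21595 : Q := act 4 n16871
theorem D21595 : act 4 n16871 = n21595 := rfl
theorem F96795 : act 0 n21595 = n21595 := d3_1 D21595 (iv D21595) F76246
theorem F96796 : act 6 n21595 = n17154 := d31_2 (iv F76248) D21595 (iv D17154)
theorem F96797 : act 7 n21595 = n21595 := d32_2 F76249 D21595 (iv D21595)
theorem F96798 : act 8 n21595 = n21595 := d33_2 F76250 D21595 (iv D21595)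
def n21596 : Q := act 9 n16871
theorem D21596 : act 9 n16871 = n21596 := rfl
theorem F96799 : act 0 n21596 = n21596 := d8_1 D21596 (iv D21596) F76246
theorem F96800 : act 3 n21596 = n21596 := d29_1 D21596 (iv D21596) F76247
theorem F96801 : act 5 n21596 = n16872 := d38_1 D21596 (iv D16872) D16871
theorem F96802 : act 6 n21596 = n17155 := d41_1 D21596 (iv D17155) (iv F76248)
theorem F96803 : act 7 n21596 = n21596 := d43_1 D21596 (iv D21596) F76249
def n21597 : Q := act 1 n16873
theorem D21597 : act 1 n16873 = n21597 := rfl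
theorem F96805 : act 4 n21597 = n16996 := d11_2 (iv F76258) D21597 (iv D16996)
theorem F96808 : act 8 n21597 = n17596 := d15_2 (iv F76261) D21597 (iv D17596)
theorem F96809 : act 9 n21597 = n16877 := d16_2 (iv F76262) D21597 (iv D16877)
def n21598 : Q := act 6 n16873
theorem D21598 : act 6 n16873 = n21598 := rfl
theorem F96811 : act 2 n21598 = n16874 := d20_1 D21598 (iv D16874) D16873
theorem F96813 : act 4 n21598 = n16997 := d31_1 D21598 (iv D16997) (iv F76258)
theorem F96815 : act 9 n21598 = n16878 := d41_2 (iv F76262) D21598 (iv D16878)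
def n21599 : Q := act 5 n16874
theorem D21599 : act 5 n16874 = n21599 := rfl
theorem F96817 : act 3 n21599 = n16875 := d25_1 D21599 (iv D16875) (iv F76264)
theorem F96819 : act 9 n21599 = n16879 := d38_2 (iv F76267) D21599 (iv D16879)
def n21600 : Q := act 7 n16874
theorem D21600 : act 7 n16874 = n21600 := rfl
theorem F96820 : act 0 n21600 = n21600 := d6_1 D21600 (iv D21600) F76263
theorem F96821 : act 3 n21600 = n16876 := d27_1 D21600 (iv D16876) (iv F76264)
theorem F96822 : act 4 n21600 = n16999 := d32_1 D21600 (iv D16999) (iv F76265)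
theorem F96823 : act 6 n21600 = n17159 := d39_1 D21600 (iv D17159) (iv D13303) (iv F59834) D16874
theorem F96824 : act 8 n21600 = n17599 := d42_2 (iv F76266) D21600 (iv D17599)
theorem F96825 : act 9 n21600 = n16880 := d43_2 (iv F76267) D21600 (iv D16880)
def n21601 : Q := act 7 n16875
theorem D21601 : act 7 n16875 = n21601 := rfl
theorem F96826 : act 0 n21601 = n21601 := d6_1 D21601 (iv D21601) F76268
theorem F96827 : act 2 n21601 = n21601 := d21_1 D21601 (iv D21601) F76269
theorem F96828 : act 4 n21601 = n16887 := d32_1 D21601 (iv D16887) (iv F76270)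
theorem F96829 : act 5 n21601 = n16876 := d36_1 D21601 (iv D16876) D16875
theorem F96830 : act 9 n21601 = n16881 := d43_2 (iv F76272) D21601 (iv D16881)
def n21602 : Q := act 8 n16875
theorem D21602 : act 8 n16875 = n21602 := rfl
theorem F96833 : act 4 n21602 = n16888 := d33_1 D21602 (iv D16888) (iv F76270)
def n21603 : Q := act 0 n16877
theorem D21603 : act 0 n16877 = n21603 := rfl
theorem F96839 : act 7 n21603 = n17161 := d6_2 (iv F76281) D21603 (iv D17161)
def n21604 : Q := act 6 n16877
theorem D21604 : act 6 n16877 = n21604 := rfl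
theorem F96841 : act 1 n21604 = n16878 := d13_1 D21604 (iv D16878) D16877
def n21605 : Q := act 5 n16878
theorem D21605 : act 5 n16878 = n21605 := rfl
theorem F96845 : act 2 n21605 = n16879 := d19_1 D21605 (iv D16879) (iv F76284)
def n21606 : Q := act 7 n16878
theorem D21606 : act 7 n16878 = n21606 := rfl
theorem F96848 : act 0 n21606 = n21606 := d6_1 D21606 (iv D21606) F76283
theorem F96849 : act 2 n21606 = n16880 := d21_1 D21606 (iv D16880) (iv F76284)
theorem F96850 : act 3 n21606 = n21606 := d27_1 D21606 (iv D21606) F76285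
theorem F96851 : act 6 n21606 = n17164 := d39_1 D21606 (iv D17164) (iv D13307) (iv F59852) D16878
theorem F96852 : act 8 n21606 = n21606 := d42_2 F76286 D21606 (iv D21606)
def n21607 : Q := act 4 n16879
theorem D21607 : act 4 n16879 = n21607 := rfl
theorem F96853 : act 0 n21607 = n21607 := d3_1 D21607 (iv D21607) F76287
theorem F96854 : act 3 n21607 = n16893 := d24_1 D21607 (iv D16893) F59895 (iv F59859) (iv F76288)
theorem F96855 : act 6 n21607 = n21607 := d31_2 F76289 D21607 (iv D21607)
theorem F96856 : act 2 n17351 = n21607 := d17_5 F96854 F76350 F61539 (iv F61286) (iv F78186)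
theorem F96857 : act 8 n17347 = n21607 := d28_0 F96854 (iv F76352) (iv F78168)
theorem F96858 : act 4 n21605 = n17351 := d18_0 F96856 (iv D21607) (iv F96845)
theorem F96859 : act 8 n17349 = n21605 := d33_0 F96858 (iv D17351) D17349
def n21608 : Q := act 7 n16879
theorem D21608 : act 7 n16879 = n21608 := rfl
theorem F96860 : act 0 n21608 = n21608 := d6_1 D21608 (iv D21608) F76287
theorem F96861 : act 3 n21608 = n16881 := d27_1 D21608 (iv D16881) (iv F76288)
theorem F96862 : act 5 n21608 = n16880 := d36_1 D21608 (iv D16880) D16879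
def n21609 : Q := act 8 n16879
theorem D21609 : act 8 n16879 = n21609 := rfl
theorem F96866 : act 4 n21609 = n17347 := d33_1 D21609 F96857 (iv D21607)
theorem F96869 : act 9 n17358 = n21609 := d34_0 F96866 F78170 D17358
def n21610 : Q := act 6 n16881
theorem D21610 : act 6 n16881 = n21610 := rfl
theorem F96870 : act 0 n21610 = n21610 := d5_1 D21610 (iv D21610) F76294
theorem F96871 : act 2 n21610 = n21610 := d20_1 D21610 (iv D21610) F76295
theorem F96872 : act 4 n21610 = n16896 := d31_1 D21610 (iv D16896) (iv F76296)
theorem F96873 : act 5 n21610 = n17168 := d35_1 D21610 (iv D17168) F60731 (iv F59864) (iv F76297)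
theorem F96874 : act 7 n21610 = n21610 := d39_2 D16881 D21610 (iv D21610) (iv D16881) F59860
def n21611 : Q := act 8 n16881
theorem D21611 : act 8 n16881 = n21611 := rfl
theorem F96875 : act 0 n21611 = n21611 := d7_1 D21611 (iv D21611) F76294
theorem F96876 : act 2 n21611 = n21611 := d22_1 D21611 (iv D21611) F76295
theorem F96877 : act 4 n21611 = n16897 := d33_1 D21611 (iv D16897) (iv F76296)
theorem F96878 : act 5 n21611 = n21611 := d37_1 D21611 (iv D21611) F76297 F59865 (iv F76297)
theorem F96879 : act 7 n21611 = n16882 := d42_1 D21611 (iv D16882) D16881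
def n21612 : Q := act 9 n16882
theorem D21612 : act 9 n16882 = n21612 := rfl
theorem F96883 : act 4 n21612 = n16898 := d34_1 D21612 (iv D16898) (iv F76300)
def n21613 : Q := act 0 n16883
theorem D21613 : act 0 n16883 = n21613 := rfl
theorem F96886 : act 1 n21613 = n21613 := d0_2 D16883 D21613 (iv D21613) (iv D16883) F59866
theorem F96887 : act 3 n21613 = n21613 := d2_2 F76303 D21613 (iv D21613)
theorem F96888 : act 5 n21613 = n21613 := d4_2 F76304 D21613 (iv D21613)
theorem F96889 : act 7 n21613 = n16899 := d6_2 (iv F76305) D21613 (iv D16899)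
theorem F96890 : act 8 n21613 = n21613 := d7_2 F76306 D21613 (iv D21613)
theorem F96891 : act 9 n21613 = n16889 := d8_2 (iv F76307) D21613 (iv D16889)
def n21614 : Q := act 6 n16883
theorem D21614 : act 6 n16883 = n21614 := rfl
theorem F96892 : act 1 n21614 = n16884 := d13_1 D21614 (iv D16884) D16883
theorem F96893 : act 3 n21614 = n21614 := d26_1 D21614 (iv D21614) F76303
theorem F96894 : act 8 n21614 = n21614 := d40_2 F76306 D21614 (iv D21614)
theorem F96895 : act 9 n21614 = n16890 := d41_2 (iv F76307) D21614 (iv D16890)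
def n21615 : Q := act 5 n16884
theorem D21615 : act 5 n16884 = n21615 := rfl
theorem F96896 : act 0 n21615 = n21615 := d4_1 D21615 (iv D21615) F76308
theorem F96897 : act 2 n21615 = n16885 := d19_1 D21615 (iv D16885) (iv F76309)
theorem F96898 : act 3 n21615 = n21615 := d25_1 D21615 (iv D21615) F76310
theorem F96899 : act 6 n21615 = n21615 := d35_2 D16884 D21615 (iv D21615) (iv D16884) F59868
theorem F96900 : act 9 n21615 = n16891 := d38_2 (iv F76312) D21615 (iv D16891)
theorem F96901 : act 4 n17435 = n21615 := d34_3 F96900 (iv F76343) D17435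
theorem F96902 : act 8 n17450 = n21615 := d44_5 F96900 F76342 F61533 D13521 D17450
def n21616 : Q := act 7 n16884
theorem D21616 : act 7 n16884 = n21616 := rfl
theorem F96903 : act 0 n21616 = n21616 := d6_1 D21616 (iv D21616) F76308
theorem F96904 : act 2 n21616 = n16886 := d21_1 D21616 (iv D16886) (iv F76309)
theorem F96905 : act 3 n21616 = n21616 := d27_1 D21616 (iv D21616) F76310
theorem F96906 : act 6 n21616 = n16902 := d39_1 D21616 (iv D16902) (iv D13113) (iv F59869) D16884
theorem F96907 : act 8 n21616 = n21616 := d42_2 F76311 D21616 (iv D21616)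
theorem F96908 : act 9 n21616 = n16892 := d43_2 (iv F76312) D21616 (iv D16892)
def n21617 : Q := act 4 n16885
theorem D21617 : act 4 n16885 = n21617 := rfl
theorem F96909 : act 0 n21617 = n21617 := d3_1 D21617 (iv D21617) F76313
theorem F96910 : act 2 n21617 = n17435 := d18_1 D21617 F96901 F96897
theorem F96911 : act 6 n21617 = n21617 := d31_2 F76315 D21617 (iv D21617)
theorem F96912 : act 9 n21617 = n16893 := d34_2 (iv F76316) D21617 (iv D16893)
theorem F96913 : act 8 n17447 = n21617 := d44_5 F96912 (iv F76352) F61524 D13519 D17447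
def n21618 : Q := act 7 n16885
theorem D21618 : act 7 n16885 = n21618 := rfl
theorem F96914 : act 0 n21618 = n21618 := d6_1 D21618 (iv D21618) F76313
theorem F96915 : act 3 n21618 = n16887 := d27_1 D21618 (iv D16887) (iv F76314)
theorem F96916 : act 5 n21618 = n16886 := d36_1 D21618 (iv D16886) D16885
theorem F96917 : act 9 n21618 = n16894 := d43_2 (iv F76316) D21618 (iv D16894)
def n21619 : Q := act 8 n16885
theorem D21619 : act 8 n16885 = n21619 := rfl
theorem F96918 : act 0 n21619 = n21619 := d7_1 D21619 (iv D21619) F76313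
theorem F96919 : act 2 n21619 = n17450 := d22_1 D21619 F96902 F96897
theorem F96920 : act 3 n21619 = n16888 := d28_1 D21619 (iv D16888) (iv F76314)
theorem F96921 : act 4 n21619 = n17447 := d33_1 D21619 F96913 (iv D21617)
theorem F96922 : act 5 n21619 = n21619 := d37_1 D21619 (iv D21619) (iv D16885) F59874 D16885
theorem F96923 : act 6 n21619 = n21619 := d40_1 D21619 (iv D21619) F76315
theorem F96924 : act 9 n21619 = n17444 := d44_2 (iv F76316) D21619 (iv D17444) F76362 (iv D16895)
def n21620 : Q := act 6 n16887
theorem D21620 : act 6 n16887 = n21620 := rfl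
theorem F96925 : act 0 n21620 = n21620 := d5_1 D21620 (iv D21620) F76322
theorem F96926 : act 2 n21620 = n21620 := d20_1 D21620 (iv D21620) F76323
theorem F96927 : act 5 n21620 = n16906 := d35_1 D21620 (iv D16906) F59928 (iv F59883) (iv F76324)
theorem F96928 : act 7 n21620 = n21620 := d39_2 D16887 D21620 (iv D21620) (iv D16887) F59878
theorem F96929 : act 9 n21620 = n16896 := d41_2 (iv F76325) D21620 (iv D16896)
def n21621 : Q := act 8 n16887
theorem D21621 : act 8 n16887 = n21621 := rfl
theorem F96930 : act 0 n21621 = n21621 := d7_1 D21621 (iv D21621) F76322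
theorem F96931 : act 2 n21621 = n21621 := d22_1 D21621 (iv D21621) F76323
theorem F96932 : act 5 n21621 = n21621 := d37_1 D21621 (iv D21621) F76324 F59884 (iv F76324)
theorem F96933 : act 7 n21621 = n16888 := d42_1 D21621 (iv D16888) D16887
def n21622 : Q := act 9 n16888
theorem D21622 : act 9 n16888 = n21622 := rfl
theorem F96936 : act 3 n21622 = n17444 := d29_1 D21622 (iv F96924) F96920
def n21623 : Q := act 6 n16889
theorem D21623 : act 6 n16889 = n21623 := rfl
theorem F96940 : act 0 n21623 = n16890 := d5_1 D21623 (iv D16890) D16889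
theorem F96941 : act 1 n21623 = n21623 := d13_1 D21623 (iv D21623) F76330
theorem F96942 : act 3 n21623 = n21623 := d26_1 D21623 (iv D21623) F76331
theorem F96943 : act 8 n21623 = n16915 := d40_2 (iv F76334) D21623 (iv D16915)
def n21624 : Q := act 7 n16890
theorem D21624 : act 7 n16890 = n21624 := rfl
theorem F96944 : act 1 n21624 = n16892 := d14_1 D21624 (iv D16892) (iv F76335)
theorem F96945 : act 3 n21624 = n21624 := d27_1 D21624 (iv D21624) F76336
theorem F96946 : act 6 n21624 = n16910 := d39_1 D21624 (iv D16910) (iv D13119) (iv F59888) D16890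
theorem F96947 : act 8 n21624 = n16916 := d42_2 (iv F76337) D21624 (iv D16916)
def n21625 : Q := act 7 n16891
theorem D21625 : act 7 n16891 = n21625 := rfl
theorem F96948 : act 0 n21625 = n21625 := d6_1 D21625 (iv D21625) F76338
theorem F96949 : act 2 n21625 = n16894 := d21_1 D21625 (iv D16894) (iv F76339)
theorem F96950 : act 3 n21625 = n21625 := d27_1 D21625 (iv D21625) F76340
theorem F96951 : act 4 n21625 = n17434 := d32_1 D21625 F78533 F76343
theorem F96952 : act 5 n21625 = n16892 := d36_1 D21625 (iv D16892) D16891
theorem F96953 : act 8 n21625 = n17432 := d42_2 (iv F76342) D21625 (iv D17432)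
def n21626 : Q := act 7 n16893
theorem D21626 : act 7 n16893 = n21626 := rfl
theorem F96954 : act 0 n21626 = n21626 := d6_1 D21626 (iv D21626) F76349
theorem F96955 : act 2 n21626 = n17434 := d21_1 D21626 F78533 (iv F76350)
theorem F96956 : act 4 n21626 = n16894 := d32_1 D21626 (iv D16894) D16893
theorem F96957 : act 8 n21626 = n17431 := d42_2 F76352 D21626 (iv D17431)
def n21627 : Q := act 6 n16894
theorem D21627 : act 6 n16894 = n21627 := rfl
theorem F96958 : act 0 n21627 = n21627 := d5_1 D21627 (iv D21627) F76353
theorem F96959 : act 3 n21627 = n16896 := d26_1 D21627 (iv D16896) (iv F76354)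
theorem F96960 : act 5 n21627 = n16914 := d35_1 D21627 (iv D16914) F59958 (iv F59899) (iv F76355)
theorem F96961 : act 7 n21627 = n21627 := d39_2 D16894 D21627 (iv D21627) (iv D16894) F59896
def n21628 : Q := act 8 n16894
theorem D21628 : act 8 n16894 = n21628 := rfl
theorem F96962 : act 0 n21628 = n21628 := d7_1 D21628 (iv D21628) F76353
theorem F96963 : act 2 n21628 = n17432 := d22_1 D21628 (iv F96953) F96949
theorem F96964 : act 3 n21628 = n16897 := d28_1 D21628 (iv D16897) (iv F76354)
theorem F96965 : act 4 n21628 = n17431 := d33_1 D21628 (iv F96957) F96956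
theorem F96966 : act 5 n21628 = n16919 := d37_1 D21628 (iv D16919) F60007 (iv F59900) (iv F76355)
theorem F96967 : act 7 n21628 = n16895 := d42_1 D21628 (iv D16895) D16894
theorem F96968 : act 9 n17443 = n21628 := d43_0 F96967 (iv F76362) D17443
def n21629 : Q := act 8 n16896
theorem D21629 : act 8 n16896 = n21629 := rfl
theorem F96969 : act 0 n21629 = n21629 := d7_1 D21629 (iv D21629) F76363
theorem F96970 : act 2 n21629 = n21629 := d22_1 D21629 (iv D21629) F76364
theorem F96971 : act 5 n21629 = n21629 := d37_1 D21629 (iv D21629) F76365 F59964 (iv F76365)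
theorem F96972 : act 6 n21629 = n16897 := d40_1 D21629 (iv D16897) D16896
theorem F96973 : act 7 n21629 = n21629 := d42_1 D21629 (iv D21629) F76366
def n21630 : Q := act 9 n16897
theorem D21630 : act 9 n16897 = n21630 := rfl
theorem F96974 : act 0 n21630 = n21630 := d8_1 D21630 (iv D21630) F76367
theorem F96975 : act 2 n21630 = n21630 := d23_1 D21630 (iv D21630) F76368
theorem F96976 : act 3 n21630 = n17443 := d29_1 D21630 F96968 F96964
theorem F96977 : act 5 n21630 = n16920 := d38_1 D21630 (iv D16920) (iv F76369)
theorem F96978 : act 7 n21630 = n16898 := d43_1 D21630 (iv D16898) (iv F76370)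
def n21631 : Q := act 6 n16899
theorem D21631 : act 6 n16899 = n21631 := rfl
theorem F96979 : act 0 n21631 = n16900 := d5_1 D21631 (iv D16900) D16899
theorem F96980 : act 1 n21631 = n21631 := d13_1 D21631 (iv D21631) F76376
theorem F96981 : act 3 n21631 = n21631 := d26_1 D21631 (iv D21631) F76377
theorem F96982 : act 8 n21631 = n21631 := d40_2 F76379 D21631 (iv D21631)
theorem F96983 : act 9 n21631 = n16908 := d41_2 (iv F76380) D21631 (iv D16908)
def n21632 : Q := act 5 n16900
theorem D21632 : act 5 n16900 = n21632 := rfl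
theorem F96984 : act 1 n21632 = n16901 := d12_1 D21632 (iv D16901) (iv F76381)
theorem F96985 : act 3 n21632 = n21632 := d25_1 D21632 (iv D21632) F76382
theorem F96986 : act 6 n21632 = n21632 := d35_2 D16900 D21632 (iv D21632) (iv D16900) F59909
theorem F96987 : act 9 n21632 = n16909 := d38_2 (iv F76384) D21632 (iv D16909)
def n21633 : Q := act 7 n16900
theorem D21633 : act 7 n16900 = n21633 := rfl
theorem F96988 : act 1 n21633 = n16902 := d14_1 D21633 (iv D16902) (iv F76381)
theorem F96989 : act 3 n21633 = n21633 := d27_1 D21633 (iv D21633) F76382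
theorem F96990 : act 8 n21633 = n21633 := d42_2 F76383 D21633 (iv D21633)
theorem F96991 : act 9 n21633 = n16910 := d43_2 (iv F76384) D21633 (iv D16910)
def n21634 : Q := act 7 n16901
theorem D21634 : act 7 n16901 = n21634 := rfl
theorem F96992 : act 0 n21634 = n21634 := d6_1 D21634 (iv D21634) F76385
theorem F96993 : act 2 n21634 = n16904 := d21_1 D21634 (iv D16904) (iv F76386)
theorem F96994 : act 3 n21634 = n21634 := d27_1 D21634 (iv D21634) F76387
theorem F96995 : act 5 n21634 = n16902 := d36_1 D21634 (iv D16902) D16901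
theorem F96996 : act 9 n21634 = n16912 := d43_2 (iv F76389) D21634 (iv D16912)
def n21635 : Q := act 7 n16903
theorem D21635 : act 7 n16903 = n21635 := rfl
theorem F96997 : act 0 n21635 = n21635 := d6_1 D21635 (iv D21635) F76395
theorem F96998 : act 3 n21635 = n17192 := d27_1 D21635 (iv D17192) (iv F76396)
theorem F96999 : act 4 n21635 = n16904 := d32_1 D21635 (iv D16904) D16903
theorem F97000 : act 9 n21635 = n16913 := d43_2 (iv F76398) D21635 (iv D16913)
def n21636 : Q := act 6 n16904
theorem D21636 : act 6 n16904 = n21636 := rfl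
theorem F97001 : act 0 n21636 = n21636 := d5_1 D21636 (iv D21636) F76399
theorem F97002 : act 3 n21636 = n16906 := d26_1 D21636 (iv D16906) (iv F76400)
theorem F97003 : act 7 n21636 = n21636 := d39_2 D16904 D21636 (iv D21636) (iv D16904) F59919
theorem F97004 : act 9 n21636 = n16914 := d41_2 (iv F76402) D21636 (iv D16914)
def n21637 : Q := act 8 n16904
theorem D21637 : act 8 n16904 = n21637 := rfl
theorem F97005 : act 0 n21637 = n21637 := d7_1 D21637 (iv D21637) F76399
theorem F97006 : act 3 n21637 = n16907 := d28_1 D21637 (iv D16907) (iv F76400)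
theorem F97007 : act 5 n21637 = n21637 := d37_1 D21637 (iv D21637) F76401 F59923 (iv F76401)
theorem F97008 : act 7 n21637 = n16905 := d42_1 D21637 (iv D16905) D16904
theorem F97009 : act 9 n21637 = n21637 := d44_2 (iv F76402) D21637 (iv D21637) F76402 F59959
def n21638 : Q := act 8 n16906
theorem D21638 : act 8 n16906 = n21638 := rfl
theorem F97010 : act 0 n21638 = n21638 := d7_1 D21638 (iv D21638) F76408
theorem F97011 : act 2 n21638 = n21638 := d22_1 D21638 (iv D21638) F76409
theorem F97012 : act 4 n21638 = n17195 := d33_1 D21638 (iv D17195) (iv F76410)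
theorem F97013 : act 6 n21638 = n16907 := d40_1 D21638 (iv D16907) D16906
theorem F97014 : act 7 n21638 = n21638 := d42_1 D21638 (iv D21638) F76411
theorem F97015 : act 9 n21638 = n21638 := d44_2 (iv F76412) D21638 (iv D21638) F76412 F59964
def n21639 : Q := act 5 n16908
theorem D21639 : act 5 n16908 = n21639 := rfl
theorem F97016 : act 0 n21639 = n16909 := d4_1 D21639 (iv D16909) (iv F76419)
theorem F97017 : act 1 n21639 = n21639 := d12_1 D21639 (iv D21639) F76420
theorem F97018 : act 3 n21639 = n21639 := d25_1 D21639 (iv D21639) F76421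
theorem F97019 : act 6 n21639 = n21639 := d35_2 D16908 D21639 (iv D21639) (iv D16908) F59938
theorem F97020 : act 8 n21639 = n21639 := d37_2 (iv F76422) D21639 (iv D21639) F76422 F60030
def n21640 : Q := act 7 n16908
theorem D21640 : act 7 n16908 = n21640 := rfl
theorem F97021 : act 0 n21640 = n16910 := d6_1 D21640 (iv D16910) (iv F76419)
theorem F97022 : act 1 n21640 = n21640 := d14_1 D21640 (iv D21640) F76420
theorem F97023 : act 3 n21640 = n21640 := d27_1 D21640 (iv D21640) F76421
theorem F97024 : act 8 n21640 = n16921 := d42_2 (iv F76422) D21640 (iv D16921)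
def n21641 : Q := act 4 n16909
theorem D21641 : act 4 n16909 = n21641 := rfl
theorem F97025 : act 1 n21641 = n16911 := d11_1 D21641 (iv D16911) (iv F76423)
theorem F97026 : act 6 n21641 = n21641 := d31_2 F76425 D21641 (iv D21641)
theorem F97027 : act 8 n21641 = n21641 := d33_2 F76426 D21641 (iv D21641)
def n21642 : Q := act 7 n16909
theorem D21642 : act 7 n16909 = n21642 := rfl
theorem F97028 : act 1 n21642 = n16912 := d14_1 D21642 (iv D16912) (iv F76423)
theorem F97029 : act 3 n21642 = n21642 := d27_1 D21642 (iv D21642) F76424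
theorem F97030 : act 5 n21642 = n16910 := d36_1 D21642 (iv D16910) D16909
theorem F97031 : act 8 n21642 = n21642 := d42_2 F76426 D21642 (iv D21642)
def n21643 : Q := act 7 n16911
theorem D21643 : act 7 n16911 = n21643 := rfl
theorem F97032 : act 0 n21643 = n21643 := d6_1 D21643 (iv D21643) F76430
theorem F97033 : act 2 n21643 = n16913 := d21_1 D21643 (iv D16913) (iv F76431)
theorem F97034 : act 4 n21643 = n16912 := d32_1 D21643 (iv D16912) D16911
theorem F97035 : act 8 n21643 = n21643 := d42_2 F76433 D21643 (iv D21643)
def n21644 : Q := act 6 n16912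
theorem D21644 : act 6 n16912 = n21644 := rfl
theorem F97036 : act 0 n21644 = n21644 := d5_1 D21644 (iv D21644) F76434
theorem F97037 : act 2 n21644 = n16914 := d20_1 D21644 (iv D16914) (iv F76435)
theorem F97038 : act 3 n21644 = n21644 := d26_1 D21644 (iv D21644) F76436
theorem F97039 : act 7 n21644 = n21644 := d39_2 D16912 D21644 (iv D21644) (iv D16912) F59946
theorem F97040 : act 8 n21644 = n21644 := d40_2 F76438 D21644 (iv D21644)
def n21645 : Q := act 6 n16913
theorem D21645 : act 6 n16913 = n21645 := rfl
theorem F97041 : act 0 n21645 = n21645 := d5_1 D21645 (iv D21645) F76439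
theorem F97042 : act 3 n21645 = n17202 := d26_1 D21645 (iv D17202) (iv F76440)
theorem F97043 : act 4 n21645 = n16914 := d31_1 D21645 (iv D16914) (iv F76441)
theorem F97044 : act 7 n21645 = n21645 := d39_2 D16913 D21645 (iv D21645) (iv D16913) F59954
theorem F97045 : act 8 n21645 = n21645 := d40_2 F76442 D21645 (iv D21645)
def n21646 : Q := act 7 n16915
theorem D21646 : act 7 n16915 = n21646 := rfl
theorem F97046 : act 0 n21646 = n16916 := d6_1 D21646 (iv D16916) (iv F76447)
theorem F97047 : act 1 n21646 = n21646 := d14_1 D21646 (iv D21646) F76448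
theorem F97048 : act 3 n21646 = n21646 := d27_1 D21646 (iv D21646) F76449
theorem F97049 : act 6 n21646 = n16921 := d39_1 D21646 (iv D16921) (iv D13134) (iv F59968) D16915
theorem F97050 : act 9 n21646 = n21646 := d43_2 F76450 D21646 (iv D21646)
def n21647 : Q := act 2 n16922
theorem D21647 : act 2 n16922 = n21647 := rfl
theorem F97054 : act 9 n21647 = n16925 := d23_2 (iv F76493) D21647 (iv D16925)
def n21648 : Q := act 6 n16922
theorem D21648 : act 6 n16922 = n21648 := rfl
theorem F97057 : act 3 n21648 = n16923 := d26_1 D21648 (iv D16923) D16922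
theorem F97060 : act 9 n21648 = n16926 := d41_2 (iv F76493) D21648 (iv D16926)
def n21649 : Q := act 5 n16923
theorem D21649 : act 5 n16923 = n21649 := rfl
theorem F97061 : act 0 n21649 = n16958 := d4_1 D21649 (iv D16958) (iv F76494)
theorem F97062 : act 1 n21649 = n21649 := d12_1 D21649 (iv D21649) F76495
theorem F97063 : act 9 n21649 = n16927 := d38_2 (iv F76498) D21649 (iv D16927)
def n21650 : Q := act 7 n16923
theorem D21650 : act 7 n16923 = n21650 := rfl
theorem F97064 : act 0 n21650 = n16959 := d6_1 D21650 (iv D16959) (iv F76494)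
theorem F97065 : act 1 n21650 = n21650 := d14_1 D21650 (iv D21650) F76495
theorem F97066 : act 4 n21650 = n16924 := d32_1 D21650 (iv D16924) (iv F76496)
theorem F97067 : act 8 n21650 = n17231 := d42_2 (iv F76497) D21650 (iv D17231)
theorem F97068 : act 9 n21650 = n16928 := d43_2 (iv F76498) D21650 (iv D16928)
def n21651 : Q := act 1 n16925
theorem D21651 : act 1 n16925 = n21651 := rfl
theorem F97071 : act 8 n21651 = n16933 := d15_2 (iv F76506) D21651 (iv D16933)
def n21653 : Q := act 5 n16926
theorem D21653 : act 5 n16926 = n21653 := rfl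
theorem F97078 : act 3 n21653 = n16927 := d25_1 D21653 (iv D16927) (iv F76509)
def n21654 : Q := act 7 n16926
theorem D21654 : act 7 n16926 = n21654 := rfl
theorem F97081 : act 3 n21654 = n16928 := d27_1 D21654 (iv D16928) (iv F76509)
theorem F97083 : act 8 n21654 = n16936 := d42_2 (iv F76511) D21654 (iv D16936)
def n21655 : Q := act 7 n16927
theorem D21655 : act 7 n16927 = n21655 := rfl
theorem F97084 : act 0 n21655 = n16964 := d6_1 D21655 (iv D16964) (iv F76512)
theorem F97085 : act 1 n21655 = n21655 := d14_1 D21655 (iv D21655) F76513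
theorem F97086 : act 5 n21655 = n16928 := d36_1 D21655 (iv D16928) D16927
def n21656 : Q := act 8 n16927
theorem D21656 : act 8 n16927 = n21656 := rfl
theorem F97089 : act 5 n21656 = n16938 := d37_1 D21656 (iv D16938) (iv D13147) (iv F60059) D16927
def n21657 : Q := act 1 n16929
theorem D21657 : act 1 n16929 = n21657 := rfl
theorem F97092 : act 5 n21657 = n17509 := d12_2 (iv F76520) D21657 (iv D17509)
theorem F97093 : act 7 n21657 = n16933 := d14_2 (iv F76521) D21657 (iv D16933)
def n21660 : Q := act 7 n16930
theorem D21660 : act 7 n16930 = n21660 := rfl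
theorem F97104 : act 0 n21660 = n16969 := d6_1 D21660 (iv D16969) (iv F76523)
theorem F97106 : act 3 n21660 = n16932 := d27_1 D21660 (iv D16932) (iv F76525)
def n21661 : Q := act 7 n16931
theorem D21661 : act 7 n16931 = n21661 := rfl
theorem F97113 : act 5 n21661 = n16932 := d36_1 D21661 (iv D16932) D16931
def n21662 : Q := act 8 n16931
theorem D21662 : act 8 n16931 = n21662 := rfl
def n21670 : Q := act 6 n16937
theorem D21670 : act 6 n16937 = n21670 := rfl
def n21671 : Q := act 8 n16937
theorem D21671 : act 8 n16937 = n21671 := rfl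
def n21685 : Q := act 1 n16948
theorem D21685 : act 1 n16948 = n21685 := rfl
theorem F97220 : act 2 n21685 = n16996 := d9_2 D16948 D21685 (iv D16996) (iv D13189) (iv F60126)
theorem F97222 : act 8 n21685 = n17537 := d15_2 (iv F76606) D21685 (iv D17537)
def n21686 : Q := act 6 n16948
theorem D21686 : act 6 n16948 = n21686 := rfl
def n21687 : Q := act 5 n16949
theorem D21687 : act 5 n16949 = n21687 := rfl
theorem F97225 : act 1 n21687 = n16998 := d12_1 D21687 (iv D16998) (iv F76607)
theorem F97226 : act 3 n21687 = n16950 := d25_1 D21687 (iv D16950) (iv F76608)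
theorem F97227 : act 6 n21687 = n16962 := d35_2 D16949 D21687 (iv D16962) (iv D13165) (iv F60127)
def n21688 : Q := act 7 n16949
theorem D21688 : act 7 n16949 = n21688 := rfl
theorem F97228 : act 1 n21688 = n16999 := d14_1 D21688 (iv D16999) (iv F76607)
theorem F97229 : act 3 n21688 = n16951 := d27_1 D21688 (iv D16951) (iv F76608)
def n21689 : Q := act 7 n16950
theorem D21689 : act 7 n16950 = n21689 := rfl
theorem F97231 : act 1 n21689 = n17000 := d14_1 D21689 (iv D17000) (iv F76610)
theorem F97232 : act 5 n21689 = n16951 := d36_1 D21689 (iv D16951) D16950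
def n21690 : Q := act 8 n16950
theorem D21690 : act 8 n16950 = n21690 := rfl
theorem F97233 : act 1 n21690 = n17001 := d15_1 D21690 (iv D17001) (iv F76610)
theorem F97235 : act 6 n21690 = n16965 := d40_1 D21690 (iv D16965) (iv F76611)
def n21691 : Q := act 1 n16952
theorem D21691 : act 1 n16952 = n21691 := rfl
theorem F97239 : act 8 n21691 = n16966 := d15_2 (iv F76617) D21691 (iv D16966)
def n21692 : Q := act 6 n16952
theorem D21692 : act 6 n16952 = n21692 := rfl
theorem F97242 : act 8 n21692 = n16967 := d40_2 (iv F76617) D21692 (iv D16967)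
def n21693 : Q := act 5 n16953
theorem D21693 : act 5 n16953 = n21693 := rfl
theorem F97244 : act 3 n21693 = n16954 := d25_1 D21693 (iv D16954) (iv F76619)
def n21694 : Q := act 7 n16953
theorem D21694 : act 7 n16953 = n21694 := rfl
theorem F97248 : act 6 n21694 = n16963 := d39_1 D21694 (iv D16963) (iv D13165) (iv F60136) D16953
def n21695 : Q := act 7 n16954
theorem D21695 : act 7 n16954 = n21695 := rfl
theorem F97250 : act 1 n21695 = n17014 := d14_1 D21695 (iv D17014) (iv F76622)
theorem F97251 : act 5 n21695 = n16955 := d36_1 D21695 (iv D16955) D16954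
def n21696 : Q := act 8 n16954
theorem D21696 : act 8 n16954 = n21696 := rfl
theorem F97253 : act 5 n21696 = n16971 := d37_1 D21696 (iv D16971) (iv D13170) (iv F60140) D16954
def n21698 : Q := act 6 n16956
theorem D21698 : act 6 n16956 = n21698 := rfl
theorem F97261 : act 9 n21698 = n16961 := d41_2 (iv F76629) D21698 (iv D16961)
def n21699 : Q := act 5 n16957
theorem D21699 : act 5 n16957 = n21699 := rfl
theorem F97262 : act 1 n21699 = n17018 := d12_1 D21699 (iv D17018) (iv F76630)
theorem F97263 : act 3 n21699 = n16958 := d25_1 D21699 (iv D16958) (iv F76631)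
theorem F97264 : act 9 n21699 = n16962 := d38_2 (iv F76634) D21699 (iv D16962)
def n21700 : Q := act 7 n16957
theorem D21700 : act 7 n16957 = n21700 := rfl
theorem F97265 : act 1 n21700 = n17019 := d14_1 D21700 (iv D17019) (iv F76630)
theorem F97266 : act 3 n21700 = n16959 := d27_1 D21700 (iv D16959) (iv F76631)
theorem F97269 : act 9 n21700 = n16963 := d43_2 (iv F76634) D21700 (iv D16963)
def n21701 : Q := act 7 n16958
theorem D21701 : act 7 n16958 = n21701 := rfl
theorem F97270 : act 1 n21701 = n17020 := d14_1 D21701 (iv D17020) (iv F76635)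
theorem F97271 : act 5 n21701 = n16959 := d36_1 D21701 (iv D16959) D16958
theorem F97272 : act 9 n21701 = n16964 := d43_2 (iv F76636) D21701 (iv D16964)
def n21702 : Q := act 8 n16958
theorem D21702 : act 8 n16958 = n21702 := rfl
theorem F97273 : act 1 n21702 = n17021 := d15_1 D21702 (iv D17021) (iv F76635)
theorem F97274 : act 5 n21702 = n17281 := d37_1 D21702 (iv D17281) (iv D13398) (iv F60151) D16958
def n21704 : Q := act 6 n16960
theorem D21704 : act 6 n16960 = n21704 := rfl
theorem F97278 : act 1 n21704 = n16961 := d13_1 D21704 (iv D16961) D16960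
theorem F97281 : act 8 n21704 = n16973 := d40_2 (iv F76643) D21704 (iv D16973)
def n21705 : Q := act 5 n16961
theorem D21705 : act 5 n16961 = n21705 := rfl
def n21706 : Q := act 7 n16961
theorem D21706 : act 7 n16961 = n21706 := rfl
theorem F97285 : act 8 n21706 = n16975 := d42_2 (iv F76646) D21706 (iv D16975)
def n21707 : Q := act 4 n16962
theorem D21707 : act 4 n16962 = n21707 := rfl
theorem F97286 : act 1 n21707 = n17026 := d11_1 D21707 (iv D17026) (iv F76647)
def n21708 : Q := act 7 n16962
theorem D21708 : act 7 n16962 = n21708 := rfl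
theorem F97288 : act 1 n21708 = n17027 := d14_1 D21708 (iv D17027) (iv F76647)
theorem F97289 : act 3 n21708 = n16964 := d27_1 D21708 (iv D16964) (iv F76648)
theorem F97290 : act 5 n21708 = n16963 := d36_1 D21708 (iv D16963) D16962
def n21710 : Q := act 6 n16964
theorem D21710 : act 6 n16964 = n21710 := rfl
theorem F97294 : act 1 n21710 = n17029 := d13_1 D21710 (iv D17029) (iv F76653)
def n21711 : Q := act 8 n16964
theorem D21711 : act 8 n16964 = n21711 := rfl
theorem F97295 : act 1 n21711 = n17030 := d15_1 D21711 (iv D17030) (iv F76653)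
theorem F97296 : act 5 n21711 = n16980 := d37_1 D21711 (iv D16980) F60200 (iv F60166) (iv F76654)
def n21712 : Q := act 9 n16965
theorem D21712 : act 9 n16965 = n21712 := rfl
theorem F97298 : act 1 n21712 = n17031 := d16_1 D21712 (iv D17031) (iv F76655)
def n21715 : Q := act 5 n16967
theorem D21715 : act 5 n16967 = n21715 := rfl
theorem F97310 : act 6 n21715 = n17561 := d35_2 D16967 D21715 (iv D17561) (iv D13617) (iv F60168)
theorem F97311 : act 9 n21715 = n17294 := d38_2 (iv F76664) D21715 (iv D17294)
def n21720 : Q := act 6 n16970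
theorem D21720 : act 6 n16970 = n21720 := rfl
theorem F97331 : act 7 n21720 = n17566 := d39_2 D16970 D21720 (iv D17566) (iv D13620) (iv F60177)
def n21721 : Q := act 8 n16970
theorem D21721 : act 8 n16970 = n21721 := rfl
def n21723 : Q := act 6 n16972
theorem D21723 : act 6 n16972 = n21723 := rfl
theorem F97340 : act 0 n21723 = n16973 := d5_1 D21723 (iv D16973) D16972
def n21724 : Q := act 5 n16973
theorem D21724 : act 5 n16973 = n21724 := rfl
theorem F97346 : act 6 n21724 = n17570 := d35_2 D16973 D21724 (iv D17570) (iv D13623) (iv F60185)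
def n21725 : Q := act 7 n16973
theorem D21725 : act 7 n16973 = n21725 := rfl
def n21735 : Q := act 9 n16980
theorem D21735 : act 9 n16980 = n21735 := rfl
theorem F97385 : act 1 n21735 = n17054 := d16_1 D21735 (iv D17054) (iv F76711)
def n21750 : Q := act 1 n16992
theorem D21750 : act 1 n16992 = n21750 := rfl
theorem F97443 : act 4 n21750 = n17156 := d11_2 (iv F76757) D21750 (iv D17156)
theorem F97444 : act 5 n21750 = n17010 := d12_2 (iv F76758) D21750 (iv D17010)
theorem F97445 : act 7 n21750 = n16996 := d14_2 (iv F76759) D21750 (iv D16996)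
theorem F97446 : act 8 n21750 = n17602 := d15_2 (iv F76760) D21750 (iv D17602)
theorem F97447 : act 9 n21750 = n17085 := d16_2 (iv F76761) D21750 (iv D17085)
def n21751 : Q := act 6 n16992
theorem D21751 : act 6 n16992 = n21751 := rfl
theorem F97450 : act 3 n21751 = n17064 := d26_1 D21751 (iv D17064) (iv F76756)
theorem F97451 : act 4 n21751 = n17157 := d31_1 D21751 (iv D17157) (iv F76757)
theorem F97452 : act 8 n21751 = n17603 := d40_2 (iv F76760) D21751 (iv D17603)
theorem F97453 : act 9 n21751 = n17086 := d41_2 (iv F76761) D21751 (iv D17086)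
def n21752 : Q := act 5 n16993
theorem D21752 : act 5 n16993 = n21752 := rfl
theorem F97454 : act 0 n21752 = n21752 := d4_1 D21752 (iv D21752) F76762
theorem F97455 : act 3 n21752 = n16994 := d25_1 D21752 (iv D16994) (iv F76763)
theorem F97456 : act 6 n21752 = n17012 := d35_2 D16993 D21752 (iv D17012) (iv D13200) (iv F60236)
theorem F97457 : act 9 n21752 = n17087 := d38_2 (iv F76766) D21752 (iv D17087)
def n21753 : Q := act 7 n16993
theorem D21753 : act 7 n16993 = n21753 := rfl
theorem F97458 : act 0 n21753 = n21753 := d6_1 D21753 (iv D21753) F76762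
theorem F97459 : act 3 n21753 = n16995 := d27_1 D21753 (iv D16995) (iv F76763)
theorem F97460 : act 4 n21753 = n17159 := d32_1 D21753 (iv D17159) (iv F76764)
theorem F97461 : act 6 n21753 = n16999 := d39_1 D21753 (iv D16999) (iv D13190) (iv F60237) D16993
theorem F97462 : act 8 n21753 = n17605 := d42_2 (iv F76765) D21753 (iv D17605)
theorem F97463 : act 9 n21753 = n17088 := d43_2 (iv F76766) D21753 (iv D17088)
def n21754 : Q := act 7 n16994
theorem D21754 : act 7 n16994 = n21754 := rfl
theorem F97464 : act 0 n21754 = n21754 := d6_1 D21754 (iv D21754) F76767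
theorem F97465 : act 2 n21754 = n17067 := d21_1 D21754 (iv D17067) (iv F76768)
theorem F97466 : act 4 n21754 = n17095 := d32_1 D21754 (iv D17095) (iv F76769)
theorem F97467 : act 5 n21754 = n16995 := d36_1 D21754 (iv D16995) D16994
theorem F97468 : act 9 n21754 = n17089 := d43_2 (iv F76771) D21754 (iv D17089)
def n21755 : Q := act 8 n16994
theorem D21755 : act 8 n16994 = n21755 := rfl
theorem F97469 : act 0 n21755 = n21755 := d7_1 D21755 (iv D21755) F76767
theorem F97471 : act 4 n21755 = n17096 := d33_1 D21755 (iv D17096) (iv F76769)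
theorem F97473 : act 6 n21755 = n17015 := d40_1 D21755 (iv D17015) (iv F76770)
def n21756 : Q := act 0 n16996
theorem D21756 : act 0 n16996 = n21756 := rfl
theorem F97475 : act 3 n21756 = n17075 := d2_2 (iv F76778) D21756 (iv D17075)
theorem F97477 : act 8 n21756 = n17608 := d7_2 (iv F76780) D21756 (iv D17608)
def n21757 : Q := act 6 n16996
theorem D21757 : act 6 n16996 = n21757 := rfl
theorem F97480 : act 8 n21757 = n17609 := d40_2 (iv F76780) D21757 (iv D17609)
def n21758 : Q := act 5 n16997
theorem D21758 : act 5 n16997 = n21758 := rfl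
theorem F97482 : act 2 n21758 = n16998 := d19_1 D21758 (iv D16998) (iv F76782)
theorem F97483 : act 3 n21758 = n17077 := d25_1 D21758 (iv D17077) (iv F76783)
def n21759 : Q := act 7 n16997
theorem D21759 : act 7 n16997 = n21759 := rfl
theorem F97485 : act 0 n21759 = n21759 := d6_1 D21759 (iv D21759) F76781
theorem F97486 : act 2 n21759 = n16999 := d21_1 D21759 (iv D16999) (iv F76782)
theorem F97487 : act 3 n21759 = n17078 := d27_1 D21759 (iv D17078) (iv F76783)
def n21760 : Q := act 4 n16998
theorem D21760 : act 4 n16998 = n21760 := rfl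
theorem F97489 : act 0 n21760 = n21760 := d3_1 D21760 (iv D21760) F76785
theorem F97490 : act 6 n21760 = n17026 := d31_2 (iv F76787) D21760 (iv D17026)
def n21761 : Q := act 7 n16998
theorem D21761 : act 7 n16998 = n21761 := rfl
theorem F97491 : act 0 n21761 = n21761 := d6_1 D21761 (iv D21761) F76785
theorem F97492 : act 3 n21761 = n17000 := d27_1 D21761 (iv D17000) (iv F76786)
theorem F97493 : act 5 n21761 = n16999 := d36_1 D21761 (iv D16999) D16998
def n21762 : Q := act 8 n16998
theorem D21762 : act 8 n16998 = n21762 := rfl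
theorem F97495 : act 3 n21762 = n17001 := d28_1 D21762 (iv D17001) (iv F76786)
theorem F97496 : act 5 n21762 = n17614 := d37_1 D21762 (iv D17614) (iv D13652) (iv F60258) D16998
def n21763 : Q := act 6 n17000
theorem D21763 : act 6 n17000 = n21763 := rfl
theorem F97498 : act 0 n21763 = n21763 := d5_1 D21763 (iv D21763) F76791
theorem F97499 : act 2 n21763 = n17082 := d20_1 D21763 (iv D17082) (iv F76792)
theorem F97500 : act 7 n21763 = n17029 := d39_2 D17000 D21763 (iv D17029) (iv D13211) (iv F60261)
def n21764 : Q := act 8 n17000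
theorem D21764 : act 8 n17000 = n21764 := rfl
theorem F97501 : act 0 n21764 = n21764 := d7_1 D21764 (iv D21764) F76791
theorem F97502 : act 2 n21764 = n17083 := d22_1 D21764 (iv D17083) (iv F76792)
theorem F97504 : act 7 n21764 = n17001 := d42_1 D21764 (iv D17001) D17000
def n21765 : Q := act 9 n17001
theorem D21765 : act 9 n17001 = n21765 := rfl
theorem F97505 : act 0 n21765 = n21765 := d8_1 D21765 (iv D21765) F76794
theorem F97506 : act 2 n21765 = n17084 := d23_1 D21765 (iv D17084) (iv F76795)
theorem F97508 : act 6 n21765 = n17031 := d41_1 D21765 (iv D17031) (iv F76797)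
def n21768 : Q := act 5 n17003
theorem D21768 : act 5 n17003 = n21768 := rfl
theorem F97522 : act 3 n21768 = n17004 := d25_1 D21768 (iv D17004) (iv F76806)
def n21769 : Q := act 7 n17003
theorem D21769 : act 7 n17003 = n21769 := rfl
theorem F97525 : act 0 n21769 = n21769 := d6_1 D21769 (iv D21769) F76805
theorem F97526 : act 3 n21769 = n17005 := d27_1 D21769 (iv D17005) (iv F76806)
theorem F97527 : act 4 n21769 = n21769 := d32_1 D21769 (iv D21769) F76807
theorem F97528 : act 6 n21769 = n17072 := d39_1 D21769 (iv D17072) (iv D13241) (iv F60269) D17003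
theorem F97529 : act 8 n21769 = n21769 := d42_2 F76808 D21769 (iv D21769)
theorem F97530 : act 9 n21769 = n17066 := d43_2 (iv F76809) D21769 (iv D17066)
def n21770 : Q := act 7 n17004
theorem D21770 : act 7 n17004 = n21770 := rfl
theorem F97531 : act 0 n21770 = n21770 := d6_1 D21770 (iv D21770) F76810
theorem F97532 : act 2 n21770 = n17089 := d21_1 D21770 (iv D17089) (iv F76811)
theorem F97533 : act 4 n21770 = n17014 := d32_1 D21770 (iv D17014) (iv F76812)
theorem F97534 : act 5 n21770 = n17005 := d36_1 D21770 (iv D17005) D17004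
theorem F97535 : act 9 n21770 = n17067 := d43_2 (iv F76814) D21770 (iv D17067)
def n21771 : Q := act 8 n17004
theorem D21771 : act 8 n17004 = n21771 := rfl
theorem F97536 : act 0 n21771 = n21771 := d7_1 D21771 (iv D21771) F76810
theorem F97538 : act 4 n21771 = n17015 := d33_1 D21771 (iv D17015) (iv F76812)
theorem F97539 : act 5 n21771 = n21771 := d37_1 D21771 (iv D21771) (iv D17004) F60275 D17004
theorem F97540 : act 6 n21771 = n17096 := d40_1 D21771 (iv D17096) (iv F76813)
def n21773 : Q := act 6 n17006
theorem D21773 : act 6 n17006 = n21773 := rfl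
theorem F97548 : act 2 n21773 = n17007 := d20_1 D21773 (iv D17007) D17006
theorem F97552 : act 9 n21773 = n17011 := d41_2 (iv F76827) D21773 (iv D17011)
def n21774 : Q := act 5 n17007
theorem D21774 : act 5 n17007 = n21774 := rfl
theorem F97553 : act 0 n21774 = n21774 := d4_1 D21774 (iv D21774) F76828
theorem F97554 : act 3 n21774 = n17008 := d25_1 D21774 (iv D17008) (iv F76829)
theorem F97555 : act 6 n21774 = n17087 := d35_2 D17007 D21774 (iv D17087) (iv D13251) (iv F60286)
theorem F97556 : act 9 n21774 = n17012 := d38_2 (iv F76832) D21774 (iv D17012)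
def n21775 : Q := act 7 n17007
theorem D21775 : act 7 n17007 = n21775 := rfl
theorem F97557 : act 0 n21775 = n21775 := d6_1 D21775 (iv D21775) F76828
theorem F97558 : act 3 n21775 = n17009 := d27_1 D21775 (iv D17009) (iv F76829)
theorem F97559 : act 4 n21775 = n21775 := d32_1 D21775 (iv D21775) F76830
theorem F97560 : act 6 n21775 = n17019 := d39_1 D21775 (iv D17019) (iv D13204) (iv F60287) D17007
theorem F97561 : act 8 n21775 = n17332 := d42_2 (iv F76831) D21775 (iv D17332)
theorem F97562 : act 9 n21775 = n17013 := d43_2 (iv F76832) D21775 (iv D17013)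
def n21776 : Q := act 7 n17008
theorem D21776 : act 7 n17008 = n21776 := rfl
theorem F97563 : act 0 n21776 = n21776 := d6_1 D21776 (iv D21776) F76833
theorem F97564 : act 2 n21776 = n17095 := d21_1 D21776 (iv D17095) (iv F76834)
theorem F97565 : act 4 n21776 = n17067 := d32_1 D21776 (iv D17067) (iv F76835)
theorem F97566 : act 5 n21776 = n17009 := d36_1 D21776 (iv D17009) D17008
theorem F97567 : act 9 n21776 = n17014 := d43_2 (iv F76837) D21776 (iv D17014)
def n21777 : Q := act 8 n17008
theorem D21777 : act 8 n17008 = n21777 := rfl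
theorem F97571 : act 5 n21777 = n17334 := d37_1 D21777 (iv D17334) (iv D13434) (iv F60293) D17008
def n21778 : Q := act 0 n17010
theorem D21778 : act 0 n17010 = n21778 := rfl
theorem F97576 : act 7 n21778 = n17022 := d6_2 (iv F76846) D21778 (iv D17022)
theorem F97577 : act 8 n21778 = n17032 := d7_2 (iv F76847) D21778 (iv D17032)
def n21780 : Q := act 5 n17011
theorem D21780 : act 5 n17011 = n21780 := rfl
def n21781 : Q := act 7 n17011
theorem D21781 : act 7 n17011 = n21781 := rfl
theorem F97590 : act 8 n21781 = n17035 := d42_2 (iv F76852) D21781 (iv D17035)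
def n21782 : Q := act 4 n17012
theorem D21782 : act 4 n17012 = n21782 := rfl
theorem F97591 : act 0 n21782 = n21782 := d3_1 D21782 (iv D21782) F76853
theorem F97592 : act 5 n21782 = n21782 := d30_2 D17012 D21782 (iv D21782) (iv D17012) F60309
def n21783 : Q := act 7 n17012
theorem D21783 : act 7 n17012 = n21783 := rfl
theorem F97593 : act 0 n21783 = n21783 := d6_1 D21783 (iv D21783) F76853
theorem F97594 : act 3 n21783 = n17014 := d27_1 D21783 (iv D17014) (iv F76854)
theorem F97595 : act 5 n21783 = n17013 := d36_1 D21783 (iv D17013) D17012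
def n21785 : Q := act 6 n17014
theorem D21785 : act 6 n17014 = n21785 := rfl
theorem F97599 : act 0 n21785 = n21785 := d5_1 D21785 (iv D21785) F76860
theorem F97600 : act 2 n21785 = n17104 := d20_1 D21785 (iv D17104) (iv F76861)
theorem F97601 : act 5 n21785 = n17029 := d35_1 D21785 (iv D17029) F60352 (iv F60316) (iv F76862)
def n21786 : Q := act 8 n17014
theorem D21786 : act 8 n17014 = n21786 := rfl
theorem F97602 : act 0 n21786 = n21786 := d7_1 D21786 (iv D21786) F76860
theorem F97605 : act 7 n21786 = n17015 := d42_1 D21786 (iv D17015) D17014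
def n21787 : Q := act 9 n17015
theorem D21787 : act 9 n17015 = n21787 := rfl
theorem F97606 : act 0 n21787 = n21787 := d8_1 D21787 (iv D21787) F76863
def n21790 : Q := act 5 n17017
theorem D21790 : act 5 n17017 = n21790 := rfl
theorem F97620 : act 2 n21790 = n17018 := d19_1 D21790 (iv D17018) (iv F76871)
theorem F97621 : act 3 n21790 = n17109 := d25_1 D21790 (iv D17109) (iv F76872)
theorem F97622 : act 9 n21790 = n17024 := d38_2 (iv F76875) D21790 (iv D17024)
def n21791 : Q := act 7 n17017
theorem D21791 : act 7 n17017 = n21791 := rfl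
theorem F97623 : act 0 n21791 = n21791 := d6_1 D21791 (iv D21791) F76870
theorem F97624 : act 2 n21791 = n17019 := d21_1 D21791 (iv D17019) (iv F76871)
theorem F97625 : act 3 n21791 = n17110 := d27_1 D21791 (iv D17110) (iv F76872)
theorem F97626 : act 4 n21791 = n21791 := d32_1 D21791 (iv D21791) F76873
theorem F97627 : act 8 n21791 = n17348 := d42_2 (iv F76874) D21791 (iv D17348)
theorem F97628 : act 9 n21791 = n17025 := d43_2 (iv F76875) D21791 (iv D17025)
def n21792 : Q := act 4 n17018
theorem D21792 : act 4 n17018 = n21792 := rfl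
theorem F97629 : act 0 n21792 = n21792 := d3_1 D21792 (iv D21792) F76876
theorem F97630 : act 5 n21792 = n21792 := d30_2 D17018 D21792 (iv D21792) (iv D17018) F60325
theorem F97631 : act 9 n21792 = n17026 := d34_2 (iv F76878) D21792 (iv D17026)
def n21793 : Q := act 7 n17018
theorem D21793 : act 7 n17018 = n21793 := rfl
theorem F97632 : act 0 n21793 = n21793 := d6_1 D21793 (iv D21793) F76876
theorem F97633 : act 3 n21793 = n17020 := d27_1 D21793 (iv D17020) (iv F76877)
theorem F97634 : act 5 n21793 = n17019 := d36_1 D21793 (iv D17019) D17018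
theorem F97635 : act 9 n21793 = n17027 := d43_2 (iv F76878) D21793 (iv D17027)
def n21794 : Q := act 8 n17018
theorem D21794 : act 8 n17018 = n21794 := rfl
theorem F97636 : act 0 n21794 = n21794 := d7_1 D21794 (iv D21794) F76876
theorem F97637 : act 3 n21794 = n17021 := d28_1 D21794 (iv D17021) (iv F76877)
theorem F97638 : act 5 n21794 = n17351 := d37_1 D21794 (iv D17351) (iv D13444) (iv F60326) D17018
def n21795 : Q := act 6 n17020
theorem D21795 : act 6 n17020 = n21795 := rfl
theorem F97639 : act 0 n21795 = n21795 := d5_1 D21795 (iv D21795) F76884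
theorem F97640 : act 2 n21795 = n17114 := d20_1 D21795 (iv D17114) (iv F76885)
theorem F97641 : act 9 n21795 = n17029 := d41_2 (iv F76887) D21795 (iv D17029)
def n21796 : Q := act 8 n17020
theorem D21796 : act 8 n17020 = n21796 := rfl
theorem F97642 : act 0 n21796 = n21796 := d7_1 D21796 (iv D21796) F76884
theorem F97643 : act 2 n21796 = n17115 := d22_1 D21796 (iv D17115) (iv F76885)
theorem F97644 : act 5 n21796 = n17353 := d37_1 D21796 (iv D17353) F61283 (iv F60334) (iv F76886)
theorem F97645 : act 7 n21796 = n17021 := d42_1 D21796 (iv D17021) D17020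
def n21797 : Q := act 9 n17021
theorem D21797 : act 9 n17021 = n21797 := rfl
theorem F97646 : act 0 n21797 = n21797 := d8_1 D21797 (iv D21797) F76888
theorem F97647 : act 2 n21797 = n17116 := d23_1 D21797 (iv D17116) (iv F76889)
theorem F97648 : act 5 n21797 = n17354 := d38_1 D21797 (iv D17354) (iv F76890)
theorem F97649 : act 8 n21797 = n17031 := d44_1 D21797 (iv D17031) (iv D13212) (iv F60330) D17021
def n21801 : Q := act 4 n17024
theorem D21801 : act 4 n17024 = n21801 := rfl
theorem F97662 : act 2 n21801 = n17026 := d18_1 D21801 (iv D17026) (iv F76900)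
def n21802 : Q := act 7 n17024
theorem D21802 : act 7 n17024 = n21802 := rfl
theorem F97665 : act 2 n21802 = n17027 := d21_1 D21802 (iv D17027) (iv F76900)
theorem F97666 : act 3 n21802 = n17121 := d27_1 D21802 (iv D17121) (iv F76901)
theorem F97667 : act 5 n21802 = n17025 := d36_1 D21802 (iv D17025) D17024
def n21803 : Q := act 8 n17024
theorem D21803 : act 8 n17024 = n21803 := rfl
theorem F97671 : act 5 n21803 = n17047 := d37_1 D21803 (iv D17047) (iv D13221) (iv F60343) D17024
def n21804 : Q := act 7 n17026
theorem D21804 : act 7 n17026 = n21804 := rfl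
theorem F97672 : act 0 n21804 = n21804 := d6_1 D21804 (iv D21804) F76907
theorem F97673 : act 4 n21804 = n17027 := d32_1 D21804 (iv D17027) D17026
theorem F97674 : act 5 n21804 = n21804 := d36_1 D21804 (iv D21804) F76908
def n21805 : Q := act 8 n17026
theorem D21805 : act 8 n17026 = n21805 := rfl
theorem F97676 : act 4 n21805 = n17028 := d33_1 D21805 (iv D17028) D17026
def n21806 : Q := act 6 n17027
theorem D21806 : act 6 n17027 = n21806 := rfl
theorem F97677 : act 0 n21806 = n21806 := d5_1 D21806 (iv D21806) F76909
theorem F97678 : act 3 n21806 = n17029 := d26_1 D21806 (iv D17029) (iv F76910)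
def n21807 : Q := act 8 n17027
theorem D21807 : act 8 n17027 = n21807 := rfl
theorem F97680 : act 3 n21807 = n17030 := d28_1 D21807 (iv D17030) (iv F76910)
theorem F97682 : act 7 n21807 = n17028 := d42_1 D21807 (iv D17028) D17027
def n21808 : Q := act 9 n17028
theorem D21808 : act 9 n17028 = n21808 := rfl
theorem F97684 : act 3 n21808 = n17031 := d29_1 D21808 (iv D17031) (iv F76913)
def n21809 : Q := act 8 n17029
theorem D21809 : act 8 n17029 = n21809 := rfl
theorem F97686 : act 0 n21809 = n21809 := d7_1 D21809 (iv D21809) F76915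
theorem F97687 : act 2 n21809 = n17128 := d22_1 D21809 (iv D17128) (iv F76916)
theorem F97688 : act 6 n21809 = n17030 := d40_1 D21809 (iv D17030) D17029
def n21810 : Q := act 9 n17030
theorem D21810 : act 9 n17030 = n21810 := rfl
theorem F97689 : act 0 n21810 = n21810 := d8_1 D21810 (iv D21810) F76917
theorem F97690 : act 2 n21810 = n17129 := d23_1 D21810 (iv D17129) (iv F76918)
theorem F97691 : act 5 n21810 = n17054 := d38_1 D21810 (iv D17054) (iv F76919)
theorem F97692 : act 7 n21810 = n17031 := d43_1 D21810 (iv D17031) (iv F76920)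
def n21811 : Q := act 6 n17032
theorem D21811 : act 6 n17032 = n21811 := rfl
theorem F97693 : act 0 n21811 = n17033 := d5_1 D21811 (iv D17033) D17032
theorem F97697 : act 9 n21811 = n17368 := d41_2 (iv F76929) D21811 (iv D17368)
def n21812 : Q := act 5 n17033
theorem D21812 : act 5 n17033 = n21812 := rfl
theorem F97700 : act 6 n21812 = n17643 := d35_2 D17033 D21812 (iv D17643) (iv D13675) (iv F60358)
def n21814 : Q := act 4 n17034
theorem D21814 : act 4 n17034 = n21814 := rfl
theorem F97708 : act 2 n21814 = n17036 := d18_1 D21814 (iv D17036) (iv F76935)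
theorem F97710 : act 6 n21814 = n17645 := d31_2 (iv F76937) D21814 (iv D17645)
def n21815 : Q := act 7 n17034
theorem D21815 : act 7 n17034 = n21815 := rfl
theorem F97715 : act 5 n21815 = n17035 := d36_1 D21815 (iv D17035) D17034
def n21816 : Q := act 8 n17034
theorem D21816 : act 8 n17034 = n21816 := rfl
theorem F97718 : act 2 n21816 = n17038 := d22_1 D21816 (iv D17038) (iv F76935)
theorem F97720 : act 6 n21816 = n17647 := d40_1 D21816 (iv D17647) (iv F76937)
def n21817 : Q := act 7 n17036
theorem D21817 : act 7 n17036 = n21817 := rfl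
def n21818 : Q := act 8 n17036
theorem D21818 : act 8 n17036 = n21818 := rfl
theorem F97729 : act 6 n21818 = n17649 := d40_1 D21818 (iv D17649) (iv F76948)
def n21824 : Q := act 5 n17042
theorem D21824 : act 5 n17042 = n21824 := rfl
theorem F97756 : act 9 n21824 = n17381 := d38_2 (iv F76976) D21824 (iv D17381)
def n21825 : Q := act 7 n17042
theorem D21825 : act 7 n17042 = n21825 := rfl
theorem F97761 : act 9 n21825 = n17382 := d43_2 (iv F76976) D21825 (iv D17382)
def n21826 : Q := act 4 n17043
theorem D21826 : act 4 n17043 = n21826 := rfl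
theorem F97765 : act 6 n21826 = n17657 := d31_2 (iv F76979) D21826 (iv D17657)
def n21828 : Q := act 8 n17043
theorem D21828 : act 8 n17043 = n21828 := rfl
theorem F97773 : act 6 n21828 = n17659 := d40_1 D21828 (iv D17659) (iv F76979)
def n21830 : Q := act 8 n17045
theorem D21830 : act 8 n17045 = n21830 := rfl
theorem F97783 : act 4 n21830 = n17047 := d33_1 D21830 (iv D17047) D17045
theorem F97784 : act 6 n21830 = n17661 := d40_1 D21830 (iv D17661) (iv F76989)
def n21831 : Q := act 6 n17046
theorem D21831 : act 6 n17046 = n21831 := rfl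
theorem F97788 : act 7 n21831 = n17662 := d39_2 D17046 D21831 (iv D17662) (iv D13688) (iv F60396)
def n21833 : Q := act 9 n17047
theorem D21833 : act 9 n17047 = n21833 := rfl
theorem F97797 : act 6 n21833 = n17664 := d41_1 D21833 (iv D17664) (iv F76999)
theorem F97798 : act 8 n21833 = n17390 := d44_1 D21833 (iv D17390) (iv D13473) (iv F60397) D17047
def n21836 : Q := act 5 n17049
theorem D21836 : act 5 n17049 = n21836 := rfl
theorem F97809 : act 3 n21836 = n17057 := d25_1 D21836 (iv D17057) (iv F77006)
def n21839 : Q := act 9 n17051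
theorem D21839 : act 9 n17051 = n21839 := rfl
theorem F97821 : act 3 n21839 = n17054 := d29_1 D21839 (iv D17054) (iv F77014)
def n21840 : Q := act 5 n17053
theorem D21840 : act 5 n17053 = n21840 := rfl
def n21841 : Q := act 9 n17053
theorem D21841 : act 9 n17053 = n21841 := rfl
theorem F97830 : act 6 n21841 = n17054 := d41_1 D21841 (iv D17054) (iv F77023)
def n21846 : Q := act 6 n17057
theorem D21846 : act 6 n17057 = n21846 := rfl
def n21850 : Q := act 4 n17061
theorem D21850 : act 4 n17061 = n21850 := rfl
theorem F97872 : act 2 n21850 = n17154 := d18_1 D21850 (iv D17154) (iv F77058)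
def n21851 : Q := act 9 n17061
theorem D21851 : act 9 n17061 = n21851 := rfl
theorem F97876 : act 2 n21851 = n17155 := d23_1 D21851 (iv D17155) (iv F77058)
def n21855 : Q := act 7 n17064
theorem D21855 : act 7 n17064 = n21855 := rfl
theorem F97891 : act 2 n21855 = n17066 := d21_1 D21855 (iv D17066) (iv F77071)
theorem F97893 : act 6 n21855 = n17078 := d39_1 D21855 (iv D17078) (iv D13245) (iv F60464) D17064
def n21857 : Q := act 7 n17065
theorem D21857 : act 7 n17065 = n21857 := rfl
theorem F97899 : act 3 n21857 = n17067 := d27_1 D21857 (iv D17067) (iv F77075)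
theorem F97900 : act 5 n21857 = n17066 := d36_1 D21857 (iv D17066) D17065
def n21859 : Q := act 6 n17067
theorem D21859 : act 6 n17067 = n21859 := rfl
theorem F97905 : act 0 n21859 = n21859 := d5_1 D21859 (iv D21859) F77082
theorem F97906 : act 5 n21859 = n17082 := d35_1 D21859 (iv D17082) F60508 (iv F60474) (iv F77083)
theorem F97907 : act 7 n21859 = n17104 := d39_2 D17067 D21859 (iv D17104) (iv D13262) (iv F60471)
def n21860 : Q := act 8 n17067
theorem D21860 : act 8 n17067 = n21860 := rfl
theorem F97910 : act 7 n21860 = n17068 := d42_1 D21860 (iv D17068) D17067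
def n21862 : Q := act 0 n17069
theorem D21862 : act 0 n17069 = n21862 := rfl
theorem F97918 : act 9 n21862 = n17075 := d8_2 (iv F77090) D21862 (iv D17075)
def n21864 : Q := act 5 n17070
theorem D21864 : act 5 n17070 = n21864 := rfl
theorem F97923 : act 0 n21864 = n21864 := d4_1 D21864 (iv D21864) F77091
theorem F97924 : act 2 n21864 = n17071 := d19_1 D21864 (iv D17071) (iv F77092)
theorem F97925 : act 6 n21864 = n17109 := d35_2 D17070 D21864 (iv D17109) (iv D13265) (iv F60478)
theorem F97926 : act 9 n21864 = n17077 := d38_2 (iv F77095) D21864 (iv D17077)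
def n21865 : Q := act 7 n17070
theorem D21865 : act 7 n17070 = n21865 := rfl
theorem F97927 : act 0 n21865 = n21865 := d6_1 D21865 (iv D21865) F77091
theorem F97928 : act 2 n21865 = n17072 := d21_1 D21865 (iv D17072) (iv F77092)
theorem F97929 : act 4 n21865 = n21865 := d32_1 D21865 (iv D21865) F77093
theorem F97930 : act 8 n21865 = n21865 := d42_2 F77094 D21865 (iv D21865)
theorem F97931 : act 9 n21865 = n17078 := d43_2 (iv F77095) D21865 (iv D17078)
def n21866 : Q := act 4 n17071
theorem D21866 : act 4 n17071 = n21866 := rfl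
theorem F97932 : act 0 n21866 = n21866 := d3_1 D21866 (iv D21866) F77096
theorem F97933 : act 5 n21866 = n21866 := d30_2 D17071 D21866 (iv D21866) (iv D17071) F60483
theorem F97934 : act 6 n21866 = n17111 := d31_2 (iv F77098) D21866 (iv D17111)
theorem F97935 : act 9 n21866 = n17079 := d34_2 (iv F77099) D21866 (iv D17079)
def n21867 : Q := act 7 n17071
theorem D21867 : act 7 n17071 = n21867 := rfl
theorem F97936 : act 0 n21867 = n21867 := d6_1 D21867 (iv D21867) F77096
theorem F97937 : act 3 n21867 = n17073 := d27_1 D21867 (iv D17073) (iv F77097)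
theorem F97938 : act 5 n21867 = n17072 := d36_1 D21867 (iv D17072) D17071
theorem F97939 : act 9 n21867 = n17080 := d43_2 (iv F77099) D21867 (iv D17080)
def n21868 : Q := act 8 n17071
theorem D21868 : act 8 n17071 = n21868 := rfl
theorem F97940 : act 0 n21868 = n21868 := d7_1 D21868 (iv D21868) F77096
theorem F97941 : act 3 n21868 = n17074 := d28_1 D21868 (iv D17074) (iv F77097)
theorem F97942 : act 5 n21868 = n21868 := d37_1 D21868 (iv D21868) (iv D17071) F60484 D17071
theorem F97943 : act 6 n21868 = n17113 := d40_1 D21868 (iv D17113) (iv F77098)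
def n21869 : Q := act 6 n17073
theorem D21869 : act 6 n17073 = n21869 := rfl
theorem F97944 : act 0 n21869 = n21869 := d5_1 D21869 (iv D21869) F77105
theorem F97945 : act 7 n21869 = n17114 := d39_2 D17073 D21869 (iv D17114) (iv D13268) (iv F60487)
theorem F97946 : act 9 n21869 = n17082 := d41_2 (iv F77107) D21869 (iv D17082)
def n21870 : Q := act 8 n17073
theorem D21870 : act 8 n17073 = n21870 := rfl
theorem F97947 : act 0 n21870 = n21870 := d7_1 D21870 (iv D21870) F77105
theorem F97948 : act 5 n21870 = n21870 := d37_1 D21870 (iv D21870) F77106 F60491 (iv F77106)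
theorem F97949 : act 7 n21870 = n17074 := d42_1 D21870 (iv D17074) D17073
def n21871 : Q := act 9 n17074
theorem D21871 : act 9 n17074 = n21871 := rfl
theorem F97950 : act 0 n21871 = n21871 := d8_1 D21871 (iv D21871) F77108
theorem F97951 : act 5 n21871 = n21871 := d38_1 D21871 (iv D21871) F77109
theorem F97952 : act 6 n21871 = n17116 := d41_1 D21871 (iv D17116) (iv F77110)
theorem F97953 : act 8 n21871 = n17084 := d44_1 D21871 (iv D17084) (iv D13249) (iv F60488) D17074
def n21872 : Q := act 6 n17075
theorem D21872 : act 6 n17075 = n21872 := rfl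
theorem F97957 : act 8 n21872 = n17697 := d40_2 (iv F77114) D21872 (iv D17697)
def n21873 : Q := act 5 n17076
theorem D21873 : act 5 n17076 = n21873 := rfl
theorem F97958 : act 1 n21873 = n17077 := d12_1 D21873 (iv D17077) (iv F77115)
def n21875 : Q := act 4 n17077
theorem D21875 : act 4 n17077 = n21875 := rfl
theorem F97963 : act 0 n21875 = n21875 := d3_1 D21875 (iv D21875) F77118
theorem F97964 : act 2 n21875 = n17079 := d18_1 D21875 (iv D17079) (iv F77119)
theorem F97965 : act 5 n21875 = n21875 := d30_2 D17077 D21875 (iv D21875) (iv D17077) F60498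
theorem F97966 : act 6 n21875 = n17120 := d31_2 (iv F77120) D21875 (iv D17120)
def n21876 : Q := act 7 n17077
theorem D21876 : act 7 n17077 = n21876 := rfl
theorem F97967 : act 0 n21876 = n21876 := d6_1 D21876 (iv D21876) F77118
theorem F97968 : act 2 n21876 = n17080 := d21_1 D21876 (iv D17080) (iv F77119)
theorem F97969 : act 5 n21876 = n17078 := d36_1 D21876 (iv D17078) D17077
def n21877 : Q := act 8 n17077
theorem D21877 : act 8 n17077 = n21877 := rfl
theorem F97971 : act 2 n21877 = n17081 := d22_1 D21877 (iv D17081) (iv F77119)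
theorem F97972 : act 5 n21877 = n17702 := d37_1 D21877 (iv D17702) (iv D13716) (iv F60499) D17077
def n21878 : Q := act 7 n17079
theorem D21878 : act 7 n17079 = n21878 := rfl
theorem F97974 : act 0 n21878 = n21878 := d6_1 D21878 (iv D21878) F77125
theorem F97975 : act 4 n21878 = n17080 := d32_1 D21878 (iv D17080) D17079
theorem F97976 : act 5 n21878 = n21878 := d36_1 D21878 (iv D21878) F77126
def n21879 : Q := act 8 n17079
theorem D21879 : act 8 n17079 = n21879 := rfl
theorem F97977 : act 0 n21879 = n21879 := d7_1 D21879 (iv D21879) F77125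
theorem F97978 : act 4 n21879 = n17081 := d33_1 D21879 (iv D17081) D17079
theorem F97979 : act 6 n21879 = n17124 := d40_1 D21879 (iv D17124) (iv F77127)
def n21880 : Q := act 6 n17080
theorem D21880 : act 6 n17080 = n21880 := rfl
theorem F97980 : act 0 n21880 = n21880 := d5_1 D21880 (iv D21880) F77128
theorem F97981 : act 3 n21880 = n17082 := d26_1 D21880 (iv D17082) (iv F77129)
theorem F97982 : act 7 n21880 = n17125 := d39_2 D17080 D21880 (iv D17125) (iv D13275) (iv F60502)
def n21881 : Q := act 8 n17080
theorem D21881 : act 8 n17080 = n21881 := rfl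
theorem F97983 : act 0 n21881 = n21881 := d7_1 D21881 (iv D21881) F77128
theorem F97984 : act 3 n21881 = n17083 := d28_1 D21881 (iv D17083) (iv F77129)
theorem F97985 : act 5 n21881 = n17706 := d37_1 D21881 (iv D17706) F62380 (iv F60506) (iv F77130)
theorem F97986 : act 7 n21881 = n17081 := d42_1 D21881 (iv D17081) D17080
def n21882 : Q := act 9 n17081
theorem D21882 : act 9 n17081 = n21882 := rfl
theorem F97987 : act 0 n21882 = n21882 := d8_1 D21882 (iv D21882) F77131
theorem F97988 : act 3 n21882 = n17084 := d29_1 D21882 (iv D17084) (iv F77132)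
theorem F97990 : act 6 n21882 = n17127 := d41_1 D21882 (iv D17127) (iv F77134)
def n21883 : Q := act 8 n17082
theorem D21883 : act 8 n17082 = n21883 := rfl
theorem F97991 : act 0 n21883 = n21883 := d7_1 D21883 (iv D21883) F77135
theorem F97992 : act 6 n21883 = n17083 := d40_1 D21883 (iv D17083) D17082
theorem F97993 : act 7 n21883 = n17128 := d42_1 D21883 (iv D17128) (iv F77136)
def n21884 : Q := act 9 n17083
theorem D21884 : act 9 n17083 = n21884 := rfl
theorem F97994 : act 0 n21884 = n21884 := d8_1 D21884 (iv D21884) F77137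
theorem F97995 : act 5 n21884 = n17709 := d38_1 D21884 (iv D17709) (iv F77138)
theorem F97996 : act 7 n21884 = n17084 := d43_1 D21884 (iv D17084) (iv F77139)
def n21885 : Q := act 0 n17085
theorem D21885 : act 0 n17085 = n21885 := rfl
theorem F97998 : act 4 n21885 = n17161 := d3_2 (iv F77143) D21885 (iv D17161)
def n21886 : Q := act 6 n17085
theorem D21886 : act 6 n17085 = n21886 := rfl
theorem F98001 : act 4 n21886 = n17162 := d31_1 D21886 (iv D17162) (iv F77143)
def n21887 : Q := act 5 n17086
theorem D21887 : act 5 n17086 = n21887 := rfl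
theorem F98004 : act 2 n21887 = n17087 := d19_1 D21887 (iv D17087) (iv F77146)
def n21888 : Q := act 7 n17086
theorem D21888 : act 7 n17086 = n21888 := rfl
theorem F98005 : act 0 n21888 = n21888 := d6_1 D21888 (iv D21888) F77145
theorem F98006 : act 2 n21888 = n17088 := d21_1 D21888 (iv D17088) (iv F77146)
theorem F98007 : act 4 n21888 = n17164 := d32_1 D21888 (iv D17164) (iv F77147)
theorem F98008 : act 8 n21888 = n21888 := d42_2 F77148 D21888 (iv D21888)
def n21889 : Q := act 4 n17087
theorem D21889 : act 4 n17087 = n21889 := rfl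
theorem F98010 : act 3 n21889 = n17101 := d24_1 D21889 (iv D17101) F60549 (iv F60520) (iv F77150)
def n21890 : Q := act 7 n17087
theorem D21890 : act 7 n17087 = n21890 := rfl
theorem F98012 : act 0 n21890 = n21890 := d6_1 D21890 (iv D21890) F77149
theorem F98013 : act 3 n21890 = n17089 := d27_1 D21890 (iv D17089) (iv F77150)
theorem F98014 : act 5 n21890 = n17088 := d36_1 D21890 (iv D17088) D17087
def n21891 : Q := act 8 n17087
theorem D21891 : act 8 n17087 = n21891 := rfl
theorem F98016 : act 3 n21891 = n17090 := d28_1 D21891 (iv D17090) (iv F77150)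
def n21892 : Q := act 6 n17089
theorem D21892 : act 6 n17089 = n21892 := rfl
theorem F98018 : act 0 n21892 = n21892 := d5_1 D21892 (iv D21892) F77155
theorem F98019 : act 4 n21892 = n17104 := d31_1 D21892 (iv D17104) (iv F77156)
def n21893 : Q := act 8 n17089
theorem D21893 : act 8 n17089 = n21893 := rfl
theorem F98023 : act 7 n21893 = n17090 := d42_1 D21893 (iv D17090) D17089
def n21900 : Q := act 7 n17093
theorem D21900 : act 7 n17093 = n21900 := rfl
theorem F98049 : act 3 n21900 = n17095 := d27_1 D21900 (iv D17095) (iv F77171)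
theorem F98050 : act 5 n21900 = n17094 := d36_1 D21900 (iv D17094) D17093
theorem F98051 : act 9 n21900 = n17102 := d43_2 (iv F77172) D21900 (iv D17102)
def n21902 : Q := act 6 n17095
theorem D21902 : act 6 n17095 = n21902 := rfl
theorem F98055 : act 0 n21902 = n21902 := d5_1 D21902 (iv D21902) F77179
theorem F98056 : act 5 n21902 = n17114 := d35_1 D21902 (iv D17114) F60576 (iv F60538) (iv F77180)
theorem F98057 : act 9 n21902 = n17104 := d41_2 (iv F77181) D21902 (iv D17104)
def n21903 : Q := act 8 n17095
theorem D21903 : act 8 n17095 = n21903 := rfl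
theorem F98058 : act 0 n21903 = n21903 := d7_1 D21903 (iv D21903) F77179
theorem F98059 : act 5 n21903 = n17416 := d37_1 D21903 (iv D17416) F61475 (iv F60539) (iv F77180)
theorem F98060 : act 7 n21903 = n17096 := d42_1 D21903 (iv D17096) D17095
def n21909 : Q := act 7 n17099
theorem D21909 : act 7 n17099 = n21909 := rfl
theorem F98078 : act 5 n21909 = n17100 := d36_1 D21909 (iv D17100) D17099
def n21911 : Q := act 7 n17101
theorem D21911 : act 7 n17101 = n21911 := rfl
theorem F98083 : act 4 n21911 = n17102 := d32_1 D21911 (iv D17102) D17101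
def n21913 : Q := act 6 n17102
theorem D21913 : act 6 n17102 = n21913 := rfl
def n21917 : Q := act 9 n17105
theorem D21917 : act 9 n17105 = n21917 := rfl
def n21919 : Q := act 5 n17108
theorem D21919 : act 5 n17108 = n21919 := rfl
theorem F98107 : act 1 n21919 = n17109 := d12_1 D21919 (iv D17109) (iv F77217)
theorem F98108 : act 9 n21919 = n17118 := d38_2 (iv F77220) D21919 (iv D17118)
def n21920 : Q := act 7 n17108
theorem D21920 : act 7 n17108 = n21920 := rfl
theorem F98109 : act 1 n21920 = n17110 := d14_1 D21920 (iv D17110) (iv F77217)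
theorem F98112 : act 9 n21920 = n17119 := d43_2 (iv F77220) D21920 (iv D17119)
def n21921 : Q := act 7 n17109
theorem D21921 : act 7 n17109 = n21921 := rfl
theorem F98113 : act 0 n21921 = n21921 := d6_1 D21921 (iv D21921) F77221
theorem F98114 : act 2 n21921 = n17112 := d21_1 D21921 (iv D17112) (iv F77222)
theorem F98115 : act 5 n21921 = n17110 := d36_1 D21921 (iv D17110) D17109
theorem F98116 : act 9 n21921 = n17121 := d43_2 (iv F77223) D21921 (iv D17121)
def n21922 : Q := act 7 n17111
theorem D21922 : act 7 n17111 = n21922 := rfl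
theorem F98117 : act 0 n21922 = n21922 := d6_1 D21922 (iv D21922) F77229
theorem F98118 : act 4 n21922 = n17112 := d32_1 D21922 (iv D17112) D17111
theorem F98119 : act 5 n21922 = n17192 := d36_1 D21922 (iv D17192) (iv F77230)
theorem F98120 : act 9 n21922 = n17123 := d43_2 (iv F77231) D21922 (iv D17123)
def n21923 : Q := act 6 n17112
theorem D21923 : act 6 n17112 = n21923 := rfl
theorem F98121 : act 0 n21923 = n21923 := d5_1 D21923 (iv D21923) F77232
theorem F98122 : act 3 n21923 = n17114 := d26_1 D21923 (iv D17114) (iv F77233)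
theorem F98123 : act 9 n21923 = n17125 := d41_2 (iv F77235) D21923 (iv D17125)
def n21924 : Q := act 8 n17112
theorem D21924 : act 8 n17112 = n21924 := rfl
theorem F98124 : act 0 n21924 = n21924 := d7_1 D21924 (iv D21924) F77232
theorem F98125 : act 3 n21924 = n17115 := d28_1 D21924 (iv D17115) (iv F77233)
theorem F98126 : act 5 n21924 = n17434 := d37_1 D21924 (iv D17434) F61536 (iv F60573) (iv F77234)
theorem F98127 : act 7 n21924 = n17113 := d42_1 D21924 (iv D17113) D17112
def n21925 : Q := act 9 n17113
theorem D21925 : act 9 n17113 = n21925 := rfl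
theorem F98128 : act 0 n21925 = n21925 := d8_1 D21925 (iv D21925) F77236
theorem F98129 : act 3 n21925 = n17116 := d29_1 D21925 (iv D17116) (iv F77237)
theorem F98130 : act 5 n21925 = n17435 := d38_1 D21925 (iv D17435) (iv F77238)
theorem F98131 : act 8 n21925 = n17127 := d44_1 D21925 (iv D17127) (iv D13276) (iv F60569) D17113
def n21926 : Q := act 8 n17114
theorem D21926 : act 8 n17114 = n21926 := rfl
theorem F98132 : act 0 n21926 = n21926 := d7_1 D21926 (iv D21926) F77239
theorem F98133 : act 6 n21926 = n17115 := d40_1 D21926 (iv D17115) D17114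
def n21927 : Q := act 9 n17115
theorem D21927 : act 9 n17115 = n21927 := rfl
theorem F98134 : act 0 n21927 = n21927 := d8_1 D21927 (iv D21927) F77241
theorem F98135 : act 5 n21927 = n17437 := d38_1 D21927 (iv D17437) (iv F77242)
theorem F98136 : act 7 n21927 = n17116 := d43_1 D21927 (iv D17116) (iv F77243)
theorem F98137 : act 8 n21927 = n17129 := d44_1 D21927 (iv D17129) (iv D13278) (iv F60577) D17115
def n21930 : Q := act 4 n17118
theorem D21930 : act 4 n17118 = n21930 := rfl
theorem F98144 : act 1 n21930 = n17120 := d11_1 D21930 (iv D17120) (iv F77251)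
theorem F98145 : act 5 n21930 = n17198 := d30_2 D17118 D21930 (iv D17198) (iv D13336) (iv F60584)
def n21931 : Q := act 7 n17118
theorem D21931 : act 7 n17118 = n21931 := rfl
theorem F98146 : act 1 n21931 = n17121 := d14_1 D21931 (iv D17121) (iv F77251)
def n21932 : Q := act 8 n17118
theorem D21932 : act 8 n17118 = n21932 := rfl
theorem F98149 : act 5 n21932 = n17146 := d37_1 D21932 (iv D17146) (iv D13291) (iv F60585) D17118
def n21933 : Q := act 7 n17120
theorem D21933 : act 7 n17120 = n21933 := rfl
theorem F98150 : act 0 n21933 = n21933 := d6_1 D21933 (iv D21933) F77255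
theorem F98151 : act 2 n21933 = n17123 := d21_1 D21933 (iv D17123) (iv F77256)
theorem F98152 : act 4 n21933 = n17121 := d32_1 D21933 (iv D17121) D17120
def n21934 : Q := act 8 n17120
theorem D21934 : act 8 n17120 = n21934 := rfl
theorem F98155 : act 2 n21934 = n17124 := d22_1 D21934 (iv D17124) (iv F77256)
theorem F98156 : act 4 n21934 = n17122 := d33_1 D21934 (iv D17122) D17120
def n21935 : Q := act 6 n17121
theorem D21935 : act 6 n17121 = n21935 := rfl
theorem F98158 : act 0 n21935 = n21935 := d5_1 D21935 (iv D21935) F77258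
theorem F98159 : act 2 n21935 = n17125 := d20_1 D21935 (iv D17125) (iv F77259)
def n21936 : Q := act 8 n17121
theorem D21936 : act 8 n17121 = n21936 := rfl
theorem F98161 : act 2 n21936 = n17126 := d22_1 D21936 (iv D17126) (iv F77259)
theorem F98162 : act 5 n21936 = n17148 := d37_1 D21936 (iv D17148) F60661 (iv F60591) (iv F77260)
theorem F98163 : act 7 n21936 = n17122 := d42_1 D21936 (iv D17122) D17121
def n21937 : Q := act 9 n17122
theorem D21937 : act 9 n17122 = n21937 := rfl
theorem F98166 : act 5 n21937 = n17149 := d38_1 D21937 (iv D17149) (iv F77263)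
def n21938 : Q := act 6 n17123
theorem D21938 : act 6 n17123 = n21938 := rfl
theorem F98167 : act 0 n21938 = n21938 := d5_1 D21938 (iv D21938) F77264
theorem F98168 : act 4 n21938 = n17125 := d31_1 D21938 (iv D17125) (iv F77265)
def n21939 : Q := act 8 n17123
theorem D21939 : act 8 n17123 = n21939 := rfl
theorem F98169 : act 0 n21939 = n21939 := d7_1 D21939 (iv D21939) F77264
theorem F98170 : act 4 n21939 = n17126 := d33_1 D21939 (iv D17126) (iv F77265)
theorem F98171 : act 5 n21939 = n21939 := d37_1 D21939 (iv D21939) F77266 F60861 (iv F77266)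
theorem F98172 : act 7 n21939 = n17124 := d42_1 D21939 (iv D17124) D17123
def n21940 : Q := act 9 n17124
theorem D21940 : act 9 n17124 = n21940 := rfl
theorem F98173 : act 0 n21940 = n21940 := d8_1 D21940 (iv D21940) F77267
theorem F98174 : act 4 n21940 = n17127 := d34_1 D21940 (iv D17127) (iv F77268)
theorem F98175 : act 5 n21940 = n21940 := d38_1 D21940 (iv D21940) F77269
def n21941 : Q := act 8 n17125
theorem D21941 : act 8 n17125 = n21941 := rfl
theorem F98176 : act 0 n21941 = n21941 := d7_1 D21941 (iv D21941) F77270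
theorem F98177 : act 3 n21941 = n17128 := d28_1 D21941 (iv D17128) (iv F77271)
theorem F98178 : act 6 n21941 = n17126 := d40_1 D21941 (iv D17126) D17125
def n21942 : Q := act 9 n17126
theorem D21942 : act 9 n17126 = n21942 := rfl
theorem F98179 : act 0 n21942 = n21942 := d8_1 D21942 (iv D21942) F77272
theorem F98180 : act 3 n21942 = n17129 := d29_1 D21942 (iv D17129) (iv F77273)
theorem F98181 : act 5 n21942 = n17151 := d38_1 D21942 (iv D17151) (iv F77274)
theorem F98182 : act 7 n21942 = n17127 := d43_1 D21942 (iv D17127) (iv F77275)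
def n21943 : Q := act 5 n17128
theorem D21943 : act 5 n17128 = n21943 := rfl
theorem F98184 : act 6 n21943 = n17152 := d35_2 (iv F77280) D21943 (iv D17152) F60683 (iv F60602)
def n21944 : Q := act 9 n17128
theorem D21944 : act 9 n17128 = n21944 := rfl
theorem F98185 : act 0 n21944 = n21944 := d8_1 D21944 (iv D21944) F77279
theorem F98186 : act 6 n21944 = n17129 := d41_1 D21944 (iv D17129) (iv F77280)
def n21960 : Q := act 8 n17138
theorem D21960 : act 8 n17138 = n21960 := rfl
theorem F98252 : act 7 n21960 = n17762 := d42_1 D21960 (iv D17762) (iv F77319)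
def n21962 : Q := act 5 n17141
theorem D21962 : act 5 n17141 = n21962 := rfl
theorem F98258 : act 7 n21962 = n17764 := d36_2 (iv F77331) D21962 (iv D17764)
def n21966 : Q := act 6 n17145
theorem D21966 : act 6 n17145 = n21966 := rfl
theorem F98276 : act 7 n21966 = n17768 := d39_2 D17145 D21966 (iv D17768) (iv D13766) (iv F60653)
def n21967 : Q := act 8 n17145
theorem D21967 : act 8 n17145 = n21967 := rfl
def n21968 : Q := act 9 n17146
theorem D21968 : act 9 n17146 = n21968 := rfl
theorem F98283 : act 6 n21968 = n17770 := d41_1 D21968 (iv D17770) (iv F77351)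
def n21970 : Q := act 9 n17148
theorem D21970 : act 9 n17148 = n21970 := rfl
theorem F98294 : act 8 n21970 = n17479 := d44_1 D21970 (iv D17479) (iv D13545) (iv F60662) D17148
def n21971 : Q := act 5 n17150
theorem D21971 : act 5 n17150 = n21971 := rfl
def n21972 : Q := act 9 n17150
theorem D21972 : act 9 n17150 = n21972 := rfl
theorem F98301 : act 6 n21972 = n17151 := d41_1 D21972 (iv D17151) (iv F77369)
def n21973 : Q := act 4 n17152
theorem D21973 : act 4 n17152 = n21973 := rfl
theorem F98305 : act 5 n21973 = n17154 := d30_2 D17152 D21973 (iv D17154) (iv D13300) (iv F60682)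
theorem F98306 : act 7 n21973 = n17775 := d32_2 (iv F77377) D21973 (iv D17775)
def n21975 : Q := act 3 n17154
theorem D21975 : act 3 n17154 = n21975 := rfl
def n21976 : Q := act 9 n17154
theorem D21976 : act 9 n17154 = n21976 := rfl
theorem F98315 : act 4 n21976 = n17155 := d34_1 D21976 (iv D17155) D17154
def n21977 : Q := act 8 n17155
theorem D21977 : act 8 n17155 = n21977 := rfl
def n21978 : Q := act 0 n17156
theorem D21978 : act 0 n17156 = n21978 := rfl
theorem F98325 : act 9 n21978 = n17161 := d8_2 (iv F77392) D21978 (iv D17161)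
def n21979 : Q := act 6 n17156
theorem D21979 : act 6 n17156 = n21979 := rfl
theorem F98326 : act 1 n21979 = n17157 := d13_1 D21979 (iv D17157) D17156
theorem F98328 : act 9 n21979 = n17162 := d41_2 (iv F77392) D21979 (iv D17162)
def n21980 : Q := act 5 n17157
theorem D21980 : act 5 n17157 = n21980 := rfl
theorem F98329 : act 0 n21980 = n21980 := d4_1 D21980 (iv D21980) F77393
theorem F98330 : act 2 n21980 = n17158 := d19_1 D21980 (iv D17158) (iv F77394)
theorem F98331 : act 3 n21980 = n21980 := d25_1 D21980 (iv D21980) F77395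
theorem F98332 : act 6 n21980 = n21980 := d35_2 D17157 D21980 (iv D21980) (iv D17157) F60700
theorem F98333 : act 8 n21980 = n21980 := d37_2 F83795 D21980 (iv D21980) (iv F83795) F83794
theorem F98334 : act 9 n21980 = n17163 := d38_2 (iv F77396) D21980 (iv D17163)
def n21981 : Q := act 7 n17157
theorem D21981 : act 7 n17157 = n21981 := rfl
theorem F98335 : act 0 n21981 = n21981 := d6_1 D21981 (iv D21981) F77393
theorem F98336 : act 2 n21981 = n17159 := d21_1 D21981 (iv D17159) (iv F77394)
theorem F98337 : act 3 n21981 = n21981 := d27_1 D21981 (iv D21981) F77395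
theorem F98338 : act 9 n21981 = n17164 := d43_2 (iv F77396) D21981 (iv D17164)
def n21982 : Q := act 4 n17158
theorem D21982 : act 4 n17158 = n21982 := rfl
theorem F98343 : act 9 n21982 = n17165 := d34_2 (iv F77401) D21982 (iv D17165)
def n21983 : Q := act 7 n17158
theorem D21983 : act 7 n17158 = n21983 := rfl
theorem F98344 : act 0 n21983 = n21983 := d6_1 D21983 (iv D21983) F77397
theorem F98345 : act 3 n21983 = n17160 := d27_1 D21983 (iv D17160) (iv F77398)
theorem F98346 : act 5 n21983 = n17159 := d36_1 D21983 (iv D17159) D17158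
theorem F98347 : act 8 n21983 = n21983 := d42_2 F77400 D21983 (iv D21983)
theorem F98348 : act 9 n21983 = n17166 := d43_2 (iv F77401) D21983 (iv D17166)
def n21984 : Q := act 6 n17160
theorem D21984 : act 6 n17160 = n21984 := rfl
theorem F98349 : act 0 n21984 = n21984 := d5_1 D21984 (iv D21984) F77405
theorem F98350 : act 2 n21984 = n21984 := d20_1 D21984 (iv D21984) F77406
theorem F98351 : act 4 n21984 = n17176 := d31_1 D21984 (iv D17176) (iv F77407)
theorem F98352 : act 7 n21984 = n21984 := d39_2 D17160 D21984 (iv D21984) (iv D17160) F60708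
theorem F98353 : act 8 n21984 = n21984 := d40_2 F77409 D21984 (iv D21984)
theorem F98354 : act 9 n21984 = n17168 := d41_2 (iv F77410) D21984 (iv D17168)
def n21985 : Q := act 6 n17161
theorem D21985 : act 6 n17161 = n21985 := rfl
theorem F98355 : act 0 n21985 = n17162 := d5_1 D21985 (iv D17162) D17161
theorem F98356 : act 1 n21985 = n21985 := d13_1 D21985 (iv D21985) F77411
theorem F98357 : act 3 n21985 = n21985 := d26_1 D21985 (iv D21985) F77412
theorem F98358 : act 8 n21985 = n21985 := d40_2 F77414 D21985 (iv D21985)
def n21986 : Q := act 5 n17162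
theorem D21986 : act 5 n17162 = n21986 := rfl
theorem F98359 : act 1 n21986 = n17163 := d12_1 D21986 (iv D17163) (iv F77415)
theorem F98360 : act 3 n21986 = n21986 := d25_1 D21986 (iv D21986) F77416
theorem F98361 : act 6 n21986 = n21986 := d35_2 D17162 D21986 (iv D21986) (iv D17162) F60716
def n21987 : Q := act 7 n17162
theorem D21987 : act 7 n17162 = n21987 := rfl
theorem F98362 : act 1 n21987 = n17164 := d14_1 D21987 (iv D17164) (iv F77415)
theorem F98363 : act 3 n21987 = n21987 := d27_1 D21987 (iv D21987) F77416
theorem F98364 : act 8 n21987 = n21987 := d42_2 F77417 D21987 (iv D21987)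
def n21988 : Q := act 4 n17163
theorem D21988 : act 4 n17163 = n21988 := rfl
theorem F98366 : act 2 n21988 = n17165 := d18_1 D21988 (iv D17165) (iv F77419)
def n21989 : Q := act 7 n17163
theorem D21989 : act 7 n17163 = n21989 := rfl
theorem F98368 : act 0 n21989 = n21989 := d6_1 D21989 (iv D21989) F77418
theorem F98369 : act 2 n21989 = n17166 := d21_1 D21989 (iv D17166) (iv F77419)
theorem F98370 : act 3 n21989 = n21989 := d27_1 D21989 (iv D21989) F77420
theorem F98371 : act 5 n21989 = n17164 := d36_1 D21989 (iv D17164) D17163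
def n21990 : Q := act 8 n17163
theorem D21990 : act 8 n17163 = n21990 := rfl
theorem F98373 : act 2 n21990 = n17167 := d22_1 D21990 (iv D17167) (iv F77419)
def n21991 : Q := act 7 n17165
theorem D21991 : act 7 n17165 = n21991 := rfl
theorem F98380 : act 4 n21991 = n17166 := d32_1 D21991 (iv D17166) D17165
def n21993 : Q := act 6 n17166
theorem D21993 : act 6 n17166 = n21993 := rfl
theorem F98386 : act 0 n21993 = n21993 := d5_1 D21993 (iv D21993) F77429
theorem F98387 : act 3 n21993 = n17168 := d26_1 D21993 (iv D17168) (iv F77430)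
theorem F98388 : act 7 n21993 = n21993 := d39_2 D17166 D21993 (iv D21993) (iv D17166) F60724
def n21994 : Q := act 8 n17166
theorem D21994 : act 8 n17166 = n21994 := rfl
theorem F98390 : act 3 n21994 = n17169 := d28_1 D21994 (iv D17169) (iv F77430)
def n22002 : Q := act 6 n17175
theorem D22002 : act 6 n17175 = n22002 := rfl
theorem F98432 : act 5 n22002 = n17193 := d35_1 D22002 (iv D17193) F60823 (iv F60755) (iv F77475)
theorem F98434 : act 8 n22002 = n22002 := d40_2 F77476 D22002 (iv D22002)
def n22013 : Q := act 6 n17183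
theorem D22013 : act 6 n17183 = n22013 := rfl
theorem F98478 : act 4 n22013 = n17185 := d31_1 D22013 (iv D17185) (iv F77509)
def n22017 : Q := act 5 n17188
theorem D22017 : act 5 n17188 = n22017 := rfl
theorem F98497 : act 9 n22017 = n17196 := d38_2 (iv F77533) D22017 (iv D17196)
def n22019 : Q := act 7 n17189
theorem D22019 : act 7 n17189 = n22019 := rfl
theorem F98506 : act 9 n22019 = n17199 := d43_2 (iv F77537) D22019 (iv D17199)
def n22020 : Q := act 6 n17191
theorem D22020 : act 6 n17191 = n22020 := rfl
theorem F98511 : act 9 n22020 = n17201 := d41_2 (iv F77546) D22020 (iv D17201)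
def n22021 : Q := act 6 n17192
theorem D22021 : act 6 n17192 = n22021 := rfl
theorem F98512 : act 0 n22021 = n22021 := d5_1 D22021 (iv D22021) F77547
theorem F98513 : act 4 n22021 = n17193 := d31_1 D22021 (iv D17193) (iv F77548)
theorem F98514 : act 7 n22021 = n22021 := d39_2 D17192 D22021 (iv D22021) (iv D17192) F60819
theorem F98515 : act 9 n22021 = n17202 := d41_2 (iv F77549) D22021 (iv D17202)
def n22022 : Q := act 8 n17193
theorem D22022 : act 8 n17193 = n22022 := rfl
theorem F98516 : act 0 n22022 = n22022 := d7_1 D22022 (iv D22022) F77550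
theorem F98517 : act 3 n22022 = n17195 := d28_1 D22022 (iv D17195) (iv F77551)
theorem F98518 : act 5 n22022 = n22022 := d37_1 D22022 (iv D22022) (iv F98432) F98434 F98432
theorem F98519 : act 6 n22022 = n17194 := d40_1 D22022 (iv D17194) D17193
theorem F98520 : act 7 n22022 = n22022 := d42_1 D22022 (iv D22022) F77552
theorem F98521 : act 9 n22022 = n22022 := d44_2 (iv F77553) D22022 (iv D22022) F77553 F60865
def n22023 : Q := act 4 n17196
theorem D22023 : act 4 n17196 = n22023 := rfl
def n22025 : Q := act 7 n17198
theorem D22025 : act 7 n17198 = n22025 := rfl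
theorem F98532 : act 4 n22025 = n17199 := d32_1 D22025 (iv D17199) D17198
def n22027 : Q := act 6 n17200
theorem D22027 : act 6 n17200 = n22027 := rfl
theorem F98539 : act 2 n22027 = n17202 := d20_1 D22027 (iv D17202) (iv F77582)
def n22028 : Q := act 5 n17202
theorem D22028 : act 5 n17202 = n22028 := rfl
theorem F98543 : act 0 n22028 = n22028 := d4_1 D22028 (iv D22028) F77590
theorem F98544 : act 7 n22028 = n22028 := d36_2 F77592 D22028 (iv D22028)
def n22051 : Q := act 6 n17221
theorem D22051 : act 6 n17221 = n22051 := rfl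
theorem F98656 : act 3 n22051 = n17222 := d26_1 D22051 (iv D17222) D17221
theorem F98658 : act 9 n22051 = n17225 := d41_2 (iv F77688) D22051 (iv D17225)
def n22052 : Q := act 5 n17222
theorem D22052 : act 5 n17222 = n22052 := rfl
theorem F98659 : act 0 n22052 = n17268 := d4_1 D22052 (iv D17268) (iv F77689)
theorem F98660 : act 1 n22052 = n22052 := d12_1 D22052 (iv D22052) F77690
theorem F98661 : act 6 n22052 = n22052 := d35_2 D17222 D22052 (iv D22052) (iv D17222) F60946
theorem F98662 : act 9 n22052 = n17226 := d38_2 (iv F77692) D22052 (iv D17226)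
def n22053 : Q := act 7 n17222
theorem D22053 : act 7 n17222 = n22053 := rfl
theorem F98663 : act 0 n22053 = n17269 := d6_1 D22053 (iv D17269) (iv F77689)
theorem F98664 : act 1 n22053 = n22053 := d14_1 D22053 (iv D22053) F77690
theorem F98665 : act 4 n22053 = n17223 := d32_1 D22053 (iv D17223) (iv F77691)
theorem F98666 : act 6 n22053 = n17231 := d39_1 D22053 (iv D17231) (iv D13364) (iv F60947) D17222
theorem F98667 : act 9 n22053 = n17227 := d43_2 (iv F77692) D22053 (iv D17227)
def n22054 : Q := act 1 n17224
theorem D22054 : act 1 n17224 = n22054 := rfl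
theorem F98671 : act 7 n22054 = n17232 := d14_2 (iv F77701) D22054 (iv D17232)
theorem F98672 : act 8 n22054 = n17238 := d15_2 (iv F77702) D22054 (iv D17238)
def n22056 : Q := act 5 n17225
theorem D22056 : act 5 n17225 = n22056 := rfl
theorem F98679 : act 3 n22056 = n17226 := d25_1 D22056 (iv D17226) (iv F77705)
def n22057 : Q := act 7 n17225
theorem D22057 : act 7 n17225 = n22057 := rfl
theorem F98681 : act 0 n22057 = n17273 := d6_1 D22057 (iv D17273) (iv F77703)
theorem F98683 : act 3 n22057 = n17227 := d27_1 D22057 (iv D17227) (iv F77705)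
def n22058 : Q := act 7 n17226
theorem D22058 : act 7 n17226 = n22058 := rfl
theorem F98687 : act 0 n22058 = n17274 := d6_1 D22058 (iv D17274) (iv F77708)
theorem F98688 : act 1 n22058 = n22058 := d14_1 D22058 (iv D22058) F77709
theorem F98689 : act 5 n22058 = n17227 := d36_1 D22058 (iv D17227) D17226
def n22059 : Q := act 8 n17226
theorem D22059 : act 8 n17226 = n22059 := rfl
theorem F98692 : act 5 n22059 = n17243 := d37_1 D22059 (iv D17243) (iv D13372) (iv F60962) D17226
def n22063 : Q := act 7 n17229
theorem D22063 : act 7 n17229 = n22063 := rfl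
theorem F98709 : act 3 n22063 = n17231 := d27_1 D22063 (iv D17231) (iv F77722)
theorem F98711 : act 9 n22063 = n17235 := d43_2 (iv F77724) D22063 (iv D17235)
def n22064 : Q := act 7 n17230
theorem D22064 : act 7 n17230 = n22064 := rfl
theorem F98712 : act 0 n22064 = n17280 := d6_1 D22064 (iv D17280) (iv F77725)
theorem F98715 : act 5 n22064 = n17231 := d36_1 D22064 (iv D17231) D17230
theorem F98716 : act 9 n22064 = n17236 := d43_2 (iv F77729) D22064 (iv D17236)
def n22065 : Q := act 8 n17230
theorem D22065 : act 8 n17230 = n22065 := rfl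
theorem F98717 : act 0 n22065 = n17281 := d7_1 D22065 (iv D17281) (iv F77725)
def n22073 : Q := act 6 n17236
theorem D22073 : act 6 n17236 = n22073 := rfl
theorem F98751 : act 0 n22073 = n17289 := d5_1 D22073 (iv D17289) (iv F77751)
def n22076 : Q := act 7 n17239
theorem D22076 : act 7 n17239 = n22076 := rfl
theorem F98768 : act 6 n22076 = n17247 := d39_1 D22076 (iv D17247) (iv D13375) (iv F61002) D17239
def n22078 : Q := act 6 n17242
theorem D22078 : act 6 n17242 = n22078 := rfl
theorem F98777 : act 7 n22078 = n17845 := d39_2 D17242 D22078 (iv D17845) (iv D13832) (iv F61010)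
def n22079 : Q := act 8 n17242
theorem D22079 : act 8 n17242 = n22079 := rfl
def n22081 : Q := act 6 n17244
theorem D22081 : act 6 n17244 = n22081 := rfl
def n22112 : Q := act 6 n17266
theorem D22112 : act 6 n17266 = n22112 := rfl
theorem F98928 : act 9 n22112 = n17271 := d41_2 (iv F77877) D22112 (iv D17271)
def n22113 : Q := act 5 n17267
theorem D22113 : act 5 n17267 = n22113 := rfl
theorem F98929 : act 1 n22113 = n17331 := d12_1 D22113 (iv D17331) (iv F77878)
theorem F98930 : act 3 n22113 = n17268 := d25_1 D22113 (iv D17268) (iv F77879)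
theorem F98932 : act 9 n22113 = n17272 := d38_2 (iv F77881) D22113 (iv D17272)
def n22114 : Q := act 7 n17267
theorem D22114 : act 7 n17267 = n22114 := rfl
theorem F98933 : act 1 n22114 = n17332 := d14_1 D22114 (iv D17332) (iv F77878)
theorem F98934 : act 3 n22114 = n17269 := d27_1 D22114 (iv D17269) (iv F77879)
theorem F98937 : act 9 n22114 = n17273 := d43_2 (iv F77881) D22114 (iv D17273)
def n22115 : Q := act 7 n17268
theorem D22115 : act 7 n17268 = n22115 := rfl
theorem F98938 : act 1 n22115 = n17333 := d14_1 D22115 (iv D17333) (iv F77882)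
theorem F98939 : act 5 n22115 = n17269 := d36_1 D22115 (iv D17269) D17268
theorem F98940 : act 9 n22115 = n17274 := d43_2 (iv F77884) D22115 (iv D17274)
def n22116 : Q := act 8 n17268
theorem D22116 : act 8 n17268 = n22116 := rfl
theorem F98941 : act 1 n22116 = n17334 := d15_1 D22116 (iv D17334) (iv F77882)
theorem F98942 : act 6 n22116 = n22116 := d40_1 D22116 (iv D22116) F77883
def n22117 : Q := act 0 n17270
theorem D22117 : act 0 n17270 = n22117 := rfl
theorem F98946 : act 7 n22117 = n17282 := d6_2 (iv F77892) D22117 (iv D17282)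
theorem F98947 : act 8 n22117 = n17292 := d7_2 (iv F77893) D22117 (iv D17292)
def n22119 : Q := act 5 n17271
theorem D22119 : act 5 n17271 = n22119 := rfl
def n22120 : Q := act 7 n17271
theorem D22120 : act 7 n17271 = n22120 := rfl
theorem F98956 : act 6 n22120 = n17285 := d39_1 D22120 (iv D17285) (iv D13401) (iv F61089) D17271
theorem F98957 : act 8 n22120 = n17295 := d42_2 (iv F77896) D22120 (iv D17295)
def n22121 : Q := act 4 n17272
theorem D22121 : act 4 n17272 = n22121 := rfl
theorem F98958 : act 1 n22121 = n17339 := d11_1 D22121 (iv D17339) (iv F77897)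
def n22122 : Q := act 7 n17272
theorem D22122 : act 7 n17272 = n22122 := rfl
theorem F98961 : act 1 n22122 = n17340 := d14_1 D22122 (iv D17340) (iv F77897)
theorem F98962 : act 3 n22122 = n17274 := d27_1 D22122 (iv D17274) (iv F77898)
theorem F98963 : act 5 n22122 = n17273 := d36_1 D22122 (iv D17273) D17272
def n22123 : Q := act 8 n17272
theorem D22123 : act 8 n17272 = n22123 := rfl
theorem F98966 : act 5 n22123 = n17298 := d37_1 D22123 (iv D17298) (iv D13408) (iv F61094) D17272
def n22124 : Q := act 6 n17274
theorem D22124 : act 6 n17274 = n22124 := rfl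
theorem F98968 : act 1 n22124 = n17342 := d13_1 D22124 (iv D17342) (iv F77905)
theorem F98969 : act 5 n22124 = n17289 := d35_1 D22124 (iv D17289) F61131 (iv F61099) (iv F77906)
theorem F98970 : act 7 n22124 = n22124 := d39_2 D17274 D22124 (iv D22124) (iv D17274) F61096
def n22125 : Q := act 8 n17274
theorem D22125 : act 8 n17274 = n22125 := rfl
theorem F98971 : act 1 n22125 = n17343 := d15_1 D22125 (iv D17343) (iv F77905)
theorem F98972 : act 5 n22125 = n17300 := d37_1 D22125 (iv D17300) F61151 (iv F61100) (iv F77906)
def n22126 : Q := act 9 n17275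
theorem D22126 : act 9 n17275 = n22126 := rfl
theorem F98974 : act 1 n22126 = n17344 := d16_1 D22126 (iv D17344) (iv F77907)
def n22130 : Q := act 7 n17277
theorem D22130 : act 7 n17277 = n22130 := rfl
theorem F98990 : act 9 n22130 = n17285 := d43_2 (iv F77916) D22130 (iv D17285)
def n22132 : Q := act 7 n17278
theorem D22132 : act 7 n17278 = n22132 := rfl
theorem F98996 : act 1 n22132 = n17350 := d14_1 D22132 (iv D17350) (iv F77917)
theorem F98997 : act 3 n22132 = n17280 := d27_1 D22132 (iv D17280) (iv F77918)
theorem F98999 : act 9 n22132 = n17287 := d43_2 (iv F77920) D22132 (iv D17287)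
def n22133 : Q := act 8 n17278
theorem D22133 : act 8 n17278 = n22133 := rfl
theorem F99000 : act 1 n22133 = n17351 := d15_1 D22133 (iv D17351) (iv F77917)
theorem F99001 : act 3 n22133 = n17281 := d28_1 D22133 (iv D17281) (iv F77918)
def n22134 : Q := act 6 n17280
theorem D22134 : act 6 n17280 = n22134 := rfl
theorem F99003 : act 1 n22134 = n17352 := d13_1 D22134 (iv D17352) (iv F77925)
theorem F99004 : act 4 n22134 = n22134 := d31_1 D22134 (iv D22134) F77926
theorem F99005 : act 7 n22134 = n22134 := d39_2 D17280 D22134 (iv D22134) (iv D17280) F61110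
theorem F99006 : act 9 n22134 = n17289 := d41_2 (iv F77928) D22134 (iv D17289)
def n22135 : Q := act 8 n17280
theorem D22135 : act 8 n17280 = n22135 := rfl
theorem F99007 : act 1 n22135 = n17353 := d15_1 D22135 (iv D17353) (iv F77925)
theorem F99008 : act 4 n22135 = n22135 := d33_1 D22135 (iv D22135) F77926
theorem F99009 : act 7 n22135 = n17281 := d42_1 D22135 (iv D17281) D17280
def n22136 : Q := act 9 n17281
theorem D22136 : act 9 n17281 = n22136 := rfl
theorem F99010 : act 1 n22136 = n17354 := d16_1 D22136 (iv D17354) (iv F77929)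
theorem F99013 : act 8 n22136 = n17291 := d44_1 D22136 (iv D17291) (iv D13405) (iv F61111) D17281
def n22138 : Q := act 5 n17283
theorem D22138 : act 5 n17283 = n22138 := rfl
def n22145 : Q := act 6 n17287
theorem D22145 : act 6 n17287 = n22145 := rfl
theorem F99041 : act 1 n22145 = n17363 := d13_1 D22145 (iv D17363) (iv F77949)
theorem F99042 : act 3 n22145 = n17289 := d26_1 D22145 (iv D17289) (iv F77950)
def n22148 : Q := act 8 n17289
theorem D22148 : act 8 n17289 = n22148 := rfl
theorem F99052 : act 1 n22148 = n17366 := d15_1 D22148 (iv D17366) (iv F77956)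
def n22149 : Q := act 9 n17290
theorem D22149 : act 9 n17290 = n22149 := rfl
theorem F99056 : act 1 n22149 = n17367 := d16_1 D22149 (iv D17367) (iv F77959)
def n22151 : Q := act 7 n17294
theorem D22151 : act 7 n17294 = n22151 := rfl
theorem F99065 : act 5 n22151 = n17295 := d36_1 D22151 (iv D17295) D17294
def n22152 : Q := act 7 n17296
theorem D22152 : act 7 n17296 = n22152 := rfl
def n22156 : Q := act 8 n17299
theorem D22156 : act 8 n17299 = n22156 := rfl
theorem F99082 : act 6 n22156 = n17300 := d40_1 D22156 (iv D17300) D17299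
theorem F99083 : act 7 n22156 = n17884 := d42_1 D22156 (iv D17884) (iv F77992)
def n22158 : Q := act 5 n17302
theorem D22158 : act 5 n17302 = n22158 := rfl
theorem F99089 : act 6 n22158 = n17886 := d35_2 D17302 D22158 (iv D17886) (iv D13866) (iv F61157)
def n22159 : Q := act 7 n17302
theorem D22159 : act 7 n17302 = n22159 := rfl
theorem F99091 : act 2 n22159 = n17382 := d21_1 D22159 (iv D17382) (iv F78000)
def n22161 : Q := act 7 n17303
theorem D22161 : act 7 n17303 = n22161 := rfl
theorem F99099 : act 5 n22161 = n17304 := d36_1 D22161 (iv D17304) D17303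
def n22162 : Q := act 8 n17303
theorem D22162 : act 8 n17303 = n22162 := rfl
theorem F99102 : act 6 n22162 = n17890 := d40_1 D22162 (iv D17890) (iv F78004)
def n22183 : Q := act 8 n17318
theorem D22183 : act 8 n17318 = n22183 := rfl
theorem F99177 : act 7 n22183 = n17911 := d42_1 D22183 (iv D17911) (iv F78053)
def n22197 : Q := act 5 n17330
theorem D22197 : act 5 n17330 = n22197 := rfl
theorem F99240 : act 2 n22197 = n17331 := d19_1 D22197 (iv D17331) (iv F78095)
theorem F99243 : act 9 n22197 = n17337 := d38_2 (iv F78098) D22197 (iv D17337)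
def n22198 : Q := act 7 n17330
theorem D22198 : act 7 n17330 = n22198 := rfl
theorem F99245 : act 2 n22198 = n17332 := d21_1 D22198 (iv D17332) (iv F78095)
theorem F99249 : act 9 n22198 = n17338 := d43_2 (iv F78098) D22198 (iv D17338)
def n22199 : Q := act 4 n17331
theorem D22199 : act 4 n17331 = n22199 := rfl
theorem F99253 : act 9 n22199 = n17339 := d34_2 (iv F78102) D22199 (iv D17339)
def n22200 : Q := act 7 n17331
theorem D22200 : act 7 n17331 = n22200 := rfl
theorem F99254 : act 0 n22200 = n22200 := d6_1 D22200 (iv D22200) F78099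
theorem F99255 : act 3 n22200 = n17333 := d27_1 D22200 (iv D17333) (iv F78100)
theorem F99256 : act 5 n22200 = n17332 := d36_1 D22200 (iv D17332) D17331
theorem F99257 : act 9 n22200 = n17340 := d43_2 (iv F78102) D22200 (iv D17340)
def n22201 : Q := act 8 n17331
theorem D22201 : act 8 n17331 = n22201 := rfl
def n22202 : Q := act 6 n17333
theorem D22202 : act 6 n17333 = n22202 := rfl
theorem F99261 : act 0 n22202 = n22202 := d5_1 D22202 (iv D22202) F78108
theorem F99262 : act 2 n22202 = n17415 := d20_1 D22202 (iv D17415) (iv F78109)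
theorem F99263 : act 5 n22202 = n17352 := d35_1 D22202 (iv D17352) F61283 (iv F61236) (iv F78110)
theorem F99264 : act 7 n22202 = n22202 := d39_2 D17333 D22202 (iv D22202) (iv D17333) F61231
theorem F99265 : act 9 n22202 = n17342 := d41_2 (iv F78111) D22202 (iv D17342)
def n22203 : Q := act 8 n17333
theorem D22203 : act 8 n17333 = n22203 := rfl
theorem F99266 : act 0 n22203 = n22203 := d7_1 D22203 (iv D22203) F78108
theorem F99267 : act 2 n22203 = n17416 := d22_1 D22203 (iv D17416) (iv F78109)
theorem F99268 : act 7 n22203 = n17334 := d42_1 D22203 (iv D17334) D17333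
def n22204 : Q := act 9 n17334
theorem D22204 : act 9 n17334 = n22204 := rfl
theorem F99272 : act 8 n22204 = n17344 := d44_1 D22204 (iv D17344) (iv D13441) (iv F61232) D17334
def n22205 : Q := act 6 n17335
theorem D22205 : act 6 n17335 = n22205 := rfl
theorem F99277 : act 8 n22205 = n17368 := d40_2 (iv F78120) D22205 (iv D17368)
def n22207 : Q := act 7 n17336
theorem D22207 : act 7 n17336 = n22207 := rfl
theorem F99285 : act 8 n22207 = n17370 := d42_2 (iv F78124) D22207 (iv D17370)
def n22208 : Q := act 4 n17337
theorem D22208 : act 4 n17337 = n22208 := rfl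
theorem F99287 : act 2 n22208 = n17339 := d18_1 D22208 (iv D17339) (iv F78126)
def n22209 : Q := act 7 n17337
theorem D22209 : act 7 n17337 = n22209 := rfl
theorem F99292 : act 2 n22209 = n17340 := d21_1 D22209 (iv D17340) (iv F78126)
def n22210 : Q := act 8 n17337
theorem D22210 : act 8 n17337 = n22210 := rfl
theorem F99297 : act 3 n22210 = n17422 := d28_1 D22210 (iv D17422) (iv F78127)
theorem F99298 : act 5 n22210 = n17373 := d37_1 D22210 (iv D17373) (iv D13460) (iv F61247) D17337
def n22211 : Q := act 7 n17339
theorem D22211 : act 7 n17339 = n22211 := rfl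
theorem F99300 : act 0 n22211 = n22211 := d6_1 D22211 (iv D22211) F78135
theorem F99301 : act 4 n22211 = n17340 := d32_1 D22211 (iv D17340) D17339
theorem F99302 : act 5 n22211 = n22211 := d36_1 D22211 (iv D22211) F78136
def n22212 : Q := act 8 n17339
theorem D22212 : act 8 n17339 = n22212 := rfl
theorem F99304 : act 4 n22212 = n17341 := d33_1 D22212 (iv D17341) D17339
def n22213 : Q := act 6 n17340
theorem D22213 : act 6 n17340 = n22213 := rfl
theorem F99306 : act 0 n22213 = n22213 := d5_1 D22213 (iv D22213) F78138
theorem F99307 : act 3 n22213 = n17342 := d26_1 D22213 (iv D17342) (iv F78139)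
theorem F99308 : act 5 n22213 = n17363 := d35_1 D22213 (iv D17363) F61313 (iv F61254) (iv F78140)
theorem F99309 : act 7 n22213 = n22213 := d39_2 D17340 D22213 (iv D22213) (iv D17340) F61250
def n22214 : Q := act 8 n17340
theorem D22214 : act 8 n17340 = n22214 := rfl
theorem F99313 : act 7 n22214 = n17341 := d42_1 D22214 (iv D17341) D17340
def n22216 : Q := act 8 n17342
theorem D22216 : act 8 n17342 = n22216 := rfl
theorem F99318 : act 0 n22216 = n22216 := d7_1 D22216 (iv D22216) F78145
theorem F99319 : act 2 n22216 = n17426 := d22_1 D22216 (iv D17426) (iv F78146)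
theorem F99320 : act 6 n22216 = n17343 := d40_1 D22216 (iv D17343) D17342
theorem F99321 : act 7 n22216 = n22216 := d42_1 D22216 (iv D22216) F78148
def n22217 : Q := act 9 n17343
theorem D22217 : act 9 n17343 = n22217 := rfl
theorem F99322 : act 0 n22217 = n22217 := d8_1 D22217 (iv D22217) F78149
theorem F99325 : act 7 n22217 = n17344 := d43_1 D22217 (iv D17344) (iv F78152)
def n22219 : Q := act 5 n17346
theorem D22219 : act 5 n17346 = n22219 := rfl
theorem F99332 : act 3 n22219 = n17429 := d25_1 D22219 (iv D17429) (iv F78163)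
theorem F99334 : act 9 n22219 = n17356 := d38_2 (iv F78165) D22219 (iv D17356)
def n22221 : Q := act 7 n17347
theorem D22221 : act 7 n17347 = n22221 := rfl
theorem F99340 : act 2 n22221 = n17350 := d21_1 D22221 (iv D17350) (iv F78167)
theorem F99341 : act 3 n22221 = n17431 := d27_1 D22221 (iv D17431) (iv F78168)
theorem F99342 : act 5 n22221 = n17348 := d36_1 D22221 (iv D17348) D17347
theorem F99343 : act 9 n22221 = n17359 := d43_2 (iv F78170) D22221 (iv D17359)
def n22222 : Q := act 7 n17349
theorem D22222 : act 7 n17349 = n22222 := rfl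
theorem F99346 : act 4 n22222 = n17350 := d32_1 D22222 (iv D17350) D17349
theorem F99348 : act 9 n22222 = n17361 := d43_2 (iv F78180) D22222 (iv D17361)
def n22223 : Q := act 6 n17350
theorem D22223 : act 6 n17350 = n22223 := rfl
theorem F99349 : act 0 n22223 = n22223 := d5_1 D22223 (iv D22223) F78181
theorem F99350 : act 3 n22223 = n17352 := d26_1 D22223 (iv D17352) (iv F78182)
theorem F99351 : act 7 n22223 = n22223 := d39_2 D17350 D22223 (iv D22223) (iv D17350) F61274
theorem F99352 : act 9 n22223 = n17363 := d41_2 (iv F78184) D22223 (iv D17363)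
def n22224 : Q := act 8 n17350
theorem D22224 : act 8 n17350 = n22224 := rfl
theorem F99353 : act 0 n22224 = n22224 := d7_1 D22224 (iv D22224) F78181
theorem F99354 : act 3 n22224 = n17353 := d28_1 D22224 (iv D17353) (iv F78182)
theorem F99355 : act 7 n22224 = n17351 := d42_1 D22224 (iv D17351) D17350
def n22225 : Q := act 9 n17351
theorem D22225 : act 9 n17351 = n22225 := rfl
theorem F99357 : act 3 n22225 = n17354 := d29_1 D22225 (iv D17354) (iv F78186)
theorem F99359 : act 8 n22225 = n17365 := d44_1 D22225 (iv D17365) (iv D13454) (iv F61275) D17351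
def n22226 : Q := act 8 n17352
theorem D22226 : act 8 n17352 = n22226 := rfl
theorem F99360 : act 0 n22226 = n22226 := d7_1 D22226 (iv D22226) F78188
theorem F99361 : act 2 n22226 = n17436 := d22_1 D22226 (iv D17436) (iv F78189)
theorem F99362 : act 4 n22226 = n22226 := d33_1 D22226 (iv D22226) F78190
theorem F99363 : act 6 n22226 = n17353 := d40_1 D22226 (iv D17353) D17352
theorem F99364 : act 7 n22226 = n22226 := d42_1 D22226 (iv D22226) F78191
def n22227 : Q := act 9 n17353
theorem D22227 : act 9 n17353 = n22227 := rfl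
theorem F99365 : act 0 n22227 = n22227 := d8_1 D22227 (iv D22227) F78193
theorem F99366 : act 2 n22227 = n17437 := d23_1 D22227 (iv D17437) (iv F78194)
theorem F99367 : act 4 n22227 = n22227 := d34_1 D22227 (iv D22227) F78195
theorem F99368 : act 7 n22227 = n17354 := d43_1 D22227 (iv D17354) (iv F78196)
theorem F99369 : act 8 n22227 = n17367 := d44_1 D22227 (iv D17367) (iv D13456) (iv F61284) D17353
def n22229 : Q := act 7 n17355
theorem D22229 : act 7 n17355 = n22229 := rfl
theorem F99378 : act 8 n22229 = n17382 := d42_2 (iv F78206) D22229 (iv D17382)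
def n22230 : Q := act 4 n17356
theorem D22230 : act 4 n17356 = n22230 := rfl
theorem F99379 : act 1 n22230 = n17358 := d11_1 D22230 (iv D17358) (iv F78207)
def n22234 : Q := act 8 n17358
theorem D22234 : act 8 n17358 = n22234 := rfl
theorem F99395 : act 4 n22234 = n17360 := d33_1 D22234 (iv D17360) D17358
def n22235 : Q := act 6 n17359
theorem D22235 : act 6 n17359 = n22235 := rfl
def n22236 : Q := act 8 n17359
theorem D22236 : act 8 n17359 = n22236 := rfl
theorem F99405 : act 7 n22236 = n17360 := d42_1 D22236 (iv D17360) D17359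
def n22237 : Q := act 9 n17360
theorem D22237 : act 9 n17360 = n22237 := rfl
theorem F99409 : act 5 n22237 = n17390 := d38_1 D22237 (iv D17390) (iv F78225)
def n22238 : Q := act 6 n17361
theorem D22238 : act 6 n17361 = n22238 := rfl
theorem F99413 : act 4 n22238 = n17363 := d31_1 D22238 (iv D17363) (iv F78229)
def n22242 : Q := act 8 n17363
theorem D22242 : act 8 n17363 = n22242 := rfl
theorem F99428 : act 3 n22242 = n17366 := d28_1 D22242 (iv D17366) (iv F78236)
theorem F99429 : act 6 n22242 = n17364 := d40_1 D22242 (iv D17364) D17363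
def n22243 : Q := act 9 n17364
theorem D22243 : act 9 n17364 = n22243 := rfl
theorem F99432 : act 3 n22243 = n17367 := d29_1 D22243 (iv D17367) (iv F78239)
def n22244 : Q := act 5 n17366
theorem D22244 : act 5 n17366 = n22244 := rfl
theorem F99437 : act 6 n22244 = n17397 := d35_2 (iv F78249) D22244 (iv D17397) F61415 (iv F61325)
def n22245 : Q := act 9 n17366
theorem D22245 : act 9 n17366 = n22245 := rfl
theorem F99439 : act 0 n22245 = n22245 := d8_1 D22245 (iv D22245) F78246
theorem F99440 : act 2 n22245 = n17454 := d23_1 D22245 (iv D17454) (iv F78247)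
theorem F99441 : act 4 n22245 = n22245 := d34_1 D22245 (iv D22245) F78248
theorem F99442 : act 6 n22245 = n17367 := d41_1 D22245 (iv D17367) (iv F78249)
theorem F99443 : act 7 n22245 = n22245 := d43_1 D22245 (iv D22245) F78250
def n22246 : Q := act 7 n17368
theorem D22246 : act 7 n17368 = n22246 := rfl
theorem F99448 : act 6 n22246 = n17382 := d39_1 D22246 (iv D17382) (iv D13468) (iv F61336) D17368
def n22248 : Q := act 7 n17371
theorem D22248 : act 7 n17371 = n22248 := rfl
theorem F99453 : act 2 n22248 = n17374 := d21_1 D22248 (iv D17374) (iv F78268)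
def n22249 : Q := act 6 n17372
theorem D22249 : act 6 n17372 = n22249 := rfl
theorem F99459 : act 5 n22249 = n17388 := d35_1 D22249 (iv D17388) F61390 (iv F61348) (iv F78274)
theorem F99460 : act 7 n22249 = n17926 := d39_2 D17372 D22249 (iv D17926) (iv D13897) (iv F61343)
def n22251 : Q := act 9 n17373
theorem D22251 : act 9 n17373 = n22251 := rfl
theorem F99466 : act 2 n22251 = n17378 := d23_1 D22251 (iv D17378) (iv F78276)
theorem F99468 : act 6 n22251 = n17928 := d41_1 D22251 (iv D17928) (iv F78278)
def n22252 : Q := act 6 n17374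
theorem D22252 : act 6 n17374 = n22252 := rfl
theorem F99472 : act 7 n22252 = n17929 := d39_2 D17374 D22252 (iv D17929) (iv D13899) (iv F61352)
def n22254 : Q := act 9 n17375
theorem D22254 : act 9 n17375 = n22254 := rfl
theorem F99480 : act 6 n22254 = n17931 := d41_1 D22254 (iv D17931) (iv F78286)
def n22257 : Q := act 5 n17379
theorem D22257 : act 5 n17379 = n22257 := rfl
theorem F99490 : act 7 n22257 = n17934 := d36_2 (iv F78301) D22257 (iv D17934)
theorem F99491 : act 8 n22257 = n17397 := d37_2 D17379 D22257 (iv D17397) (iv D13479) (iv F61362)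
def n22259 : Q := act 4 n17381
theorem D22259 : act 4 n17381 = n22259 := rfl
theorem F99501 : act 6 n22259 = n17936 := d31_2 (iv F78309) D22259 (iv D17936)
def n22260 : Q := act 7 n17381
theorem D22260 : act 7 n17381 = n22260 := rfl
theorem F99505 : act 5 n22260 = n17382 := d36_1 D22260 (iv D17382) D17381
def n22261 : Q := act 8 n17381
theorem D22261 : act 8 n17381 = n22261 := rfl
theorem F99509 : act 6 n22261 = n17938 := d40_1 D22261 (iv D17938) (iv F78309)
def n22269 : Q := act 5 n17387
theorem D22269 : act 5 n17387 = n22269 := rfl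
def n22271 : Q := act 8 n17388
theorem D22271 : act 8 n17388 = n22271 := rfl
theorem F99550 : act 7 n22271 = n17948 := d42_1 D22271 (iv D17948) (iv F78337)
def n22279 : Q := act 5 n17395
theorem D22279 : act 5 n17395 = n22279 := rfl
theorem F99586 : act 7 n22279 = n17956 := d36_2 (iv F78364) D22279 (iv D17956)
def n22282 : Q := act 9 n17397
theorem D22282 : act 9 n17397 = n22282 := rfl
theorem F99599 : act 7 n22282 = n17959 := d43_1 D22282 (iv D17959) (iv F78370)
def n22295 : Q := act 6 n17413
theorem D22295 : act 6 n17413 = n22295 := rfl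
theorem F99662 : act 3 n22295 = n17415 := d26_1 D22295 (iv D17415) (iv F78450)
theorem F99666 : act 9 n22295 = n17423 := d41_2 (iv F78453) D22295 (iv D17423)
def n22298 : Q := act 8 n17415
theorem D22298 : act 8 n17415 = n22298 := rfl
theorem F99676 : act 0 n22298 = n22298 := d7_1 D22298 (iv D22298) F78458
theorem F99677 : act 6 n22298 = n17416 := d40_1 D22298 (iv D17416) D17415
theorem F99678 : act 7 n22298 = n22298 := d42_1 D22298 (iv D22298) F78460
def n22304 : Q := act 6 n17421
theorem D22304 : act 6 n17421 = n22304 := rfl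
theorem F99699 : act 2 n22304 = n17423 := d20_1 D22304 (iv D17423) (iv F78479)
def n22305 : Q := act 8 n17421
theorem D22305 : act 8 n17421 = n22305 := rfl
theorem F99707 : act 7 n22305 = n17422 := d42_1 D22305 (iv D17422) D17421
def n22306 : Q := act 9 n17422
theorem D22306 : act 9 n17422 = n22306 := rfl
theorem F99709 : act 2 n22306 = n17425 := d23_1 D22306 (iv D17425) (iv F78483)
def n22307 : Q := act 8 n17423
theorem D22307 : act 8 n17423 = n22307 := rfl
theorem F99716 : act 6 n22307 = n17424 := d40_1 D22307 (iv D17424) D17423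
def n22310 : Q := act 9 n17426
theorem D22310 : act 9 n17426 = n22310 := rfl
def n22311 : Q := act 5 n17428
theorem D22311 : act 5 n17428 = n22311 := rfl
theorem F99730 : act 0 n22311 = n17429 := d4_1 D22311 (iv D17429) (iv F78508)
theorem F99733 : act 9 n22311 = n17438 := d38_2 (iv F78511) D22311 (iv D17438)
def n22312 : Q := act 7 n17428
theorem D22312 : act 7 n17428 = n22312 := rfl
theorem F99737 : act 9 n22312 = n17439 := d43_2 (iv F78511) D22312 (iv D17439)
def n22313 : Q := act 7 n17429
theorem D22313 : act 7 n17429 = n22313 := rfl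
theorem F99738 : act 1 n22313 = n17431 := d14_1 D22313 (iv D17431) (iv F78512)
def n22314 : Q := act 6 n17431
theorem D22314 : act 6 n17431 = n22314 := rfl
theorem F99741 : act 0 n22314 = n22314 := d5_1 D22314 (iv D22314) F78518
theorem F99742 : act 2 n22314 = n17433 := d20_1 D22314 (iv D17433) (iv F78519)
theorem F99743 : act 7 n22314 = n22314 := d39_2 D17431 D22314 (iv D22314) (iv D17431) F61523
theorem F99744 : act 9 n22314 = n17445 := d41_2 (iv F78521) D22314 (iv D17445)
def n22315 : Q := act 6 n17432
theorem D22315 : act 6 n17432 = n22315 := rfl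
theorem F99745 : act 0 n22315 = n22315 := d5_1 D22315 (iv D22315) F78522
theorem F99746 : act 3 n22315 = n22315 := d26_1 D22315 (iv D22315) F78523
theorem F99747 : act 4 n22315 = n17433 := d31_1 D22315 (iv D17433) (iv F78524)
theorem F99748 : act 5 n22315 = n22315 := d35_1 D22315 (iv D22315) F78525 F61738 (iv F78525)
theorem F99749 : act 7 n22315 = n22315 := d39_2 D17432 D22315 (iv D22315) (iv D17432) F61532
theorem F99750 : act 9 n22315 = n17448 := d41_2 (iv F78526) D22315 (iv D17448)
def n22316 : Q := act 8 n17433
theorem D22316 : act 8 n17433 = n22316 := rfl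
theorem F99751 : act 0 n22316 = n22316 := d7_1 D22316 (iv D22316) F78527
theorem F99752 : act 3 n22316 = n17436 := d28_1 D22316 (iv D17436) (iv F78528)
theorem F99753 : act 6 n22316 = n17434 := d40_1 D22316 (iv D17434) D17433
theorem F99754 : act 7 n22316 = n22316 := d42_1 D22316 (iv D22316) F78529
def n22317 : Q := act 9 n17434
theorem D22317 : act 9 n17434 = n22317 := rfl
theorem F99755 : act 0 n22317 = n22317 := d8_1 D22317 (iv D22317) F78531
theorem F99756 : act 3 n22317 = n17437 := d29_1 D22317 (iv D17437) (iv F78532)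
theorem F99757 : act 7 n22317 = n17435 := d43_1 D22317 (iv D17435) (iv F78533)
theorem F99758 : act 8 n22317 = n17452 := d44_1 D22317 (iv D17452) (iv D13523) (iv F61537) D17434
def n22318 : Q := act 5 n17436
theorem D22318 : act 5 n17436 = n22318 := rfl
theorem F99759 : act 0 n22318 = n22318 := d4_1 D22318 (iv D22318) F78538
theorem F99760 : act 7 n22318 = n22318 := d36_2 F78541 D22318 (iv D22318)
def n22319 : Q := act 9 n17436
theorem D22319 : act 9 n17436 = n22319 := rfl
theorem F99761 : act 0 n22319 = n22319 := d8_1 D22319 (iv D22319) F78538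
theorem F99762 : act 4 n22319 = n22319 := d34_1 D22319 (iv D22319) F78539
theorem F99763 : act 6 n22319 = n17437 := d41_1 D22319 (iv D17437) (iv F78540)
theorem F99764 : act 7 n22319 = n22319 := d43_1 D22319 (iv D22319) F78541
theorem F99765 : act 8 n22319 = n17454 := d44_1 D22319 (iv D17454) (iv D13525) (iv F61544) D17436
def n22320 : Q := act 4 n17438
theorem D22320 : act 4 n17438 = n22320 := rfl
theorem F99768 : act 5 n22320 = n17493 := d30_2 D17438 D22320 (iv D17493) (iv D13564) (iv F61554)
def n22321 : Q := act 7 n17438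
theorem D22321 : act 7 n17438 = n22321 := rfl
theorem F99772 : act 5 n22321 = n17439 := d36_1 D22321 (iv D17439) D17438
def n22322 : Q := act 8 n17438
theorem D22322 : act 8 n17438 = n22322 := rfl
theorem F99775 : act 5 n22322 = n17474 := d37_1 D22322 (iv D17474) (iv D13540) (iv F61555) D17438
def n22323 : Q := act 7 n17440
theorem D22323 : act 7 n17440 = n22323 := rfl
def n22324 : Q := act 8 n17440
theorem D22324 : act 8 n17440 = n22324 := rfl
theorem F99781 : act 4 n22324 = n17442 := d33_1 D22324 (iv D17442) D17440
def n22325 : Q := act 6 n17441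
theorem D22325 : act 6 n17441 = n22325 := rfl
theorem F99784 : act 1 n22325 = n17445 := d13_1 D22325 (iv D17445) (iv F78556)
def n22327 : Q := act 9 n17442
theorem D22327 : act 9 n17442 = n22327 := rfl
def n22328 : Q := act 6 n17443
theorem D22328 : act 6 n17443 = n22328 := rfl
theorem F99792 : act 0 n22328 = n22328 := d5_1 D22328 (iv D22328) F78561
theorem F99793 : act 2 n22328 = n17448 := d20_1 D22328 (iv D17448) (iv F78562)
theorem F99794 : act 4 n22328 = n17445 := d31_1 D22328 (iv D17445) (iv F78563)
theorem F99795 : act 5 n22328 = n22328 := d35_1 D22328 (iv D22328) F78564 F61765 (iv F78564)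
theorem F99796 : act 7 n22328 = n22328 := d39_2 D17443 D22328 (iv D22328) (iv D17443) F61564
def n22329 : Q := act 8 n17443
theorem D22329 : act 8 n17443 = n22329 := rfl
theorem F99801 : act 7 n22329 = n17444 := d42_1 D22329 (iv D17444) D17443
def n22330 : Q := act 8 n17445
theorem D22330 : act 8 n17445 = n22330 := rfl
theorem F99803 : act 2 n22330 = n17451 := d22_1 D22330 (iv D17451) (iv F78571)
theorem F99804 : act 6 n22330 = n17446 := d40_1 D22330 (iv D17446) D17445
def n22331 : Q := act 9 n17446
theorem D22331 : act 9 n17446 = n22331 := rfl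
theorem F99809 : act 7 n22331 = n17447 := d43_1 D22331 (iv D17447) (iv F78576)
def n22332 : Q := act 8 n17448
theorem D22332 : act 8 n17448 = n22332 := rfl
theorem F99810 : act 0 n22332 = n22332 := d7_1 D22332 (iv D22332) F78581
theorem F99811 : act 3 n22332 = n22332 := d28_1 D22332 (iv D22332) F78582
theorem F99812 : act 4 n22332 = n17451 := d33_1 D22332 (iv D17451) (iv F78583)
theorem F99813 : act 6 n22332 = n17449 := d40_1 D22332 (iv D17449) D17448
theorem F99814 : act 7 n22332 = n22332 := d42_1 D22332 (iv D22332) F78585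
def n22333 : Q := act 9 n17449
theorem D22333 : act 9 n17449 = n22333 := rfl
theorem F99815 : act 0 n22333 = n22333 := d8_1 D22333 (iv D22333) F78586
theorem F99816 : act 3 n22333 = n22333 := d29_1 D22333 (iv D22333) F78587
theorem F99817 : act 4 n22333 = n17452 := d34_1 D22333 (iv D17452) (iv F78588)
theorem F99818 : act 5 n22333 = n22333 := d38_1 D22333 (iv D22333) F78589
theorem F99819 : act 7 n22333 = n17450 := d43_1 D22333 (iv D17450) (iv F78590)
def n22334 : Q := act 5 n17451
theorem D22334 : act 5 n17451 = n22334 := rfl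
theorem F99822 : act 6 n22334 = n17480 := d35_2 (iv F78598) D22334 (iv D17480) F61672 (iv F61586)
def n22335 : Q := act 9 n17451
theorem D22335 : act 9 n17451 = n22335 := rfl
theorem F99824 : act 0 n22335 = n22335 := d8_1 D22335 (iv D22335) F78596
theorem F99825 : act 3 n22335 = n17454 := d29_1 D22335 (iv D17454) (iv F78597)
theorem F99826 : act 6 n22335 = n17452 := d41_1 D22335 (iv D17452) (iv F78598)
theorem F99827 : act 7 n22335 = n22335 := d43_1 D22335 (iv D22335) F78599
def n22336 : Q := act 4 n17453
theorem D22336 : act 4 n17453 = n22336 := rfl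
theorem F99830 : act 6 n22336 = n17482 := d31_2 (iv F78605) D22336 (iv D17482)
def n22337 : Q := act 9 n17453
theorem D22337 : act 9 n17453 = n22337 := rfl
theorem F99833 : act 5 n22337 = n17454 := d38_1 D22337 (iv D17454) D17453
theorem F99834 : act 6 n22337 = n17483 := d41_1 D22337 (iv D17483) (iv F78605)
def n22351 : Q := act 5 n17469
theorem D22351 : act 5 n17469 = n22351 := rfl
theorem F99887 : act 7 n22351 = n17983 := d36_2 (iv F78666) D22351 (iv D17983)
theorem F99888 : act 8 n22351 = n17480 := d37_2 D17469 D22351 (iv D17480) (iv D13547) (iv F61629)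
def n22357 : Q := act 9 n17474
theorem D22357 : act 9 n17474 = n22357 := rfl
def n22358 : Q := act 8 n17475
theorem D22358 : act 8 n17475 = n22358 := rfl
theorem F99914 : act 6 n22358 = n17476 := d40_1 D22358 (iv D17476) D17475
def n22370 : Q := act 7 n17490
theorem D22370 : act 7 n17490 = n22370 := rfl
theorem F99964 : act 5 n22370 = n17491 := d36_1 D22370 (iv D17491) D17490
theorem F99966 : act 9 n22370 = n17494 := d43_2 (iv F78752) D22370 (iv D17494)
def n22371 : Q := act 7 n17493
theorem D22371 : act 7 n17493 = n22371 := rfl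
def n22374 : Q := act 0 n17503
theorem D22374 : act 0 n17503 = n22374 := rfl
theorem F99985 : act 8 n22374 = n17515 := d7_2 (iv F78813) D22374 (iv D17515)
def n22377 : Q := act 7 n17504
theorem D22377 : act 7 n17504 = n22377 := rfl
theorem F99997 : act 4 n22377 = n18069 := d32_1 D22377 (iv D18069) (iv F78817)
def n22384 : Q := act 7 n17510
theorem D22384 : act 7 n17510 = n22384 := rfl
theorem F100031 : act 6 n22384 = n17518 := d39_1 D22384 (iv D17518) (iv D13588) (iv F61835) D17510
theorem F100032 : act 9 n22384 = n17843 := d43_2 (iv F78846) D22384 (iv D17843)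
def n22387 : Q := act 6 n17513
theorem D22387 : act 6 n17513 = n22387 := rfl
theorem F100044 : act 5 n22387 = n17522 := d35_1 D22387 (iv D17522) F61870 (iv F61849) (iv F78860)
def n22388 : Q := act 8 n17513
theorem D22388 : act 8 n17513 = n22388 := rfl
theorem F100049 : act 7 n22388 = n17514 := d42_1 D22388 (iv D17514) D17513
def n22390 : Q := act 6 n17515
theorem D22390 : act 6 n17515 = n22390 := rfl
theorem F100058 : act 9 n22390 = n17848 := d41_2 (iv F78868) D22390 (iv D17848)
def n22392 : Q := act 7 n17516
theorem D22392 : act 7 n17516 = n22392 := rfl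
theorem F100064 : act 4 n22392 = n18080 := d32_1 D22392 (iv D18080) (iv F78871)
theorem F100065 : act 9 n22392 = n17850 := d43_2 (iv F78872) D22392 (iv D17850)
def n22396 : Q := act 7 n17519
theorem D22396 : act 7 n17519 = n22396 := rfl
theorem F100079 : act 4 n22396 = n17520 := d32_1 D22396 (iv D17520) D17519
theorem F100080 : act 5 n22396 = n18084 := d36_1 D22396 (iv D18084) (iv F78883)
def n22403 : Q := act 4 n17525
theorem D22403 : act 4 n17525 = n22403 := rfl
theorem F100111 : act 5 n22403 = n18091 := d30_2 D17525 D22403 (iv D18091) (iv D14056) (iv F61878)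
theorem F100112 : act 9 n22403 = n17861 := d34_2 (iv F78908) D22403 (iv D17861)
def n22405 : Q := act 8 n17525
theorem D22405 : act 8 n17525 = n22405 := rfl
def n22420 : Q := act 0 n17537
theorem D22420 : act 0 n17537 = n22420 := rfl
def n22421 : Q := act 6 n17537
theorem D22421 : act 6 n17537 = n22421 := rfl
def n22423 : Q := act 7 n17538
theorem D22423 : act 7 n17538 = n22423 := rfl
def n22430 : Q := act 0 n17543
theorem D22430 : act 0 n17543 = n22430 := rfl
theorem F100217 : act 8 n22430 = n17559 := d7_2 (iv F78980) D22430 (iv D17559)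
def n22431 : Q := act 6 n17543
theorem D22431 : act 6 n17543 = n22431 := rfl
theorem F100220 : act 2 n22431 = n17621 := d20_1 D22431 (iv D17621) (iv F78977)
theorem F100221 : act 4 n22431 = n18115 := d31_1 D22431 (iv D18115) (iv F78978)
def n22432 : Q := act 5 n17544
theorem D22432 : act 5 n17544 = n22432 := rfl
def n22433 : Q := act 7 n17544
theorem D22433 : act 7 n17544 = n22433 := rfl
theorem F100229 : act 6 n22433 = n17552 := d39_1 D22433 (iv D17552) (iv D13611) (iv F61928) D17544
def n22434 : Q := act 7 n17545
theorem D22434 : act 7 n17545 = n22434 := rfl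
theorem F100235 : act 5 n22434 = n17546 := d36_1 D22434 (iv D17546) D17545
def n22436 : Q := act 6 n17547
theorem D22436 : act 6 n17547 = n22436 := rfl
theorem F100241 : act 1 n22436 = n17626 := d13_1 D22436 (iv D17626) (iv F78996)
theorem F100242 : act 5 n22436 = n17556 := d35_1 D22436 (iv D17556) F61961 (iv F61940) (iv F78997)
def n22437 : Q := act 8 n17547
theorem D22437 : act 8 n17547 = n22437 := rfl
theorem F100245 : act 5 n22437 = n17567 := d37_1 D22437 (iv D17567) F61983 (iv F61941) (iv F78997)
def n22440 : Q := act 5 n17550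
theorem D22440 : act 5 n17550 = n22440 := rfl
def n22441 : Q := act 7 n17550
theorem D22441 : act 7 n17550 = n22441 := rfl
theorem F100260 : act 4 n22441 = n18119 := d32_1 D22441 (iv D18119) (iv F79007)
def n22445 : Q := act 7 n17553
theorem D22445 : act 7 n17553 = n22445 := rfl
theorem F100273 : act 4 n22445 = n17554 := d32_1 D22445 (iv D17554) D17553
theorem F100274 : act 5 n22445 = n18123 := d36_1 D22445 (iv D18123) (iv F79018)
def n22452 : Q := act 7 n17560
theorem D22452 : act 7 n17560 = n22452 := rfl
theorem F100300 : act 4 n22452 = n18128 := d32_1 D22452 (iv D18128) (iv F79044)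
theorem F100301 : act 6 n22452 = n17571 := d39_1 D22452 (iv D17571) (iv D13623) (iv F61968) D17560
def n22454 : Q := act 8 n17561
theorem D22454 : act 8 n17561 = n22454 := rfl
def n22458 : Q := act 8 n17564
theorem D22458 : act 8 n17564 = n22458 := rfl
theorem F100321 : act 3 n22458 = n17567 := d28_1 D22458 (iv D17567) (iv F79057)
def n22462 : Q := act 5 n17569
theorem D22462 : act 5 n17569 = n22462 := rfl
theorem F100333 : act 0 n22462 = n17570 := d4_1 D22462 (iv D17570) (iv F79072)
theorem F100335 : act 9 n22462 = n17886 := d38_2 (iv F79075) D22462 (iv D17886)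
def n22463 : Q := act 7 n17569
theorem D22463 : act 7 n17569 = n22463 := rfl
theorem F100336 : act 0 n22463 = n17571 := d6_1 D22463 (iv D17571) (iv F79072)
theorem F100338 : act 4 n22463 = n18133 := d32_1 D22463 (iv D18133) (iv F79074)
def n22464 : Q := act 4 n17570
theorem D22464 : act 4 n17570 = n22464 := rfl
theorem F100342 : act 5 n22464 = n18134 := d30_2 D17570 D22464 (iv D18134) (iv D14092) (iv F61992)
def n22465 : Q := act 7 n17570
theorem D22465 : act 7 n17570 = n22465 := rfl
def n22466 : Q := act 8 n17570
theorem D22466 : act 8 n17570 = n22466 := rfl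
def n22468 : Q := act 7 n17572
theorem D22468 : act 7 n17572 = n22468 := rfl
theorem F100354 : act 4 n22468 = n17573 := d32_1 D22468 (iv D17573) D17572
theorem F100355 : act 5 n22468 = n18138 := d36_1 D22468 (iv D18138) (iv F79084)
def n22474 : Q := act 8 n17575
theorem D22474 : act 8 n17575 = n22474 := rfl
theorem F100371 : act 4 n22474 = n17578 := d33_1 D22474 (iv D17578) (iv F79092)
def n22498 : Q := act 9 n17594
theorem D22498 : act 9 n17594 = n22498 := rfl
theorem F100455 : act 5 n22498 = n17595 := d38_1 D22498 (iv D17595) D17594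
def n22499 : Q := act 0 n17596
theorem D22499 : act 0 n17596 = n22499 := rfl
def n22500 : Q := act 6 n17596
theorem D22500 : act 6 n17596 = n22500 := rfl
def n22501 : Q := act 5 n17597
theorem D22501 : act 5 n17597 = n22501 := rfl
theorem F100469 : act 6 n22501 = n18169 := d35_2 D17597 D22501 (iv D18169) (iv D14119) (iv F62056)
def n22502 : Q := act 7 n17597
theorem D22502 : act 7 n17597 = n22502 := rfl
theorem F100472 : act 2 n22502 = n17599 := d21_1 D22502 (iv D17599) (iv F79168)
def n22504 : Q := act 7 n17598
theorem D22504 : act 7 n17598 = n22504 := rfl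
theorem F100483 : act 5 n22504 = n17599 := d36_1 D22504 (iv D17599) D17598
def n22508 : Q := act 0 n17602
theorem D22508 : act 0 n17602 = n22508 := rfl
theorem F100501 : act 5 n22508 = n17620 := d4_2 (iv F79191) D22508 (iv D17620)
theorem F100502 : act 7 n22508 = n17608 := d6_2 (iv F79192) D22508 (iv D17608)
def n22509 : Q := act 6 n17602
theorem D22509 : act 6 n17602 = n22509 := rfl
def n22510 : Q := act 5 n17603
theorem D22510 : act 5 n17603 = n22510 := rfl
theorem F100508 : act 2 n22510 = n17604 := d19_1 D22510 (iv D17604) (iv F79195)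
theorem F100511 : act 6 n22510 = n17622 := d35_2 D17603 D22510 (iv D17622) (iv D13659) (iv F62073)
def n22511 : Q := act 7 n17603
theorem D22511 : act 7 n17603 = n22511 := rfl
def n22513 : Q := act 8 n17604
theorem D22513 : act 8 n17604 = n22513 := rfl
theorem F100526 : act 6 n22513 = n17625 := d40_1 D22513 (iv D17625) (iv F79201)
def n22514 : Q := act 6 n17606
theorem D22514 : act 6 n17606 = n22514 := rfl
theorem F100529 : act 5 n22514 = n17615 := d35_1 D22514 (iv D17615) F62105 (iv F62086) (iv F79209)
theorem F100530 : act 7 n22514 = n17626 := d39_2 D17606 D22514 (iv D17626) (iv D13662) (iv F62081)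
def n22515 : Q := act 8 n17606
theorem D22515 : act 8 n17606 = n22515 := rfl
theorem F100534 : act 7 n22515 = n17607 := d42_1 D22515 (iv D17607) D17606
def n22516 : Q := act 9 n17607
theorem D22516 : act 9 n17607 = n22516 := rfl
def n22517 : Q := act 6 n17608
theorem D22517 : act 6 n17608 = n22517 := rfl
def n22520 : Q := act 4 n17610
theorem D22520 : act 4 n17610 = n22520 := rfl
theorem F100552 : act 6 n22520 = n17632 := d31_2 (iv F79224) D22520 (iv D17632)
def n22522 : Q := act 8 n17610
theorem D22522 : act 8 n17610 = n22522 := rfl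
theorem F100560 : act 2 n22522 = n17614 := d22_1 D22522 (iv D17614) (iv F79222)
theorem F100561 : act 3 n22522 = n17702 := d28_1 D22522 (iv D17702) (iv F79223)
def n22529 : Q := act 9 n17616
theorem D22529 : act 9 n17616 = n22529 := rfl
theorem F100588 : act 2 n22529 = n17709 := d23_1 D22529 (iv D17709) (iv F79247)
def n22530 : Q := act 6 n17618
theorem D22530 : act 6 n17618 = n22530 := rfl
theorem F100595 : act 4 n22530 = n17626 := d31_1 D22530 (iv D17626) (iv F79258)
def n22533 : Q := act 6 n17620
theorem D22533 : act 6 n17620 = n22533 := rfl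
theorem F100612 : act 3 n22533 = n17716 := d26_1 D22533 (iv D17716) (iv F79267)
theorem F100614 : act 8 n22533 = n17642 := d40_2 (iv F79270) D22533 (iv D17642)
def n22534 : Q := act 5 n17621
theorem D22534 : act 5 n17621 = n22534 := rfl
theorem F100617 : act 3 n22534 = n17717 := d25_1 D22534 (iv D17717) (iv F79273)
def n22536 : Q := act 7 n17622
theorem D22536 : act 7 n17622 = n22536 := rfl
theorem F100630 : act 5 n22536 = n17623 := d36_1 D22536 (iv D17623) D17622
def n22537 : Q := act 8 n17622
theorem D22537 : act 8 n17622 = n22537 := rfl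
theorem F100633 : act 2 n22537 = n17625 := d22_1 D22537 (iv D17625) (iv F79278)
theorem F100634 : act 3 n22537 = n17721 := d28_1 D22537 (iv D17721) (iv F79279)
def n22538 : Q := act 6 n17624
theorem D22538 : act 6 n17624 = n22538 := rfl
theorem F100638 : act 3 n22538 = n17626 := d26_1 D22538 (iv D17626) (iv F79290)
theorem F100640 : act 5 n22538 = n17637 := d35_1 D22538 (iv D17637) F62177 (iv F62141) (iv F79292)
def n22540 : Q := act 9 n17625
theorem D22540 : act 9 n17625 = n22540 := rfl
def n22541 : Q := act 8 n17626
theorem D22541 : act 8 n17626 = n22541 := rfl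
def n22545 : Q := act 4 n17630
theorem D22545 : act 4 n17630 = n22545 := rfl
theorem F100671 : act 5 n22545 = n18184 := d30_2 D17630 D22545 (iv D18184) (iv D14133) (iv F62158)
def n22546 : Q := act 7 n17630
theorem D22546 : act 7 n17630 = n22546 := rfl
theorem F100675 : act 5 n22546 = n17631 := d36_1 D22546 (iv D17631) D17630
def n22548 : Q := act 3 n17632
theorem D22548 : act 3 n17632 = n22548 := rfl
theorem F100682 : act 4 n22548 = n17734 := d24_2 D17632 D22548 (iv D17734) (iv D13741) (iv F62163)
theorem F100683 : act 5 n22548 = n18187 := d25_2 (iv F79326) D22548 (iv D18187)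
def n22549 : Q := act 7 n17632
theorem D22549 : act 7 n17632 = n22549 := rfl
theorem F100687 : act 4 n22549 = n17633 := d32_1 D22549 (iv D17633) D17632
theorem F100688 : act 5 n22549 = n18188 := d36_1 D22549 (iv D18188) (iv F79326)
def n22550 : Q := act 8 n17632
theorem D22550 : act 8 n17632 = n22550 := rfl
theorem F100692 : act 4 n22550 = n17634 := d33_1 D22550 (iv D17634) D17632
def n22551 : Q := act 6 n17633
theorem D22551 : act 6 n17633 = n22551 := rfl
def n22552 : Q := act 8 n17633
theorem D22552 : act 8 n17633 = n22552 := rfl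
theorem F100699 : act 3 n22552 = n17738 := d28_1 D22552 (iv D17738) (iv F79330)
theorem F100700 : act 5 n22552 = n17663 := d37_1 D22552 (iv D17663) F62258 (iv F62169) (iv F79331)
def n22553 : Q := act 9 n17634
theorem D22553 : act 9 n17634 = n22553 := rfl
theorem F100705 : act 5 n22553 = n17664 := d38_1 D22553 (iv D17664) (iv F79336)
def n22555 : Q := act 8 n17635
theorem D22555 : act 8 n17635 = n22555 := rfl
theorem F100714 : act 4 n22555 = n17638 := d33_1 D22555 (iv D17638) (iv F79339)
def n22563 : Q := act 7 n17643
theorem D22563 : act 7 n17643 = n22563 := rfl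
theorem F100747 : act 3 n22563 = n17750 := d27_1 D22563 (iv D17750) (iv F79372)
theorem F100749 : act 9 n22563 = n17924 := d43_2 (iv F79373) D22563 (iv D17924)
def n22564 : Q := act 8 n17643
theorem D22564 : act 8 n17643 = n22564 := rfl
theorem F100751 : act 3 n22564 = n17751 := d28_1 D22564 (iv D17751) (iv F79372)
def n22565 : Q := act 3 n17645
theorem D22565 : act 3 n17645 = n22565 := rfl
theorem F100755 : act 4 n22565 = n17752 := d24_2 D17645 D22565 (iv D17752) (iv D13754) (iv F62207)
def n22566 : Q := act 7 n17645
theorem D22566 : act 7 n17645 = n22566 := rfl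
theorem F100760 : act 4 n22566 = n17646 := d32_1 D22566 (iv D17646) D17645
theorem F100761 : act 5 n22566 = n18198 := d36_1 D22566 (iv D18198) (iv F79381)
def n22567 : Q := act 8 n17645
theorem D22567 : act 8 n17645 = n22567 := rfl
theorem F100764 : act 2 n22567 = n17649 := d22_1 D22567 (iv D17649) (iv F79380)
def n22568 : Q := act 6 n17646
theorem D22568 : act 6 n17646 = n22568 := rfl
theorem F100769 : act 3 n22568 = n17755 := d26_1 D22568 (iv D17755) (iv F79385)
theorem F100770 : act 5 n22568 = n17662 := d35_1 D22568 (iv D17662) F62258 (iv F62213) (iv F79386)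
def n22569 : Q := act 8 n17646
theorem D22569 : act 8 n17646 = n22569 := rfl
theorem F100774 : act 3 n22569 = n17756 := d28_1 D22569 (iv D17756) (iv F79385)
def n22570 : Q := act 9 n17647
theorem D22570 : act 9 n17647 = n22570 := rfl
theorem F100777 : act 2 n22570 = n17652 := d23_1 D22570 (iv D17652) (iv F79389)
def n22571 : Q := act 6 n17648
theorem D22571 : act 6 n17648 = n22571 := rfl
def n22573 : Q := act 9 n17649
theorem D22573 : act 9 n17649 = n22573 := rfl
theorem F100793 : act 8 n22573 = n17931 := d44_1 D22573 (iv D17931) (iv D13900) (iv F62218) D17649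
def n22574 : Q := act 8 n17650
theorem D22574 : act 8 n17650 = n22574 := rfl
theorem F100795 : act 3 n22574 = n17653 := d28_1 D22574 (iv D17653) (iv F79401)
def n22576 : Q := act 5 n17653
theorem D22576 : act 5 n17653 = n22576 := rfl
theorem F100803 : act 8 n22576 = n17671 := d37_2 D17653 D22576 (iv D17671) (iv D13695) (iv F62228)
def n22578 : Q := act 4 n17655
theorem D22578 : act 4 n17655 = n22578 := rfl
theorem F100809 : act 0 n22578 = n17657 := d3_1 D22578 (iv D17657) (iv F79419)
theorem F100812 : act 5 n22578 = n18201 := d30_2 D17655 D22578 (iv D18201) (iv D14150) (iv F62241)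
def n22581 : Q := act 7 n17657
theorem D22581 : act 7 n17657 = n22581 := rfl
theorem F100824 : act 4 n22581 = n17658 := d32_1 D22581 (iv D17658) D17657
theorem F100825 : act 5 n22581 = n18204 := d36_1 D22581 (iv D18204) (iv F79430)
def n22582 : Q := act 8 n17657
theorem D22582 : act 8 n17657 = n22582 := rfl
theorem F100829 : act 4 n22582 = n17659 := d33_1 D22582 (iv D17659) D17657
def n22583 : Q := act 6 n17658
theorem D22583 : act 6 n17658 = n22583 := rfl
def n22584 : Q := act 8 n17658
theorem D22584 : act 8 n17658 = n22584 := rfl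
def n22587 : Q := act 8 n17660
theorem D22587 : act 8 n17660 = n22587 := rfl
theorem F100847 : act 4 n22587 = n17663 := d33_1 D22587 (iv D17663) (iv F79441)
def n22588 : Q := act 5 n17661
theorem D22588 : act 5 n17661 = n22588 := rfl
theorem F100852 : act 8 n22588 = n18211 := d37_2 D17661 D22588 (iv D18211) (iv D14156) (iv F62253)
def n22590 : Q := act 8 n17662
theorem D22590 : act 8 n17662 = n22590 := rfl
theorem F100860 : act 3 n22590 = n17771 := d28_1 D22590 (iv D17771) (iv F79450)
theorem F100861 : act 6 n22590 = n17663 := d40_1 D22590 (iv D17663) D17662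
def n22594 : Q := act 5 n17666
theorem D22594 : act 5 n17666 = n22594 := rfl
theorem F100878 : act 8 n22594 = n18217 := d37_2 D17666 D22594 (iv D18217) (iv D14161) (iv F62266)
def n22617 : Q := act 8 n17683
theorem D22617 : act 8 n17683 = n22617 := rfl
def n22635 : Q := act 7 n17697
theorem D22635 : act 7 n17697 = n22635 := rfl
def n22640 : Q := act 7 n17700
theorem D22640 : act 7 n17700 = n22640 := rfl
theorem F101056 : act 2 n22640 = n17703 := d21_1 D22640 (iv D17703) (iv F79600)
def n22641 : Q := act 8 n17700
theorem D22641 : act 8 n17700 = n22641 := rfl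
theorem F101062 : act 4 n22641 = n17702 := d33_1 D22641 (iv D17702) D17700
theorem F101063 : act 6 n22641 = n17736 := d40_1 D22641 (iv D17736) (iv F79602)
def n22643 : Q := act 8 n17701
theorem D22643 : act 8 n17701 = n22643 := rfl
theorem F101069 : act 2 n22643 = n17706 := d22_1 D22643 (iv D17706) (iv F79605)
theorem F101070 : act 7 n22643 = n17702 := d42_1 D22643 (iv D17702) D17701
def n22644 : Q := act 9 n17702
theorem D22644 : act 9 n17702 = n22644 := rfl
theorem F101073 : act 6 n22644 = n17739 := d41_1 D22644 (iv D17739) (iv F79610)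
def n22645 : Q := act 6 n17703
theorem D22645 : act 6 n17703 = n22645 := rfl
theorem F101077 : act 4 n22645 = n17705 := d31_1 D22645 (iv D17705) (iv F79613)
theorem F101078 : act 7 n22645 = n17740 := d39_2 D17703 D22645 (iv D17740) (iv D13744) (iv F62376)
def n22646 : Q := act 8 n17703
theorem D22646 : act 8 n17703 = n22646 := rfl
theorem F101082 : act 4 n22646 = n17706 := d33_1 D22646 (iv D17706) (iv F79613)
def n22647 : Q := act 5 n17704
theorem D22647 : act 5 n17704 = n22647 := rfl
def n22649 : Q := act 8 n17705
theorem D22649 : act 8 n17705 = n22649 := rfl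
theorem F101095 : act 6 n22649 = n17706 := d40_1 D22649 (iv D17706) D17705
theorem F101096 : act 7 n22649 = n17743 := d42_1 D22649 (iv D17743) (iv F79622)
def n22650 : Q := act 9 n17706
theorem D22650 : act 9 n17706 = n22650 := rfl
theorem F101098 : act 3 n22650 = n17709 := d29_1 D22650 (iv D17709) (iv F79625)
def n22651 : Q := act 5 n17708
theorem D22651 : act 5 n17708 = n22651 := rfl
theorem F101102 : act 7 n22651 = n17745 := d36_2 (iv F79634) D22651 (iv D17745)
def n22652 : Q := act 9 n17708
theorem D22652 : act 9 n17708 = n22652 := rfl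
theorem F101105 : act 6 n22652 = n17709 := d41_1 D22652 (iv D17709) (iv F79633)
def n22653 : Q := act 7 n17710
theorem D22653 : act 7 n17710 = n22653 := rfl
theorem F101110 : act 3 n22653 = n17722 := d27_1 D22653 (iv D17722) (iv F79641)
theorem F101111 : act 4 n22653 = n17711 := d32_1 D22653 (iv D17711) D17710
theorem F101112 : act 5 n22653 = n17780 := d36_1 D22653 (iv D17780) (iv F79642)
def n22656 : Q := act 8 n17711
theorem D22656 : act 8 n17711 = n22656 := rfl
theorem F101125 : act 3 n22656 = n17714 := d28_1 D22656 (iv D17714) (iv F79646)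
def n22662 : Q := act 4 n17717
theorem D22662 : act 4 n17717 = n22662 := rfl
theorem F101152 : act 5 n22662 = n17789 := d30_2 D17717 D22662 (iv D17789) (iv D13784) (iv F62420)
def n22666 : Q := act 8 n17719
theorem D22666 : act 8 n17719 = n22666 := rfl
theorem F101168 : act 4 n22666 = n17721 := d33_1 D22666 (iv D17721) D17719
def n22670 : Q := act 6 n17722
theorem D22670 : act 6 n17722 = n22670 := rfl
theorem F101182 : act 4 n22670 = n17724 := d31_1 D22670 (iv D17724) (iv F79690)
def n22671 : Q := act 8 n17722
theorem D22671 : act 8 n17722 = n22671 := rfl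
theorem F101185 : act 4 n22671 = n17725 := d33_1 D22671 (iv D17725) (iv F79690)
def n22674 : Q := act 8 n17724
theorem D22674 : act 8 n17724 = n22674 := rfl
theorem F101195 : act 6 n22674 = n17725 := d40_1 D22674 (iv D17725) D17724
def n22681 : Q := act 3 n17731
theorem D22681 : act 3 n17731 = n22681 := rfl
theorem F101218 : act 1 n22681 = n17734 := d10_1 D22681 (iv D17734) (iv F79721)
theorem F101219 : act 5 n22681 = n17806 := d25_2 (iv F79722) D22681 (iv D17806)
def n22687 : Q := act 7 n17734
theorem D22687 : act 7 n17734 = n22687 := rfl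
theorem F101238 : act 3 n22687 = n17735 := d27_1 D22687 (iv D17735) D17734
def n22688 : Q := act 8 n17734
theorem D22688 : act 8 n17734 = n22688 := rfl
theorem F101243 : act 3 n22688 = n17736 := d28_1 D22688 (iv D17736) D17734
def n22689 : Q := act 6 n17735
theorem D22689 : act 6 n17735 = n22689 := rfl
def n22691 : Q := act 9 n17736
theorem D22691 : act 9 n17736 = n22691 := rfl
theorem F101256 : act 4 n22691 = n17739 := d34_1 D22691 (iv D17739) (iv F79740)
def n22694 : Q := act 5 n17740
theorem D22694 : act 5 n17740 = n22694 := rfl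
theorem F101269 : act 6 n22694 = n17811 := d35_2 D17740 D22694 (iv D17811) (iv D13803) (iv F62476)
def n22695 : Q := act 8 n17740
theorem D22695 : act 8 n17740 = n22695 := rfl
theorem F101274 : act 6 n22695 = n17741 := d40_1 D22695 (iv D17741) D17740
def n22696 : Q := act 9 n17741
theorem D22696 : act 9 n17741 = n22696 := rfl
def n22700 : Q := act 9 n17745
theorem D22700 : act 9 n17745 = n22700 := rfl
def n22701 : Q := act 4 n17747
theorem D22701 : act 4 n17747 = n22701 := rfl
theorem F101297 : act 5 n22701 = n17812 := d30_2 D17747 D22701 (iv D17812) (iv D13804) (iv F62503)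
def n22704 : Q := act 3 n17749
theorem D22704 : act 3 n17749 = n22704 := rfl
theorem F101307 : act 4 n22704 = n17869 := d24_2 D17749 D22704 (iv F95129) F95130 F79372
theorem F101308 : act 5 n22704 = n17815 := d25_2 (iv F79790) D22704 (iv D17815)
theorem F101309 : act 9 n22704 = n17866 := d29_2 (iv F79791) D22704 F80289
theorem F101310 : act 2 n17873 = n22704 := d23_3 F101309 F80288 D17873
def n22705 : Q := act 7 n17749
theorem D22705 : act 7 n17749 = n22705 := rfl
theorem F101312 : act 4 n22705 = n17750 := d32_1 D22705 (iv D17750) D17749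
theorem F101313 : act 5 n22705 = n17816 := d36_1 D22705 (iv D17816) (iv F79790)
def n22706 : Q := act 8 n17749
theorem D22706 : act 8 n17749 = n22706 := rfl
theorem F101316 : act 4 n22706 = n17751 := d33_1 D22706 (iv D17751) D17749
def n22707 : Q := act 6 n17750
theorem D22707 : act 6 n17750 = n22707 := rfl
theorem F101318 : act 5 n22707 = n17768 := d35_1 D22707 (iv D17768) F62556 (iv F62509) (iv F79793)
def n22710 : Q := act 7 n17752
theorem D22710 : act 7 n17752 = n22710 := rfl
theorem F101327 : act 5 n22710 = n17820 := d36_1 D22710 (iv D17820) (iv F79798)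
def n22711 : Q := act 8 n17752
theorem D22711 : act 8 n17752 = n22711 := rfl
def n22713 : Q := act 8 n17753
theorem D22713 : act 8 n17753 = n22713 := rfl
theorem F101339 : act 4 n22713 = n17756 := d33_1 D22713 (iv D17756) (iv F79802)
def n22714 : Q := act 5 n17754
theorem D22714 : act 5 n17754 = n22714 := rfl
theorem F101343 : act 8 n22714 = n17823 := d37_2 D17754 D22714 (iv D17823) (iv D13811) (iv F62513)
def n22718 : Q := act 8 n17758
theorem D22718 : act 8 n17758 = n22718 := rfl
theorem F101357 : act 4 n22718 = n17762 := d33_1 D22718 (iv D17762) (iv F79820)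
theorem F101358 : act 6 n22718 = n17759 := d40_1 D22718 (iv D17759) D17758
def n22719 : Q := act 5 n17759
theorem D22719 : act 5 n17759 = n22719 := rfl
theorem F101362 : act 8 n22719 = n17826 := d37_2 D17759 D22719 (iv D17826) (iv D13814) (iv F62524)
def n22723 : Q := act 5 n17762
theorem D22723 : act 5 n17762 = n22723 := rfl
theorem F101376 : act 8 n22723 = n17773 := d37_2 D17762 D22723 (iv D17773) (iv D13771) (iv F62531)
def n22725 : Q := act 4 n17764
theorem D22725 : act 4 n17764 = n22725 := rfl
def n22735 : Q := act 9 n17773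
theorem D22735 : act 9 n17773 = n22735 := rfl
def n22743 : Q := act 8 n17780
theorem D22743 : act 8 n17780 = n22743 := rfl
theorem F101444 : act 3 n22743 = n17798 := d28_1 D22743 (iv D17798) (iv F79898)
def n22752 : Q := act 8 n17787
theorem D22752 : act 8 n17787 = n22752 := rfl
theorem F101493 : act 5 n22752 = n17814 := d37_1 D22752 (iv D17814) (iv D13804) (iv F62628) D17787
def n22754 : Q := act 8 n17789
theorem D22754 : act 8 n17789 = n22754 := rfl
theorem F101501 : act 4 n22754 = n17791 := d33_1 D22754 (iv D17791) D17789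
def n22755 : Q := act 6 n17790
theorem D22755 : act 6 n17790 = n22755 := rfl
theorem F101505 : act 5 n22755 = n17808 := d35_1 D22755 (iv D17808) F62701 (iv F62636) (iv F79951)
def n22756 : Q := act 8 n17790
theorem D22756 : act 8 n17790 = n22756 := rfl
theorem F101511 : act 7 n22756 = n17791 := d42_1 D22756 (iv D17791) D17790
def n22757 : Q := act 9 n17791
theorem D22757 : act 9 n17791 = n22757 := rfl
theorem F101514 : act 5 n22757 = n17819 := d38_1 D22757 (iv D17819) (iv F79955)
def n22760 : Q := act 5 n17793
theorem D22760 : act 5 n17793 = n22760 := rfl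
theorem F101531 : act 4 n22760 = n17823 := d30_1 D22760 (iv D17823) F62760 (iv F62652) (iv F79965)
def n22761 : Q := act 9 n17793
theorem D22761 : act 9 n17793 = n22761 := rfl
theorem F101535 : act 4 n22761 = n17796 := d34_1 D22761 (iv D17796) (iv F79965)
def n22762 : Q := act 8 n17794
theorem D22762 : act 8 n17794 = n22762 := rfl
theorem F101542 : act 6 n22762 = n17795 := d40_1 D22762 (iv D17795) D17794
def n22763 : Q := act 9 n17795
theorem D22763 : act 9 n17795 = n22763 := rfl
theorem F101548 : act 7 n22763 = n17796 := d43_1 D22763 (iv D17796) (iv F79977)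
def n22764 : Q := act 5 n17797
theorem D22764 : act 5 n17797 = n22764 := rfl
theorem F101551 : act 4 n22764 = n17811 := d30_1 D22764 (iv D17811) F62723 (iv F62662) (iv F79985)
def n22765 : Q := act 8 n17797
theorem D22765 : act 8 n17797 = n22765 := rfl
theorem F101556 : act 6 n22765 = n17798 := d40_1 D22765 (iv D17798) D17797
def n22766 : Q := act 5 n17798
theorem D22766 : act 5 n17798 = n22766 := rfl
theorem F101559 : act 4 n22766 = n17826 := d30_1 D22766 (iv D17826) F62774 (iv F62667) (iv F79989)
def n22767 : Q := act 9 n17798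
theorem D22767 : act 9 n17798 = n22767 := rfl
theorem F101563 : act 7 n22767 = n17800 := d43_1 D22767 (iv D17800) (iv F79990)
def n22770 : Q := act 9 n17801
theorem D22770 : act 9 n17801 = n22770 := rfl
theorem F101574 : act 6 n22770 = n17802 := d41_1 D22770 (iv D17802) (iv F80000)
def n22775 : Q := act 7 n17806
theorem D22775 : act 7 n17806 = n22775 := rfl
theorem F101600 : act 3 n22775 = n17807 := d27_1 D22775 (iv D17807) D17806
def n22776 : Q := act 6 n17807
theorem D22776 : act 6 n17807 = n22776 := rfl
theorem F101605 : act 4 n22776 = n17808 := d31_1 D22776 (iv D17808) (iv F80030)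
def n22782 : Q := act 8 n17812
theorem D22782 : act 8 n17812 = n22782 := rfl
def n22784 : Q := act 9 n17814
theorem D22784 : act 9 n17814 = n22784 := rfl
theorem F101648 : act 6 n22784 = n17832 := d41_1 D22784 (iv D17832) (iv F80067)
def n22785 : Q := act 2 n17815
theorem D22785 : act 2 n17815 = n22785 := rfl
theorem F101653 : act 5 n22785 = n17873 := d19_2 F101308 D22785 F101310
theorem F101655 : act 9 n22785 = n17872 := d23_2 (iv F80071) D22785 F80311
def n22786 : Q := act 7 n17815
theorem D22786 : act 7 n17815 = n22786 := rfl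
def n22787 : Q := act 8 n17815
theorem D22787 : act 8 n17815 = n22787 := rfl
theorem F101664 : act 6 n22787 = n17834 := d40_1 D22787 (iv D17834) (iv F80070)
def n22788 : Q := act 8 n17816
theorem D22788 : act 8 n17816 = n22788 := rfl
theorem F101668 : act 7 n22788 = n17817 := d42_1 D22788 (iv D17817) D17816
def n22789 : Q := act 5 n17817
theorem D22789 : act 5 n17817 = n22789 := rfl
def n22790 : Q := act 9 n17817
theorem D22790 : act 9 n17817 = n22790 := rfl
theorem F101672 : act 6 n22790 = n17836 := d41_1 D22790 (iv D17836) (iv F80078)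
def n22791 : Q := act 9 n17818
theorem D22791 : act 9 n17818 = n22791 := rfl
theorem F101677 : act 7 n22791 = n17819 := d43_1 D22791 (iv D17819) (iv F80082)
def n22792 : Q := act 8 n17820
theorem D22792 : act 8 n17820 = n22792 := rfl
theorem F101684 : act 7 n22792 = n17821 := d42_1 D22792 (iv D17821) D17820
def n22793 : Q := act 5 n17821
theorem D22793 : act 5 n17821 = n22793 := rfl
def n22794 : Q := act 9 n17821
theorem D22794 : act 9 n17821 = n22794 := rfl
theorem F101693 : act 6 n22794 = n17838 := d41_1 D22794 (iv D17838) (iv F80097)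
def n22795 : Q := act 5 n17822
theorem D22795 : act 5 n17822 = n22795 := rfl
theorem F101697 : act 7 n22795 = n17823 := d36_2 (iv F80102) D22795 (iv D17823)
def n22796 : Q := act 9 n17822
theorem D22796 : act 9 n17822 = n22796 := rfl
theorem F101702 : act 7 n22796 = n17824 := d43_1 D22796 (iv D17824) (iv F80102)
def n22798 : Q := act 9 n17823
theorem D22798 : act 9 n17823 = n22798 := rfl
theorem F101709 : act 5 n22798 = n17824 := d38_1 D22798 (iv D17824) D17823
def n22800 : Q := act 9 n17826
theorem D22800 : act 9 n17826 = n22800 := rfl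
theorem F101716 : act 7 n22800 = n17829 := d43_1 D22800 (iv D17829) (iv F80118)
def n22810 : Q := act 9 n17834
theorem D22810 : act 9 n17834 = n22810 := rfl
theorem F101755 : act 3 n22810 = n17836 := d29_1 D22810 (iv D17836) (iv F80151)
theorem F101756 : act 4 n22810 = n18301 := d34_1 D22810 (iv D18301) (iv F80152)
def n22822 : Q := act 5 n17848
theorem D22822 : act 5 n17848 = n22822 := rfl
theorem F101809 : act 1 n22822 = n17886 := d12_1 D22822 (iv D17886) (iv F80212)
def n22823 : Q := act 7 n17849
theorem D22823 : act 7 n17849 = n22823 := rfl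
theorem F101813 : act 5 n22823 = n17850 := d36_1 D22823 (iv D17850) D17849
def n22824 : Q := act 7 n17851
theorem D22824 : act 7 n17851 = n22824 := rfl
theorem F101816 : act 4 n22824 = n17852 := d32_1 D22824 (iv D17852) D17851
theorem F101817 : act 5 n22824 = n18313 := d36_1 D22824 (iv D18313) (iv F80224)
def n22825 : Q := act 6 n17852
theorem D22825 : act 6 n17852 = n22825 := rfl
def n22835 : Q := act 7 n17861
theorem D22835 : act 7 n17861 = n22835 := rfl
theorem F101860 : act 4 n22835 = n17862 := d32_1 D22835 (iv D17862) D17861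
theorem F101862 : act 8 n22835 = n17972 := d42_2 F80266 D22835 (iv D17972)
def n22836 : Q := act 6 n17862
theorem D22836 : act 6 n17862 = n22836 := rfl
def n22837 : Q := act 8 n17862
theorem D22837 : act 8 n17862 = n22837 := rfl
theorem F101870 : act 3 n22837 = n17925 := d28_1 D22837 (iv F95107) F95104
theorem F101871 : act 4 n22837 = n17972 := d33_1 D22837 (iv F101862) F101860
def n22840 : Q := act 8 n17865
theorem D22840 : act 8 n17865 = n22840 := rfl
theorem F101887 : act 4 n22840 = n17868 := d33_1 D22840 (iv D17868) (iv F80284)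
theorem F101888 : act 7 n22840 = n17866 := d42_1 D22840 (iv D17866) D17865
theorem F101889 : act 5 n18005 = n22840 := d36_3 F101888 (iv F80291) D18005
def n22842 : Q := act 9 n17868
theorem D22842 : act 9 n17868 = n22842 := rfl
theorem F101896 : act 7 n22842 = n17869 := d43_1 D22842 (iv D17869) (iv F80298)
def n22851 : Q := act 6 n17879
theorem D22851 : act 6 n17879 = n22851 := rfl
theorem F101938 : act 5 n22851 = n17894 := d35_1 D22851 (iv D17894) F62986 (iv F62952) (iv F80340)
def n22852 : Q := act 6 n17880
theorem D22852 : act 6 n17880 = n22852 := rfl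
def n22857 : Q := act 4 n17886
theorem D22857 : act 4 n17886 = n22857 := rfl
theorem F101957 : act 5 n22857 = n18349 := d30_2 D17886 D22857 (iv D18349) (iv D14309) (iv F62975)
def n22858 : Q := act 7 n17886
theorem D22858 : act 7 n17886 = n22858 := rfl
theorem F101960 : act 5 n22858 = n17887 := d36_1 D22858 (iv D17887) D17886
def n22859 : Q := act 8 n17886
theorem D22859 : act 8 n17886 = n22859 := rfl
theorem F101962 : act 2 n22859 = n17938 := d22_1 D22859 (iv D17938) (iv F80363)
def n22860 : Q := act 3 n17888
theorem D22860 : act 3 n17888 = n22860 := rfl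
theorem F101966 : act 5 n22860 = n18352 := d25_2 (iv F80370) D22860 (iv D18352)
def n22861 : Q := act 7 n17888
theorem D22861 : act 7 n17888 = n22861 := rfl
theorem F101969 : act 4 n22861 = n17889 := d32_1 D22861 (iv D17889) D17888
theorem F101970 : act 5 n22861 = n18353 := d36_1 D22861 (iv D18353) (iv F80370)
def n22862 : Q := act 8 n17888
theorem D22862 : act 8 n17888 = n22862 := rfl
theorem F101973 : act 4 n22862 = n17890 := d33_1 D22862 (iv D17890) D17888
def n22863 : Q := act 6 n17889
theorem D22863 : act 6 n17889 = n22863 := rfl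
def n22866 : Q := act 7 n17891
theorem D22866 : act 7 n17891 = n22866 := rfl
theorem F101985 : act 5 n22866 = n18358 := d36_1 D22866 (iv D18358) (iv F80378)
def n22868 : Q := act 8 n17892
theorem D22868 : act 8 n17892 = n22868 := rfl
theorem F101989 : act 4 n22868 = n17895 := d33_1 D22868 (iv D17895) (iv F80380)
theorem F101990 : act 7 n22868 = n17893 := d42_1 D22868 (iv D17893) D17892
def n22874 : Q := act 5 n17898
theorem D22874 : act 5 n17898 = n22874 := rfl
theorem F102012 : act 8 n22874 = n18368 := d37_2 D17898 D22874 (iv D18368) (iv D14321) (iv F62992)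
def n22879 : Q := act 4 n17903
theorem D22879 : act 4 n17903 = n22879 := rfl
def n22880 : Q := act 9 n17903
theorem D22880 : act 9 n17903 = n22880 := rfl
def n22882 : Q := act 8 n17905
theorem D22882 : act 8 n17905 = n22882 := rfl
theorem F102040 : act 4 n22882 = n17967 := d33_1 D22882 (iv F95268) F95266
theorem F102041 : act 7 n22882 = n17906 := d42_1 D22882 (iv D17906) D17905
theorem F102042 : act 5 n18001 = n22882 := d36_3 F102041 (iv F80423) D18001
def n22885 : Q := act 5 n17908
theorem D22885 : act 5 n17908 = n22885 := rfl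
theorem F102060 : act 8 n22885 = n18381 := d37_2 D17908 D22885 (iv D18381) (iv D14331) (iv F63017)
def n22890 : Q := act 9 n17915
theorem D22890 : act 9 n17915 = n22890 := rfl
theorem F102079 : act 5 n22890 = n17916 := d38_1 D22890 (iv D17916) D17915
def n22894 : Q := act 8 n17922
theorem D22894 : act 8 n17922 = n22894 := rfl
def n22896 : Q := act 6 n17925
theorem D22896 : act 6 n17925 = n22896 := rfl
theorem F102102 : act 4 n22896 = n17926 := d31_1 D22896 (iv D17926) (iv F80499)
def n22897 : Q := act 8 n17926
theorem D22897 : act 8 n17926 = n22897 := rfl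
theorem F102106 : act 6 n22897 = n17927 := d40_1 D22897 (iv D17927) D17926
def n22899 : Q := act 5 n17929
theorem D22899 : act 5 n17929 = n22899 := rfl
theorem F102115 : act 6 n22899 = n18396 := d35_2 D17929 D22899 (iv D18396) (iv D14356) (iv F63079)
def n22900 : Q := act 8 n17929
theorem D22900 : act 8 n17929 = n22900 := rfl
theorem F102119 : act 4 n22900 = n17932 := d33_1 D22900 (iv D17932) (iv F80516)
theorem F102121 : act 6 n22900 = n17930 := d40_1 D22900 (iv D17930) D17929
def n22902 : Q := act 5 n17932
theorem D22902 : act 5 n17932 = n22902 := rfl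
theorem F102127 : act 3 n22902 = n17934 := d25_1 D22902 (iv D17934) (iv F80525)
theorem F102130 : act 8 n22902 = n17956 := d37_2 D17932 D22902 (iv D17956) (iv D13920) (iv F63085)
def n22904 : Q := act 4 n17934
theorem D22904 : act 4 n17934 = n22904 := rfl
theorem F102139 : act 8 n22904 = n17958 := d33_2 (iv F80534) D22904 (iv D17958)
def n22906 : Q := act 7 n17936
theorem D22906 : act 7 n17936 = n22906 := rfl
theorem F102144 : act 0 n22906 = n17939 := d6_1 D22906 (iv D17939) (iv F80539)
theorem F102148 : act 5 n22906 = n18400 := d36_1 D22906 (iv D18400) (iv F80542)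
def n22907 : Q := act 8 n17936
theorem D22907 : act 8 n17936 = n22907 := rfl
theorem F102152 : act 4 n22907 = n17938 := d33_1 D22907 (iv D17938) D17936
def n22908 : Q := act 6 n17937
theorem D22908 : act 6 n17937 = n22908 := rfl
def n22911 : Q := act 6 n17939
theorem D22911 : act 6 n17939 = n22911 := rfl
theorem F102167 : act 4 n22911 = n17941 := d31_1 D22911 (iv D17941) (iv F80553)
def n22912 : Q := act 8 n17939
theorem D22912 : act 8 n17939 = n22912 := rfl
theorem F102170 : act 4 n22912 = n17942 := d33_1 D22912 (iv D17942) (iv F80553)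
def n22913 : Q := act 5 n17940
theorem D22913 : act 5 n17940 = n22913 := rfl
theorem F102175 : act 8 n22913 = n18407 := d37_2 D17940 D22913 (iv D18407) (iv D14365) (iv F63112)
def n22915 : Q := act 8 n17941
theorem D22915 : act 8 n17941 = n22915 := rfl
theorem F102181 : act 6 n22915 = n17942 := d40_1 D22915 (iv D17942) D17941
def n22916 : Q := act 9 n17942
theorem D22916 : act 9 n17942 = n22916 := rfl
def n22919 : Q := act 5 n17945
theorem D22919 : act 5 n17945 = n22919 := rfl
theorem F102203 : act 8 n22919 = n18413 := d37_2 D17945 D22919 (iv D18413) (iv D14370) (iv F63123)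
def n22921 : Q := act 6 n17946
theorem D22921 : act 6 n17946 = n22921 := rfl
theorem F102214 : act 8 n22921 = n18415 := d40_2 (iv F80580) D22921 (iv D18415)
def n22922 : Q := act 9 n17946
theorem D22922 : act 9 n17946 = n22922 := rfl
theorem F102219 : act 5 n22922 = n17947 := d38_1 D22922 (iv D17947) D17946
def n22923 : Q := act 5 n17948
theorem D22923 : act 5 n17948 = n22923 := rfl
def n22924 : Q := act 9 n17948
theorem D22924 : act 9 n17948 = n22924 := rfl
def n22926 : Q := act 9 n17952
theorem D22926 : act 9 n17952 = n22926 := rfl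
theorem F102237 : act 5 n22926 = n17953 := d38_1 D22926 (iv D17953) D17952
def n22932 : Q := act 8 n17961
theorem D22932 : act 8 n17961 = n22932 := rfl
theorem F102268 : act 9 n22932 = n18425 := d44_2 D17961 D22932 (iv D18425) (iv D14386) (iv F63183)
def n22942 : Q := act 5 n17974
theorem D22942 : act 5 n17974 = n22942 := rfl
theorem F102312 : act 8 n22942 = n18014 := d37_2 D17974 D22942 (iv D18014) (iv D13977) (iv F63235)
def n22944 : Q := act 9 n17975
theorem D22944 : act 9 n17975 = n22944 := rfl
theorem F102322 : act 5 n22944 = n17976 := d38_1 D22944 (iv D17976) D17975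
def n22947 : Q := act 5 n17979
theorem D22947 : act 5 n17979 = n22947 := rfl
def n22949 : Q := act 6 n17980
theorem D22949 : act 6 n17980 = n22949 := rfl
theorem F102342 : act 8 n22949 = n18017 := d40_2 (iv F80723) D22949 (iv D18017)
def n22950 : Q := act 9 n17980
theorem D22950 : act 9 n17980 = n22950 := rfl
theorem F102346 : act 5 n22950 = n17981 := d38_1 D22950 (iv D17981) D17980
def n22952 : Q := act 4 n17983
theorem D22952 : act 4 n17983 = n22952 := rfl
def n22970 : Q := act 8 n18001
theorem D22970 : act 8 n18001 = n22970 := rfl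
theorem F102429 : act 7 n22970 = n18002 := d42_1 D22970 (iv D18002) D18001
def n22971 : Q := act 9 n18002
theorem D22971 : act 9 n18002 = n22971 := rfl
theorem F102435 : act 6 n22971 = n18021 := d41_1 D22971 (iv D18021) (iv F80808)
def n22972 : Q := act 9 n18003
theorem D22972 : act 9 n18003 = n22972 := rfl
theorem F102441 : act 7 n22972 = n18004 := d43_1 D22972 (iv D18004) (iv F80814)
def n22973 : Q := act 8 n18005
theorem D22973 : act 8 n18005 = n22973 := rfl
theorem F102445 : act 3 n22973 = n18007 := d28_1 D22973 (iv D18007) (iv F80821)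
theorem F102447 : act 5 n22973 = n18332 := d37_1 D22973 (iv D18332) (iv F80285) D22840 (iv F101889)
theorem F102449 : act 7 n22973 = n18006 := d42_1 D22973 (iv D18006) D18005
def n22974 : Q := act 9 n18006
theorem D22974 : act 9 n18006 = n22974 := rfl
theorem F102455 : act 5 n22974 = n18333 := d38_1 D22974 (iv D18333) (iv F80829)
theorem F102456 : act 6 n22974 = n18023 := d41_1 D22974 (iv D18023) (iv F80830)
def n22975 : Q := act 5 n18007
theorem D22975 : act 5 n18007 = n22975 := rfl
theorem F102459 : act 3 n22975 = n18332 := d25_1 D22975 (iv F102447) F102445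
def n22976 : Q := act 9 n18007
theorem D22976 : act 9 n18007 = n22976 := rfl
theorem F102466 : act 7 n22976 = n18009 := d43_1 D22976 (iv D18009) (iv F80834)
def n22977 : Q := act 9 n18008
theorem D22977 : act 9 n18008 = n22977 := rfl
theorem F102471 : act 5 n22977 = n18009 := d38_1 D22977 (iv D18009) D18008
def n22978 : Q := act 5 n18011
theorem D22978 : act 5 n18011 = n22978 := rfl
theorem F102476 : act 3 n22978 = n18014 := d25_1 D22978 (iv D18014) (iv F80851)
theorem F102477 : act 4 n22978 = n18328 := d30_1 D22978 F82501 F83187 (iv D18459) (iv F80852)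
def n22979 : Q := act 9 n18011
theorem D22979 : act 9 n18011 = n22979 := rfl
theorem F102485 : act 7 n22979 = n18013 := d43_1 D22979 (iv D18013) (iv F80854)
def n22980 : Q := act 9 n18012
theorem D22980 : act 9 n18012 = n22980 := rfl
theorem F102491 : act 5 n22980 = n18013 := d38_1 D22980 (iv D18013) D18012
def n22981 : Q := act 6 n18014
theorem D22981 : act 6 n18014 = n22981 := rfl
theorem F102494 : act 2 n22981 = n18017 := d20_1 D22981 (iv D18017) (iv F80868)
def n22982 : Q := act 9 n18014
theorem D22982 : act 9 n18014 = n22982 := rfl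
theorem F102499 : act 2 n22982 = n18018 := d23_1 D22982 (iv D18018) (iv F80868)
def n22983 : Q := act 8 n18016
theorem D22983 : act 8 n18016 = n22983 := rfl
def n22985 : Q := act 8 n18018
theorem D22985 : act 8 n18018 = n22985 := rfl
def n22986 : Q := act 9 n18020
theorem D22986 : act 9 n18020 = n22986 := rfl
theorem F102520 : act 3 n22986 = n18021 := d29_1 D22986 (iv D18021) (iv F80898)
theorem F102521 : act 4 n22986 = n18469 := d34_1 D22986 (iv D18469) (iv F80899)
theorem F102523 : act 6 n22986 = n18383 := d41_1 D22986 (iv D18383) (iv F80901)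
def n22987 : Q := act 9 n18022
theorem D22987 : act 9 n18022 = n22987 := rfl
theorem F102528 : act 4 n22987 = n18471 := d34_1 D22987 (iv D18471) (iv F80911)
theorem F102530 : act 6 n22987 = n18340 := d41_1 D22987 (iv D18340) (iv F80913)
def n22989 : Q := act 8 n18025
theorem D22989 : act 8 n18025 = n22989 := rfl
theorem F102545 : act 6 n22989 = n18026 := d40_1 D22989 (iv D18026) D18025
def n22990 : Q := act 9 n18026
theorem D22990 : act 9 n18026 = n22990 := rfl
theorem F102550 : act 3 n22990 = n18198 := d29_1 D22990 F81814 (iv F80937)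
theorem F102551 : act 4 n22990 = n18259 := d34_1 D22990 F82126 (iv F80938)
def n22994 : Q := act 9 n18030
theorem D22994 : act 9 n18030 = n22994 := rfl
theorem F102581 : act 4 n22994 = n18033 := d34_1 D22994 (iv D18033) (iv F80964)
theorem F102582 : act 5 n22994 = n18288 := d38_1 D22994 F82297 F80966
def n22999 : Q := act 8 n18038
theorem D22999 : act 8 n18038 = n22999 := rfl
theorem F102616 : act 9 n22999 = n18503 := d44_2 D18038 D22999 (iv D18503) (iv D14493) (iv F63490)
def n23005 : Q := act 9 n18044
theorem D23005 : act 9 n18044 = n23005 := rfl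
theorem F102653 : act 4 n23005 = n18256 := d34_1 D23005 F82108 (iv F81048)
theorem F102654 : act 5 n23005 = n18284 := d38_1 D23005 F82277 F81050
def n23007 : Q := act 9 n18048
theorem D23007 : act 9 n18048 = n23007 := rfl
theorem F102668 : act 5 n23007 = n18049 := d38_1 D23007 (iv D18049) D18048
def n23008 : Q := act 8 n18050
theorem D23008 : act 8 n18050 = n23008 := rfl
theorem F102677 : act 9 n23008 = n18512 := d44_2 D18050 D23008 (iv D18512) (iv D14505) (iv F63537)
def n23010 : Q := act 8 n18054
theorem D23010 : act 8 n18054 = n23010 := rfl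
theorem F102688 : act 9 n23010 = n18514 := d44_2 D18054 D23010 (iv D18514) (iv D14509) (iv F63568)
def n23018 : Q := act 6 n18066
theorem D23018 : act 6 n18066 = n23018 := rfl
theorem F102735 : act 8 n23018 = n18078 := d40_2 (iv F81177) D23018 (iv D18078)
def n23022 : Q := act 7 n18068
theorem D23022 : act 7 n18068 = n23022 := rfl
theorem F102752 : act 5 n23022 = n18069 := d36_1 D23022 (iv D18069) D18068
def n23026 : Q := act 8 n18071
theorem D23026 : act 8 n18071 = n23026 := rfl
theorem F102772 : act 5 n23026 = n18087 := d37_1 D23026 (iv D18087) F63735 (iv F63668) (iv F81200)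
def n23028 : Q := act 9 n18073
theorem D23028 : act 9 n18073 = n23028 := rfl
theorem F102784 : act 5 n23028 = n18090 := d38_1 D23028 (iv D18090) (iv F81211)
theorem F102786 : act 7 n23028 = n18074 := d43_1 D23028 (iv D18074) (iv F81213)
def n23032 : Q := act 7 n18079
theorem D23032 : act 7 n18079 = n23032 := rfl
theorem F102805 : act 1 n23032 = n18082 := d14_1 D23032 (iv D18082) (iv F81244)
theorem F102808 : act 5 n23032 = n18080 := d36_1 D23032 (iv D18080) D18079
theorem F102809 : act 9 n23032 = n18310 := d43_2 (iv F81248) D23032 (iv D18310)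
def n23037 : Q := act 6 n18082
theorem D23037 : act 6 n18082 = n23037 := rfl
theorem F102828 : act 2 n23037 = n18086 := d20_1 D23037 (iv D18086) (iv F81258)
theorem F102831 : act 9 n23037 = n18315 := d41_2 (iv F81261) D23037 (iv D18315)
def n23038 : Q := act 8 n18082
theorem D23038 : act 8 n18082 = n23038 := rfl
theorem F102833 : act 2 n23038 = n18087 := d22_1 D23038 (iv D18087) (iv F81258)
theorem F102835 : act 7 n23038 = n18083 := d42_1 D23038 (iv D18083) D18082
def n23041 : Q := act 8 n18084
theorem D23041 : act 8 n18084 = n23041 := rfl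
def n23044 : Q := act 8 n18086
theorem D23044 : act 8 n18086 = n23044 := rfl
theorem F102863 : act 3 n23044 = n18089 := d28_1 D23044 (iv D18089) (iv F81278)
theorem F102865 : act 6 n23044 = n18087 := d40_1 D23044 (iv D18087) D18086
def n23045 : Q := act 9 n18087
theorem D23045 : act 9 n18087 = n23045 := rfl
def n23046 : Q := act 9 n18089
theorem D23046 : act 9 n18089 = n23046 := rfl
theorem F102875 : act 4 n23046 = n18107 := d34_1 D23046 (iv D18107) (iv F81293)
theorem F102877 : act 6 n23046 = n18090 := d41_1 D23046 (iv D18090) (iv F81295)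
def n23048 : Q := act 8 n18091
theorem D23048 : act 8 n18091 = n23048 := rfl
def n23051 : Q := act 9 n18093
theorem D23051 : act 9 n18093 = n23051 := rfl
theorem F102909 : act 8 n23051 = n18329 := d44_1 D23051 (iv D18329) (iv D14283) (iv F63763) D18093
def n23057 : Q := act 9 n18096
theorem D23057 : act 9 n18096 = n23057 := rfl
theorem F102934 : act 8 n23057 = n18333 := d44_1 D23057 (iv D18333) (iv D14286) (iv F63774) D18096
def n23068 : Q := act 9 n18106
theorem D23068 : act 9 n18106 = n23068 := rfl
theorem F102989 : act 5 n23068 = n18107 := d38_1 D23068 (iv D18107) D18106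
def n23070 : Q := act 5 n18109
theorem D23070 : act 5 n18109 = n23070 := rfl
theorem F103001 : act 6 n23070 = n18118 := d35_2 D18109 D23070 (iv D18118) (iv D14076) (iv F63823)
def n23075 : Q := act 7 n18115
theorem D23075 : act 7 n18115 = n23075 := rfl
theorem F103028 : act 6 n23075 = n18119 := d39_1 D23075 (iv D18119) (iv D14076) (iv F63844) D18115
theorem F103029 : act 8 n23075 = n18128 := d42_2 (iv F81432) D23075 (iv D18128)
def n23076 : Q := act 5 n18117
theorem D23076 : act 5 n18117 = n23076 := rfl
theorem F103031 : act 0 n23076 = n18118 := d4_1 D23076 (iv D18118) (iv F81440)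
def n23077 : Q := act 7 n18117
theorem D23077 : act 7 n18117 = n23077 := rfl
theorem F103038 : act 8 n23077 = n18133 := d42_2 (iv F81443) D23077 (iv D18133)
def n23078 : Q := act 4 n18118
theorem D23078 : act 4 n18118 = n23078 := rfl
def n23079 : Q := act 7 n18118
theorem D23079 : act 7 n18118 = n23079 := rfl
theorem F103046 : act 5 n23079 = n18119 := d36_1 D23079 (iv D18119) D18118
def n23080 : Q := act 8 n18118
theorem D23080 : act 8 n18118 = n23080 := rfl
theorem F103052 : act 5 n23080 = n18136 := d37_1 D23080 (iv D18136) (iv D14092) (iv F63865) D18118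
def n23084 : Q := act 8 n18121
theorem D23084 : act 8 n18121 = n23084 := rfl
theorem F103064 : act 5 n23084 = n18141 := d37_1 D23084 (iv D18141) F63949 (iv F63872) (iv F81458)
theorem F103066 : act 7 n23084 = n18122 := d42_1 D23084 (iv D18122) D18121
def n23086 : Q := act 8 n18123
theorem D23086 : act 8 n18123 = n23086 := rfl
theorem F103073 : act 4 n23086 = n18125 := d33_1 D23086 (iv D18125) (iv F81466)
def n23089 : Q := act 9 n18125
theorem D23089 : act 9 n18125 = n23089 := rfl
theorem F103085 : act 5 n23089 = n18148 := d38_1 D23089 (iv D18148) (iv F81474)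
theorem F103087 : act 7 n23089 = n18126 := d43_1 D23089 (iv D18126) (iv F81476)
def n23090 : Q := act 6 n18129
theorem D23090 : act 6 n18129 = n23090 := rfl
theorem F103091 : act 5 n23090 = n18140 := d35_1 D23090 (iv D18140) F63949 (iv F63912) (iv F81495)
theorem F103094 : act 9 n23090 = n18345 := d41_2 (iv F81497) D23090 (iv D18345)
def n23092 : Q := act 4 n18132
theorem D23092 : act 4 n18132 = n23092 := rfl
theorem F103101 : act 0 n23092 = n18134 := d3_1 D23092 (iv D18134) (iv F81509)
def n23093 : Q := act 7 n18132
theorem D23093 : act 7 n18132 = n23093 := rfl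
theorem F103105 : act 0 n23093 = n18135 := d6_1 D23093 (iv D18135) (iv F81509)
theorem F103108 : act 5 n23093 = n18133 := d36_1 D23093 (iv D18133) D18132
def n23094 : Q := act 8 n18132
theorem D23094 : act 8 n18132 = n23094 := rfl
theorem F103110 : act 0 n23094 = n18136 := d7_1 D23094 (iv D18136) (iv F81509)
def n23096 : Q := act 7 n18134
theorem D23096 : act 7 n18134 = n23096 := rfl
theorem F103119 : act 1 n23096 = n18138 := d14_1 D23096 (iv D18138) (iv F81518)
def n23097 : Q := act 8 n18134
theorem D23097 : act 8 n18134 = n23097 := rfl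
def n23098 : Q := act 6 n18135
theorem D23098 : act 6 n18135 = n23098 := rfl
theorem F103127 : act 1 n23098 = n18140 := d13_1 D23098 (iv D18140) (iv F81522)
theorem F103131 : act 9 n23098 = n18355 := d41_2 (iv F81526) D23098 (iv D18355)
def n23099 : Q := act 8 n18135
theorem D23099 : act 8 n18135 = n23099 := rfl
theorem F103132 : act 1 n23099 = n18141 := d15_1 D23099 (iv D18141) (iv F81522)
theorem F103135 : act 7 n23099 = n18136 := d42_1 D23099 (iv D18136) D18135
def n23100 : Q := act 9 n18136
theorem D23100 : act 9 n18136 = n23100 := rfl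
def n23104 : Q := act 8 n18138
theorem D23104 : act 8 n18138 = n23104 := rfl
theorem F103153 : act 2 n23104 = n18144 := d22_1 D23104 (iv D18144) (iv F81535)
theorem F103155 : act 7 n23104 = n18139 := d42_1 D23104 (iv D18139) D18138
def n23107 : Q := act 8 n18140
theorem D23107 : act 8 n18140 = n23107 := rfl
theorem F103161 : act 2 n23107 = n18147 := d22_1 D23107 (iv D18147) (iv F81541)
theorem F103164 : act 6 n23107 = n18141 := d40_1 D23107 (iv D18141) D18140
def n23108 : Q := act 9 n18141
theorem D23108 : act 9 n18141 = n23108 := rfl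
theorem F103168 : act 7 n23108 = n18142 := d43_1 D23108 (iv D18142) (iv F81547)
def n23110 : Q := act 8 n18143
theorem D23110 : act 8 n18143 = n23110 := rfl
theorem F103175 : act 3 n23110 = n18159 := d28_1 D23110 (iv D18159) (iv F81553)
theorem F103177 : act 6 n23110 = n18144 := d40_1 D23110 (iv D18144) D18143
def n23111 : Q := act 5 n18144
theorem D23111 : act 5 n18144 = n23111 := rfl
def n23112 : Q := act 9 n18144
theorem D23112 : act 9 n18144 = n23112 := rfl
theorem F103185 : act 7 n23112 = n18146 := d43_1 D23112 (iv D18146) (iv F81560)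
def n23115 : Q := act 9 n18147
theorem D23115 : act 9 n18147 = n23115 := rfl
theorem F103194 : act 3 n23115 = n18149 := d29_1 D23115 (iv D18149) (iv F81569)
theorem F103196 : act 6 n23115 = n18148 := d41_1 D23115 (iv D18148) (iv F81571)
def n23123 : Q := act 9 n18153
theorem D23123 : act 9 n18153 = n23123 := rfl
theorem F103233 : act 8 n23123 = n18382 := d44_1 D23123 (iv D18382) (iv D14331) (iv F63991) D18153
def n23130 : Q := act 9 n18159
theorem D23130 : act 9 n18159 = n23130 := rfl
theorem F103261 : act 4 n23130 = n18165 := d34_1 D23130 (iv D18165) (iv F81625)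
theorem F103262 : act 6 n23130 = n18161 := d41_1 D23130 (iv D18161) (iv F81626)
def n23137 : Q := act 9 n18164
theorem D23137 : act 9 n18164 = n23137 := rfl
theorem F103288 : act 5 n23137 = n18165 := d38_1 D23137 (iv D18165) D18164
def n23138 : Q := act 8 n18166
theorem D23138 : act 8 n18166 = n23138 := rfl
theorem F103294 : act 5 n23138 = n18392 := d37_1 D23138 (iv D18392) F65164 (iv F64045) (iv F81654)
def n23141 : Q := act 4 n18169
theorem D23141 : act 4 n18169 = n23141 := rfl
theorem F103311 : act 5 n23141 = n18176 := d30_2 D18169 D23141 (iv D18176) (iv D14125) (iv F64053)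
def n23145 : Q := act 5 n18174
theorem D23145 : act 5 n18174 = n23145 := rfl
theorem F103331 : act 6 n23145 = n18182 := d35_2 D18174 D23145 (iv D18182) (iv D14132) (iv F64074)
def n23149 : Q := act 8 n18176
theorem D23149 : act 8 n18176 = n23149 := rfl
theorem F103352 : act 6 n23149 = n18189 := d40_1 D23149 (iv D18189) (iv F81708)
def n23150 : Q := act 9 n18177
theorem D23150 : act 9 n18177 = n23150 := rfl
theorem F103358 : act 6 n23150 = n18191 := d41_1 D23150 (iv D18191) (iv F81715)
def n23153 : Q := act 7 n18180
theorem D23153 : act 7 n18180 = n23153 := rfl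
theorem F103373 : act 3 n23153 = n18241 := d27_1 D23153 (iv D18241) (iv F81730)
theorem F103375 : act 6 n23153 = n18183 := d39_1 D23153 (iv D18183) (iv D14132) (iv F64107) D18180
def n23154 : Q := act 4 n18182
theorem D23154 : act 4 n18182 = n23154 := rfl
theorem F103378 : act 0 n23154 = n18184 := d3_1 D23154 (iv D18184) (iv F81740)
def n23155 : Q := act 7 n18182
theorem D23155 : act 7 n18182 = n23155 := rfl
theorem F103384 : act 5 n23155 = n18183 := d36_1 D23155 (iv D18183) D18182
def n23156 : Q := act 8 n18182
theorem D23156 : act 8 n18182 = n23156 := rfl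
theorem F103390 : act 5 n23156 = n18203 := d37_1 D23156 (iv D18203) (iv D14150) (iv F64125) D18182
def n23158 : Q := act 7 n18184
theorem D23158 : act 7 n18184 = n23158 := rfl
theorem F103395 : act 4 n23158 = n18185 := d32_1 D23158 (iv D18185) D18184
def n23160 : Q := act 8 n18185
theorem D23160 : act 8 n18185 = n23160 := rfl
theorem F103402 : act 5 n23160 = n18207 := d37_1 D23160 (iv D18207) F64221 (iv F64132) (iv F81753)
theorem F103404 : act 7 n23160 = n18186 := d42_1 D23160 (iv D18186) D18185
def n23161 : Q := act 9 n18186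
theorem D23161 : act 9 n18186 = n23161 := rfl
def n23162 : Q := act 7 n18187
theorem D23162 : act 7 n18187 = n23162 := rfl
theorem F103411 : act 3 n23162 = n18188 := d27_1 D23162 (iv D18188) D18187
def n23163 : Q := act 8 n18187
theorem D23163 : act 8 n18187 = n23163 := rfl
theorem F103417 : act 3 n23163 = n18189 := d28_1 D23163 (iv D18189) D18187
def n23164 : Q := act 8 n18188
theorem D23164 : act 8 n18188 = n23164 := rfl
theorem F103421 : act 4 n23164 = n18190 := d33_1 D23164 (iv D18190) (iv F81765)
theorem F103423 : act 7 n23164 = n18189 := d42_1 D23164 (iv D18189) D18188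
def n23165 : Q := act 5 n18189
theorem D23165 : act 5 n18189 = n23165 := rfl
theorem F103426 : act 4 n23165 = n18211 := d30_1 D23165 (iv D18211) F64234 (iv F64146) (iv F81770)
def n23166 : Q := act 9 n18189
theorem D23166 : act 9 n18189 = n23166 := rfl
def n23167 : Q := act 9 n18190
theorem D23167 : act 9 n18190 = n23167 := rfl
theorem F103434 : act 5 n23167 = n18214 := d38_1 D23167 (iv D18214) (iv F81774)
theorem F103436 : act 7 n23167 = n18191 := d43_1 D23167 (iv D18191) (iv F81776)
def n23168 : Q := act 5 n18192
theorem D23168 : act 5 n18192 = n23168 := rfl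
theorem F103440 : act 4 n23168 = n18217 := d30_1 D23168 (iv D18217) F64257 (iv F64157) (iv F81784)
def n23169 : Q := act 9 n18192
theorem D23169 : act 9 n18192 = n23169 := rfl
theorem F103444 : act 4 n23169 = n18195 := d34_1 D23169 (iv D18195) (iv F81784)
def n23172 : Q := act 6 n18197
theorem D23172 : act 6 n18197 = n23172 := rfl
theorem F103457 : act 5 n23172 = n18206 := d35_1 D23172 (iv D18206) F64221 (iv F64182) (iv F81807)
theorem F103460 : act 9 n23172 = n18393 := d41_2 (iv F81809) D23172 (iv D18393)
def n23173 : Q := act 6 n18198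
theorem D23173 : act 6 n18198 = n23173 := rfl
theorem F103463 : act 4 n23173 = n18199 := d31_1 D23173 (iv D18199) (iv F81812)
theorem F103466 : act 9 n23173 = n18394 := d41_2 (iv F81814) D23173 (iv D18394)
def n23174 : Q := act 5 n18200
theorem D23174 : act 5 n18200 = n23174 := rfl
theorem F103469 : act 4 n23174 = n18215 := d30_1 D23174 (iv D18215) F64252 (iv F64202) (iv F81824)
def n23175 : Q := act 7 n18201
theorem D23175 : act 7 n18201 = n23175 := rfl
theorem F103472 : act 0 n23175 = n18204 := d6_1 D23175 (iv D18204) (iv F81828)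
theorem F103476 : act 9 n23175 = n18400 := d43_2 (iv F81832) D23175 (iv D18400)
def n23176 : Q := act 8 n18201
theorem D23176 : act 8 n18201 = n23176 := rfl
theorem F103477 : act 0 n23176 = n18205 := d7_1 D23176 (iv D18205) (iv F81828)
def n23177 : Q := act 6 n18202
theorem D23177 : act 6 n18202 = n23177 := rfl
theorem F103482 : act 0 n23177 = n18206 := d5_1 D23177 (iv D18206) (iv F81833)
theorem F103486 : act 9 n23177 = n18402 := d41_2 (iv F81837) D23177 (iv D18402)
def n23178 : Q := act 8 n18202
theorem D23178 : act 8 n18202 = n23178 := rfl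
theorem F103487 : act 0 n23178 = n18207 := d7_1 D23178 (iv D18207) (iv F81833)
theorem F103490 : act 7 n23178 = n18203 := d42_1 D23178 (iv D18203) D18202
def n23179 : Q := act 9 n18203
theorem D23179 : act 9 n18203 = n23179 := rfl
def n23180 : Q := act 6 n18204
theorem D23180 : act 6 n18204 = n23180 := rfl
theorem F103496 : act 1 n23180 = n18209 := d13_1 D23180 (iv D18209) (iv F81842)
def n23181 : Q := act 8 n18204
theorem D23181 : act 8 n18204 = n23181 := rfl
theorem F103501 : act 1 n23181 = n18210 := d15_1 D23181 (iv D18210) (iv F81842)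
theorem F103504 : act 7 n23181 = n18205 := d42_1 D23181 (iv D18205) D18204
def n23182 : Q := act 5 n18205
theorem D23182 : act 5 n18205 = n23182 := rfl
def n23183 : Q := act 9 n18205
theorem D23183 : act 9 n18205 = n23183 := rfl
def n23184 : Q := act 8 n18206
theorem D23184 : act 8 n18206 = n23184 := rfl
theorem F103512 : act 1 n23184 = n18213 := d15_1 D23184 (iv D18213) (iv F81850)
theorem F103515 : act 6 n23184 = n18207 := d40_1 D23184 (iv D18207) D18206
def n23185 : Q := act 9 n18207
theorem D23185 : act 9 n18207 = n23185 := rfl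
theorem F103519 : act 7 n23185 = n18208 := d43_1 D23185 (iv D18208) (iv F81856)
def n23187 : Q := act 8 n18209
theorem D23187 : act 8 n18209 = n23187 := rfl
theorem F103527 : act 2 n23187 = n18216 := d22_1 D23187 (iv D18216) (iv F81862)
theorem F103530 : act 6 n23187 = n18210 := d40_1 D23187 (iv D18210) D18209
def n23188 : Q := act 5 n18210
theorem D23188 : act 5 n18210 = n23188 := rfl
theorem F103535 : act 7 n23188 = n18211 := d36_2 (iv F81871) D23188 (iv D18211)
def n23189 : Q := act 9 n18210
theorem D23189 : act 9 n18210 = n23189 := rfl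
theorem F103540 : act 7 n23189 = n18212 := d43_1 D23189 (iv D18212) (iv F81871)
def n23191 : Q := act 9 n18211
theorem D23191 : act 9 n18211 = n23191 := rfl
def n23192 : Q := act 9 n18213
theorem D23192 : act 9 n18213 = n23192 := rfl
theorem F103551 : act 2 n23192 = n18221 := d23_1 D23192 (iv D18221) (iv F81882)
theorem F103554 : act 6 n23192 = n18214 := d41_1 D23192 (iv D18214) (iv F81885)
def n23195 : Q := act 9 n18216
theorem D23195 : act 9 n18216 = n23195 := rfl
theorem F103566 : act 3 n23195 = n18224 := d29_1 D23195 (iv D18224) (iv F81897)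
theorem F103568 : act 6 n23195 = n18218 := d41_1 D23195 (iv D18218) (iv F81899)
def n23197 : Q := act 9 n18217
theorem D23197 : act 9 n18217 = n23197 := rfl
theorem F103575 : act 5 n23197 = n18218 := d38_1 D23197 (iv D18218) D18217
theorem F103576 : act 7 n23197 = n18220 := d43_1 D23197 (iv D18220) (iv F81903)
def n23211 : Q := act 8 n18231
theorem D23211 : act 8 n18231 = n23211 := rfl
theorem F103636 : act 5 n23211 = n18427 := d37_1 D23211 (iv D18427) F65367 (iv F64320) (iv F81965)
def n23224 : Q := act 8 n18243
theorem D23224 : act 8 n18243 = n23224 := rfl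
theorem F103712 : act 5 n23224 = n18262 := d37_1 D23224 (iv D18262) F64503 (iv F64393) (iv F82039)
theorem F103714 : act 7 n23224 = n18244 := d42_1 D23224 (iv D18244) D18243
def n23225 : Q := act 9 n18244
theorem D23225 : act 9 n18244 = n23225 := rfl
def n23227 : Q := act 7 n18245
theorem D23227 : act 7 n18245 = n23227 := rfl
theorem F103725 : act 3 n23227 = n18246 := d27_1 D23227 (iv D18246) D18245
def n23229 : Q := act 8 n18246
theorem D23229 : act 8 n18246 = n23229 := rfl
theorem F103734 : act 4 n23229 = n18248 := d33_1 D23229 (iv D18248) (iv F82051)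
def n23231 : Q := act 9 n18248
theorem D23231 : act 9 n18248 = n23231 := rfl
theorem F103745 : act 5 n23231 = n18265 := d38_1 D23231 (iv D18265) (iv F82061)
theorem F103747 : act 7 n23231 = n18249 := d43_1 D23231 (iv D18249) (iv F82063)
def n23232 : Q := act 8 n18250
theorem D23232 : act 8 n18250 = n23232 := rfl
theorem F103751 : act 3 n23232 = n18252 := d28_1 D23232 (iv D18252) (iv F82070)
def n23234 : Q := act 9 n18252
theorem D23234 : act 9 n18252 = n23234 := rfl
theorem F103762 : act 4 n23234 = n18254 := d34_1 D23234 (iv D18254) (iv F82080)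
theorem F103765 : act 7 n23234 = n18253 := d43_1 D23234 (iv D18253) (iv F82083)
def n23235 : Q := act 6 n18256
theorem D23235 : act 6 n18256 = n23235 := rfl
theorem F103770 : act 5 n23235 = n18261 := d35_1 D23235 (iv D18261) F64503 (iv F64460) (iv F82106)
def n23238 : Q := act 8 n18261
theorem D23238 : act 8 n18261 = n23238 := rfl
theorem F103788 : act 0 n23238 = n18264 := d7_1 D23238 (iv D18264) (iv F82134)
theorem F103793 : act 6 n23238 = n18262 := d40_1 D23238 (iv D18262) D18261
def n23239 : Q := act 9 n18262
theorem D23239 : act 9 n18262 = n23239 := rfl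
theorem F103799 : act 7 n23239 = n18263 := d43_1 D23239 (iv D18263) (iv F82144)
def n23240 : Q := act 9 n18264
theorem D23240 : act 9 n18264 = n23240 := rfl
theorem F103801 : act 1 n23240 = n18266 := d16_1 D23240 (iv D18266) (iv F82151)
theorem F103805 : act 6 n23240 = n18265 := d41_1 D23240 (iv D18265) (iv F82155)
def n23243 : Q := act 8 n18269
theorem D23243 : act 8 n18269 = n23243 := rfl
theorem F103827 : act 7 n23243 = n18270 := d42_1 D23243 (iv D18270) D18269
def n23244 : Q := act 9 n18270
theorem D23244 : act 9 n18270 = n23244 := rfl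
theorem F103832 : act 5 n23244 = n18287 := d38_1 D23244 (iv D18287) (iv F82193)
def n23246 : Q := act 9 n18272
theorem D23246 : act 9 n18272 = n23246 := rfl
theorem F103845 : act 7 n23246 = n18273 := d43_1 D23246 (iv D18273) (iv F82205)
def n23247 : Q := act 9 n18274
theorem D23247 : act 9 n18274 = n23247 := rfl
theorem F103851 : act 6 n23247 = n18275 := d41_1 D23247 (iv D18275) (iv F82216)
def n23253 : Q := act 8 n18284
theorem D23253 : act 8 n18284 = n23253 := rfl
theorem F103889 : act 7 n23253 = n18285 := d42_1 D23253 (iv D18285) D18284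
def n23254 : Q := act 9 n18285
theorem D23254 : act 9 n18285 = n23254 := rfl
theorem F103896 : act 6 n23254 = n18298 := d41_1 D23254 (iv D18298) (iv F82283)
def n23256 : Q := act 8 n18288
theorem D23256 : act 8 n18288 = n23256 := rfl
theorem F103908 : act 7 n23256 = n18289 := d42_1 D23256 (iv D18289) D18288
def n23257 : Q := act 9 n18289
theorem D23257 : act 9 n18289 = n23257 := rfl
theorem F103914 : act 6 n23257 = n18301 := d41_1 D23257 (iv D18301) (iv F82301)
def n23258 : Q := act 9 n18290
theorem D23258 : act 9 n18290 = n23258 := rfl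
theorem F103921 : act 7 n23258 = n18291 := d43_1 D23258 (iv D18291) (iv F82307)
def n23259 : Q := act 9 n18293
theorem D23259 : act 9 n18293 = n23259 := rfl
theorem F103928 : act 7 n23259 = n18294 := d43_1 D23259 (iv D18294) (iv F82324)
def n23262 : Q := act 9 n18297
theorem D23262 : act 9 n18297 = n23262 := rfl
theorem F103947 : act 5 n23262 = n18298 := d38_1 D23262 (iv D18298) D18297
def n23266 : Q := act 9 n18300
theorem D23266 : act 9 n18300 = n23266 := rfl
theorem F103970 : act 5 n23266 = n18301 := d38_1 D23266 (iv D18301) D18300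
def n23267 : Q := act 8 n18302
theorem D23267 : act 8 n18302 = n23267 := rfl
theorem F103976 : act 5 n23267 = n18475 := d37_1 D23267 (iv D18475) F65698 (iv F64766) (iv F82371)
def n23269 : Q := act 8 n18304
theorem D23269 : act 8 n18304 = n23269 := rfl
theorem F103989 : act 5 n23269 = n18478 := d37_1 D23269 (iv D18478) F65709 (iv F64777) (iv F82383)
def n23271 : Q := act 4 n18308
theorem D23271 : act 4 n18308 = n23271 := rfl
def n23272 : Q := act 8 n18308
theorem D23272 : act 8 n18308 = n23272 := rfl
def n23273 : Q := act 7 n18309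
theorem D23273 : act 7 n18309 = n23273 := rfl
theorem F104012 : act 4 n23273 = n18310 := d32_1 D23273 (iv D18310) D18309
def n23274 : Q := act 8 n18310
theorem D23274 : act 8 n18310 = n23274 := rfl
theorem F104013 : act 1 n23274 = n18316 := d15_1 D23274 (iv D18316) (iv F82413)
theorem F104017 : act 7 n23274 = n18311 := d42_1 D23274 (iv D18311) D18310
def n23277 : Q := act 6 n18313
theorem D23277 : act 6 n18313 = n23277 := rfl
theorem F104028 : act 2 n23277 = n18318 := d20_1 D23277 (iv D18318) (iv F82427)
theorem F104029 : act 4 n23277 = n18315 := d31_1 D23277 (iv D18315) (iv F82428)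
def n23278 : Q := act 8 n18313
theorem D23278 : act 8 n18313 = n23278 := rfl
theorem F104032 : act 2 n23278 = n18319 := d22_1 D23278 (iv D18319) (iv F82427)
theorem F104034 : act 7 n23278 = n18314 := d42_1 D23278 (iv D18314) D18313
def n23280 : Q := act 8 n18315
theorem D23280 : act 8 n18315 = n23280 := rfl
theorem F104040 : act 2 n23280 = n18322 := d22_1 D23280 (iv D18322) (iv F82434)
theorem F104042 : act 6 n23280 = n18316 := d40_1 D23280 (iv D18316) D18315
def n23281 : Q := act 9 n18316
theorem D23281 : act 9 n18316 = n23281 := rfl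
theorem F104048 : act 7 n23281 = n18317 := d43_1 D23281 (iv D18317) (iv F82441)
def n23283 : Q := act 8 n18318
theorem D23283 : act 8 n18318 = n23283 := rfl
theorem F104056 : act 3 n23283 = n18337 := d28_1 D23283 (iv D18337) (iv F82449)
theorem F104059 : act 6 n23283 = n18319 := d40_1 D23283 (iv D18319) D18318
def n23285 : Q := act 9 n18319
theorem D23285 : act 9 n18319 = n23285 := rfl
theorem F104071 : act 7 n23285 = n18321 := d43_1 D23285 (iv D18321) (iv F82456)
def n23286 : Q := act 9 n18320
theorem D23286 : act 9 n18320 = n23286 := rfl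
def n23287 : Q := act 5 n18322
theorem D23287 : act 5 n18322 = n23287 := rfl
theorem F104079 : act 3 n23287 = n18324 := d25_1 D23287 (iv D18324) (iv F82468)
def n23288 : Q := act 9 n18322
theorem D23288 : act 9 n18322 = n23288 := rfl
theorem F104085 : act 3 n23288 = n18325 := d29_1 D23288 (iv D18325) (iv F82468)
theorem F104086 : act 6 n23288 = n18323 := d41_1 D23288 (iv D18323) (iv F82469)
def n23289 : Q := act 4 n18324
theorem D23289 : act 4 n18324 = n23289 := rfl
theorem F104092 : act 5 n23289 = n18343 := d30_2 D18324 D23289 (iv D18343) (iv D14296) (iv F64889)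
def n23290 : Q := act 9 n18324
theorem D23290 : act 9 n18324 = n23290 := rfl
def n23292 : Q := act 8 n18327
theorem D23292 : act 8 n18327 = n23292 := rfl
theorem F104108 : act 1 n23292 = n18334 := d15_1 D23292 (iv D18334) (iv F82492)
theorem F104111 : act 6 n23292 = n18328 := d40_1 D23292 (iv D18328) D18327
def n23293 : Q := act 9 n18328
theorem D23293 : act 9 n18328 = n23293 := rfl
def n23296 : Q := act 8 n18331
theorem D23296 : act 8 n18331 = n23296 := rfl
theorem F104130 : act 4 n23296 = n18334 := d33_1 D23296 (iv D18334) (iv F82514)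
theorem F104132 : act 6 n23296 = n18332 := d40_1 D23296 (iv D18332) D18331
def n23297 : Q := act 9 n18332
theorem D23297 : act 9 n18332 = n23297 := rfl
def n23298 : Q := act 5 n18334
theorem D23298 : act 5 n18334 = n23298 := rfl
theorem F104139 : act 2 n23298 = n18341 := d19_1 D23298 (iv D18341) (iv F82525)
def n23299 : Q := act 9 n18334
theorem D23299 : act 9 n18334 = n23299 := rfl
def n23300 : Q := act 9 n18337
theorem D23300 : act 9 n18337 = n23300 := rfl
theorem F104152 : act 4 n23300 = n18342 := d34_1 D23300 (iv D18342) (iv F82541)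
theorem F104154 : act 6 n23300 = n18339 := d41_1 D23300 (iv D18339) (iv F82543)
def n23302 : Q := act 8 n18340
theorem D23302 : act 8 n18340 = n23302 := rfl
def n23303 : Q := act 9 n18341
theorem D23303 : act 9 n18341 = n23303 := rfl
theorem F104169 : act 5 n23303 = n18342 := d38_1 D23303 (iv D18342) D18341
theorem F104170 : act 6 n23303 = n18504 := d41_1 D23303 (iv D18504) (iv F82562)
def n23304 : Q := act 9 n18343
theorem D23304 : act 9 n18343 = n23304 := rfl
theorem F104177 : act 6 n23304 = n18505 := d41_1 D23304 (iv D18505) (iv F82574)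
def n23305 : Q := act 8 n18344
theorem D23305 : act 8 n18344 = n23305 := rfl
theorem F104182 : act 6 n23305 = n18506 := d40_1 D23305 (iv D18506) (iv F82581)
def n23306 : Q := act 5 n18346
theorem D23306 : act 5 n18346 = n23306 := rfl
theorem F104187 : act 4 n23306 = n18366 := d30_1 D23306 (iv D18366) F65061 (iv F65007) (iv F82589)
def n23307 : Q := act 5 n18347
theorem D23307 : act 5 n18347 = n23307 := rfl
theorem F104195 : act 8 n23307 = n18372 := d37_2 D18347 D23307 (iv D18372) (iv D14324) (iv F65007)
def n23308 : Q := act 4 n18348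
theorem D23308 : act 4 n18348 = n23308 := rfl
theorem F104203 : act 8 n23308 = n18374 := d33_2 (iv F82600) D23308 (iv D18374)
theorem F104204 : act 9 n23308 = n23308 := d34_2 F82601 D23308 (iv D23308)
def n23310 : Q := act 7 n18349
theorem D23310 : act 7 n18349 = n23310 := rfl
theorem F104209 : act 0 n23310 = n18353 := d6_1 D23310 (iv D18353) (iv F82602)
def n23311 : Q := act 8 n18349
theorem D23311 : act 8 n18349 = n23311 := rfl
theorem F104212 : act 0 n23311 = n18354 := d7_1 D23311 (iv D18354) (iv F82602)
def n23312 : Q := act 8 n18350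
theorem D23312 : act 8 n18350 = n23312 := rfl
theorem F104216 : act 0 n23312 = n18356 := d7_1 D23312 (iv D18356) (iv F82605)
theorem F104220 : act 7 n23312 = n18351 := d42_1 D23312 (iv D18351) D18350
def n23313 : Q := act 9 n18351
theorem D23313 : act 9 n18351 = n23313 := rfl
def n23315 : Q := act 8 n18352
theorem D23315 : act 8 n18352 = n23315 := rfl
def n23316 : Q := act 6 n18353
theorem D23316 : act 6 n18353 = n23316 := rfl
theorem F104235 : act 1 n23316 = n18360 := d13_1 D23316 (iv D18360) (iv F82618)
theorem F104237 : act 4 n23316 = n18355 := d31_1 D23316 (iv D18355) (iv F82620)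
def n23317 : Q := act 8 n18353
theorem D23317 : act 8 n18353 = n23317 := rfl
theorem F104239 : act 1 n23317 = n18361 := d15_1 D23317 (iv D18361) (iv F82618)
theorem F104242 : act 7 n23317 = n18354 := d42_1 D23317 (iv D18354) D18353
def n23318 : Q := act 5 n18354
theorem D23318 : act 5 n18354 = n23318 := rfl
theorem F104243 : act 1 n23318 = n18362 := d12_1 D23318 (iv D18362) (iv F82621)
def n23319 : Q := act 9 n18354
theorem D23319 : act 9 n18354 = n23319 := rfl
def n23320 : Q := act 8 n18355
theorem D23320 : act 8 n18355 = n23320 := rfl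
theorem F104250 : act 1 n23320 = n18364 := d15_1 D23320 (iv D18364) (iv F82625)
theorem F104253 : act 6 n23320 = n18356 := d40_1 D23320 (iv D18356) D18355
def n23321 : Q := act 9 n18356
theorem D23321 : act 9 n18356 = n23321 := rfl
theorem F104259 : act 7 n23321 = n18357 := d43_1 D23321 (iv D18357) (iv F82633)
def n23323 : Q := act 8 n18358
theorem D23323 : act 8 n18358 = n23323 := rfl
theorem F104264 : act 2 n23323 = n18377 := d22_1 D23323 (iv D18377) (iv F82639)
def n23325 : Q := act 5 n18360
theorem D23325 : act 5 n18360 = n23325 := rfl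
def n23326 : Q := act 8 n18360
theorem D23326 : act 8 n18360 = n23326 := rfl
theorem F104275 : act 2 n23326 = n18367 := d22_1 D23326 (iv D18367) (iv F82646)
theorem F104278 : act 6 n23326 = n18361 := d40_1 D23326 (iv D18361) D18360
def n23327 : Q := act 5 n18361
theorem D23327 : act 5 n18361 = n23327 := rfl
theorem F104283 : act 7 n23327 = n18362 := d36_2 (iv F82651) D23327 (iv D18362)
def n23328 : Q := act 9 n18361
theorem D23328 : act 9 n18361 = n23328 := rfl
theorem F104286 : act 7 n23328 = n18363 := d43_1 D23328 (iv D18363) (iv F82651)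
def n23330 : Q := act 5 n18364
theorem D23330 : act 5 n18364 = n23330 := rfl
theorem F104290 : act 2 n23330 = n18372 := d19_1 D23330 (iv D18372) (iv F82657)
def n23331 : Q := act 9 n18364
theorem D23331 : act 9 n18364 = n23331 := rfl
theorem F104295 : act 2 n23331 = n18373 := d23_1 D23331 (iv D18373) (iv F82657)
theorem F104297 : act 6 n23331 = n18365 := d41_1 D23331 (iv D18365) (iv F82659)
def n23332 : Q := act 9 n18367
theorem D23332 : act 9 n18367 = n23332 := rfl
theorem F104300 : act 3 n23332 = n18386 := d29_1 D23332 (iv D18386) (iv F82670)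
theorem F104303 : act 6 n23332 = n18369 := d41_1 D23332 (iv D18369) (iv F82673)
def n23333 : Q := act 9 n18368
theorem D23333 : act 9 n18368 = n23333 := rfl
theorem F104308 : act 5 n23333 = n18369 := d38_1 D23333 (iv D18369) D18368
def n23336 : Q := act 9 n18372
theorem D23336 : act 9 n18372 = n23336 := rfl
theorem F104321 : act 3 n23336 = n18375 := d29_1 D23336 (iv D18375) (iv F82694)
def n23337 : Q := act 9 n18374
theorem D23337 : act 9 n18374 = n23337 := rfl
theorem F104330 : act 4 n23337 = n18375 := d34_1 D23337 (iv D18375) D18374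
theorem F104331 : act 5 n23337 = n18391 := d38_1 D23337 (iv D18391) (iv F82705)
theorem F104334 : act 8 n23337 = n23337 := d44_1 D23337 (iv D23337) (iv F104203) F104204 F104203
def n23339 : Q := act 8 n18376
theorem D23339 : act 8 n18376 = n23339 := rfl
theorem F104340 : act 3 n23339 = n18380 := d28_1 D23339 (iv D18380) (iv F82715)
theorem F104343 : act 6 n23339 = n18377 := d40_1 D23339 (iv D18377) D18376
def n23340 : Q := act 9 n18377
theorem D23340 : act 9 n18377 = n23340 := rfl
def n23341 : Q := act 9 n18380
theorem D23341 : act 9 n18380 = n23341 := rfl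
theorem F104351 : act 4 n23341 = n18385 := d34_1 D23341 (iv D18385) (iv F82733)
theorem F104353 : act 6 n23341 = n18382 := d41_1 D23341 (iv D18382) (iv F82735)
def n23342 : Q := act 9 n18381
theorem D23342 : act 9 n18381 = n23342 := rfl
theorem F104360 : act 7 n23342 = n18383 := d43_1 D23342 (iv D18383) (iv F82741)
def n23344 : Q := act 9 n18384
theorem D23344 : act 9 n18384 = n23344 := rfl
theorem F104365 : act 2 n23344 = n18390 := d23_1 D23344 (iv D18390) (iv F82751)
theorem F104368 : act 5 n23344 = n18385 := d38_1 D23344 (iv D18385) D18384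
theorem F104369 : act 6 n23344 = n18513 := d41_1 D23344 (iv D18513) (iv F82754)
theorem F104370 : act 7 n23344 = n23344 := d43_1 D23344 (iv D23344) F82755
def n23345 : Q := act 8 n18387
theorem D23345 : act 8 n18387 = n23345 := rfl
def n23347 : Q := act 8 n18390
theorem D23347 : act 8 n18390 = n23347 := rfl
theorem F104380 : act 3 n23347 = n18392 := d28_1 D23347 (iv D18392) (iv F82780)
theorem F104382 : act 6 n23347 = n18516 := d40_1 D23347 (iv D18516) (iv F82783)
def n23348 : Q := act 8 n18391
theorem D23348 : act 8 n18391 = n23348 := rfl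
theorem F104388 : act 4 n23348 = n18392 := d33_1 D23348 (iv D18392) (iv F82788)
theorem F104389 : act 5 n23348 = n23348 := d37_1 D23348 (iv D23348) (iv F104331) F104334 F104331
theorem F104390 : act 6 n23348 = n18517 := d40_1 D23348 (iv D18517) (iv F82789)
def n23349 : Q := act 5 n18394
theorem D23349 : act 5 n18394 = n23349 := rfl
theorem F104395 : act 4 n23349 = n18411 := d30_1 D23349 (iv D18411) F65267 (iv F65201) (iv F82802)
def n23350 : Q := act 5 n18395
theorem D23350 : act 5 n18395 = n23350 := rfl
theorem F104404 : act 8 n23350 = n18417 := d37_2 D18395 D23350 (iv D18417) (iv D14373) (iv F65201)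
def n23351 : Q := act 6 n18400
theorem D23351 : act 6 n18400 = n23351 := rfl
theorem F104406 : act 0 n23351 = n18405 := d5_1 D23351 (iv D18405) (iv F82837)
theorem F104409 : act 4 n23351 = n18402 := d31_1 D23351 (iv D18402) (iv F82840)
def n23352 : Q := act 8 n18400
theorem D23352 : act 8 n18400 = n23352 := rfl
theorem F104411 : act 0 n23352 = n18406 := d7_1 D23352 (iv D18406) (iv F82837)
def n23353 : Q := act 5 n18401
theorem D23353 : act 5 n18401 = n23353 := rfl
theorem F104416 : act 0 n23353 = n18407 := d4_1 D23353 (iv D18407) (iv F82841)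
def n23354 : Q := act 9 n18401
theorem D23354 : act 9 n18401 = n23354 := rfl
theorem F104420 : act 0 n23354 = n18408 := d8_1 D23354 (iv D18408) (iv F82841)
def n23355 : Q := act 8 n18402
theorem D23355 : act 8 n18402 = n23355 := rfl
theorem F104425 : act 0 n23355 = n18409 := d7_1 D23355 (iv D18409) (iv F82846)
def n23356 : Q := act 9 n18403
theorem D23356 : act 9 n18403 = n23356 := rfl
theorem F104430 : act 0 n23356 = n18410 := d8_1 D23356 (iv D18410) (iv F82850)
theorem F104434 : act 7 n23356 = n18404 := d43_1 D23356 (iv D18404) (iv F82854)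
def n23357 : Q := act 5 n18405
theorem D23357 : act 5 n18405 = n23357 := rfl
def n23358 : Q := act 8 n18405
theorem D23358 : act 8 n18405 = n23358 := rfl
theorem F104439 : act 1 n23358 = n18412 := d15_1 D23358 (iv D18412) (iv F82860)
def n23359 : Q := act 5 n18406
theorem D23359 : act 5 n18406 = n23359 := rfl
def n23360 : Q := act 9 n18406
theorem D23360 : act 9 n18406 = n23360 := rfl
theorem F104450 : act 1 n23360 = n18414 := d16_1 D23360 (iv D18414) (iv F82864)
theorem F104453 : act 7 n23360 = n18408 := d43_1 D23360 (iv D18408) (iv F82867)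
def n23362 : Q := act 9 n18407
theorem D23362 : act 9 n18407 = n23362 := rfl
theorem F104459 : act 1 n23362 = n18416 := d16_1 D23362 (iv D18416) (iv F82868)
def n23363 : Q := act 5 n18409
theorem D23363 : act 5 n18409 = n23363 := rfl
theorem F104463 : act 1 n23363 = n18417 := d12_1 D23363 (iv D18417) (iv F82875)
def n23364 : Q := act 9 n18409
theorem D23364 : act 9 n18409 = n23364 := rfl
theorem F104468 : act 1 n23364 = n18418 := d16_1 D23364 (iv D18418) (iv F82875)
theorem F104470 : act 6 n23364 = n18410 := d41_1 D23364 (iv D18410) (iv F82877)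
def n23365 : Q := act 9 n18412
theorem D23365 : act 9 n18412 = n23365 := rfl
theorem F104473 : act 2 n23365 = n18419 := d23_1 D23365 (iv D18419) (iv F82889)
theorem F104477 : act 6 n23365 = n18414 := d41_1 D23365 (iv D18414) (iv F82893)
def n23366 : Q := act 9 n18413
theorem D23366 : act 9 n18413 = n23366 := rfl
theorem F104483 : act 5 n23366 = n18414 := d38_1 D23366 (iv D18414) D18413
def n23368 : Q := act 8 n18416
theorem D23368 : act 8 n18416 = n23368 := rfl
def n23369 : Q := act 9 n18417
theorem D23369 : act 9 n18417 = n23369 := rfl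
theorem F104498 : act 2 n23369 = n18423 := d23_1 D23369 (iv D18423) (iv F82918)
def n23370 : Q := act 8 n18420
theorem D23370 : act 8 n18420 = n23370 := rfl
def n23373 : Q := act 5 n18431
theorem D23373 : act 5 n18431 = n23373 := rfl
theorem F104523 : act 8 n23373 = n18443 := d37_2 D18431 D23373 (iv D18443) (iv D14414) (iv F65410)
def n23377 : Q := act 4 n18436
theorem D23377 : act 4 n18436 = n23377 := rfl
theorem F104547 : act 5 n23377 = n18439 := d30_2 D18436 D23377 (iv D18439) (iv D14409) (iv F65449)
def n23378 : Q := act 6 n18436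
theorem D23378 : act 6 n18436 = n23378 := rfl
theorem F104554 : act 5 n23378 = n18437 := d35_1 D23378 (iv D18437) (iv D14407) (iv F65450) D18436
def n23381 : Q := act 5 n18441
theorem D23381 : act 5 n18441 = n23381 := rfl
theorem F104573 : act 0 n23381 = n18443 := d4_1 D23381 (iv D18443) (iv F83063)
def n23382 : Q := act 9 n18441
theorem D23382 : act 9 n18441 = n23382 := rfl
theorem F104578 : act 0 n23382 = n18444 := d8_1 D23382 (iv D18444) (iv F83063)
theorem F104582 : act 6 n23382 = n18442 := d41_1 D23382 (iv D18442) (iv F83067)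
def n23384 : Q := act 9 n18443
theorem D23384 : act 9 n18443 = n23384 := rfl
theorem F104590 : act 1 n23384 = n18446 := d16_1 D23384 (iv D18446) (iv F83075)
def n23386 : Q := act 9 n18447
theorem D23386 : act 9 n18447 = n23386 := rfl
theorem F104607 : act 3 n23386 = n18448 := d29_1 D23386 (iv D18448) D18447
theorem F104608 : act 4 n23386 = n18449 := d34_1 D23386 (iv D18449) (iv F83099)
def n23387 : Q := act 9 n18451
theorem D23387 : act 9 n18451 = n23387 := rfl
theorem F104620 : act 7 n23387 = n18452 := d43_1 D23387 (iv D18452) (iv F83134)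
def n23388 : Q := act 9 n18454
theorem D23388 : act 9 n18454 = n23388 := rfl
theorem F104627 : act 7 n23388 = n18455 := d43_1 D23388 (iv D18455) (iv F83154)
def n23390 : Q := act 9 n18456
theorem D23390 : act 9 n18456 = n23390 := rfl
theorem F104642 : act 7 n23390 = n18458 := d43_1 D23390 (iv D18458) (iv F83166)
def n23392 : Q := act 9 n18459
theorem D23392 : act 9 n18459 = n23392 := rfl
theorem F104658 : act 7 n23392 = n18461 := d43_1 D23392 (iv D18461) (iv F83185)
def n23396 : Q := act 9 n18466
theorem D23396 : act 9 n18466 = n23396 := rfl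
theorem F104687 : act 6 n23396 = n18468 := d41_1 D23396 (iv D18468) (iv F83231)
theorem F104688 : act 7 n23396 = n18467 := d43_1 D23396 (iv D18467) D18466
def n23397 : Q := act 8 n18470
theorem D23397 : act 8 n18470 = n23397 := rfl
theorem F104693 : act 3 n23397 = n18543 := d28_1 D23397 (iv D18543) (iv F83256)
theorem F104694 : act 4 n23397 = n18484 := d33_1 D23397 (iv D18484) (iv F83257)
theorem F104695 : act 6 n23397 = n18541 := d40_1 D23397 (iv D18541) (iv F83259)
def n23398 : Q := act 8 n18472
theorem D23398 : act 8 n18472 = n23398 := rfl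
theorem F104700 : act 2 n23398 = n18535 := d22_1 D23398 (iv D18535) (iv F83270)
theorem F104701 : act 3 n23398 = n18475 := d28_1 D23398 (iv D18475) (iv F83271)
theorem F104703 : act 6 n23398 = n18532 := d40_1 D23398 (iv D18532) (iv F83274)
def n23400 : Q := act 8 n18474
theorem D23400 : act 8 n18474 = n23400 := rfl
theorem F104717 : act 3 n23400 = n18532 := d28_1 D23400 (iv D18532) (iv F83287)
theorem F104718 : act 4 n23400 = n18486 := d33_1 D23400 (iv D18486) (iv F83288)
theorem F104720 : act 6 n23400 = n18475 := d40_1 D23400 (iv D18475) (iv F83290)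
def n23402 : Q := act 8 n18477
theorem D23402 : act 8 n18477 = n23402 := rfl
theorem F104733 : act 3 n23402 = n18480 := d28_1 D23402 (iv D18480) (iv F83307)
theorem F104736 : act 6 n23402 = n18478 := d40_1 D23402 (iv D18478) (iv F83310)
def n23404 : Q := act 9 n18482
theorem D23404 : act 9 n18482 = n23404 := rfl
theorem F104745 : act 0 n23404 = n18485 := d8_1 D23404 (iv D18485) (iv F83336)
theorem F104747 : act 2 n23404 = n23404 := d23_1 D23404 (iv D23404) F83338
theorem F104748 : act 3 n23404 = n23404 := d29_1 D23404 (iv D23404) F83339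
theorem F104749 : act 4 n23404 = n18540 := d34_1 D23404 (iv D18540) (iv F83340)
def n23405 : Q := act 8 n18483
theorem D23405 : act 8 n18483 = n23405 := rfl
theorem F104753 : act 0 n23405 = n18486 := d7_1 D23405 (iv D18486) (iv F83344)
theorem F104757 : act 4 n23405 = n18541 := d33_1 D23405 (iv D18541) (iv F83348)
theorem F104758 : act 6 n23405 = n18484 := d40_1 D23405 (iv D18484) (iv F83350)
def n23406 : Q := act 8 n18485
theorem D23406 : act 8 n18485 = n23406 := rfl
theorem F104764 : act 7 n23406 = n18486 := d42_1 D23406 (iv D18486) (iv F83363)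
def n23413 : Q := act 9 n18493
theorem D23413 : act 9 n18493 = n23413 := rfl
theorem F104811 : act 1 n23413 = n18500 := d16_1 D23413 (iv D18500) (iv F83411)
theorem F104814 : act 6 n23413 = n18494 := d41_1 D23413 (iv D18494) (iv F83414)
def n23416 : Q := act 9 n18499
theorem D23416 : act 9 n18499 = n23416 := rfl
theorem F104831 : act 2 n23416 = n18504 := d23_1 D23416 (iv D18504) (iv F83446)
theorem F104834 : act 5 n23416 = n18500 := d38_1 D23416 (iv D18500) D18499
def n23418 : Q := act 8 n18504
theorem D23418 : act 8 n18504 = n23418 := rfl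
theorem F104844 : act 3 n23418 = n18506 := d28_1 D23418 (iv D18506) (iv F83477)
def n23419 : Q := act 8 n18505
theorem D23419 : act 8 n18505 = n23419 := rfl
theorem F104849 : act 0 n23419 = n18517 := d7_1 D23419 (iv D18517) (iv F83481)
theorem F104853 : act 4 n23419 = n18506 := d33_1 D23419 (iv D18506) (iv F83485)
theorem F104854 : act 7 n23419 = n18537 := d42_1 D23419 (iv D18537) (iv F83487)
def n23421 : Q := act 9 n18508
theorem D23421 : act 9 n18508 = n23421 := rfl
theorem F104864 : act 2 n23421 = n23421 := d23_1 D23421 (iv D23421) F83501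
theorem F104865 : act 3 n23421 = n18510 := d29_1 D23421 (iv D18510) (iv F83502)
theorem F104869 : act 7 n23421 = n18539 := d43_1 D23421 (iv D18539) (iv F83506)
theorem F104870 : act 8 n23421 = n23421 := d44_1 D23421 (iv D23421) (iv D18508) F65937 D18508
def n23422 : Q := act 8 n18511
theorem D23422 : act 8 n18511 = n23422 := rfl
def n23423 : Q := act 8 n18513
theorem D23423 : act 8 n18513 = n23423 := rfl
theorem F104877 : act 2 n23423 = n18516 := d22_1 D23423 (iv D18516) (iv F83529)
def n23443 : Q := act 6 n18551
theorem D23443 : act 6 n18551 = n23443 := rfl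
theorem F105011 : act 1 n23443 = n18622 := d13_1 D23443 (iv D18622) (iv F83770)
theorem F105016 : act 7 n23443 = n22530 := d39_2 D18551 D23443 (iv D22530) (iv D17618) (iv F66397)
def n23444 : Q := act 8 n18551
theorem D23444 : act 8 n18551 = n23444 := rfl
theorem F105018 : act 0 n23444 = n23444 := d7_1 D23444 (iv D23444) F83769
theorem F105019 : act 1 n23444 = n18623 := d15_1 D23444 (iv D18623) (iv F83770)
theorem F105021 : act 3 n23444 = n23444 := d28_1 D23444 (iv D23444) F83772
theorem F105023 : act 5 n23444 = n18569 := d37_1 D23444 (iv D18569) F66489 (iv F66405) (iv F83774)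
theorem F105024 : act 7 n23444 = n18552 := d42_1 D23444 (iv D18552) D18551
def n23445 : Q := act 9 n18552
theorem D23445 : act 9 n18552 = n23445 := rfl
theorem F105026 : act 1 n23445 = n18624 := d16_1 D23445 (iv D18624) (iv F83777)
theorem F105030 : act 5 n23445 = n18570 := d38_1 D23445 (iv D18570) (iv F83781)
def n23446 : Q := act 0 n18553
theorem D23446 : act 0 n18553 = n23446 := rfl
theorem F105036 : act 4 n23446 = n22508 := d3_2 (iv F83785) D23446 (iv D22508)
theorem F105038 : act 7 n23446 = n22499 := d6_2 (iv F83787) D23446 (iv D22499)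
theorem F105039 : act 8 n23446 = n21978 := d7_2 (iv F83788) D23446 (iv D21978)
def n23447 : Q := act 6 n18553
theorem D23447 : act 6 n18553 = n23447 := rfl
theorem F105044 : act 4 n23447 = n22509 := d31_1 D23447 (iv D22509) (iv F83785)
theorem F105046 : act 8 n23447 = n21979 := d40_2 (iv F83788) D23447 (iv D21979)
def n23448 : Q := act 7 n18554
theorem D23448 : act 7 n18554 = n23448 := rfl
theorem F105051 : act 4 n23448 = n22511 := d32_1 D23448 (iv D22511) (iv F83793)
theorem F105054 : act 8 n23448 = n21981 := d42_2 (iv F83795) D23448 (iv D21981)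
def n23450 : Q := act 6 n18557
theorem D23450 : act 6 n18557 = n23450 := rfl
theorem F105063 : act 0 n23450 = n18561 := d5_1 D23450 (iv D18561) (iv F83813)
theorem F105068 : act 9 n23450 = n18572 := d41_2 (iv F83819) D23450 (iv D18572)
def n23451 : Q := act 5 n18558
theorem D23451 : act 5 n18558 = n23451 := rfl
theorem F105069 : act 0 n23451 = n18562 := d4_1 D23451 (iv D18562) (iv F83820)
theorem F105070 : act 1 n23451 = n23451 := d12_1 D23451 (iv D23451) F83821
theorem F105071 : act 2 n23451 = n18656 := d19_1 D23451 (iv D18656) (iv F83822)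
theorem F105072 : act 4 n23451 = n22052 := d30_1 D23451 (iv D22052) F77691 (iv F66447) (iv F83823)
theorem F105073 : act 6 n23451 = n23451 := d35_2 D18558 D23451 (iv D23451) (iv D18558) F66439
theorem F105074 : act 9 n23451 = n18573 := d38_2 (iv F83825) D23451 (iv D18573)
def n23452 : Q := act 7 n18558
theorem D23452 : act 7 n18558 = n23452 := rfl
theorem F105075 : act 0 n23452 = n18563 := d6_1 D23452 (iv D18563) (iv F83820)
theorem F105076 : act 1 n23452 = n23452 := d14_1 D23452 (iv D23452) F83821
theorem F105077 : act 2 n23452 = n18657 := d21_1 D23452 (iv D18657) (iv F83822)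
theorem F105078 : act 4 n23452 = n18559 := d32_1 D23452 (iv D18559) (iv F83823)
theorem F105079 : act 6 n23452 = n23452 := d39_1 D23452 (iv D23452) (iv D18558) F66440 D18558
theorem F105080 : act 8 n23452 = n19482 := d42_2 (iv F83824) D23452 (iv D19482)
theorem F105081 : act 9 n23452 = n18574 := d43_2 (iv F83825) D23452 (iv D18574)
def n23453 : Q := act 6 n18560
theorem D23453 : act 6 n18560 = n23453 := rfl
theorem F105083 : act 2 n23453 = n18561 := d20_1 D23453 (iv D18561) D18560
theorem F105084 : act 3 n23453 = n18665 := d26_1 D23453 (iv D18665) (iv F83835)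
theorem F105087 : act 9 n23453 = n18575 := d41_2 (iv F83840) D23453 (iv D18575)
def n23454 : Q := act 5 n18561
theorem D23454 : act 5 n18561 = n23454 := rfl
theorem F105088 : act 1 n23454 = n18564 := d12_1 D23454 (iv D18564) (iv F83841)
theorem F105089 : act 3 n23454 = n18562 := d25_1 D23454 (iv D18562) (iv F83842)
theorem F105090 : act 6 n23454 = n23454 := d35_2 D18561 D23454 (iv D23454) (iv D18561) F66452
theorem F105091 : act 9 n23454 = n18576 := d38_2 (iv F83845) D23454 (iv D18576)
def n23455 : Q := act 7 n18561
theorem D23455 : act 7 n18561 = n23455 := rfl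
theorem F105092 : act 1 n23455 = n18565 := d14_1 D23455 (iv D18565) (iv F83841)
theorem F105093 : act 3 n23455 = n18563 := d27_1 D23455 (iv D18563) (iv F83842)
theorem F105094 : act 4 n23455 = n23455 := d32_1 D23455 (iv D23455) F83843
theorem F105095 : act 6 n23455 = n23455 := d39_1 D23455 (iv D23455) (iv D18561) F66453 D18561
theorem F105096 : act 8 n23455 = n21018 := d42_2 (iv F83844) D23455 (iv D21018)
theorem F105097 : act 9 n23455 = n18577 := d43_2 (iv F83845) D23455 (iv D18577)
def n23456 : Q := act 7 n18562
theorem D23456 : act 7 n18562 = n23456 := rfl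
theorem F105098 : act 1 n23456 = n18566 := d14_1 D23456 (iv D18566) (iv F83846)
theorem F105099 : act 2 n23456 = n18668 := d21_1 D23456 (iv D18668) (iv F83847)
theorem F105100 : act 4 n23456 = n22115 := d32_1 D23456 (iv D22115) (iv F83848)
theorem F105101 : act 5 n23456 = n18563 := d36_1 D23456 (iv D18563) D18562
theorem F105102 : act 9 n23456 = n18578 := d43_2 (iv F83850) D23456 (iv D18578)
def n23457 : Q := act 8 n18562
theorem D23457 : act 8 n18562 = n23457 := rfl
theorem F105103 : act 1 n23457 = n18567 := d15_1 D23457 (iv D18567) (iv F83846)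
theorem F105104 : act 2 n23457 = n18669 := d22_1 D23457 (iv D18669) (iv F83847)
theorem F105105 : act 4 n23457 = n22116 := d33_1 D23457 (iv D22116) (iv F83848)
theorem F105106 : act 5 n23457 = n21020 := d37_1 D23457 (iv D21020) (iv D16410) (iv F66459) D18562
theorem F105107 : act 6 n23457 = n23457 := d40_1 D23457 (iv D23457) F83849
def n23458 : Q := act 4 n18564
theorem D23458 : act 4 n18564 = n23458 := rfl
theorem F105110 : act 3 n23458 = n22199 := d24_1 D23458 (iv D22199) F78100 (iv F66476) (iv F83859)
theorem F105113 : act 9 n23458 = n18580 := d34_2 (iv F83861) D23458 (iv D18580)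
def n23459 : Q := act 7 n18564
theorem D23459 : act 7 n18564 = n23459 := rfl
theorem F105114 : act 0 n23459 = n23459 := d6_1 D23459 (iv D23459) F83857
theorem F105115 : act 2 n23459 = n23459 := d21_1 D23459 (iv D23459) F83858
theorem F105116 : act 3 n23459 = n18566 := d27_1 D23459 (iv D18566) (iv F83859)
theorem F105117 : act 5 n23459 = n18565 := d36_1 D23459 (iv D18565) D18564
theorem F105118 : act 9 n23459 = n18581 := d43_2 (iv F83861) D23459 (iv D18581)
def n23460 : Q := act 8 n18564
theorem D23460 : act 8 n18564 = n23460 := rfl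
theorem F105121 : act 3 n23460 = n18567 := d28_1 D23460 (iv D18567) (iv F83859)
theorem F105122 : act 5 n23460 = n22617 := d37_1 D23460 (iv D22617) (iv D17683) (iv F66472) D18564
def n23461 : Q := act 6 n18566
theorem D23461 : act 6 n18566 = n23461 := rfl
theorem F105124 : act 0 n23461 = n23461 := d5_1 D23461 (iv D23461) F83869
theorem F105125 : act 2 n23461 = n18568 := d20_1 D23461 (iv D18568) (iv F83870)
theorem F105126 : act 4 n23461 = n22202 := d31_1 D23461 (iv D22202) (iv F83871)
theorem F105127 : act 5 n23461 = n23461 := d35_1 D23461 (iv D23461) F83872 F66482 (iv F83872)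
theorem F105128 : act 7 n23461 = n23461 := d39_2 D18566 D23461 (iv D23461) (iv D18566) F66477
theorem F105129 : act 9 n23461 = n18583 := d41_2 (iv F83873) D23461 (iv D18583)
def n23462 : Q := act 8 n18566
theorem D23462 : act 8 n18566 = n23462 := rfl
theorem F105130 : act 0 n23462 = n23462 := d7_1 D23462 (iv D23462) F83869
theorem F105131 : act 2 n23462 = n18569 := d22_1 D23462 (iv D18569) (iv F83870)
theorem F105132 : act 4 n23462 = n22203 := d33_1 D23462 (iv D22203) (iv F83871)
theorem F105134 : act 7 n23462 = n18567 := d42_1 D23462 (iv D18567) D18566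
def n23463 : Q := act 9 n18567
theorem D23463 : act 9 n18567 = n23463 := rfl
theorem F105136 : act 2 n23463 = n18570 := d23_1 D23463 (iv D18570) (iv F83875)
theorem F105140 : act 8 n23463 = n18585 := d44_1 D23463 (iv D18585) (iv D14588) (iv F66478) D18567
def n23464 : Q := act 8 n18568
theorem D23464 : act 8 n18568 = n23464 := rfl
theorem F105141 : act 0 n23464 = n23464 := d7_1 D23464 (iv D23464) F83879
theorem F105142 : act 1 n23464 = n18710 := d15_1 D23464 (iv D18710) (iv F83880)
theorem F105143 : act 3 n23464 = n23464 := d28_1 D23464 (iv D23464) F83881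
theorem F105144 : act 4 n23464 = n22298 := d33_1 D23464 (iv D22298) (iv F83882)
theorem F105145 : act 6 n23464 = n18569 := d40_1 D23464 (iv D18569) D18568
theorem F105146 : act 7 n23464 = n23464 := d42_1 D23464 (iv D23464) F83884
def n23465 : Q := act 9 n18569
theorem D23465 : act 9 n18569 = n23465 := rfl
theorem F105147 : act 0 n23465 = n23465 := d8_1 D23465 (iv D23465) F83886
theorem F105148 : act 1 n23465 = n18711 := d16_1 D23465 (iv D18711) (iv F83887)
theorem F105149 : act 3 n23465 = n23465 := d29_1 D23465 (iv D23465) F83888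
theorem F105151 : act 7 n23465 = n18570 := d43_1 D23465 (iv D18570) (iv F83890)
theorem F105152 : act 8 n23465 = n18587 := d44_1 D23465 (iv D18587) (iv D14590) (iv F66490) D18569
def n23467 : Q := act 6 n18571
theorem D23467 : act 6 n18571 = n23467 := rfl
theorem F105160 : act 0 n23467 = n18575 := d5_1 D23467 (iv D18575) (iv F83897)
theorem F105161 : act 2 n23467 = n18572 := d20_1 D23467 (iv D18572) D18571
theorem F105162 : act 3 n23467 = n18726 := d26_1 D23467 (iv D18726) (iv F83898)
def n23468 : Q := act 5 n18572
theorem D23468 : act 5 n18572 = n23468 := rfl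
theorem F105165 : act 0 n23468 = n18576 := d4_1 D23468 (iv D18576) (iv F83903)
theorem F105166 : act 1 n23468 = n23468 := d12_1 D23468 (iv D23468) F83904
theorem F105167 : act 3 n23468 = n18573 := d25_1 D23468 (iv D18573) (iv F83905)
theorem F105168 : act 6 n23468 = n23468 := d35_2 D18572 D23468 (iv D23468) (iv D18572) F66499
def n23469 : Q := act 7 n18572
theorem D23469 : act 7 n18572 = n23469 := rfl
theorem F105169 : act 0 n23469 = n18577 := d6_1 D23469 (iv D18577) (iv F83903)
theorem F105170 : act 1 n23469 = n23469 := d14_1 D23469 (iv D23469) F83904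
theorem F105171 : act 3 n23469 = n18574 := d27_1 D23469 (iv D18574) (iv F83905)
theorem F105172 : act 4 n23469 = n23469 := d32_1 D23469 (iv D23469) F83906
theorem F105173 : act 6 n23469 = n23469 := d39_1 D23469 (iv D23469) (iv D18572) F66500 D18572
theorem F105174 : act 8 n23469 = n23469 := d42_2 F83907 D23469 (iv D23469)
def n23470 : Q := act 7 n18573
theorem D23470 : act 7 n18573 = n23470 := rfl
theorem F105175 : act 0 n23470 = n18578 := d6_1 D23470 (iv D18578) (iv F83908)
theorem F105176 : act 1 n23470 = n23470 := d14_1 D23470 (iv D23470) F83909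
theorem F105177 : act 2 n23470 = n18729 := d21_1 D23470 (iv D18729) (iv F83910)
theorem F105178 : act 4 n23470 = n22058 := d32_1 D23470 (iv D22058) (iv F83911)
theorem F105179 : act 5 n23470 = n18574 := d36_1 D23470 (iv D18574) D18573
def n23471 : Q := act 8 n18573
theorem D23471 : act 8 n18573 = n23471 := rfl
theorem F105180 : act 0 n23471 = n18579 := d7_1 D23471 (iv D18579) (iv F83908)
theorem F105181 : act 1 n23471 = n23471 := d15_1 D23471 (iv D23471) F83909
theorem F105182 : act 2 n23471 = n18730 := d22_1 D23471 (iv D18730) (iv F83910)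
theorem F105183 : act 4 n23471 = n22059 := d33_1 D23471 (iv D22059) (iv F83911)
theorem F105184 : act 5 n23471 = n23471 := d37_1 D23471 (iv D23471) (iv D18573) F66506 D18573
theorem F105185 : act 6 n23471 = n23471 := d40_1 D23471 (iv D23471) F83912
def n23472 : Q := act 5 n18575
theorem D23472 : act 5 n18575 = n23472 := rfl
theorem F105186 : act 1 n23472 = n23472 := d12_1 D23472 (iv D23472) F83919
theorem F105187 : act 2 n23472 = n18576 := d19_1 D23472 (iv D18576) (iv F83920)
theorem F105188 : act 3 n23472 = n18737 := d25_1 D23472 (iv D18737) (iv F83921)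
theorem F105189 : act 6 n23472 = n23472 := d35_2 D18575 D23472 (iv D23472) (iv D18575) F66517
def n23473 : Q := act 7 n18575
theorem D23473 : act 7 n18575 = n23473 := rfl
theorem F105190 : act 1 n23473 = n23473 := d14_1 D23473 (iv D23473) F83919
theorem F105191 : act 2 n23473 = n18577 := d21_1 D23473 (iv D18577) (iv F83920)
theorem F105192 : act 3 n23473 = n18738 := d27_1 D23473 (iv D18738) (iv F83921)
theorem F105193 : act 4 n23473 = n23473 := d32_1 D23473 (iv D23473) F83922
theorem F105194 : act 6 n23473 = n23473 := d39_1 D23473 (iv D23473) (iv D18575) F66518 D18575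
theorem F105195 : act 8 n23473 = n23473 := d42_2 F83923 D23473 (iv D23473)
def n23474 : Q := act 4 n18576
theorem D23474 : act 4 n18576 = n23474 := rfl
theorem F105196 : act 1 n23474 = n18580 := d11_1 D23474 (iv D18580) (iv F83924)
theorem F105197 : act 3 n23474 = n22121 := d24_1 D23474 (iv D22121) F77898 (iv F66526) (iv F83925)
theorem F105198 : act 5 n23474 = n23474 := d30_2 D18576 D23474 (iv D23474) (iv D18576) F66522
theorem F105199 : act 6 n23474 = n23474 := d31_2 F83926 D23474 (iv D23474)
def n23475 : Q := act 7 n18576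
theorem D23475 : act 7 n18576 = n23475 := rfl
theorem F105200 : act 1 n23475 = n18581 := d14_1 D23475 (iv D18581) (iv F83924)
theorem F105201 : act 3 n23475 = n18578 := d27_1 D23475 (iv D18578) (iv F83925)
theorem F105202 : act 5 n23475 = n18577 := d36_1 D23475 (iv D18577) D18576
def n23476 : Q := act 8 n18576
theorem D23476 : act 8 n18576 = n23476 := rfl
theorem F105203 : act 1 n23476 = n18582 := d15_1 D23476 (iv D18582) (iv F83924)
theorem F105204 : act 3 n23476 = n18579 := d28_1 D23476 (iv D18579) (iv F83925)
theorem F105205 : act 5 n23476 = n23476 := d37_1 D23476 (iv D23476) (iv D18576) F66523 D18576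
theorem F105206 : act 6 n23476 = n23476 := d40_1 D23476 (iv D23476) F83926
def n23477 : Q := act 6 n18578
theorem D23477 : act 6 n18578 = n23477 := rfl
theorem F105207 : act 1 n23477 = n18583 := d13_1 D23477 (iv D18583) (iv F83932)
theorem F105208 : act 2 n23477 = n18742 := d20_1 D23477 (iv D18742) (iv F83933)
theorem F105209 : act 4 n23477 = n22124 := d31_1 D23477 (iv D22124) (iv F83934)
theorem F105210 : act 5 n23477 = n23477 := d35_1 D23477 (iv D23477) F83935 F66531 (iv F83935)
theorem F105211 : act 7 n23477 = n23477 := d39_2 D18578 D23477 (iv D23477) (iv D18578) F66527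
def n23478 : Q := act 8 n18578
theorem D23478 : act 8 n18578 = n23478 := rfl
theorem F105212 : act 1 n23478 = n18584 := d15_1 D23478 (iv D18584) (iv F83932)
theorem F105213 : act 2 n23478 = n18743 := d22_1 D23478 (iv D18743) (iv F83933)
theorem F105214 : act 4 n23478 = n22125 := d33_1 D23478 (iv D22125) (iv F83934)
theorem F105215 : act 5 n23478 = n23478 := d37_1 D23478 (iv D23478) F83935 F66532 (iv F83935)
theorem F105216 : act 7 n23478 = n18579 := d42_1 D23478 (iv D18579) D18578
def n23479 : Q := act 9 n18579
theorem D23479 : act 9 n18579 = n23479 := rfl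
theorem F105217 : act 1 n23479 = n18585 := d16_1 D23479 (iv D18585) (iv F83936)
theorem F105218 : act 2 n23479 = n18744 := d23_1 D23479 (iv D18744) (iv F83937)
theorem F105219 : act 4 n23479 = n22126 := d34_1 D23479 (iv D22126) (iv F83938)
theorem F105220 : act 5 n23479 = n23479 := d38_1 D23479 (iv D23479) F83939
theorem F105221 : act 6 n23479 = n23479 := d41_1 D23479 (iv D23479) F83940
def n23480 : Q := act 7 n18580
theorem D23480 : act 7 n18580 = n23480 := rfl
theorem F105222 : act 0 n23480 = n23480 := d6_1 D23480 (iv D23480) F83941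
theorem F105223 : act 2 n23480 = n23480 := d21_1 D23480 (iv D23480) F83942
theorem F105224 : act 3 n23480 = n22211 := d27_1 D23480 (iv D22211) (iv F83943)
theorem F105225 : act 4 n23480 = n18581 := d32_1 D23480 (iv D18581) D18580
theorem F105226 : act 5 n23480 = n23480 := d36_1 D23480 (iv D23480) F83944
def n23481 : Q := act 8 n18580
theorem D23481 : act 8 n18580 = n23481 := rfl
theorem F105229 : act 3 n23481 = n22212 := d28_1 D23481 (iv D22212) (iv F83943)
def n23482 : Q := act 6 n18581
theorem D23482 : act 6 n18581 = n23482 := rfl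
theorem F105232 : act 0 n23482 = n23482 := d5_1 D23482 (iv D23482) F83946
theorem F105233 : act 2 n23482 = n23482 := d20_1 D23482 (iv D23482) F83947
theorem F105234 : act 3 n23482 = n18583 := d26_1 D23482 (iv D18583) (iv F83948)
theorem F105235 : act 5 n23482 = n23482 := d35_1 D23482 (iv D23482) F83949 F66541 (iv F83949)
theorem F105236 : act 7 n23482 = n23482 := d39_2 D18581 D23482 (iv D23482) (iv D18581) F66536
def n23483 : Q := act 8 n18581
theorem D23483 : act 8 n18581 = n23483 := rfl
theorem F105237 : act 0 n23483 = n23483 := d7_1 D23483 (iv D23483) F83946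
theorem F105238 : act 2 n23483 = n23483 := d22_1 D23483 (iv D23483) F83947
theorem F105239 : act 3 n23483 = n18584 := d28_1 D23483 (iv D18584) (iv F83948)
theorem F105240 : act 5 n23483 = n23483 := d37_1 D23483 (iv D23483) F83949 F66542 (iv F83949)
theorem F105241 : act 7 n23483 = n18582 := d42_1 D23483 (iv D18582) D18581
def n23484 : Q := act 9 n18582
theorem D23484 : act 9 n18582 = n23484 := rfl
theorem F105244 : act 3 n23484 = n18585 := d29_1 D23484 (iv D18585) (iv F83952)
def n23485 : Q := act 8 n18583
theorem D23485 : act 8 n18583 = n23485 := rfl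
theorem F105247 : act 0 n23485 = n23485 := d7_1 D23485 (iv D23485) F83955
theorem F105248 : act 2 n23485 = n18586 := d22_1 D23485 (iv D18586) (iv F83956)
theorem F105249 : act 4 n23485 = n22216 := d33_1 D23485 (iv D22216) (iv F83957)
theorem F105250 : act 6 n23485 = n18584 := d40_1 D23485 (iv D18584) D18583
theorem F105251 : act 7 n23485 = n23485 := d42_1 D23485 (iv D23485) F83959
def n23486 : Q := act 9 n18584
theorem D23486 : act 9 n18584 = n23486 := rfl
theorem F105252 : act 0 n23486 = n23486 := d8_1 D23486 (iv D23486) F83960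
theorem F105253 : act 2 n23486 = n18587 := d23_1 D23486 (iv D18587) (iv F83961)
theorem F105254 : act 4 n23486 = n22217 := d34_1 D23486 (iv D22217) (iv F83962)
theorem F105255 : act 5 n23486 = n23486 := d38_1 D23486 (iv D23486) F83963
theorem F105256 : act 7 n23486 = n18585 := d43_1 D23486 (iv D18585) (iv F83964)
def n23487 : Q := act 5 n18586
theorem D23487 : act 5 n18586 = n23487 := rfl
theorem F105257 : act 0 n23487 = n23487 := d4_1 D23487 (iv D23487) F83970
theorem F105258 : act 1 n23487 = n18772 := d12_1 D23487 (iv D18772) (iv F83971)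
theorem F105259 : act 3 n23487 = n23487 := d25_1 D23487 (iv D23487) F83972
theorem F105260 : act 6 n23487 = n23487 := d35_2 (iv F83974) D23487 (iv D23487) F83974 F66562
theorem F105261 : act 7 n23487 = n23487 := d36_2 F83975 D23487 (iv D23487)
theorem F105262 : act 8 n23487 = n23487 := d37_2 D18586 D23487 (iv D23487) (iv D18586) F66556
def n23488 : Q := act 9 n18586
theorem D23488 : act 9 n18586 = n23488 := rfl
theorem F105263 : act 0 n23488 = n23488 := d8_1 D23488 (iv D23488) F83970
theorem F105264 : act 1 n23488 = n18773 := d16_1 D23488 (iv D18773) (iv F83971)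
theorem F105265 : act 3 n23488 = n23488 := d29_1 D23488 (iv D23488) F83972
theorem F105267 : act 6 n23488 = n18587 := d41_1 D23488 (iv D18587) (iv F83974)
theorem F105268 : act 7 n23488 = n23488 := d43_1 D23488 (iv D23488) F83975
def n23489 : Q := act 5 n18588
theorem D23489 : act 5 n18588 = n23489 := rfl
theorem F105272 : act 3 n23489 = n18589 := d25_1 D23489 (iv D18589) (iv F83985)
def n23491 : Q := act 7 n18589
theorem D23491 : act 7 n18589 = n23491 := rfl
theorem F105285 : act 2 n23491 = n18591 := d21_1 D23491 (iv D18591) (iv F83991)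
theorem F105286 : act 4 n23491 = n20876 := d32_1 D23491 (iv D20876) (iv F83992)
def n23492 : Q := act 8 n18589
theorem D23492 : act 8 n18589 = n23492 := rfl
theorem F105289 : act 0 n23492 = n19803 := d7_1 D23492 (iv D19803) (iv F83989)
theorem F105290 : act 1 n23492 = n20951 := d15_1 D23492 (iv D20951) (iv F83990)
theorem F105291 : act 2 n23492 = n18592 := d22_1 D23492 (iv D18592) (iv F83991)
theorem F105292 : act 4 n23492 = n20877 := d33_1 D23492 (iv D20877) (iv F83992)
theorem F105293 : act 5 n23492 = n23492 := d37_1 D23492 (iv D23492) (iv D18589) F66582 D18589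
theorem F105294 : act 6 n23492 = n18611 := d40_1 D23492 (iv D18611) (iv F83993)
def n23493 : Q := act 6 n18591
theorem D23493 : act 6 n18591 = n23493 := rfl
theorem F105295 : act 0 n23493 = n19810 := d5_1 D23493 (iv D19810) (iv F84002)
theorem F105298 : act 4 n23493 = n22436 := d31_1 D23493 (iv D22436) (iv F84005)
theorem F105300 : act 7 n23493 = n18622 := d39_2 D18591 D23493 (iv D18622) (iv D14618) (iv F66596)
def n23495 : Q := act 9 n18592
theorem D23495 : act 9 n18592 = n23495 := rfl
theorem F105308 : act 0 n23495 = n19812 := d8_1 D23495 (iv D19812) (iv F84008)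
def n23497 : Q := act 6 n18594
theorem D23497 : act 6 n18594 = n23497 := rfl
theorem F105322 : act 0 n23497 = n18598 := d5_1 D23497 (iv D18598) (iv F84023)
theorem F105323 : act 1 n23497 = n19822 := d13_1 D23497 (iv D19822) (iv F84024)
theorem F105325 : act 4 n23497 = n18781 := d31_1 D23497 (iv D18781) (iv F84025)
theorem F105326 : act 8 n23497 = n18655 := d40_2 (iv F84028) D23497 (iv D18655)
def n23498 : Q := act 5 n18595
theorem D23498 : act 5 n18595 = n23498 := rfl
theorem F105328 : act 0 n23498 = n18599 := d4_1 D23498 (iv D18599) (iv F84030)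
theorem F105331 : act 4 n23498 = n19420 := d30_1 D23498 (iv D19420) F69589 (iv F66624) (iv F84033)
theorem F105332 : act 6 n23498 = n19430 := d35_2 D18595 D23498 (iv D19430) (iv D15211) (iv F66616)
def n23499 : Q := act 7 n18595
theorem D23499 : act 7 n18595 = n23499 := rfl
theorem F105334 : act 0 n23499 = n18600 := d6_1 D23499 (iv D18600) (iv F84030)
theorem F105335 : act 1 n23499 = n19824 := d14_1 D23499 (iv D19824) (iv F84031)
theorem F105336 : act 2 n23499 = n19482 := d21_1 D23499 (iv D19482) (iv F84032)
theorem F105337 : act 4 n23499 = n18596 := d32_1 D23499 (iv D18596) (iv F84033)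
theorem F105338 : act 6 n23499 = n23499 := d39_1 D23499 (iv D23499) (iv D18595) F66617 D18595
theorem F105339 : act 8 n23499 = n18657 := d42_2 (iv F84034) D23499 (iv D18657)
theorem F105340 : act 9 n23499 = n23499 := d43_2 F84035 D23499 (iv D23499)
def n23500 : Q := act 6 n18597
theorem D23500 : act 6 n18597 = n23500 := rfl
theorem F105344 : act 4 n23500 = n18793 := d31_1 D23500 (iv D18793) (iv F84046)
theorem F105345 : act 8 n23500 = n18665 := d40_2 (iv F84049) D23500 (iv D18665)
def n23501 : Q := act 5 n18598
theorem D23501 : act 5 n18598 = n23501 := rfl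
def n23502 : Q := act 7 n18598
theorem D23502 : act 7 n18598 = n23502 := rfl
theorem F105351 : act 1 n23502 = n18609 := d14_1 D23502 (iv D18609) (iv F84051)
theorem F105352 : act 3 n23502 = n18600 := d27_1 D23502 (iv D18600) (iv F84052)
theorem F105353 : act 4 n23502 = n18795 := d32_1 D23502 (iv D18795) (iv F84053)
theorem F105354 : act 6 n23502 = n23502 := d39_1 D23502 (iv D23502) (iv D18598) F66630 D18598
theorem F105355 : act 8 n23502 = n18667 := d42_2 (iv F84054) D23502 (iv D18667)
theorem F105356 : act 9 n23502 = n23502 := d43_2 F84055 D23502 (iv D23502)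
def n23503 : Q := act 7 n18599
theorem D23503 : act 7 n18599 = n23503 := rfl
theorem F105357 : act 1 n23503 = n18610 := d14_1 D23503 (iv D18610) (iv F84056)
theorem F105359 : act 4 n23503 = n20935 := d32_1 D23503 (iv D20935) (iv F84058)
theorem F105360 : act 5 n23503 = n18600 := d36_1 D23503 (iv D18600) D18599
theorem F105361 : act 9 n23503 = n23503 := d43_2 F84060 D23503 (iv D23503)
def n23504 : Q := act 8 n18599
theorem D23504 : act 8 n18599 = n23504 := rfl
theorem F105362 : act 1 n23504 = n18611 := d15_1 D23504 (iv D18611) (iv F84056)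
theorem F105364 : act 4 n23504 = n20936 := d33_1 D23504 (iv D20936) (iv F84058)
theorem F105365 : act 5 n23504 = n18669 := d37_1 D23504 (iv D18669) (iv D14652) (iv F66636) D18599
def n23505 : Q := act 2 n18601
theorem D23505 : act 2 n18601 = n23505 := rfl
theorem F105367 : act 0 n23505 = n19843 := d1_1 D23505 (iv D19843) (iv F84067)
theorem F105368 : act 3 n23505 = n18612 := d17_2 D18601 D23505 (iv D18612) (iv D14611) (iv F66647)
theorem F105369 : act 4 n23505 = n18817 := d18_2 (iv F84069) D23505 (iv D18817)
theorem F105370 : act 5 n23505 = n20328 := d19_2 (iv F84070) D23505 (iv D20328)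
theorem F105371 : act 7 n23505 = n20324 := d21_2 (iv F84071) D23505 (iv D20324)
theorem F105372 : act 8 n23505 = n18604 := d22_2 (iv F84072) D23505 (iv D18604)
theorem F105373 : act 9 n23505 = n20389 := d23_2 (iv F84073) D23505 (iv D20389)
def n23506 : Q := act 6 n18601
theorem D23506 : act 6 n18601 = n23506 := rfl
theorem F105374 : act 0 n23506 = n19844 := d5_1 D23506 (iv D19844) (iv F84067)
theorem F105375 : act 1 n23506 = n20376 := d13_1 D23506 (iv D20376) (iv F84068)
theorem F105376 : act 3 n23506 = n18602 := d26_1 D23506 (iv D18602) D18601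
theorem F105377 : act 4 n23506 = n18818 := d31_1 D23506 (iv D18818) (iv F84069)
theorem F105378 : act 8 n23506 = n18605 := d40_2 (iv F84072) D23506 (iv D18605)
theorem F105379 : act 9 n23506 = n20390 := d41_2 (iv F84073) D23506 (iv D20390)
def n23507 : Q := act 5 n18602
theorem D23507 : act 5 n18602 = n23507 := rfl
theorem F105380 : act 0 n23507 = n19845 := d4_1 D23507 (iv D19845) (iv F84074)
theorem F105381 : act 1 n23507 = n20377 := d12_1 D23507 (iv D20377) (iv F84075)
theorem F105382 : act 2 n23507 = n18614 := d19_1 D23507 (iv D18614) (iv F84076)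
theorem F105383 : act 4 n23507 = n18677 := d30_1 D23507 (iv D18677) F66950 (iv F66656) (iv F84077)
theorem F105384 : act 6 n23507 = n20330 := d35_2 D18602 D23507 (iv D20330) (iv D15901) (iv F66648)
theorem F105385 : act 9 n23507 = n20391 := d38_2 (iv F84079) D23507 (iv D20391)
def n23508 : Q := act 7 n18602
theorem D23508 : act 7 n18602 = n23508 := rfl
theorem F105386 : act 0 n23508 = n19846 := d6_1 D23508 (iv D19846) (iv F84074)
theorem F105387 : act 1 n23508 = n20378 := d14_1 D23508 (iv D20378) (iv F84075)
theorem F105388 : act 2 n23508 = n18615 := d21_1 D23508 (iv D18615) (iv F84076)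
theorem F105389 : act 4 n23508 = n18603 := d32_1 D23508 (iv D18603) (iv F84077)
theorem F105390 : act 6 n23508 = n20327 := d39_1 D23508 (iv D20327) (iv D15898) (iv F66649) D18602
theorem F105391 : act 8 n23508 = n18607 := d42_2 (iv F84078) D23508 (iv D18607)
theorem F105392 : act 9 n23508 = n20392 := d43_2 (iv F84079) D23508 (iv D20392)
def n23509 : Q := act 1 n18604
theorem D23509 : act 1 n18604 = n23509 := rfl
theorem F105395 : act 4 n23509 = n18825 := d11_2 (iv F84090) D23509 (iv D18825)
theorem F105396 : act 5 n23509 = n20872 := d12_2 (iv F84091) D23509 (iv D20872)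
def n23510 : Q := act 6 n18604
theorem D23510 : act 6 n18604 = n23510 := rfl
theorem F105399 : act 0 n23510 = n19852 := d5_1 D23510 (iv D19852) (iv F84088)
theorem F105400 : act 2 n23510 = n18605 := d20_1 D23510 (iv D18605) D18604
theorem F105401 : act 3 n23510 = n18617 := d26_1 D23510 (iv D18617) (iv F84089)
theorem F105402 : act 4 n23510 = n18826 := d31_1 D23510 (iv D18826) (iv F84090)
theorem F105403 : act 9 n23510 = n23510 := d41_2 F84093 D23510 (iv D23510)
def n23511 : Q := act 5 n18605
theorem D23511 : act 5 n18605 = n23511 := rfl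
theorem F105404 : act 0 n23511 = n19853 := d4_1 D23511 (iv D19853) (iv F84094)
theorem F105406 : act 3 n23511 = n18606 := d25_1 D23511 (iv D18606) (iv F84096)
theorem F105408 : act 9 n23511 = n23511 := d38_2 F84098 D23511 (iv D23511)
def n23512 : Q := act 7 n18605
theorem D23512 : act 7 n18605 = n23512 := rfl
theorem F105409 : act 0 n23512 = n19854 := d6_1 D23512 (iv D19854) (iv F84094)
theorem F105410 : act 1 n23512 = n20934 := d14_1 D23512 (iv D20934) (iv F84095)
theorem F105411 : act 3 n23512 = n18607 := d27_1 D23512 (iv D18607) (iv F84096)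
theorem F105412 : act 4 n23512 = n18828 := d32_1 D23512 (iv D18828) (iv F84097)
theorem F105413 : act 6 n23512 = n20869 := d39_1 D23512 (iv D20869) (iv D16304) (iv F66663) D18605
theorem F105414 : act 9 n23512 = n23512 := d43_2 F84098 D23512 (iv D23512)
def n23513 : Q := act 7 n18606
theorem D23513 : act 7 n18606 = n23513 := rfl
theorem F105415 : act 0 n23513 = n19855 := d6_1 D23513 (iv D19855) (iv F84099)
theorem F105416 : act 1 n23513 = n20935 := d14_1 D23513 (iv D20935) (iv F84100)
theorem F105417 : act 2 n23513 = n18620 := d21_1 D23513 (iv D18620) (iv F84101)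
theorem F105418 : act 4 n23513 = n18610 := d32_1 D23513 (iv D18610) (iv F84102)
theorem F105419 : act 5 n23513 = n18607 := d36_1 D23513 (iv D18607) D18606
theorem F105420 : act 9 n23513 = n23513 := d43_2 F84104 D23513 (iv D23513)
def n23514 : Q := act 8 n18606
theorem D23514 : act 8 n18606 = n23514 := rfl
theorem F105421 : act 0 n23514 = n19856 := d7_1 D23514 (iv D19856) (iv F84099)
theorem F105422 : act 1 n23514 = n20936 := d15_1 D23514 (iv D20936) (iv F84100)
theorem F105423 : act 2 n23514 = n18621 := d22_1 D23514 (iv D18621) (iv F84101)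
theorem F105424 : act 4 n23514 = n18611 := d33_1 D23514 (iv D18611) (iv F84102)
theorem F105425 : act 6 n23514 = n20877 := d40_1 D23514 (iv D20877) (iv F84103)
def n23515 : Q := act 4 n18608
theorem D23515 : act 4 n18608 = n23515 := rfl
theorem F105426 : act 0 n23515 = n19857 := d3_1 D23515 (iv D19857) (iv F84111)
theorem F105427 : act 2 n23515 = n23515 := d18_1 D23515 (iv D23515) F84112
theorem F105428 : act 5 n23515 = n18831 := d30_2 D18608 D23515 (iv D18831) (iv D14770) (iv F66680)
theorem F105429 : act 9 n23515 = n23515 := d34_2 F84114 D23515 (iv D23515)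
def n23516 : Q := act 7 n18608
theorem D23516 : act 7 n18608 = n23516 := rfl
theorem F105430 : act 0 n23516 = n19858 := d6_1 D23516 (iv D19858) (iv F84111)
theorem F105431 : act 2 n23516 = n23516 := d21_1 D23516 (iv D23516) F84112
theorem F105432 : act 3 n23516 = n18610 := d27_1 D23516 (iv D18610) (iv F84113)
theorem F105433 : act 5 n23516 = n18609 := d36_1 D23516 (iv D18609) D18608
theorem F105434 : act 9 n23516 = n23516 := d43_2 F84114 D23516 (iv D23516)
def n23517 : Q := act 8 n18608
theorem D23517 : act 8 n18608 = n23517 := rfl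
theorem F105435 : act 0 n23517 = n19859 := d7_1 D23517 (iv D19859) (iv F84111)
theorem F105436 : act 2 n23517 = n23517 := d22_1 D23517 (iv D23517) F84112
theorem F105437 : act 3 n23517 = n18611 := d28_1 D23517 (iv D18611) (iv F84113)
theorem F105438 : act 5 n23517 = n18687 := d37_1 D23517 (iv D18687) (iv D14664) (iv F66681) D18608
def n23518 : Q := act 6 n18610
theorem D23518 : act 6 n18610 = n23518 := rfl
theorem F105439 : act 0 n23518 = n19860 := d5_1 D23518 (iv D19860) (iv F84122)
theorem F105440 : act 2 n23518 = n18622 := d20_1 D23518 (iv D18622) (iv F84123)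
theorem F105441 : act 5 n23518 = n23518 := d35_1 D23518 (iv D23518) F84124 F66689 (iv F84124)
theorem F105442 : act 9 n23518 = n23518 := d41_2 F84125 D23518 (iv D23518)
def n23519 : Q := act 8 n18610
theorem D23519 : act 8 n18610 = n23519 := rfl
theorem F105443 : act 0 n23519 = n19861 := d7_1 D23519 (iv D19861) (iv F84122)
theorem F105444 : act 2 n23519 = n18623 := d22_1 D23519 (iv D18623) (iv F84123)
theorem F105445 : act 5 n23519 = n18689 := d37_1 D23519 (iv D18689) F66992 (iv F66690) (iv F84124)
theorem F105446 : act 7 n23519 = n18611 := d42_1 D23519 (iv D18611) D18610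
def n23520 : Q := act 9 n18611
theorem D23520 : act 9 n18611 = n23520 := rfl
theorem F105447 : act 0 n23520 = n19862 := d8_1 D23520 (iv D19862) (iv F84126)
theorem F105448 : act 2 n23520 = n18624 := d23_1 D23520 (iv D18624) (iv F84127)
theorem F105449 : act 5 n23520 = n18690 := d38_1 D23520 (iv D18690) (iv F84128)
theorem F105450 : act 8 n23520 = n23520 := d44_1 D23520 (iv D23520) (iv D18611) F66685 D18611
def n23521 : Q := act 1 n18612
theorem D23521 : act 1 n18612 = n23521 := rfl
theorem F105453 : act 5 n23521 = n21691 := d12_2 (iv F84131) D23521 (iv D21691)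
theorem F105456 : act 9 n23521 = n20472 := d16_2 (iv F84134) D23521 (iv D20472)
def n23522 : Q := act 6 n18612
theorem D23522 : act 6 n18612 = n23522 := rfl
theorem F105457 : act 0 n23522 = n19872 := d5_1 D23522 (iv D19872) (iv F84129)
theorem F105458 : act 2 n23522 = n18613 := d20_1 D23522 (iv D18613) D18612
theorem F105459 : act 4 n23522 = n18630 := d31_1 D23522 (iv D18630) (iv F84130)
theorem F105460 : act 8 n23522 = n18617 := d40_2 (iv F84133) D23522 (iv D18617)
theorem F105461 : act 9 n23522 = n20473 := d41_2 (iv F84134) D23522 (iv D20473)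
def n23523 : Q := act 5 n18613
theorem D23523 : act 5 n18613 = n23523 := rfl
theorem F105462 : act 0 n23523 = n19873 := d4_1 D23523 (iv D19873) (iv F84135)
theorem F105463 : act 1 n23523 = n21752 := d12_1 D23523 (iv D21752) (iv F84136)
theorem F105464 : act 3 n23523 = n18614 := d25_1 D23523 (iv D18614) (iv F84137)
theorem F105466 : act 9 n23523 = n20474 := d38_2 (iv F84140) D23523 (iv D20474)
def n23524 : Q := act 7 n18613
theorem D23524 : act 7 n18613 = n23524 := rfl
theorem F105467 : act 0 n23524 = n19874 := d6_1 D23524 (iv D19874) (iv F84135)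
theorem F105468 : act 1 n23524 = n21753 := d14_1 D23524 (iv D21753) (iv F84136)
theorem F105469 : act 3 n23524 = n18615 := d27_1 D23524 (iv D18615) (iv F84137)
theorem F105470 : act 4 n23524 = n18632 := d32_1 D23524 (iv D18632) (iv F84138)
theorem F105471 : act 6 n23524 = n21688 := d39_1 D23524 (iv D21688) (iv D16949) (iv F66696) D18613
theorem F105472 : act 8 n23524 = n18619 := d42_2 (iv F84139) D23524 (iv D18619)
theorem F105473 : act 9 n23524 = n20475 := d43_2 (iv F84140) D23524 (iv D20475)
def n23525 : Q := act 7 n18614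
theorem D23525 : act 7 n18614 = n23525 := rfl
theorem F105474 : act 0 n23525 = n19875 := d6_1 D23525 (iv D19875) (iv F84141)
theorem F105475 : act 1 n23525 = n21754 := d14_1 D23525 (iv D21754) (iv F84142)
theorem F105476 : act 4 n23525 = n18699 := d32_1 D23525 (iv D18699) (iv F84143)
theorem F105477 : act 5 n23525 = n18615 := d36_1 D23525 (iv D18615) D18614
theorem F105478 : act 9 n23525 = n20476 := d43_2 (iv F84145) D23525 (iv D20476)
def n23526 : Q := act 8 n18614
theorem D23526 : act 8 n18614 = n23526 := rfl
theorem F105479 : act 0 n23526 = n19876 := d7_1 D23526 (iv D19876) (iv F84141)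
theorem F105480 : act 1 n23526 = n21755 := d15_1 D23526 (iv D21755) (iv F84142)
theorem F105481 : act 4 n23526 = n18700 := d33_1 D23526 (iv D18700) (iv F84143)
theorem F105482 : act 5 n23526 = n18621 := d37_1 D23526 (iv D18621) (iv D14616) (iv F66702) D18614
def n23527 : Q := act 0 n18616
theorem D23527 : act 0 n18616 = n23527 := rfl
theorem F105486 : act 4 n23527 = n18640 := d3_2 (iv F84153) D23527 (iv D18640)
theorem F105487 : act 5 n23527 = n22430 := d4_2 (iv F84154) D23527 (iv D22430)
theorem F105488 : act 7 n23527 = n22420 := d6_2 (iv F84155) D23527 (iv D22420)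
def n23528 : Q := act 6 n18616
theorem D23528 : act 6 n18616 = n23528 := rfl
theorem F105491 : act 2 n23528 = n22509 := d20_1 D23528 (iv D22509) (iv F84152)
theorem F105492 : act 4 n23528 = n18641 := d31_1 D23528 (iv D18641) (iv F84153)
def n23530 : Q := act 7 n18617
theorem D23530 : act 7 n18617 = n23530 := rfl
theorem F105499 : act 0 n23530 = n19886 := d6_1 D23530 (iv D19886) (iv F84157)
theorem F105500 : act 2 n23530 = n18619 := d21_1 D23530 (iv D18619) (iv F84158)
theorem F105501 : act 4 n23530 = n18642 := d32_1 D23530 (iv D18642) (iv F84159)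
theorem F105502 : act 6 n23530 = n22423 := d39_1 D23530 (iv D22423) (iv D17538) (iv F66714) D18617
theorem F105503 : act 9 n23530 = n23530 := d43_2 F84160 D23530 (iv D23530)
def n23532 : Q := act 8 n18618
theorem D23532 : act 8 n18618 = n23532 := rfl
theorem F105510 : act 0 n23532 = n19888 := d7_1 D23532 (iv D19888) (iv F84161)
def n23533 : Q := act 6 n18620
theorem D23533 : act 6 n18620 = n23533 := rfl
theorem F105517 : act 4 n23533 = n18622 := d31_1 D23533 (iv D18622) (iv F84175)
theorem F105519 : act 7 n23533 = n22436 := d39_2 D18620 D23533 (iv D22436) (iv D17547) (iv F66724)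
def n23534 : Q := act 8 n18620
theorem D23534 : act 8 n18620 = n23534 := rfl
theorem F105521 : act 0 n23534 = n19890 := d7_1 D23534 (iv D19890) (iv F84173)
theorem F105522 : act 1 n23534 = n22515 := d15_1 D23534 (iv D22515) (iv F84174)
theorem F105523 : act 4 n23534 = n18623 := d33_1 D23534 (iv D18623) (iv F84175)
theorem F105524 : act 7 n23534 = n18621 := d42_1 D23534 (iv D18621) D18620
def n23535 : Q := act 9 n18621
theorem D23535 : act 9 n18621 = n23535 := rfl
theorem F105525 : act 0 n23535 = n19891 := d8_1 D23535 (iv D19891) (iv F84178)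
theorem F105526 : act 1 n23535 = n22516 := d16_1 D23535 (iv D22516) (iv F84179)
theorem F105527 : act 4 n23535 = n18624 := d34_1 D23535 (iv D18624) (iv F84180)
theorem F105529 : act 8 n23535 = n23535 := d44_1 D23535 (iv D23535) (iv D18621) F66725 D18621
def n23536 : Q := act 8 n18622
theorem D23536 : act 8 n18622 = n23536 := rfl
theorem F105530 : act 0 n23536 = n19892 := d7_1 D23536 (iv D19892) (iv F84182)
theorem F105531 : act 3 n23536 = n23536 := d28_1 D23536 (iv D23536) F84183
theorem F105532 : act 6 n23536 = n18623 := d40_1 D23536 (iv D18623) D18622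
def n23537 : Q := act 9 n18623
theorem D23537 : act 9 n18623 = n23537 := rfl
theorem F105533 : act 0 n23537 = n19893 := d8_1 D23537 (iv D19893) (iv F84186)
theorem F105534 : act 3 n23537 = n23537 := d29_1 D23537 (iv D23537) F84187
theorem F105535 : act 5 n23537 = n18711 := d38_1 D23537 (iv D18711) (iv F84188)
theorem F105536 : act 7 n23537 = n18624 := d43_1 D23537 (iv D18624) (iv F84189)
theorem F105537 : act 8 n23537 = n23537 := d44_1 D23537 (iv D23537) (iv D18623) F66734 D18623
def n23538 : Q := act 1 n18625
theorem D23538 : act 1 n18625 = n23538 := rfl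
theorem F105539 : act 3 n23538 = n18892 := d10_2 (iv F84195) D23538 (iv D18892)
theorem F105542 : act 7 n23538 = n18629 := d14_2 (iv F84198) D23538 (iv D18629)
theorem F105543 : act 8 n23538 = n18634 := d15_2 (iv F84199) D23538 (iv D18634)
theorem F105544 : act 9 n23538 = n20250 := d16_2 (iv F84200) D23538 (iv D20250)
def n23539 : Q := act 6 n18625
theorem D23539 : act 6 n18625 = n23539 := rfl
theorem F105545 : act 0 n23539 = n19895 := d5_1 D23539 (iv D19895) (iv F84194)
theorem F105546 : act 2 n23539 = n18626 := d20_1 D23539 (iv D18626) D18625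
theorem F105547 : act 3 n23539 = n18893 := d26_1 D23539 (iv D18893) (iv F84195)
theorem F105549 : act 8 n23539 = n18635 := d40_2 (iv F84199) D23539 (iv D18635)
theorem F105550 : act 9 n23539 = n20251 := d41_2 (iv F84200) D23539 (iv D20251)
def n23540 : Q := act 5 n18626
theorem D23540 : act 5 n18626 = n23540 := rfl
theorem F105551 : act 0 n23540 = n19896 := d4_1 D23540 (iv D19896) (iv F84201)
theorem F105553 : act 3 n23540 = n18627 := d25_1 D23540 (iv D18627) (iv F84203)
theorem F105555 : act 9 n23540 = n20252 := d38_2 (iv F84206) D23540 (iv D20252)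
def n23541 : Q := act 7 n18626
theorem D23541 : act 7 n18626 = n23541 := rfl
theorem F105556 : act 0 n23541 = n19897 := d6_1 D23541 (iv D19897) (iv F84201)
theorem F105557 : act 1 n23541 = n21600 := d14_1 D23541 (iv D21600) (iv F84202)
theorem F105558 : act 3 n23541 = n18628 := d27_1 D23541 (iv D18628) (iv F84203)
theorem F105560 : act 6 n23541 = n18632 := d39_1 D23541 (iv D18632) (iv D14624) (iv F66742) D18626
theorem F105561 : act 8 n23541 = n18637 := d42_2 (iv F84205) D23541 (iv D18637)
theorem F105562 : act 9 n23541 = n20253 := d43_2 (iv F84206) D23541 (iv D20253)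
def n23542 : Q := act 7 n18627
theorem D23542 : act 7 n18627 = n23542 := rfl
theorem F105563 : act 0 n23542 = n19898 := d6_1 D23542 (iv D19898) (iv F84207)
theorem F105564 : act 1 n23542 = n21601 := d14_1 D23542 (iv D21601) (iv F84208)
theorem F105565 : act 2 n23542 = n18896 := d21_1 D23542 (iv D18896) (iv F84209)
theorem F105566 : act 4 n23542 = n20260 := d32_1 D23542 (iv D20260) (iv F84210)
theorem F105567 : act 5 n23542 = n18628 := d36_1 D23542 (iv D18628) D18627
theorem F105568 : act 9 n23542 = n20254 := d43_2 (iv F84212) D23542 (iv D20254)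
def n23543 : Q := act 8 n18627
theorem D23543 : act 8 n18627 = n23543 := rfl
theorem F105569 : act 0 n23543 = n19899 := d7_1 D23543 (iv D19899) (iv F84207)
theorem F105571 : act 2 n23543 = n18897 := d22_1 D23543 (iv D18897) (iv F84209)
theorem F105572 : act 4 n23543 = n20261 := d33_1 D23543 (iv D20261) (iv F84210)
theorem F105573 : act 5 n23543 = n18639 := d37_1 D23543 (iv D18639) (iv D14629) (iv F66749) D18627
def n23544 : Q := act 0 n18629
theorem D23544 : act 0 n18629 = n23544 := rfl
theorem F105575 : act 1 n23544 = n19900 := d0_2 D18629 D23544 (iv D19900) (iv D15579) (iv F66759)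
theorem F105577 : act 3 n23544 = n18904 := d2_2 (iv F84221) D23544 (iv D18904)
theorem F105578 : act 5 n23544 = n23544 := d4_2 F84222 D23544 (iv D23544)
theorem F105579 : act 8 n23544 = n18640 := d7_2 (iv F84223) D23544 (iv D18640)
theorem F105580 : act 9 n23544 = n20537 := d8_2 (iv F84224) D23544 (iv D20537)
def n23545 : Q := act 6 n18629
theorem D23545 : act 6 n18629 = n23545 := rfl
theorem F105581 : act 1 n23545 = n18630 := d13_1 D23545 (iv D18630) D18629
theorem F105583 : act 3 n23545 = n18905 := d26_1 D23545 (iv D18905) (iv F84221)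
theorem F105584 : act 8 n23545 = n18641 := d40_2 (iv F84223) D23545 (iv D18641)
theorem F105585 : act 9 n23545 = n20538 := d41_2 (iv F84224) D23545 (iv D20538)
def n23546 : Q := act 5 n18630
theorem D23546 : act 5 n18630 = n23546 := rfl
theorem F105586 : act 0 n23546 = n19902 := d4_1 D23546 (iv D19902) (iv F84225)
theorem F105587 : act 2 n23546 = n18631 := d19_1 D23546 (iv D18631) (iv F84226)
theorem F105588 : act 3 n23546 = n18906 := d25_1 D23546 (iv D18906) (iv F84227)
theorem F105589 : act 6 n23546 = n23546 := d35_2 D18630 D23546 (iv D23546) (iv D18630) F66761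
theorem F105590 : act 8 n23546 = n23546 := d37_2 (iv F84228) D23546 (iv D23546) F84228 F66811
theorem F105591 : act 9 n23546 = n20539 := d38_2 (iv F84229) D23546 (iv D20539)
def n23547 : Q := act 7 n18630
theorem D23547 : act 7 n18630 = n23547 := rfl
theorem F105592 : act 0 n23547 = n19903 := d6_1 D23547 (iv D19903) (iv F84225)
theorem F105593 : act 2 n23547 = n18632 := d21_1 D23547 (iv D18632) (iv F84226)
theorem F105594 : act 3 n23547 = n18907 := d27_1 D23547 (iv D18907) (iv F84227)
theorem F105595 : act 8 n23547 = n18642 := d42_2 (iv F84228) D23547 (iv D18642)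
theorem F105596 : act 9 n23547 = n20540 := d43_2 (iv F84229) D23547 (iv D20540)
def n23548 : Q := act 4 n18631
theorem D23548 : act 4 n18631 = n23548 := rfl
theorem F105597 : act 0 n23548 = n19904 := d3_1 D23548 (iv D19904) (iv F84230)
theorem F105599 : act 3 n23548 = n18716 := d24_1 D23548 (iv D18716) F67091 (iv F66772) (iv F84232)
theorem F105600 : act 6 n23548 = n23548 := d31_2 F84233 D23548 (iv D23548)
theorem F105601 : act 8 n23548 = n23548 := d33_2 F84234 D23548 (iv D23548)
theorem F105602 : act 9 n23548 = n20541 := d34_2 (iv F84235) D23548 (iv D20541)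
def n23549 : Q := act 7 n18631
theorem D23549 : act 7 n18631 = n23549 := rfl
theorem F105603 : act 0 n23549 = n19905 := d6_1 D23549 (iv D19905) (iv F84230)
theorem F105604 : act 1 n23549 = n21983 := d14_1 D23549 (iv D21983) (iv F84231)
theorem F105605 : act 3 n23549 = n18633 := d27_1 D23549 (iv D18633) (iv F84232)
theorem F105606 : act 5 n23549 = n18632 := d36_1 D23549 (iv D18632) D18631
theorem F105607 : act 8 n23549 = n23549 := d42_2 F84234 D23549 (iv D23549)
theorem F105608 : act 9 n23549 = n20542 := d43_2 (iv F84235) D23549 (iv D20542)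
def n23550 : Q := act 6 n18633
theorem D23550 : act 6 n18633 = n23550 := rfl
theorem F105609 : act 0 n23550 = n19906 := d5_1 D23550 (iv D19906) (iv F84241)
theorem F105610 : act 1 n23550 = n21984 := d13_1 D23550 (iv D21984) (iv F84242)
theorem F105611 : act 2 n23550 = n18910 := d20_1 D23550 (iv D18910) (iv F84243)
theorem F105612 : act 4 n23550 = n18718 := d31_1 D23550 (iv D18718) (iv F84244)
theorem F105613 : act 7 n23550 = n23550 := d39_2 D18633 D23550 (iv D23550) (iv D18633) F66773
theorem F105614 : act 8 n23550 = n23550 := d40_2 F84246 D23550 (iv D23550)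
theorem F105615 : act 9 n23550 = n20544 := d41_2 (iv F84247) D23550 (iv D20544)
def n23551 : Q := act 0 n18634
theorem D23551 : act 0 n18634 = n23551 := rfl
theorem F105621 : act 7 n23551 = n18640 := d6_2 (iv F84252) D23551 (iv D18640)
def n23553 : Q := act 5 n18635
theorem D23553 : act 5 n18635 = n23553 := rfl
theorem F105629 : act 2 n23553 = n18636 := d19_1 D23553 (iv D18636) (iv F84255)
theorem F105630 : act 3 n23553 = n18913 := d25_1 D23553 (iv D18913) (iv F84256)
def n23554 : Q := act 7 n18635
theorem D23554 : act 7 n18635 = n23554 := rfl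
theorem F105633 : act 0 n23554 = n19910 := d6_1 D23554 (iv D19910) (iv F84254)
theorem F105634 : act 2 n23554 = n18637 := d21_1 D23554 (iv D18637) (iv F84255)
theorem F105635 : act 3 n23554 = n18914 := d27_1 D23554 (iv D18914) (iv F84256)
theorem F105637 : act 6 n23554 = n18642 := d39_1 D23554 (iv D18642) (iv D14632) (iv F66786) D18635
def n23556 : Q := act 7 n18636
theorem D23556 : act 7 n18636 = n23556 := rfl
theorem F105647 : act 3 n23556 = n18638 := d27_1 D23556 (iv D18638) (iv F84261)
theorem F105648 : act 5 n23556 = n18637 := d36_1 D23556 (iv D18637) D18636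
def n23558 : Q := act 8 n18638
theorem D23558 : act 8 n18638 = n23558 := rfl
theorem F105655 : act 0 n23558 = n19914 := d7_1 D23558 (iv D19914) (iv F84270)
theorem F105657 : act 2 n23558 = n18918 := d22_1 D23558 (iv D18918) (iv F84272)
theorem F105660 : act 7 n23558 = n18639 := d42_1 D23558 (iv D18639) D18638
def n23559 : Q := act 9 n18639
theorem D23559 : act 9 n18639 = n23559 := rfl
theorem F105663 : act 2 n23559 = n18919 := d23_1 D23559 (iv D18919) (iv F84279)
theorem F105665 : act 6 n23559 = n18648 := d41_1 D23559 (iv D18648) (iv F84281)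
def n23560 : Q := act 6 n18640
theorem D23560 : act 6 n18640 = n23560 := rfl
theorem F105667 : act 0 n23560 = n18641 := d5_1 D23560 (iv D18641) D18640
theorem F105668 : act 1 n23560 = n19916 := d13_1 D23560 (iv D19916) (iv F84282)
theorem F105669 : act 3 n23560 = n18920 := d26_1 D23560 (iv D18920) (iv F84283)
theorem F105670 : act 5 n23560 = n23560 := d35_1 D23560 (iv D23560) F84284 F66843 (iv F84284)
theorem F105671 : act 9 n23560 = n23560 := d41_2 F84285 D23560 (iv D23560)
def n23561 : Q := act 7 n18641
theorem D23561 : act 7 n18641 = n23561 := rfl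
theorem F105672 : act 1 n23561 = n18642 := d14_1 D23561 (iv D18642) (iv F84286)
theorem F105673 : act 3 n23561 = n18921 := d27_1 D23561 (iv D18921) (iv F84287)
def n23565 : Q := act 8 n18645
theorem D23565 : act 8 n18645 = n23565 := rfl
theorem F105695 : act 2 n23565 = n18647 := d22_1 D23565 (iv D18647) (iv F84310)
theorem F105696 : act 3 n23565 = n18925 := d28_1 D23565 (iv D18925) (iv F84311)
theorem F105699 : act 9 n20831 = n23565 := d29_0 F105696 (iv F85717) D20831
def n23567 : Q := act 9 n18647
theorem D23567 : act 9 n18647 = n23567 := rfl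
theorem F105707 : act 2 n23567 = n20831 := d23_1 D23567 F105699 F105695
theorem F105708 : act 3 n23567 = n18648 := d29_1 D23567 (iv D18648) (iv F84322)
def n23568 : Q := act 3 n18649
theorem D23568 : act 3 n18649 = n23568 := rfl
theorem F105712 : act 0 n23568 = n18658 := d2_1 D23568 (iv D18658) (iv F84332)
theorem F105713 : act 1 n23568 = n19924 := d10_1 D23568 (iv D19924) (iv F84333)
theorem F105714 : act 4 n23568 = n18932 := d24_2 D18649 D23568 (iv D18932) (iv D14845) (iv F66849)
theorem F105715 : act 5 n23568 = n18996 := d25_2 (iv F84335) D23568 (iv D18996)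
theorem F105716 : act 7 n23568 = n20298 := d27_2 (iv F84336) D23568 (iv D20298)
theorem F105717 : act 8 n23568 = n18651 := d28_2 (iv F84337) D23568 (iv D18651)
theorem F105718 : act 9 n23568 = n19837 := d29_2 (iv F84338) D23568 (iv D19837)
def n23569 : Q := act 6 n18649
theorem D23569 : act 6 n18649 = n23569 := rfl
theorem F105719 : act 0 n23569 = n18659 := d5_1 D23569 (iv D18659) (iv F84332)
theorem F105720 : act 1 n23569 = n19925 := d13_1 D23569 (iv D19925) (iv F84333)
theorem F105721 : act 2 n23569 = n19037 := d20_1 D23569 (iv D19037) (iv F84334)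
theorem F105722 : act 4 n23569 = n18650 := d31_1 D23569 (iv D18650) D18649
theorem F105723 : act 8 n23569 = n18652 := d40_2 (iv F84337) D23569 (iv D18652)
theorem F105724 : act 9 n23569 = n19838 := d41_2 (iv F84338) D23569 (iv D19838)
def n23570 : Q := act 7 n18650
theorem D23570 : act 7 n18650 = n23570 := rfl
theorem F105725 : act 0 n23570 = n18660 := d6_1 D23570 (iv D18660) (iv F84339)
theorem F105726 : act 1 n23570 = n19926 := d14_1 D23570 (iv D19926) (iv F84340)
theorem F105727 : act 2 n23570 = n19038 := d21_1 D23570 (iv D19038) (iv F84341)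
theorem F105728 : act 3 n23570 = n18934 := d27_1 D23570 (iv D18934) (iv F84342)
theorem F105729 : act 5 n23570 = n18988 := d36_1 D23570 (iv D18988) (iv F84343)
theorem F105730 : act 6 n23570 = n20300 := d39_1 D23570 (iv D20300) (iv D15880) (iv F66850) D18650
theorem F105731 : act 8 n23570 = n18653 := d42_2 (iv F84344) D23570 (iv D18653)
theorem F105732 : act 9 n23570 = n19839 := d43_2 (iv F84345) D23570 (iv D19839)
def n23571 : Q := act 2 n18651
theorem D23571 : act 2 n18651 = n23571 := rfl
theorem F105733 : act 0 n23571 = n18661 := d1_1 D23571 (iv D18661) (iv F84346)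
theorem F105735 : act 4 n23571 = n18938 := d18_2 (iv F84348) D23571 (iv D18938)
theorem F105736 : act 5 n23571 = n23571 := d19_2 F84349 D23571 (iv D23571)
theorem F105737 : act 7 n23571 = n20594 := d21_2 (iv F84350) D23571 (iv D20594)
theorem F105738 : act 9 n23571 = n18721 := d23_2 (iv F84351) D23571 (iv D18721)
def n23572 : Q := act 6 n18651
theorem D23572 : act 6 n18651 = n23572 := rfl
theorem F105739 : act 0 n23572 = n18662 := d5_1 D23572 (iv D18662) (iv F84346)
theorem F105740 : act 1 n23572 = n19928 := d13_1 D23572 (iv D19928) (iv F84347)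
theorem F105741 : act 3 n23572 = n18652 := d26_1 D23572 (iv D18652) D18651
theorem F105742 : act 4 n23572 = n18939 := d31_1 D23572 (iv D18939) (iv F84348)
theorem F105743 : act 9 n23572 = n18722 := d41_2 (iv F84351) D23572 (iv D18722)
def n23573 : Q := act 5 n18652
theorem D23573 : act 5 n18652 = n23573 := rfl
theorem F105744 : act 0 n23573 = n18663 := d4_1 D23573 (iv D18663) (iv F84352)
theorem F105745 : act 1 n23573 = n19929 := d12_1 D23573 (iv D19929) (iv F84353)
theorem F105746 : act 2 n23573 = n22052 := d19_1 D23573 (iv D22052) (iv F84354)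
theorem F105747 : act 4 n23573 = n18656 := d30_1 D23573 (iv D18656) F66873 (iv F66863) (iv F84355)
theorem F105748 : act 6 n23573 = n23573 := d35_2 D18652 D23573 (iv D23573) (iv D18652) F66856
theorem F105749 : act 9 n23573 = n18723 := d38_2 (iv F84356) D23573 (iv D18723)
def n23574 : Q := act 7 n18652
theorem D23574 : act 7 n18652 = n23574 := rfl
theorem F105750 : act 0 n23574 = n18664 := d6_1 D23574 (iv D18664) (iv F84352)
theorem F105751 : act 1 n23574 = n19930 := d14_1 D23574 (iv D19930) (iv F84353)
theorem F105752 : act 2 n23574 = n22053 := d21_1 D23574 (iv D22053) (iv F84354)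
theorem F105753 : act 4 n23574 = n18653 := d32_1 D23574 (iv D18653) (iv F84355)
theorem F105754 : act 6 n23574 = n20597 := d39_1 D23574 (iv D20597) (iv D16096) (iv F66857) D18652
theorem F105755 : act 9 n23574 = n18724 := d43_2 (iv F84356) D23574 (iv D18724)
def n23576 : Q := act 6 n18654
theorem D23576 : act 6 n18654 = n23576 := rfl
theorem F105762 : act 0 n23576 = n18665 := d5_1 D23576 (iv D18665) (iv F84364)
theorem F105765 : act 9 n23576 = n18726 := d41_2 (iv F84368) D23576 (iv D18726)
def n23577 : Q := act 5 n18655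
theorem D23577 : act 5 n18655 = n23577 := rfl
theorem F105766 : act 0 n23577 = n18666 := d4_1 D23577 (iv D18666) (iv F84369)
theorem F105767 : act 1 n23577 = n19933 := d12_1 D23577 (iv D19933) (iv F84370)
theorem F105768 : act 3 n23577 = n18656 := d25_1 D23577 (iv D18656) (iv F84371)
theorem F105769 : act 6 n23577 = n23577 := d35_2 D18655 D23577 (iv D23577) (iv D18655) F66868
theorem F105770 : act 9 n23577 = n18727 := d38_2 (iv F84373) D23577 (iv D18727)
def n23578 : Q := act 7 n18655
theorem D23578 : act 7 n18655 = n23578 := rfl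
theorem F105771 : act 0 n23578 = n18667 := d6_1 D23578 (iv D18667) (iv F84369)
theorem F105772 : act 1 n23578 = n19934 := d14_1 D23578 (iv D19934) (iv F84370)
theorem F105773 : act 3 n23578 = n18657 := d27_1 D23578 (iv D18657) (iv F84371)
theorem F105774 : act 4 n23578 = n18945 := d32_1 D23578 (iv D18945) (iv F84372)
theorem F105775 : act 6 n23578 = n23578 := d39_1 D23578 (iv D23578) (iv D18655) F66869 D18655
theorem F105776 : act 9 n23578 = n18728 := d43_2 (iv F84373) D23578 (iv D18728)
def n23579 : Q := act 7 n18656
theorem D23579 : act 7 n18656 = n23579 := rfl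
theorem F105777 : act 0 n23579 = n18668 := d6_1 D23579 (iv D18668) (iv F84374)
theorem F105778 : act 1 n23579 = n19935 := d14_1 D23579 (iv D19935) (iv F84375)
theorem F105779 : act 5 n23579 = n18657 := d36_1 D23579 (iv D18657) D18656
theorem F105780 : act 9 n23579 = n18729 := d43_2 (iv F84377) D23579 (iv D18729)
def n23580 : Q := act 8 n18656
theorem D23580 : act 8 n18656 = n23580 := rfl
theorem F105781 : act 0 n23580 = n18669 := d7_1 D23580 (iv D18669) (iv F84374)
theorem F105782 : act 1 n23580 = n19936 := d15_1 D23580 (iv D19936) (iv F84375)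
theorem F105783 : act 6 n23580 = n23580 := d40_1 D23580 (iv D23580) F84376
def n23581 : Q := act 2 n18658
theorem D23581 : act 2 n18658 = n23581 := rfl
theorem F105784 : act 3 n23581 = n20446 := d17_2 D18658 D23581 (iv D20446) (iv D15983) (iv F66881)
theorem F105785 : act 4 n23581 = n18961 := d18_2 (iv F84384) D23581 (iv D18961)
theorem F105786 : act 5 n23581 = n20389 := d19_2 (iv F84385) D23581 (iv D20389)
theorem F105787 : act 7 n23581 = n20332 := d21_2 (iv F84386) D23581 (iv D20332)
theorem F105788 : act 8 n23581 = n18661 := d22_2 (iv F84387) D23581 (iv D18661)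
theorem F105789 : act 9 n23581 = n20328 := d23_2 (iv F84388) D23581 (iv D20328)
def n23582 : Q := act 6 n18658
theorem D23582 : act 6 n18658 = n23582 := rfl
theorem F105790 : act 1 n23582 = n18676 := d13_1 D23582 (iv D18676) (iv F84383)
theorem F105791 : act 3 n23582 = n18659 := d26_1 D23582 (iv D18659) D18658
theorem F105792 : act 4 n23582 = n18962 := d31_1 D23582 (iv D18962) (iv F84384)
theorem F105793 : act 8 n23582 = n18662 := d40_2 (iv F84387) D23582 (iv D18662)
theorem F105794 : act 9 n23582 = n20329 := d41_2 (iv F84388) D23582 (iv D20329)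
def n23583 : Q := act 5 n18659
theorem D23583 : act 5 n18659 = n23583 := rfl
theorem F105795 : act 1 n23583 = n18677 := d12_1 D23583 (iv D18677) (iv F84389)
theorem F105796 : act 2 n23583 = n20448 := d19_1 D23583 (iv D20448) (iv F84390)
theorem F105797 : act 4 n23583 = n20377 := d30_1 D23583 (iv D20377) F72686 (iv F66889) (iv F84391)
theorem F105798 : act 6 n23583 = n20391 := d35_2 D18659 D23583 (iv D20391) (iv D15944) (iv F66882)
theorem F105799 : act 9 n23583 = n20330 := d38_2 (iv F84393) D23583 (iv D20330)
def n23584 : Q := act 7 n18659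
theorem D23584 : act 7 n18659 = n23584 := rfl
theorem F105800 : act 1 n23584 = n18678 := d14_1 D23584 (iv D18678) (iv F84389)
theorem F105801 : act 2 n23584 = n20449 := d21_1 D23584 (iv D20449) (iv F84390)
theorem F105802 : act 4 n23584 = n18660 := d32_1 D23584 (iv D18660) (iv F84391)
theorem F105803 : act 6 n23584 = n20335 := d39_1 D23584 (iv D20335) (iv D15904) (iv F66883) D18659
theorem F105804 : act 8 n23584 = n18664 := d42_2 (iv F84392) D23584 (iv D18664)
theorem F105805 : act 9 n23584 = n20331 := d43_2 (iv F84393) D23584 (iv D20331)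
def n23585 : Q := act 1 n18661
theorem D23585 : act 1 n18661 = n23585 := rfl
theorem F105811 : act 9 n23585 = n18731 := d16_2 (iv F84405) D23585 (iv D18731)
def n23586 : Q := act 6 n18661
theorem D23586 : act 6 n18661 = n23586 := rfl
theorem F105812 : act 2 n23586 = n18662 := d20_1 D23586 (iv D18662) D18661
theorem F105813 : act 3 n23586 = n22112 := d26_1 D23586 (iv D22112) (iv F84401)
theorem F105814 : act 4 n23586 = n18970 := d31_1 D23586 (iv D18970) (iv F84402)
theorem F105815 : act 9 n23586 = n18732 := d41_2 (iv F84405) D23586 (iv D18732)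
def n23587 : Q := act 5 n18662
theorem D23587 : act 5 n18662 = n23587 := rfl
theorem F105816 : act 1 n23587 = n18681 := d12_1 D23587 (iv D18681) (iv F84406)
theorem F105817 : act 3 n23587 = n18663 := d25_1 D23587 (iv D18663) (iv F84407)
theorem F105818 : act 6 n23587 = n23587 := d35_2 D18662 D23587 (iv D23587) (iv D18662) F66894
theorem F105819 : act 9 n23587 = n18733 := d38_2 (iv F84409) D23587 (iv D18733)
def n23588 : Q := act 7 n18662
theorem D23588 : act 7 n18662 = n23588 := rfl
theorem F105820 : act 1 n23588 = n18682 := d14_1 D23588 (iv D18682) (iv F84406)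
theorem F105821 : act 3 n23588 = n18664 := d27_1 D23588 (iv D18664) (iv F84407)
theorem F105822 : act 4 n23588 = n18972 := d32_1 D23588 (iv D18972) (iv F84408)
theorem F105823 : act 6 n23588 = n20635 := d39_1 D23588 (iv D20635) (iv D16122) (iv F66895) D18662
theorem F105824 : act 9 n23588 = n18734 := d43_2 (iv F84409) D23588 (iv D18734)
def n23589 : Q := act 7 n18663
theorem D23589 : act 7 n18663 = n23589 := rfl
theorem F105825 : act 1 n23589 = n18683 := d14_1 D23589 (iv D18683) (iv F84410)
theorem F105826 : act 2 n23589 = n22115 := d21_1 D23589 (iv D22115) (iv F84411)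
theorem F105827 : act 4 n23589 = n18668 := d32_1 D23589 (iv D18668) (iv F84412)
theorem F105828 : act 5 n23589 = n18664 := d36_1 D23589 (iv D18664) D18663
theorem F105829 : act 9 n23589 = n18735 := d43_2 (iv F84414) D23589 (iv D18735)
def n23590 : Q := act 8 n18663
theorem D23590 : act 8 n18663 = n23590 := rfl
theorem F105830 : act 1 n23590 = n18684 := d15_1 D23590 (iv D18684) (iv F84410)
theorem F105831 : act 2 n23590 = n22116 := d22_1 D23590 (iv D22116) (iv F84411)
theorem F105832 : act 4 n23590 = n18669 := d33_1 D23590 (iv D18669) (iv F84412)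
theorem F105833 : act 6 n23590 = n23590 := d40_1 D23590 (iv D23590) F84413
def n23591 : Q := act 5 n18665
theorem D23591 : act 5 n18665 = n23591 := rfl
theorem F105834 : act 1 n23591 = n23591 := d12_1 D23591 (iv D23591) F84420
theorem F105835 : act 2 n23591 = n18666 := d19_1 D23591 (iv D18666) (iv F84421)
theorem F105836 : act 6 n23591 = n23591 := d35_2 D18665 D23591 (iv D23591) (iv D18665) F66909
theorem F105837 : act 9 n23591 = n18737 := d38_2 (iv F84423) D23591 (iv D18737)
def n23592 : Q := act 7 n18665
theorem D23592 : act 7 n18665 = n23592 := rfl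
theorem F105838 : act 1 n23592 = n23592 := d14_1 D23592 (iv D23592) F84420
theorem F105839 : act 2 n23592 = n18667 := d21_1 D23592 (iv D18667) (iv F84421)
theorem F105840 : act 4 n23592 = n18976 := d32_1 D23592 (iv D18976) (iv F84422)
theorem F105841 : act 6 n23592 = n23592 := d39_1 D23592 (iv D23592) (iv D18665) F66910 D18665
theorem F105842 : act 9 n23592 = n18738 := d43_2 (iv F84423) D23592 (iv D18738)
def n23593 : Q := act 4 n18666
theorem D23593 : act 4 n18666 = n23593 := rfl
theorem F105843 : act 1 n23593 = n18685 := d11_1 D23593 (iv D18685) (iv F84424)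
theorem F105844 : act 5 n23593 = n18977 := d30_2 D18666 D23593 (iv D18977) (iv D14875) (iv F66914)
theorem F105845 : act 6 n23593 = n23593 := d31_2 F84426 D23593 (iv D23593)
theorem F105846 : act 9 n23593 = n18739 := d34_2 (iv F84427) D23593 (iv D18739)
def n23594 : Q := act 7 n18666
theorem D23594 : act 7 n18666 = n23594 := rfl
theorem F105847 : act 1 n23594 = n18686 := d14_1 D23594 (iv D18686) (iv F84424)
theorem F105848 : act 3 n23594 = n18668 := d27_1 D23594 (iv D18668) (iv F84425)
theorem F105849 : act 5 n23594 = n18667 := d36_1 D23594 (iv D18667) D18666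
theorem F105850 : act 9 n23594 = n18740 := d43_2 (iv F84427) D23594 (iv D18740)
def n23595 : Q := act 8 n18666
theorem D23595 : act 8 n18666 = n23595 := rfl
theorem F105851 : act 1 n23595 = n18687 := d15_1 D23595 (iv D18687) (iv F84424)
theorem F105852 : act 3 n23595 = n18669 := d28_1 D23595 (iv D18669) (iv F84425)
theorem F105853 : act 6 n23595 = n23595 := d40_1 D23595 (iv D23595) F84426
def n23596 : Q := act 6 n18668
theorem D23596 : act 6 n18668 = n23596 := rfl
theorem F105854 : act 1 n23596 = n18688 := d13_1 D23596 (iv D18688) (iv F84433)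
theorem F105855 : act 5 n23596 = n23596 := d35_1 D23596 (iv D23596) F84434 F66921 (iv F84434)
theorem F105856 : act 7 n23596 = n23596 := d39_2 D18668 D23596 (iv D23596) (iv D18668) F66917
theorem F105857 : act 9 n23596 = n18742 := d41_2 (iv F84435) D23596 (iv D18742)
def n23597 : Q := act 8 n18668
theorem D23597 : act 8 n18668 = n23597 := rfl
theorem F105858 : act 1 n23597 = n18689 := d15_1 D23597 (iv D18689) (iv F84433)
theorem F105859 : act 7 n23597 = n18669 := d42_1 D23597 (iv D18669) D18668
def n23598 : Q := act 9 n18669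
theorem D23598 : act 9 n18669 = n23598 := rfl
theorem F105860 : act 1 n23598 = n18690 := d16_1 D23598 (iv D18690) (iv F84436)
theorem F105861 : act 6 n23598 = n23598 := d41_1 D23598 (iv D23598) F84437
theorem F105862 : act 8 n23598 = n18744 := d44_1 D23598 (iv D18744) (iv D14707) (iv F66918) D18669
def n23599 : Q := act 3 n18670
theorem D23599 : act 3 n18670 = n23599 := rfl
theorem F105863 : act 0 n23599 = n19958 := d2_1 D23599 (iv D19958) (iv F84438)
theorem F105864 : act 1 n23599 = n18814 := d10_1 D23599 (iv D18814) (iv F84439)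
theorem F105865 : act 4 n23599 = n18672 := d24_2 D18670 D23599 (iv D18672) (iv D14655) (iv F66926)
theorem F105866 : act 5 n23599 = n18983 := d25_2 (iv F84441) D23599 (iv D18983)
theorem F105867 : act 7 n23599 = n20368 := d27_2 (iv F84442) D23599 (iv D20368)
theorem F105868 : act 8 n23599 = n23599 := d28_2 F84443 D23599 (iv D23599)
theorem F105869 : act 9 n23599 = n18786 := d29_2 (iv F84444) D23599 (iv D18786)
def n23600 : Q := act 6 n18670
theorem D23600 : act 6 n18670 = n23600 := rfl
theorem F105870 : act 0 n23600 = n19959 := d5_1 D23600 (iv D19959) (iv F84438)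
theorem F105871 : act 1 n23600 = n18815 := d13_1 D23600 (iv D18815) (iv F84439)
theorem F105872 : act 2 n23600 = n23600 := d20_1 D23600 (iv D23600) F84440
theorem F105873 : act 4 n23600 = n18671 := d31_1 D23600 (iv D18671) D18670
theorem F105874 : act 8 n23600 = n23600 := d40_2 F84443 D23600 (iv D23600)
theorem F105875 : act 9 n23600 = n18787 := d41_2 (iv F84444) D23600 (iv D18787)
def n23601 : Q := act 7 n18671
theorem D23601 : act 7 n18671 = n23601 := rfl
theorem F105876 : act 0 n23601 = n19960 := d6_1 D23601 (iv D19960) (iv F84445)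
theorem F105877 : act 1 n23601 = n18816 := d14_1 D23601 (iv D18816) (iv F84446)
theorem F105878 : act 2 n23601 = n23601 := d21_1 D23601 (iv D23601) F84447
theorem F105879 : act 3 n23601 = n18674 := d27_1 D23601 (iv D18674) (iv F84448)
theorem F105880 : act 5 n23601 = n18960 := d36_1 D23601 (iv D18960) (iv F84449)
theorem F105881 : act 6 n23601 = n20370 := d39_1 D23601 (iv D20370) (iv D15929) (iv F66927) D18671
theorem F105882 : act 8 n23601 = n23601 := d42_2 F84450 D23601 (iv D23601)
theorem F105883 : act 9 n23601 = n18788 := d43_2 (iv F84451) D23601 (iv D18788)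
def n23602 : Q := act 2 n18672
theorem D23602 : act 2 n18672 = n23602 := rfl
theorem F105884 : act 0 n23602 = n19961 := d1_1 D23602 (iv D19961) (iv F84452)
theorem F105885 : act 3 n23602 = n18691 := d17_2 D18672 D23602 (iv D18691) (iv D14668) (iv F66932)
theorem F105886 : act 5 n23602 = n18675 := d19_2 (iv F84454) D23602 (iv D18675)
theorem F105887 : act 7 n23602 = n20379 := d21_2 (iv F84455) D23602 (iv D20379)
theorem F105888 : act 8 n23602 = n23602 := d22_2 F84456 D23602 (iv D23602)
theorem F105889 : act 9 n23602 = n20375 := d23_2 (iv F84457) D23602 (iv D20375)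
def n23603 : Q := act 6 n18672
theorem D23603 : act 6 n18672 = n23603 := rfl
theorem F105890 : act 0 n23603 = n19962 := d5_1 D23603 (iv D19962) (iv F84452)
theorem F105891 : act 1 n23603 = n20390 := d13_1 D23603 (iv D20390) (iv F84453)
theorem F105892 : act 3 n23603 = n18673 := d26_1 D23603 (iv D18673) D18672
theorem F105893 : act 8 n23603 = n23603 := d40_2 F84456 D23603 (iv D23603)
theorem F105894 : act 9 n23603 = n20376 := d41_2 (iv F84457) D23603 (iv D20376)
def n23604 : Q := act 5 n18673
theorem D23604 : act 5 n18673 = n23604 := rfl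
theorem F105895 : act 0 n23604 = n19963 := d4_1 D23604 (iv D19963) (iv F84458)
theorem F105896 : act 1 n23604 = n20391 := d12_1 D23604 (iv D20391) (iv F84459)
theorem F105897 : act 2 n23604 = n18693 := d19_1 D23604 (iv D18693) (iv F84460)
theorem F105898 : act 4 n23604 = n20330 := d30_1 D23604 (iv D20330) F72566 (iv F66940) (iv F84461)
theorem F105899 : act 6 n23604 = n18677 := d35_2 D18673 D23604 (iv D18677) (iv D14658) (iv F66933)
theorem F105900 : act 9 n23604 = n20377 := d38_2 (iv F84463) D23604 (iv D20377)
def n23605 : Q := act 7 n18673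
theorem D23605 : act 7 n18673 = n23605 := rfl
theorem F105901 : act 0 n23605 = n19964 := d6_1 D23605 (iv D19964) (iv F84458)
theorem F105902 : act 1 n23605 = n20392 := d14_1 D23605 (iv D20392) (iv F84459)
theorem F105903 : act 2 n23605 = n18694 := d21_1 D23605 (iv D18694) (iv F84460)
theorem F105904 : act 4 n23605 = n18674 := d32_1 D23605 (iv D18674) (iv F84461)
theorem F105905 : act 6 n23605 = n20382 := d39_1 D23605 (iv D20382) (iv D15937) (iv F66934) D18673
theorem F105906 : act 8 n23605 = n23605 := d42_2 F84462 D23605 (iv D23605)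
theorem F105907 : act 9 n23605 = n20378 := d43_2 (iv F84463) D23605 (iv D20378)
def n23607 : Q := act 6 n18675
theorem D23607 : act 6 n18675 = n23607 := rfl
theorem F105913 : act 0 n23607 = n19966 := d5_1 D23607 (iv D19966) (iv F84471)
theorem F105914 : act 2 n23607 = n18676 := d20_1 D23607 (iv D18676) D18675
theorem F105915 : act 3 n23607 = n18696 := d26_1 D23607 (iv D18696) (iv F84472)
theorem F105916 : act 4 n23607 = n19008 := d31_1 D23607 (iv D19008) (iv F84473)
theorem F105917 : act 8 n23607 = n18680 := d40_2 (iv F84475) D23607 (iv D18680)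
def n23608 : Q := act 5 n18676
theorem D23608 : act 5 n18676 = n23608 := rfl
theorem F105919 : act 0 n23608 = n19967 := d4_1 D23608 (iv D19967) (iv F84477)
theorem F105920 : act 3 n23608 = n18677 := d25_1 D23608 (iv D18677) (iv F84478)
theorem F105921 : act 9 n23608 = n20395 := d38_2 (iv F84481) D23608 (iv D20395)
def n23609 : Q := act 7 n18676
theorem D23609 : act 7 n18676 = n23609 := rfl
theorem F105922 : act 0 n23609 = n19968 := d6_1 D23609 (iv D19968) (iv F84477)
theorem F105923 : act 3 n23609 = n18678 := d27_1 D23609 (iv D18678) (iv F84478)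
theorem F105924 : act 4 n23609 = n19010 := d32_1 D23609 (iv D19010) (iv F84479)
theorem F105925 : act 6 n23609 = n20402 := d39_1 D23609 (iv D20402) (iv D15951) (iv F66945) D18676
theorem F105926 : act 8 n23609 = n18682 := d42_2 (iv F84480) D23609 (iv D18682)
theorem F105927 : act 9 n23609 = n20396 := d43_2 (iv F84481) D23609 (iv D20396)
def n23610 : Q := act 7 n18677
theorem D23610 : act 7 n18677 = n23610 := rfl
theorem F105928 : act 0 n23610 = n19969 := d6_1 D23610 (iv D19969) (iv F84482)
theorem F105929 : act 2 n23610 = n18699 := d21_1 D23610 (iv D18699) (iv F84483)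
theorem F105930 : act 5 n23610 = n18678 := d36_1 D23610 (iv D18678) D18677
theorem F105931 : act 9 n23610 = n20397 := d43_2 (iv F84484) D23610 (iv D20397)
def n23611 : Q := act 8 n18677
theorem D23611 : act 8 n18677 = n23611 := rfl
theorem F105932 : act 0 n23611 = n19970 := d7_1 D23611 (iv D19970) (iv F84482)
theorem F105933 : act 2 n23611 = n18700 := d22_1 D23611 (iv D18700) (iv F84483)
theorem F105934 : act 5 n23611 = n18684 := d37_1 D23611 (iv D18684) (iv D14662) (iv F66951) D18677
def n23612 : Q := act 0 n18679
theorem D23612 : act 0 n18679 = n23612 := rfl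
theorem F105937 : act 4 n23612 = n19019 := d3_2 (iv F84492) D23612 (iv D19019)
theorem F105940 : act 9 n23612 = n18745 := d8_2 (iv F84495) D23612 (iv D18745)
def n23614 : Q := act 5 n18680
theorem D23614 : act 5 n18680 = n23614 := rfl
theorem F105945 : act 0 n23614 = n19973 := d4_1 D23614 (iv D19973) (iv F84496)
theorem F105946 : act 2 n23614 = n18681 := d19_1 D23614 (iv D18681) (iv F84497)
theorem F105947 : act 3 n23614 = n18703 := d25_1 D23614 (iv D18703) (iv F84498)
theorem F105948 : act 6 n23614 = n23614 := d35_2 D18680 D23614 (iv D23614) (iv D18680) F66962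
theorem F105949 : act 9 n23614 = n18747 := d38_2 (iv F84500) D23614 (iv D18747)
def n23615 : Q := act 7 n18680
theorem D23615 : act 7 n18680 = n23615 := rfl
theorem F105950 : act 0 n23615 = n19974 := d6_1 D23615 (iv D19974) (iv F84496)
theorem F105951 : act 2 n23615 = n18682 := d21_1 D23615 (iv D18682) (iv F84497)
theorem F105952 : act 3 n23615 = n18704 := d27_1 D23615 (iv D18704) (iv F84498)
theorem F105953 : act 4 n23615 = n19022 := d32_1 D23615 (iv D19022) (iv F84499)
theorem F105954 : act 6 n23615 = n20688 := d39_1 D23615 (iv D20688) (iv D16158) (iv F66963) D18680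
theorem F105955 : act 9 n23615 = n18748 := d43_2 (iv F84500) D23615 (iv D18748)
def n23616 : Q := act 4 n18681
theorem D23616 : act 4 n18681 = n23616 := rfl
theorem F105956 : act 0 n23616 = n19975 := d3_1 D23616 (iv D19975) (iv F84501)
theorem F105957 : act 3 n23616 = n18685 := d24_1 D23616 (iv D18685) F66981 (iv F66971) (iv F84502)
theorem F105958 : act 5 n23616 = n19023 := d30_2 D18681 D23616 (iv D19023) (iv D14906) (iv F66967)
theorem F105959 : act 6 n23616 = n23616 := d31_2 F84503 D23616 (iv D23616)
theorem F105960 : act 9 n23616 = n18749 := d34_2 (iv F84504) D23616 (iv D18749)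
def n23617 : Q := act 7 n18681
theorem D23617 : act 7 n18681 = n23617 := rfl
theorem F105961 : act 0 n23617 = n19976 := d6_1 D23617 (iv D19976) (iv F84501)
theorem F105962 : act 3 n23617 = n18683 := d27_1 D23617 (iv D18683) (iv F84502)
theorem F105963 : act 5 n23617 = n18682 := d36_1 D23617 (iv D18682) D18681
theorem F105964 : act 9 n23617 = n18750 := d43_2 (iv F84504) D23617 (iv D18750)
def n23618 : Q := act 8 n18681
theorem D23618 : act 8 n18681 = n23618 := rfl
theorem F105965 : act 0 n23618 = n19977 := d7_1 D23618 (iv D19977) (iv F84501)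
theorem F105966 : act 3 n23618 = n18684 := d28_1 D23618 (iv D18684) (iv F84502)
theorem F105967 : act 6 n23618 = n23618 := d40_1 D23618 (iv D23618) F84503
def n23619 : Q := act 6 n18683
theorem D23619 : act 6 n18683 = n23619 := rfl
theorem F105968 : act 0 n23619 = n19978 := d5_1 D23619 (iv D19978) (iv F84510)
theorem F105969 : act 2 n23619 = n18707 := d20_1 D23619 (iv D18707) (iv F84511)
theorem F105970 : act 4 n23619 = n18688 := d31_1 D23619 (iv D18688) (iv F84512)
theorem F105971 : act 5 n23619 = n20692 := d35_1 D23619 (iv D20692) F73462 (iv F66977) (iv F84513)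
theorem F105972 : act 7 n23619 = n23619 := d39_2 D18683 D23619 (iv D23619) (iv D18683) F66972
theorem F105973 : act 9 n23619 = n18752 := d41_2 (iv F84514) D23619 (iv D18752)
def n23620 : Q := act 8 n18683
theorem D23620 : act 8 n18683 = n23620 := rfl
theorem F105974 : act 0 n23620 = n19979 := d7_1 D23620 (iv D19979) (iv F84510)
theorem F105975 : act 2 n23620 = n18708 := d22_1 D23620 (iv D18708) (iv F84511)
theorem F105976 : act 4 n23620 = n18689 := d33_1 D23620 (iv D18689) (iv F84512)
theorem F105977 : act 7 n23620 = n18684 := d42_1 D23620 (iv D18684) D18683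
def n23621 : Q := act 9 n18684
theorem D23621 : act 9 n18684 = n23621 := rfl
theorem F105978 : act 0 n23621 = n19980 := d8_1 D23621 (iv D19980) (iv F84515)
theorem F105979 : act 2 n23621 = n18709 := d23_1 D23621 (iv D18709) (iv F84516)
theorem F105980 : act 4 n23621 = n18690 := d34_1 D23621 (iv D18690) (iv F84517)
theorem F105981 : act 6 n23621 = n23621 := d41_1 D23621 (iv D23621) F84518
theorem F105982 : act 8 n23621 = n18754 := d44_1 D23621 (iv D18754) (iv D14713) (iv F66973) D18684
def n23622 : Q := act 7 n18685
theorem D23622 : act 7 n18685 = n23622 := rfl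
theorem F105983 : act 0 n23622 = n19981 := d6_1 D23622 (iv D19981) (iv F84519)
theorem F105984 : act 2 n23622 = n23622 := d21_1 D23622 (iv D23622) F84520
theorem F105985 : act 4 n23622 = n18686 := d32_1 D23622 (iv D18686) D18685
theorem F105986 : act 5 n23622 = n19029 := d36_1 D23622 (iv D19029) (iv F84521)
theorem F105987 : act 9 n23622 = n18755 := d43_2 (iv F84523) D23622 (iv D18755)
def n23623 : Q := act 8 n18685
theorem D23623 : act 8 n18685 = n23623 := rfl
theorem F105988 : act 0 n23623 = n19982 := d7_1 D23623 (iv D19982) (iv F84519)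
theorem F105989 : act 2 n23623 = n23623 := d22_1 D23623 (iv D23623) F84520
theorem F105990 : act 4 n23623 = n18687 := d33_1 D23623 (iv D18687) D18685
theorem F105991 : act 6 n23623 = n23623 := d40_1 D23623 (iv D23623) F84522
def n23624 : Q := act 6 n18686
theorem D23624 : act 6 n18686 = n23624 := rfl
theorem F105992 : act 0 n23624 = n19983 := d5_1 D23624 (iv D19983) (iv F84524)
theorem F105993 : act 2 n23624 = n23624 := d20_1 D23624 (iv D23624) F84525
theorem F105994 : act 3 n23624 = n18688 := d26_1 D23624 (iv D18688) (iv F84526)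
theorem F105995 : act 5 n23624 = n23624 := d35_1 D23624 (iv D23624) F84527 F66988 (iv F84527)
theorem F105996 : act 7 n23624 = n23624 := d39_2 D18686 D23624 (iv D23624) (iv D18686) F66982
theorem F105997 : act 9 n23624 = n18757 := d41_2 (iv F84528) D23624 (iv D18757)
def n23625 : Q := act 8 n18686
theorem D23625 : act 8 n18686 = n23625 := rfl
theorem F105998 : act 0 n23625 = n19984 := d7_1 D23625 (iv D19984) (iv F84524)
theorem F105999 : act 2 n23625 = n23625 := d22_1 D23625 (iv D23625) F84525
theorem F106000 : act 3 n23625 = n18689 := d28_1 D23625 (iv D18689) (iv F84526)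
theorem F106001 : act 7 n23625 = n18687 := d42_1 D23625 (iv D18687) D18686
def n23626 : Q := act 9 n18687
theorem D23626 : act 9 n18687 = n23626 := rfl
theorem F106002 : act 0 n23626 = n19985 := d8_1 D23626 (iv D19985) (iv F84529)
theorem F106003 : act 2 n23626 = n23626 := d23_1 D23626 (iv D23626) F84530
theorem F106004 : act 3 n23626 = n18690 := d29_1 D23626 (iv D18690) (iv F84531)
theorem F106005 : act 6 n23626 = n23626 := d41_1 D23626 (iv D23626) F84532
theorem F106006 : act 8 n23626 = n18759 := d44_1 D23626 (iv D18759) (iv D14716) (iv F66983) D18687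
def n23627 : Q := act 8 n18688
theorem D23627 : act 8 n18688 = n23627 := rfl
theorem F106007 : act 0 n23627 = n19986 := d7_1 D23627 (iv D19986) (iv F84533)
theorem F106008 : act 2 n23627 = n18710 := d22_1 D23627 (iv D18710) (iv F84534)
theorem F106009 : act 6 n23627 = n18689 := d40_1 D23627 (iv D18689) D18688
theorem F106010 : act 7 n23627 = n23627 := d42_1 D23627 (iv D23627) F84536
def n23628 : Q := act 9 n18689
theorem D23628 : act 9 n18689 = n23628 := rfl
theorem F106011 : act 0 n23628 = n19987 := d8_1 D23628 (iv D19987) (iv F84538)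
theorem F106012 : act 2 n23628 = n18711 := d23_1 D23628 (iv D18711) (iv F84539)
theorem F106013 : act 7 n23628 = n18690 := d43_1 D23628 (iv D18690) (iv F84540)
theorem F106014 : act 8 n23628 = n18761 := d44_1 D23628 (iv D18761) (iv D14718) (iv F66993) D18689
def n23630 : Q := act 6 n18691
theorem D23630 : act 6 n18691 = n23630 := rfl
theorem F106021 : act 0 n23630 = n19989 := d5_1 D23630 (iv D19989) (iv F84545)
theorem F106022 : act 2 n23630 = n18692 := d20_1 D23630 (iv D18692) D18691
theorem F106023 : act 4 n23630 = n23630 := d31_1 D23630 (iv D23630) F84546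
theorem F106024 : act 8 n23630 = n23630 := d40_2 F84549 D23630 (iv D23630)
theorem F106025 : act 9 n23630 = n20451 := d41_2 (iv F84550) D23630 (iv D20451)
def n23631 : Q := act 5 n18692
theorem D23631 : act 5 n18692 = n23631 := rfl
theorem F106026 : act 0 n23631 = n19990 := d4_1 D23631 (iv D19990) (iv F84551)
theorem F106028 : act 3 n23631 = n18693 := d25_1 D23631 (iv D18693) (iv F84553)
theorem F106029 : act 6 n23631 = n18697 := d35_2 D18692 D23631 (iv D18697) (iv D14672) (iv F67000)
theorem F106030 : act 9 n23631 = n20452 := d38_2 (iv F84556) D23631 (iv D20452)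
def n23632 : Q := act 7 n18692
theorem D23632 : act 7 n18692 = n23632 := rfl
theorem F106031 : act 0 n23632 = n19991 := d6_1 D23632 (iv D19991) (iv F84551)
theorem F106032 : act 1 n23632 = n21769 := d14_1 D23632 (iv D21769) (iv F84552)
theorem F106033 : act 3 n23632 = n18694 := d27_1 D23632 (iv D18694) (iv F84553)
theorem F106034 : act 4 n23632 = n23632 := d32_1 D23632 (iv D23632) F84554
theorem F106035 : act 6 n23632 = n20459 := d39_1 D23632 (iv D20459) (iv D15991) (iv F67001) D18692
theorem F106036 : act 8 n23632 = n23632 := d42_2 F84555 D23632 (iv D23632)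
theorem F106037 : act 9 n23632 = n20453 := d43_2 (iv F84556) D23632 (iv D20453)
def n23633 : Q := act 7 n18693
theorem D23633 : act 7 n18693 = n23633 := rfl
theorem F106038 : act 0 n23633 = n19992 := d6_1 D23633 (iv D19992) (iv F84557)
theorem F106039 : act 1 n23633 = n21770 := d14_1 D23633 (iv D21770) (iv F84558)
theorem F106040 : act 4 n23633 = n21695 := d32_1 D23633 (iv D21695) (iv F84559)
theorem F106041 : act 5 n23633 = n18694 := d36_1 D23633 (iv D18694) D18693
theorem F106042 : act 9 n23633 = n20454 := d43_2 (iv F84561) D23633 (iv D20454)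
def n23634 : Q := act 8 n18693
theorem D23634 : act 8 n18693 = n23634 := rfl
theorem F106043 : act 0 n23634 = n19993 := d7_1 D23634 (iv D19993) (iv F84557)
theorem F106044 : act 1 n23634 = n21771 := d15_1 D23634 (iv D21771) (iv F84558)
theorem F106045 : act 4 n23634 = n21696 := d33_1 D23634 (iv D21696) (iv F84559)
theorem F106046 : act 5 n23634 = n23634 := d37_1 D23634 (iv D23634) (iv D18693) F67007 D18693
theorem F106047 : act 6 n23634 = n18700 := d40_1 D23634 (iv D18700) (iv F84560)
def n23637 : Q := act 5 n18696
theorem D23637 : act 5 n18696 = n23637 := rfl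
theorem F106059 : act 0 n23637 = n19996 := d4_1 D23637 (iv D19996) (iv F84573)
theorem F106060 : act 2 n23637 = n18697 := d19_1 D23637 (iv D18697) (iv F84574)
def n23638 : Q := act 7 n18696
theorem D23638 : act 7 n18696 = n23638 := rfl
theorem F106062 : act 0 n23638 = n19997 := d6_1 D23638 (iv D19997) (iv F84573)
theorem F106063 : act 2 n23638 = n18698 := d21_1 D23638 (iv D18698) (iv F84574)
theorem F106064 : act 4 n23638 = n18715 := d32_1 D23638 (iv D18715) (iv F84575)
theorem F106065 : act 6 n23638 = n20491 := d39_1 D23638 (iv D20491) (iv D16011) (iv F67018) D18696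
theorem F106066 : act 8 n23638 = n18704 := d42_2 (iv F84576) D23638 (iv D18704)
def n23639 : Q := act 4 n18697
theorem D23639 : act 4 n18697 = n23639 := rfl
theorem F106068 : act 0 n23639 = n19998 := d3_1 D23639 (iv D19998) (iv F84578)
theorem F106070 : act 5 n23639 = n18716 := d30_2 D18697 D23639 (iv D18716) (iv D14686) (iv F67024)
theorem F106071 : act 9 n23639 = n20482 := d34_2 (iv F84581) D23639 (iv D20482)
def n23640 : Q := act 7 n18697
theorem D23640 : act 7 n18697 = n23640 := rfl
theorem F106072 : act 0 n23640 = n19999 := d6_1 D23640 (iv D19999) (iv F84578)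
theorem F106074 : act 3 n23640 = n18699 := d27_1 D23640 (iv D18699) (iv F84580)
theorem F106075 : act 5 n23640 = n18698 := d36_1 D23640 (iv D18698) D18697
theorem F106076 : act 9 n23640 = n20483 := d43_2 (iv F84581) D23640 (iv D20483)
def n23641 : Q := act 8 n18697
theorem D23641 : act 8 n18697 = n23641 := rfl
theorem F106077 : act 0 n23641 = n20000 := d7_1 D23641 (iv D20000) (iv F84578)
theorem F106079 : act 3 n23641 = n18700 := d28_1 D23641 (iv D18700) (iv F84580)
theorem F106080 : act 5 n23641 = n18706 := d37_1 D23641 (iv D18706) (iv D14677) (iv F67025) D18697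
def n23642 : Q := act 6 n18699
theorem D23642 : act 6 n18699 = n23642 := rfl
theorem F106081 : act 0 n23642 = n20001 := d5_1 D23642 (iv D20001) (iv F84589)
theorem F106082 : act 1 n23642 = n21902 := d13_1 D23642 (iv D21902) (iv F84590)
theorem F106083 : act 5 n23642 = n20495 := d35_1 D23642 (iv D20495) F72939 (iv F67033) (iv F84591)
theorem F106084 : act 9 n23642 = n20485 := d41_2 (iv F84592) D23642 (iv D20485)
def n23643 : Q := act 8 n18699
theorem D23643 : act 8 n18699 = n23643 := rfl
theorem F106085 : act 0 n23643 = n20002 := d7_1 D23643 (iv D20002) (iv F84589)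
theorem F106086 : act 1 n23643 = n21903 := d15_1 D23643 (iv D21903) (iv F84590)
theorem F106087 : act 5 n23643 = n18708 := d37_1 D23643 (iv D18708) F67060 (iv F67034) (iv F84591)
theorem F106088 : act 7 n23643 = n18700 := d42_1 D23643 (iv D18700) D18699
def n23644 : Q := act 9 n18700
theorem D23644 : act 9 n18700 = n23644 := rfl
theorem F106089 : act 0 n23644 = n20003 := d8_1 D23644 (iv D20003) (iv F84593)
theorem F106091 : act 5 n23644 = n18709 := d38_1 D23644 (iv D18709) (iv F84595)
theorem F106092 : act 8 n23644 = n20487 := d44_1 D23644 (iv D20487) (iv D16009) (iv F67029) D18700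
def n23645 : Q := act 6 n18701
theorem D23645 : act 6 n18701 = n23645 := rfl
theorem F106094 : act 1 n23645 = n20004 := d13_1 D23645 (iv D20004) (iv F84596)
theorem F106097 : act 9 n23645 = n18762 := d41_2 (iv F84601) D23645 (iv D18762)
def n23648 : Q := act 7 n18703
theorem D23648 : act 7 n18703 = n23648 := rfl
theorem F106108 : act 0 n23648 = n20007 := d6_1 D23648 (iv D20007) (iv F84606)
theorem F106109 : act 2 n23648 = n18705 := d21_1 D23648 (iv D18705) (iv F84607)
theorem F106110 : act 4 n23648 = n23648 := d32_1 D23648 (iv D23648) F84608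
theorem F106111 : act 5 n23648 = n18704 := d36_1 D23648 (iv D18704) D18703
theorem F106112 : act 9 n23648 = n18765 := d43_2 (iv F84610) D23648 (iv D18765)
def n23649 : Q := act 8 n18703
theorem D23649 : act 8 n18703 = n23649 := rfl
theorem F106113 : act 0 n23649 = n20008 := d7_1 D23649 (iv D20008) (iv F84606)
theorem F106114 : act 2 n23649 = n18706 := d22_1 D23649 (iv D18706) (iv F84607)
theorem F106115 : act 4 n23649 = n23649 := d33_1 D23649 (iv D23649) F84608
theorem F106116 : act 6 n23649 = n23649 := d40_1 D23649 (iv D23649) F84609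
def n23650 : Q := act 6 n18705
theorem D23650 : act 6 n18705 = n23650 := rfl
theorem F106117 : act 0 n23650 = n20009 := d5_1 D23650 (iv D20009) (iv F84616)
theorem F106119 : act 3 n23650 = n18707 := d26_1 D23650 (iv D18707) (iv F84618)
theorem F106120 : act 4 n23650 = n23650 := d31_1 D23650 (iv D23650) F84619
theorem F106121 : act 5 n23650 = n20757 := d35_1 D23650 (iv D20757) F73605 (iv F67055) (iv F84620)
theorem F106122 : act 7 n23650 = n23650 := d39_2 D18705 D23650 (iv D23650) (iv D18705) F67049
theorem F106123 : act 9 n23650 = n18767 := d41_2 (iv F84621) D23650 (iv D18767)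
def n23651 : Q := act 8 n18705
theorem D23651 : act 8 n18705 = n23651 := rfl
theorem F106124 : act 0 n23651 = n20010 := d7_1 D23651 (iv D20010) (iv F84616)
theorem F106126 : act 3 n23651 = n18708 := d28_1 D23651 (iv D18708) (iv F84618)
theorem F106127 : act 4 n23651 = n23651 := d33_1 D23651 (iv D23651) F84619
theorem F106128 : act 7 n23651 = n18706 := d42_1 D23651 (iv D18706) D18705
def n23653 : Q := act 8 n18707
theorem D23653 : act 8 n18707 = n23653 := rfl
theorem F106135 : act 0 n23653 = n20012 := d7_1 D23653 (iv D20012) (iv F84627)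
theorem F106136 : act 1 n23653 = n22298 := d15_1 D23653 (iv D22298) (iv F84628)
theorem F106137 : act 4 n23653 = n18710 := d33_1 D23653 (iv D18710) (iv F84629)
theorem F106138 : act 6 n23653 = n18708 := d40_1 D23653 (iv D18708) D18707
theorem F106139 : act 7 n23653 = n23653 := d42_1 D23653 (iv D23653) F84631
def n23654 : Q := act 9 n18708
theorem D23654 : act 9 n18708 = n23654 := rfl
theorem F106140 : act 0 n23654 = n20013 := d8_1 D23654 (iv D20013) (iv F84633)
theorem F106142 : act 4 n23654 = n18711 := d34_1 D23654 (iv D18711) (iv F84635)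
theorem F106143 : act 7 n23654 = n18709 := d43_1 D23654 (iv D18709) (iv F84636)
theorem F106144 : act 8 n23654 = n18771 := d44_1 D23654 (iv D18771) (iv D14727) (iv F67061) D18708
def n23655 : Q := act 5 n18710
theorem D23655 : act 5 n18710 = n23655 := rfl
theorem F106145 : act 0 n23655 = n20014 := d4_1 D23655 (iv D20014) (iv F84642)
theorem F106146 : act 3 n23655 = n23655 := d25_1 D23655 (iv D23655) F84643
theorem F106147 : act 7 n23655 = n23655 := d36_2 F84645 D23655 (iv D23655)
theorem F106148 : act 8 n23655 = n23655 := d37_2 D18710 D23655 (iv D23655) (iv D18710) F67068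
def n23656 : Q := act 9 n18710
theorem D23656 : act 9 n18710 = n23656 := rfl
theorem F106149 : act 0 n23656 = n20015 := d8_1 D23656 (iv D20015) (iv F84642)
theorem F106150 : act 3 n23656 = n23656 := d29_1 D23656 (iv D23656) F84643
theorem F106151 : act 6 n23656 = n18711 := d41_1 D23656 (iv D18711) (iv F84644)
theorem F106152 : act 7 n23656 = n23656 := d43_1 D23656 (iv D23656) F84645
theorem F106153 : act 8 n23656 = n18773 := d44_1 D23656 (iv D18773) (iv D14729) (iv F67070) D18710
def n23660 : Q := act 4 n18714
theorem D23660 : act 4 n18714 = n23660 := rfl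
theorem F106172 : act 0 n23660 = n20019 := d3_1 D23660 (iv D20019) (iv F84662)
theorem F106173 : act 2 n23660 = n18716 := d18_1 D23660 (iv D18716) (iv F84663)
theorem F106174 : act 6 n23660 = n23660 := d31_2 F84665 D23660 (iv D23660)
theorem F106175 : act 8 n23660 = n23660 := d33_2 F84666 D23660 (iv D23660)
theorem F106176 : act 9 n23660 = n20549 := d34_2 (iv F84667) D23660 (iv D20549)
def n23661 : Q := act 7 n18714
theorem D23661 : act 7 n18714 = n23661 := rfl
theorem F106177 : act 0 n23661 = n20020 := d6_1 D23661 (iv D20020) (iv F84662)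
theorem F106178 : act 2 n23661 = n18717 := d21_1 D23661 (iv D18717) (iv F84663)
theorem F106179 : act 3 n23661 = n19129 := d27_1 D23661 (iv D19129) (iv F84664)
theorem F106180 : act 5 n23661 = n18715 := d36_1 D23661 (iv D18715) D18714
theorem F106181 : act 8 n23661 = n23661 := d42_2 F84666 D23661 (iv D23661)
def n23662 : Q := act 7 n18716
theorem D23662 : act 7 n18716 = n23662 := rfl
theorem F106183 : act 0 n23662 = n20021 := d6_1 D23662 (iv D20021) (iv F84674)
theorem F106185 : act 4 n23662 = n18717 := d32_1 D23662 (iv D18717) D18716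
theorem F106186 : act 8 n23662 = n23662 := d42_2 F84677 D23662 (iv D23662)
theorem F106187 : act 9 n23662 = n20552 := d43_2 (iv F84678) D23662 (iv D20552)
def n23663 : Q := act 6 n18717
theorem D23663 : act 6 n18717 = n23663 := rfl
theorem F106188 : act 0 n23663 = n20022 := d5_1 D23663 (iv D20022) (iv F84679)
theorem F106190 : act 3 n23663 = n18718 := d26_1 D23663 (iv D18718) (iv F84681)
theorem F106191 : act 5 n23663 = n20565 := d35_1 D23663 (iv D20565) F73126 (iv F67098) (iv F84682)
theorem F106192 : act 7 n23663 = n23663 := d39_2 D18717 D23663 (iv D23663) (iv D18717) F67092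
theorem F106193 : act 8 n23663 = n23663 := d40_2 F84683 D23663 (iv D23663)
theorem F106194 : act 9 n23663 = n20554 := d41_2 (iv F84684) D23663 (iv D20554)
def n23665 : Q := act 1 n18721
theorem D23665 : act 1 n18721 = n23665 := rfl
theorem F106202 : act 2 n23665 = n20024 := d9_2 D18721 D23665 (iv D20024) (iv D15673) (iv F67125)
theorem F106204 : act 4 n23665 = n19159 := d11_2 (iv F84706) D23665 (iv D19159)
theorem F106205 : act 5 n23665 = n23665 := d12_2 F84707 D23665 (iv D23665)
theorem F106206 : act 7 n23665 = n20598 := d14_2 (iv F84708) D23665 (iv D20598)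
theorem F106207 : act 8 n23665 = n20604 := d15_2 (iv F84709) D23665 (iv D20604)
def n23666 : Q := act 6 n18721
theorem D23666 : act 6 n18721 = n23666 := rfl
theorem F106208 : act 0 n23666 = n18732 := d5_1 D23666 (iv D18732) (iv F84704)
theorem F106209 : act 2 n23666 = n18722 := d20_1 D23666 (iv D18722) D18721
theorem F106211 : act 4 n23666 = n19160 := d31_1 D23666 (iv D19160) (iv F84706)
def n23667 : Q := act 5 n18722
theorem D23667 : act 5 n18722 = n23667 := rfl
theorem F106213 : act 0 n23667 = n18733 := d4_1 D23667 (iv D18733) (iv F84710)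
theorem F106214 : act 1 n23667 = n20026 := d12_1 D23667 (iv D20026) (iv F84711)
theorem F106215 : act 3 n23667 = n18723 := d25_1 D23667 (iv D18723) (iv F84712)
theorem F106216 : act 6 n23667 = n23667 := d35_2 D18722 D23667 (iv D23667) (iv D18722) F67127
def n23668 : Q := act 7 n18722
theorem D23668 : act 7 n18722 = n23668 := rfl
theorem F106217 : act 0 n23668 = n18734 := d6_1 D23668 (iv D18734) (iv F84710)
theorem F106218 : act 1 n23668 = n20027 := d14_1 D23668 (iv D20027) (iv F84711)
theorem F106219 : act 3 n23668 = n18724 := d27_1 D23668 (iv D18724) (iv F84712)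
theorem F106220 : act 4 n23668 = n19162 := d32_1 D23668 (iv D19162) (iv F84713)
theorem F106221 : act 6 n23668 = n20601 := d39_1 D23668 (iv D20601) (iv D16099) (iv F67128) D18722
theorem F106222 : act 8 n23668 = n20607 := d42_2 (iv F84714) D23668 (iv D20607)
def n23669 : Q := act 7 n18723
theorem D23669 : act 7 n18723 = n23669 := rfl
theorem F106223 : act 0 n23669 = n18735 := d6_1 D23669 (iv D18735) (iv F84715)
theorem F106224 : act 1 n23669 = n20028 := d14_1 D23669 (iv D20028) (iv F84716)
theorem F106225 : act 2 n23669 = n22058 := d21_1 D23669 (iv D22058) (iv F84717)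
theorem F106226 : act 4 n23669 = n18729 := d32_1 D23669 (iv D18729) (iv F84718)
theorem F106227 : act 5 n23669 = n18724 := d36_1 D23669 (iv D18724) D18723
def n23670 : Q := act 8 n18723
theorem D23670 : act 8 n18723 = n23670 := rfl
theorem F106228 : act 0 n23670 = n18736 := d7_1 D23670 (iv D18736) (iv F84715)
theorem F106229 : act 1 n23670 = n20029 := d15_1 D23670 (iv D20029) (iv F84716)
theorem F106231 : act 4 n23670 = n18730 := d33_1 D23670 (iv D18730) (iv F84718)
theorem F106232 : act 5 n23670 = n20609 := d37_1 D23670 (iv D20609) (iv D16104) (iv F67134) D18723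
theorem F106233 : act 6 n23670 = n23670 := d40_1 D23670 (iv D23670) F84719
def n23672 : Q := act 5 n18726
theorem D23672 : act 5 n18726 = n23672 := rfl
theorem F106240 : act 0 n23672 = n18737 := d4_1 D23672 (iv D18737) (iv F84732)
theorem F106242 : act 2 n23672 = n18727 := d19_1 D23672 (iv D18727) (iv F84733)
theorem F106243 : act 4 n23672 = n22123 := d30_1 D23672 F98966 F86871 (iv D19166) (iv F84734)
theorem F106245 : act 8 n22121 = n23672 := d33_0 F106243 (iv D22123) D22121
def n23673 : Q := act 7 n18726
theorem D23673 : act 7 n18726 = n23673 := rfl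
theorem F106246 : act 0 n23673 = n18738 := d6_1 D23673 (iv D18738) (iv F84732)
theorem F106247 : act 2 n23673 = n18728 := d21_1 D23673 (iv D18728) (iv F84733)
theorem F106248 : act 4 n23673 = n19167 := d32_1 D23673 (iv D19167) (iv F84734)
def n23674 : Q := act 4 n18727
theorem D23674 : act 4 n18727 = n23674 := rfl
theorem F106251 : act 0 n23674 = n18739 := d3_1 D23674 (iv D18739) (iv F84736)
theorem F106254 : act 5 n23674 = n19168 := d30_2 D18727 D23674 (iv D19168) (iv D15014) (iv F67150)
theorem F106256 : act 8 n22119 = n23674 := d37_0 F106254 (iv F86882) (iv D17294) (iv F77896) D22119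
def n23675 : Q := act 7 n18727
theorem D23675 : act 7 n18727 = n23675 := rfl
theorem F106257 : act 0 n23675 = n18740 := d6_1 D23675 (iv D18740) (iv F84736)
theorem F106258 : act 1 n23675 = n20034 := d14_1 D23675 (iv D20034) (iv F84737)
theorem F106259 : act 3 n23675 = n18729 := d27_1 D23675 (iv D18729) (iv F84738)
theorem F106260 : act 5 n23675 = n18728 := d36_1 D23675 (iv D18728) D18727
def n23676 : Q := act 8 n18727
theorem D23676 : act 8 n18727 = n23676 := rfl
theorem F106261 : act 0 n23676 = n18741 := d7_1 D23676 (iv D18741) (iv F84736)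
theorem F106262 : act 1 n23676 = n20035 := d15_1 D23676 (iv D20035) (iv F84737)
theorem F106263 : act 2 n23676 = n22121 := d22_1 D23676 F106245 F106242
theorem F106264 : act 3 n23676 = n18730 := d28_1 D23676 (iv D18730) (iv F84738)
theorem F106266 : act 5 n23676 = n23676 := d37_1 D23676 (iv D23676) (iv D18727) F67151 D18727
theorem F106267 : act 6 n23676 = n23676 := d40_1 D23676 (iv D23676) F84739
def n23677 : Q := act 6 n18729
theorem D23677 : act 6 n18729 = n23677 := rfl
theorem F106268 : act 0 n23677 = n18742 := d5_1 D23677 (iv D18742) (iv F84746)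
theorem F106269 : act 1 n23677 = n20036 := d13_1 D23677 (iv D20036) (iv F84747)
theorem F106270 : act 5 n23677 = n23677 := d35_1 D23677 (iv D23677) F84748 F67158 (iv F84748)
theorem F106271 : act 7 n23677 = n23677 := d39_2 D18729 D23677 (iv D23677) (iv D18729) F67154
def n23678 : Q := act 8 n18729
theorem D23678 : act 8 n18729 = n23678 := rfl
theorem F106272 : act 0 n23678 = n18743 := d7_1 D23678 (iv D18743) (iv F84746)
theorem F106273 : act 1 n23678 = n20037 := d15_1 D23678 (iv D20037) (iv F84747)
theorem F106274 : act 5 n23678 = n23678 := d37_1 D23678 (iv D23678) F84748 F67159 (iv F84748)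
theorem F106275 : act 7 n23678 = n18730 := d42_1 D23678 (iv D18730) D18729
def n23679 : Q := act 9 n18730
theorem D23679 : act 9 n18730 = n23679 := rfl
theorem F106276 : act 0 n23679 = n18744 := d8_1 D23679 (iv D18744) (iv F84749)
theorem F106277 : act 1 n23679 = n20038 := d16_1 D23679 (iv D20038) (iv F84750)
theorem F106278 : act 5 n23679 = n23679 := d38_1 D23679 (iv D23679) F84751
theorem F106279 : act 6 n23679 = n23679 := d41_1 D23679 (iv D23679) F84752
def n23680 : Q := act 0 n18731
theorem D23680 : act 0 n18731 = n23680 := rfl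
theorem F106282 : act 4 n23680 = n19190 := d3_2 (iv F84755) D23680 (iv D19190)
theorem F106285 : act 8 n23680 = n20648 := d7_2 (iv F84758) D23680 (iv D20648)
def n23681 : Q := act 6 n18731
theorem D23681 : act 6 n18731 = n23681 := rfl
theorem F106286 : act 1 n23681 = n18732 := d13_1 D23681 (iv D18732) D18731
theorem F106290 : act 8 n23681 = n20649 := d40_2 (iv F84758) D23681 (iv D20649)
def n23682 : Q := act 5 n18732
theorem D23682 : act 5 n18732 = n23682 := rfl
theorem F106291 : act 2 n23682 = n18733 := d19_1 D23682 (iv D18733) (iv F84759)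
theorem F106292 : act 3 n23682 = n22119 := d25_1 D23682 (iv D22119) (iv F84760)
theorem F106293 : act 6 n23682 = n23682 := d35_2 D18732 D23682 (iv D23682) (iv D18732) F67162
def n23683 : Q := act 7 n18732
theorem D23683 : act 7 n18732 = n23683 := rfl
theorem F106294 : act 2 n23683 = n18734 := d21_1 D23683 (iv D18734) (iv F84759)
theorem F106295 : act 3 n23683 = n22120 := d27_1 D23683 (iv D22120) (iv F84760)
theorem F106296 : act 4 n23683 = n19193 := d32_1 D23683 (iv D19193) (iv F84761)
theorem F106297 : act 6 n23683 = n20641 := d39_1 D23683 (iv D20641) (iv D16126) (iv F67163) D18732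
theorem F106298 : act 8 n23683 = n20651 := d42_2 (iv F84762) D23683 (iv D20651)
def n23684 : Q := act 4 n18733
theorem D23684 : act 4 n18733 = n23684 := rfl
theorem F106299 : act 1 n23684 = n18749 := d11_1 D23684 (iv D18749) (iv F84763)
theorem F106300 : act 3 n23684 = n18739 := d24_1 D23684 (iv D18739) F67183 (iv F67171) (iv F84764)
theorem F106301 : act 5 n23684 = n19194 := d30_2 D18733 D23684 (iv D19194) (iv D15031) (iv F67167)
theorem F106302 : act 6 n23684 = n23684 := d31_2 F84765 D23684 (iv D23684)
def n23685 : Q := act 7 n18733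
theorem D23685 : act 7 n18733 = n23685 := rfl
theorem F106303 : act 1 n23685 = n18750 := d14_1 D23685 (iv D18750) (iv F84763)
theorem F106304 : act 3 n23685 = n18735 := d27_1 D23685 (iv D18735) (iv F84764)
theorem F106305 : act 5 n23685 = n18734 := d36_1 D23685 (iv D18734) D18733
def n23686 : Q := act 8 n18733
theorem D23686 : act 8 n18733 = n23686 := rfl
theorem F106306 : act 1 n23686 = n18751 := d15_1 D23686 (iv D18751) (iv F84763)
theorem F106307 : act 3 n23686 = n18736 := d28_1 D23686 (iv D18736) (iv F84764)
theorem F106309 : act 6 n23686 = n23686 := d40_1 D23686 (iv D23686) F84765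
def n23687 : Q := act 6 n18735
theorem D23687 : act 6 n18735 = n23687 := rfl
theorem F106310 : act 1 n23687 = n18752 := d13_1 D23687 (iv D18752) (iv F84771)
theorem F106311 : act 2 n23687 = n22124 := d20_1 D23687 (iv D22124) (iv F84772)
theorem F106312 : act 4 n23687 = n18742 := d31_1 D23687 (iv D18742) (iv F84773)
theorem F106313 : act 5 n23687 = n20645 := d35_1 D23687 (iv D20645) F73354 (iv F67176) (iv F84774)
theorem F106314 : act 7 n23687 = n23687 := d39_2 D18735 D23687 (iv D23687) (iv D18735) F67172
def n23688 : Q := act 8 n18735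
theorem D23688 : act 8 n18735 = n23688 := rfl
theorem F106315 : act 1 n23688 = n18753 := d15_1 D23688 (iv D18753) (iv F84771)
theorem F106317 : act 4 n23688 = n18743 := d33_1 D23688 (iv D18743) (iv F84773)
theorem F106318 : act 5 n23688 = n20656 := d37_1 D23688 (iv D20656) F73375 (iv F67177) (iv F84774)
theorem F106319 : act 7 n23688 = n18736 := d42_1 D23688 (iv D18736) D18735
def n23689 : Q := act 9 n18736
theorem D23689 : act 9 n18736 = n23689 := rfl
theorem F106320 : act 1 n23689 = n18754 := d16_1 D23689 (iv D18754) (iv F84775)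
theorem F106322 : act 4 n23689 = n18744 := d34_1 D23689 (iv D18744) (iv F84777)
theorem F106323 : act 5 n23689 = n20657 := d38_1 D23689 (iv D20657) (iv F84778)
theorem F106324 : act 6 n23689 = n23689 := d41_1 D23689 (iv D23689) F84779
def n23690 : Q := act 4 n18737
theorem D23690 : act 4 n18737 = n23690 := rfl
theorem F106327 : act 2 n23690 = n18739 := d18_1 D23690 (iv D18739) (iv F84781)
theorem F106328 : act 5 n23690 = n19200 := d30_2 D18737 D23690 (iv D19200) (iv D15035) (iv F67180)
theorem F106331 : act 8 n22056 = n23690 := d37_0 F106328 (iv F87019) (iv D17240) (iv F77707) D22056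
def n23691 : Q := act 7 n18737
theorem D23691 : act 7 n18737 = n23691 := rfl
theorem F106332 : act 1 n23691 = n23691 := d14_1 D23691 (iv D23691) F84780
theorem F106333 : act 2 n23691 = n18740 := d21_1 D23691 (iv D18740) (iv F84781)
theorem F106334 : act 5 n23691 = n18738 := d36_1 D23691 (iv D18738) D18737
def n23692 : Q := act 8 n18737
theorem D23692 : act 8 n18737 = n23692 := rfl
theorem F106335 : act 0 n23692 = n22121 := d7_1 D23692 F106245 F106240
theorem F106336 : act 1 n23692 = n23692 := d15_1 D23692 (iv D23692) F84780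
theorem F106337 : act 2 n23692 = n18741 := d22_1 D23692 (iv D18741) (iv F84781)
theorem F106338 : act 4 n23692 = n22056 := d33_1 D23692 F106331 (iv D23690)
theorem F106339 : act 5 n23692 = n23692 := d37_1 D23692 (iv D23692) (iv D18737) F67181 D18737
theorem F106340 : act 6 n23692 = n23692 := d40_1 D23692 (iv D23692) F84782
def n23693 : Q := act 7 n18739
theorem D23693 : act 7 n18739 = n23693 := rfl
theorem F106341 : act 1 n23693 = n18755 := d14_1 D23693 (iv D18755) (iv F84788)
theorem F106342 : act 4 n23693 = n18740 := d32_1 D23693 (iv D18740) D18739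
theorem F106343 : act 5 n23693 = n19203 := d36_1 D23693 (iv D19203) (iv F84789)
def n23694 : Q := act 8 n18739
theorem D23694 : act 8 n18739 = n23694 := rfl
theorem F106344 : act 0 n23694 = n22119 := d7_1 D23694 F106256 F106251
theorem F106345 : act 1 n23694 = n18756 := d15_1 D23694 (iv D18756) (iv F84788)
theorem F106346 : act 2 n23694 = n22056 := d22_1 D23694 F106331 F106327
theorem F106347 : act 4 n23694 = n18741 := d33_1 D23694 (iv D18741) D18739
theorem F106349 : act 6 n23694 = n23694 := d40_1 D23694 (iv D23694) F84790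
def n23695 : Q := act 6 n18740
theorem D23695 : act 6 n18740 = n23695 := rfl
theorem F106350 : act 1 n23695 = n18757 := d13_1 D23695 (iv D18757) (iv F84791)
theorem F106351 : act 3 n23695 = n18742 := d26_1 D23695 (iv D18742) (iv F84792)
theorem F106352 : act 5 n23695 = n23695 := d35_1 D23695 (iv D23695) F84793 F67188 (iv F84793)
theorem F106353 : act 7 n23695 = n23695 := d39_2 D18740 D23695 (iv D23695) (iv D18740) F67184
def n23696 : Q := act 8 n18740
theorem D23696 : act 8 n18740 = n23696 := rfl
theorem F106354 : act 1 n23696 = n18758 := d15_1 D23696 (iv D18758) (iv F84791)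
theorem F106355 : act 3 n23696 = n18743 := d28_1 D23696 (iv D18743) (iv F84792)
theorem F106356 : act 5 n23696 = n23696 := d37_1 D23696 (iv D23696) F84793 F67189 (iv F84793)
theorem F106357 : act 7 n23696 = n18741 := d42_1 D23696 (iv D18741) D18740
def n23697 : Q := act 9 n18741
theorem D23697 : act 9 n18741 = n23697 := rfl
theorem F106358 : act 1 n23697 = n18759 := d16_1 D23697 (iv D18759) (iv F84794)
theorem F106359 : act 3 n23697 = n18744 := d29_1 D23697 (iv D18744) (iv F84795)
theorem F106360 : act 5 n23697 = n23697 := d38_1 D23697 (iv D23697) F84796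
theorem F106361 : act 6 n23697 = n23697 := d41_1 D23697 (iv D23697) F84797
def n23698 : Q := act 8 n18742
theorem D23698 : act 8 n18742 = n23698 := rfl
theorem F106362 : act 1 n23698 = n18760 := d15_1 D23698 (iv D18760) (iv F84798)
theorem F106363 : act 6 n23698 = n18743 := d40_1 D23698 (iv D18743) D18742
theorem F106364 : act 7 n23698 = n23698 := d42_1 D23698 (iv D23698) F84800
def n23699 : Q := act 9 n18743
theorem D23699 : act 9 n18743 = n23699 := rfl
theorem F106365 : act 1 n23699 = n18761 := d16_1 D23699 (iv D18761) (iv F84801)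
theorem F106366 : act 5 n23699 = n23699 := d38_1 D23699 (iv D23699) F84802
theorem F106367 : act 7 n23699 = n18744 := d43_1 D23699 (iv D18744) (iv F84803)
def n23700 : Q := act 6 n18745
theorem D23700 : act 6 n18745 = n23700 := rfl
theorem F106370 : act 3 n23700 = n18762 := d26_1 D23700 (iv D18762) (iv F84808)
theorem F106371 : act 4 n23700 = n19236 := d31_1 D23700 (iv D19236) (iv F84809)
def n23703 : Q := act 4 n18747
theorem D23703 : act 4 n18747 = n23703 := rfl
theorem F106381 : act 0 n23703 = n20062 := d3_1 D23703 (iv D20062) (iv F84817)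
theorem F106382 : act 2 n23703 = n18749 := d18_1 D23703 (iv D18749) (iv F84818)
theorem F106383 : act 3 n23703 = n23703 := d24_1 D23703 (iv D23703) F84819 F67259 (iv F84819)
theorem F106384 : act 5 n23703 = n19239 := d30_2 D18747 D23703 (iv D19239) (iv D15061) (iv F67203)
theorem F106385 : act 6 n23703 = n23703 := d31_2 F84820 D23703 (iv D23703)
def n23704 : Q := act 7 n18747
theorem D23704 : act 7 n18747 = n23704 := rfl
theorem F106386 : act 0 n23704 = n20063 := d6_1 D23704 (iv D20063) (iv F84817)
theorem F106387 : act 2 n23704 = n18750 := d21_1 D23704 (iv D18750) (iv F84818)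
theorem F106388 : act 3 n23704 = n18765 := d27_1 D23704 (iv D18765) (iv F84819)
theorem F106389 : act 5 n23704 = n18748 := d36_1 D23704 (iv D18748) D18747
def n23705 : Q := act 8 n18747
theorem D23705 : act 8 n18747 = n23705 := rfl
theorem F106390 : act 0 n23705 = n20064 := d7_1 D23705 (iv D20064) (iv F84817)
theorem F106391 : act 2 n23705 = n18751 := d22_1 D23705 (iv D18751) (iv F84818)
theorem F106393 : act 5 n23705 = n20713 := d37_1 D23705 (iv D20713) (iv D16175) (iv F67204) D18747
def n23706 : Q := act 7 n18749
theorem D23706 : act 7 n18749 = n23706 := rfl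
theorem F106395 : act 0 n23706 = n20065 := d6_1 D23706 (iv D20065) (iv F84827)
theorem F106396 : act 3 n23706 = n18755 := d27_1 D23706 (iv D18755) (iv F84828)
theorem F106397 : act 4 n23706 = n18750 := d32_1 D23706 (iv D18750) D18749
theorem F106398 : act 5 n23706 = n19242 := d36_1 D23706 (iv D19242) (iv F84829)
def n23707 : Q := act 8 n18749
theorem D23707 : act 8 n18749 = n23707 := rfl
theorem F106399 : act 0 n23707 = n20066 := d7_1 D23707 (iv D20066) (iv F84827)
theorem F106400 : act 3 n23707 = n18756 := d28_1 D23707 (iv D18756) (iv F84828)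
theorem F106401 : act 4 n23707 = n18751 := d33_1 D23707 (iv D18751) D18749
theorem F106402 : act 6 n23707 = n23707 := d40_1 D23707 (iv D23707) F84830
def n23708 : Q := act 6 n18750
theorem D23708 : act 6 n18750 = n23708 := rfl
theorem F106403 : act 0 n23708 = n20067 := d5_1 D23708 (iv D20067) (iv F84831)
theorem F106404 : act 3 n23708 = n18752 := d26_1 D23708 (iv D18752) (iv F84832)
theorem F106405 : act 5 n23708 = n20703 := d35_1 D23708 (iv D20703) F73482 (iv F67211) (iv F84833)
theorem F106406 : act 7 n23708 = n23708 := d39_2 D18750 D23708 (iv D23708) (iv D18750) F67207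
def n23709 : Q := act 8 n18750
theorem D23709 : act 8 n18750 = n23709 := rfl
theorem F106407 : act 0 n23709 = n20068 := d7_1 D23709 (iv D20068) (iv F84831)
theorem F106408 : act 3 n23709 = n18753 := d28_1 D23709 (iv D18753) (iv F84832)
theorem F106409 : act 5 n23709 = n20717 := d37_1 D23709 (iv D20717) F73511 (iv F67212) (iv F84833)
theorem F106410 : act 7 n23709 = n18751 := d42_1 D23709 (iv D18751) D18750
def n23710 : Q := act 9 n18751
theorem D23710 : act 9 n18751 = n23710 := rfl
theorem F106411 : act 0 n23710 = n20069 := d8_1 D23710 (iv D20069) (iv F84834)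
theorem F106412 : act 3 n23710 = n18754 := d29_1 D23710 (iv D18754) (iv F84835)
theorem F106414 : act 6 n23710 = n23710 := d41_1 D23710 (iv D23710) F84837
def n23711 : Q := act 8 n18752
theorem D23711 : act 8 n18752 = n23711 := rfl
theorem F106415 : act 0 n23711 = n20070 := d7_1 D23711 (iv D20070) (iv F84838)
theorem F106416 : act 2 n23711 = n18770 := d22_1 D23711 (iv D18770) (iv F84839)
theorem F106417 : act 4 n23711 = n18760 := d33_1 D23711 (iv D18760) (iv F84840)
theorem F106418 : act 6 n23711 = n18753 := d40_1 D23711 (iv D18753) D18752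
theorem F106419 : act 7 n23711 = n23711 := d42_1 D23711 (iv D23711) F84842
def n23712 : Q := act 9 n18753
theorem D23712 : act 9 n18753 = n23712 := rfl
theorem F106420 : act 0 n23712 = n20071 := d8_1 D23712 (iv D20071) (iv F84843)
theorem F106421 : act 2 n23712 = n18771 := d23_1 D23712 (iv D18771) (iv F84844)
theorem F106422 : act 4 n23712 = n18761 := d34_1 D23712 (iv D18761) (iv F84845)
theorem F106423 : act 5 n23712 = n20720 := d38_1 D23712 (iv D20720) (iv F84846)
theorem F106424 : act 7 n23712 = n18754 := d43_1 D23712 (iv D18754) (iv F84847)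
def n23713 : Q := act 6 n18755
theorem D23713 : act 6 n18755 = n23713 := rfl
theorem F106425 : act 0 n23713 = n20072 := d5_1 D23713 (iv D20072) (iv F84853)
theorem F106426 : act 2 n23713 = n23713 := d20_1 D23713 (iv D23713) F84854
theorem F106427 : act 4 n23713 = n18757 := d31_1 D23713 (iv D18757) (iv F84855)
theorem F106428 : act 7 n23713 = n23713 := d39_2 D18755 D23713 (iv D23713) (iv D18755) F67225
def n23714 : Q := act 8 n18755
theorem D23714 : act 8 n18755 = n23714 := rfl
theorem F106429 : act 0 n23714 = n20073 := d7_1 D23714 (iv D20073) (iv F84853)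
theorem F106430 : act 2 n23714 = n23714 := d22_1 D23714 (iv D23714) F84854
theorem F106431 : act 4 n23714 = n18758 := d33_1 D23714 (iv D18758) (iv F84855)
theorem F106432 : act 7 n23714 = n18756 := d42_1 D23714 (iv D18756) D18755
def n23715 : Q := act 5 n18756
theorem D23715 : act 5 n18756 = n23715 := rfl
theorem F106433 : act 0 n23715 = n20074 := d4_1 D23715 (iv D20074) (iv F84857)
theorem F106435 : act 2 n23715 = n23715 := d19_1 D23715 (iv D23715) F84858
theorem F106436 : act 4 n23715 = n23715 := d30_1 D23715 (iv D23715) F84859 F67233 (iv F84859)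
theorem F106437 : act 8 n23715 = n19251 := d37_2 D18756 D23715 (iv D19251) (iv D15070) (iv F67224)
def n23716 : Q := act 9 n18756
theorem D23716 : act 9 n18756 = n23716 := rfl
theorem F106439 : act 0 n23716 = n20075 := d8_1 D23716 (iv D20075) (iv F84857)
theorem F106440 : act 2 n23716 = n23716 := d23_1 D23716 (iv D23716) F84858
theorem F106441 : act 4 n23716 = n18759 := d34_1 D23716 (iv D18759) (iv F84859)
theorem F106442 : act 6 n23716 = n23716 := d41_1 D23716 (iv D23716) F84860
def n23717 : Q := act 8 n18757
theorem D23717 : act 8 n18757 = n23717 := rfl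
theorem F106443 : act 0 n23717 = n20076 := d7_1 D23717 (iv D20076) (iv F84861)
theorem F106444 : act 2 n23717 = n23717 := d22_1 D23717 (iv D23717) F84862
theorem F106445 : act 3 n23717 = n18760 := d28_1 D23717 (iv D18760) (iv F84863)
theorem F106446 : act 6 n23717 = n18758 := d40_1 D23717 (iv D18758) D18757
theorem F106447 : act 7 n23717 = n23717 := d42_1 D23717 (iv D23717) F84865
def n23718 : Q := act 9 n18758
theorem D23718 : act 9 n18758 = n23718 := rfl
theorem F106448 : act 0 n23718 = n20077 := d8_1 D23718 (iv D20077) (iv F84866)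
theorem F106449 : act 2 n23718 = n23718 := d23_1 D23718 (iv D23718) F84867
theorem F106450 : act 3 n23718 = n18761 := d29_1 D23718 (iv D18761) (iv F84868)
theorem F106451 : act 5 n23718 = n23718 := d38_1 D23718 (iv D23718) F84869
theorem F106452 : act 7 n23718 = n18759 := d43_1 D23718 (iv D18759) (iv F84870)
def n23719 : Q := act 5 n18760
theorem D23719 : act 5 n18760 = n23719 := rfl
theorem F106453 : act 0 n23719 = n20078 := d4_1 D23719 (iv D20078) (iv F84876)
theorem F106454 : act 2 n23719 = n18772 := d19_1 D23719 (iv D18772) (iv F84877)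
theorem F106455 : act 6 n23719 = n23719 := d35_2 (iv F84878) D23719 (iv D23719) F84878 F67241
theorem F106456 : act 7 n23719 = n23719 := d36_2 F84879 D23719 (iv D23719)
theorem F106457 : act 8 n23719 = n23719 := d37_2 D18760 D23719 (iv D23719) (iv D18760) F67237
def n23720 : Q := act 9 n18760
theorem D23720 : act 9 n18760 = n23720 := rfl
theorem F106458 : act 0 n23720 = n20079 := d8_1 D23720 (iv D20079) (iv F84876)
theorem F106459 : act 2 n23720 = n18773 := d23_1 D23720 (iv D18773) (iv F84877)
theorem F106460 : act 6 n23720 = n18761 := d41_1 D23720 (iv D18761) (iv F84878)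
theorem F106461 : act 7 n23720 = n23720 := d43_1 D23720 (iv D23720) F84879
def n23722 : Q := act 7 n18762
theorem D23722 : act 7 n18762 = n23722 := rfl
theorem F106471 : act 6 n23722 = n20763 := d39_1 D23722 (iv D20763) (iv D16214) (iv F67251) D18762
def n23725 : Q := act 6 n18765
theorem D23725 : act 6 n18765 = n23725 := rfl
theorem F106482 : act 0 n23725 = n20084 := d5_1 D23725 (iv D20084) (iv F84898)
theorem F106483 : act 2 n23725 = n18767 := d20_1 D23725 (iv D18767) (iv F84899)
theorem F106484 : act 4 n23725 = n23725 := d31_1 D23725 (iv D23725) F84900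
theorem F106485 : act 5 n23725 = n20770 := d35_1 D23725 (iv D20770) F73636 (iv F67264) (iv F84901)
theorem F106486 : act 7 n23725 = n23725 := d39_2 D18765 D23725 (iv D23725) (iv D18765) F67260
def n23726 : Q := act 8 n18765
theorem D23726 : act 8 n18765 = n23726 := rfl
theorem F106487 : act 0 n23726 = n20085 := d7_1 D23726 (iv D20085) (iv F84898)
theorem F106491 : act 7 n23726 = n18766 := d42_1 D23726 (iv D18766) D18765
def n23727 : Q := act 9 n18766
theorem D23727 : act 9 n18766 = n23727 := rfl
theorem F106492 : act 0 n23727 = n20086 := d8_1 D23727 (iv D20086) (iv F84902)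
def n23728 : Q := act 8 n18767
theorem D23728 : act 8 n18767 = n23728 := rfl
theorem F106501 : act 6 n23728 = n18768 := d40_1 D23728 (iv D18768) D18767
def n23730 : Q := act 5 n18770
theorem D23730 : act 5 n18770 = n23730 := rfl
theorem F106509 : act 0 n23730 = n20089 := d4_1 D23730 (iv D20089) (iv F84925)
theorem F106511 : act 6 n23730 = n20796 := d35_2 (iv F84928) D23730 (iv D20796) F73706 (iv F67285)
theorem F106512 : act 7 n23730 = n23730 := d36_2 F84929 D23730 (iv D23730)
theorem F106513 : act 8 n23730 = n20778 := d37_2 D18770 D23730 (iv D20778) (iv D16225) (iv F67280)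
def n23731 : Q := act 9 n18770
theorem D23731 : act 9 n18770 = n23731 := rfl
theorem F106514 : act 0 n23731 = n20090 := d8_1 D23731 (iv D20090) (iv F84925)
theorem F106516 : act 4 n23731 = n18773 := d34_1 D23731 (iv D18773) (iv F84927)
theorem F106517 : act 6 n23731 = n18771 := d41_1 D23731 (iv D18771) (iv F84928)
theorem F106518 : act 7 n23731 = n23731 := d43_1 D23731 (iv D23731) F84929
def n23732 : Q := act 4 n18772
theorem D23732 : act 4 n18772 = n23732 := rfl
theorem F106519 : act 0 n23732 = n20091 := d3_1 D23732 (iv D20091) (iv F84935)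
theorem F106520 : act 6 n23732 = n23732 := d31_2 F84937 D23732 (iv D23732)
theorem F106521 : act 7 n23732 = n23732 := d32_2 F84938 D23732 (iv D23732)
theorem F106522 : act 8 n23732 = n23732 := d33_2 F84939 D23732 (iv D23732)
def n23733 : Q := act 9 n18772
theorem D23733 : act 9 n18772 = n23733 := rfl
theorem F106523 : act 0 n23733 = n20092 := d8_1 D23733 (iv D20092) (iv F84935)
theorem F106524 : act 3 n23733 = n23733 := d29_1 D23733 (iv D23733) F84936
theorem F106525 : act 5 n23733 = n18773 := d38_1 D23733 (iv D18773) D18772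
theorem F106526 : act 6 n23733 = n23733 := d41_1 D23733 (iv D23733) F84937
theorem F106527 : act 7 n23733 = n23733 := d43_1 D23733 (iv D23733) F84938
def n23734 : Q := act 3 n18775
theorem D23734 : act 3 n18775 = n23734 := rfl
theorem F106528 : act 0 n23734 = n18786 := d2_1 D23734 (iv D18786) (iv F84951)
theorem F106529 : act 1 n23734 = n20093 := d10_1 D23734 (iv D20093) (iv F84952)
theorem F106530 : act 4 n23734 = n18986 := d24_2 D18775 D23734 (iv D18986) (iv D14881) (iv F67315)
theorem F106531 : act 5 n23734 = n20368 := d25_2 (iv F84954) D23734 (iv D20368)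
theorem F106532 : act 7 n23734 = n18983 := d27_2 (iv F84955) D23734 (iv D18983)
theorem F106533 : act 8 n23734 = n18777 := d28_2 (iv F84956) D23734 (iv D18777)
theorem F106534 : act 9 n23734 = n19958 := d29_2 (iv F84957) D23734 (iv D19958)
def n23735 : Q := act 6 n18775
theorem D23735 : act 6 n18775 = n23735 := rfl
theorem F106535 : act 0 n23735 = n18787 := d5_1 D23735 (iv D18787) (iv F84951)
theorem F106536 : act 1 n23735 = n20094 := d13_1 D23735 (iv D20094) (iv F84952)
theorem F106537 : act 2 n23735 = n23735 := d20_1 D23735 (iv D23735) F84953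
theorem F106538 : act 4 n23735 = n18776 := d31_1 D23735 (iv D18776) D18775
theorem F106539 : act 8 n23735 = n18778 := d40_2 (iv F84956) D23735 (iv D18778)
theorem F106540 : act 9 n23735 = n19959 := d41_2 (iv F84957) D23735 (iv D19959)
def n23736 : Q := act 7 n18776
theorem D23736 : act 7 n18776 = n23736 := rfl
theorem F106541 : act 0 n23736 = n18788 := d6_1 D23736 (iv D18788) (iv F84958)
theorem F106542 : act 1 n23736 = n20095 := d14_1 D23736 (iv D20095) (iv F84959)
theorem F106543 : act 2 n23736 = n23736 := d21_1 D23736 (iv D23736) F84960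
theorem F106544 : act 3 n23736 = n18988 := d27_1 D23736 (iv D18988) (iv F84961)
theorem F106545 : act 5 n23736 = n18934 := d36_1 D23736 (iv D18934) (iv F84962)
theorem F106546 : act 6 n23736 = n18985 := d39_1 D23736 (iv D18985) (iv D14880) (iv F67316) D18776
theorem F106547 : act 8 n23736 = n18779 := d42_2 (iv F84963) D23736 (iv D18779)
theorem F106548 : act 9 n23736 = n19960 := d43_2 (iv F84964) D23736 (iv D19960)
def n23737 : Q := act 2 n18777
theorem D23737 : act 2 n18777 = n23737 := rfl
theorem F106549 : act 0 n23737 = n18789 := d1_1 D23737 (iv D18789) (iv F84965)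
theorem F106550 : act 3 n23737 = n23737 := d17_2 D18777 D23737 (iv D23737) (iv D18777) F67321
theorem F106551 : act 4 n23737 = n19418 := d18_2 (iv F84967) D23737 (iv D19418)
theorem F106552 : act 5 n23737 = n23737 := d19_2 F84968 D23737 (iv D23737)
theorem F106553 : act 7 n23737 = n19414 := d21_2 (iv F84969) D23737 (iv D19414)
theorem F106554 : act 9 n23737 = n23737 := d23_2 F84970 D23737 (iv D23737)
def n23738 : Q := act 6 n18777
theorem D23738 : act 6 n18777 = n23738 := rfl
theorem F106555 : act 0 n23738 = n18790 := d5_1 D23738 (iv D18790) (iv F84965)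
theorem F106556 : act 1 n23738 = n20097 := d13_1 D23738 (iv D20097) (iv F84966)
theorem F106557 : act 3 n23738 = n18778 := d26_1 D23738 (iv D18778) D18777
theorem F106558 : act 4 n23738 = n19419 := d31_1 D23738 (iv D19419) (iv F84967)
theorem F106559 : act 9 n23738 = n23738 := d41_2 F84970 D23738 (iv D23738)
def n23739 : Q := act 5 n18778
theorem D23739 : act 5 n18778 = n23739 := rfl
theorem F106560 : act 0 n23739 = n18791 := d4_1 D23739 (iv D18791) (iv F84971)
theorem F106561 : act 1 n23739 = n20098 := d12_1 D23739 (iv D20098) (iv F84972)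
theorem F106562 : act 2 n23739 = n23739 := d19_1 D23739 (iv D23739) F84973
theorem F106563 : act 4 n23739 = n18782 := d30_1 D23739 (iv D18782) F67340 (iv F67329) (iv F84974)
theorem F106564 : act 6 n23739 = n23739 := d35_2 D18778 D23739 (iv D23739) (iv D18778) F67322
theorem F106565 : act 9 n23739 = n23739 := d38_2 F84975 D23739 (iv D23739)
def n23740 : Q := act 7 n18778
theorem D23740 : act 7 n18778 = n23740 := rfl
theorem F106566 : act 0 n23740 = n18792 := d6_1 D23740 (iv D18792) (iv F84971)
theorem F106567 : act 1 n23740 = n20099 := d14_1 D23740 (iv D20099) (iv F84972)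
theorem F106568 : act 2 n23740 = n23740 := d21_1 D23740 (iv D23740) F84973
theorem F106569 : act 4 n23740 = n18779 := d32_1 D23740 (iv D18779) (iv F84974)
theorem F106570 : act 6 n23740 = n19417 := d39_1 D23740 (iv D19417) (iv D15201) (iv F67323) D18778
theorem F106571 : act 9 n23740 = n23740 := d43_2 F84975 D23740 (iv D23740)
def n23742 : Q := act 6 n18780
theorem D23742 : act 6 n18780 = n23742 := rfl
theorem F106579 : act 0 n23742 = n18793 := d5_1 D23742 (iv D18793) (iv F84983)
theorem F106582 : act 8 n23742 = n18943 := d40_2 (iv F84987) D23742 (iv D18943)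
def n23743 : Q := act 5 n18781
theorem D23743 : act 5 n18781 = n23743 := rfl
theorem F106584 : act 0 n23743 = n18794 := d4_1 D23743 (iv D18794) (iv F84989)
theorem F106585 : act 1 n23743 = n20102 := d12_1 D23743 (iv D20102) (iv F84990)
theorem F106586 : act 3 n23743 = n18782 := d25_1 D23743 (iv D18782) (iv F84991)
theorem F106587 : act 6 n23743 = n23743 := d35_2 D18781 D23743 (iv D23743) (iv D18781) F67333
theorem F106588 : act 9 n23743 = n23743 := d38_2 F84993 D23743 (iv D23743)
def n23744 : Q := act 7 n18781
theorem D23744 : act 7 n18781 = n23744 := rfl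
theorem F106589 : act 0 n23744 = n18795 := d6_1 D23744 (iv D18795) (iv F84989)
theorem F106590 : act 1 n23744 = n20103 := d14_1 D23744 (iv D20103) (iv F84990)
theorem F106591 : act 3 n23744 = n18783 := d27_1 D23744 (iv D18783) (iv F84991)
theorem F106592 : act 6 n23744 = n23744 := d39_1 D23744 (iv D23744) (iv D18781) F67334 D18781
theorem F106593 : act 8 n23744 = n18945 := d42_2 (iv F84992) D23744 (iv D18945)
theorem F106594 : act 9 n23744 = n23744 := d43_2 F84993 D23744 (iv D23744)
def n23745 : Q := act 7 n18782
theorem D23745 : act 7 n18782 = n23745 := rfl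
theorem F106595 : act 0 n23745 = n18796 := d6_1 D23745 (iv D18796) (iv F84994)
theorem F106596 : act 1 n23745 = n20104 := d14_1 D23745 (iv D20104) (iv F84995)
theorem F106597 : act 2 n23745 = n23745 := d21_1 D23745 (iv D23745) F84996
theorem F106598 : act 5 n23745 = n18783 := d36_1 D23745 (iv D18783) D18782
theorem F106599 : act 9 n23745 = n23745 := d43_2 F84998 D23745 (iv D23745)
def n23746 : Q := act 8 n18782
theorem D23746 : act 8 n18782 = n23746 := rfl
theorem F106600 : act 0 n23746 = n18797 := d7_1 D23746 (iv D18797) (iv F84994)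
theorem F106601 : act 1 n23746 = n20105 := d15_1 D23746 (iv D20105) (iv F84995)
theorem F106602 : act 2 n23746 = n23746 := d22_1 D23746 (iv D23746) F84996
theorem F106603 : act 5 n23746 = n18947 := d37_1 D23746 (iv D18947) (iv D14854) (iv F67341) D18782
theorem F106604 : act 6 n23746 = n23746 := d40_1 D23746 (iv D23746) F84997
def n23747 : Q := act 3 n18784
theorem D23747 : act 3 n18784 = n23747 := rfl
theorem F106605 : act 0 n23747 = n20368 := d2_1 D23747 (iv D20368) (iv F85006)
theorem F106606 : act 1 n23747 = n18804 := d10_1 D23747 (iv D18804) (iv F85007)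
theorem F106607 : act 4 n23747 = n18989 := d24_2 D18784 D23747 (iv D18989) (iv D14883) (iv F67352)
theorem F106608 : act 5 n23747 = n18786 := d25_2 (iv F85009) D23747 (iv D18786)
theorem F106609 : act 7 n23747 = n19958 := d27_2 (iv F85010) D23747 (iv D19958)
theorem F106610 : act 8 n23747 = n23747 := d28_2 F85011 D23747 (iv D23747)
theorem F106611 : act 9 n23747 = n18983 := d29_2 (iv F85012) D23747 (iv D18983)
def n23748 : Q := act 6 n18784
theorem D23748 : act 6 n18784 = n23748 := rfl
theorem F106612 : act 0 n23748 = n20369 := d5_1 D23748 (iv D20369) (iv F85006)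
theorem F106613 : act 1 n23748 = n18805 := d13_1 D23748 (iv D18805) (iv F85007)
theorem F106614 : act 2 n23748 = n23748 := d20_1 D23748 (iv D23748) F85008
theorem F106615 : act 4 n23748 = n18785 := d31_1 D23748 (iv D18785) D18784
theorem F106616 : act 8 n23748 = n23748 := d40_2 F85011 D23748 (iv D23748)
theorem F106617 : act 9 n23748 = n18984 := d41_2 (iv F85012) D23748 (iv D18984)
def n23749 : Q := act 7 n18785
theorem D23749 : act 7 n18785 = n23749 := rfl
theorem F106618 : act 0 n23749 = n20370 := d6_1 D23749 (iv D20370) (iv F85013)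
theorem F106619 : act 1 n23749 = n18806 := d14_1 D23749 (iv D18806) (iv F85014)
theorem F106620 : act 2 n23749 = n23749 := d21_1 D23749 (iv D23749) F85015
theorem F106621 : act 3 n23749 = n18991 := d27_1 D23749 (iv D18991) (iv F85016)
theorem F106622 : act 5 n23749 = n18952 := d36_1 D23749 (iv D18952) (iv F85017)
theorem F106623 : act 6 n23749 = n19960 := d39_1 D23749 (iv D19960) (iv D15623) (iv F67353) D18785
theorem F106624 : act 8 n23749 = n23749 := d42_2 F85018 D23749 (iv D23749)
theorem F106625 : act 9 n23749 = n18985 := d43_2 (iv F85019) D23749 (iv D18985)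
def n23750 : Q := act 2 n18786
theorem D23750 : act 2 n18786 = n23750 := rfl
theorem F106626 : act 3 n23750 = n23750 := d17_2 D18786 D23750 (iv D23750) (iv D18786) F67357
theorem F106627 : act 4 n23750 = n20375 := d18_2 (iv F85021) D23750 (iv D20375)
theorem F106628 : act 7 n23750 = n20371 := d21_2 (iv F85022) D23750 (iv D20371)
theorem F106629 : act 8 n23750 = n18789 := d22_2 (iv F85023) D23750 (iv D18789)
def n23751 : Q := act 6 n18786
theorem D23751 : act 6 n18786 = n23751 := rfl
theorem F106630 : act 1 n23751 = n18818 := d13_1 D23751 (iv D18818) (iv F85020)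
theorem F106631 : act 3 n23751 = n18787 := d26_1 D23751 (iv D18787) D18786
theorem F106632 : act 4 n23751 = n20376 := d31_1 D23751 (iv D20376) (iv F85021)
theorem F106633 : act 8 n23751 = n18790 := d40_2 (iv F85023) D23751 (iv D18790)
def n23752 : Q := act 5 n18787
theorem D23752 : act 5 n18787 = n23752 := rfl
theorem F106634 : act 1 n23752 = n18819 := d12_1 D23752 (iv D18819) (iv F85024)
theorem F106635 : act 2 n23752 = n23752 := d19_1 D23752 (iv D23752) F85025
theorem F106636 : act 4 n23752 = n18963 := d30_1 D23752 (iv D18963) F67990 (iv F67363) (iv F85026)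
def n23753 : Q := act 7 n18787
theorem D23753 : act 7 n18787 = n23753 := rfl
theorem F106637 : act 1 n23753 = n18820 := d14_1 D23753 (iv D18820) (iv F85024)
theorem F106638 : act 2 n23753 = n23753 := d21_1 D23753 (iv D23753) F85025
theorem F106639 : act 4 n23753 = n18788 := d32_1 D23753 (iv D18788) (iv F85026)
theorem F106640 : act 6 n23753 = n20374 := d39_1 D23753 (iv D20374) (iv D15931) (iv F67358) D18787
theorem F106641 : act 8 n23753 = n18792 := d42_2 (iv F85027) D23753 (iv D18792)
def n23754 : Q := act 1 n18789
theorem D23754 : act 1 n18789 = n23754 := rfl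
theorem F106642 : act 2 n23754 = n18825 := d9_2 D18789 D23754 (iv D18825) (iv D14766) (iv F67365)
theorem F106644 : act 4 n23754 = n20931 := d11_2 (iv F85035) D23754 (iv D20931)
theorem F106646 : act 7 n23754 = n20925 := d14_2 (iv F85037) D23754 (iv D20925)
def n23755 : Q := act 6 n18789
theorem D23755 : act 6 n18789 = n23755 := rfl
theorem F106648 : act 2 n23755 = n18790 := d20_1 D23755 (iv D18790) D18789
theorem F106649 : act 3 n23755 = n23755 := d26_1 D23755 (iv D23755) F85034
theorem F106651 : act 9 n23755 = n23755 := d41_2 F85038 D23755 (iv D23755)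
def n23756 : Q := act 5 n18790
theorem D23756 : act 5 n18790 = n23756 := rfl
theorem F106652 : act 1 n23756 = n18827 := d12_1 D23756 (iv D18827) (iv F85039)
theorem F106653 : act 3 n23756 = n18791 := d25_1 D23756 (iv D18791) (iv F85040)
theorem F106654 : act 6 n23756 = n23756 := d35_2 D18790 D23756 (iv D23756) (iv D18790) F67367
theorem F106655 : act 9 n23756 = n23756 := d38_2 F85042 D23756 (iv D23756)
def n23757 : Q := act 7 n18790
theorem D23757 : act 7 n18790 = n23757 := rfl
theorem F106656 : act 1 n23757 = n18828 := d14_1 D23757 (iv D18828) (iv F85039)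
theorem F106657 : act 3 n23757 = n18792 := d27_1 D23757 (iv D18792) (iv F85040)
theorem F106658 : act 4 n23757 = n20934 := d32_1 D23757 (iv D20934) (iv F85041)
theorem F106659 : act 6 n23757 = n20928 := d39_1 D23757 (iv D20928) (iv D16344) (iv F67368) D18790
theorem F106660 : act 9 n23757 = n23757 := d43_2 F85042 D23757 (iv D23757)
def n23758 : Q := act 7 n18791
theorem D23758 : act 7 n18791 = n23758 := rfl
theorem F106661 : act 1 n23758 = n18829 := d14_1 D23758 (iv D18829) (iv F85043)
theorem F106662 : act 2 n23758 = n23758 := d21_1 D23758 (iv D23758) F85044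
theorem F106663 : act 4 n23758 = n18796 := d32_1 D23758 (iv D18796) (iv F85045)
theorem F106664 : act 5 n23758 = n18792 := d36_1 D23758 (iv D18792) D18791
theorem F106665 : act 9 n23758 = n23758 := d43_2 F85047 D23758 (iv D23758)
def n23759 : Q := act 8 n18791
theorem D23759 : act 8 n18791 = n23759 := rfl
theorem F106666 : act 1 n23759 = n18830 := d15_1 D23759 (iv D18830) (iv F85043)
theorem F106667 : act 2 n23759 = n23759 := d22_1 D23759 (iv D23759) F85044
theorem F106668 : act 4 n23759 = n18797 := d33_1 D23759 (iv D18797) (iv F85045)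
theorem F106669 : act 6 n23759 = n23759 := d40_1 D23759 (iv D23759) F85046
def n23760 : Q := act 5 n18793
theorem D23760 : act 5 n18793 = n23760 := rfl
theorem F106670 : act 1 n23760 = n23760 := d12_1 D23760 (iv D23760) F85053
theorem F106671 : act 2 n23760 = n18794 := d19_1 D23760 (iv D18794) (iv F85054)
theorem F106672 : act 3 n23760 = n23760 := d25_1 D23760 (iv D23760) F85055
theorem F106673 : act 6 n23760 = n23760 := d35_2 D18793 D23760 (iv D23760) (iv D18793) F67382
theorem F106674 : act 9 n23760 = n23760 := d38_2 F85057 D23760 (iv D23760)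
def n23761 : Q := act 7 n18793
theorem D23761 : act 7 n18793 = n23761 := rfl
theorem F106675 : act 1 n23761 = n23761 := d14_1 D23761 (iv D23761) F85053
theorem F106676 : act 2 n23761 = n18795 := d21_1 D23761 (iv D18795) (iv F85054)
theorem F106677 : act 3 n23761 = n23761 := d27_1 D23761 (iv D23761) F85055
theorem F106678 : act 6 n23761 = n23761 := d39_1 D23761 (iv D23761) (iv D18793) F67383 D18793
theorem F106679 : act 8 n23761 = n18976 := d42_2 (iv F85056) D23761 (iv D18976)
theorem F106680 : act 9 n23761 = n23761 := d43_2 F85057 D23761 (iv D23761)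
def n23762 : Q := act 4 n18794
theorem D23762 : act 4 n18794 = n23762 := rfl
theorem F106681 : act 1 n23762 = n18831 := d11_1 D23762 (iv D18831) (iv F85058)
theorem F106682 : act 6 n23762 = n23762 := d31_2 F85060 D23762 (iv D23762)
theorem F106683 : act 9 n23762 = n23762 := d34_2 F85061 D23762 (iv D23762)
def n23763 : Q := act 7 n18794
theorem D23763 : act 7 n18794 = n23763 := rfl
theorem F106684 : act 1 n23763 = n18832 := d14_1 D23763 (iv D18832) (iv F85058)
theorem F106685 : act 3 n23763 = n18796 := d27_1 D23763 (iv D18796) (iv F85059)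
theorem F106686 : act 5 n23763 = n18795 := d36_1 D23763 (iv D18795) D18794
theorem F106687 : act 9 n23763 = n23763 := d43_2 F85061 D23763 (iv D23763)
def n23764 : Q := act 8 n18794
theorem D23764 : act 8 n18794 = n23764 := rfl
theorem F106688 : act 1 n23764 = n18833 := d15_1 D23764 (iv D18833) (iv F85058)
theorem F106689 : act 3 n23764 = n18797 := d28_1 D23764 (iv D18797) (iv F85059)
theorem F106690 : act 5 n23764 = n18979 := d37_1 D23764 (iv D18979) (iv D14875) (iv F67388) D18794
theorem F106691 : act 6 n23764 = n23764 := d40_1 D23764 (iv D23764) F85060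
def n23765 : Q := act 6 n18796
theorem D23765 : act 6 n18796 = n23765 := rfl
theorem F106692 : act 1 n23765 = n18834 := d13_1 D23765 (iv D18834) (iv F85067)
theorem F106693 : act 2 n23765 = n23765 := d20_1 D23765 (iv D23765) F85068
theorem F106694 : act 5 n23765 = n23765 := d35_1 D23765 (iv D23765) F85069 F67397 (iv F85069)
theorem F106695 : act 7 n23765 = n23765 := d39_2 D18796 D23765 (iv D23765) (iv D18796) F67392
theorem F106696 : act 9 n23765 = n23765 := d41_2 F85070 D23765 (iv D23765)
def n23766 : Q := act 8 n18796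
theorem D23766 : act 8 n18796 = n23766 := rfl
theorem F106697 : act 1 n23766 = n18835 := d15_1 D23766 (iv D18835) (iv F85067)
theorem F106698 : act 2 n23766 = n23766 := d22_1 D23766 (iv D23766) F85068
theorem F106699 : act 5 n23766 = n18981 := d37_1 D23766 (iv D18981) F68039 (iv F67398) (iv F85069)
theorem F106700 : act 7 n23766 = n18797 := d42_1 D23766 (iv D18797) D18796
def n23767 : Q := act 9 n18797
theorem D23767 : act 9 n18797 = n23767 := rfl
theorem F106701 : act 1 n23767 = n18836 := d16_1 D23767 (iv D18836) (iv F85071)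
theorem F106702 : act 2 n23767 = n23767 := d23_1 D23767 (iv D23767) F85072
theorem F106703 : act 5 n23767 = n18982 := d38_1 D23767 (iv D18982) (iv F85073)
theorem F106704 : act 6 n23767 = n23767 := d41_1 D23767 (iv D23767) F85074
theorem F106705 : act 8 n23767 = n23767 := d44_1 D23767 (iv D23767) (iv D18797) F67393 D18797
def n23768 : Q := act 3 n18798
theorem D23768 : act 3 n18798 = n23768 := rfl
theorem F106706 : act 0 n23768 = n20137 := d2_1 D23768 (iv D20137) (iv F85075)
theorem F106707 : act 1 n23768 = n18989 := d10_1 D23768 (iv D18989) (iv F85076)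
theorem F106708 : act 4 n23768 = n18804 := d24_2 D18798 D23768 (iv D18804) (iv D14752) (iv F67403)
theorem F106709 : act 5 n23768 = n18958 := d25_2 (iv F85078) D23768 (iv D18958)
theorem F106710 : act 7 n23768 = n19937 := d27_2 (iv F85079) D23768 (iv D19937)
theorem F106711 : act 8 n23768 = n23768 := d28_2 F85080 D23768 (iv D23768)
theorem F106712 : act 9 n23768 = n18950 := d29_2 (iv F85081) D23768 (iv D18950)
def n23769 : Q := act 6 n18798
theorem D23769 : act 6 n18798 = n23769 := rfl
theorem F106713 : act 0 n23769 = n20138 := d5_1 D23769 (iv D20138) (iv F85075)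
theorem F106714 : act 1 n23769 = n18990 := d13_1 D23769 (iv D18990) (iv F85076)
theorem F106715 : act 2 n23769 = n23769 := d20_1 D23769 (iv D23769) F85077
theorem F106716 : act 4 n23769 = n18799 := d31_1 D23769 (iv D18799) D18798
theorem F106717 : act 8 n23769 = n23769 := d40_2 F85080 D23769 (iv D23769)
theorem F106718 : act 9 n23769 = n18951 := d41_2 (iv F85081) D23769 (iv D18951)
def n23770 : Q := act 7 n18799
theorem D23770 : act 7 n18799 = n23770 := rfl
theorem F106719 : act 0 n23770 = n20139 := d6_1 D23770 (iv D20139) (iv F85082)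
theorem F106720 : act 1 n23770 = n18991 := d14_1 D23770 (iv D18991) (iv F85083)
theorem F106721 : act 2 n23770 = n23770 := d21_1 D23770 (iv D23770) F85084
theorem F106722 : act 3 n23770 = n18806 := d27_1 D23770 (iv D18806) (iv F85085)
theorem F106723 : act 5 n23770 = n18985 := d36_1 D23770 (iv D18985) (iv F85086)
theorem F106724 : act 6 n23770 = n19939 := d39_1 D23770 (iv D19939) (iv D15609) (iv F67404) D18799
theorem F106725 : act 8 n23770 = n23770 := d42_2 F85087 D23770 (iv D23770)
theorem F106726 : act 9 n23770 = n18952 := d43_2 (iv F85088) D23770 (iv D18952)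
def n23771 : Q := act 3 n18800
theorem D23771 : act 3 n18800 = n23771 := rfl
theorem F106727 : act 0 n23771 = n20112 := d2_1 D23771 (iv D20112) (iv F85089)
theorem F106728 : act 1 n23771 = n19958 := d10_1 D23771 (iv D19958) (iv F85090)
theorem F106729 : act 4 n23771 = n19937 := d24_2 D18800 D23771 (iv D19937) (iv D15608) (iv F67410)
theorem F106730 : act 5 n23771 = n18811 := d25_2 (iv F85092) D23771 (iv D18811)
theorem F106731 : act 7 n23771 = n18804 := d27_2 (iv F85093) D23771 (iv D18804)
theorem F106732 : act 8 n23771 = n23771 := d28_2 F85094 D23771 (iv D23771)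
theorem F106733 : act 9 n23771 = n20093 := d29_2 (iv F85095) D23771 (iv D20093)
def n23772 : Q := act 6 n18800
theorem D23772 : act 6 n18800 = n23772 := rfl
theorem F106734 : act 0 n23772 = n20113 := d5_1 D23772 (iv D20113) (iv F85089)
theorem F106735 : act 1 n23772 = n19959 := d13_1 D23772 (iv D19959) (iv F85090)
theorem F106736 : act 2 n23772 = n18838 := d20_1 D23772 (iv D18838) (iv F85091)
theorem F106737 : act 4 n23772 = n18801 := d31_1 D23772 (iv D18801) D18800
theorem F106738 : act 8 n23772 = n23772 := d40_2 F85094 D23772 (iv D23772)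
theorem F106739 : act 9 n23772 = n20094 := d41_2 (iv F85095) D23772 (iv D20094)
def n23773 : Q := act 7 n18801
theorem D23773 : act 7 n18801 = n23773 := rfl
theorem F106740 : act 0 n23773 = n20114 := d6_1 D23773 (iv D20114) (iv F85096)
theorem F106741 : act 1 n23773 = n19960 := d14_1 D23773 (iv D19960) (iv F85097)
theorem F106742 : act 2 n23773 = n18839 := d21_1 D23773 (iv D18839) (iv F85098)
theorem F106743 : act 3 n23773 = n19939 := d27_1 D23773 (iv D19939) (iv F85099)
theorem F106744 : act 5 n23773 = n20300 := d36_1 D23773 (iv D20300) (iv F85100)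
theorem F106745 : act 6 n23773 = n18806 := d39_1 D23773 (iv D18806) (iv D14753) (iv F67411) D18801
theorem F106746 : act 8 n23773 = n23773 := d42_2 F85101 D23773 (iv D23773)
theorem F106747 : act 9 n23773 = n20095 := d43_2 (iv F85102) D23773 (iv D20095)
def n23774 : Q := act 3 n18802
theorem D23774 : act 3 n18802 = n23774 := rfl
theorem F106748 : act 0 n23774 = n20109 := d2_1 D23774 (iv D20109) (iv F85103)
theorem F106749 : act 1 n23774 = n18983 := d10_1 D23774 (iv D18983) (iv F85104)
theorem F106750 : act 4 n23774 = n18950 := d24_2 D18802 D23774 (iv D18950) (iv D14857) (iv F67417)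
theorem F106751 : act 5 n23774 = n18814 := d25_2 (iv F85106) D23774 (iv D18814)
theorem F106752 : act 7 n23774 = n20093 := d27_2 (iv F85107) D23774 (iv D20093)
theorem F106753 : act 8 n23774 = n19365 := d28_2 (iv F85108) D23774 (iv D19365)
theorem F106754 : act 9 n23774 = n18804 := d29_2 (iv F85109) D23774 (iv D18804)
def n23775 : Q := act 6 n18802
theorem D23775 : act 6 n18802 = n23775 := rfl
theorem F106755 : act 0 n23775 = n20110 := d5_1 D23775 (iv D20110) (iv F85103)
theorem F106756 : act 1 n23775 = n18984 := d13_1 D23775 (iv D18984) (iv F85104)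
theorem F106757 : act 2 n23775 = n18841 := d20_1 D23775 (iv D18841) (iv F85105)
theorem F106758 : act 4 n23775 = n18803 := d31_1 D23775 (iv D18803) D18802
theorem F106759 : act 8 n23775 = n19366 := d40_2 (iv F85108) D23775 (iv D19366)
theorem F106760 : act 9 n23775 = n18805 := d41_2 (iv F85109) D23775 (iv D18805)
def n23776 : Q := act 7 n18803
theorem D23776 : act 7 n18803 = n23776 := rfl
theorem F106761 : act 0 n23776 = n20111 := d6_1 D23776 (iv D20111) (iv F85110)
theorem F106762 : act 1 n23776 = n18985 := d14_1 D23776 (iv D18985) (iv F85111)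
theorem F106763 : act 2 n23776 = n18842 := d21_1 D23776 (iv D18842) (iv F85112)
theorem F106764 : act 3 n23776 = n18952 := d27_1 D23776 (iv D18952) (iv F85113)
theorem F106765 : act 5 n23776 = n18991 := d36_1 D23776 (iv D18991) (iv F85114)
theorem F106766 : act 6 n23776 = n20095 := d39_1 D23776 (iv D20095) (iv D15728) (iv F67418) D18803
theorem F106767 : act 8 n23776 = n19367 := d42_2 (iv F85115) D23776 (iv D19367)
theorem F106768 : act 9 n23776 = n18806 := d43_2 (iv F85116) D23776 (iv D18806)
def n23777 : Q := act 2 n18804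
theorem D23777 : act 2 n18804 = n23777 := rfl
theorem F106769 : act 0 n23777 = n20140 := d1_1 D23777 (iv D20140) (iv F85117)
theorem F106770 : act 3 n23777 = n18843 := d17_2 D18804 D23777 (iv D18843) (iv D14778) (iv F67422)
theorem F106771 : act 5 n23777 = n18817 := d19_2 (iv F85118) D23777 (iv D18817)
theorem F106772 : act 8 n23777 = n23777 := d22_2 F85119 D23777 (iv D23777)
def n23778 : Q := act 6 n18804
theorem D23778 : act 6 n18804 = n23778 := rfl
theorem F106773 : act 0 n23778 = n20141 := d5_1 D23778 (iv D20141) (iv F85117)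
theorem F106774 : act 3 n23778 = n18805 := d26_1 D23778 (iv D18805) D18804
theorem F106775 : act 8 n23778 = n23778 := d40_2 F85119 D23778 (iv D23778)
def n23779 : Q := act 5 n18805
theorem D23779 : act 5 n18805 = n23779 := rfl
theorem F106776 : act 0 n23779 = n20142 := d4_1 D23779 (iv D20142) (iv F85120)
theorem F106777 : act 2 n23779 = n18845 := d19_1 D23779 (iv D18845) (iv F85121)
theorem F106778 : act 4 n23779 = n18994 := d30_1 D23779 (iv D18994) F68076 (iv F67427) (iv F85122)
theorem F106779 : act 6 n23779 = n18819 := d35_2 D18805 D23779 (iv D18819) (iv D14761) (iv F67423)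
def n23780 : Q := act 7 n18805
theorem D23780 : act 7 n18805 = n23780 := rfl
theorem F106780 : act 0 n23780 = n20143 := d6_1 D23780 (iv D20143) (iv F85120)
theorem F106781 : act 2 n23780 = n18846 := d21_1 D23780 (iv D18846) (iv F85121)
theorem F106782 : act 4 n23780 = n18806 := d32_1 D23780 (iv D18806) (iv F85122)
theorem F106783 : act 8 n23780 = n23780 := d42_2 F85123 D23780 (iv D23780)
def n23781 : Q := act 3 n18807
theorem D23781 : act 3 n18807 = n23781 := rfl
theorem F106784 : act 0 n23781 = n20144 := d2_1 D23781 (iv D20144) (iv F85128)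
theorem F106785 : act 1 n23781 = n20137 := d10_1 D23781 (iv D20137) (iv F85129)
theorem F106786 : act 4 n23781 = n20106 := d24_2 D18807 D23781 (iv D20106) (iv D15736) (iv F67432)
theorem F106787 : act 5 n23781 = n20298 := d25_2 (iv F85131) D23781 (iv D20298)
theorem F106788 : act 7 n23781 = n18996 := d27_2 (iv F85132) D23781 (iv D18996)
theorem F106789 : act 8 n23781 = n23781 := d28_2 F85133 D23781 (iv D23781)
theorem F106790 : act 9 n23781 = n19840 := d29_2 (iv F85134) D23781 (iv D19840)
def n23782 : Q := act 6 n18807
theorem D23782 : act 6 n18807 = n23782 := rfl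
theorem F106791 : act 0 n23782 = n20145 := d5_1 D23782 (iv D20145) (iv F85128)
theorem F106792 : act 1 n23782 = n20138 := d13_1 D23782 (iv D20138) (iv F85129)
theorem F106793 : act 2 n23782 = n18848 := d20_1 D23782 (iv D18848) (iv F85130)
theorem F106794 : act 4 n23782 = n18808 := d31_1 D23782 (iv D18808) D18807
theorem F106795 : act 8 n23782 = n23782 := d40_2 F85133 D23782 (iv D23782)
theorem F106796 : act 9 n23782 = n19841 := d41_2 (iv F85134) D23782 (iv D19841)
def n23783 : Q := act 7 n18808
theorem D23783 : act 7 n18808 = n23783 := rfl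
theorem F106797 : act 0 n23783 = n20146 := d6_1 D23783 (iv D20146) (iv F85135)
theorem F106798 : act 1 n23783 = n20139 := d14_1 D23783 (iv D20139) (iv F85136)
theorem F106799 : act 2 n23783 = n18849 := d21_1 D23783 (iv D18849) (iv F85137)
theorem F106800 : act 3 n23783 = n20108 := d27_1 D23783 (iv D20108) (iv F85138)
theorem F106801 : act 5 n23783 = n18813 := d36_1 D23783 (iv D18813) (iv F85139)
theorem F106802 : act 6 n23783 = n18998 := d39_1 D23783 (iv D18998) (iv D14889) (iv F67433) D18808
theorem F106803 : act 8 n23783 = n23783 := d42_2 F85140 D23783 (iv D23783)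
theorem F106804 : act 9 n23783 = n19842 := d43_2 (iv F85141) D23783 (iv D19842)
def n23784 : Q := act 3 n18809
theorem D23784 : act 3 n18809 = n23784 := rfl
theorem F106805 : act 0 n23784 = n20106 := d2_1 D23784 (iv D20106) (iv F85142)
theorem F106806 : act 1 n23784 = n20368 := d10_1 D23784 (iv D20368) (iv F85143)
theorem F106807 : act 4 n23784 = n20144 := d24_2 D18809 D23784 (iv D20144) (iv D15762) (iv F67439)
theorem F106808 : act 5 n23784 = n20093 := d25_2 (iv F85145) D23784 (iv D20093)
theorem F106809 : act 7 n23784 = n18814 := d27_2 (iv F85146) D23784 (iv D18814)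
theorem F106810 : act 8 n23784 = n23784 := d28_2 F85147 D23784 (iv D23784)
theorem F106811 : act 9 n23784 = n18811 := d29_2 (iv F85148) D23784 (iv D18811)
def n23785 : Q := act 6 n18809
theorem D23785 : act 6 n18809 = n23785 := rfl
theorem F106812 : act 0 n23785 = n20107 := d5_1 D23785 (iv D20107) (iv F85142)
theorem F106813 : act 1 n23785 = n20369 := d13_1 D23785 (iv D20369) (iv F85143)
theorem F106814 : act 2 n23785 = n18851 := d20_1 D23785 (iv D18851) (iv F85144)
theorem F106815 : act 4 n23785 = n18810 := d31_1 D23785 (iv D18810) D18809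
theorem F106816 : act 8 n23785 = n23785 := d40_2 F85147 D23785 (iv D23785)
theorem F106817 : act 9 n23785 = n18812 := d41_2 (iv F85148) D23785 (iv D18812)
def n23786 : Q := act 7 n18810
theorem D23786 : act 7 n18810 = n23786 := rfl
theorem F106818 : act 0 n23786 = n20108 := d6_1 D23786 (iv D20108) (iv F85149)
theorem F106819 : act 1 n23786 = n20370 := d14_1 D23786 (iv D20370) (iv F85150)
theorem F106820 : act 2 n23786 = n18852 := d21_1 D23786 (iv D18852) (iv F85151)
theorem F106821 : act 3 n23786 = n20146 := d27_1 D23786 (iv D20146) (iv F85152)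
theorem F106822 : act 5 n23786 = n19842 := d36_1 D23786 (iv D19842) (iv F85153)
theorem F106823 : act 6 n23786 = n18816 := d39_1 D23786 (iv D18816) (iv D14759) (iv F67440) D18810
theorem F106824 : act 8 n23786 = n23786 := d42_2 F85154 D23786 (iv D23786)
theorem F106825 : act 9 n23786 = n18813 := d43_2 (iv F85155) D23786 (iv D18813)
def n23787 : Q := act 2 n18811
theorem D23787 : act 2 n18811 = n23787 := rfl
theorem F106826 : act 0 n23787 = n20147 := d1_1 D23787 (iv D20147) (iv F85156)
theorem F106827 : act 3 n23787 = n18853 := d17_2 D18811 D23787 (iv D18853) (iv D14785) (iv F67445)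
theorem F106828 : act 4 n23787 = n20324 := d18_2 (iv F85158) D23787 (iv D20324)
theorem F106829 : act 7 n23787 = n18817 := d21_2 (iv F85159) D23787 (iv D18817)
theorem F106830 : act 8 n23787 = n18821 := d22_2 (iv F85160) D23787 (iv D18821)
def n23788 : Q := act 6 n18811
theorem D23788 : act 6 n18811 = n23788 := rfl
theorem F106831 : act 0 n23788 = n20148 := d5_1 D23788 (iv D20148) (iv F85156)
theorem F106832 : act 1 n23788 = n20372 := d13_1 D23788 (iv D20372) (iv F85157)
theorem F106833 : act 3 n23788 = n18812 := d26_1 D23788 (iv D18812) D18811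
theorem F106834 : act 4 n23788 = n20325 := d31_1 D23788 (iv D20325) (iv F85158)
theorem F106835 : act 8 n23788 = n18822 := d40_2 (iv F85160) D23788 (iv D18822)
def n23789 : Q := act 5 n18812
theorem D23789 : act 5 n18812 = n23789 := rfl
theorem F106836 : act 0 n23789 = n20149 := d4_1 D23789 (iv D20149) (iv F85161)
theorem F106837 : act 1 n23789 = n20373 := d12_1 D23789 (iv D20373) (iv F85162)
theorem F106838 : act 2 n23789 = n18855 := d19_1 D23789 (iv D18855) (iv F85163)
def n23790 : Q := act 7 n18812
theorem D23790 : act 7 n18812 = n23790 := rfl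
theorem F106839 : act 0 n23790 = n20150 := d6_1 D23790 (iv D20150) (iv F85161)
theorem F106840 : act 1 n23790 = n20374 := d14_1 D23790 (iv D20374) (iv F85162)
theorem F106841 : act 2 n23790 = n18856 := d21_1 D23790 (iv D18856) (iv F85163)
theorem F106842 : act 4 n23790 = n18813 := d32_1 D23790 (iv D18813) (iv F85164)
theorem F106843 : act 6 n23790 = n18820 := d39_1 D23790 (iv D18820) (iv D14761) (iv F67446) D18812
theorem F106844 : act 8 n23790 = n18824 := d42_2 (iv F85165) D23790 (iv D18824)
def n23791 : Q := act 2 n18814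
theorem D23791 : act 2 n18814 = n23791 := rfl
theorem F106845 : act 0 n23791 = n20151 := d1_1 D23791 (iv D20151) (iv F85172)
theorem F106846 : act 3 n23791 = n18857 := d17_2 D18814 D23791 (iv D18857) (iv D14788) (iv F67454)
theorem F106847 : act 4 n23791 = n20389 := d18_2 (iv F85173) D23791 (iv D20389)
theorem F106848 : act 8 n23791 = n23791 := d22_2 F85174 D23791 (iv D23791)
theorem F106849 : act 9 n23791 = n18817 := d23_2 (iv F85175) D23791 (iv D18817)
def n23792 : Q := act 6 n18814
theorem D23792 : act 6 n18814 = n23792 := rfl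
theorem F106850 : act 0 n23792 = n20152 := d5_1 D23792 (iv D20152) (iv F85172)
theorem F106851 : act 3 n23792 = n18815 := d26_1 D23792 (iv D18815) D18814
theorem F106852 : act 4 n23792 = n20390 := d31_1 D23792 (iv D20390) (iv F85173)
theorem F106853 : act 8 n23792 = n23792 := d40_2 F85174 D23792 (iv D23792)
theorem F106854 : act 9 n23792 = n18818 := d41_2 (iv F85175) D23792 (iv D18818)
def n23793 : Q := act 5 n18815
theorem D23793 : act 5 n18815 = n23793 := rfl
theorem F106855 : act 0 n23793 = n20153 := d4_1 D23793 (iv D20153) (iv F85176)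
theorem F106856 : act 2 n23793 = n18859 := d19_1 D23793 (iv D18859) (iv F85177)
theorem F106857 : act 4 n23793 = n19005 := d30_1 D23793 (iv D19005) F68114 (iv F67460) (iv F85178)
theorem F106858 : act 9 n23793 = n18819 := d38_2 (iv F85180) D23793 (iv D18819)
def n23794 : Q := act 7 n18815
theorem D23794 : act 7 n18815 = n23794 := rfl
theorem F106859 : act 0 n23794 = n20154 := d6_1 D23794 (iv D20154) (iv F85176)
theorem F106860 : act 2 n23794 = n18860 := d21_1 D23794 (iv D18860) (iv F85177)
theorem F106861 : act 4 n23794 = n18816 := d32_1 D23794 (iv D18816) (iv F85178)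
theorem F106862 : act 8 n23794 = n23794 := d42_2 F85179 D23794 (iv D23794)
theorem F106863 : act 9 n23794 = n18820 := d43_2 (iv F85180) D23794 (iv D18820)
def n23795 : Q := act 1 n18817
theorem D23795 : act 1 n18817 = n23795 := rfl
theorem F106864 : act 3 n23795 = n18861 := d10_2 (iv F85188) D23795 (iv D18861)
theorem F106865 : act 8 n23795 = n18825 := d15_2 (iv F85189) D23795 (iv D18825)
def n23796 : Q := act 6 n18817
theorem D23796 : act 6 n18817 = n23796 := rfl
theorem F106866 : act 0 n23796 = n20156 := d5_1 D23796 (iv D20156) (iv F85187)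
theorem F106867 : act 2 n23796 = n18818 := d20_1 D23796 (iv D18818) D18817
theorem F106868 : act 3 n23796 = n18862 := d26_1 D23796 (iv D18862) (iv F85188)
theorem F106869 : act 8 n23796 = n18826 := d40_2 (iv F85189) D23796 (iv D18826)
def n23797 : Q := act 5 n18818
theorem D23797 : act 5 n18818 = n23797 := rfl
theorem F106870 : act 0 n23797 = n20157 := d4_1 D23797 (iv D20157) (iv F85190)
theorem F106871 : act 3 n23797 = n18819 := d25_1 D23797 (iv D18819) (iv F85191)
def n23798 : Q := act 7 n18818
theorem D23798 : act 7 n18818 = n23798 := rfl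
theorem F106872 : act 0 n23798 = n20158 := d6_1 D23798 (iv D20158) (iv F85190)
theorem F106873 : act 3 n23798 = n18820 := d27_1 D23798 (iv D18820) (iv F85191)
theorem F106874 : act 8 n23798 = n18828 := d42_2 (iv F85192) D23798 (iv D18828)
def n23799 : Q := act 7 n18819
theorem D23799 : act 7 n18819 = n23799 := rfl
theorem F106875 : act 0 n23799 = n20159 := d6_1 D23799 (iv D20159) (iv F85193)
theorem F106876 : act 2 n23799 = n18865 := d21_1 D23799 (iv D18865) (iv F85194)
theorem F106877 : act 4 n23799 = n19011 := d32_1 D23799 (iv D19011) (iv F85195)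
theorem F106878 : act 5 n23799 = n18820 := d36_1 D23799 (iv D18820) D18819
def n23800 : Q := act 8 n18819
theorem D23800 : act 8 n18819 = n23800 := rfl
theorem F106879 : act 0 n23800 = n20160 := d7_1 D23800 (iv D20160) (iv F85193)
theorem F106880 : act 2 n23800 = n18866 := d22_1 D23800 (iv D18866) (iv F85194)
theorem F106881 : act 4 n23800 = n19012 := d33_1 D23800 (iv D19012) (iv F85195)
theorem F106882 : act 5 n23800 = n18830 := d37_1 D23800 (iv D18830) (iv D14768) (iv F67468) D18819
def n23801 : Q := act 1 n18821
theorem D23801 : act 1 n18821 = n23801 := rfl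
theorem F106883 : act 2 n23801 = n20925 := d9_2 D18821 D23801 (iv D20925) (iv D16343) (iv F67474)
theorem F106884 : act 3 n23801 = n18867 := d10_2 (iv F85201) D23801 (iv D18867)
theorem F106885 : act 4 n23801 = n20866 := d11_2 (iv F85202) D23801 (iv D20866)
theorem F106886 : act 5 n23801 = n23801 := d12_2 F85203 D23801 (iv D23801)
theorem F106887 : act 7 n23801 = n18825 := d14_2 (iv F85204) D23801 (iv D18825)
theorem F106888 : act 9 n23801 = n23801 := d16_2 F85205 D23801 (iv D23801)
def n23802 : Q := act 6 n18821
theorem D23802 : act 6 n18821 = n23802 := rfl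
theorem F106889 : act 0 n23802 = n20162 := d5_1 D23802 (iv D20162) (iv F85200)
theorem F106890 : act 2 n23802 = n18822 := d20_1 D23802 (iv D18822) D18821
theorem F106891 : act 3 n23802 = n18868 := d26_1 D23802 (iv D18868) (iv F85201)
theorem F106892 : act 4 n23802 = n20867 := d31_1 D23802 (iv D20867) (iv F85202)
theorem F106893 : act 9 n23802 = n23802 := d41_2 F85205 D23802 (iv D23802)
def n23803 : Q := act 5 n18822
theorem D23803 : act 5 n18822 = n23803 := rfl
theorem F106894 : act 0 n23803 = n20163 := d4_1 D23803 (iv D20163) (iv F85206)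
theorem F106895 : act 1 n23803 = n20927 := d12_1 D23803 (iv D20927) (iv F85207)
theorem F106896 : act 3 n23803 = n18823 := d25_1 D23803 (iv D18823) (iv F85208)
theorem F106897 : act 6 n23803 = n23803 := d35_2 D18822 D23803 (iv D23803) (iv D18822) F67476
theorem F106898 : act 9 n23803 = n23803 := d38_2 F85210 D23803 (iv D23803)
def n23804 : Q := act 7 n18822
theorem D23804 : act 7 n18822 = n23804 := rfl
theorem F106899 : act 0 n23804 = n20164 := d6_1 D23804 (iv D20164) (iv F85206)
theorem F106900 : act 1 n23804 = n20928 := d14_1 D23804 (iv D20928) (iv F85207)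
theorem F106901 : act 3 n23804 = n18824 := d27_1 D23804 (iv D18824) (iv F85208)
theorem F106902 : act 4 n23804 = n20869 := d32_1 D23804 (iv D20869) (iv F85209)
theorem F106903 : act 6 n23804 = n18828 := d39_1 D23804 (iv D18828) (iv D14767) (iv F67477) D18822
theorem F106904 : act 9 n23804 = n23804 := d43_2 F85210 D23804 (iv D23804)
def n23805 : Q := act 7 n18823
theorem D23805 : act 7 n18823 = n23805 := rfl
theorem F106905 : act 0 n23805 = n20165 := d6_1 D23805 (iv D20165) (iv F85211)
theorem F106906 : act 1 n23805 = n20929 := d14_1 D23805 (iv D20929) (iv F85212)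
theorem F106907 : act 2 n23805 = n18871 := d21_1 D23805 (iv D18871) (iv F85213)
theorem F106908 : act 4 n23805 = n23805 := d32_1 D23805 (iv D23805) F85214
theorem F106909 : act 5 n23805 = n18824 := d36_1 D23805 (iv D18824) D18823
theorem F106910 : act 9 n23805 = n23805 := d43_2 F85216 D23805 (iv D23805)
def n23806 : Q := act 8 n18823
theorem D23806 : act 8 n18823 = n23806 := rfl
theorem F106911 : act 0 n23806 = n20166 := d7_1 D23806 (iv D20166) (iv F85211)
theorem F106912 : act 1 n23806 = n20930 := d15_1 D23806 (iv D20930) (iv F85212)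
theorem F106913 : act 2 n23806 = n18872 := d22_1 D23806 (iv D18872) (iv F85213)
theorem F106914 : act 4 n23806 = n23806 := d33_1 D23806 (iv D23806) F85214
theorem F106915 : act 6 n23806 = n23806 := d40_1 D23806 (iv D23806) F85215
def n23807 : Q := act 0 n18825
theorem D23807 : act 0 n18825 = n23807 := rfl
theorem F106916 : act 1 n23807 = n20167 := d0_2 D18825 D23807 (iv D20167) (iv D15778) (iv F67491)
theorem F106917 : act 3 n23807 = n18873 := d2_2 (iv F85223) D23807 (iv D18873)
theorem F106918 : act 5 n23807 = n23807 := d4_2 F85224 D23807 (iv D23807)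
theorem F106919 : act 9 n23807 = n23807 := d8_2 F85225 D23807 (iv D23807)
def n23808 : Q := act 6 n18825
theorem D23808 : act 6 n18825 = n23808 := rfl
theorem F106920 : act 1 n23808 = n18826 := d13_1 D23808 (iv D18826) D18825
theorem F106921 : act 3 n23808 = n18874 := d26_1 D23808 (iv D18874) (iv F85223)
theorem F106922 : act 9 n23808 = n23808 := d41_2 F85225 D23808 (iv D23808)
def n23809 : Q := act 5 n18826
theorem D23809 : act 5 n18826 = n23809 := rfl
theorem F106923 : act 0 n23809 = n20169 := d4_1 D23809 (iv D20169) (iv F85226)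
theorem F106924 : act 2 n23809 = n18827 := d19_1 D23809 (iv D18827) (iv F85227)
theorem F106925 : act 3 n23809 = n18875 := d25_1 D23809 (iv D18875) (iv F85228)
theorem F106926 : act 6 n23809 = n23809 := d35_2 D18826 D23809 (iv D23809) (iv D18826) F67493
theorem F106927 : act 9 n23809 = n23809 := d38_2 F85229 D23809 (iv D23809)
def n23810 : Q := act 7 n18826
theorem D23810 : act 7 n18826 = n23810 := rfl
theorem F106928 : act 0 n23810 = n20170 := d6_1 D23810 (iv D20170) (iv F85226)
theorem F106929 : act 2 n23810 = n18828 := d21_1 D23810 (iv D18828) (iv F85227)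
theorem F106930 : act 3 n23810 = n18876 := d27_1 D23810 (iv D18876) (iv F85228)
theorem F106931 : act 9 n23810 = n23810 := d43_2 F85229 D23810 (iv D23810)
def n23811 : Q := act 4 n18827
theorem D23811 : act 4 n18827 = n23811 := rfl
theorem F106932 : act 0 n23811 = n20171 := d3_1 D23811 (iv D20171) (iv F85230)
theorem F106933 : act 3 n23811 = n18831 := d24_1 D23811 (iv D18831) F67509 (iv F67500) (iv F85231)
theorem F106934 : act 6 n23811 = n23811 := d31_2 F85232 D23811 (iv D23811)
theorem F106935 : act 9 n23811 = n23811 := d34_2 F85233 D23811 (iv D23811)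
def n23812 : Q := act 7 n18827
theorem D23812 : act 7 n18827 = n23812 := rfl
theorem F106936 : act 0 n23812 = n20172 := d6_1 D23812 (iv D20172) (iv F85230)
theorem F106937 : act 3 n23812 = n18829 := d27_1 D23812 (iv D18829) (iv F85231)
theorem F106938 : act 5 n23812 = n18828 := d36_1 D23812 (iv D18828) D18827
theorem F106939 : act 9 n23812 = n23812 := d43_2 F85233 D23812 (iv D23812)
def n23813 : Q := act 8 n18827
theorem D23813 : act 8 n18827 = n23813 := rfl
theorem F106940 : act 0 n23813 = n20173 := d7_1 D23813 (iv D20173) (iv F85230)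
theorem F106941 : act 3 n23813 = n18830 := d28_1 D23813 (iv D18830) (iv F85231)
theorem F106942 : act 6 n23813 = n23813 := d40_1 D23813 (iv D23813) F85232
def n23814 : Q := act 6 n18829
theorem D23814 : act 6 n18829 = n23814 := rfl
theorem F106943 : act 0 n23814 = n20174 := d5_1 D23814 (iv D20174) (iv F85237)
theorem F106944 : act 2 n23814 = n18879 := d20_1 D23814 (iv D18879) (iv F85238)
theorem F106945 : act 4 n23814 = n18834 := d31_1 D23814 (iv D18834) (iv F85239)
theorem F106946 : act 7 n23814 = n23814 := d39_2 D18829 D23814 (iv D23814) (iv D18829) F67501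
theorem F106947 : act 9 n23814 = n23814 := d41_2 F85241 D23814 (iv D23814)
def n23815 : Q := act 8 n18829
theorem D23815 : act 8 n18829 = n23815 := rfl
theorem F106948 : act 0 n23815 = n20175 := d7_1 D23815 (iv D20175) (iv F85237)
theorem F106949 : act 2 n23815 = n18880 := d22_1 D23815 (iv D18880) (iv F85238)
theorem F106950 : act 4 n23815 = n18835 := d33_1 D23815 (iv D18835) (iv F85239)
theorem F106951 : act 7 n23815 = n18830 := d42_1 D23815 (iv D18830) D18829
def n23816 : Q := act 9 n18830
theorem D23816 : act 9 n18830 = n23816 := rfl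
theorem F106952 : act 0 n23816 = n20176 := d8_1 D23816 (iv D20176) (iv F85242)
theorem F106953 : act 2 n23816 = n18881 := d23_1 D23816 (iv D18881) (iv F85243)
theorem F106954 : act 4 n23816 = n18836 := d34_1 D23816 (iv D18836) (iv F85244)
theorem F106955 : act 6 n23816 = n23816 := d41_1 D23816 (iv D23816) F85245
theorem F106956 : act 8 n23816 = n23816 := d44_1 D23816 (iv D23816) (iv D18830) F67502 D18830
def n23817 : Q := act 7 n18831
theorem D23817 : act 7 n18831 = n23817 := rfl
theorem F106957 : act 0 n23817 = n20177 := d6_1 D23817 (iv D20177) (iv F85246)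
theorem F106958 : act 2 n23817 = n23817 := d21_1 D23817 (iv D23817) F85247
theorem F106959 : act 4 n23817 = n18832 := d32_1 D23817 (iv D18832) D18831
theorem F106960 : act 9 n23817 = n23817 := d43_2 F85249 D23817 (iv D23817)
def n23818 : Q := act 8 n18831
theorem D23818 : act 8 n18831 = n23818 := rfl
theorem F106961 : act 0 n23818 = n20178 := d7_1 D23818 (iv D20178) (iv F85246)
theorem F106962 : act 2 n23818 = n23818 := d22_1 D23818 (iv D23818) F85247
theorem F106963 : act 4 n23818 = n18833 := d33_1 D23818 (iv D18833) D18831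
theorem F106964 : act 6 n23818 = n23818 := d40_1 D23818 (iv D23818) F85248
def n23819 : Q := act 6 n18832
theorem D23819 : act 6 n18832 = n23819 := rfl
theorem F106965 : act 0 n23819 = n20179 := d5_1 D23819 (iv D20179) (iv F85250)
theorem F106966 : act 2 n23819 = n23819 := d20_1 D23819 (iv D23819) F85251
theorem F106967 : act 3 n23819 = n18834 := d26_1 D23819 (iv D18834) (iv F85252)
theorem F106968 : act 5 n23819 = n23819 := d35_1 D23819 (iv D23819) F85253 F67515 (iv F85253)
theorem F106969 : act 7 n23819 = n23819 := d39_2 D18832 D23819 (iv D23819) (iv D18832) F67510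
theorem F106970 : act 9 n23819 = n23819 := d41_2 F85254 D23819 (iv D23819)
def n23820 : Q := act 8 n18832
theorem D23820 : act 8 n18832 = n23820 := rfl
theorem F106971 : act 0 n23820 = n20180 := d7_1 D23820 (iv D20180) (iv F85250)
theorem F106972 : act 2 n23820 = n23820 := d22_1 D23820 (iv D23820) F85251
theorem F106973 : act 3 n23820 = n18835 := d28_1 D23820 (iv D18835) (iv F85252)
theorem F106974 : act 5 n23820 = n19032 := d37_1 D23820 (iv D19032) F68185 (iv F67516) (iv F85253)
theorem F106975 : act 7 n23820 = n18833 := d42_1 D23820 (iv D18833) D18832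
def n23821 : Q := act 9 n18833
theorem D23821 : act 9 n18833 = n23821 := rfl
theorem F106976 : act 0 n23821 = n20181 := d8_1 D23821 (iv D20181) (iv F85255)
theorem F106977 : act 2 n23821 = n23821 := d23_1 D23821 (iv D23821) F85256
theorem F106978 : act 3 n23821 = n18836 := d29_1 D23821 (iv D18836) (iv F85257)
theorem F106979 : act 5 n23821 = n19033 := d38_1 D23821 (iv D19033) (iv F85258)
theorem F106980 : act 6 n23821 = n23821 := d41_1 D23821 (iv D23821) F85259
theorem F106981 : act 8 n23821 = n23821 := d44_1 D23821 (iv D23821) (iv D18833) F67511 D18833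
def n23822 : Q := act 8 n18834
theorem D23822 : act 8 n18834 = n23822 := rfl
theorem F106982 : act 0 n23822 = n20182 := d7_1 D23822 (iv D20182) (iv F85260)
theorem F106983 : act 2 n23822 = n18882 := d22_1 D23822 (iv D18882) (iv F85261)
theorem F106984 : act 6 n23822 = n18835 := d40_1 D23822 (iv D18835) D18834
theorem F106985 : act 7 n23822 = n23822 := d42_1 D23822 (iv D23822) F85263
def n23823 : Q := act 9 n18835
theorem D23823 : act 9 n18835 = n23823 := rfl
theorem F106986 : act 0 n23823 = n20183 := d8_1 D23823 (iv D20183) (iv F85265)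
theorem F106987 : act 2 n23823 = n18883 := d23_1 D23823 (iv D18883) (iv F85266)
theorem F106988 : act 5 n23823 = n19035 := d38_1 D23823 (iv D19035) (iv F85267)
theorem F106989 : act 7 n23823 = n18836 := d43_1 D23823 (iv D18836) (iv F85268)
theorem F106990 : act 8 n23823 = n23823 := d44_1 D23823 (iv D23823) (iv D18835) F67521 D18835
def n23824 : Q := act 2 n18837
theorem D23824 : act 2 n18837 = n23824 := rfl
theorem F106991 : act 0 n23824 = n20184 := d1_1 D23824 (iv D20184) (iv F85274)
theorem F106992 : act 4 n23824 = n23824 := d18_2 F85276 D23824 (iv D23824)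
theorem F106993 : act 5 n23824 = n18853 := d19_2 (iv F85277) D23824 (iv D18853)
theorem F106994 : act 7 n23824 = n18843 := d21_2 (iv F85278) D23824 (iv D18843)
theorem F106995 : act 8 n23824 = n23824 := d22_2 F85279 D23824 (iv D23824)
theorem F106996 : act 9 n23824 = n21413 := d23_2 (iv F85280) D23824 (iv D21413)
def n23825 : Q := act 6 n18837
theorem D23825 : act 6 n18837 = n23825 := rfl
theorem F106997 : act 0 n23825 = n20185 := d5_1 D23825 (iv D20185) (iv F85274)
theorem F106998 : act 1 n23825 = n23825 := d13_1 D23825 (iv D23825) F85275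
theorem F106999 : act 3 n23825 = n18838 := d26_1 D23825 (iv D18838) D18837
theorem F107000 : act 4 n23825 = n23825 := d31_1 D23825 (iv D23825) F85276
theorem F107001 : act 8 n23825 = n23825 := d40_2 F85279 D23825 (iv D23825)
theorem F107002 : act 9 n23825 = n21414 := d41_2 (iv F85280) D23825 (iv D21414)
def n23826 : Q := act 5 n18838
theorem D23826 : act 5 n18838 = n23826 := rfl
theorem F107003 : act 0 n23826 = n20186 := d4_1 D23826 (iv D20186) (iv F85281)
theorem F107004 : act 1 n23826 = n23826 := d12_1 D23826 (iv D23826) F85282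
theorem F107005 : act 4 n23826 = n21649 := d30_1 D23826 (iv D21649) F76496 (iv F67535) (iv F85283)
theorem F107006 : act 6 n23826 = n18855 := d35_2 D18838 D23826 (iv D18855) (iv D14786) (iv F67528)
theorem F107007 : act 9 n23826 = n21415 := d38_2 (iv F85285) D23826 (iv D21415)
def n23827 : Q := act 7 n18838
theorem D23827 : act 7 n18838 = n23827 := rfl
theorem F107008 : act 0 n23827 = n20187 := d6_1 D23827 (iv D20187) (iv F85281)
theorem F107009 : act 1 n23827 = n23827 := d14_1 D23827 (iv D23827) F85282
theorem F107010 : act 4 n23827 = n18839 := d32_1 D23827 (iv D18839) (iv F85283)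
theorem F107011 : act 6 n23827 = n18846 := d39_1 D23827 (iv D18846) (iv D14779) (iv F67529) D18838
theorem F107012 : act 8 n23827 = n23827 := d42_2 F85284 D23827 (iv D23827)
theorem F107013 : act 9 n23827 = n21416 := d43_2 (iv F85285) D23827 (iv D21416)
def n23828 : Q := act 2 n18840
theorem D23828 : act 2 n18840 = n23828 := rfl
theorem F107014 : act 0 n23828 = n20188 := d1_1 D23828 (iv D20188) (iv F85293)
theorem F107015 : act 4 n23828 = n23828 := d18_2 F85295 D23828 (iv D23828)
theorem F107016 : act 5 n23828 = n18857 := d19_2 (iv F85296) D23828 (iv D18857)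
theorem F107017 : act 7 n23828 = n21413 := d21_2 (iv F85297) D23828 (iv D21413)
theorem F107018 : act 8 n23828 = n21417 := d22_2 (iv F85298) D23828 (iv D21417)
theorem F107019 : act 9 n23828 = n18843 := d23_2 (iv F85299) D23828 (iv D18843)
def n23829 : Q := act 6 n18840
theorem D23829 : act 6 n18840 = n23829 := rfl
theorem F107020 : act 0 n23829 = n20189 := d5_1 D23829 (iv D20189) (iv F85293)
theorem F107021 : act 1 n23829 = n23829 := d13_1 D23829 (iv D23829) F85294
theorem F107022 : act 3 n23829 = n18841 := d26_1 D23829 (iv D18841) D18840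
theorem F107023 : act 4 n23829 = n23829 := d31_1 D23829 (iv D23829) F85295
theorem F107024 : act 8 n23829 = n21418 := d40_2 (iv F85298) D23829 (iv D21418)
theorem F107025 : act 9 n23829 = n18844 := d41_2 (iv F85299) D23829 (iv D18844)
def n23830 : Q := act 5 n18841
theorem D23830 : act 5 n18841 = n23830 := rfl
theorem F107026 : act 0 n23830 = n20190 := d4_1 D23830 (iv D20190) (iv F85300)
theorem F107027 : act 1 n23830 = n23830 := d12_1 D23830 (iv D23830) F85301
theorem F107028 : act 4 n23830 = n19045 := d30_1 D23830 (iv D19045) F68242 (iv F67547) (iv F85302)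
theorem F107029 : act 6 n23830 = n18859 := d35_2 D18841 D23830 (iv D18859) (iv D14789) (iv F67540)
theorem F107030 : act 9 n23830 = n18845 := d38_2 (iv F85304) D23830 (iv D18845)
def n23831 : Q := act 7 n18841
theorem D23831 : act 7 n18841 = n23831 := rfl
theorem F107031 : act 0 n23831 = n20191 := d6_1 D23831 (iv D20191) (iv F85300)
theorem F107032 : act 1 n23831 = n23831 := d14_1 D23831 (iv D23831) F85301
theorem F107033 : act 4 n23831 = n18842 := d32_1 D23831 (iv D18842) (iv F85302)
theorem F107034 : act 6 n23831 = n21416 := d39_1 D23831 (iv D21416) (iv D16741) (iv F67541) D18841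
theorem F107035 : act 8 n23831 = n21420 := d42_2 (iv F85303) D23831 (iv D21420)
theorem F107036 : act 9 n23831 = n18846 := d43_2 (iv F85304) D23831 (iv D18846)
def n23832 : Q := act 1 n18843
theorem D23832 : act 1 n18843 = n23832 := rfl
theorem F107037 : act 2 n23832 = n23832 := d9_2 D18843 D23832 (iv D23832) (iv D18843) F67551
theorem F107038 : act 4 n23832 = n23832 := d11_2 F85313 D23832 (iv D23832)
theorem F107039 : act 5 n23832 = n18861 := d12_2 (iv F85314) D23832 (iv D18861)
theorem F107040 : act 8 n23832 = n23832 := d15_2 F85315 D23832 (iv D23832)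
def n23833 : Q := act 6 n18843
theorem D23833 : act 6 n18843 = n23833 := rfl
theorem F107041 : act 0 n23833 = n20193 := d5_1 D23833 (iv D20193) (iv F85312)
theorem F107042 : act 2 n23833 = n18844 := d20_1 D23833 (iv D18844) D18843
theorem F107043 : act 4 n23833 = n23833 := d31_1 D23833 (iv D23833) F85313
theorem F107044 : act 8 n23833 = n23833 := d40_2 F85315 D23833 (iv D23833)
def n23834 : Q := act 5 n18844
theorem D23834 : act 5 n18844 = n23834 := rfl
theorem F107045 : act 0 n23834 = n20194 := d4_1 D23834 (iv D20194) (iv F85316)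
theorem F107046 : act 1 n23834 = n23834 := d12_1 D23834 (iv D23834) F85317
theorem F107047 : act 3 n23834 = n18845 := d25_1 D23834 (iv D18845) (iv F85318)
theorem F107048 : act 6 n23834 = n18863 := d35_2 D18844 D23834 (iv D18863) (iv D14792) (iv F67553)
def n23835 : Q := act 7 n18844
theorem D23835 : act 7 n18844 = n23835 := rfl
theorem F107049 : act 0 n23835 = n20195 := d6_1 D23835 (iv D20195) (iv F85316)
theorem F107050 : act 1 n23835 = n23835 := d14_1 D23835 (iv D23835) F85317
theorem F107051 : act 3 n23835 = n18846 := d27_1 D23835 (iv D18846) (iv F85318)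
theorem F107052 : act 4 n23835 = n23835 := d32_1 D23835 (iv D23835) F85319
theorem F107053 : act 8 n23835 = n23835 := d42_2 F85320 D23835 (iv D23835)
def n23836 : Q := act 7 n18845
theorem D23836 : act 7 n18845 = n23836 := rfl
theorem F107054 : act 0 n23836 = n20196 := d6_1 D23836 (iv D20196) (iv F85321)
theorem F107055 : act 1 n23836 = n23836 := d14_1 D23836 (iv D23836) F85322
theorem F107056 : act 4 n23836 = n19051 := d32_1 D23836 (iv D19051) (iv F85323)
theorem F107057 : act 5 n23836 = n18846 := d36_1 D23836 (iv D18846) D18845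
def n23837 : Q := act 8 n18845
theorem D23837 : act 8 n18845 = n23837 := rfl
theorem F107058 : act 0 n23837 = n20197 := d7_1 D23837 (iv D20197) (iv F85321)
theorem F107059 : act 1 n23837 = n23837 := d15_1 D23837 (iv D23837) F85322
theorem F107060 : act 4 n23837 = n19052 := d33_1 D23837 (iv D19052) (iv F85323)
theorem F107061 : act 5 n23837 = n23837 := d37_1 D23837 (iv D23837) (iv D18845) F67558 D18845
theorem F107062 : act 6 n23837 = n18866 := d40_1 D23837 (iv D18866) (iv F85324)
def n23838 : Q := act 2 n18847
theorem D23838 : act 2 n18847 = n23838 := rfl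
theorem F107063 : act 0 n23838 = n20198 := d1_1 D23838 (iv D20198) (iv F85329)
theorem F107064 : act 4 n23838 = n18884 := d18_2 (iv F85331) D23838 (iv D18884)
theorem F107066 : act 7 n23838 = n19053 := d21_2 (iv F85333) D23838 (iv D19053)
theorem F107067 : act 8 n23838 = n23838 := d22_2 F85334 D23838 (iv D23838)
theorem F107068 : act 9 n23838 = n19867 := d23_2 (iv F85335) D23838 (iv D19867)
def n23839 : Q := act 6 n18847
theorem D23839 : act 6 n18847 = n23839 := rfl
theorem F107069 : act 0 n23839 = n20199 := d5_1 D23839 (iv D20199) (iv F85329)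
theorem F107070 : act 1 n23839 = n23839 := d13_1 D23839 (iv D23839) F85330
theorem F107071 : act 3 n23839 = n18848 := d26_1 D23839 (iv D18848) D18847
theorem F107072 : act 4 n23839 = n18885 := d31_1 D23839 (iv D18885) (iv F85331)
theorem F107073 : act 8 n23839 = n23839 := d40_2 F85334 D23839 (iv D23839)
theorem F107074 : act 9 n23839 = n19868 := d41_2 (iv F85335) D23839 (iv D19868)
def n23840 : Q := act 5 n18848
theorem D23840 : act 5 n18848 = n23840 := rfl
theorem F107075 : act 0 n23840 = n20200 := d4_1 D23840 (iv D20200) (iv F85336)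
theorem F107076 : act 1 n23840 = n23840 := d12_1 D23840 (iv D23840) F85337
theorem F107077 : act 4 n23840 = n18855 := d30_1 D23840 (iv D18855) F67595 (iv F67573) (iv F85338)
theorem F107078 : act 6 n23840 = n21649 := d35_2 D18848 D23840 (iv D21649) (iv D16923) (iv F67566)
theorem F107079 : act 9 n23840 = n19869 := d38_2 (iv F85340) D23840 (iv D19869)
def n23841 : Q := act 7 n18848
theorem D23841 : act 7 n18848 = n23841 := rfl
theorem F107080 : act 0 n23841 = n20201 := d6_1 D23841 (iv D20201) (iv F85336)
theorem F107081 : act 1 n23841 = n23841 := d14_1 D23841 (iv D23841) F85337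
theorem F107082 : act 4 n23841 = n18849 := d32_1 D23841 (iv D18849) (iv F85338)
theorem F107083 : act 6 n23841 = n19056 := d39_1 D23841 (iv D19056) (iv D14929) (iv F67567) D18848
theorem F107084 : act 8 n23841 = n23841 := d42_2 F85339 D23841 (iv D23841)
theorem F107085 : act 9 n23841 = n19870 := d43_2 (iv F85340) D23841 (iv D19870)
def n23842 : Q := act 2 n18850
theorem D23842 : act 2 n18850 = n23842 := rfl
theorem F107086 : act 0 n23842 = n20202 := d1_1 D23842 (iv D20202) (iv F85348)
theorem F107087 : act 4 n23842 = n18888 := d18_2 (iv F85350) D23842 (iv D18888)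
theorem F107088 : act 5 n23842 = n21413 := d19_2 (iv F85351) D23842 (iv D21413)
theorem F107089 : act 7 n23842 = n18857 := d21_2 (iv F85352) D23842 (iv D18857)
theorem F107090 : act 8 n23842 = n23842 := d22_2 F85353 D23842 (iv D23842)
theorem F107091 : act 9 n23842 = n18853 := d23_2 (iv F85354) D23842 (iv D18853)
def n23843 : Q := act 6 n18850
theorem D23843 : act 6 n18850 = n23843 := rfl
theorem F107092 : act 0 n23843 = n20203 := d5_1 D23843 (iv D20203) (iv F85348)
theorem F107093 : act 1 n23843 = n23843 := d13_1 D23843 (iv D23843) F85349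
theorem F107094 : act 3 n23843 = n18851 := d26_1 D23843 (iv D18851) D18850
theorem F107095 : act 4 n23843 = n18889 := d31_1 D23843 (iv D18889) (iv F85350)
theorem F107096 : act 8 n23843 = n23843 := d40_2 F85353 D23843 (iv D23843)
theorem F107097 : act 9 n23843 = n18854 := d41_2 (iv F85354) D23843 (iv D18854)
def n23844 : Q := act 5 n18851
theorem D23844 : act 5 n18851 = n23844 := rfl
theorem F107098 : act 0 n23844 = n20204 := d4_1 D23844 (iv D20204) (iv F85355)
theorem F107099 : act 1 n23844 = n23844 := d12_1 D23844 (iv D23844) F85356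
theorem F107100 : act 4 n23844 = n19869 := d30_1 D23844 (iv D19869) F71260 (iv F67585) (iv F85357)
theorem F107101 : act 6 n23844 = n21415 := d35_2 D18851 D23844 (iv D21415) (iv D16741) (iv F67578)
theorem F107102 : act 9 n23844 = n18855 := d38_2 (iv F85359) D23844 (iv D18855)
def n23845 : Q := act 7 n18851
theorem D23845 : act 7 n18851 = n23845 := rfl
theorem F107103 : act 0 n23845 = n20205 := d6_1 D23845 (iv D20205) (iv F85355)
theorem F107104 : act 1 n23845 = n23845 := d14_1 D23845 (iv D23845) F85356
theorem F107105 : act 4 n23845 = n18852 := d32_1 D23845 (iv D18852) (iv F85357)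
theorem F107106 : act 6 n23845 = n18860 := d39_1 D23845 (iv D18860) (iv D14789) (iv F67579) D18851
theorem F107107 : act 8 n23845 = n23845 := d42_2 F85358 D23845 (iv D23845)
theorem F107108 : act 9 n23845 = n18856 := d43_2 (iv F85359) D23845 (iv D18856)
def n23846 : Q := act 1 n18853
theorem D23846 : act 1 n18853 = n23846 := rfl
theorem F107109 : act 2 n23846 = n23846 := d9_2 D18853 D23846 (iv D23846) (iv D18853) F67589
theorem F107110 : act 4 n23846 = n18892 := d11_2 (iv F85368) D23846 (iv D18892)
theorem F107111 : act 7 n23846 = n18861 := d14_2 (iv F85369) D23846 (iv D18861)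
theorem F107112 : act 8 n23846 = n18867 := d15_2 (iv F85370) D23846 (iv D18867)
def n23847 : Q := act 6 n18853
theorem D23847 : act 6 n18853 = n23847 := rfl
theorem F107113 : act 0 n23847 = n20207 := d5_1 D23847 (iv D20207) (iv F85367)
theorem F107114 : act 2 n23847 = n18854 := d20_1 D23847 (iv D18854) D18853
theorem F107115 : act 4 n23847 = n18893 := d31_1 D23847 (iv D18893) (iv F85368)
theorem F107116 : act 8 n23847 = n18868 := d40_2 (iv F85370) D23847 (iv D18868)
def n23848 : Q := act 5 n18854
theorem D23848 : act 5 n18854 = n23848 := rfl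
theorem F107117 : act 0 n23848 = n20208 := d4_1 D23848 (iv D20208) (iv F85371)
theorem F107118 : act 1 n23848 = n23848 := d12_1 D23848 (iv D23848) F85372
theorem F107119 : act 3 n23848 = n18855 := d25_1 D23848 (iv D18855) (iv F85373)
def n23849 : Q := act 7 n18854
theorem D23849 : act 7 n18854 = n23849 := rfl
theorem F107120 : act 0 n23849 = n20209 := d6_1 D23849 (iv D20209) (iv F85371)
theorem F107121 : act 1 n23849 = n23849 := d14_1 D23849 (iv D23849) F85372
theorem F107122 : act 3 n23849 = n18856 := d27_1 D23849 (iv D18856) (iv F85373)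
theorem F107123 : act 4 n23849 = n18895 := d32_1 D23849 (iv D18895) (iv F85374)
theorem F107124 : act 6 n23849 = n18864 := d39_1 D23849 (iv D18864) (iv D14792) (iv F67591) D18854
theorem F107125 : act 8 n23849 = n18870 := d42_2 (iv F85375) D23849 (iv D18870)
def n23850 : Q := act 7 n18855
theorem D23850 : act 7 n18855 = n23850 := rfl
theorem F107126 : act 0 n23850 = n20210 := d6_1 D23850 (iv D20210) (iv F85376)
theorem F107127 : act 1 n23850 = n23850 := d14_1 D23850 (iv D23850) F85377
theorem F107128 : act 5 n23850 = n18856 := d36_1 D23850 (iv D18856) D18855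
def n23851 : Q := act 8 n18855
theorem D23851 : act 8 n18855 = n23851 := rfl
theorem F107129 : act 0 n23851 = n20211 := d7_1 D23851 (iv D20211) (iv F85376)
theorem F107130 : act 1 n23851 = n23851 := d15_1 D23851 (iv D23851) F85377
theorem F107131 : act 5 n23851 = n18872 := d37_1 D23851 (iv D18872) (iv D14797) (iv F67596) D18855
def n23852 : Q := act 1 n18857
theorem D23852 : act 1 n18857 = n23852 := rfl
theorem F107132 : act 2 n23852 = n23852 := d9_2 D18857 D23852 (iv D23852) (iv D18857) F67603
theorem F107133 : act 4 n23852 = n18898 := d11_2 (iv F85384) D23852 (iv D18898)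
theorem F107134 : act 8 n23852 = n23852 := d15_2 F85385 D23852 (iv D23852)
theorem F107135 : act 9 n23852 = n18861 := d16_2 (iv F85386) D23852 (iv D18861)
def n23853 : Q := act 6 n18857
theorem D23853 : act 6 n18857 = n23853 := rfl
theorem F107136 : act 0 n23853 = n20213 := d5_1 D23853 (iv D20213) (iv F85383)
theorem F107137 : act 2 n23853 = n18858 := d20_1 D23853 (iv D18858) D18857
theorem F107138 : act 4 n23853 = n18899 := d31_1 D23853 (iv D18899) (iv F85384)
theorem F107139 : act 8 n23853 = n23853 := d40_2 F85385 D23853 (iv D23853)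
theorem F107140 : act 9 n23853 = n18862 := d41_2 (iv F85386) D23853 (iv D18862)
def n23854 : Q := act 5 n18858
theorem D23854 : act 5 n18858 = n23854 := rfl
theorem F107141 : act 0 n23854 = n20214 := d4_1 D23854 (iv D20214) (iv F85387)
theorem F107142 : act 1 n23854 = n23854 := d12_1 D23854 (iv D23854) F85388
theorem F107143 : act 3 n23854 = n18859 := d25_1 D23854 (iv D18859) (iv F85389)
theorem F107144 : act 9 n23854 = n18863 := d38_2 (iv F85392) D23854 (iv D18863)
def n23855 : Q := act 7 n18858
theorem D23855 : act 7 n18858 = n23855 := rfl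
theorem F107145 : act 0 n23855 = n20215 := d6_1 D23855 (iv D20215) (iv F85387)
theorem F107146 : act 1 n23855 = n23855 := d14_1 D23855 (iv D23855) F85388
theorem F107147 : act 3 n23855 = n18860 := d27_1 D23855 (iv D18860) (iv F85389)
theorem F107148 : act 4 n23855 = n18901 := d32_1 D23855 (iv D18901) (iv F85390)
theorem F107149 : act 8 n23855 = n23855 := d42_2 F85391 D23855 (iv D23855)
theorem F107150 : act 9 n23855 = n18864 := d43_2 (iv F85392) D23855 (iv D18864)
def n23856 : Q := act 7 n18859
theorem D23856 : act 7 n18859 = n23856 := rfl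
theorem F107151 : act 0 n23856 = n20216 := d6_1 D23856 (iv D20216) (iv F85393)
theorem F107152 : act 1 n23856 = n23856 := d14_1 D23856 (iv D23856) F85394
theorem F107153 : act 4 n23856 = n19067 := d32_1 D23856 (iv D19067) (iv F85395)
theorem F107154 : act 5 n23856 = n18860 := d36_1 D23856 (iv D18860) D18859
theorem F107155 : act 9 n23856 = n18865 := d43_2 (iv F85396) D23856 (iv D18865)
def n23857 : Q := act 8 n18859
theorem D23857 : act 8 n18859 = n23857 := rfl
theorem F107156 : act 0 n23857 = n20217 := d7_1 D23857 (iv D20217) (iv F85393)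
theorem F107157 : act 1 n23857 = n23857 := d15_1 D23857 (iv D23857) F85394
theorem F107158 : act 4 n23857 = n19068 := d33_1 D23857 (iv D19068) (iv F85395)
theorem F107159 : act 5 n23857 = n23857 := d37_1 D23857 (iv D23857) (iv D18859) F67610 D18859
def n23858 : Q := act 0 n18861
theorem D23858 : act 0 n18861 = n23858 := rfl
theorem F107160 : act 1 n23858 = n20218 := d0_2 D18861 D23858 (iv D20218) (iv D15814) (iv F67618)
theorem F107161 : act 2 n23858 = n23858 := d1_2 F85402 D23858 (iv D23858)
theorem F107162 : act 4 n23858 = n18904 := d3_2 (iv F85403) D23858 (iv D18904)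
theorem F107163 : act 8 n23858 = n18873 := d7_2 (iv F85404) D23858 (iv D18873)
def n23859 : Q := act 6 n18861
theorem D23859 : act 6 n18861 = n23859 := rfl
theorem F107164 : act 1 n23859 = n18862 := d13_1 D23859 (iv D18862) D18861
theorem F107165 : act 2 n23859 = n23859 := d20_1 D23859 (iv D23859) F85402
theorem F107166 : act 4 n23859 = n18905 := d31_1 D23859 (iv D18905) (iv F85403)
theorem F107167 : act 8 n23859 = n18874 := d40_2 (iv F85404) D23859 (iv D18874)
def n23860 : Q := act 5 n18862
theorem D23860 : act 5 n18862 = n23860 := rfl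
theorem F107168 : act 0 n23860 = n20220 := d4_1 D23860 (iv D20220) (iv F85405)
theorem F107169 : act 2 n23860 = n18863 := d19_1 D23860 (iv D18863) (iv F85406)
def n23861 : Q := act 7 n18862
theorem D23861 : act 7 n18862 = n23861 := rfl
theorem F107170 : act 0 n23861 = n20221 := d6_1 D23861 (iv D20221) (iv F85405)
theorem F107171 : act 2 n23861 = n18864 := d21_1 D23861 (iv D18864) (iv F85406)
theorem F107172 : act 4 n23861 = n18907 := d32_1 D23861 (iv D18907) (iv F85407)
theorem F107173 : act 8 n23861 = n18876 := d42_2 (iv F85408) D23861 (iv D18876)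
def n23862 : Q := act 4 n18863
theorem D23862 : act 4 n18863 = n23862 := rfl
theorem F107174 : act 0 n23862 = n20222 := d3_1 D23862 (iv D20222) (iv F85409)
theorem F107175 : act 1 n23862 = n23862 := d11_1 D23862 (iv D23862) F85410
theorem F107176 : act 3 n23862 = n19073 := d24_1 D23862 (iv D19073) F68332 (iv F67628) (iv F85411)
theorem F107177 : act 5 n23862 = n18908 := d30_2 D18863 D23862 (iv D18908) (iv D14824) (iv F67624)
def n23863 : Q := act 7 n18863
theorem D23863 : act 7 n18863 = n23863 := rfl
theorem F107178 : act 0 n23863 = n20223 := d6_1 D23863 (iv D20223) (iv F85409)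
theorem F107179 : act 1 n23863 = n23863 := d14_1 D23863 (iv D23863) F85410
theorem F107180 : act 3 n23863 = n18865 := d27_1 D23863 (iv D18865) (iv F85411)
theorem F107181 : act 5 n23863 = n18864 := d36_1 D23863 (iv D18864) D18863
def n23864 : Q := act 8 n18863
theorem D23864 : act 8 n18863 = n23864 := rfl
theorem F107182 : act 0 n23864 = n20224 := d7_1 D23864 (iv D20224) (iv F85409)
theorem F107183 : act 1 n23864 = n23864 := d15_1 D23864 (iv D23864) F85410
theorem F107184 : act 3 n23864 = n18866 := d28_1 D23864 (iv D18866) (iv F85411)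
theorem F107185 : act 5 n23864 = n18878 := d37_1 D23864 (iv D18878) (iv D14801) (iv F67625) D18863
def n23865 : Q := act 6 n18865
theorem D23865 : act 6 n18865 = n23865 := rfl
theorem F107186 : act 0 n23865 = n20225 := d5_1 D23865 (iv D20225) (iv F85417)
theorem F107187 : act 1 n23865 = n23865 := d13_1 D23865 (iv D23865) F85418
theorem F107188 : act 4 n23865 = n19076 := d31_1 D23865 (iv D19076) (iv F85419)
def n23866 : Q := act 8 n18865
theorem D23866 : act 8 n18865 = n23866 := rfl
theorem F107189 : act 0 n23866 = n20226 := d7_1 D23866 (iv D20226) (iv F85417)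
theorem F107190 : act 1 n23866 = n23866 := d15_1 D23866 (iv D23866) F85418
theorem F107191 : act 4 n23866 = n19077 := d33_1 D23866 (iv D19077) (iv F85419)
theorem F107192 : act 5 n23866 = n18880 := d37_1 D23866 (iv D18880) F67675 (iv F67632) (iv F85420)
theorem F107193 : act 7 n23866 = n18866 := d42_1 D23866 (iv D18866) D18865
def n23867 : Q := act 9 n18866
theorem D23867 : act 9 n18866 = n23867 := rfl
theorem F107194 : act 0 n23867 = n20227 := d8_1 D23867 (iv D20227) (iv F85421)
theorem F107195 : act 1 n23867 = n23867 := d16_1 D23867 (iv D23867) F85422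
theorem F107196 : act 4 n23867 = n19078 := d34_1 D23867 (iv D19078) (iv F85423)
theorem F107197 : act 5 n23867 = n18881 := d38_1 D23867 (iv D18881) (iv F85424)
def n23868 : Q := act 0 n18867
theorem D23868 : act 0 n18867 = n23868 := rfl
theorem F107198 : act 1 n23868 = n20228 := d0_2 D18867 D23868 (iv D20228) (iv D15820) (iv F67633)
theorem F107199 : act 2 n23868 = n23868 := d1_2 F85425 D23868 (iv D23868)
theorem F107200 : act 4 n23868 = n18911 := d3_2 (iv F85426) D23868 (iv D18911)
theorem F107201 : act 5 n23868 = n23868 := d4_2 F85427 D23868 (iv D23868)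
theorem F107202 : act 7 n23868 = n18873 := d6_2 (iv F85428) D23868 (iv D18873)
theorem F107203 : act 9 n23868 = n23868 := d8_2 F85429 D23868 (iv D23868)
def n23869 : Q := act 6 n18867
theorem D23869 : act 6 n18867 = n23869 := rfl
theorem F107204 : act 1 n23869 = n18868 := d13_1 D23869 (iv D18868) D18867
theorem F107206 : act 4 n23869 = n18912 := d31_1 D23869 (iv D18912) (iv F85426)
def n23870 : Q := act 5 n18868
theorem D23870 : act 5 n18868 = n23870 := rfl
theorem F107208 : act 0 n23870 = n20230 := d4_1 D23870 (iv D20230) (iv F85430)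
theorem F107209 : act 2 n23870 = n18869 := d19_1 D23870 (iv D18869) (iv F85431)
def n23871 : Q := act 7 n18868
theorem D23871 : act 7 n18868 = n23871 := rfl
theorem F107212 : act 0 n23871 = n20231 := d6_1 D23871 (iv D20231) (iv F85430)
theorem F107213 : act 2 n23871 = n18870 := d21_1 D23871 (iv D18870) (iv F85431)
theorem F107214 : act 4 n23871 = n18914 := d32_1 D23871 (iv D18914) (iv F85432)
theorem F107215 : act 6 n23871 = n18876 := d39_1 D23871 (iv D18876) (iv D14800) (iv F67636) D18868
theorem F107216 : act 9 n23871 = n23871 := d43_2 F85433 D23871 (iv D23871)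
def n23872 : Q := act 4 n18869
theorem D23872 : act 4 n18869 = n23872 := rfl
theorem F107217 : act 0 n23872 = n20232 := d3_1 D23872 (iv D20232) (iv F85434)
theorem F107220 : act 5 n23872 = n18915 := d30_2 D18869 D23872 (iv D18915) (iv D14829) (iv F67641)
theorem F107223 : act 8 n22017 = n23872 := d37_0 F107220 (iv F85662) (iv D17490) (iv F77532) D22017
def n23873 : Q := act 7 n18869
theorem D23873 : act 7 n18869 = n23873 := rfl
theorem F107224 : act 0 n23873 = n20233 := d6_1 D23873 (iv D20233) (iv F85434)
theorem F107225 : act 1 n23873 = n23873 := d14_1 D23873 (iv D23873) F85435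
theorem F107226 : act 3 n23873 = n18871 := d27_1 D23873 (iv D18871) (iv F85436)
theorem F107227 : act 5 n23873 = n18870 := d36_1 D23873 (iv D18870) D18869
theorem F107228 : act 9 n23873 = n23873 := d43_2 F85438 D23873 (iv D23873)
def n23874 : Q := act 8 n18869
theorem D23874 : act 8 n18869 = n23874 := rfl
theorem F107229 : act 0 n23874 = n20234 := d7_1 D23874 (iv D20234) (iv F85434)
theorem F107230 : act 1 n23874 = n23874 := d15_1 D23874 (iv D23874) F85435
theorem F107231 : act 3 n23874 = n18872 := d28_1 D23874 (iv D18872) (iv F85436)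
theorem F107232 : act 4 n23874 = n22017 := d33_1 D23874 F107223 (iv D23872)
theorem F107233 : act 6 n23874 = n23874 := d40_1 D23874 (iv D23874) F85437
theorem F107234 : act 9 n22023 = n23874 := d34_0 F107232 F98497 D22023
def n23875 : Q := act 6 n18871
theorem D23875 : act 6 n18871 = n23875 := rfl
theorem F107235 : act 0 n23875 = n20235 := d5_1 D23875 (iv D20235) (iv F85445)
theorem F107236 : act 1 n23875 = n23875 := d13_1 D23875 (iv D23875) F85446
theorem F107237 : act 4 n23875 = n23875 := d31_1 D23875 (iv D23875) F85447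
theorem F107238 : act 5 n23875 = n18879 := d35_1 D23875 (iv D18879) F67675 (iv F67651) (iv F85448)
theorem F107239 : act 7 n23875 = n23875 := d39_2 D18871 D23875 (iv D23875) (iv D18871) F67646
theorem F107240 : act 9 n23875 = n23875 := d41_2 F85449 D23875 (iv D23875)
def n23876 : Q := act 8 n18871
theorem D23876 : act 8 n18871 = n23876 := rfl
theorem F107241 : act 0 n23876 = n20236 := d7_1 D23876 (iv D20236) (iv F85445)
theorem F107242 : act 1 n23876 = n23876 := d15_1 D23876 (iv D23876) F85446
theorem F107243 : act 4 n23876 = n23876 := d33_1 D23876 (iv D23876) F85447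
theorem F107244 : act 7 n23876 = n18872 := d42_1 D23876 (iv D18872) D18871
def n23877 : Q := act 9 n18872
theorem D23877 : act 9 n18872 = n23877 := rfl
theorem F107245 : act 0 n23877 = n20237 := d8_1 D23877 (iv D20237) (iv F85450)
theorem F107246 : act 1 n23877 = n23877 := d16_1 D23877 (iv D23877) F85451
theorem F107247 : act 3 n23877 = n22023 := d29_1 D23877 F107234 F107231
theorem F107248 : act 4 n23877 = n23877 := d34_1 D23877 (iv D23877) F85452
theorem F107249 : act 6 n23877 = n23877 := d41_1 D23877 (iv D23877) F85453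
theorem F107250 : act 8 n23877 = n23877 := d44_1 D23877 (iv D23877) (iv D18872) F67647 D18872
def n23878 : Q := act 6 n18873
theorem D23878 : act 6 n18873 = n23878 := rfl
theorem F107251 : act 0 n23878 = n18874 := d5_1 D23878 (iv D18874) D18873
theorem F107252 : act 1 n23878 = n20238 := d13_1 D23878 (iv D20238) (iv F85454)
theorem F107253 : act 2 n23878 = n23878 := d20_1 D23878 (iv D23878) F85455
theorem F107254 : act 4 n23878 = n18920 := d31_1 D23878 (iv D18920) (iv F85456)
theorem F107255 : act 9 n23878 = n23878 := d41_2 F85458 D23878 (iv D23878)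
def n23879 : Q := act 5 n18874
theorem D23879 : act 5 n18874 = n23879 := rfl
theorem F107256 : act 1 n23879 = n18875 := d12_1 D23879 (iv D18875) (iv F85459)
theorem F107257 : act 2 n23879 = n23879 := d19_1 D23879 (iv D23879) F85460
theorem F107258 : act 4 n23879 = n23879 := d30_1 D23879 (iv D23879) F85461 F67827 (iv F85461)
theorem F107259 : act 6 n23879 = n23879 := d35_2 D18874 D23879 (iv D23879) (iv D18874) F67655
theorem F107260 : act 9 n23879 = n23879 := d38_2 F85462 D23879 (iv D23879)
def n23880 : Q := act 7 n18874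
theorem D23880 : act 7 n18874 = n23880 := rfl
theorem F107261 : act 1 n23880 = n18876 := d14_1 D23880 (iv D18876) (iv F85459)
theorem F107262 : act 2 n23880 = n23880 := d21_1 D23880 (iv D23880) F85460
theorem F107263 : act 4 n23880 = n18921 := d32_1 D23880 (iv D18921) (iv F85461)
theorem F107264 : act 9 n23880 = n23880 := d43_2 F85462 D23880 (iv D23880)
def n23881 : Q := act 7 n18875
theorem D23881 : act 7 n18875 = n23881 := rfl
theorem F107265 : act 0 n23881 = n20241 := d6_1 D23881 (iv D20241) (iv F85463)
theorem F107266 : act 2 n23881 = n18877 := d21_1 D23881 (iv D18877) (iv F85464)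
theorem F107267 : act 4 n23881 = n23881 := d32_1 D23881 (iv D23881) F85465
theorem F107268 : act 5 n23881 = n18876 := d36_1 D23881 (iv D18876) D18875
theorem F107269 : act 9 n23881 = n23881 := d43_2 F85467 D23881 (iv D23881)
def n23882 : Q := act 8 n18875
theorem D23882 : act 8 n18875 = n23882 := rfl
theorem F107270 : act 0 n23882 = n20242 := d7_1 D23882 (iv D20242) (iv F85463)
theorem F107271 : act 2 n23882 = n18878 := d22_1 D23882 (iv D18878) (iv F85464)
theorem F107272 : act 4 n23882 = n23882 := d33_1 D23882 (iv D23882) F85465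
theorem F107273 : act 6 n23882 = n23882 := d40_1 D23882 (iv D23882) F85466
def n23883 : Q := act 6 n18877
theorem D23883 : act 6 n18877 = n23883 := rfl
theorem F107274 : act 0 n23883 = n20243 := d5_1 D23883 (iv D20243) (iv F85472)
theorem F107275 : act 1 n23883 = n23883 := d13_1 D23883 (iv D23883) F85473
theorem F107276 : act 3 n23883 = n18879 := d26_1 D23883 (iv D18879) (iv F85474)
theorem F107277 : act 4 n23883 = n23883 := d31_1 D23883 (iv D23883) F85475
theorem F107278 : act 7 n23883 = n23883 := d39_2 D18877 D23883 (iv D23883) (iv D18877) F67665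
theorem F107279 : act 9 n23883 = n23883 := d41_2 F85477 D23883 (iv D23883)
def n23884 : Q := act 8 n18877
theorem D23884 : act 8 n18877 = n23884 := rfl
theorem F107280 : act 0 n23884 = n20244 := d7_1 D23884 (iv D20244) (iv F85472)
theorem F107281 : act 1 n23884 = n23884 := d15_1 D23884 (iv D23884) F85473
theorem F107282 : act 3 n23884 = n18880 := d28_1 D23884 (iv D18880) (iv F85474)
theorem F107283 : act 4 n23884 = n23884 := d33_1 D23884 (iv D23884) F85475
theorem F107284 : act 7 n23884 = n18878 := d42_1 D23884 (iv D18878) D18877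
def n23885 : Q := act 9 n18878
theorem D23885 : act 9 n18878 = n23885 := rfl
theorem F107285 : act 0 n23885 = n20245 := d8_1 D23885 (iv D20245) (iv F85478)
theorem F107286 : act 1 n23885 = n23885 := d16_1 D23885 (iv D23885) F85479
theorem F107287 : act 3 n23885 = n18881 := d29_1 D23885 (iv D18881) (iv F85480)
theorem F107288 : act 4 n23885 = n23885 := d34_1 D23885 (iv D23885) F85481
theorem F107289 : act 6 n23885 = n23885 := d41_1 D23885 (iv D23885) F85482
theorem F107290 : act 8 n23885 = n23885 := d44_1 D23885 (iv D23885) (iv D18878) F67666 D18878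
def n23886 : Q := act 8 n18879
theorem D23886 : act 8 n18879 = n23886 := rfl
theorem F107291 : act 0 n23886 = n20246 := d7_1 D23886 (iv D20246) (iv F85483)
theorem F107292 : act 1 n23886 = n23886 := d15_1 D23886 (iv D23886) F85484
theorem F107293 : act 4 n23886 = n18882 := d33_1 D23886 (iv D18882) (iv F85485)
theorem F107294 : act 6 n23886 = n18880 := d40_1 D23886 (iv D18880) D18879
theorem F107295 : act 7 n23886 = n23886 := d42_1 D23886 (iv D23886) F85486
def n23887 : Q := act 9 n18880
theorem D23887 : act 9 n18880 = n23887 := rfl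
theorem F107296 : act 0 n23887 = n20247 := d8_1 D23887 (iv D20247) (iv F85488)
theorem F107297 : act 1 n23887 = n23887 := d16_1 D23887 (iv D23887) F85489
theorem F107298 : act 4 n23887 = n18883 := d34_1 D23887 (iv D18883) (iv F85490)
theorem F107299 : act 7 n23887 = n18881 := d43_1 D23887 (iv D18881) (iv F85491)
theorem F107300 : act 8 n23887 = n23887 := d44_1 D23887 (iv D23887) (iv D18880) F67676 D18880
def n23888 : Q := act 5 n18882
theorem D23888 : act 5 n18882 = n23888 := rfl
theorem F107301 : act 0 n23888 = n20248 := d4_1 D23888 (iv D20248) (iv F85497)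
theorem F107302 : act 1 n23888 = n23888 := d12_1 D23888 (iv D23888) F85498
theorem F107303 : act 3 n23888 = n23888 := d25_1 D23888 (iv D23888) F85499
theorem F107304 : act 6 n23888 = n19099 := d35_2 (iv F85500) D23888 (iv D19099) F68419 (iv F67690)
theorem F107305 : act 7 n23888 = n23888 := d36_2 F85501 D23888 (iv D23888)
theorem F107306 : act 8 n23888 = n23888 := d37_2 D18882 D23888 (iv D23888) (iv D18882) F67684
def n23889 : Q := act 9 n18882
theorem D23889 : act 9 n18882 = n23889 := rfl
theorem F107307 : act 0 n23889 = n20249 := d8_1 D23889 (iv D20249) (iv F85497)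
theorem F107308 : act 1 n23889 = n23889 := d16_1 D23889 (iv D23889) F85498
theorem F107309 : act 3 n23889 = n23889 := d29_1 D23889 (iv D23889) F85499
theorem F107310 : act 6 n23889 = n18883 := d41_1 D23889 (iv D18883) (iv F85500)
theorem F107311 : act 7 n23889 = n23889 := d43_1 D23889 (iv D23889) F85501
theorem F107312 : act 8 n23889 = n23889 := d44_1 D23889 (iv D23889) (iv D18882) F67686 D18882
def n23890 : Q := act 1 n18884
theorem D23890 : act 1 n18884 = n23890 := rfl
theorem F107313 : act 2 n23890 = n23890 := d9_2 D18884 D23890 (iv D23890) (iv D18884) F67699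
theorem F107314 : act 3 n23890 = n20256 := d10_2 (iv F85509) D23890 (iv D20256)
theorem F107315 : act 5 n23890 = n23890 := d12_2 F85510 D23890 (iv D23890)
theorem F107316 : act 7 n23890 = n19101 := d14_2 (iv F85511) D23890 (iv D19101)
theorem F107317 : act 8 n23890 = n23890 := d15_2 F85512 D23890 (iv D23890)
theorem F107318 : act 9 n23890 = n19894 := d16_2 (iv F85513) D23890 (iv D19894)
def n23891 : Q := act 6 n18884
theorem D23891 : act 6 n18884 = n23891 := rfl
theorem F107319 : act 0 n23891 = n20251 := d5_1 D23891 (iv D20251) (iv F85508)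
theorem F107320 : act 2 n23891 = n18885 := d20_1 D23891 (iv D18885) D18884
theorem F107321 : act 3 n23891 = n20257 := d26_1 D23891 (iv D20257) (iv F85509)
theorem F107322 : act 8 n23891 = n23891 := d40_2 F85512 D23891 (iv D23891)
theorem F107323 : act 9 n23891 = n19895 := d41_2 (iv F85513) D23891 (iv D19895)
def n23892 : Q := act 5 n18885
theorem D23892 : act 5 n18885 = n23892 := rfl
theorem F107324 : act 0 n23892 = n20252 := d4_1 D23892 (iv D20252) (iv F85514)
theorem F107325 : act 1 n23892 = n23892 := d12_1 D23892 (iv D23892) F85515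
theorem F107326 : act 3 n23892 = n18886 := d25_1 D23892 (iv D18886) (iv F85516)
theorem F107327 : act 6 n23892 = n23892 := d35_2 D18885 D23892 (iv D23892) (iv D18885) F67700
theorem F107328 : act 9 n23892 = n19896 := d38_2 (iv F85518) D23892 (iv D19896)
def n23893 : Q := act 7 n18885
theorem D23893 : act 7 n18885 = n23893 := rfl
theorem F107329 : act 0 n23893 = n20253 := d6_1 D23893 (iv D20253) (iv F85514)
theorem F107330 : act 1 n23893 = n23893 := d14_1 D23893 (iv D23893) F85515
theorem F107331 : act 3 n23893 = n18887 := d27_1 D23893 (iv D18887) (iv F85516)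
theorem F107332 : act 6 n23893 = n19104 := d39_1 D23893 (iv D19104) (iv D14963) (iv F67701) D18885
theorem F107333 : act 8 n23893 = n23893 := d42_2 F85517 D23893 (iv D23893)
theorem F107334 : act 9 n23893 = n19897 := d43_2 (iv F85518) D23893 (iv D19897)
def n23894 : Q := act 7 n18886
theorem D23894 : act 7 n18886 = n23894 := rfl
theorem F107335 : act 0 n23894 = n20254 := d6_1 D23894 (iv D20254) (iv F85519)
theorem F107336 : act 1 n23894 = n23894 := d14_1 D23894 (iv D23894) F85520
theorem F107337 : act 2 n23894 = n20260 := d21_1 D23894 (iv D20260) (iv F85521)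
theorem F107338 : act 4 n23894 = n18896 := d32_1 D23894 (iv D18896) (iv F85522)
theorem F107339 : act 5 n23894 = n18887 := d36_1 D23894 (iv D18887) D18886
theorem F107340 : act 9 n23894 = n19898 := d43_2 (iv F85524) D23894 (iv D19898)
def n23895 : Q := act 8 n18886
theorem D23895 : act 8 n18886 = n23895 := rfl
theorem F107341 : act 0 n23895 = n20255 := d7_1 D23895 (iv D20255) (iv F85519)
theorem F107342 : act 1 n23895 = n23895 := d15_1 D23895 (iv D23895) F85520
theorem F107343 : act 2 n23895 = n20261 := d22_1 D23895 (iv D20261) (iv F85521)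
theorem F107344 : act 4 n23895 = n18897 := d33_1 D23895 (iv D18897) (iv F85522)
theorem F107345 : act 5 n23895 = n23895 := d37_1 D23895 (iv D23895) (iv D18886) F67708 D18886
theorem F107346 : act 6 n23895 = n23895 := d40_1 D23895 (iv D23895) F85523
def n23896 : Q := act 1 n18888
theorem D23896 : act 1 n18888 = n23896 := rfl
theorem F107347 : act 2 n23896 = n23896 := d9_2 D18888 D23896 (iv D23896) (iv D18888) F67718
theorem F107348 : act 3 n23896 = n20250 := d10_2 (iv F85533) D23896 (iv D20250)
theorem F107349 : act 5 n23896 = n23896 := d12_2 F85534 D23896 (iv D23896)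
theorem F107350 : act 7 n23896 = n18898 := d14_2 (iv F85535) D23896 (iv D18898)
theorem F107351 : act 8 n23896 = n23896 := d15_2 F85536 D23896 (iv D23896)
theorem F107352 : act 9 n23896 = n18892 := d16_2 (iv F85537) D23896 (iv D18892)
def n23897 : Q := act 6 n18888
theorem D23897 : act 6 n18888 = n23897 := rfl
theorem F107353 : act 0 n23897 = n20257 := d5_1 D23897 (iv D20257) (iv F85532)
theorem F107354 : act 2 n23897 = n18889 := d20_1 D23897 (iv D18889) D18888
theorem F107355 : act 3 n23897 = n20251 := d26_1 D23897 (iv D20251) (iv F85533)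
theorem F107356 : act 8 n23897 = n23897 := d40_2 F85536 D23897 (iv D23897)
theorem F107357 : act 9 n23897 = n18893 := d41_2 (iv F85537) D23897 (iv D18893)
def n23898 : Q := act 5 n18889
theorem D23898 : act 5 n18889 = n23898 := rfl
theorem F107358 : act 0 n23898 = n20258 := d4_1 D23898 (iv D20258) (iv F85538)
theorem F107359 : act 1 n23898 = n23898 := d12_1 D23898 (iv D23898) F85539
theorem F107360 : act 3 n23898 = n18890 := d25_1 D23898 (iv D18890) (iv F85540)
theorem F107361 : act 6 n23898 = n23898 := d35_2 D18889 D23898 (iv D23898) (iv D18889) F67719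
theorem F107362 : act 9 n23898 = n18894 := d38_2 (iv F85542) D23898 (iv D18894)
def n23899 : Q := act 7 n18889
theorem D23899 : act 7 n18889 = n23899 := rfl
theorem F107363 : act 0 n23899 = n20259 := d6_1 D23899 (iv D20259) (iv F85538)
theorem F107364 : act 1 n23899 = n23899 := d14_1 D23899 (iv D23899) F85539
theorem F107365 : act 3 n23899 = n18891 := d27_1 D23899 (iv D18891) (iv F85540)
theorem F107366 : act 6 n23899 = n18901 := d39_1 D23899 (iv D18901) (iv D14819) (iv F67720) D18889
theorem F107367 : act 8 n23899 = n23899 := d42_2 F85541 D23899 (iv D23899)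
theorem F107368 : act 9 n23899 = n18895 := d43_2 (iv F85542) D23899 (iv D18895)
def n23900 : Q := act 7 n18890
theorem D23900 : act 7 n18890 = n23900 := rfl
theorem F107369 : act 0 n23900 = n20260 := d6_1 D23900 (iv D20260) (iv F85543)
theorem F107370 : act 1 n23900 = n23900 := d14_1 D23900 (iv D23900) F85544
theorem F107371 : act 2 n23900 = n20254 := d21_1 D23900 (iv D20254) (iv F85545)
theorem F107372 : act 4 n23900 = n19898 := d32_1 D23900 (iv D19898) (iv F85546)
theorem F107373 : act 5 n23900 = n18891 := d36_1 D23900 (iv D18891) D18890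
theorem F107374 : act 9 n23900 = n18896 := d43_2 (iv F85548) D23900 (iv D18896)
def n23901 : Q := act 8 n18890
theorem D23901 : act 8 n18890 = n23901 := rfl
theorem F107375 : act 0 n23901 = n20261 := d7_1 D23901 (iv D20261) (iv F85543)
theorem F107376 : act 1 n23901 = n23901 := d15_1 D23901 (iv D23901) F85544
theorem F107377 : act 2 n23901 = n20255 := d22_1 D23901 (iv D20255) (iv F85545)
theorem F107378 : act 4 n23901 = n19899 := d33_1 D23901 (iv D19899) (iv F85546)
theorem F107379 : act 5 n23901 = n23901 := d37_1 D23901 (iv D23901) (iv D18890) F67727 D18890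
theorem F107380 : act 6 n23901 = n23901 := d40_1 D23901 (iv D23901) F85547
def n23902 : Q := act 0 n18892
theorem D23902 : act 0 n18892 = n23902 := rfl
theorem F107381 : act 1 n23902 = n20262 := d0_2 D18892 D23902 (iv D20262) (iv D15845) (iv F67736)
theorem F107382 : act 2 n23902 = n23902 := d1_2 F85556 D23902 (iv D23902)
theorem F107383 : act 5 n23902 = n23902 := d4_2 F85557 D23902 (iv D23902)
theorem F107384 : act 7 n23902 = n18904 := d6_2 (iv F85558) D23902 (iv D18904)
theorem F107385 : act 8 n23902 = n18911 := d7_2 (iv F85559) D23902 (iv D18911)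
def n23903 : Q := act 6 n18892
theorem D23903 : act 6 n18892 = n23903 := rfl
theorem F107386 : act 1 n23903 = n18893 := d13_1 D23903 (iv D18893) D18892
theorem F107388 : act 8 n23903 = n18912 := d40_2 (iv F85559) D23903 (iv D18912)
def n23904 : Q := act 5 n18893
theorem D23904 : act 5 n18893 = n23904 := rfl
theorem F107389 : act 0 n23904 = n20264 := d4_1 D23904 (iv D20264) (iv F85560)
theorem F107390 : act 2 n23904 = n18894 := d19_1 D23904 (iv D18894) (iv F85561)
def n23905 : Q := act 7 n18893
theorem D23905 : act 7 n18893 = n23905 := rfl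
theorem F107392 : act 0 n23905 = n20265 := d6_1 D23905 (iv D20265) (iv F85560)
theorem F107393 : act 2 n23905 = n18895 := d21_1 D23905 (iv D18895) (iv F85561)
theorem F107394 : act 6 n23905 = n18907 := d39_1 D23905 (iv D18907) (iv D14823) (iv F67738) D18893
theorem F107395 : act 8 n23905 = n18914 := d42_2 (iv F85562) D23905 (iv D18914)
def n23906 : Q := act 4 n18894
theorem D23906 : act 4 n18894 = n23906 := rfl
theorem F107396 : act 0 n23906 = n20266 := d3_1 D23906 (iv D20266) (iv F85563)
theorem F107397 : act 1 n23906 = n23906 := d11_1 D23906 (iv D23906) F85564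
theorem F107398 : act 6 n23906 = n23906 := d31_2 F85566 D23906 (iv D23906)
theorem F107399 : act 8 n22311 = n23906 := d7_0 F107396 (iv F91659) (iv F99730)
def n23907 : Q := act 7 n18894
theorem D23907 : act 7 n18894 = n23907 := rfl
theorem F107400 : act 0 n23907 = n20267 := d6_1 D23907 (iv D20267) (iv F85563)
theorem F107401 : act 1 n23907 = n23907 := d14_1 D23907 (iv D23907) F85564
theorem F107402 : act 3 n23907 = n18896 := d27_1 D23907 (iv D18896) (iv F85565)
theorem F107403 : act 5 n23907 = n18895 := d36_1 D23907 (iv D18895) D18894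
def n23908 : Q := act 8 n18894
theorem D23908 : act 8 n18894 = n23908 := rfl
theorem F107404 : act 0 n23908 = n20268 := d7_1 D23908 (iv D20268) (iv F85563)
theorem F107406 : act 3 n23908 = n18897 := d28_1 D23908 (iv D18897) (iv F85565)
theorem F107407 : act 4 n23908 = n22311 := d33_1 D23908 F107399 (iv D23906)
theorem F107408 : act 5 n23908 = n18917 := d37_1 D23908 (iv D18917) (iv D14829) (iv F67743) D18894
theorem F107410 : act 9 n22320 = n23908 := d38_0 F107408 (iv F85674) (iv F99768)
def n23909 : Q := act 6 n18896
theorem D23909 : act 6 n18896 = n23909 := rfl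
theorem F107411 : act 0 n23909 = n20269 := d5_1 D23909 (iv D20269) (iv F85572)
theorem F107412 : act 1 n23909 = n23909 := d13_1 D23909 (iv D23909) F85573
theorem F107413 : act 5 n23909 = n18910 := d35_1 D23909 (iv D18910) F67792 (iv F67750) (iv F85574)
theorem F107414 : act 7 n23909 = n23909 := d39_2 D18896 D23909 (iv D23909) (iv D18896) F67746
def n23910 : Q := act 8 n18896
theorem D23910 : act 8 n18896 = n23910 := rfl
theorem F107415 : act 0 n23910 = n20270 := d7_1 D23910 (iv D20270) (iv F85572)
theorem F107416 : act 1 n23910 = n23910 := d15_1 D23910 (iv D23910) F85573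
theorem F107417 : act 5 n23910 = n18918 := d37_1 D23910 (iv D18918) F67814 (iv F67751) (iv F85574)
theorem F107418 : act 7 n23910 = n18897 := d42_1 D23910 (iv D18897) D18896
def n23911 : Q := act 9 n18897
theorem D23911 : act 9 n18897 = n23911 := rfl
theorem F107419 : act 0 n23911 = n20271 := d8_1 D23911 (iv D20271) (iv F85575)
theorem F107422 : act 5 n23911 = n18919 := d38_1 D23911 (iv D18919) (iv F85577)
def n23912 : Q := act 0 n18898
theorem D23912 : act 0 n18898 = n23912 := rfl
theorem F107424 : act 1 n23912 = n20272 := d0_2 D18898 D23912 (iv D20272) (iv D15851) (iv F67752)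
theorem F107425 : act 2 n23912 = n23912 := d1_2 F85579 D23912 (iv D23912)
theorem F107426 : act 3 n23912 = n20537 := d2_2 (iv F85580) D23912 (iv D20537)
theorem F107427 : act 5 n23912 = n23912 := d4_2 F85581 D23912 (iv D23912)
theorem F107428 : act 8 n23912 = n23912 := d7_2 F85582 D23912 (iv D23912)
theorem F107429 : act 9 n23912 = n18904 := d8_2 (iv F85583) D23912 (iv D18904)
def n23913 : Q := act 6 n18898
theorem D23913 : act 6 n18898 = n23913 := rfl
theorem F107430 : act 1 n23913 = n18899 := d13_1 D23913 (iv D18899) D18898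
theorem F107431 : act 2 n23913 = n23913 := d20_1 D23913 (iv D23913) F85579
theorem F107432 : act 3 n23913 = n20538 := d26_1 D23913 (iv D20538) (iv F85580)
theorem F107433 : act 8 n23913 = n23913 := d40_2 F85582 D23913 (iv D23913)
theorem F107434 : act 9 n23913 = n18905 := d41_2 (iv F85583) D23913 (iv D18905)
def n23914 : Q := act 5 n18899
theorem D23914 : act 5 n18899 = n23914 := rfl
theorem F107435 : act 0 n23914 = n20274 := d4_1 D23914 (iv D20274) (iv F85584)
theorem F107436 : act 2 n23914 = n18900 := d19_1 D23914 (iv D18900) (iv F85585)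
theorem F107437 : act 3 n23914 = n20539 := d25_1 D23914 (iv D20539) (iv F85586)
theorem F107438 : act 6 n23914 = n23914 := d35_2 D18899 D23914 (iv D23914) (iv D18899) F67754
theorem F107439 : act 9 n23914 = n18906 := d38_2 (iv F85588) D23914 (iv D18906)
def n23915 : Q := act 7 n18899
theorem D23915 : act 7 n18899 = n23915 := rfl
theorem F107440 : act 0 n23915 = n20275 := d6_1 D23915 (iv D20275) (iv F85584)
theorem F107441 : act 2 n23915 = n18901 := d21_1 D23915 (iv D18901) (iv F85585)
theorem F107442 : act 3 n23915 = n20540 := d27_1 D23915 (iv D20540) (iv F85586)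
theorem F107443 : act 8 n23915 = n23915 := d42_2 F85587 D23915 (iv D23915)
theorem F107444 : act 9 n23915 = n18907 := d43_2 (iv F85588) D23915 (iv D18907)
def n23916 : Q := act 4 n18900
theorem D23916 : act 4 n18900 = n23916 := rfl
theorem F107445 : act 0 n23916 = n20276 := d3_1 D23916 (iv D20276) (iv F85589)
theorem F107446 : act 1 n23916 = n23916 := d11_1 D23916 (iv D23916) F85590
theorem F107447 : act 3 n23916 = n19120 := d24_1 D23916 (iv D19120) F68494 (iv F67765) (iv F85591)
theorem F107448 : act 6 n23916 = n23916 := d31_2 F85592 D23916 (iv D23916)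
theorem F107449 : act 9 n23916 = n18908 := d34_2 (iv F85593) D23916 (iv D18908)
def n23917 : Q := act 7 n18900
theorem D23917 : act 7 n18900 = n23917 := rfl
theorem F107450 : act 0 n23917 = n20277 := d6_1 D23917 (iv D20277) (iv F85589)
theorem F107451 : act 1 n23917 = n23917 := d14_1 D23917 (iv D23917) F85590
theorem F107452 : act 3 n23917 = n18902 := d27_1 D23917 (iv D18902) (iv F85591)
theorem F107453 : act 5 n23917 = n18901 := d36_1 D23917 (iv D18901) D18900
theorem F107454 : act 9 n23917 = n18909 := d43_2 (iv F85593) D23917 (iv D18909)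
def n23918 : Q := act 8 n18900
theorem D23918 : act 8 n18900 = n23918 := rfl
theorem F107455 : act 0 n23918 = n20278 := d7_1 D23918 (iv D20278) (iv F85589)
theorem F107456 : act 1 n23918 = n23918 := d15_1 D23918 (iv D23918) F85590
theorem F107457 : act 3 n23918 = n18903 := d28_1 D23918 (iv D18903) (iv F85591)
theorem F107458 : act 5 n23918 = n23918 := d37_1 D23918 (iv D23918) (iv D18900) F67760 D18900
theorem F107459 : act 6 n23918 = n23918 := d40_1 D23918 (iv D23918) F85592
theorem F107460 : act 9 n23918 = n23918 := d44_2 (iv F85593) D23918 (iv D23918) F85593 F67784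
def n23919 : Q := act 6 n18902
theorem D23919 : act 6 n18902 = n23919 := rfl
theorem F107461 : act 0 n23919 = n20279 := d5_1 D23919 (iv D20279) (iv F85599)
theorem F107462 : act 1 n23919 = n23919 := d13_1 D23919 (iv D23919) F85600
theorem F107463 : act 2 n23919 = n20544 := d20_1 D23919 (iv D20544) (iv F85601)
theorem F107464 : act 4 n23919 = n19123 := d31_1 D23919 (iv D19123) (iv F85602)
theorem F107465 : act 7 n23919 = n23919 := d39_2 D18902 D23919 (iv D23919) (iv D18902) F67766
theorem F107466 : act 9 n23919 = n18910 := d41_2 (iv F85604) D23919 (iv D18910)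
def n23920 : Q := act 8 n18902
theorem D23920 : act 8 n18902 = n23920 := rfl
theorem F107467 : act 0 n23920 = n20280 := d7_1 D23920 (iv D20280) (iv F85599)
theorem F107468 : act 1 n23920 = n23920 := d15_1 D23920 (iv D23920) F85600
theorem F107469 : act 2 n23920 = n20545 := d22_1 D23920 (iv D20545) (iv F85601)
theorem F107470 : act 4 n23920 = n19124 := d33_1 D23920 (iv D19124) (iv F85602)
theorem F107471 : act 5 n23920 = n23920 := d37_1 D23920 (iv D23920) F85603 F67772 (iv F85603)
theorem F107472 : act 7 n23920 = n18903 := d42_1 D23920 (iv D18903) D18902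
theorem F107473 : act 9 n23920 = n23920 := d44_2 (iv F85604) D23920 (iv D23920) F85604 F67793
def n23921 : Q := act 6 n18904
theorem D23921 : act 6 n18904 = n23921 := rfl
theorem F107474 : act 0 n23921 = n18905 := d5_1 D23921 (iv D18905) D18904
theorem F107475 : act 1 n23921 = n20281 := d13_1 D23921 (iv D20281) (iv F85612)
theorem F107476 : act 2 n23921 = n23921 := d20_1 D23921 (iv D23921) F85613
theorem F107477 : act 8 n23921 = n18920 := d40_2 (iv F85615) D23921 (iv D18920)
def n23922 : Q := act 5 n18905
theorem D23922 : act 5 n18905 = n23922 := rfl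
theorem F107478 : act 1 n23922 = n18906 := d12_1 D23922 (iv D18906) (iv F85616)
theorem F107479 : act 2 n23922 = n23922 := d19_1 D23922 (iv D23922) F85617
theorem F107480 : act 6 n23922 = n23922 := d35_2 D18905 D23922 (iv D23922) (iv D18905) F67775
theorem F107481 : act 8 n23922 = n23922 := d37_2 (iv F85618) D23922 (iv D23922) F85618 F67827
def n23923 : Q := act 7 n18905
theorem D23923 : act 7 n18905 = n23923 := rfl
theorem F107482 : act 1 n23923 = n18907 := d14_1 D23923 (iv D18907) (iv F85616)
theorem F107483 : act 2 n23923 = n23923 := d21_1 D23923 (iv D23923) F85617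
theorem F107484 : act 8 n23923 = n18921 := d42_2 (iv F85618) D23923 (iv D18921)
def n23924 : Q := act 4 n18906
theorem D23924 : act 4 n18906 = n23924 := rfl
theorem F107485 : act 0 n23924 = n20284 := d3_1 D23924 (iv D20284) (iv F85619)
theorem F107486 : act 2 n23924 = n18908 := d18_1 D23924 (iv D18908) (iv F85620)
theorem F107487 : act 6 n23924 = n23924 := d31_2 F85621 D23924 (iv D23924)
theorem F107488 : act 8 n23924 = n23924 := d33_2 F85622 D23924 (iv D23924)
def n23925 : Q := act 7 n18906
theorem D23925 : act 7 n18906 = n23925 := rfl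
theorem F107489 : act 0 n23925 = n20285 := d6_1 D23925 (iv D20285) (iv F85619)
theorem F107490 : act 2 n23925 = n18909 := d21_1 D23925 (iv D18909) (iv F85620)
theorem F107491 : act 5 n23925 = n18907 := d36_1 D23925 (iv D18907) D18906
theorem F107492 : act 8 n23925 = n23925 := d42_2 F85622 D23925 (iv D23925)
def n23926 : Q := act 7 n18908
theorem D23926 : act 7 n18908 = n23926 := rfl
theorem F107493 : act 0 n23926 = n20286 := d6_1 D23926 (iv D20286) (iv F85626)
theorem F107494 : act 1 n23926 = n23926 := d14_1 D23926 (iv D23926) F85627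
theorem F107495 : act 3 n23926 = n19130 := d27_1 D23926 (iv D19130) (iv F85628)
theorem F107496 : act 4 n23926 = n18909 := d32_1 D23926 (iv D18909) D18908
theorem F107497 : act 8 n23926 = n23926 := d42_2 F85630 D23926 (iv D23926)
def n23927 : Q := act 6 n18909
theorem D23927 : act 6 n18909 = n23927 := rfl
theorem F107498 : act 0 n23927 = n20287 := d5_1 D23927 (iv D20287) (iv F85631)
theorem F107499 : act 1 n23927 = n23927 := d13_1 D23927 (iv D23927) F85632
theorem F107500 : act 3 n23927 = n18910 := d26_1 D23927 (iv D18910) (iv F85633)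
theorem F107501 : act 7 n23927 = n23927 := d39_2 D18909 D23927 (iv D23927) (iv D18909) F67783
theorem F107502 : act 8 n23927 = n23927 := d40_2 F85635 D23927 (iv D23927)
def n23928 : Q := act 6 n18911
theorem D23928 : act 6 n18911 = n23928 := rfl
theorem F107504 : act 1 n23928 = n20288 := d13_1 D23928 (iv D20288) (iv F85641)
def n23929 : Q := act 5 n18912
theorem D23929 : act 5 n18912 = n23929 := rfl
theorem F107507 : act 1 n23929 = n18913 := d12_1 D23929 (iv D18913) (iv F85646)
def n23930 : Q := act 7 n18912
theorem D23930 : act 7 n18912 = n23930 := rfl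
theorem F107511 : act 1 n23930 = n18914 := d14_1 D23930 (iv D18914) (iv F85646)
theorem F107513 : act 6 n23930 = n18921 := d39_1 D23930 (iv D18921) (iv D14834) (iv F67796) D18912
def n23931 : Q := act 4 n18913
theorem D23931 : act 4 n18913 = n23931 := rfl
theorem F107515 : act 0 n23931 = n20291 := d3_1 D23931 (iv D20291) (iv F85649)
theorem F107517 : act 6 n23931 = n18924 := d31_2 (iv F85651) D23931 (iv D18924)
theorem F107519 : act 8 n20812 = n23931 := d40_0 F107517 (iv F85711) (iv F93588)
def n23932 : Q := act 7 n18913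
theorem D23932 : act 7 n18913 = n23932 := rfl
theorem F107520 : act 0 n23932 = n20292 := d6_1 D23932 (iv D20292) (iv F85649)
theorem F107521 : act 2 n23932 = n18916 := d21_1 D23932 (iv D18916) (iv F85650)
theorem F107522 : act 5 n23932 = n18914 := d36_1 D23932 (iv D18914) D18913
def n23933 : Q := act 8 n18913
theorem D23933 : act 8 n18913 = n23933 := rfl
theorem F107525 : act 0 n23933 = n20293 := d7_1 D23933 (iv D20293) (iv F85649)
theorem F107528 : act 6 n23933 = n18925 := d40_1 D23933 (iv D18925) (iv F85651)
theorem F107529 : act 9 n20819 = n23933 := d41_0 F107528 (iv F85717) (iv F93618)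
def n23934 : Q := act 7 n18915
theorem D23934 : act 7 n18915 = n23934 := rfl
theorem F107530 : act 0 n23934 = n20294 := d6_1 D23934 (iv D20294) (iv F85657)
theorem F107533 : act 4 n23934 = n18916 := d32_1 D23934 (iv D18916) D18915
theorem F107535 : act 8 n23934 = n22370 := d42_2 F85662 D23934 (iv D22370)
def n23935 : Q := act 8 n18916
theorem D23935 : act 8 n18916 = n23935 := rfl
theorem F107537 : act 0 n23935 = n20295 := d7_1 D23935 (iv D20295) (iv F85663)
theorem F107539 : act 3 n23935 = n18918 := d28_1 D23935 (iv D18918) (iv F85665)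
theorem F107542 : act 7 n23935 = n18917 := d42_1 D23935 (iv D18917) D18916
theorem F107543 : act 9 n22371 = n23935 := d43_0 F107542 (iv F85674) D22371
def n23936 : Q := act 9 n18918
theorem D23936 : act 9 n18918 = n23936 := rfl
theorem F107544 : act 0 n23936 = n20296 := d8_1 D23936 (iv D20296) (iv F85675)
theorem F107549 : act 7 n23936 = n18919 := d43_1 D23936 (iv D18919) (iv F85679)
def n23937 : Q := act 7 n18920
theorem D23937 : act 7 n18920 = n23937 := rfl
theorem F107551 : act 0 n23937 = n18921 := d6_1 D23937 (iv D18921) (iv F85686)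
theorem F107552 : act 1 n23937 = n20297 := d14_1 D23937 (iv D20297) (iv F85687)
theorem F107553 : act 2 n23937 = n23937 := d21_1 D23937 (iv D23937) F85688
theorem F107554 : act 5 n23937 = n23937 := d36_1 D23937 (iv D23937) F85689
theorem F107555 : act 9 n23937 = n23937 := d43_2 F85690 D23937 (iv D23937)
def n23938 : Q := act 5 n18922
theorem D23938 : act 5 n18922 = n23938 := rfl
theorem F107557 : act 1 n23938 = n19333 := d12_1 D23938 (iv F87640) (iv F85696)
theorem F107562 : act 8 n19330 = n23938 := d15_0 F107557 (iv D19333) (iv F87618)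
def n23939 : Q := act 4 n18923
theorem D23939 : act 4 n18923 = n23939 := rfl
theorem F107564 : act 1 n23939 = n18924 := d11_1 D23939 (iv D18924) (iv F85702)
def n23942 : Q := act 3 n18926
theorem D23942 : act 3 n18926 = n23942 := rfl
theorem F107585 : act 0 n23942 = n18950 := d2_1 D23942 (iv D18950) (iv F85718)
theorem F107586 : act 1 n23942 = n19840 := d10_1 D23942 (iv D19840) (iv F85719)
theorem F107587 : act 4 n23942 = n20109 := d24_2 D18926 D23942 (iv D20109) (iv D15738) (iv F67873)
theorem F107588 : act 5 n23942 = n18932 := d25_2 (iv F85721) D23942 (iv D18932)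
theorem F107589 : act 7 n23942 = n19825 := d27_2 (iv F85722) D23942 (iv D19825)
theorem F107590 : act 8 n23942 = n19336 := d28_2 (iv F85723) D23942 (iv D19336)
theorem F107591 : act 9 n23942 = n20137 := d29_2 (iv F85724) D23942 (iv D20137)
def n23943 : Q := act 6 n18926
theorem D23943 : act 6 n18926 = n23943 := rfl
theorem F107592 : act 0 n23943 = n18951 := d5_1 D23943 (iv D18951) (iv F85718)
theorem F107593 : act 1 n23943 = n19841 := d13_1 D23943 (iv D19841) (iv F85719)
theorem F107594 : act 2 n23943 = n23943 := d20_1 D23943 (iv D23943) F85720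
theorem F107595 : act 4 n23943 = n18927 := d31_1 D23943 (iv D18927) D18926
theorem F107596 : act 8 n23943 = n19337 := d40_2 (iv F85723) D23943 (iv D19337)
theorem F107597 : act 9 n23943 = n20138 := d41_2 (iv F85724) D23943 (iv D20138)
def n23944 : Q := act 7 n18927
theorem D23944 : act 7 n18927 = n23944 := rfl
theorem F107598 : act 0 n23944 = n18952 := d6_1 D23944 (iv D18952) (iv F85725)
theorem F107599 : act 1 n23944 = n19842 := d14_1 D23944 (iv D19842) (iv F85726)
theorem F107600 : act 2 n23944 = n23944 := d21_1 D23944 (iv D23944) F85727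
theorem F107601 : act 3 n23944 = n20111 := d27_1 D23944 (iv D20111) (iv F85728)
theorem F107602 : act 5 n23944 = n20370 := d36_1 D23944 (iv D20370) (iv F85729)
theorem F107603 : act 6 n23944 = n19827 := d39_1 D23944 (iv D19827) (iv D15526) (iv F67874) D18927
theorem F107604 : act 8 n23944 = n19338 := d42_2 (iv F85730) D23944 (iv D19338)
theorem F107605 : act 9 n23944 = n20139 := d43_2 (iv F85731) D23944 (iv D20139)
def n23945 : Q := act 3 n18928
theorem D23945 : act 3 n18928 = n23945 := rfl
theorem F107606 : act 0 n23945 = n18955 := d2_1 D23945 (iv D18955) (iv F85732)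
theorem F107607 : act 1 n23945 = n19837 := d10_1 D23945 (iv D19837) (iv F85733)
theorem F107608 : act 4 n23945 = n20298 := d24_2 D18928 D23945 (iv D20298) (iv D15879) (iv F67880)
theorem F107609 : act 5 n23945 = n19825 := d25_2 (iv F85735) D23945 (iv D19825)
theorem F107610 : act 7 n23945 = n18932 := d27_2 (iv F85736) D23945 (iv D18932)
theorem F107611 : act 8 n23945 = n18935 := d28_2 (iv F85737) D23945 (iv D18935)
theorem F107612 : act 9 n23945 = n19924 := d29_2 (iv F85738) D23945 (iv D19924)
def n23946 : Q := act 6 n18928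
theorem D23946 : act 6 n18928 = n23946 := rfl
theorem F107613 : act 0 n23946 = n18956 := d5_1 D23946 (iv D18956) (iv F85732)
theorem F107614 : act 1 n23946 = n19838 := d13_1 D23946 (iv D19838) (iv F85733)
theorem F107615 : act 2 n23946 = n23946 := d20_1 D23946 (iv D23946) F85734
theorem F107616 : act 4 n23946 = n18929 := d31_1 D23946 (iv D18929) D18928
theorem F107617 : act 8 n23946 = n18936 := d40_2 (iv F85737) D23946 (iv D18936)
theorem F107618 : act 9 n23946 = n19925 := d41_2 (iv F85738) D23946 (iv D19925)
def n23947 : Q := act 7 n18929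
theorem D23947 : act 7 n18929 = n23947 := rfl
theorem F107619 : act 0 n23947 = n18957 := d6_1 D23947 (iv D18957) (iv F85739)
theorem F107620 : act 1 n23947 = n19839 := d14_1 D23947 (iv D19839) (iv F85740)
theorem F107621 : act 2 n23947 = n23947 := d21_1 D23947 (iv D23947) F85741
theorem F107622 : act 3 n23947 = n20300 := d27_1 D23947 (iv D20300) (iv F85742)
theorem F107623 : act 5 n23947 = n19939 := d36_1 D23947 (iv D19939) (iv F85743)
theorem F107624 : act 6 n23947 = n18934 := d39_1 D23947 (iv D18934) (iv D14846) (iv F67881) D18929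
theorem F107625 : act 8 n23947 = n18937 := d42_2 (iv F85744) D23947 (iv D18937)
theorem F107626 : act 9 n23947 = n19926 := d43_2 (iv F85745) D23947 (iv D19926)
def n23948 : Q := act 3 n18930
theorem D23948 : act 3 n18930 = n23948 := rfl
theorem F107627 : act 0 n23948 = n18958 := d2_1 D23948 (iv D18958) (iv F85746)
theorem F107628 : act 1 n23948 = n20298 := d10_1 D23948 (iv D20298) (iv F85747)
theorem F107629 : act 4 n23948 = n19837 := d24_2 D18930 D23948 (iv D19837) (iv D15534) (iv F67887)
theorem F107630 : act 5 n23948 = n20137 := d25_2 (iv F85749) D23948 (iv D20137)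
theorem F107631 : act 7 n23948 = n19924 := d27_2 (iv F85750) D23948 (iv D19924)
theorem F107632 : act 8 n23948 = n19148 := d28_2 (iv F85751) D23948 (iv D19148)
theorem F107633 : act 9 n23948 = n18932 := d29_2 (iv F85752) D23948 (iv D18932)
def n23949 : Q := act 6 n18930
theorem D23949 : act 6 n18930 = n23949 := rfl
theorem F107634 : act 0 n23949 = n18959 := d5_1 D23949 (iv D18959) (iv F85746)
theorem F107635 : act 1 n23949 = n20299 := d13_1 D23949 (iv D20299) (iv F85747)
theorem F107636 : act 2 n23949 = n23949 := d20_1 D23949 (iv D23949) F85748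
theorem F107637 : act 4 n23949 = n18931 := d31_1 D23949 (iv D18931) D18930
theorem F107638 : act 8 n23949 = n19149 := d40_2 (iv F85751) D23949 (iv D19149)
theorem F107639 : act 9 n23949 = n18933 := d41_2 (iv F85752) D23949 (iv D18933)
def n23950 : Q := act 7 n18931
theorem D23950 : act 7 n18931 = n23950 := rfl
theorem F107640 : act 0 n23950 = n18960 := d6_1 D23950 (iv D18960) (iv F85753)
theorem F107641 : act 1 n23950 = n20300 := d14_1 D23950 (iv D20300) (iv F85754)
theorem F107642 : act 2 n23950 = n23950 := d21_1 D23950 (iv D23950) F85755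
theorem F107643 : act 3 n23950 = n19839 := d27_1 D23950 (iv D19839) (iv F85756)
theorem F107644 : act 5 n23950 = n19960 := d36_1 D23950 (iv D19960) (iv F85757)
theorem F107645 : act 6 n23950 = n19926 := d39_1 D23950 (iv D19926) (iv D15600) (iv F67888) D18931
theorem F107646 : act 8 n23950 = n19150 := d42_2 (iv F85758) D23950 (iv D19150)
theorem F107647 : act 9 n23950 = n18934 := d43_2 (iv F85759) D23950 (iv D18934)
def n23951 : Q := act 2 n18932
theorem D23951 : act 2 n18932 = n23951 := rfl
theorem F107648 : act 0 n23951 = n18961 := d1_1 D23951 (iv D18961) (iv F85760)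
theorem F107649 : act 3 n23951 = n23951 := d17_2 D18932 D23951 (iv D23951) (iv D18932) F67893
theorem F107650 : act 8 n23951 = n18938 := d22_2 (iv F85762) D23951 (iv D18938)
def n23952 : Q := act 6 n18932
theorem D23952 : act 6 n18932 = n23952 := rfl
theorem F107651 : act 0 n23952 = n18962 := d5_1 D23952 (iv D18962) (iv F85760)
theorem F107652 : act 1 n23952 = n20302 := d13_1 D23952 (iv D20302) (iv F85761)
theorem F107653 : act 3 n23952 = n18933 := d26_1 D23952 (iv D18933) D18932
theorem F107654 : act 8 n23952 = n18939 := d40_2 (iv F85762) D23952 (iv D18939)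
def n23953 : Q := act 5 n18933
theorem D23953 : act 5 n18933 = n23953 := rfl
theorem F107655 : act 0 n23953 = n18963 := d4_1 D23953 (iv D18963) (iv F85763)
theorem F107656 : act 1 n23953 = n20303 := d12_1 D23953 (iv D20303) (iv F85764)
theorem F107657 : act 2 n23953 = n23953 := d19_1 D23953 (iv D23953) F85765
def n23954 : Q := act 7 n18933
theorem D23954 : act 7 n18933 = n23954 := rfl
theorem F107658 : act 0 n23954 = n18964 := d6_1 D23954 (iv D18964) (iv F85763)
theorem F107659 : act 1 n23954 = n20304 := d14_1 D23954 (iv D20304) (iv F85764)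
theorem F107660 : act 2 n23954 = n23954 := d21_1 D23954 (iv D23954) F85765
theorem F107661 : act 4 n23954 = n18934 := d32_1 D23954 (iv D18934) (iv F85766)
theorem F107662 : act 8 n23954 = n18941 := d42_2 (iv F85767) D23954 (iv D18941)
def n23955 : Q := act 2 n18935
theorem D23955 : act 2 n18935 = n23955 := rfl
theorem F107663 : act 0 n23955 = n18965 := d1_1 D23955 (iv D18965) (iv F85772)
theorem F107664 : act 3 n23955 = n23955 := d17_2 D18935 D23955 (iv D23955) (iv D18935) F67901
theorem F107666 : act 5 n23955 = n19346 := d19_2 (iv F85775) D23955 (iv D19346)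
theorem F107667 : act 7 n23955 = n18938 := d21_2 (iv F85776) D23955 (iv D18938)
theorem F107668 : act 9 n23955 = n19155 := d23_2 (iv F85777) D23955 (iv D19155)
def n23956 : Q := act 6 n18935
theorem D23956 : act 6 n18935 = n23956 := rfl
theorem F107669 : act 0 n23956 = n18966 := d5_1 D23956 (iv D18966) (iv F85772)
theorem F107670 : act 1 n23956 = n20306 := d13_1 D23956 (iv D20306) (iv F85773)
theorem F107671 : act 3 n23956 = n18936 := d26_1 D23956 (iv D18936) D18935
theorem F107672 : act 4 n23956 = n20595 := d31_1 D23956 (iv D20595) (iv F85774)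
theorem F107673 : act 9 n23956 = n19156 := d41_2 (iv F85777) D23956 (iv D19156)
def n23957 : Q := act 5 n18936
theorem D23957 : act 5 n18936 = n23957 := rfl
theorem F107674 : act 0 n23957 = n18967 := d4_1 D23957 (iv D18967) (iv F85778)
theorem F107676 : act 2 n23957 = n23957 := d19_1 D23957 (iv D23957) F85780
theorem F107677 : act 4 n23957 = n23957 := d30_1 D23957 (iv D23957) F85781 F67909 (iv F85781)
theorem F107678 : act 6 n23957 = n19348 := d35_2 D18936 D23957 (iv D19348) (iv D15154) (iv F67902)
theorem F107679 : act 9 n23957 = n19157 := d38_2 (iv F85782) D23957 (iv D19157)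
def n23958 : Q := act 7 n18936
theorem D23958 : act 7 n18936 = n23958 := rfl
theorem F107680 : act 0 n23958 = n18968 := d6_1 D23958 (iv D18968) (iv F85778)
theorem F107681 : act 1 n23958 = n20308 := d14_1 D23958 (iv D20308) (iv F85779)
theorem F107682 : act 2 n23958 = n23958 := d21_1 D23958 (iv D23958) F85780
theorem F107683 : act 4 n23958 = n18937 := d32_1 D23958 (iv D18937) (iv F85781)
theorem F107684 : act 6 n23958 = n18941 := d39_1 D23958 (iv D18941) (iv D14850) (iv F67903) D18936
theorem F107685 : act 9 n23958 = n19158 := d43_2 (iv F85782) D23958 (iv D19158)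
def n23959 : Q := act 1 n18938
theorem D23959 : act 1 n18938 = n23959 := rfl
theorem F107686 : act 2 n23959 = n20309 := d9_2 D18938 D23959 (iv D20309) (iv D15887) (iv F67912)
theorem F107687 : act 3 n23959 = n23959 := d10_2 F85791 D23959 (iv D23959)
theorem F107688 : act 5 n23959 = n19350 := d12_2 (iv F85792) D23959 (iv D19350)
theorem F107689 : act 9 n23959 = n19159 := d16_2 (iv F85793) D23959 (iv D19159)
def n23960 : Q := act 6 n18938
theorem D23960 : act 6 n18938 = n23960 := rfl
theorem F107690 : act 0 n23960 = n18970 := d5_1 D23960 (iv D18970) (iv F85790)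
theorem F107691 : act 2 n23960 = n18939 := d20_1 D23960 (iv D18939) D18938
theorem F107692 : act 3 n23960 = n23960 := d26_1 D23960 (iv D23960) F85791
theorem F107693 : act 9 n23960 = n19160 := d41_2 (iv F85793) D23960 (iv D19160)
def n23961 : Q := act 5 n18939
theorem D23961 : act 5 n18939 = n23961 := rfl
theorem F107694 : act 0 n23961 = n18971 := d4_1 D23961 (iv D18971) (iv F85794)
theorem F107695 : act 1 n23961 = n20311 := d12_1 D23961 (iv D20311) (iv F85795)
theorem F107696 : act 3 n23961 = n18940 := d25_1 D23961 (iv D18940) (iv F85796)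
theorem F107698 : act 9 n23961 = n19161 := d38_2 (iv F85797) D23961 (iv D19161)
def n23962 : Q := act 7 n18939
theorem D23962 : act 7 n18939 = n23962 := rfl
theorem F107699 : act 0 n23962 = n18972 := d6_1 D23962 (iv D18972) (iv F85794)
theorem F107700 : act 1 n23962 = n20312 := d14_1 D23962 (iv D20312) (iv F85795)
theorem F107701 : act 3 n23962 = n18941 := d27_1 D23962 (iv D18941) (iv F85796)
theorem F107702 : act 9 n23962 = n19162 := d43_2 (iv F85797) D23962 (iv D19162)
def n23963 : Q := act 7 n18940
theorem D23963 : act 7 n18940 = n23963 := rfl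
theorem F107703 : act 0 n23963 = n18973 := d6_1 D23963 (iv D18973) (iv F85798)
theorem F107704 : act 1 n23963 = n20313 := d14_1 D23963 (iv D20313) (iv F85799)
theorem F107705 : act 2 n23963 = n23963 := d21_1 D23963 (iv D23963) F85800
theorem F107706 : act 4 n23963 = n18946 := d32_1 D23963 (iv D18946) (iv F85801)
theorem F107707 : act 5 n23963 = n18941 := d36_1 D23963 (iv D18941) D18940
theorem F107708 : act 9 n23963 = n19163 := d43_2 (iv F85803) D23963 (iv D19163)
def n23964 : Q := act 8 n18940
theorem D23964 : act 8 n18940 = n23964 := rfl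
theorem F107709 : act 0 n23964 = n18974 := d7_1 D23964 (iv D18974) (iv F85798)
theorem F107710 : act 1 n23964 = n20314 := d15_1 D23964 (iv D20314) (iv F85799)
theorem F107711 : act 2 n23964 = n23964 := d22_1 D23964 (iv D23964) F85800
theorem F107712 : act 4 n23964 = n18947 := d33_1 D23964 (iv D18947) (iv F85801)
def n23965 : Q := act 6 n18942
theorem D23965 : act 6 n18942 = n23965 := rfl
theorem F107716 : act 2 n23965 = n20315 := d20_1 D23965 (iv D20315) (iv F85810)
theorem F107718 : act 5 n23965 = n22254 := d35_1 D23965 F99480 F87769 (iv D19356) (iv F85812)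
def n23966 : Q := act 5 n18943
theorem D23966 : act 5 n18943 = n23966 := rfl
theorem F107725 : act 9 n23966 = n19166 := d38_2 (iv F85818) D23966 (iv D19166)
def n23967 : Q := act 7 n18943
theorem D23967 : act 7 n18943 = n23967 := rfl
theorem F107727 : act 0 n23967 = n18976 := d6_1 D23967 (iv D18976) (iv F85815)
theorem F107728 : act 2 n23967 = n18945 := d21_1 D23967 (iv D18945) (iv F85816)
theorem F107731 : act 9 n23967 = n19167 := d43_2 (iv F85818) D23967 (iv D19167)
def n23968 : Q := act 4 n18944
theorem D23968 : act 4 n18944 = n23968 := rfl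
theorem F107732 : act 0 n23968 = n18977 := d3_1 D23968 (iv D18977) (iv F85819)
theorem F107736 : act 9 n23968 = n19168 := d34_2 (iv F85823) D23968 (iv D19168)
def n23969 : Q := act 7 n18944
theorem D23969 : act 7 n18944 = n23969 := rfl
theorem F107737 : act 0 n23969 = n18978 := d6_1 D23969 (iv D18978) (iv F85819)
theorem F107739 : act 3 n23969 = n18946 := d27_1 D23969 (iv D18946) (iv F85821)
theorem F107740 : act 5 n23969 = n18945 := d36_1 D23969 (iv D18945) D18944
theorem F107741 : act 9 n23969 = n19169 := d43_2 (iv F85823) D23969 (iv D19169)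
def n23970 : Q := act 8 n18944
theorem D23970 : act 8 n18944 = n23970 := rfl
theorem F107742 : act 0 n23970 = n18979 := d7_1 D23970 (iv D18979) (iv F85819)
theorem F107744 : act 3 n23970 = n18947 := d28_1 D23970 (iv D18947) (iv F85821)
theorem F107745 : act 6 n23970 = n19361 := d40_1 D23970 (iv D19361) (iv F85822)
def n23972 : Q := act 8 n18946
theorem D23972 : act 8 n18946 = n23972 := rfl
theorem F107752 : act 0 n23972 = n18981 := d7_1 D23972 (iv D18981) (iv F85829)
theorem F107753 : act 1 n23972 = n20322 := d15_1 D23972 (iv D20322) (iv F85830)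
theorem F107754 : act 2 n23972 = n23972 := d22_1 D23972 (iv D23972) F85831
theorem F107755 : act 7 n23972 = n18947 := d42_1 D23972 (iv D18947) D18946
def n23973 : Q := act 9 n18947
theorem D23973 : act 9 n18947 = n23973 := rfl
theorem F107756 : act 0 n23973 = n18982 := d8_1 D23973 (iv D18982) (iv F85834)
theorem F107760 : act 8 n23973 = n19173 := d44_1 D23973 (iv D19173) (iv D15017) (iv F67938) D18947
def n23974 : Q := act 3 n18948
theorem D23974 : act 3 n18948 = n23974 := rfl
theorem F107761 : act 0 n23974 = n19825 := d2_1 D23974 (iv D19825) (iv F85838)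
theorem F107762 : act 1 n23974 = n18986 := d10_1 D23974 (iv D18986) (iv F85839)
theorem F107763 : act 4 n23974 = n20093 := d24_2 D18948 D23974 (iv D20093) (iv D15727) (iv F67948)
theorem F107764 : act 5 n23974 = n18955 := d25_2 (iv F85841) D23974 (iv D18955)
theorem F107765 : act 7 n23974 = n18950 := d27_2 (iv F85842) D23974 (iv D18950)
theorem F107766 : act 8 n23974 = n19368 := d28_2 (iv F85843) D23974 (iv D19368)
theorem F107767 : act 9 n23974 = n19937 := d29_2 (iv F85844) D23974 (iv D19937)
def n23975 : Q := act 6 n18948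
theorem D23975 : act 6 n18948 = n23975 := rfl
theorem F107768 : act 0 n23975 = n19826 := d5_1 D23975 (iv D19826) (iv F85838)
theorem F107769 : act 1 n23975 = n18987 := d13_1 D23975 (iv D18987) (iv F85839)
theorem F107770 : act 2 n23975 = n23975 := d20_1 D23975 (iv D23975) F85840
theorem F107771 : act 4 n23975 = n18949 := d31_1 D23975 (iv D18949) D18948
theorem F107772 : act 8 n23975 = n19369 := d40_2 (iv F85843) D23975 (iv D19369)
theorem F107773 : act 9 n23975 = n19938 := d41_2 (iv F85844) D23975 (iv D19938)
def n23976 : Q := act 7 n18949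
theorem D23976 : act 7 n18949 = n23976 := rfl
theorem F107774 : act 0 n23976 = n19827 := d6_1 D23976 (iv D19827) (iv F85845)
theorem F107775 : act 1 n23976 = n18988 := d14_1 D23976 (iv D18988) (iv F85846)
theorem F107776 : act 2 n23976 = n23976 := d21_1 D23976 (iv D23976) F85847
theorem F107777 : act 3 n23976 = n20095 := d27_1 D23976 (iv D20095) (iv F85848)
theorem F107778 : act 5 n23976 = n19926 := d36_1 D23976 (iv D19926) (iv F85849)
theorem F107779 : act 6 n23976 = n18952 := d39_1 D23976 (iv D18952) (iv D14858) (iv F67949) D18949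
theorem F107780 : act 8 n23976 = n19370 := d42_2 (iv F85850) D23976 (iv D19370)
theorem F107781 : act 9 n23976 = n19939 := d43_2 (iv F85851) D23976 (iv D19939)
def n23977 : Q := act 2 n18950
theorem D23977 : act 2 n18950 = n23977 := rfl
theorem F107782 : act 3 n23977 = n23977 := d17_2 D18950 D23977 (iv D23977) (iv D18950) F67953
theorem F107783 : act 5 n23977 = n18961 := d19_2 (iv F85853) D23977 (iv D18961)
theorem F107784 : act 8 n23977 = n19371 := d22_2 (iv F85854) D23977 (iv D19371)
def n23978 : Q := act 6 n18950
theorem D23978 : act 6 n18950 = n23978 := rfl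
theorem F107785 : act 1 n23978 = n18993 := d13_1 D23978 (iv D18993) (iv F85852)
theorem F107786 : act 3 n23978 = n18951 := d26_1 D23978 (iv D18951) D18950
theorem F107787 : act 8 n23978 = n19372 := d40_2 (iv F85854) D23978 (iv D19372)
def n23979 : Q := act 5 n18951
theorem D23979 : act 5 n18951 = n23979 := rfl
theorem F107788 : act 1 n23979 = n18994 := d12_1 D23979 (iv D18994) (iv F85855)
theorem F107789 : act 2 n23979 = n23979 := d19_1 D23979 (iv D23979) F85856
theorem F107790 : act 6 n23979 = n18963 := d35_2 D18951 D23979 (iv D18963) (iv D14865) (iv F67954)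
def n23980 : Q := act 7 n18951
theorem D23980 : act 7 n18951 = n23980 := rfl
theorem F107791 : act 1 n23980 = n18995 := d14_1 D23980 (iv D18995) (iv F85855)
theorem F107792 : act 2 n23980 = n23980 := d21_1 D23980 (iv D23980) F85856
theorem F107793 : act 4 n23980 = n18952 := d32_1 D23980 (iv D18952) (iv F85857)
theorem F107794 : act 8 n23980 = n19374 := d42_2 (iv F85858) D23980 (iv D19374)
def n23981 : Q := act 3 n18953
theorem D23981 : act 3 n18953 = n23981 := rfl
theorem F107795 : act 0 n23981 = n19937 := d2_1 D23981 (iv D19937) (iv F85862)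
theorem F107796 : act 1 n23981 = n18996 := d10_1 D23981 (iv D18996) (iv F85863)
theorem F107797 : act 4 n23981 = n20112 := d24_2 D18953 D23981 (iv D20112) (iv D15740) (iv F67962)
theorem F107798 : act 5 n23981 = n19924 := d25_2 (iv F85865) D23981 (iv D19924)
theorem F107799 : act 7 n23981 = n20137 := d27_2 (iv F85866) D23981 (iv D20137)
theorem F107800 : act 8 n23981 = n23981 := d28_2 F85867 D23981 (iv D23981)
theorem F107801 : act 9 n23981 = n19825 := d29_2 (iv F85868) D23981 (iv D19825)
def n23982 : Q := act 6 n18953
theorem D23982 : act 6 n18953 = n23982 := rfl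
theorem F107802 : act 0 n23982 = n19938 := d5_1 D23982 (iv D19938) (iv F85862)
theorem F107803 : act 1 n23982 = n18997 := d13_1 D23982 (iv D18997) (iv F85863)
theorem F107804 : act 2 n23982 = n23982 := d20_1 D23982 (iv D23982) F85864
theorem F107805 : act 4 n23982 = n18954 := d31_1 D23982 (iv D18954) D18953
theorem F107806 : act 8 n23982 = n23982 := d40_2 F85867 D23982 (iv D23982)
theorem F107807 : act 9 n23982 = n19826 := d41_2 (iv F85868) D23982 (iv D19826)
def n23983 : Q := act 7 n18954
theorem D23983 : act 7 n18954 = n23983 := rfl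
theorem F107808 : act 0 n23983 = n19939 := d6_1 D23983 (iv D19939) (iv F85869)
theorem F107809 : act 1 n23983 = n18998 := d14_1 D23983 (iv D18998) (iv F85870)
theorem F107810 : act 2 n23983 = n23983 := d21_1 D23983 (iv D23983) F85871
theorem F107811 : act 3 n23983 = n20114 := d27_1 D23983 (iv D20114) (iv F85872)
theorem F107812 : act 5 n23983 = n18957 := d36_1 D23983 (iv D18957) (iv F85873)
theorem F107813 : act 6 n23983 = n20139 := d39_1 D23983 (iv D20139) (iv D15758) (iv F67963) D18954
theorem F107814 : act 8 n23983 = n23983 := d42_2 F85874 D23983 (iv D23983)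
theorem F107815 : act 9 n23983 = n19827 := d43_2 (iv F85875) D23983 (iv D19827)
def n23984 : Q := act 2 n18955
theorem D23984 : act 2 n18955 = n23984 := rfl
theorem F107816 : act 3 n23984 = n23984 := d17_2 D18955 D23984 (iv D23984) (iv D18955) F67967
theorem F107817 : act 4 n23984 = n20332 := d18_2 (iv F85877) D23984 (iv D20332)
theorem F107818 : act 7 n23984 = n18961 := d21_2 (iv F85878) D23984 (iv D18961)
theorem F107819 : act 8 n23984 = n18965 := d22_2 (iv F85879) D23984 (iv D18965)
theorem F107820 : act 9 n23984 = n19940 := d23_2 (iv F85880) D23984 (iv D19940)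
def n23985 : Q := act 6 n18955
theorem D23985 : act 6 n18955 = n23985 := rfl
theorem F107821 : act 1 n23985 = n19000 := d13_1 D23985 (iv D19000) (iv F85876)
theorem F107822 : act 3 n23985 = n18956 := d26_1 D23985 (iv D18956) D18955
theorem F107823 : act 4 n23985 = n20333 := d31_1 D23985 (iv D20333) (iv F85877)
theorem F107824 : act 8 n23985 = n18966 := d40_2 (iv F85879) D23985 (iv D18966)
theorem F107825 : act 9 n23985 = n19941 := d41_2 (iv F85880) D23985 (iv D19941)
def n23986 : Q := act 5 n18956
theorem D23986 : act 5 n18956 = n23986 := rfl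
theorem F107826 : act 1 n23986 = n19001 := d12_1 D23986 (iv D19001) (iv F85881)
theorem F107827 : act 2 n23986 = n23986 := d19_1 D23986 (iv D23986) F85882
theorem F107828 : act 9 n23986 = n19942 := d38_2 (iv F85885) D23986 (iv D19942)
def n23987 : Q := act 7 n18956
theorem D23987 : act 7 n18956 = n23987 := rfl
theorem F107829 : act 1 n23987 = n19002 := d14_1 D23987 (iv D19002) (iv F85881)
theorem F107830 : act 2 n23987 = n23987 := d21_1 D23987 (iv D23987) F85882
theorem F107831 : act 4 n23987 = n18957 := d32_1 D23987 (iv D18957) (iv F85883)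
theorem F107832 : act 6 n23987 = n18964 := d39_1 D23987 (iv D18964) (iv D14865) (iv F67968) D18956
theorem F107833 : act 8 n23987 = n18968 := d42_2 (iv F85884) D23987 (iv D18968)
theorem F107834 : act 9 n23987 = n19943 := d43_2 (iv F85885) D23987 (iv D19943)
def n23988 : Q := act 2 n18958
theorem D23988 : act 2 n18958 = n23988 := rfl
theorem F107835 : act 3 n23988 = n23988 := d17_2 D18958 D23988 (iv D23988) (iv D18958) F67977
theorem F107836 : act 4 n23988 = n20328 := d18_2 (iv F85893) D23988 (iv D20328)
theorem F107837 : act 7 n23988 = n19940 := d21_2 (iv F85894) D23988 (iv D19940)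
theorem F107838 : act 8 n23988 = n19174 := d22_2 (iv F85895) D23988 (iv D19174)
theorem F107839 : act 9 n23988 = n18961 := d23_2 (iv F85896) D23988 (iv D18961)
def n23989 : Q := act 6 n18958
theorem D23989 : act 6 n18958 = n23989 := rfl
theorem F107840 : act 1 n23989 = n19004 := d13_1 D23989 (iv D19004) (iv F85892)
theorem F107841 : act 3 n23989 = n18959 := d26_1 D23989 (iv D18959) D18958
theorem F107842 : act 4 n23989 = n20329 := d31_1 D23989 (iv D20329) (iv F85893)
theorem F107843 : act 8 n23989 = n19175 := d40_2 (iv F85895) D23989 (iv D19175)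
theorem F107844 : act 9 n23989 = n18962 := d41_2 (iv F85896) D23989 (iv D18962)
def n23990 : Q := act 5 n18959
theorem D23990 : act 5 n18959 = n23990 := rfl
theorem F107845 : act 1 n23990 = n19005 := d12_1 D23990 (iv D19005) (iv F85897)
theorem F107846 : act 2 n23990 = n23990 := d19_1 D23990 (iv D23990) F85898
theorem F107847 : act 9 n23990 = n18963 := d38_2 (iv F85901) D23990 (iv D18963)
def n23991 : Q := act 7 n18959
theorem D23991 : act 7 n18959 = n23991 := rfl
theorem F107848 : act 1 n23991 = n19006 := d14_1 D23991 (iv D19006) (iv F85897)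
theorem F107849 : act 2 n23991 = n23991 := d21_1 D23991 (iv D23991) F85898
theorem F107850 : act 4 n23991 = n18960 := d32_1 D23991 (iv D18960) (iv F85899)
theorem F107851 : act 6 n23991 = n19943 := d39_1 D23991 (iv D19943) (iv D15611) (iv F67978) D18959
theorem F107852 : act 8 n23991 = n19177 := d42_2 (iv F85900) D23991 (iv D19177)
theorem F107853 : act 9 n23991 = n18964 := d43_2 (iv F85901) D23991 (iv D18964)
def n23992 : Q := act 1 n18961
theorem D23992 : act 1 n18961 = n23992 := rfl
theorem F107854 : act 2 n23992 = n19007 := d9_2 D18961 D23992 (iv D19007) (iv D14896) (iv F67986)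
theorem F107855 : act 3 n23992 = n23992 := d10_2 F85908 D23992 (iv D23992)
theorem F107856 : act 8 n23992 = n18969 := d15_2 (iv F85909) D23992 (iv D18969)
def n23993 : Q := act 6 n18961
theorem D23993 : act 6 n18961 = n23993 := rfl
theorem F107857 : act 2 n23993 = n18962 := d20_1 D23993 (iv D18962) D18961
theorem F107858 : act 3 n23993 = n23993 := d26_1 D23993 (iv D23993) F85908
theorem F107859 : act 8 n23993 = n18970 := d40_2 (iv F85909) D23993 (iv D18970)
def n23994 : Q := act 5 n18962
theorem D23994 : act 5 n18962 = n23994 := rfl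
theorem F107860 : act 1 n23994 = n19009 := d12_1 D23994 (iv D19009) (iv F85910)
theorem F107861 : act 3 n23994 = n18963 := d25_1 D23994 (iv D18963) (iv F85911)
def n23995 : Q := act 7 n18962
theorem D23995 : act 7 n18962 = n23995 := rfl
theorem F107862 : act 1 n23995 = n19010 := d14_1 D23995 (iv D19010) (iv F85910)
theorem F107863 : act 3 n23995 = n18964 := d27_1 D23995 (iv D18964) (iv F85911)
theorem F107864 : act 8 n23995 = n18972 := d42_2 (iv F85912) D23995 (iv D18972)
def n23996 : Q := act 7 n18963
theorem D23996 : act 7 n18963 = n23996 := rfl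
theorem F107865 : act 1 n23996 = n19011 := d14_1 D23996 (iv D19011) (iv F85913)
theorem F107866 : act 2 n23996 = n23996 := d21_1 D23996 (iv D23996) F85914
theorem F107867 : act 5 n23996 = n18964 := d36_1 D23996 (iv D18964) D18963
def n23997 : Q := act 8 n18963
theorem D23997 : act 8 n18963 = n23997 := rfl
theorem F107868 : act 1 n23997 = n19012 := d15_1 D23997 (iv D19012) (iv F85913)
theorem F107869 : act 2 n23997 = n23997 := d22_1 D23997 (iv D23997) F85914
theorem F107870 : act 5 n23997 = n18974 := d37_1 D23997 (iv D18974) (iv D14872) (iv F67991) D18963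
def n23998 : Q := act 1 n18965
theorem D23998 : act 1 n18965 = n23998 := rfl
theorem F107871 : act 2 n23998 = n19013 := d9_2 D18965 D23998 (iv D19013) (iv D14900) (iv F67995)
theorem F107872 : act 3 n23998 = n23998 := d10_2 F85919 D23998 (iv D23998)
theorem F107873 : act 4 n23998 = n20632 := d11_2 (iv F85920) D23998 (iv D20632)
theorem F107875 : act 7 n23998 = n18969 := d14_2 (iv F85922) D23998 (iv D18969)
theorem F107876 : act 9 n23998 = n19184 := d16_2 (iv F85923) D23998 (iv D19184)
def n23999 : Q := act 6 n18965
theorem D23999 : act 6 n18965 = n23999 := rfl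
theorem F107877 : act 2 n23999 = n18966 := d20_1 D23999 (iv D18966) D18965
theorem F107878 : act 3 n23999 = n23999 := d26_1 D23999 (iv D23999) F85919
theorem F107879 : act 4 n23999 = n20633 := d31_1 D23999 (iv D20633) (iv F85920)
theorem F107880 : act 9 n23999 = n19185 := d41_2 (iv F85923) D23999 (iv D19185)
def n24000 : Q := act 5 n18966
theorem D24000 : act 5 n18966 = n24000 := rfl
theorem F107881 : act 1 n24000 = n19015 := d12_1 D24000 (iv D19015) (iv F85924)
theorem F107882 : act 3 n24000 = n18967 := d25_1 D24000 (iv D18967) (iv F85925)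
theorem F107883 : act 6 n24000 = n19390 := d35_2 D18966 D24000 (iv D19390) (iv D15183) (iv F67997)
theorem F107884 : act 9 n24000 = n19186 := d38_2 (iv F85927) D24000 (iv D19186)
def n24001 : Q := act 7 n18966
theorem D24001 : act 7 n18966 = n24001 := rfl
theorem F107885 : act 1 n24001 = n19016 := d14_1 D24001 (iv D19016) (iv F85924)
theorem F107886 : act 3 n24001 = n18968 := d27_1 D24001 (iv D18968) (iv F85925)
theorem F107887 : act 4 n24001 = n20635 := d32_1 D24001 (iv D20635) (iv F85926)
theorem F107888 : act 6 n24001 = n18972 := d39_1 D24001 (iv D18972) (iv D14871) (iv F67998) D18966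
theorem F107889 : act 9 n24001 = n19187 := d43_2 (iv F85927) D24001 (iv D19187)
def n24002 : Q := act 7 n18967
theorem D24002 : act 7 n18967 = n24002 := rfl
theorem F107890 : act 1 n24002 = n19017 := d14_1 D24002 (iv D19017) (iv F85928)
theorem F107891 : act 2 n24002 = n24002 := d21_1 D24002 (iv D24002) F85929
theorem F107892 : act 4 n24002 = n24002 := d32_1 D24002 (iv D24002) F85930
theorem F107893 : act 5 n24002 = n18968 := d36_1 D24002 (iv D18968) D18967
theorem F107894 : act 9 n24002 = n19188 := d43_2 (iv F85932) D24002 (iv D19188)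
def n24003 : Q := act 8 n18967
theorem D24003 : act 8 n18967 = n24003 := rfl
theorem F107895 : act 1 n24003 = n19018 := d15_1 D24003 (iv D19018) (iv F85928)
theorem F107896 : act 2 n24003 = n24003 := d22_1 D24003 (iv D24003) F85929
theorem F107897 : act 4 n24003 = n24003 := d33_1 D24003 (iv D24003) F85930
theorem F107898 : act 6 n24003 = n19393 := d40_1 D24003 (iv D19393) (iv F85931)
def n24004 : Q := act 0 n18969
theorem D24004 : act 0 n18969 = n24004 := rfl
theorem F107899 : act 2 n24004 = n19019 := d1_2 (iv F85938) D24004 (iv D19019)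
theorem F107900 : act 3 n24004 = n24004 := d2_2 F85939 D24004 (iv D24004)
theorem F107901 : act 5 n24004 = n19394 := d4_2 (iv F85940) D24004 (iv D19394)
theorem F107902 : act 9 n24004 = n19190 := d8_2 (iv F85941) D24004 (iv D19190)
def n24005 : Q := act 6 n18969
theorem D24005 : act 6 n18969 = n24005 := rfl
theorem F107903 : act 1 n24005 = n18970 := d13_1 D24005 (iv D18970) D18969
theorem F107904 : act 2 n24005 = n19020 := d20_1 D24005 (iv D19020) (iv F85938)
theorem F107905 : act 3 n24005 = n24005 := d26_1 D24005 (iv D24005) F85939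
theorem F107906 : act 9 n24005 = n19191 := d41_2 (iv F85941) D24005 (iv D19191)
def n24006 : Q := act 5 n18970
theorem D24006 : act 5 n18970 = n24006 := rfl
theorem F107907 : act 2 n24006 = n18971 := d19_1 D24006 (iv D18971) (iv F85942)
theorem F107908 : act 3 n24006 = n24006 := d25_1 D24006 (iv D24006) F85943
theorem F107909 : act 6 n24006 = n19396 := d35_2 D18970 D24006 (iv D19396) (iv D15187) (iv F68011)
theorem F107910 : act 9 n24006 = n19192 := d38_2 (iv F85944) D24006 (iv D19192)
def n24007 : Q := act 7 n18970
theorem D24007 : act 7 n18970 = n24007 := rfl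
theorem F107911 : act 2 n24007 = n18972 := d21_1 D24007 (iv D18972) (iv F85942)
theorem F107912 : act 3 n24007 = n24007 := d27_1 D24007 (iv D24007) F85943
theorem F107913 : act 9 n24007 = n19193 := d43_2 (iv F85944) D24007 (iv D19193)
def n24008 : Q := act 4 n18971
theorem D24008 : act 4 n18971 = n24008 := rfl
theorem F107914 : act 1 n24008 = n19023 := d11_1 D24008 (iv D19023) (iv F85945)
theorem F107915 : act 3 n24008 = n18977 := d24_1 D24008 (iv D18977) F68030 (iv F68018) (iv F85946)
theorem F107916 : act 6 n24008 = n19398 := d31_2 (iv F85947) D24008 (iv D19398)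
theorem F107917 : act 9 n24008 = n19194 := d34_2 (iv F85948) D24008 (iv D19194)
def n24009 : Q := act 7 n18971
theorem D24009 : act 7 n18971 = n24009 := rfl
theorem F107918 : act 1 n24009 = n19024 := d14_1 D24009 (iv D19024) (iv F85945)
theorem F107919 : act 3 n24009 = n18973 := d27_1 D24009 (iv D18973) (iv F85946)
theorem F107920 : act 5 n24009 = n18972 := d36_1 D24009 (iv D18972) D18971
theorem F107921 : act 9 n24009 = n19195 := d43_2 (iv F85948) D24009 (iv D19195)
def n24010 : Q := act 8 n18971
theorem D24010 : act 8 n18971 = n24010 := rfl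
theorem F107922 : act 1 n24010 = n19025 := d15_1 D24010 (iv D19025) (iv F85945)
theorem F107923 : act 3 n24010 = n18974 := d28_1 D24010 (iv D18974) (iv F85946)
theorem F107924 : act 6 n24010 = n19400 := d40_1 D24010 (iv D19400) (iv F85947)
def n24011 : Q := act 6 n18973
theorem D24011 : act 6 n18973 = n24011 := rfl
theorem F107925 : act 1 n24011 = n19026 := d13_1 D24011 (iv D19026) (iv F85952)
theorem F107926 : act 2 n24011 = n24011 := d20_1 D24011 (iv D24011) F85953
theorem F107927 : act 4 n24011 = n18980 := d31_1 D24011 (iv D18980) (iv F85954)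
theorem F107929 : act 9 n24011 = n19197 := d41_2 (iv F85956) D24011 (iv D19197)
def n24012 : Q := act 8 n18973
theorem D24012 : act 8 n18973 = n24012 := rfl
theorem F107930 : act 1 n24012 = n19027 := d15_1 D24012 (iv D19027) (iv F85952)
theorem F107931 : act 2 n24012 = n24012 := d22_1 D24012 (iv D24012) F85953
theorem F107932 : act 4 n24012 = n18981 := d33_1 D24012 (iv D18981) (iv F85954)
theorem F107933 : act 7 n24012 = n18974 := d42_1 D24012 (iv D18974) D18973
def n24013 : Q := act 9 n18974
theorem D24013 : act 9 n18974 = n24013 := rfl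
theorem F107934 : act 1 n24013 = n19028 := d16_1 D24013 (iv D19028) (iv F85957)
theorem F107935 : act 2 n24013 = n24013 := d23_1 D24013 (iv D24013) F85958
theorem F107936 : act 4 n24013 = n18982 := d34_1 D24013 (iv D18982) (iv F85959)
theorem F107937 : act 6 n24013 = n19403 := d41_1 D24013 (iv D19403) (iv F85960)
theorem F107938 : act 8 n24013 = n19199 := d44_1 D24013 (iv D19199) (iv D15034) (iv F68020) D18974
def n24017 : Q := act 7 n18977
theorem D24017 : act 7 n18977 = n24017 := rfl
theorem F107954 : act 1 n24017 = n19029 := d14_1 D24017 (iv D19029) (iv F85971)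
theorem F107955 : act 4 n24017 = n18978 := d32_1 D24017 (iv D18978) D18977
theorem F107956 : act 9 n24017 = n19203 := d43_2 (iv F85973) D24017 (iv D19203)
def n24018 : Q := act 8 n18977
theorem D24018 : act 8 n18977 = n24018 := rfl
theorem F107957 : act 1 n24018 = n19030 := d15_1 D24018 (iv D19030) (iv F85971)
theorem F107958 : act 4 n24018 = n18979 := d33_1 D24018 (iv D18979) D18977
theorem F107959 : act 6 n24018 = n19408 := d40_1 D24018 (iv D19408) (iv F85972)
def n24020 : Q := act 8 n18978
theorem D24020 : act 8 n18978 = n24020 := rfl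
theorem F107965 : act 1 n24020 = n19032 := d15_1 D24020 (iv D19032) (iv F85974)
theorem F107966 : act 3 n24020 = n18981 := d28_1 D24020 (iv D18981) (iv F85975)
theorem F107967 : act 7 n24020 = n18979 := d42_1 D24020 (iv D18979) D18978
def n24022 : Q := act 8 n18980
theorem D24022 : act 8 n18980 = n24022 := rfl
theorem F107972 : act 1 n24022 = n19034 := d15_1 D24022 (iv D19034) (iv F85981)
theorem F107973 : act 2 n24022 = n24022 := d22_1 D24022 (iv D24022) F85982
theorem F107974 : act 6 n24022 = n18981 := d40_1 D24022 (iv D18981) D18980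
def n24023 : Q := act 9 n18981
theorem D24023 : act 9 n18981 = n24023 := rfl
theorem F107976 : act 1 n24023 = n19035 := d16_1 D24023 (iv D19035) (iv F85986)
theorem F107977 : act 2 n24023 = n24023 := d23_1 D24023 (iv D24023) F85987
theorem F107978 : act 7 n24023 = n18982 := d43_1 D24023 (iv D18982) (iv F85988)
def n24024 : Q := act 2 n18983
theorem D24024 : act 2 n18983 = n24024 := rfl
theorem F107980 : act 0 n24024 = n20371 := d1_1 D24024 (iv D20371) (iv F85993)
theorem F107981 : act 3 n24024 = n24024 := d17_2 D18983 D24024 (iv D24024) (iv D18983) F68045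
theorem F107982 : act 4 n24024 = n18992 := d18_2 (iv F85994) D24024 (iv D18992)
theorem F107983 : act 8 n24024 = n19414 := d22_2 (iv F85995) D24024 (iv D19414)
def n24025 : Q := act 6 n18983
theorem D24025 : act 6 n18983 = n24025 := rfl
theorem F107984 : act 0 n24025 = n20372 := d5_1 D24025 (iv D20372) (iv F85993)
theorem F107985 : act 3 n24025 = n18984 := d26_1 D24025 (iv D18984) D18983
theorem F107986 : act 4 n24025 = n18993 := d31_1 D24025 (iv D18993) (iv F85994)
theorem F107987 : act 8 n24025 = n19415 := d40_2 (iv F85995) D24025 (iv D19415)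
def n24026 : Q := act 5 n18984
theorem D24026 : act 5 n18984 = n24026 := rfl
theorem F107988 : act 0 n24026 = n20373 := d4_1 D24026 (iv D20373) (iv F85996)
theorem F107989 : act 2 n24026 = n24026 := d19_1 D24026 (iv D24026) F85997
def n24027 : Q := act 7 n18984
theorem D24027 : act 7 n18984 = n24027 := rfl
theorem F107990 : act 0 n24027 = n20374 := d6_1 D24027 (iv D20374) (iv F85996)
theorem F107991 : act 2 n24027 = n24027 := d21_1 D24027 (iv D24027) F85997
theorem F107992 : act 4 n24027 = n18985 := d32_1 D24027 (iv D18985) (iv F85998)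
theorem F107993 : act 8 n24027 = n19417 := d42_2 (iv F85999) D24027 (iv D19417)
def n24028 : Q := act 2 n18986
theorem D24028 : act 2 n18986 = n24028 := rfl
theorem F107994 : act 0 n24028 = n20375 := d1_1 D24028 (iv D20375) (iv F86004)
theorem F107995 : act 3 n24028 = n19039 := d17_2 D18986 D24028 (iv D19039) (iv D14918) (iv F68052)
theorem F107996 : act 5 n24028 = n18999 := d19_2 (iv F86005) D24028 (iv D18999)
theorem F107997 : act 7 n24028 = n18992 := d21_2 (iv F86006) D24028 (iv D18992)
theorem F107998 : act 8 n24028 = n19418 := d22_2 (iv F86007) D24028 (iv D19418)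
theorem F107999 : act 9 n24028 = n19961 := d23_2 (iv F86008) D24028 (iv D19961)
def n24029 : Q := act 6 n18986
theorem D24029 : act 6 n18986 = n24029 := rfl
theorem F108000 : act 0 n24029 = n20376 := d5_1 D24029 (iv D20376) (iv F86004)
theorem F108001 : act 3 n24029 = n18987 := d26_1 D24029 (iv D18987) D18986
theorem F108002 : act 8 n24029 = n19419 := d40_2 (iv F86007) D24029 (iv D19419)
theorem F108003 : act 9 n24029 = n19962 := d41_2 (iv F86008) D24029 (iv D19962)
def n24030 : Q := act 5 n18987
theorem D24030 : act 5 n18987 = n24030 := rfl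
theorem F108004 : act 0 n24030 = n20377 := d4_1 D24030 (iv D20377) (iv F86009)
theorem F108005 : act 2 n24030 = n19041 := d19_1 D24030 (iv D19041) (iv F86010)
theorem F108006 : act 6 n24030 = n19001 := d35_2 D18987 D24030 (iv D19001) (iv D14891) (iv F68053)
theorem F108007 : act 9 n24030 = n19963 := d38_2 (iv F86013) D24030 (iv D19963)
def n24031 : Q := act 7 n18987
theorem D24031 : act 7 n18987 = n24031 := rfl
theorem F108008 : act 0 n24031 = n20378 := d6_1 D24031 (iv D20378) (iv F86009)
theorem F108009 : act 2 n24031 = n19042 := d21_1 D24031 (iv D19042) (iv F86010)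
theorem F108010 : act 4 n24031 = n18988 := d32_1 D24031 (iv D18988) (iv F86011)
theorem F108011 : act 6 n24031 = n18995 := d39_1 D24031 (iv D18995) (iv D14886) (iv F68054) D18987
theorem F108012 : act 8 n24031 = n19421 := d42_2 (iv F86012) D24031 (iv D19421)
theorem F108013 : act 9 n24031 = n19964 := d43_2 (iv F86013) D24031 (iv D19964)
def n24032 : Q := act 2 n18989
theorem D24032 : act 2 n18989 = n24032 := rfl
theorem F108014 : act 0 n24032 = n20379 := d1_1 D24032 (iv D20379) (iv F86019)
theorem F108015 : act 3 n24032 = n19043 := d17_2 D18989 D24032 (iv D19043) (iv D14921) (iv F68062)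
theorem F108016 : act 5 n24032 = n19003 := d19_2 (iv F86020) D24032 (iv D19003)
theorem F108017 : act 7 n24032 = n19961 := d21_2 (iv F86021) D24032 (iv D19961)
theorem F108018 : act 8 n24032 = n24032 := d22_2 F86022 D24032 (iv D24032)
theorem F108019 : act 9 n24032 = n18992 := d23_2 (iv F86023) D24032 (iv D18992)
def n24033 : Q := act 6 n18989
theorem D24033 : act 6 n18989 = n24033 := rfl
theorem F108020 : act 0 n24033 = n20380 := d5_1 D24033 (iv D20380) (iv F86019)
theorem F108021 : act 3 n24033 = n18990 := d26_1 D24033 (iv D18990) D18989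
theorem F108022 : act 8 n24033 = n24033 := d40_2 F86022 D24033 (iv D24033)
theorem F108023 : act 9 n24033 = n18993 := d41_2 (iv F86023) D24033 (iv D18993)
def n24034 : Q := act 5 n18990
theorem D24034 : act 5 n18990 = n24034 := rfl
theorem F108024 : act 0 n24034 = n20381 := d4_1 D24034 (iv D20381) (iv F86024)
theorem F108025 : act 2 n24034 = n19045 := d19_1 D24034 (iv D19045) (iv F86025)
theorem F108026 : act 6 n24034 = n19005 := d35_2 D18990 D24034 (iv D19005) (iv D14894) (iv F68063)
theorem F108027 : act 9 n24034 = n18994 := d38_2 (iv F86028) D24034 (iv D18994)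
def n24035 : Q := act 7 n18990
theorem D24035 : act 7 n18990 = n24035 := rfl
theorem F108028 : act 0 n24035 = n20382 := d6_1 D24035 (iv D20382) (iv F86024)
theorem F108029 : act 2 n24035 = n19046 := d21_1 D24035 (iv D19046) (iv F86025)
theorem F108030 : act 4 n24035 = n18991 := d32_1 D24035 (iv D18991) (iv F86026)
theorem F108031 : act 6 n24035 = n19964 := d39_1 D24035 (iv D19964) (iv D15625) (iv F68064) D18990
theorem F108032 : act 8 n24035 = n24035 := d42_2 F86027 D24035 (iv D24035)
theorem F108033 : act 9 n24035 = n18995 := d43_2 (iv F86028) D24035 (iv D18995)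
def n24036 : Q := act 1 n18992
theorem D24036 : act 1 n18992 = n24036 := rfl
theorem F108034 : act 3 n24036 = n19047 := d10_2 (iv F86035) D24036 (iv D19047)
theorem F108035 : act 5 n24036 = n19007 := d12_2 (iv F86036) D24036 (iv D19007)
theorem F108036 : act 8 n24036 = n19422 := d15_2 (iv F86037) D24036 (iv D19422)
def n24037 : Q := act 6 n18992
theorem D24037 : act 6 n18992 = n24037 := rfl
theorem F108037 : act 0 n24037 = n20384 := d5_1 D24037 (iv D20384) (iv F86034)
theorem F108038 : act 2 n24037 = n18993 := d20_1 D24037 (iv D18993) D18992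
theorem F108039 : act 3 n24037 = n19048 := d26_1 D24037 (iv D19048) (iv F86035)
theorem F108040 : act 8 n24037 = n19423 := d40_2 (iv F86037) D24037 (iv D19423)
def n24038 : Q := act 5 n18993
theorem D24038 : act 5 n18993 = n24038 := rfl
theorem F108041 : act 0 n24038 = n20385 := d4_1 D24038 (iv D20385) (iv F86038)
theorem F108042 : act 3 n24038 = n18994 := d25_1 D24038 (iv D18994) (iv F86039)
theorem F108043 : act 6 n24038 = n19009 := d35_2 D18993 D24038 (iv D19009) (iv D14897) (iv F68072)
def n24039 : Q := act 7 n18993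
theorem D24039 : act 7 n18993 = n24039 := rfl
theorem F108044 : act 0 n24039 = n20386 := d6_1 D24039 (iv D20386) (iv F86038)
theorem F108045 : act 3 n24039 = n18995 := d27_1 D24039 (iv D18995) (iv F86039)
theorem F108046 : act 8 n24039 = n19425 := d42_2 (iv F86040) D24039 (iv D19425)
def n24040 : Q := act 7 n18994
theorem D24040 : act 7 n18994 = n24040 := rfl
theorem F108047 : act 0 n24040 = n20387 := d6_1 D24040 (iv D20387) (iv F86041)
theorem F108048 : act 2 n24040 = n19051 := d21_1 D24040 (iv D19051) (iv F86042)
theorem F108049 : act 5 n24040 = n18995 := d36_1 D24040 (iv D18995) D18994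
def n24041 : Q := act 8 n18994
theorem D24041 : act 8 n18994 = n24041 := rfl
theorem F108050 : act 0 n24041 = n20388 := d7_1 D24041 (iv D20388) (iv F86041)
theorem F108051 : act 2 n24041 = n19052 := d22_1 D24041 (iv D19052) (iv F86042)
theorem F108052 : act 5 n24041 = n19427 := d37_1 D24041 (iv D19427) (iv D15208) (iv F68077) D18994
theorem F108053 : act 6 n24041 = n19012 := d40_1 D24041 (iv D19012) (iv F86043)
def n24042 : Q := act 2 n18996
theorem D24042 : act 2 n18996 = n24042 := rfl
theorem F108054 : act 0 n24042 = n20389 := d1_1 D24042 (iv D20389) (iv F86048)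
theorem F108055 : act 3 n24042 = n19053 := d17_2 D18996 D24042 (iv D19053) (iv D14928) (iv F68082)
theorem F108056 : act 4 n24042 = n20151 := d18_2 (iv F86049) D24042 (iv D20151)
theorem F108057 : act 8 n24042 = n24042 := d22_2 F86050 D24042 (iv D24042)
theorem F108058 : act 9 n24042 = n19843 := d23_2 (iv F86051) D24042 (iv D19843)
def n24043 : Q := act 6 n18996
theorem D24043 : act 6 n18996 = n24043 := rfl
theorem F108059 : act 0 n24043 = n20390 := d5_1 D24043 (iv D20390) (iv F86048)
theorem F108060 : act 3 n24043 = n18997 := d26_1 D24043 (iv D18997) D18996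
theorem F108061 : act 4 n24043 = n20152 := d31_1 D24043 (iv D20152) (iv F86049)
theorem F108062 : act 8 n24043 = n24043 := d40_2 F86050 D24043 (iv D24043)
theorem F108063 : act 9 n24043 = n19844 := d41_2 (iv F86051) D24043 (iv D19844)
def n24044 : Q := act 5 n18997
theorem D24044 : act 5 n18997 = n24044 := rfl
theorem F108064 : act 0 n24044 = n20391 := d4_1 D24044 (iv D20391) (iv F86052)
theorem F108065 : act 2 n24044 = n19055 := d19_1 D24044 (iv D19055) (iv F86053)
theorem F108066 : act 4 n24044 = n19001 := d30_1 D24044 (iv D19001) F68098 (iv F68088) (iv F86054)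
theorem F108067 : act 9 n24044 = n19845 := d38_2 (iv F86056) D24044 (iv D19845)
def n24045 : Q := act 7 n18997
theorem D24045 : act 7 n18997 = n24045 := rfl
theorem F108068 : act 0 n24045 = n20392 := d6_1 D24045 (iv D20392) (iv F86052)
theorem F108069 : act 2 n24045 = n19056 := d21_1 D24045 (iv D19056) (iv F86053)
theorem F108070 : act 4 n24045 = n18998 := d32_1 D24045 (iv D18998) (iv F86054)
theorem F108071 : act 8 n24045 = n24045 := d42_2 F86055 D24045 (iv D24045)
theorem F108072 : act 9 n24045 = n19846 := d43_2 (iv F86056) D24045 (iv D19846)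
def n24046 : Q := act 1 n18999
theorem D24046 : act 1 n18999 = n24046 := rfl
theorem F108073 : act 3 n24046 = n19057 := d10_2 (iv F86064) D24046 (iv D19057)
theorem F108074 : act 4 n24046 = n20399 := d11_2 (iv F86065) D24046 (iv D20399)
theorem F108075 : act 7 n24046 = n19007 := d14_2 (iv F86066) D24046 (iv D19007)
theorem F108076 : act 8 n24046 = n19013 := d15_2 (iv F86067) D24046 (iv D19013)
theorem F108077 : act 9 n24046 = n19965 := d16_2 (iv F86068) D24046 (iv D19965)
def n24047 : Q := act 6 n18999
theorem D24047 : act 6 n18999 = n24047 := rfl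
theorem F108079 : act 2 n24047 = n19000 := d20_1 D24047 (iv D19000) D18999
theorem F108080 : act 3 n24047 = n19058 := d26_1 D24047 (iv D19058) (iv F86064)
theorem F108081 : act 4 n24047 = n20400 := d31_1 D24047 (iv D20400) (iv F86065)
theorem F108082 : act 8 n24047 = n19014 := d40_2 (iv F86067) D24047 (iv D19014)
theorem F108083 : act 9 n24047 = n19966 := d41_2 (iv F86068) D24047 (iv D19966)
def n24048 : Q := act 5 n19000
theorem D24048 : act 5 n19000 = n24048 := rfl
theorem F108084 : act 0 n24048 = n20395 := d4_1 D24048 (iv D20395) (iv F86069)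
theorem F108085 : act 3 n24048 = n19001 := d25_1 D24048 (iv D19001) (iv F86070)
theorem F108086 : act 9 n24048 = n19967 := d38_2 (iv F86073) D24048 (iv D19967)
def n24049 : Q := act 7 n19000
theorem D24049 : act 7 n19000 = n24049 := rfl
theorem F108087 : act 0 n24049 = n20396 := d6_1 D24049 (iv D20396) (iv F86069)
theorem F108088 : act 3 n24049 = n19002 := d27_1 D24049 (iv D19002) (iv F86070)
theorem F108089 : act 4 n24049 = n20402 := d32_1 D24049 (iv D20402) (iv F86071)
theorem F108090 : act 6 n24049 = n19010 := d39_1 D24049 (iv D19010) (iv D14897) (iv F68093) D19000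
theorem F108091 : act 8 n24049 = n19016 := d42_2 (iv F86072) D24049 (iv D19016)
theorem F108092 : act 9 n24049 = n19968 := d43_2 (iv F86073) D24049 (iv D19968)
def n24050 : Q := act 7 n19001
theorem D24050 : act 7 n19001 = n24050 := rfl
theorem F108093 : act 0 n24050 = n20397 := d6_1 D24050 (iv D20397) (iv F86074)
theorem F108094 : act 2 n24050 = n19061 := d21_1 D24050 (iv D19061) (iv F86075)
theorem F108095 : act 5 n24050 = n19002 := d36_1 D24050 (iv D19002) D19001
theorem F108096 : act 9 n24050 = n19969 := d43_2 (iv F86076) D24050 (iv D19969)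
def n24051 : Q := act 8 n19001
theorem D24051 : act 8 n19001 = n24051 := rfl
theorem F108097 : act 0 n24051 = n20398 := d7_1 D24051 (iv D20398) (iv F86074)
theorem F108098 : act 2 n24051 = n19062 := d22_1 D24051 (iv D19062) (iv F86075)
theorem F108099 : act 5 n24051 = n19018 := d37_1 D24051 (iv D19018) (iv D14902) (iv F68099) D19001
def n24052 : Q := act 1 n19003
theorem D24052 : act 1 n19003 = n24052 := rfl
theorem F108103 : act 8 n24052 = n19210 := d15_2 (iv F86087) D24052 (iv D19210)
theorem F108104 : act 9 n24052 = n19007 := d16_2 (iv F86088) D24052 (iv D19007)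
def n24053 : Q := act 6 n19003
theorem D24053 : act 6 n19003 = n24053 := rfl
theorem F108105 : act 0 n24053 = n20400 := d5_1 D24053 (iv D20400) (iv F86083)
theorem F108106 : act 2 n24053 = n19004 := d20_1 D24053 (iv D19004) D19003
theorem F108107 : act 3 n24053 = n19064 := d26_1 D24053 (iv D19064) (iv F86084)
theorem F108109 : act 8 n24053 = n19211 := d40_2 (iv F86087) D24053 (iv D19211)
theorem F108110 : act 9 n24053 = n19008 := d41_2 (iv F86088) D24053 (iv D19008)
def n24054 : Q := act 5 n19004
theorem D24054 : act 5 n19004 = n24054 := rfl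
theorem F108111 : act 0 n24054 = n20401 := d4_1 D24054 (iv D20401) (iv F86089)
theorem F108112 : act 3 n24054 = n19005 := d25_1 D24054 (iv D19005) (iv F86090)
theorem F108113 : act 9 n24054 = n19009 := d38_2 (iv F86093) D24054 (iv D19009)
def n24055 : Q := act 7 n19004
theorem D24055 : act 7 n19004 = n24055 := rfl
theorem F108114 : act 0 n24055 = n20402 := d6_1 D24055 (iv D20402) (iv F86089)
theorem F108115 : act 3 n24055 = n19006 := d27_1 D24055 (iv D19006) (iv F86090)
theorem F108116 : act 4 n24055 = n20396 := d32_1 D24055 (iv D20396) (iv F86091)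
theorem F108117 : act 6 n24055 = n19968 := d39_1 D24055 (iv D19968) (iv D15628) (iv F68109) D19004
theorem F108118 : act 8 n24055 = n19213 := d42_2 (iv F86092) D24055 (iv D19213)
theorem F108119 : act 9 n24055 = n19010 := d43_2 (iv F86093) D24055 (iv D19010)
def n24056 : Q := act 7 n19005
theorem D24056 : act 7 n19005 = n24056 := rfl
theorem F108120 : act 0 n24056 = n20403 := d6_1 D24056 (iv D20403) (iv F86094)
theorem F108121 : act 2 n24056 = n19067 := d21_1 D24056 (iv D19067) (iv F86095)
theorem F108122 : act 5 n24056 = n19006 := d36_1 D24056 (iv D19006) D19005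
theorem F108123 : act 9 n24056 = n19011 := d43_2 (iv F86096) D24056 (iv D19011)
def n24057 : Q := act 8 n19005
theorem D24057 : act 8 n19005 = n24057 := rfl
theorem F108124 : act 0 n24057 = n20404 := d7_1 D24057 (iv D20404) (iv F86094)
theorem F108125 : act 2 n24057 = n19068 := d22_1 D24057 (iv D19068) (iv F86095)
theorem F108126 : act 5 n24057 = n19215 := d37_1 D24057 (iv D19215) (iv D15045) (iv F68115) D19005
def n24058 : Q := act 0 n19007
theorem D24058 : act 0 n19007 = n24058 := rfl
theorem F108127 : act 1 n24058 = n20405 := d0_2 D19007 D24058 (iv D20405) (iv D15954) (iv F68123)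
theorem F108128 : act 3 n24058 = n19069 := d2_2 (iv F86103) D24058 (iv D19069)
theorem F108129 : act 8 n24058 = n19019 := d7_2 (iv F86104) D24058 (iv D19019)
def n24059 : Q := act 6 n19007
theorem D24059 : act 6 n19007 = n24059 := rfl
theorem F108130 : act 1 n24059 = n19008 := d13_1 D24059 (iv D19008) D19007
theorem F108131 : act 3 n24059 = n19070 := d26_1 D24059 (iv D19070) (iv F86103)
theorem F108132 : act 8 n24059 = n19020 := d40_2 (iv F86104) D24059 (iv D19020)
def n24060 : Q := act 5 n19008
theorem D24060 : act 5 n19008 = n24060 := rfl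
theorem F108133 : act 0 n24060 = n20407 := d4_1 D24060 (iv D20407) (iv F86105)
theorem F108134 : act 2 n24060 = n19009 := d19_1 D24060 (iv D19009) (iv F86106)
theorem F108135 : act 3 n24060 = n19071 := d25_1 D24060 (iv D19071) (iv F86107)
def n24061 : Q := act 7 n19008
theorem D24061 : act 7 n19008 = n24061 := rfl
theorem F108136 : act 0 n24061 = n20408 := d6_1 D24061 (iv D20408) (iv F86105)
theorem F108137 : act 2 n24061 = n19010 := d21_1 D24061 (iv D19010) (iv F86106)
theorem F108138 : act 3 n24061 = n19072 := d27_1 D24061 (iv D19072) (iv F86107)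
theorem F108139 : act 8 n24061 = n19022 := d42_2 (iv F86108) D24061 (iv D19022)
def n24062 : Q := act 4 n19009
theorem D24062 : act 4 n19009 = n24062 := rfl
theorem F108140 : act 0 n24062 = n20409 := d3_1 D24062 (iv D20409) (iv F86109)
def n24063 : Q := act 7 n19009
theorem D24063 : act 7 n19009 = n24063 := rfl
theorem F108141 : act 0 n24063 = n20410 := d6_1 D24063 (iv D20410) (iv F86109)
theorem F108142 : act 3 n24063 = n19011 := d27_1 D24063 (iv D19011) (iv F86110)
theorem F108143 : act 5 n24063 = n19010 := d36_1 D24063 (iv D19010) D19009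
def n24064 : Q := act 8 n19009
theorem D24064 : act 8 n19009 = n24064 := rfl
theorem F108144 : act 0 n24064 = n20411 := d7_1 D24064 (iv D20411) (iv F86109)
theorem F108145 : act 3 n24064 = n19012 := d28_1 D24064 (iv D19012) (iv F86110)
theorem F108146 : act 5 n24064 = n19025 := d37_1 D24064 (iv D19025) (iv D14906) (iv F68128) D19009
def n24065 : Q := act 6 n19011
theorem D24065 : act 6 n19011 = n24065 := rfl
theorem F108147 : act 0 n24065 = n20412 := d5_1 D24065 (iv D20412) (iv F86114)
theorem F108148 : act 2 n24065 = n19076 := d20_1 D24065 (iv D19076) (iv F86115)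
def n24066 : Q := act 8 n19011
theorem D24066 : act 8 n19011 = n24066 := rfl
theorem F108149 : act 0 n24066 = n20413 := d7_1 D24066 (iv D20413) (iv F86114)
theorem F108150 : act 2 n24066 = n19077 := d22_1 D24066 (iv D19077) (iv F86115)
theorem F108151 : act 5 n24066 = n19027 := d37_1 D24066 (iv D19027) F68172 (iv F68134) (iv F86116)
theorem F108152 : act 7 n24066 = n19012 := d42_1 D24066 (iv D19012) D19011
def n24067 : Q := act 9 n19012
theorem D24067 : act 9 n19012 = n24067 := rfl
theorem F108153 : act 0 n24067 = n20414 := d8_1 D24067 (iv D20414) (iv F86117)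
theorem F108154 : act 2 n24067 = n19078 := d23_1 D24067 (iv D19078) (iv F86118)
theorem F108155 : act 5 n24067 = n19028 := d38_1 D24067 (iv D19028) (iv F86119)
def n24068 : Q := act 0 n19013
theorem D24068 : act 0 n19013 = n24068 := rfl
theorem F108157 : act 3 n24068 = n19079 := d2_2 (iv F86120) D24068 (iv D19079)
theorem F108158 : act 4 n24068 = n20685 := d3_2 (iv F86121) D24068 (iv D20685)
theorem F108160 : act 7 n24068 = n19019 := d6_2 (iv F86123) D24068 (iv D19019)
def n24069 : Q := act 6 n19013
theorem D24069 : act 6 n19013 = n24069 := rfl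
theorem F108164 : act 4 n24069 = n20686 := d31_1 D24069 (iv D20686) (iv F86121)
theorem F108165 : act 9 n24069 = n19227 := d41_2 (iv F86124) D24069 (iv D19227)
def n24071 : Q := act 7 n19014
theorem D24071 : act 7 n19014 = n24071 := rfl
theorem F108172 : act 2 n24071 = n19016 := d21_1 D24071 (iv D19016) (iv F86126)
theorem F108173 : act 3 n24071 = n19082 := d27_1 D24071 (iv D19082) (iv F86127)
theorem F108174 : act 4 n24071 = n20688 := d32_1 D24071 (iv D20688) (iv F86128)
theorem F108175 : act 6 n24071 = n19022 := d39_1 D24071 (iv D19022) (iv D14905) (iv F68139) D19014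
theorem F108176 : act 9 n24071 = n19229 := d43_2 (iv F86129) D24071 (iv D19229)
def n24072 : Q := act 4 n19015
theorem D24072 : act 4 n19015 = n24072 := rfl
theorem F108178 : act 3 n24072 = n24072 := d24_1 D24072 (iv D24072) F86131 F68147 (iv F86131)
theorem F108179 : act 5 n24072 = n20689 := d30_2 D19015 D24072 (iv D20689) (iv D16159) (iv F68143)
theorem F108180 : act 6 n24072 = n19452 := d31_2 (iv F86132) D24072 (iv D19452)
theorem F108181 : act 9 n24072 = n19230 := d34_2 (iv F86133) D24072 (iv D19230)
def n24073 : Q := act 7 n19015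
theorem D24073 : act 7 n19015 = n24073 := rfl
theorem F108183 : act 3 n24073 = n19017 := d27_1 D24073 (iv D19017) (iv F86131)
theorem F108184 : act 5 n24073 = n19016 := d36_1 D24073 (iv D19016) D19015
theorem F108185 : act 9 n24073 = n19231 := d43_2 (iv F86133) D24073 (iv D19231)
def n24074 : Q := act 8 n19015
theorem D24074 : act 8 n19015 = n24074 := rfl
theorem F108187 : act 3 n24074 = n19018 := d28_1 D24074 (iv D19018) (iv F86131)
theorem F108188 : act 6 n24074 = n19454 := d40_1 D24074 (iv D19454) (iv F86132)
def n24075 : Q := act 6 n19017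
theorem D24075 : act 6 n19017 = n24075 := rfl
theorem F108189 : act 0 n24075 = n20422 := d5_1 D24075 (iv D20422) (iv F86139)
theorem F108190 : act 2 n24075 = n19086 := d20_1 D24075 (iv D19086) (iv F86140)
theorem F108191 : act 4 n24075 = n24075 := d31_1 D24075 (iv D24075) F86141
theorem F108192 : act 5 n24075 = n19026 := d35_1 D24075 (iv D19026) F68172 (iv F68153) (iv F86142)
theorem F108193 : act 7 n24075 = n19455 := d39_2 D19017 D24075 (iv D19455) (iv D15227) (iv F68148)
theorem F108194 : act 9 n24075 = n19233 := d41_2 (iv F86143) D24075 (iv D19233)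
def n24076 : Q := act 8 n19017
theorem D24076 : act 8 n19017 = n24076 := rfl
theorem F108195 : act 0 n24076 = n20423 := d7_1 D24076 (iv D20423) (iv F86139)
theorem F108196 : act 2 n24076 = n19087 := d22_1 D24076 (iv D19087) (iv F86140)
theorem F108197 : act 4 n24076 = n24076 := d33_1 D24076 (iv D24076) F86141
theorem F108198 : act 7 n24076 = n19018 := d42_1 D24076 (iv D19018) D19017
def n24077 : Q := act 9 n19018
theorem D24077 : act 9 n19018 = n24077 := rfl
theorem F108199 : act 0 n24077 = n20424 := d8_1 D24077 (iv D20424) (iv F86144)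
theorem F108200 : act 2 n24077 = n19088 := d23_1 D24077 (iv D19088) (iv F86145)
theorem F108201 : act 4 n24077 = n24077 := d34_1 D24077 (iv D24077) F86146
theorem F108202 : act 6 n24077 = n19457 := d41_1 D24077 (iv D19457) (iv F86147)
theorem F108203 : act 8 n24077 = n19235 := d44_1 D24077 (iv D19235) (iv D15058) (iv F68149) D19018
def n24078 : Q := act 6 n19019
theorem D24078 : act 6 n19019 = n24078 := rfl
theorem F108204 : act 0 n24078 = n19020 := d5_1 D24078 (iv D19020) D19019
theorem F108205 : act 1 n24078 = n20425 := d13_1 D24078 (iv D20425) (iv F86148)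
theorem F108206 : act 3 n24078 = n19089 := d26_1 D24078 (iv D19089) (iv F86149)
theorem F108207 : act 9 n24078 = n19236 := d41_2 (iv F86151) D24078 (iv D19236)
def n24079 : Q := act 5 n19020
theorem D24079 : act 5 n19020 = n24079 := rfl
theorem F108208 : act 1 n24079 = n19021 := d12_1 D24079 (iv D19021) (iv F86152)
theorem F108209 : act 3 n24079 = n19090 := d25_1 D24079 (iv D19090) (iv F86153)
theorem F108210 : act 6 n24079 = n19459 := d35_2 D19020 D24079 (iv D19459) (iv D15230) (iv F68156)
theorem F108211 : act 9 n24079 = n19237 := d38_2 (iv F86154) D24079 (iv D19237)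
def n24080 : Q := act 7 n19020
theorem D24080 : act 7 n19020 = n24080 := rfl
theorem F108212 : act 1 n24080 = n19022 := d14_1 D24080 (iv D19022) (iv F86152)
theorem F108213 : act 3 n24080 = n19091 := d27_1 D24080 (iv D19091) (iv F86153)
theorem F108214 : act 9 n24080 = n19238 := d43_2 (iv F86154) D24080 (iv D19238)
def n24081 : Q := act 4 n19021
theorem D24081 : act 4 n19021 = n24081 := rfl
theorem F108215 : act 0 n24081 = n20428 := d3_1 D24081 (iv D20428) (iv F86155)
theorem F108216 : act 2 n24081 = n19023 := d18_1 D24081 (iv D19023) (iv F86156)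
theorem F108217 : act 3 n24081 = n24081 := d24_1 D24081 (iv D24081) F86157 F68384 (iv F86157)
theorem F108218 : act 6 n24081 = n19461 := d31_2 (iv F86158) D24081 (iv D19461)
theorem F108219 : act 9 n24081 = n19239 := d34_2 (iv F86159) D24081 (iv D19239)
def n24082 : Q := act 7 n19021
theorem D24082 : act 7 n19021 = n24082 := rfl
theorem F108220 : act 0 n24082 = n20429 := d6_1 D24082 (iv D20429) (iv F86155)
theorem F108221 : act 2 n24082 = n19024 := d21_1 D24082 (iv D19024) (iv F86156)
theorem F108222 : act 3 n24082 = n19092 := d27_1 D24082 (iv D19092) (iv F86157)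
theorem F108223 : act 5 n24082 = n19022 := d36_1 D24082 (iv D19022) D19021
theorem F108224 : act 9 n24082 = n19240 := d43_2 (iv F86159) D24082 (iv D19240)
def n24083 : Q := act 8 n19021
theorem D24083 : act 8 n19021 = n24083 := rfl
theorem F108225 : act 0 n24083 = n20430 := d7_1 D24083 (iv D20430) (iv F86155)
theorem F108226 : act 2 n24083 = n19025 := d22_1 D24083 (iv D19025) (iv F86156)
theorem F108227 : act 3 n24083 = n19093 := d28_1 D24083 (iv D19093) (iv F86157)
theorem F108228 : act 6 n24083 = n19463 := d40_1 D24083 (iv D19463) (iv F86158)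
def n24084 : Q := act 7 n19023
theorem D24084 : act 7 n19023 = n24084 := rfl
theorem F108229 : act 0 n24084 = n20431 := d6_1 D24084 (iv D20431) (iv F86164)
theorem F108230 : act 3 n24084 = n19029 := d27_1 D24084 (iv D19029) (iv F86165)
theorem F108231 : act 4 n24084 = n19024 := d32_1 D24084 (iv D19024) D19023
theorem F108232 : act 9 n24084 = n19242 := d43_2 (iv F86167) D24084 (iv D19242)
def n24085 : Q := act 8 n19023
theorem D24085 : act 8 n19023 = n24085 := rfl
theorem F108233 : act 0 n24085 = n20432 := d7_1 D24085 (iv D20432) (iv F86164)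
theorem F108234 : act 3 n24085 = n19030 := d28_1 D24085 (iv D19030) (iv F86165)
theorem F108235 : act 4 n24085 = n19025 := d33_1 D24085 (iv D19025) D19023
theorem F108236 : act 6 n24085 = n19465 := d40_1 D24085 (iv D19465) (iv F86166)
def n24086 : Q := act 6 n19024
theorem D24086 : act 6 n19024 = n24086 := rfl
theorem F108238 : act 3 n24086 = n19026 := d26_1 D24086 (iv D19026) (iv F86169)
theorem F108239 : act 7 n24086 = n19466 := d39_2 D19024 D24086 (iv D19466) (iv D15234) (iv F68164)
theorem F108240 : act 9 n24086 = n19244 := d41_2 (iv F86171) D24086 (iv D19244)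
def n24087 : Q := act 8 n19024
theorem D24087 : act 8 n19024 = n24087 := rfl
theorem F108241 : act 0 n24087 = n20434 := d7_1 D24087 (iv D20434) (iv F86168)
theorem F108242 : act 3 n24087 = n19027 := d28_1 D24087 (iv D19027) (iv F86169)
theorem F108243 : act 7 n24087 = n19025 := d42_1 D24087 (iv D19025) D19024
def n24088 : Q := act 9 n19025
theorem D24088 : act 9 n19025 = n24088 := rfl
theorem F108244 : act 0 n24088 = n20435 := d8_1 D24088 (iv D20435) (iv F86172)
theorem F108245 : act 3 n24088 = n19028 := d29_1 D24088 (iv D19028) (iv F86173)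
theorem F108246 : act 6 n24088 = n19468 := d41_1 D24088 (iv D19468) (iv F86174)
theorem F108247 : act 8 n24088 = n19246 := d44_1 D24088 (iv D19246) (iv D15065) (iv F68165) D19025
def n24089 : Q := act 8 n19026
theorem D24089 : act 8 n19026 = n24089 := rfl
theorem F108248 : act 0 n24089 = n20436 := d7_1 D24089 (iv D20436) (iv F86175)
theorem F108249 : act 2 n24089 = n19097 := d22_1 D24089 (iv D19097) (iv F86176)
theorem F108250 : act 4 n24089 = n19034 := d33_1 D24089 (iv D19034) (iv F86177)
theorem F108251 : act 6 n24089 = n19027 := d40_1 D24089 (iv D19027) D19026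
theorem F108252 : act 7 n24089 = n19469 := d42_1 D24089 (iv D19469) (iv F86178)
def n24090 : Q := act 9 n19027
theorem D24090 : act 9 n19027 = n24090 := rfl
theorem F108253 : act 0 n24090 = n20437 := d8_1 D24090 (iv D20437) (iv F86180)
theorem F108254 : act 2 n24090 = n19098 := d23_1 D24090 (iv D19098) (iv F86181)
theorem F108255 : act 4 n24090 = n19035 := d34_1 D24090 (iv D19035) (iv F86182)
theorem F108256 : act 7 n24090 = n19028 := d43_1 D24090 (iv D19028) (iv F86183)
theorem F108257 : act 8 n24090 = n19248 := d44_1 D24090 (iv D19248) (iv D15067) (iv F68173) D19027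
def n24091 : Q := act 6 n19029
theorem D24091 : act 6 n19029 = n24091 := rfl
theorem F108258 : act 0 n24091 = n20438 := d5_1 D24091 (iv D20438) (iv F86189)
theorem F108259 : act 2 n24091 = n24091 := d20_1 D24091 (iv D24091) F86190
theorem F108260 : act 4 n24091 = n19031 := d31_1 D24091 (iv D19031) (iv F86191)
theorem F108262 : act 9 n24091 = n19249 := d41_2 (iv F86192) D24091 (iv D19249)
def n24092 : Q := act 8 n19029
theorem D24092 : act 8 n19029 = n24092 := rfl
theorem F108263 : act 0 n24092 = n20439 := d7_1 D24092 (iv D20439) (iv F86189)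
theorem F108264 : act 2 n24092 = n24092 := d22_1 D24092 (iv D24092) F86190
theorem F108265 : act 4 n24092 = n19032 := d33_1 D24092 (iv D19032) (iv F86191)
theorem F108266 : act 7 n24092 = n19030 := d42_1 D24092 (iv D19030) D19029
def n24093 : Q := act 5 n19030
theorem D24093 : act 5 n19030 = n24093 := rfl
theorem F108267 : act 0 n24093 = n20440 := d4_1 D24093 (iv D20440) (iv F86193)
theorem F108268 : act 2 n24093 = n24093 := d19_1 D24093 (iv D24093) F86194
def n24094 : Q := act 9 n19030
theorem D24094 : act 9 n19030 = n24094 := rfl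
theorem F108269 : act 0 n24094 = n20441 := d8_1 D24094 (iv D20441) (iv F86193)
theorem F108270 : act 2 n24094 = n24094 := d23_1 D24094 (iv D24094) F86194
theorem F108271 : act 4 n24094 = n19033 := d34_1 D24094 (iv D19033) (iv F86195)
theorem F108273 : act 8 n24094 = n19252 := d44_1 D24094 (iv D19252) (iv D15070) (iv F68181) D19030
def n24095 : Q := act 8 n19031
theorem D24095 : act 8 n19031 = n24095 := rfl
theorem F108276 : act 3 n24095 = n19034 := d28_1 D24095 (iv D19034) (iv F86199)
theorem F108277 : act 6 n24095 = n19032 := d40_1 D24095 (iv D19032) D19031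
def n24096 : Q := act 9 n19032
theorem D24096 : act 9 n19032 = n24096 := rfl
theorem F108281 : act 3 n24096 = n19035 := d29_1 D24096 (iv D19035) (iv F86205)
theorem F108282 : act 7 n24096 = n19033 := d43_1 D24096 (iv D19033) (iv F86206)
theorem F108283 : act 8 n24096 = n19254 := d44_1 D24096 (iv D19254) (iv D15072) (iv F68186) D19032
def n24097 : Q := act 5 n19034
theorem D24097 : act 5 n19034 = n24097 := rfl
theorem F108284 : act 0 n24097 = n20444 := d4_1 D24097 (iv D20444) (iv F86212)
theorem F108285 : act 2 n24097 = n19099 := d19_1 D24097 (iv D19099) (iv F86213)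
theorem F108286 : act 7 n24097 = n19477 := d36_2 (iv F86215) D24097 (iv D19477)
theorem F108287 : act 8 n24097 = n24097 := d37_2 D19034 D24097 (iv D24097) (iv D19034) F68193
def n24098 : Q := act 9 n19034
theorem D24098 : act 9 n19034 = n24098 := rfl
theorem F108288 : act 0 n24098 = n20445 := d8_1 D24098 (iv D20445) (iv F86212)
theorem F108289 : act 2 n24098 = n19100 := d23_1 D24098 (iv D19100) (iv F86213)
theorem F108290 : act 6 n24098 = n19035 := d41_1 D24098 (iv D19035) (iv F86214)
theorem F108292 : act 8 n24098 = n19256 := d44_1 D24098 (iv D19256) (iv D15074) (iv F68195) D19034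
def n24099 : Q := act 2 n19036
theorem D24099 : act 2 n19036 = n24099 := rfl
theorem F108293 : act 0 n24099 = n20446 := d1_1 D24099 (iv D20446) (iv F86220)
theorem F108294 : act 4 n24099 = n24099 := d18_2 F86222 D24099 (iv D24099)
theorem F108295 : act 5 n24099 = n19053 := d19_2 (iv F86223) D24099 (iv D19053)
theorem F108296 : act 7 n24099 = n21647 := d21_2 (iv F86224) D24099 (iv D21647)
theorem F108298 : act 9 n24099 = n19863 := d23_2 (iv F86226) D24099 (iv D19863)
def n24100 : Q := act 6 n19036
theorem D24100 : act 6 n19036 = n24100 := rfl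
theorem F108299 : act 0 n24100 = n20447 := d5_1 D24100 (iv D20447) (iv F86220)
theorem F108300 : act 1 n24100 = n24100 := d13_1 D24100 (iv D24100) F86221
theorem F108301 : act 3 n24100 = n19037 := d26_1 D24100 (iv D19037) D19036
theorem F108302 : act 4 n24100 = n24100 := d31_1 D24100 (iv D24100) F86222
def n24101 : Q := act 5 n19037
theorem D24101 : act 5 n19037 = n24101 := rfl
theorem F108305 : act 0 n24101 = n20448 := d4_1 D24101 (iv D20448) (iv F86227)
theorem F108306 : act 1 n24101 = n24101 := d12_1 D24101 (iv D24101) F86228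
theorem F108307 : act 4 n24101 = n19041 := d30_1 D24101 (iv D19041) F68224 (iv F68212) (iv F86229)
theorem F108308 : act 6 n24101 = n19055 := d35_2 D19037 D24101 (iv D19055) (iv D14929) (iv F68205)
theorem F108309 : act 9 n24101 = n19865 := d38_2 (iv F86231) D24101 (iv D19865)
def n24102 : Q := act 7 n19037
theorem D24102 : act 7 n19037 = n24102 := rfl
theorem F108310 : act 0 n24102 = n20449 := d6_1 D24102 (iv D20449) (iv F86227)
theorem F108311 : act 1 n24102 = n24102 := d14_1 D24102 (iv D24102) F86228
theorem F108312 : act 4 n24102 = n19038 := d32_1 D24102 (iv D19038) (iv F86229)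
theorem F108313 : act 6 n24102 = n21650 := d39_1 D24102 (iv D21650) (iv D16923) (iv F68206) D19037
theorem F108314 : act 8 n24102 = n22053 := d42_2 (iv F86230) D24102 (iv D22053)
theorem F108315 : act 9 n24102 = n19866 := d43_2 (iv F86231) D24102 (iv D19866)
def n24103 : Q := act 1 n19039
theorem D24103 : act 1 n19039 = n24103 := rfl
theorem F108316 : act 2 n24103 = n24103 := d9_2 D19039 D24103 (iv D24103) (iv D19039) F68216
theorem F108317 : act 4 n24103 = n24103 := d11_2 F86240 D24103 (iv D24103)
theorem F108318 : act 5 n24103 = n19057 := d12_2 (iv F86241) D24103 (iv D19057)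
theorem F108319 : act 7 n24103 = n19047 := d14_2 (iv F86242) D24103 (iv D19047)
theorem F108321 : act 9 n24103 = n19988 := d16_2 (iv F86244) D24103 (iv D19988)
def n24104 : Q := act 6 n19039
theorem D24104 : act 6 n19039 = n24104 := rfl
theorem F108322 : act 0 n24104 = n20451 := d5_1 D24104 (iv D20451) (iv F86239)
theorem F108323 : act 2 n24104 = n19040 := d20_1 D24104 (iv D19040) D19039
theorem F108324 : act 4 n24104 = n24104 := d31_1 D24104 (iv D24104) F86240
theorem F108325 : act 8 n24104 = n19484 := d40_2 (iv F86243) D24104 (iv D19484)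
theorem F108326 : act 9 n24104 = n19989 := d41_2 (iv F86244) D24104 (iv D19989)
def n24105 : Q := act 5 n19040
theorem D24105 : act 5 n19040 = n24105 := rfl
theorem F108327 : act 0 n24105 = n20452 := d4_1 D24105 (iv D20452) (iv F86245)
theorem F108328 : act 1 n24105 = n24105 := d12_1 D24105 (iv D24105) F86246
theorem F108329 : act 3 n24105 = n19041 := d25_1 D24105 (iv D19041) (iv F86247)
theorem F108330 : act 6 n24105 = n19059 := d35_2 D19040 D24105 (iv D19059) (iv D14932) (iv F68218)
theorem F108331 : act 9 n24105 = n19990 := d38_2 (iv F86250) D24105 (iv D19990)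
def n24106 : Q := act 7 n19040
theorem D24106 : act 7 n19040 = n24106 := rfl
theorem F108332 : act 0 n24106 = n20453 := d6_1 D24106 (iv D20453) (iv F86245)
theorem F108333 : act 1 n24106 = n24106 := d14_1 D24106 (iv D24106) F86246
theorem F108334 : act 3 n24106 = n19042 := d27_1 D24106 (iv D19042) (iv F86247)
theorem F108335 : act 4 n24106 = n24106 := d32_1 D24106 (iv D24106) F86248
theorem F108336 : act 6 n24106 = n19050 := d39_1 D24106 (iv D19050) (iv D14925) (iv F68219) D19040
theorem F108337 : act 8 n24106 = n19486 := d42_2 (iv F86249) D24106 (iv D19486)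
theorem F108338 : act 9 n24106 = n19991 := d43_2 (iv F86250) D24106 (iv D19991)
def n24107 : Q := act 7 n19041
theorem D24107 : act 7 n19041 = n24107 := rfl
theorem F108339 : act 0 n24107 = n20454 := d6_1 D24107 (iv D20454) (iv F86251)
theorem F108340 : act 1 n24107 = n24107 := d14_1 D24107 (iv D24107) F86252
theorem F108341 : act 5 n24107 = n19042 := d36_1 D24107 (iv D19042) D19041
theorem F108342 : act 9 n24107 = n19992 := d43_2 (iv F86254) D24107 (iv D19992)
def n24108 : Q := act 8 n19041
theorem D24108 : act 8 n19041 = n24108 := rfl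
theorem F108343 : act 0 n24108 = n20455 := d7_1 D24108 (iv D20455) (iv F86251)
theorem F108344 : act 1 n24108 = n24108 := d15_1 D24108 (iv D24108) F86252
theorem F108345 : act 5 n24108 = n19488 := d37_1 D24108 (iv D19488) (iv D15251) (iv F68225) D19041
theorem F108346 : act 6 n24108 = n19062 := d40_1 D24108 (iv D19062) (iv F86253)
def n24109 : Q := act 1 n19043
theorem D24109 : act 1 n19043 = n24109 := rfl
theorem F108349 : act 5 n24109 = n19063 := d12_2 (iv F86263) D24109 (iv D19063)
theorem F108352 : act 9 n24109 = n19047 := d16_2 (iv F86266) D24109 (iv D19047)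
def n24110 : Q := act 6 n19043
theorem D24110 : act 6 n19043 = n24110 := rfl
theorem F108353 : act 0 n24110 = n20457 := d5_1 D24110 (iv D20457) (iv F86261)
theorem F108354 : act 2 n24110 = n19044 := d20_1 D24110 (iv D19044) D19043
theorem F108355 : act 4 n24110 = n24110 := d31_1 D24110 (iv D24110) F86262
theorem F108356 : act 8 n24110 = n24110 := d40_2 F86265 D24110 (iv D24110)
theorem F108357 : act 9 n24110 = n19048 := d41_2 (iv F86266) D24110 (iv D19048)
def n24111 : Q := act 5 n19044
theorem D24111 : act 5 n19044 = n24111 := rfl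
theorem F108358 : act 0 n24111 = n20458 := d4_1 D24111 (iv D20458) (iv F86267)
theorem F108359 : act 1 n24111 = n24111 := d12_1 D24111 (iv D24111) F86268
theorem F108360 : act 3 n24111 = n19045 := d25_1 D24111 (iv D19045) (iv F86269)
theorem F108361 : act 6 n24111 = n19065 := d35_2 D19044 D24111 (iv D19065) (iv D14936) (iv F68236)
theorem F108362 : act 9 n24111 = n19049 := d38_2 (iv F86272) D24111 (iv D19049)
def n24112 : Q := act 7 n19044
theorem D24112 : act 7 n19044 = n24112 := rfl
theorem F108363 : act 0 n24112 = n20459 := d6_1 D24112 (iv D20459) (iv F86267)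
theorem F108364 : act 1 n24112 = n24112 := d14_1 D24112 (iv D24112) F86268
theorem F108365 : act 3 n24112 = n19046 := d27_1 D24112 (iv D19046) (iv F86269)
theorem F108366 : act 4 n24112 = n24112 := d32_1 D24112 (iv D24112) F86270
theorem F108367 : act 6 n24112 = n19991 := d39_1 D24112 (iv D19991) (iv D15644) (iv F68237) D19044
theorem F108368 : act 8 n24112 = n24112 := d42_2 F86271 D24112 (iv D24112)
theorem F108369 : act 9 n24112 = n19050 := d43_2 (iv F86272) D24112 (iv D19050)
def n24113 : Q := act 7 n19045
theorem D24113 : act 7 n19045 = n24113 := rfl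
theorem F108370 : act 0 n24113 = n20460 := d6_1 D24113 (iv D20460) (iv F86273)
theorem F108371 : act 1 n24113 = n24113 := d14_1 D24113 (iv D24113) F86274
theorem F108372 : act 5 n24113 = n19046 := d36_1 D24113 (iv D19046) D19045
theorem F108373 : act 9 n24113 = n19051 := d43_2 (iv F86276) D24113 (iv D19051)
def n24114 : Q := act 8 n19045
theorem D24114 : act 8 n19045 = n24114 := rfl
theorem F108374 : act 0 n24114 = n20461 := d7_1 D24114 (iv D20461) (iv F86273)
theorem F108375 : act 1 n24114 = n24114 := d15_1 D24114 (iv D24114) F86274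
theorem F108376 : act 5 n24114 = n24114 := d37_1 D24114 (iv D24114) (iv D19045) F68243 D19045
theorem F108377 : act 6 n24114 = n19068 := d40_1 D24114 (iv D19068) (iv F86275)
def n24115 : Q := act 0 n19047
theorem D24115 : act 0 n19047 = n24115 := rfl
theorem F108378 : act 1 n24115 = n20462 := d0_2 D19047 D24115 (iv D20462) (iv D15994) (iv F68251)
theorem F108379 : act 2 n24115 = n24115 := d1_2 F86283 D24115 (iv D24115)
theorem F108380 : act 4 n24115 = n24115 := d3_2 F86284 D24115 (iv D24115)
theorem F108381 : act 5 n24115 = n19069 := d4_2 (iv F86285) D24115 (iv D19069)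
def n24116 : Q := act 6 n19047
theorem D24116 : act 6 n19047 = n24116 := rfl
theorem F108383 : act 1 n24116 = n19048 := d13_1 D24116 (iv D19048) D19047
theorem F108384 : act 2 n24116 = n24116 := d20_1 D24116 (iv D24116) F86283
theorem F108385 : act 4 n24116 = n24116 := d31_1 D24116 (iv D24116) F86284
theorem F108386 : act 8 n24116 = n19490 := d40_2 (iv F86286) D24116 (iv D19490)
def n24117 : Q := act 5 n19048
theorem D24117 : act 5 n19048 = n24117 := rfl
theorem F108387 : act 0 n24117 = n20464 := d4_1 D24117 (iv D20464) (iv F86287)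
theorem F108388 : act 2 n24117 = n19049 := d19_1 D24117 (iv D19049) (iv F86288)
theorem F108389 : act 6 n24117 = n19071 := d35_2 D19048 D24117 (iv D19071) (iv D14940) (iv F68253)
def n24118 : Q := act 7 n19048
theorem D24118 : act 7 n19048 = n24118 := rfl
theorem F108390 : act 0 n24118 = n20465 := d6_1 D24118 (iv D20465) (iv F86287)
theorem F108391 : act 2 n24118 = n19050 := d21_1 D24118 (iv D19050) (iv F86288)
theorem F108392 : act 4 n24118 = n24118 := d32_1 D24118 (iv D24118) F86289
theorem F108393 : act 8 n24118 = n19492 := d42_2 (iv F86290) D24118 (iv D19492)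
def n24119 : Q := act 4 n19049
theorem D24119 : act 4 n19049 = n24119 := rfl
theorem F108394 : act 0 n24119 = n20466 := d3_1 D24119 (iv D20466) (iv F86291)
theorem F108395 : act 1 n24119 = n24119 := d11_1 D24119 (iv D24119) F86292
theorem F108396 : act 5 n24119 = n24119 := d30_2 D19049 D24119 (iv D24119) (iv D19049) F68258
theorem F108397 : act 6 n24119 = n19073 := d31_2 (iv F86294) D24119 (iv D19073)
def n24120 : Q := act 7 n19049
theorem D24120 : act 7 n19049 = n24120 := rfl
theorem F108398 : act 0 n24120 = n20467 := d6_1 D24120 (iv D20467) (iv F86291)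
theorem F108399 : act 1 n24120 = n24120 := d14_1 D24120 (iv D24120) F86292
theorem F108400 : act 3 n24120 = n19051 := d27_1 D24120 (iv D19051) (iv F86293)
theorem F108401 : act 5 n24120 = n19050 := d36_1 D24120 (iv D19050) D19049
def n24121 : Q := act 8 n19049
theorem D24121 : act 8 n19049 = n24121 := rfl
theorem F108402 : act 0 n24121 = n20468 := d7_1 D24121 (iv D20468) (iv F86291)
theorem F108403 : act 1 n24121 = n24121 := d15_1 D24121 (iv D24121) F86292
theorem F108404 : act 3 n24121 = n19052 := d28_1 D24121 (iv D19052) (iv F86293)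
theorem F108405 : act 5 n24121 = n19495 := d37_1 D24121 (iv D19495) (iv D15255) (iv F68259) D19049
theorem F108406 : act 6 n24121 = n19075 := d40_1 D24121 (iv D19075) (iv F86294)
def n24122 : Q := act 6 n19051
theorem D24122 : act 6 n19051 = n24122 := rfl
theorem F108407 : act 0 n24122 = n20469 := d5_1 D24122 (iv D20469) (iv F86300)
theorem F108408 : act 1 n24122 = n24122 := d13_1 D24122 (iv D24122) F86301
theorem F108409 : act 7 n24122 = n19076 := d39_2 D19051 D24122 (iv D19076) (iv D14943) (iv F68262)
def n24123 : Q := act 8 n19051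
theorem D24123 : act 8 n19051 = n24123 := rfl
theorem F108410 : act 0 n24123 = n20470 := d7_1 D24123 (iv D20470) (iv F86300)
theorem F108411 : act 1 n24123 = n24123 := d15_1 D24123 (iv D24123) F86301
theorem F108412 : act 5 n24123 = n19497 := d37_1 D24123 (iv D19497) F69826 (iv F68266) (iv F86302)
theorem F108413 : act 7 n24123 = n19052 := d42_1 D24123 (iv D19052) D19051
def n24124 : Q := act 9 n19052
theorem D24124 : act 9 n19052 = n24124 := rfl
theorem F108414 : act 0 n24124 = n20471 := d8_1 D24124 (iv D20471) (iv F86303)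
theorem F108415 : act 1 n24124 = n24124 := d16_1 D24124 (iv D24124) F86304
theorem F108416 : act 5 n24124 = n19498 := d38_1 D24124 (iv D19498) (iv F86305)
theorem F108417 : act 6 n24124 = n19078 := d41_1 D24124 (iv D19078) (iv F86306)
def n24125 : Q := act 1 n19053
theorem D24125 : act 1 n19053 = n24125 := rfl
theorem F108418 : act 2 n24125 = n24125 := d9_2 D19053 D24125 (iv D24125) (iv D19053) F68268
theorem F108419 : act 4 n24125 = n19101 := d11_2 (iv F86308) D24125 (iv D19101)
theorem F108420 : act 8 n24125 = n24125 := d15_2 F86309 D24125 (iv D24125)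
theorem F108421 : act 9 n24125 = n19871 := d16_2 (iv F86310) D24125 (iv D19871)
def n24126 : Q := act 6 n19053
theorem D24126 : act 6 n19053 = n24126 := rfl
theorem F108422 : act 0 n24126 = n20473 := d5_1 D24126 (iv D20473) (iv F86307)
theorem F108423 : act 2 n24126 = n19054 := d20_1 D24126 (iv D19054) D19053
theorem F108424 : act 4 n24126 = n19102 := d31_1 D24126 (iv D19102) (iv F86308)
theorem F108425 : act 8 n24126 = n24126 := d40_2 F86309 D24126 (iv D24126)
theorem F108426 : act 9 n24126 = n19872 := d41_2 (iv F86310) D24126 (iv D19872)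
def n24127 : Q := act 5 n19054
theorem D24127 : act 5 n19054 = n24127 := rfl
theorem F108427 : act 0 n24127 = n20474 := d4_1 D24127 (iv D20474) (iv F86311)
theorem F108428 : act 1 n24127 = n24127 := d12_1 D24127 (iv D24127) F86312
theorem F108429 : act 3 n24127 = n19055 := d25_1 D24127 (iv D19055) (iv F86313)
theorem F108430 : act 9 n24127 = n19873 := d38_2 (iv F86316) D24127 (iv D19873)
def n24128 : Q := act 7 n19054
theorem D24128 : act 7 n19054 = n24128 := rfl
theorem F108431 : act 0 n24128 = n20475 := d6_1 D24128 (iv D20475) (iv F86311)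
theorem F108432 : act 1 n24128 = n24128 := d14_1 D24128 (iv D24128) F86312
theorem F108433 : act 3 n24128 = n19056 := d27_1 D24128 (iv D19056) (iv F86313)
theorem F108434 : act 4 n24128 = n19104 := d32_1 D24128 (iv D19104) (iv F86314)
theorem F108435 : act 8 n24128 = n24128 := d42_2 F86315 D24128 (iv D24128)
theorem F108436 : act 9 n24128 = n19874 := d43_2 (iv F86316) D24128 (iv D19874)
def n24129 : Q := act 7 n19055
theorem D24129 : act 7 n19055 = n24129 := rfl
theorem F108437 : act 0 n24129 = n20476 := d6_1 D24129 (iv D20476) (iv F86317)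
theorem F108438 : act 1 n24129 = n24129 := d14_1 D24129 (iv D24129) F86318
theorem F108439 : act 4 n24129 = n19061 := d32_1 D24129 (iv D19061) (iv F86319)
theorem F108440 : act 5 n24129 = n19056 := d36_1 D24129 (iv D19056) D19055
theorem F108441 : act 9 n24129 = n19875 := d43_2 (iv F86320) D24129 (iv D19875)
def n24130 : Q := act 8 n19055
theorem D24130 : act 8 n19055 = n24130 := rfl
theorem F108442 : act 0 n24130 = n20477 := d7_1 D24130 (iv D20477) (iv F86317)
theorem F108443 : act 1 n24130 = n24130 := d15_1 D24130 (iv D24130) F86318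
theorem F108444 : act 4 n24130 = n19062 := d33_1 D24130 (iv D19062) (iv F86319)
theorem F108445 : act 5 n24130 = n24130 := d37_1 D24130 (iv D24130) (iv D19055) F68275 D19055
def n24131 : Q := act 0 n19057
theorem D24131 : act 0 n19057 = n24131 := rfl
theorem F108449 : act 7 n24131 = n19069 := d6_2 (iv F86328) D24131 (iv D19069)
theorem F108450 : act 8 n24131 = n19079 := d7_2 (iv F86329) D24131 (iv D19079)
theorem F108451 : act 9 n24131 = n19994 := d8_2 (iv F86330) D24131 (iv D19994)
def n24132 : Q := act 6 n19057
theorem D24132 : act 6 n19057 = n24132 := rfl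
theorem F108455 : act 8 n24132 = n19080 := d40_2 (iv F86329) D24132 (iv D19080)
theorem F108456 : act 9 n24132 = n19995 := d41_2 (iv F86330) D24132 (iv D19995)
def n24133 : Q := act 5 n19058
theorem D24133 : act 5 n19058 = n24133 := rfl
theorem F108458 : act 2 n24133 = n19059 := d19_1 D24133 (iv D19059) (iv F86332)
theorem F108459 : act 9 n24133 = n19996 := d38_2 (iv F86335) D24133 (iv D19996)
def n24134 : Q := act 7 n19058
theorem D24134 : act 7 n19058 = n24134 := rfl
theorem F108461 : act 2 n24134 = n19060 := d21_1 D24134 (iv D19060) (iv F86332)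
theorem F108462 : act 4 n24134 = n19110 := d32_1 D24134 (iv D19110) (iv F86333)
theorem F108463 : act 6 n24134 = n19072 := d39_1 D24134 (iv D19072) (iv D14940) (iv F68285) D19058
theorem F108464 : act 8 n24134 = n19082 := d42_2 (iv F86334) D24134 (iv D19082)
theorem F108465 : act 9 n24134 = n19997 := d43_2 (iv F86335) D24134 (iv D19997)
def n24135 : Q := act 4 n19059
theorem D24135 : act 4 n19059 = n24135 := rfl
theorem F108466 : act 0 n24135 = n20482 := d3_1 D24135 (iv D20482) (iv F86336)
theorem F108467 : act 1 n24135 = n24135 := d11_1 D24135 (iv D24135) F86337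
theorem F108468 : act 5 n24135 = n19111 := d30_2 D19059 D24135 (iv D19111) (iv D14968) (iv F68291)
theorem F108469 : act 9 n24135 = n19998 := d34_2 (iv F86339) D24135 (iv D19998)
def n24136 : Q := act 7 n19059
theorem D24136 : act 7 n19059 = n24136 := rfl
theorem F108470 : act 0 n24136 = n20483 := d6_1 D24136 (iv D20483) (iv F86336)
theorem F108471 : act 1 n24136 = n24136 := d14_1 D24136 (iv D24136) F86337
theorem F108472 : act 3 n24136 = n19061 := d27_1 D24136 (iv D19061) (iv F86338)
theorem F108473 : act 5 n24136 = n19060 := d36_1 D24136 (iv D19060) D19059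
theorem F108474 : act 9 n24136 = n19999 := d43_2 (iv F86339) D24136 (iv D19999)
def n24138 : Q := act 6 n19061
theorem D24138 : act 6 n19061 = n24138 := rfl
theorem F108479 : act 0 n24138 = n20485 := d5_1 D24138 (iv D20485) (iv F86347)
theorem F108480 : act 1 n24138 = n24138 := d13_1 D24138 (iv D24138) F86348
theorem F108481 : act 5 n24138 = n19076 := d35_1 D24138 (iv D19076) F68340 (iv F68300) (iv F86349)
theorem F108482 : act 9 n24138 = n20001 := d41_2 (iv F86350) D24138 (iv D20001)
def n24139 : Q := act 8 n19061
theorem D24139 : act 8 n19061 = n24139 := rfl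
theorem F108483 : act 0 n24139 = n20486 := d7_1 D24139 (iv D20486) (iv F86347)
theorem F108484 : act 1 n24139 = n24139 := d15_1 D24139 (iv D24139) F86348
theorem F108485 : act 5 n24139 = n19087 := d37_1 D24139 (iv D19087) F68367 (iv F68301) (iv F86349)
theorem F108486 : act 7 n24139 = n19062 := d42_1 D24139 (iv D19062) D19061
def n24140 : Q := act 9 n19062
theorem D24140 : act 9 n19062 = n24140 := rfl
theorem F108487 : act 0 n24140 = n20487 := d8_1 D24140 (iv D20487) (iv F86351)
theorem F108488 : act 1 n24140 = n24140 := d16_1 D24140 (iv D24140) F86352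
theorem F108489 : act 5 n24140 = n19088 := d38_1 D24140 (iv D19088) (iv F86353)
theorem F108490 : act 8 n24140 = n20003 := d44_1 D24140 (iv D20003) (iv D15652) (iv F68296) D19062
def n24141 : Q := act 0 n19063
theorem D24141 : act 0 n19063 = n24141 := rfl
theorem F108495 : act 8 n24141 = n19257 := d7_2 (iv F86357) D24141 (iv D19257)
theorem F108496 : act 9 n24141 = n19069 := d8_2 (iv F86358) D24141 (iv D19069)
def n24142 : Q := act 6 n19063
theorem D24142 : act 6 n19063 = n24142 := rfl
theorem F108500 : act 8 n24142 = n19258 := d40_2 (iv F86357) D24142 (iv D19258)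
theorem F108501 : act 9 n24142 = n19070 := d41_2 (iv F86358) D24142 (iv D19070)
def n24143 : Q := act 5 n19064
theorem D24143 : act 5 n19064 = n24143 := rfl
theorem F108502 : act 0 n24143 = n20490 := d4_1 D24143 (iv D20490) (iv F86359)
theorem F108503 : act 2 n24143 = n19065 := d19_1 D24143 (iv D19065) (iv F86360)
theorem F108504 : act 9 n24143 = n19071 := d38_2 (iv F86363) D24143 (iv D19071)
def n24144 : Q := act 7 n19064
theorem D24144 : act 7 n19064 = n24144 := rfl
theorem F108505 : act 0 n24144 = n20491 := d6_1 D24144 (iv D20491) (iv F86359)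
theorem F108506 : act 2 n24144 = n19066 := d21_1 D24144 (iv D19066) (iv F86360)
theorem F108507 : act 4 n24144 = n19119 := d32_1 D24144 (iv D19119) (iv F86361)
theorem F108508 : act 6 n24144 = n19997 := d39_1 D24144 (iv D19997) (iv D15648) (iv F68305) D19064
theorem F108509 : act 8 n24144 = n19260 := d42_2 (iv F86362) D24144 (iv D19260)
theorem F108510 : act 9 n24144 = n19072 := d43_2 (iv F86363) D24144 (iv D19072)
def n24145 : Q := act 4 n19065
theorem D24145 : act 4 n19065 = n24145 := rfl
theorem F108511 : act 0 n24145 = n20492 := d3_1 D24145 (iv D20492) (iv F86364)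
theorem F108512 : act 1 n24145 = n24145 := d11_1 D24145 (iv D24145) F86365
theorem F108513 : act 5 n24145 = n19120 := d30_2 D19065 D24145 (iv D19120) (iv D14974) (iv F68311)
theorem F108514 : act 9 n24145 = n19073 := d34_2 (iv F86367) D24145 (iv D19073)
def n24146 : Q := act 7 n19065
theorem D24146 : act 7 n19065 = n24146 := rfl
theorem F108515 : act 0 n24146 = n20493 := d6_1 D24146 (iv D20493) (iv F86364)
theorem F108516 : act 1 n24146 = n24146 := d14_1 D24146 (iv D24146) F86365
theorem F108517 : act 3 n24146 = n19067 := d27_1 D24146 (iv D19067) (iv F86366)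
theorem F108518 : act 5 n24146 = n19066 := d36_1 D24146 (iv D19066) D19065
theorem F108519 : act 9 n24146 = n19074 := d43_2 (iv F86367) D24146 (iv D19074)
def n24147 : Q := act 8 n19065
theorem D24147 : act 8 n19065 = n24147 := rfl
theorem F108520 : act 0 n24147 = n20494 := d7_1 D24147 (iv D20494) (iv F86364)
theorem F108521 : act 1 n24147 = n24147 := d15_1 D24147 (iv D24147) F86365
theorem F108522 : act 3 n24147 = n19068 := d28_1 D24147 (iv D19068) (iv F86366)
theorem F108523 : act 5 n24147 = n19263 := d37_1 D24147 (iv D19263) (iv D15078) (iv F68312) D19065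
def n24148 : Q := act 6 n19067
theorem D24148 : act 6 n19067 = n24148 := rfl
theorem F108524 : act 0 n24148 = n20495 := d5_1 D24148 (iv D20495) (iv F86375)
theorem F108525 : act 1 n24148 = n24148 := d13_1 D24148 (iv D24148) F86376
theorem F108526 : act 5 n24148 = n20001 := d35_1 D24148 (iv D20001) F71616 (iv F68320) (iv F86377)
theorem F108527 : act 9 n24148 = n19076 := d41_2 (iv F86378) D24148 (iv D19076)
def n24149 : Q := act 8 n19067
theorem D24149 : act 8 n19067 = n24149 := rfl
theorem F108528 : act 0 n24149 = n20496 := d7_1 D24149 (iv D20496) (iv F86375)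
theorem F108529 : act 1 n24149 = n24149 := d15_1 D24149 (iv D24149) F86376
theorem F108530 : act 5 n24149 = n19265 := d37_1 D24149 (iv D19265) F68973 (iv F68321) (iv F86377)
theorem F108531 : act 7 n24149 = n19068 := d42_1 D24149 (iv D19068) D19067
def n24150 : Q := act 9 n19068
theorem D24150 : act 9 n19068 = n24150 := rfl
theorem F108532 : act 0 n24150 = n20497 := d8_1 D24150 (iv D20497) (iv F86379)
theorem F108533 : act 1 n24150 = n24150 := d16_1 D24150 (iv D24150) F86380
theorem F108534 : act 5 n24150 = n19266 := d38_1 D24150 (iv D19266) (iv F86381)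
theorem F108535 : act 8 n24150 = n19078 := d44_1 D24150 (iv D19078) (iv D14944) (iv F68316) D19068
def n24151 : Q := act 6 n19069
theorem D24151 : act 6 n19069 = n24151 := rfl
theorem F108540 : act 8 n24151 = n19089 := d40_2 (iv F86385) D24151 (iv D19089)
def n24152 : Q := act 5 n19070
theorem D24152 : act 5 n19070 = n24152 := rfl
theorem F108541 : act 1 n24152 = n19071 := d12_1 D24152 (iv D19071) (iv F86386)
theorem F108542 : act 2 n24152 = n24152 := d19_1 D24152 (iv D24152) F86387
def n24153 : Q := act 7 n19070
theorem D24153 : act 7 n19070 = n24153 := rfl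
theorem F108543 : act 1 n24153 = n19072 := d14_1 D24153 (iv D19072) (iv F86386)
theorem F108544 : act 2 n24153 = n24153 := d21_1 D24153 (iv D24153) F86387
theorem F108545 : act 4 n24153 = n19127 := d32_1 D24153 (iv D19127) (iv F86388)
theorem F108546 : act 8 n24153 = n19091 := d42_2 (iv F86389) D24153 (iv D19091)
def n24154 : Q := act 4 n19071
theorem D24154 : act 4 n19071 = n24154 := rfl
theorem F108547 : act 0 n24154 = n20501 := d3_1 D24154 (iv D20501) (iv F86390)
theorem F108548 : act 2 n24154 = n19073 := d18_1 D24154 (iv D19073) (iv F86391)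
theorem F108549 : act 5 n24154 = n19128 := d30_2 D19071 D24154 (iv D19128) (iv D14980) (iv F68328)
def n24155 : Q := act 7 n19071
theorem D24155 : act 7 n19071 = n24155 := rfl
theorem F108550 : act 0 n24155 = n20502 := d6_1 D24155 (iv D20502) (iv F86390)
theorem F108551 : act 2 n24155 = n19074 := d21_1 D24155 (iv D19074) (iv F86391)
theorem F108552 : act 5 n24155 = n19072 := d36_1 D24155 (iv D19072) D19071
def n24156 : Q := act 8 n19071
theorem D24156 : act 8 n19071 = n24156 := rfl
theorem F108553 : act 0 n24156 = n20503 := d7_1 D24156 (iv D20503) (iv F86390)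
theorem F108554 : act 2 n24156 = n19075 := d22_1 D24156 (iv D19075) (iv F86391)
theorem F108555 : act 5 n24156 = n19093 := d37_1 D24156 (iv D19093) (iv D14953) (iv F68329) D19071
def n24157 : Q := act 7 n19073
theorem D24157 : act 7 n19073 = n24157 := rfl
theorem F108556 : act 0 n24157 = n20504 := d6_1 D24157 (iv D20504) (iv F86396)
theorem F108557 : act 1 n24157 = n24157 := d14_1 D24157 (iv D24157) F86397
theorem F108558 : act 4 n24157 = n19074 := d32_1 D24157 (iv D19074) D19073
theorem F108559 : act 5 n24157 = n19130 := d36_1 D24157 (iv D19130) (iv F86398)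
def n24158 : Q := act 8 n19073
theorem D24158 : act 8 n19073 = n24158 := rfl
theorem F108560 : act 0 n24158 = n20505 := d7_1 D24158 (iv D20505) (iv F86396)
theorem F108561 : act 1 n24158 = n24158 := d15_1 D24158 (iv D24158) F86397
theorem F108562 : act 4 n24158 = n19075 := d33_1 D24158 (iv D19075) D19073
theorem F108563 : act 5 n24158 = n24158 := d37_1 D24158 (iv D24158) F86398 F68531 (iv F86398)
def n24159 : Q := act 6 n19074
theorem D24159 : act 6 n19074 = n24159 := rfl
theorem F108564 : act 0 n24159 = n20506 := d5_1 D24159 (iv D20506) (iv F86399)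
theorem F108565 : act 1 n24159 = n24159 := d13_1 D24159 (iv D24159) F86400
theorem F108566 : act 3 n24159 = n19076 := d26_1 D24159 (iv D19076) (iv F86401)
def n24160 : Q := act 8 n19074
theorem D24160 : act 8 n19074 = n24160 := rfl
theorem F108567 : act 0 n24160 = n20507 := d7_1 D24160 (iv D20507) (iv F86399)
theorem F108568 : act 1 n24160 = n24160 := d15_1 D24160 (iv D24160) F86400
theorem F108569 : act 3 n24160 = n19077 := d28_1 D24160 (iv D19077) (iv F86401)
theorem F108570 : act 5 n24160 = n19095 := d37_1 D24160 (iv D19095) F68395 (iv F68337) (iv F86402)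
theorem F108571 : act 7 n24160 = n19075 := d42_1 D24160 (iv D19075) D19074
def n24161 : Q := act 9 n19075
theorem D24161 : act 9 n19075 = n24161 := rfl
theorem F108572 : act 0 n24161 = n20508 := d8_1 D24161 (iv D20508) (iv F86403)
theorem F108573 : act 1 n24161 = n24161 := d16_1 D24161 (iv D24161) F86404
theorem F108574 : act 3 n24161 = n19078 := d29_1 D24161 (iv D19078) (iv F86405)
theorem F108575 : act 5 n24161 = n19096 := d38_1 D24161 (iv D19096) (iv F86406)
def n24162 : Q := act 8 n19076
theorem D24162 : act 8 n19076 = n24162 := rfl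
theorem F108576 : act 0 n24162 = n20509 := d7_1 D24162 (iv D20509) (iv F86407)
theorem F108577 : act 1 n24162 = n24162 := d15_1 D24162 (iv D24162) F86408
theorem F108578 : act 6 n24162 = n19077 := d40_1 D24162 (iv D19077) D19076
def n24163 : Q := act 9 n19077
theorem D24163 : act 9 n19077 = n24163 := rfl
theorem F108579 : act 0 n24163 = n20510 := d8_1 D24163 (iv D20510) (iv F86409)
theorem F108580 : act 1 n24163 = n24163 := d16_1 D24163 (iv D24163) F86410
theorem F108581 : act 5 n24163 = n19098 := d38_1 D24163 (iv D19098) (iv F86411)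
theorem F108582 : act 7 n24163 = n19078 := d43_1 D24163 (iv D19078) (iv F86412)
def n24165 : Q := act 5 n19080
theorem D24165 : act 5 n19080 = n24165 := rfl
theorem F108591 : act 9 n24165 = n19281 := d38_2 (iv F86425) D24165 (iv D19281)
def n24166 : Q := act 7 n19080
theorem D24166 : act 7 n19080 = n24166 := rfl
theorem F108595 : act 6 n24166 = n19091 := d39_1 D24166 (iv D19091) (iv D14952) (iv F68347) D19080
theorem F108596 : act 9 n24166 = n19282 := d43_2 (iv F86425) D24166 (iv D19282)
def n24172 : Q := act 6 n19084
theorem D24172 : act 6 n19084 = n24172 := rfl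
theorem F108623 : act 5 n24172 = n19094 := d35_1 D24172 (iv D19094) F68395 (iv F68362) (iv F86444)
def n24175 : Q := act 8 n19086
theorem D24175 : act 8 n19086 = n24175 := rfl
theorem F108635 : act 0 n24175 = n20522 := d7_1 D24175 (iv D20522) (iv F86450)
theorem F108636 : act 1 n24175 = n24175 := d15_1 D24175 (iv D24175) F86451
theorem F108637 : act 4 n24175 = n24175 := d33_1 D24175 (iv D24175) F86452
theorem F108638 : act 6 n24175 = n19087 := d40_1 D24175 (iv D19087) D19086
theorem F108639 : act 7 n24175 = n19539 := d42_1 D24175 (iv D19539) (iv F86454)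
def n24176 : Q := act 9 n19087
theorem D24176 : act 9 n19087 = n24176 := rfl
theorem F108640 : act 0 n24176 = n20523 := d8_1 D24176 (iv D20523) (iv F86456)
theorem F108641 : act 1 n24176 = n24176 := d16_1 D24176 (iv D24176) F86457
theorem F108642 : act 4 n24176 = n24176 := d34_1 D24176 (iv D24176) F86458
theorem F108643 : act 7 n24176 = n19088 := d43_1 D24176 (iv D19088) (iv F86459)
theorem F108644 : act 8 n24176 = n19292 := d44_1 D24176 (iv D19292) (iv D15100) (iv F68368) D19087
def n24177 : Q := act 5 n19089
theorem D24177 : act 5 n19089 = n24177 := rfl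
theorem F108645 : act 0 n24177 = n19090 := d4_1 D24177 (iv D19090) (iv F86465)
theorem F108647 : act 2 n24177 = n24177 := d19_1 D24177 (iv D24177) F86467
theorem F108648 : act 4 n24177 = n24177 := d30_1 D24177 (iv D24177) F86468 F68587 (iv F86468)
def n24178 : Q := act 7 n19089
theorem D24178 : act 7 n19089 = n24178 := rfl
theorem F108651 : act 0 n24178 = n19091 := d6_1 D24178 (iv D19091) (iv F86465)
theorem F108655 : act 9 n24178 = n19294 := d43_2 (iv F86469) D24178 (iv D19294)
def n24179 : Q := act 7 n19090
theorem D24179 : act 7 n19090 = n24179 := rfl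
theorem F108656 : act 1 n24179 = n19092 := d14_1 D24179 (iv D19092) (iv F86470)
theorem F108657 : act 2 n24179 = n24179 := d21_1 D24179 (iv D24179) F86471
theorem F108658 : act 4 n24179 = n24179 := d32_1 D24179 (iv D24179) F86472
theorem F108659 : act 5 n24179 = n19091 := d36_1 D24179 (iv D19091) D19090
theorem F108660 : act 9 n24179 = n19295 := d43_2 (iv F86474) D24179 (iv D19295)
def n24180 : Q := act 8 n19090
theorem D24180 : act 8 n19090 = n24180 := rfl
theorem F108661 : act 1 n24180 = n19093 := d15_1 D24180 (iv D19093) (iv F86470)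
theorem F108662 : act 2 n24180 = n24180 := d22_1 D24180 (iv D24180) F86471
theorem F108663 : act 4 n24180 = n24180 := d33_1 D24180 (iv D24180) F86472
theorem F108664 : act 6 n24180 = n19544 := d40_1 D24180 (iv D19544) (iv F86473)
def n24181 : Q := act 6 n19092
theorem D24181 : act 6 n19092 = n24181 := rfl
theorem F108665 : act 0 n24181 = n20528 := d5_1 D24181 (iv D20528) (iv F86479)
theorem F108666 : act 2 n24181 = n19094 := d20_1 D24181 (iv D19094) (iv F86480)
theorem F108667 : act 4 n24181 = n24181 := d31_1 D24181 (iv D24181) F86481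
theorem F108668 : act 7 n24181 = n19545 := d39_2 D19092 D24181 (iv D19545) (iv D15292) (iv F68385)
theorem F108669 : act 9 n24181 = n19297 := d41_2 (iv F86483) D24181 (iv D19297)
def n24182 : Q := act 8 n19092
theorem D24182 : act 8 n19092 = n24182 := rfl
theorem F108670 : act 0 n24182 = n20529 := d7_1 D24182 (iv D20529) (iv F86479)
theorem F108671 : act 2 n24182 = n19095 := d22_1 D24182 (iv D19095) (iv F86480)
theorem F108672 : act 4 n24182 = n24182 := d33_1 D24182 (iv D24182) F86481
theorem F108673 : act 7 n24182 = n19093 := d42_1 D24182 (iv D19093) D19092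
def n24183 : Q := act 9 n19093
theorem D24183 : act 9 n19093 = n24183 := rfl
theorem F108674 : act 0 n24183 = n20530 := d8_1 D24183 (iv D20530) (iv F86484)
theorem F108675 : act 2 n24183 = n19096 := d23_1 D24183 (iv D19096) (iv F86485)
theorem F108676 : act 4 n24183 = n24183 := d34_1 D24183 (iv D24183) F86486
theorem F108677 : act 6 n24183 = n19547 := d41_1 D24183 (iv D19547) (iv F86487)
theorem F108678 : act 8 n24183 = n19299 := d44_1 D24183 (iv D19299) (iv D15106) (iv F68386) D19093
def n24184 : Q := act 8 n19094
theorem D24184 : act 8 n19094 = n24184 := rfl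
theorem F108679 : act 0 n24184 = n20531 := d7_1 D24184 (iv D20531) (iv F86488)
theorem F108680 : act 1 n24184 = n24184 := d15_1 D24184 (iv D24184) F86489
theorem F108681 : act 3 n24184 = n19097 := d28_1 D24184 (iv D19097) (iv F86490)
theorem F108682 : act 4 n24184 = n24184 := d33_1 D24184 (iv D24184) F86491
theorem F108683 : act 6 n24184 = n19095 := d40_1 D24184 (iv D19095) D19094
theorem F108684 : act 7 n24184 = n19548 := d42_1 D24184 (iv D19548) (iv F86492)
def n24185 : Q := act 9 n19095
theorem D24185 : act 9 n19095 = n24185 := rfl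
theorem F108685 : act 0 n24185 = n20532 := d8_1 D24185 (iv D20532) (iv F86494)
theorem F108686 : act 1 n24185 = n24185 := d16_1 D24185 (iv D24185) F86495
theorem F108687 : act 3 n24185 = n19098 := d29_1 D24185 (iv D19098) (iv F86496)
theorem F108688 : act 4 n24185 = n24185 := d34_1 D24185 (iv D24185) F86497
theorem F108689 : act 7 n24185 = n19096 := d43_1 D24185 (iv D19096) (iv F86498)
theorem F108690 : act 8 n24185 = n19301 := d44_1 D24185 (iv D19301) (iv D15108) (iv F68396) D19095
def n24186 : Q := act 5 n19097
theorem D24186 : act 5 n19097 = n24186 := rfl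
theorem F108691 : act 0 n24186 = n20533 := d4_1 D24186 (iv D20533) (iv F86505)
theorem F108692 : act 1 n24186 = n24186 := d12_1 D24186 (iv D24186) F86506
theorem F108693 : act 7 n24186 = n19550 := d36_2 (iv F86509) D24186 (iv D19550)
def n24187 : Q := act 9 n19097
theorem D24187 : act 9 n19097 = n24187 := rfl
theorem F108694 : act 0 n24187 = n20534 := d8_1 D24187 (iv D20534) (iv F86505)
theorem F108695 : act 1 n24187 = n24187 := d16_1 D24187 (iv D24187) F86506
theorem F108696 : act 4 n24187 = n19100 := d34_1 D24187 (iv D19100) (iv F86507)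
theorem F108697 : act 6 n24187 = n19098 := d41_1 D24187 (iv D19098) (iv F86508)
theorem F108698 : act 7 n24187 = n19551 := d43_1 D24187 (iv D19551) (iv F86509)
theorem F108699 : act 8 n24187 = n19303 := d44_1 D24187 (iv D19303) (iv D15110) (iv F68406) D19097
def n24188 : Q := act 4 n19099
theorem D24188 : act 4 n19099 = n24188 := rfl
theorem F108700 : act 0 n24188 = n20535 := d3_1 D24188 (iv D20535) (iv F86515)
theorem F108701 : act 1 n24188 = n24188 := d11_1 D24188 (iv D24188) F86516
theorem F108702 : act 7 n24188 = n19552 := d32_2 (iv F86518) D24188 (iv D19552)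
theorem F108703 : act 8 n24188 = n24188 := d33_2 F86519 D24188 (iv D24188)
def n24189 : Q := act 9 n19099
theorem D24189 : act 9 n19099 = n24189 := rfl
theorem F108704 : act 0 n24189 = n20536 := d8_1 D24189 (iv D20536) (iv F86515)
theorem F108705 : act 1 n24189 = n24189 := d16_1 D24189 (iv D24189) F86516
theorem F108706 : act 3 n24189 = n24189 := d29_1 D24189 (iv D24189) F86517
theorem F108707 : act 5 n24189 = n19100 := d38_1 D24189 (iv D19100) D19099
theorem F108708 : act 7 n24189 = n19553 := d43_1 D24189 (iv D19553) (iv F86518)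
def n24190 : Q := act 0 n19101
theorem D24190 : act 0 n19101 = n24190 := rfl
theorem F108709 : act 1 n24190 = n20537 := d0_2 D19101 D24190 (iv D20537) (iv D16048) (iv F68426)
theorem F108710 : act 2 n24190 = n24190 := d1_2 F86526 D24190 (iv D24190)
theorem F108711 : act 3 n24190 = n20272 := d2_2 (iv F86527) D24190 (iv D20272)
theorem F108712 : act 5 n24190 = n24190 := d4_2 F86528 D24190 (iv D24190)
theorem F108713 : act 8 n24190 = n24190 := d7_2 F86529 D24190 (iv D24190)
theorem F108714 : act 9 n24190 = n19900 := d8_2 (iv F86530) D24190 (iv D19900)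
def n24191 : Q := act 6 n19101
theorem D24191 : act 6 n19101 = n24191 := rfl
theorem F108715 : act 1 n24191 = n19102 := d13_1 D24191 (iv D19102) D19101
theorem F108716 : act 2 n24191 = n24191 := d20_1 D24191 (iv D24191) F86526

end Cfsg.Agent.Helper17.SP6TC
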