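import Cfsg.Agent.Helper17.SP6TC.Facts7

set_option autoImplicit false
set_option linter.all false

noncomputable section

namespace Cfsg.Agent.Helper17.SP6TC

theorem F108717 : act 3 n24191 = n20273 := d26_1 D24191 (iv D20273) (iv F86527)
theorem F108718 : act 8 n24191 = n24191 := d40_2 F86529 D24191 (iv D24191)
theorem F108719 : act 9 n24191 = n19901 := d41_2 (iv F86530) D24191 (iv D19901)
def n24192 : Q := act 5 n19102
theorem D24192 : act 5 n19102 = n24192 := rfl
theorem F108720 : act 0 n24192 = n20539 := d4_1 D24192 (iv D20539) (iv F86531)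
theorem F108721 : act 2 n24192 = n19103 := d19_1 D24192 (iv D19103) (iv F86532)
theorem F108722 : act 3 n24192 = n20274 := d25_1 D24192 (iv D20274) (iv F86533)
theorem F108723 : act 6 n24192 = n24192 := d35_2 D19102 D24192 (iv D24192) (iv D19102) F68428
theorem F108724 : act 9 n24192 = n19902 := d38_2 (iv F86535) D24192 (iv D19902)
def n24193 : Q := act 7 n19102
theorem D24193 : act 7 n19102 = n24193 := rfl
theorem F108725 : act 0 n24193 = n20540 := d6_1 D24193 (iv D20540) (iv F86531)
theorem F108726 : act 2 n24193 = n19104 := d21_1 D24193 (iv D19104) (iv F86532)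
theorem F108727 : act 3 n24193 = n20275 := d27_1 D24193 (iv D20275) (iv F86533)
theorem F108728 : act 8 n24193 = n24193 := d42_2 F86534 D24193 (iv D24193)
theorem F108729 : act 9 n24193 = n19903 := d43_2 (iv F86535) D24193 (iv D19903)
def n24194 : Q := act 4 n19103
theorem D24194 : act 4 n19103 = n24194 := rfl
theorem F108730 : act 0 n24194 = n20541 := d3_1 D24194 (iv D20541) (iv F86536)
theorem F108731 : act 1 n24194 = n24194 := d11_1 D24194 (iv D24194) F86537
theorem F108732 : act 3 n24194 = n19111 := d24_1 D24194 (iv D19111) F68461 (iv F68439) (iv F86538)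
theorem F108733 : act 6 n24194 = n24194 := d31_2 F86539 D24194 (iv D24194)
theorem F108734 : act 9 n24194 = n19904 := d34_2 (iv F86540) D24194 (iv D19904)
def n24195 : Q := act 7 n19103
theorem D24195 : act 7 n19103 = n24195 := rfl
theorem F108735 : act 0 n24195 = n20542 := d6_1 D24195 (iv D20542) (iv F86536)
theorem F108736 : act 1 n24195 = n24195 := d14_1 D24195 (iv D24195) F86537
theorem F108737 : act 3 n24195 = n19105 := d27_1 D24195 (iv D19105) (iv F86538)
theorem F108738 : act 5 n24195 = n19104 := d36_1 D24195 (iv D19104) D19103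
theorem F108739 : act 9 n24195 = n19905 := d43_2 (iv F86540) D24195 (iv D19905)
def n24196 : Q := act 8 n19103
theorem D24196 : act 8 n19103 = n24196 := rfl
theorem F108740 : act 0 n24196 = n20543 := d7_1 D24196 (iv D20543) (iv F86536)
theorem F108741 : act 1 n24196 = n24196 := d15_1 D24196 (iv D24196) F86537
theorem F108742 : act 3 n24196 = n19106 := d28_1 D24196 (iv D19106) (iv F86538)
theorem F108743 : act 5 n24196 = n24196 := d37_1 D24196 (iv D24196) (iv D19103) F68434 D19103
theorem F108744 : act 6 n24196 = n24196 := d40_1 D24196 (iv D24196) F86539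
theorem F108745 : act 9 n24196 = n24196 := d44_2 (iv F86540) D24196 (iv D24196) F86540 F71355
def n24197 : Q := act 6 n19105
theorem D24197 : act 6 n19105 = n24197 := rfl
theorem F108746 : act 0 n24197 = n20544 := d5_1 D24197 (iv D20544) (iv F86546)
theorem F108747 : act 1 n24197 = n24197 := d13_1 D24197 (iv D24197) F86547
theorem F108748 : act 2 n24197 = n20279 := d20_1 D24197 (iv D20279) (iv F86548)
theorem F108749 : act 4 n24197 = n19114 := d31_1 D24197 (iv D19114) (iv F86549)
theorem F108750 : act 7 n24197 = n24197 := d39_2 D19105 D24197 (iv D24197) (iv D19105) F68440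
theorem F108751 : act 9 n24197 = n19906 := d41_2 (iv F86551) D24197 (iv D19906)
def n24198 : Q := act 8 n19105
theorem D24198 : act 8 n19105 = n24198 := rfl
theorem F108752 : act 0 n24198 = n20545 := d7_1 D24198 (iv D20545) (iv F86546)
theorem F108753 : act 1 n24198 = n24198 := d15_1 D24198 (iv D24198) F86547
theorem F108754 : act 2 n24198 = n20280 := d22_1 D24198 (iv D20280) (iv F86548)
theorem F108755 : act 4 n24198 = n19115 := d33_1 D24198 (iv D19115) (iv F86549)
theorem F108756 : act 5 n24198 = n24198 := d37_1 D24198 (iv D24198) F86550 F68446 (iv F86550)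
theorem F108757 : act 7 n24198 = n19106 := d42_1 D24198 (iv D19106) D19105
theorem F108758 : act 9 n24198 = n24198 := d44_2 (iv F86551) D24198 (iv D24198) F86551 F71363
def n24199 : Q := act 6 n19107
theorem D24199 : act 6 n19107 = n24199 := rfl
theorem F108763 : act 8 n24199 = n19132 := d40_2 (iv F86564) D24199 (iv D19132)
theorem F108764 : act 9 n24199 = n20016 := d41_2 (iv F86565) D24199 (iv D20016)
def n24200 : Q := act 5 n19108
theorem D24200 : act 5 n19108 = n24200 := rfl
theorem F108767 : act 3 n24200 = n20558 := d25_1 D24200 (iv D20558) (iv F86568)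
theorem F108769 : act 9 n24200 = n20017 := d38_2 (iv F86570) D24200 (iv D20017)
def n24201 : Q := act 7 n19108
theorem D24201 : act 7 n19108 = n24201 := rfl
theorem F108773 : act 6 n24201 = n19127 := d39_1 D24201 (iv D19127) (iv D14979) (iv F68451) D19108
theorem F108774 : act 8 n24201 = n19134 := d42_2 (iv F86569) D24201 (iv D19134)
theorem F108775 : act 9 n24201 = n20018 := d43_2 (iv F86570) D24201 (iv D20018)
def n24202 : Q := act 4 n19109
theorem D24202 : act 4 n19109 = n24202 := rfl
theorem F108777 : act 2 n24202 = n19111 := d18_1 D24202 (iv D19111) (iv F86572)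
theorem F108778 : act 6 n24202 = n24202 := d31_2 F86574 D24202 (iv D24202)
theorem F108779 : act 9 n24202 = n20019 := d34_2 (iv F86575) D24202 (iv D20019)
def n24203 : Q := act 7 n19109
theorem D24203 : act 7 n19109 = n24203 := rfl
theorem F108781 : act 2 n24203 = n19112 := d21_1 D24203 (iv D19112) (iv F86572)
theorem F108782 : act 3 n24203 = n20561 := d27_1 D24203 (iv D20561) (iv F86573)
theorem F108783 : act 5 n24203 = n19110 := d36_1 D24203 (iv D19110) D19109
theorem F108784 : act 9 n24203 = n20020 := d43_2 (iv F86575) D24203 (iv D20020)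
def n24205 : Q := act 7 n19111
theorem D24205 : act 7 n19111 = n24205 := rfl
theorem F108791 : act 0 n24205 = n20552 := d6_1 D24205 (iv D20552) (iv F86582)
theorem F108792 : act 1 n24205 = n24205 := d14_1 D24205 (iv D24205) F86583
theorem F108793 : act 4 n24205 = n19112 := d32_1 D24205 (iv D19112) D19111
theorem F108794 : act 9 n24205 = n20021 := d43_2 (iv F86585) D24205 (iv D20021)
def n24207 : Q := act 6 n19112
theorem D24207 : act 6 n19112 = n24207 := rfl
theorem F108800 : act 0 n24207 = n20554 := d5_1 D24207 (iv D20554) (iv F86586)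
theorem F108801 : act 1 n24207 = n24207 := d13_1 D24207 (iv D24207) F86587
theorem F108802 : act 3 n24207 = n19114 := d26_1 D24207 (iv D19114) (iv F86588)
theorem F108803 : act 5 n24207 = n19131 := d35_1 D24207 (iv D19131) F68535 (iv F68467) (iv F86589)
theorem F108804 : act 7 n24207 = n24207 := d39_2 D19112 D24207 (iv D24207) (iv D19112) F68462
theorem F108805 : act 9 n24207 = n20022 := d41_2 (iv F86590) D24207 (iv D20022)
def n24209 : Q := act 8 n19114
theorem D24209 : act 8 n19114 = n24209 := rfl
theorem F108812 : act 0 n24209 = n20556 := d7_1 D24209 (iv D20556) (iv F86597)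
theorem F108813 : act 1 n24209 = n24209 := d15_1 D24209 (iv D24209) F86598
theorem F108814 : act 2 n24209 = n20567 := d22_1 D24209 (iv D20567) (iv F86599)
theorem F108815 : act 5 n24209 = n24209 := d37_1 D24209 (iv D24209) F86600 F68540 (iv F86600)
theorem F108816 : act 6 n24209 = n19115 := d40_1 D24209 (iv D19115) D19114
theorem F108817 : act 7 n24209 = n24209 := d42_1 D24209 (iv D24209) F86601
theorem F108818 : act 9 n24209 = n24209 := d44_2 (iv F86602) D24209 (iv D24209) F86602 F71687
def n24211 : Q := act 5 n19117
theorem D24211 : act 5 n19117 = n24211 := rfl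
theorem F108829 : act 9 n24211 = n19126 := d38_2 (iv F86620) D24211 (iv D19126)
def n24212 : Q := act 7 n19117
theorem D24212 : act 7 n19117 = n24212 := rfl
theorem F108834 : act 8 n24212 = n19308 := d42_2 (iv F86619) D24212 (iv D19308)
theorem F108835 : act 9 n24212 = n19127 := d43_2 (iv F86620) D24212 (iv D19127)
def n24213 : Q := act 4 n19118
theorem D24213 : act 4 n19118 = n24213 := rfl
theorem F108836 : act 0 n24213 = n20560 := d3_1 D24213 (iv D20560) (iv F86621)
theorem F108837 : act 2 n24213 = n19120 := d18_1 D24213 (iv D19120) (iv F86622)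
theorem F108838 : act 6 n24213 = n24213 := d31_2 F86624 D24213 (iv D24213)
theorem F108839 : act 9 n24213 = n19128 := d34_2 (iv F86625) D24213 (iv D19128)
def n24214 : Q := act 7 n19118
theorem D24214 : act 7 n19118 = n24214 := rfl
theorem F108840 : act 0 n24214 = n20561 := d6_1 D24214 (iv D20561) (iv F86621)
theorem F108841 : act 2 n24214 = n19121 := d21_1 D24214 (iv D19121) (iv F86622)
theorem F108843 : act 5 n24214 = n19119 := d36_1 D24214 (iv D19119) D19118
theorem F108844 : act 9 n24214 = n19129 := d43_2 (iv F86625) D24214 (iv D19129)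
def n24216 : Q := act 7 n19120
theorem D24216 : act 7 n19120 = n24216 := rfl
theorem F108851 : act 0 n24216 = n20563 := d6_1 D24216 (iv D20563) (iv F86632)
theorem F108852 : act 1 n24216 = n24216 := d14_1 D24216 (iv D24216) F86633
theorem F108853 : act 4 n24216 = n19121 := d32_1 D24216 (iv D19121) D19120
theorem F108854 : act 9 n24216 = n19130 := d43_2 (iv F86635) D24216 (iv D19130)
def n24217 : Q := act 8 n19120
theorem D24217 : act 8 n19120 = n24217 := rfl
theorem F108855 : act 0 n24217 = n20564 := d7_1 D24217 (iv D20564) (iv F86632)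
theorem F108856 : act 1 n24217 = n24217 := d15_1 D24217 (iv D24217) F86633
theorem F108857 : act 4 n24217 = n19122 := d33_1 D24217 (iv D19122) D19120
theorem F108858 : act 6 n24217 = n24217 := d40_1 D24217 (iv D24217) F86634
theorem F108859 : act 9 n24217 = n24217 := d44_2 (iv F86635) D24217 (iv D24217) F86635 F68531
theorem F108860 : act 5 n21576 = n24217 := d30_0 F108857 F86644 (iv F87527) (iv F87530) (iv F96709)
def n24218 : Q := act 6 n19121
theorem D24218 : act 6 n19121 = n24218 := rfl
theorem F108861 : act 0 n24218 = n20565 := d5_1 D24218 (iv D20565) (iv F86636)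
theorem F108862 : act 1 n24218 = n24218 := d13_1 D24218 (iv D24218) F86637
theorem F108863 : act 3 n24218 = n19123 := d26_1 D24218 (iv D19123) (iv F86638)
theorem F108864 : act 5 n24218 = n20022 := d35_1 D24218 (iv D20022) F71682 (iv F68500) (iv F86639)
theorem F108865 : act 7 n24218 = n24218 := d39_2 D19121 D24218 (iv D24218) (iv D19121) F68495
theorem F108866 : act 9 n24218 = n19131 := d41_2 (iv F86640) D24218 (iv D19131)
def n24219 : Q := act 8 n19121
theorem D24219 : act 8 n19121 = n24219 := rfl
theorem F108867 : act 0 n24219 = n20566 := d7_1 D24219 (iv D20566) (iv F86636)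
theorem F108868 : act 1 n24219 = n24219 := d15_1 D24219 (iv D24219) F86637
theorem F108869 : act 3 n24219 = n19124 := d28_1 D24219 (iv D19124) (iv F86638)
theorem F108870 : act 5 n24219 = n19314 := d37_1 D24219 (iv D19314) F69155 (iv F68501) (iv F86639)
theorem F108871 : act 7 n24219 = n19122 := d42_1 D24219 (iv D19122) D19121
theorem F108872 : act 9 n24219 = n24219 := d44_2 (iv F86640) D24219 (iv D24219) F86640 F68536
def n24220 : Q := act 8 n19123
theorem D24220 : act 8 n19123 = n24220 := rfl
theorem F108873 : act 0 n24220 = n20567 := d7_1 D24220 (iv D20567) (iv F86647)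
theorem F108874 : act 1 n24220 = n24220 := d15_1 D24220 (iv D24220) F86648
theorem F108875 : act 2 n24220 = n20556 := d22_1 D24220 (iv D20556) (iv F86649)
theorem F108876 : act 5 n24220 = n24220 := d37_1 D24220 (iv D24220) F86650 F71687 (iv F86650)
theorem F108877 : act 6 n24220 = n19124 := d40_1 D24220 (iv D19124) D19123
theorem F108878 : act 7 n24220 = n24220 := d42_1 D24220 (iv D24220) F86651
theorem F108879 : act 9 n24220 = n24220 := d44_2 (iv F86652) D24220 (iv D24220) F86652 F68540
def n24222 : Q := act 7 n19125
theorem D24222 : act 7 n19125 = n24222 := rfl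
theorem F108885 : act 0 n24222 = n19127 := d6_1 D24222 (iv D19127) (iv F86659)
theorem F108888 : act 8 n24222 = n19141 := d42_2 (iv F86662) D24222 (iv D19141)
def n24223 : Q := act 4 n19126
theorem D24223 : act 4 n19126 = n24223 := rfl
theorem F108889 : act 1 n24223 = n19128 := d11_1 D24223 (iv D19128) (iv F86663)
theorem F108890 : act 2 n24223 = n24223 := d18_1 D24223 (iv D24223) F86664
theorem F108891 : act 6 n24223 = n24223 := d31_2 F86665 D24223 (iv D24223)
theorem F108892 : act 8 n24223 = n24223 := d33_2 F86666 D24223 (iv D24223)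
def n24224 : Q := act 7 n19126
theorem D24224 : act 7 n19126 = n24224 := rfl
theorem F108893 : act 1 n24224 = n19129 := d14_1 D24224 (iv D19129) (iv F86663)
theorem F108894 : act 2 n24224 = n24224 := d21_1 D24224 (iv D24224) F86664
theorem F108895 : act 5 n24224 = n19127 := d36_1 D24224 (iv D19127) D19126
theorem F108896 : act 8 n24224 = n24224 := d42_2 F86666 D24224 (iv D24224)
def n24225 : Q := act 3 n19128
theorem D24225 : act 3 n19128 = n24225 := rfl
theorem F108897 : act 0 n24225 = n20572 := d2_1 D24225 (iv D20572) (iv F86670)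
theorem F108898 : act 6 n24225 = n24225 := d26_2 F86672 D24225 (iv D24225)
theorem F108899 : act 8 n24225 = n24225 := d28_2 F86673 D24225 (iv D24225)
def n24226 : Q := act 7 n19128
theorem D24226 : act 7 n19128 = n24226 := rfl
theorem F108900 : act 0 n24226 = n20573 := d6_1 D24226 (iv D20573) (iv F86670)
theorem F108901 : act 2 n24226 = n19130 := d21_1 D24226 (iv D19130) (iv F86671)
theorem F108902 : act 4 n24226 = n19129 := d32_1 D24226 (iv D19129) D19128
theorem F108903 : act 8 n24226 = n24226 := d42_2 F86673 D24226 (iv D24226)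
def n24227 : Q := act 6 n19129
theorem D24227 : act 6 n19129 = n24227 := rfl
theorem F108904 : act 0 n24227 = n20574 := d5_1 D24227 (iv D20574) (iv F86674)
theorem F108905 : act 2 n24227 = n19131 := d20_1 D24227 (iv D19131) (iv F86675)
theorem F108906 : act 7 n24227 = n24227 := d39_2 D19129 D24227 (iv D24227) (iv D19129) F68523
theorem F108907 : act 8 n24227 = n24227 := d40_2 F86677 D24227 (iv D24227)
def n24228 : Q := act 6 n19130
theorem D24228 : act 6 n19130 = n24228 := rfl
theorem F108908 : act 0 n24228 = n20575 := d5_1 D24228 (iv D20575) (iv F86678)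
theorem F108909 : act 1 n24228 = n24228 := d13_1 D24228 (iv D24228) F86679
theorem F108910 : act 4 n24228 = n19131 := d31_1 D24228 (iv D19131) (iv F86680)
theorem F108911 : act 7 n24228 = n24228 := d39_2 D19130 D24228 (iv D24228) (iv D19130) F68530
theorem F108912 : act 8 n24228 = n24228 := d40_2 F86681 D24228 (iv D24228)
def n24230 : Q := act 7 n19132
theorem D24230 : act 7 n19132 = n24230 := rfl
theorem F108924 : act 9 n24230 = n19322 := d43_2 (iv F86691) D24230 (iv D19322)
def n24241 : Q := act 3 n19143
theorem D24241 : act 3 n19143 = n24241 := rfl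
theorem F108979 : act 4 n24241 = n19921 := d24_2 D19143 D24241 F90376 F72477 (iv F68603)
theorem F108980 : act 5 n24241 = n19600 := d25_2 (iv F86748) D24241 (iv D19600)
theorem F108983 : act 2 n19922 = n24241 := d18_3 F108979 F90375 (iv F90382)
def n24246 : Q := act 2 n19148
theorem D24246 : act 2 n19148 = n24246 := rfl
theorem F109010 : act 0 n24246 = n19174 := d1_1 D24246 (iv D19174) (iv F86775)
theorem F109011 : act 3 n24246 = n24246 := d17_2 D19148 D24246 (iv D24246) (iv D19148) F68625
theorem F109013 : act 5 n24246 = n24246 := d19_2 F86778 D24246 (iv D24246)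
theorem F109014 : act 7 n24246 = n19927 := d21_2 (iv F86779) D24246 (iv D19927)
theorem F109015 : act 9 n24246 = n19151 := d23_2 (iv F86780) D24246 (iv D19151)
def n24247 : Q := act 6 n19148
theorem D24247 : act 6 n19148 = n24247 := rfl
theorem F109016 : act 0 n24247 = n19175 := d5_1 D24247 (iv D19175) (iv F86775)
theorem F109017 : act 1 n24247 = n20595 := d13_1 D24247 (iv D20595) (iv F86776)
theorem F109018 : act 3 n24247 = n19149 := d26_1 D24247 (iv D19149) D19148
theorem F109019 : act 4 n24247 = n20306 := d31_1 D24247 (iv D20306) (iv F86777)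
theorem F109020 : act 9 n24247 = n19152 := d41_2 (iv F86780) D24247 (iv D19152)
def n24248 : Q := act 5 n19149
theorem D24248 : act 5 n19149 = n24248 := rfl
theorem F109021 : act 0 n24248 = n19176 := d4_1 D24248 (iv D19176) (iv F86781)
theorem F109023 : act 2 n24248 = n24248 := d19_1 D24248 (iv D24248) F86783
theorem F109024 : act 4 n24248 = n24248 := d30_1 D24248 (iv D24248) F86784 F68633 (iv F86784)
theorem F109025 : act 6 n24248 = n24248 := d35_2 D19149 D24248 (iv D24248) (iv D19149) F68626
theorem F109026 : act 9 n24248 = n19153 := d38_2 (iv F86785) D24248 (iv D19153)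
def n24249 : Q := act 7 n19149
theorem D24249 : act 7 n19149 = n24249 := rfl
theorem F109027 : act 0 n24249 = n19177 := d6_1 D24249 (iv D19177) (iv F86781)
theorem F109028 : act 1 n24249 = n20597 := d14_1 D24249 (iv D20597) (iv F86782)
theorem F109029 : act 2 n24249 = n24249 := d21_1 D24249 (iv D24249) F86783
theorem F109030 : act 4 n24249 = n19150 := d32_1 D24249 (iv D19150) (iv F86784)
theorem F109031 : act 6 n24249 = n19930 := d39_1 D24249 (iv D19930) (iv D15602) (iv F68627) D19149
theorem F109032 : act 9 n24249 = n19154 := d43_2 (iv F86785) D24249 (iv D19154)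
def n24250 : Q := act 1 n19151
theorem D24250 : act 1 n19151 = n24250 := rfl
theorem F109033 : act 2 n24250 = n20598 := d9_2 D19151 D24250 (iv D20598) (iv D16098) (iv F68636)
theorem F109034 : act 3 n24250 = n24250 := d10_2 F86794 D24250 (iv D24250)
theorem F109035 : act 4 n24250 = n20604 := d11_2 (iv F86795) D24250 (iv D20604)
theorem F109036 : act 5 n24250 = n24250 := d12_2 F86796 D24250 (iv D24250)
theorem F109037 : act 7 n24250 = n20024 := d14_2 (iv F86797) D24250 (iv D20024)
theorem F109038 : act 8 n24250 = n19159 := d15_2 (iv F86798) D24250 (iv D19159)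
def n24251 : Q := act 6 n19151
theorem D24251 : act 6 n19151 = n24251 := rfl
theorem F109039 : act 0 n24251 = n19179 := d5_1 D24251 (iv D19179) (iv F86793)
theorem F109040 : act 2 n24251 = n19152 := d20_1 D24251 (iv D19152) D19151
theorem F109041 : act 3 n24251 = n24251 := d26_1 D24251 (iv D24251) F86794
theorem F109043 : act 8 n24251 = n19160 := d40_2 (iv F86798) D24251 (iv D19160)
def n24252 : Q := act 5 n19152
theorem D24252 : act 5 n19152 = n24252 := rfl
theorem F109044 : act 0 n24252 = n19180 := d4_1 D24252 (iv D19180) (iv F86799)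
theorem F109046 : act 3 n24252 = n19153 := d25_1 D24252 (iv D19153) (iv F86801)
theorem F109047 : act 6 n24252 = n24252 := d35_2 D19152 D24252 (iv D24252) (iv D19152) F68638
def n24253 : Q := act 7 n19152
theorem D24253 : act 7 n19152 = n24253 := rfl
theorem F109048 : act 0 n24253 = n19181 := d6_1 D24253 (iv D19181) (iv F86799)
theorem F109049 : act 1 n24253 = n20601 := d14_1 D24253 (iv D20601) (iv F86800)
theorem F109050 : act 3 n24253 = n19154 := d27_1 D24253 (iv D19154) (iv F86801)
theorem F109051 : act 4 n24253 = n20607 := d32_1 D24253 (iv D20607) (iv F86802)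
theorem F109052 : act 6 n24253 = n20027 := d39_1 D24253 (iv D20027) (iv D15674) (iv F68639) D19152
theorem F109053 : act 8 n24253 = n19162 := d42_2 (iv F86803) D24253 (iv D19162)
def n24254 : Q := act 7 n19153
theorem D24254 : act 7 n19153 = n24254 := rfl
theorem F109054 : act 0 n24254 = n19182 := d6_1 D24254 (iv D19182) (iv F86804)
theorem F109056 : act 2 n24254 = n24254 := d21_1 D24254 (iv D24254) F86806
theorem F109057 : act 4 n24254 = n24254 := d32_1 D24254 (iv D24254) F86807
theorem F109058 : act 5 n24254 = n19154 := d36_1 D24254 (iv D19154) D19153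
def n24255 : Q := act 8 n19153
theorem D24255 : act 8 n19153 = n24255 := rfl
theorem F109059 : act 0 n24255 = n19183 := d7_1 D24255 (iv D19183) (iv F86804)
theorem F109063 : act 5 n24255 = n19164 := d37_1 D24255 (iv D19164) (iv D15010) (iv F68645) D19153
def n24256 : Q := act 1 n19155
theorem D24256 : act 1 n19155 = n24256 := rfl
theorem F109066 : act 3 n24256 = n24256 := d10_2 F86816 D24256 (iv D24256)
theorem F109067 : act 4 n24256 = n20598 := d11_2 (iv F86817) D24256 (iv D20598)
theorem F109068 : act 5 n24256 = n19608 := d12_2 (iv F86818) D24256 (iv D19608)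
theorem F109069 : act 7 n24256 = n19159 := d14_2 (iv F86819) D24256 (iv D19159)
theorem F109070 : act 8 n24256 = n20024 := d15_2 (iv F86820) D24256 (iv D20024)
def n24257 : Q := act 6 n19155
theorem D24257 : act 6 n19155 = n24257 := rfl
theorem F109071 : act 0 n24257 = n19185 := d5_1 D24257 (iv D19185) (iv F86815)
theorem F109072 : act 2 n24257 = n19156 := d20_1 D24257 (iv D19156) D19155
theorem F109073 : act 3 n24257 = n24257 := d26_1 D24257 (iv D24257) F86816
def n24258 : Q := act 5 n19156
theorem D24258 : act 5 n19156 = n24258 := rfl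
theorem F109076 : act 0 n24258 = n19186 := d4_1 D24258 (iv D19186) (iv F86821)
theorem F109078 : act 3 n24258 = n19157 := d25_1 D24258 (iv D19157) (iv F86823)
theorem F109079 : act 6 n24258 = n19610 := d35_2 D19156 D24258 (iv D19610) (iv D15345) (iv F68656)
def n24259 : Q := act 7 n19156
theorem D24259 : act 7 n19156 = n24259 := rfl
theorem F109080 : act 0 n24259 = n19187 := d6_1 D24259 (iv D19187) (iv F86821)
theorem F109081 : act 1 n24259 = n20607 := d14_1 D24259 (iv D20607) (iv F86822)
theorem F109082 : act 3 n24259 = n19158 := d27_1 D24259 (iv D19158) (iv F86823)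
theorem F109083 : act 4 n24259 = n20601 := d32_1 D24259 (iv D20601) (iv F86824)
theorem F109084 : act 6 n24259 = n19162 := d39_1 D24259 (iv D19162) (iv D15009) (iv F68657) D19156
theorem F109085 : act 8 n24259 = n20027 := d42_2 (iv F86825) D24259 (iv D20027)
def n24260 : Q := act 7 n19157
theorem D24260 : act 7 n19157 = n24260 := rfl
theorem F109086 : act 0 n24260 = n19188 := d6_1 D24260 (iv D19188) (iv F86826)
theorem F109088 : act 2 n24260 = n24260 := d21_1 D24260 (iv D24260) F86828
theorem F109089 : act 4 n24260 = n24260 := d32_1 D24260 (iv D24260) F86829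
theorem F109090 : act 5 n24260 = n19158 := d36_1 D24260 (iv D19158) D19157
def n24261 : Q := act 8 n19157
theorem D24261 : act 8 n19157 = n24261 := rfl
theorem F109091 : act 0 n24261 = n19189 := d7_1 D24261 (iv D19189) (iv F86826)
theorem F109093 : act 2 n24261 = n24261 := d22_1 D24261 (iv D24261) F86828
theorem F109094 : act 4 n24261 = n24261 := d33_1 D24261 (iv D24261) F86829
theorem F109095 : act 5 n24261 = n20029 := d37_1 D24261 (iv D20029) (iv D15675) (iv F68663) D19157
theorem F109096 : act 6 n24261 = n19613 := d40_1 D24261 (iv D19613) (iv F86830)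
def n24262 : Q := act 0 n19159
theorem D24262 : act 0 n19159 = n24262 := rfl
theorem F109097 : act 1 n24262 = n19190 := d0_2 D19159 D24262 (iv D19190) (iv D15029) (iv F68671)
theorem F109099 : act 3 n24262 = n24262 := d2_2 F86838 D24262 (iv D24262)
def n24263 : Q := act 6 n19159
theorem D24263 : act 6 n19159 = n24263 := rfl
theorem F109101 : act 1 n24263 = n19160 := d13_1 D24263 (iv D19160) D19159
theorem F109103 : act 3 n24263 = n24263 := d26_1 D24263 (iv D24263) F86838
theorem F109104 : act 5 n24263 = n20715 := d35_1 D24263 F93247 (iv F88998) (iv D19615) (iv F86839)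
def n24264 : Q := act 5 n19160
theorem D24264 : act 5 n19160 = n24264 := rfl
theorem F109105 : act 0 n24264 = n19192 := d4_1 D24264 (iv D19192) (iv F86840)
theorem F109106 : act 1 n24264 = n20715 := d12_1 D24264 (iv F109104) F109101
theorem F109107 : act 2 n24264 = n19161 := d19_1 D24264 (iv D19161) (iv F86841)
theorem F109108 : act 3 n24264 = n24264 := d25_1 D24264 (iv D24264) F86842
theorem F109110 : act 4 n20654 = n24264 := d45_16 F81046 F81047 F63533 (iv F63026) (iv F80443) (iv F99177) (iv D22183) F78051 F61202 (iv F61176) (iv F77991) (iv D17299) (iv D13410) D13411 (iv F73377) (iv F93037) (iv D24264) (iv D19160) (iv F86819) F86820 (iv D15673) (iv D12200) (iv D9540) (iv D7525) F28823 F23287 (iv D4769) F17632 F17633 F13084 F9603 F6902 F6903 D1959 F9709 F7501 F5603 D1103 D1574 D2243 F11057 F11053 F11054 (iv F15456) (iv F21621) D5566 (iv F33083) D8846 F41358 (iv F52067) (iv F65884) F65885 F65886 F52055 (iv D8842) (iv F41319) D11285 F52019 (iv F63452) F63453 D18028 F80953 (iv F81044)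
theorem F109111 : act 8 n24264 = n20652 := d33_2 D20654 F109110 (iv D20652)
def n24265 : Q := act 7 n19160
theorem D24265 : act 7 n19160 = n24265 := rfl
theorem F109112 : act 0 n24265 = n19193 := d6_1 D24265 (iv D19193) (iv F86840)
theorem F109113 : act 2 n24265 = n19162 := d21_1 D24265 (iv D19162) (iv F86841)
theorem F109114 : act 3 n24265 = n24265 := d27_1 D24265 (iv D24265) F86842
def n24266 : Q := act 4 n19161
theorem D24266 : act 4 n19161 = n24266 := rfl
theorem F109115 : act 0 n24266 = n19194 := d3_1 D24266 (iv D19194) (iv F86843)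
theorem F109116 : act 1 n24266 = n20614 := d11_1 D24266 (iv D20614) (iv F86844)
theorem F109119 : act 6 n24266 = n19618 := d31_2 (iv F86846) D24266 (iv D19618)
theorem F109120 : act 8 n20650 = n24266 := d40_0 F109119 (iv F88994) (iv F93026)
def n24267 : Q := act 7 n19161
theorem D24267 : act 7 n19161 = n24267 := rfl
theorem F109121 : act 0 n24267 = n19195 := d6_1 D24267 (iv D19195) (iv F86843)
theorem F109122 : act 1 n24267 = n20615 := d14_1 D24267 (iv D20615) (iv F86844)
theorem F109123 : act 3 n24267 = n19163 := d27_1 D24267 (iv D19163) (iv F86845)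
theorem F109124 : act 5 n24267 = n19162 := d36_1 D24267 (iv D19162) D19161
def n24268 : Q := act 8 n19161
theorem D24268 : act 8 n19161 = n24268 := rfl
theorem F109125 : act 0 n24268 = n19196 := d7_1 D24268 (iv D19196) (iv F86843)
theorem F109126 : act 1 n24268 = n20616 := d15_1 D24268 (iv D20616) (iv F86844)
theorem F109130 : act 6 n24268 = n19620 := d40_1 D24268 (iv D19620) (iv F86846)
def n24270 : Q := act 8 n19163
theorem D24270 : act 8 n19163 = n24270 := rfl
theorem F109136 : act 0 n24270 = n19198 := d7_1 D24270 (iv D19198) (iv F86850)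
theorem F109140 : act 7 n24270 = n19164 := d42_1 D24270 (iv D19164) D19163
def n24271 : Q := act 9 n19164
theorem D24271 : act 9 n19164 = n24271 := rfl
theorem F109141 : act 0 n24271 = n19199 := d8_1 D24271 (iv D19199) (iv F86855)
def n24273 : Q := act 7 n19166
theorem D24273 : act 7 n19166 = n24273 := rfl
theorem F109155 : act 2 n24273 = n19169 := d21_1 D24273 (iv D19169) (iv F86868)
theorem F109158 : act 5 n24273 = n19167 := d36_1 D24273 (iv D19167) D19166
theorem F109159 : act 8 n24273 = n22152 := d42_2 F86872 D24273 (iv D22152)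
def n24274 : Q := act 7 n19168
theorem D24274 : act 7 n19168 = n24274 := rfl
theorem F109160 : act 0 n24274 = n19203 := d6_1 D24274 (iv D19203) (iv F86878)
theorem F109164 : act 8 n24274 = n22151 := d42_2 F86882 D24274 (iv D22151)
def n24275 : Q := act 6 n19169
theorem D24275 : act 6 n19169 = n24275 := rfl
theorem F109169 : act 7 n24275 = n19627 := d39_2 D19169 D24275 (iv D19627) (iv D15358) (iv F68699)
def n24277 : Q := act 9 n19170
theorem D24277 : act 9 n19170 = n24277 := rfl
theorem F109178 : act 1 n24277 = n20629 := d16_1 D24277 (iv D20629) (iv F86888)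
theorem F109183 : act 6 n24277 = n19629 := d41_1 D24277 (iv D19629) (iv F86893)
def n24280 : Q := act 1 n19174
theorem D24280 : act 1 n19174 = n24280 := rfl
theorem F109196 : act 4 n24280 = n20342 := d11_2 (iv F86910) D24280 (iv D20342)
def n24281 : Q := act 6 n19174
theorem D24281 : act 6 n19174 = n24281 := rfl
theorem F109200 : act 2 n24281 = n19175 := d20_1 D24281 (iv D19175) D19174
theorem F109201 : act 3 n24281 = n24281 := d26_1 D24281 (iv D24281) F86909
theorem F109202 : act 4 n24281 = n20343 := d31_1 D24281 (iv D20343) (iv F86910)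
theorem F109203 : act 9 n24281 = n19179 := d41_2 (iv F86913) D24281 (iv D19179)
def n24282 : Q := act 5 n19175
theorem D24282 : act 5 n19175 = n24282 := rfl
theorem F109204 : act 1 n24282 = n19212 := d12_1 D24282 (iv D19212) (iv F86914)
theorem F109205 : act 3 n24282 = n19176 := d25_1 D24282 (iv D19176) (iv F86915)
theorem F109206 : act 6 n24282 = n24282 := d35_2 D19175 D24282 (iv D24282) (iv D19175) F68716
theorem F109207 : act 9 n24282 = n19180 := d38_2 (iv F86917) D24282 (iv D19180)
def n24283 : Q := act 7 n19175
theorem D24283 : act 7 n19175 = n24283 := rfl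
theorem F109208 : act 1 n24283 = n19213 := d14_1 D24283 (iv D19213) (iv F86914)
theorem F109209 : act 3 n24283 = n19177 := d27_1 D24283 (iv D19177) (iv F86915)
theorem F109210 : act 4 n24283 = n20345 := d32_1 D24283 (iv D20345) (iv F86916)
theorem F109211 : act 6 n24283 = n19947 := d39_1 D24283 (iv D19947) (iv D15614) (iv F68717) D19175
theorem F109212 : act 9 n24283 = n19181 := d43_2 (iv F86917) D24283 (iv D19181)
def n24284 : Q := act 7 n19176
theorem D24284 : act 7 n19176 = n24284 := rfl
theorem F109213 : act 1 n24284 = n19214 := d14_1 D24284 (iv D19214) (iv F86918)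
theorem F109214 : act 2 n24284 = n24284 := d21_1 D24284 (iv D24284) F86919
theorem F109215 : act 4 n24284 = n24284 := d32_1 D24284 (iv D24284) F86920
theorem F109216 : act 5 n24284 = n19177 := d36_1 D24284 (iv D19177) D19176
theorem F109217 : act 9 n24284 = n19182 := d43_2 (iv F86922) D24284 (iv D19182)
def n24285 : Q := act 8 n19176
theorem D24285 : act 8 n19176 = n24285 := rfl
theorem F109218 : act 1 n24285 = n19215 := d15_1 D24285 (iv D19215) (iv F86918)
theorem F109219 : act 2 n24285 = n24285 := d22_1 D24285 (iv D24285) F86919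
theorem F109220 : act 4 n24285 = n24285 := d33_1 D24285 (iv D24285) F86920
theorem F109221 : act 6 n24285 = n24285 := d40_1 D24285 (iv D24285) F86921
def n24286 : Q := act 0 n19178
theorem D24286 : act 0 n19178 = n24286 := rfl
theorem F109224 : act 4 n24286 = n20648 := d3_2 (iv F86930) D24286 (iv D20648)
theorem F109227 : act 8 n24286 = n19190 := d7_2 (iv F86933) D24286 (iv D19190)
def n24287 : Q := act 6 n19178
theorem D24287 : act 6 n19178 = n24287 := rfl
theorem F109228 : act 1 n24287 = n19179 := d13_1 D24287 (iv D19179) D19178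
theorem F109231 : act 4 n24287 = n20649 := d31_1 D24287 (iv D20649) (iv F86930)
theorem F109232 : act 8 n24287 = n19191 := d40_2 (iv F86933) D24287 (iv D19191)
def n24288 : Q := act 5 n19179
theorem D24288 : act 5 n19179 = n24288 := rfl
theorem F109233 : act 2 n24288 = n19180 := d19_1 D24288 (iv D19180) (iv F86934)
theorem F109234 : act 3 n24288 = n24288 := d25_1 D24288 (iv D24288) F86935
theorem F109235 : act 6 n24288 = n24288 := d35_2 D19179 D24288 (iv D24288) (iv D19179) F68731
def n24289 : Q := act 7 n19179
theorem D24289 : act 7 n19179 = n24289 := rfl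
theorem F109236 : act 2 n24289 = n19181 := d21_1 D24289 (iv D19181) (iv F86934)
theorem F109237 : act 3 n24289 = n24289 := d27_1 D24289 (iv D24289) F86935
theorem F109238 : act 4 n24289 = n20651 := d32_1 D24289 (iv D20651) (iv F86936)
theorem F109239 : act 6 n24289 = n20042 := d39_1 D24289 (iv D20042) (iv D15684) (iv F68732) D19179
theorem F109240 : act 8 n24289 = n19193 := d42_2 (iv F86937) D24289 (iv D19193)
def n24290 : Q := act 4 n19180
theorem D24290 : act 4 n19180 = n24290 := rfl
theorem F109241 : act 1 n24290 = n19220 := d11_1 D24290 (iv D19220) (iv F86938)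
theorem F109242 : act 3 n24290 = n24290 := d24_1 D24290 (iv D24290) F86939 F68740 (iv F86939)
theorem F109243 : act 5 n24290 = n20652 := d30_2 D19180 D24290 (iv D20652) (iv D16133) (iv F68736)
theorem F109244 : act 6 n24290 = n24290 := d31_2 F86940 D24290 (iv D24290)
def n24291 : Q := act 7 n19180
theorem D24291 : act 7 n19180 = n24291 := rfl
theorem F109245 : act 1 n24291 = n19221 := d14_1 D24291 (iv D19221) (iv F86938)
theorem F109246 : act 3 n24291 = n19182 := d27_1 D24291 (iv D19182) (iv F86939)
theorem F109247 : act 5 n24291 = n19181 := d36_1 D24291 (iv D19181) D19180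
def n24292 : Q := act 8 n19180
theorem D24292 : act 8 n19180 = n24292 := rfl
theorem F109248 : act 1 n24292 = n19222 := d15_1 D24292 (iv D19222) (iv F86938)
theorem F109249 : act 3 n24292 = n19183 := d28_1 D24292 (iv D19183) (iv F86939)
theorem F109250 : act 5 n24292 = n19196 := d37_1 D24292 (iv D19196) (iv D15031) (iv F68737) D19180
theorem F109251 : act 6 n24292 = n24292 := d40_1 D24292 (iv D24292) F86940
def n24293 : Q := act 6 n19182
theorem D24293 : act 6 n19182 = n24293 := rfl
theorem F109252 : act 1 n24293 = n19223 := d13_1 D24293 (iv D19223) (iv F86946)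
theorem F109253 : act 2 n24293 = n24293 := d20_1 D24293 (iv D24293) F86947
theorem F109254 : act 4 n24293 = n24293 := d31_1 D24293 (iv D24293) F86948
theorem F109255 : act 5 n24293 = n20046 := d35_1 D24293 (iv D20046) F71754 (iv F68745) (iv F86949)
theorem F109256 : act 7 n24293 = n24293 := d39_2 D19182 D24293 (iv D24293) (iv D19182) F68741
def n24294 : Q := act 8 n19182
theorem D24294 : act 8 n19182 = n24294 := rfl
theorem F109257 : act 1 n24294 = n19224 := d15_1 D24294 (iv D19224) (iv F86946)
theorem F109258 : act 2 n24294 = n24294 := d22_1 D24294 (iv D24294) F86947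
theorem F109259 : act 4 n24294 = n24294 := d33_1 D24294 (iv D24294) F86948
theorem F109260 : act 5 n24294 = n19198 := d37_1 D24294 (iv D19198) F68778 (iv F68746) (iv F86949)
theorem F109261 : act 7 n24294 = n19183 := d42_1 D24294 (iv D19183) D19182
def n24295 : Q := act 9 n19183
theorem D24295 : act 9 n19183 = n24295 := rfl
theorem F109262 : act 1 n24295 = n19225 := d16_1 D24295 (iv D19225) (iv F86950)
theorem F109263 : act 2 n24295 = n24295 := d23_1 D24295 (iv D24295) F86951
theorem F109264 : act 4 n24295 = n24295 := d34_1 D24295 (iv D24295) F86952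
theorem F109265 : act 5 n24295 = n19199 := d38_1 D24295 (iv D19199) (iv F86953)
theorem F109266 : act 6 n24295 = n24295 := d41_1 D24295 (iv D24295) F86954
def n24296 : Q := act 0 n19184
theorem D24296 : act 0 n19184 = n24296 := rfl
theorem F109267 : act 2 n24296 = n19226 := d1_2 (iv F86955) D24296 (iv D19226)
theorem F109269 : act 4 n24296 = n20638 := d3_2 (iv F86957) D24296 (iv D20638)
theorem F109271 : act 7 n24296 = n19190 := d6_2 (iv F86959) D24296 (iv D19190)
theorem F109272 : act 8 n24296 = n20039 := d7_2 (iv F86960) D24296 (iv D20039)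
def n24297 : Q := act 6 n19184
theorem D24297 : act 6 n19184 = n24297 := rfl
theorem F109274 : act 2 n24297 = n19227 := d20_1 D24297 (iv D19227) (iv F86955)
def n24298 : Q := act 5 n19185
theorem D24298 : act 5 n19185 = n24298 := rfl
theorem F109278 : act 2 n24298 = n19186 := d19_1 D24298 (iv D19186) (iv F86961)
theorem F109280 : act 6 n24298 = n19634 := d35_2 D19185 D24298 (iv D19634) (iv D15364) (iv F68749)
def n24299 : Q := act 7 n19185
theorem D24299 : act 7 n19185 = n24299 := rfl
theorem F109281 : act 2 n24299 = n19187 := d21_1 D24299 (iv D19187) (iv F86961)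
theorem F109282 : act 3 n24299 = n24299 := d27_1 D24299 (iv D24299) F86962
theorem F109283 : act 4 n24299 = n20641 := d32_1 D24299 (iv D20641) (iv F86963)
theorem F109284 : act 6 n24299 = n19193 := d39_1 D24299 (iv D19193) (iv D15030) (iv F68750) D19185
theorem F109285 : act 8 n24299 = n20042 := d42_2 (iv F86964) D24299 (iv D20042)
def n24300 : Q := act 4 n19186
theorem D24300 : act 4 n19186 = n24300 := rfl
theorem F109286 : act 1 n24300 = n19230 := d11_1 D24300 (iv D19230) (iv F86965)
theorem F109287 : act 3 n24300 = n24300 := d24_1 D24300 (iv D24300) F86966 F68758 (iv F86966)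
theorem F109288 : act 5 n24300 = n20642 := d30_2 D19186 D24300 (iv D20642) (iv D16127) (iv F68754)
theorem F109289 : act 6 n24300 = n19636 := d31_2 (iv F86967) D24300 (iv D19636)
def n24301 : Q := act 7 n19186
theorem D24301 : act 7 n19186 = n24301 := rfl
theorem F109290 : act 1 n24301 = n19231 := d14_1 D24301 (iv D19231) (iv F86965)
theorem F109291 : act 3 n24301 = n19188 := d27_1 D24301 (iv D19188) (iv F86966)
theorem F109292 : act 5 n24301 = n19187 := d36_1 D24301 (iv D19187) D19186
def n24302 : Q := act 8 n19186
theorem D24302 : act 8 n19186 = n24302 := rfl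
theorem F109293 : act 1 n24302 = n19232 := d15_1 D24302 (iv D19232) (iv F86965)
theorem F109294 : act 3 n24302 = n19189 := d28_1 D24302 (iv D19189) (iv F86966)
theorem F109295 : act 5 n24302 = n20045 := d37_1 D24302 (iv D20045) (iv D15685) (iv F68755) D19186
theorem F109296 : act 6 n24302 = n19638 := d40_1 D24302 (iv D19638) (iv F86967)
def n24303 : Q := act 6 n19188
theorem D24303 : act 6 n19188 = n24303 := rfl
theorem F109297 : act 1 n24303 = n19233 := d13_1 D24303 (iv D19233) (iv F86973)
theorem F109298 : act 2 n24303 = n24303 := d20_1 D24303 (iv D24303) F86974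
theorem F109299 : act 4 n24303 = n24303 := d31_1 D24303 (iv D24303) F86975
theorem F109300 : act 5 n24303 = n19197 := d35_1 D24303 (iv D19197) F68778 (iv F68763) (iv F86976)
def n24304 : Q := act 8 n19188
theorem D24304 : act 8 n19188 = n24304 := rfl
theorem F109302 : act 1 n24304 = n19234 := d15_1 D24304 (iv D19234) (iv F86973)
theorem F109303 : act 2 n24304 = n24304 := d22_1 D24304 (iv D24304) F86974
theorem F109304 : act 4 n24304 = n24304 := d33_1 D24304 (iv D24304) F86975
theorem F109305 : act 5 n24304 = n20047 := d37_1 D24304 (iv D20047) F71754 (iv F68764) (iv F86976)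
theorem F109306 : act 7 n24304 = n19189 := d42_1 D24304 (iv D19189) D19188
def n24305 : Q := act 9 n19189
theorem D24305 : act 9 n19189 = n24305 := rfl
theorem F109307 : act 1 n24305 = n19235 := d16_1 D24305 (iv D19235) (iv F86977)
theorem F109308 : act 2 n24305 = n24305 := d23_1 D24305 (iv D24305) F86978
theorem F109309 : act 4 n24305 = n24305 := d34_1 D24305 (iv D24305) F86979
theorem F109310 : act 5 n24305 = n20048 := d38_1 D24305 (iv D20048) (iv F86980)
theorem F109311 : act 6 n24305 = n19641 := d41_1 D24305 (iv D19641) (iv F86981)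
def n24306 : Q := act 6 n19190
theorem D24306 : act 6 n19190 = n24306 := rfl
theorem F109312 : act 0 n24306 = n19191 := d5_1 D24306 (iv D19191) D19190
theorem F109313 : act 2 n24306 = n19236 := d20_1 D24306 (iv D19236) (iv F86982)
theorem F109314 : act 3 n24306 = n24306 := d26_1 D24306 (iv D24306) F86983
def n24307 : Q := act 5 n19191
theorem D24307 : act 5 n19191 = n24307 := rfl
theorem F109315 : act 1 n24307 = n19192 := d12_1 D24307 (iv D19192) (iv F86985)
theorem F109316 : act 2 n24307 = n19237 := d19_1 D24307 (iv D19237) (iv F86986)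
theorem F109317 : act 3 n24307 = n24307 := d25_1 D24307 (iv D24307) F86987
theorem F109318 : act 6 n24307 = n19643 := d35_2 D19191 D24307 (iv D19643) (iv D15370) (iv F68767)
def n24308 : Q := act 7 n19191
theorem D24308 : act 7 n19191 = n24308 := rfl
theorem F109319 : act 1 n24308 = n19193 := d14_1 D24308 (iv D19193) (iv F86985)
theorem F109320 : act 2 n24308 = n19238 := d21_1 D24308 (iv D19238) (iv F86986)
theorem F109321 : act 3 n24308 = n24308 := d27_1 D24308 (iv D24308) F86987
def n24309 : Q := act 4 n19192
theorem D24309 : act 4 n19192 = n24309 := rfl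
theorem F109322 : act 0 n24309 = n20654 := d3_1 D24309 F109110 F109105
theorem F109323 : act 2 n24309 = n19194 := d18_1 D24309 (iv D19194) (iv F86988)
theorem F109324 : act 6 n24309 = n19645 := d31_2 (iv F86990) D24309 (iv D19645)
def n24310 : Q := act 7 n19192
theorem D24310 : act 7 n19192 = n24310 := rfl
theorem F109327 : act 2 n24310 = n19195 := d21_1 D24310 (iv D19195) (iv F86988)
theorem F109328 : act 3 n24310 = n24310 := d27_1 D24310 (iv D24310) F86989
theorem F109329 : act 5 n24310 = n19193 := d36_1 D24310 (iv D19193) D19192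
def n24311 : Q := act 8 n19192
theorem D24311 : act 8 n19192 = n24311 := rfl
theorem F109330 : act 0 n24311 = n20652 := d7_1 D24311 (iv F109111) F109105
theorem F109331 : act 2 n24311 = n19196 := d22_1 D24311 (iv D19196) (iv F86988)
theorem F109332 : act 3 n24311 = n24311 := d28_1 D24311 (iv D24311) F86989
theorem F109334 : act 6 n24311 = n19647 := d40_1 D24311 (iv D19647) (iv F86990)
def n24312 : Q := act 7 n19194
theorem D24312 : act 7 n19194 = n24312 := rfl
theorem F109335 : act 1 n24312 = n19242 := d14_1 D24312 (iv D19242) (iv F86993)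
theorem F109336 : act 3 n24312 = n19203 := d27_1 D24312 (iv D19203) (iv F86994)
theorem F109337 : act 4 n24312 = n19195 := d32_1 D24312 (iv D19195) D19194
def n24314 : Q := act 6 n19195
theorem D24314 : act 6 n19195 = n24314 := rfl
theorem F109345 : act 1 n24314 = n19244 := d13_1 D24314 (iv D19244) (iv F86996)
theorem F109346 : act 3 n24314 = n19197 := d26_1 D24314 (iv D19197) (iv F86997)
def n24315 : Q := act 8 n19195
theorem D24315 : act 8 n19195 = n24315 := rfl
theorem F109348 : act 1 n24315 = n19245 := d15_1 D24315 (iv D19245) (iv F86996)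
theorem F109349 : act 3 n24315 = n19198 := d28_1 D24315 (iv D19198) (iv F86997)
theorem F109350 : act 7 n24315 = n19196 := d42_1 D24315 (iv D19196) D19195
def n24316 : Q := act 9 n19196
theorem D24316 : act 9 n19196 = n24316 := rfl
theorem F109351 : act 1 n24316 = n19246 := d16_1 D24316 (iv D19246) (iv F86999)
theorem F109352 : act 3 n24316 = n19199 := d29_1 D24316 (iv D19199) (iv F87000)
def n24317 : Q := act 8 n19197
theorem D24317 : act 8 n19197 = n24317 := rfl
theorem F109357 : act 6 n24317 = n19198 := d40_1 D24317 (iv D19198) D19197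
theorem F109358 : act 7 n24317 = n19653 := d42_1 D24317 (iv D19653) (iv F87005)
def n24318 : Q := act 9 n19198
theorem D24318 : act 9 n19198 = n24318 := rfl
theorem F109359 : act 1 n24318 = n19248 := d16_1 D24318 (iv D19248) (iv F87006)
theorem F109362 : act 7 n24318 = n19199 := d43_1 D24318 (iv D19199) (iv F87009)
def n24323 : Q := act 6 n19203
theorem D24323 : act 6 n19203 = n24323 := rfl
theorem F109390 : act 7 n24323 = n19659 := d39_2 D19203 D24323 (iv D19659) (iv D15382) (iv F68793)
def n24324 : Q := act 8 n19203
theorem D24324 : act 8 n19203 = n24324 := rfl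
theorem F109392 : act 1 n24324 = n19250 := d15_1 D24324 (iv D19250) (iv F87031)
theorem F109395 : act 7 n24324 = n19204 := d42_1 D24324 (iv D19204) D19203
theorem F109396 : act 5 n22076 = n24324 := d36_3 F109395 (iv F87038) D22076
def n24326 : Q := act 8 n19205
theorem D24326 : act 8 n19205 = n24326 := rfl
theorem F109406 : act 7 n24326 = n19662 := d42_1 D24326 (iv D19662) (iv F87042)
def n24332 : Q := act 5 n19211
theorem D24332 : act 5 n19211 = n24332 := rfl
theorem F109430 : act 0 n24332 = n20687 := d4_1 D24332 (iv D20687) (iv F87064)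
theorem F109431 : act 2 n24332 = n19212 := d19_1 D24332 (iv D19212) (iv F87065)
theorem F109432 : act 3 n24332 = n19259 := d25_1 D24332 (iv D19259) (iv F87066)
theorem F109433 : act 6 n24332 = n24332 := d35_2 D19211 D24332 (iv D24332) (iv D19211) F68816
theorem F109434 : act 9 n24332 = n19218 := d38_2 (iv F87068) D24332 (iv D19218)
def n24333 : Q := act 7 n19211
theorem D24333 : act 7 n19211 = n24333 := rfl
theorem F109435 : act 0 n24333 = n20688 := d6_1 D24333 (iv D20688) (iv F87064)
theorem F109436 : act 2 n24333 = n19213 := d21_1 D24333 (iv D19213) (iv F87065)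
theorem F109437 : act 3 n24333 = n19260 := d27_1 D24333 (iv D19260) (iv F87066)
theorem F109439 : act 6 n24333 = n19974 := d39_1 D24333 (iv D19974) (iv D15632) (iv F68817) D19211
theorem F109440 : act 9 n24333 = n19219 := d43_2 (iv F87068) D24333 (iv D19219)
def n24334 : Q := act 4 n19212
theorem D24334 : act 4 n19212 = n24334 := rfl
theorem F109441 : act 0 n24334 = n20689 := d3_1 D24334 (iv D20689) (iv F87069)
theorem F109442 : act 3 n24334 = n24334 := d24_1 D24334 (iv D24334) F87070 F68825 (iv F87070)
theorem F109444 : act 6 n24334 = n24334 := d31_2 F87071 D24334 (iv D24334)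
theorem F109445 : act 9 n24334 = n19220 := d34_2 (iv F87072) D24334 (iv D19220)
def n24335 : Q := act 7 n19212
theorem D24335 : act 7 n19212 = n24335 := rfl
theorem F109446 : act 0 n24335 = n20690 := d6_1 D24335 (iv D20690) (iv F87069)
theorem F109447 : act 3 n24335 = n19214 := d27_1 D24335 (iv D19214) (iv F87070)
theorem F109448 : act 5 n24335 = n19213 := d36_1 D24335 (iv D19213) D19212
theorem F109449 : act 9 n24335 = n19221 := d43_2 (iv F87072) D24335 (iv D19221)
def n24336 : Q := act 8 n19212
theorem D24336 : act 8 n19212 = n24336 := rfl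
theorem F109450 : act 0 n24336 = n20691 := d7_1 D24336 (iv D20691) (iv F87069)
theorem F109451 : act 3 n24336 = n19215 := d28_1 D24336 (iv D19215) (iv F87070)
theorem F109452 : act 6 n24336 = n24336 := d40_1 D24336 (iv D24336) F87071
def n24337 : Q := act 6 n19214
theorem D24337 : act 6 n19214 = n24337 := rfl
theorem F109453 : act 0 n24337 = n20692 := d5_1 D24337 (iv D20692) (iv F87078)
theorem F109454 : act 2 n24337 = n19264 := d20_1 D24337 (iv D19264) (iv F87079)
theorem F109455 : act 4 n24337 = n24337 := d31_1 D24337 (iv D24337) F87080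
theorem F109456 : act 5 n24337 = n19978 := d35_1 D24337 (iv D19978) F71566 (iv F68831) (iv F87081)
theorem F109457 : act 7 n24337 = n24337 := d39_2 D19214 D24337 (iv D24337) (iv D19214) F68826
theorem F109458 : act 9 n24337 = n19223 := d41_2 (iv F87082) D24337 (iv D19223)
def n24338 : Q := act 8 n19214
theorem D24338 : act 8 n19214 = n24338 := rfl
theorem F109459 : act 0 n24338 = n20693 := d7_1 D24338 (iv D20693) (iv F87078)
theorem F109460 : act 2 n24338 = n19265 := d22_1 D24338 (iv D19265) (iv F87079)
theorem F109461 : act 4 n24338 = n24338 := d33_1 D24338 (iv D24338) F87080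
theorem F109462 : act 7 n24338 = n19215 := d42_1 D24338 (iv D19215) D19214
def n24339 : Q := act 9 n19215
theorem D24339 : act 9 n19215 = n24339 := rfl
theorem F109463 : act 0 n24339 = n20694 := d8_1 D24339 (iv D20694) (iv F87083)
theorem F109464 : act 2 n24339 = n19266 := d23_1 D24339 (iv D19266) (iv F87084)
theorem F109465 : act 4 n24339 = n24339 := d34_1 D24339 (iv D24339) F87085
theorem F109466 : act 6 n24339 = n24339 := d41_1 D24339 (iv D24339) F87086
theorem F109467 : act 8 n24339 = n19225 := d44_1 D24339 (iv D19225) (iv D15052) (iv F68827) D19215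
def n24340 : Q := act 6 n19216
theorem D24340 : act 6 n19216 = n24340 := rfl
theorem F109472 : act 8 n24340 = n19236 := d40_2 (iv F87092) D24340 (iv D19236)
def n24343 : Q := act 4 n19218
theorem D24343 : act 4 n19218 = n24343 := rfl
theorem F109482 : act 2 n24343 = n19220 := d18_1 D24343 (iv D19220) (iv F87098)
theorem F109483 : act 5 n24343 = n20711 := d30_2 D19218 D24343 (iv D20711) (iv D16175) (iv F68841)
def n24344 : Q := act 7 n19218
theorem D24344 : act 7 n19218 = n24344 := rfl
theorem F109485 : act 0 n24344 = n20699 := d6_1 D24344 (iv D20699) (iv F87097)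
theorem F109486 : act 2 n24344 = n19221 := d21_1 D24344 (iv D19221) (iv F87098)
theorem F109487 : act 3 n24344 = n19271 := d27_1 D24344 (iv D19271) (iv F87099)
theorem F109488 : act 5 n24344 = n19219 := d36_1 D24344 (iv D19219) D19218
def n24345 : Q := act 8 n19218
theorem D24345 : act 8 n19218 = n24345 := rfl
theorem F109489 : act 0 n24345 = n20700 := d7_1 D24345 (iv D20700) (iv F87097)
theorem F109490 : act 2 n24345 = n19222 := d22_1 D24345 (iv D19222) (iv F87098)
theorem F109491 : act 3 n24345 = n19272 := d28_1 D24345 (iv D19272) (iv F87099)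
theorem F109492 : act 5 n24345 = n19241 := d37_1 D24345 (iv D19241) (iv D15061) (iv F68842) D19218
theorem F109493 : act 6 n24345 = n24345 := d40_1 D24345 (iv D24345) F87100
def n24346 : Q := act 7 n19220
theorem D24346 : act 7 n19220 = n24346 := rfl
theorem F109494 : act 0 n24346 = n20701 := d6_1 D24346 (iv D20701) (iv F87107)
theorem F109495 : act 3 n24346 = n24346 := d27_1 D24346 (iv D24346) F87108
theorem F109496 : act 4 n24346 = n19221 := d32_1 D24346 (iv D19221) D19220
def n24347 : Q := act 8 n19220
theorem D24347 : act 8 n19220 = n24347 := rfl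
theorem F109498 : act 0 n24347 = n20702 := d7_1 D24347 (iv D20702) (iv F87107)
theorem F109499 : act 3 n24347 = n24347 := d28_1 D24347 (iv D24347) F87108
theorem F109500 : act 4 n24347 = n19222 := d33_1 D24347 (iv D19222) D19220
theorem F109501 : act 6 n24347 = n24347 := d40_1 D24347 (iv D24347) F87110
def n24348 : Q := act 6 n19221
theorem D24348 : act 6 n19221 = n24348 := rfl
theorem F109502 : act 0 n24348 = n20703 := d5_1 D24348 (iv D20703) (iv F87111)
theorem F109503 : act 3 n24348 = n19223 := d26_1 D24348 (iv D19223) (iv F87112)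
theorem F109504 : act 5 n24348 = n20067 := d35_1 D24348 (iv D20067) F71807 (iv F68849) (iv F87113)
theorem F109505 : act 7 n24348 = n24348 := d39_2 D19221 D24348 (iv D24348) (iv D19221) F68845
def n24349 : Q := act 8 n19221
theorem D24349 : act 8 n19221 = n24349 := rfl
theorem F109506 : act 0 n24349 = n20704 := d7_1 D24349 (iv D20704) (iv F87111)
theorem F109507 : act 3 n24349 = n19224 := d28_1 D24349 (iv D19224) (iv F87112)
theorem F109508 : act 5 n24349 = n19245 := d37_1 D24349 (iv D19245) F68904 (iv F68850) (iv F87113)
theorem F109509 : act 7 n24349 = n19222 := d42_1 D24349 (iv D19222) D19221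
def n24350 : Q := act 9 n19222
theorem D24350 : act 9 n19222 = n24350 := rfl
theorem F109510 : act 0 n24350 = n20705 := d8_1 D24350 (iv D20705) (iv F87114)
theorem F109511 : act 3 n24350 = n19225 := d29_1 D24350 (iv D19225) (iv F87115)
theorem F109512 : act 5 n24350 = n19246 := d38_1 D24350 (iv D19246) (iv F87116)
theorem F109513 : act 6 n24350 = n24350 := d41_1 D24350 (iv D24350) F87117
def n24351 : Q := act 8 n19223
theorem D24351 : act 8 n19223 = n24351 := rfl
theorem F109514 : act 0 n24351 = n20706 := d7_1 D24351 (iv D20706) (iv F87118)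
theorem F109515 : act 2 n24351 = n19278 := d22_1 D24351 (iv D19278) (iv F87119)
theorem F109516 : act 4 n24351 = n24351 := d33_1 D24351 (iv D24351) F87120
theorem F109517 : act 6 n24351 = n19224 := d40_1 D24351 (iv D19224) D19223
theorem F109518 : act 7 n24351 = n24351 := d42_1 D24351 (iv D24351) F87122
def n24352 : Q := act 9 n19224
theorem D24352 : act 9 n19224 = n24352 := rfl
theorem F109519 : act 0 n24352 = n20707 := d8_1 D24352 (iv D20707) (iv F87123)
theorem F109520 : act 2 n24352 = n19279 := d23_1 D24352 (iv D19279) (iv F87124)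
theorem F109521 : act 4 n24352 = n24352 := d34_1 D24352 (iv D24352) F87125
theorem F109522 : act 5 n24352 = n19248 := d38_1 D24352 (iv D19248) (iv F87126)
theorem F109523 : act 7 n24352 = n19225 := d43_1 D24352 (iv D19225) (iv F87127)
def n24353 : Q := act 6 n19226
theorem D24353 : act 6 n19226 = n24353 := rfl
theorem F109526 : act 3 n24353 = n19280 := d26_1 D24353 (iv D19280) (iv F87134)
theorem F109527 : act 4 n24353 = n20695 := d31_1 D24353 (iv D20695) (iv F87135)
theorem F109528 : act 8 n24353 = n20059 := d40_2 (iv F87138) D24353 (iv D20059)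
def n24354 : Q := act 5 n19227
theorem D24354 : act 5 n19227 = n24354 := rfl
theorem F109530 : act 3 n24354 = n19281 := d25_1 D24354 (iv D19281) (iv F87140)
def n24355 : Q := act 7 n19227
theorem D24355 : act 7 n19227 = n24355 := rfl
theorem F109534 : act 4 n24355 = n20697 := d32_1 D24355 (iv D20697) (iv F87141)
theorem F109535 : act 6 n24355 = n19238 := d39_1 D24355 (iv D19238) (iv D15060) (iv F68863) D19227
theorem F109536 : act 8 n24355 = n20061 := d42_2 (iv F87142) D24355 (iv D20061)
def n24356 : Q := act 4 n19228
theorem D24356 : act 4 n19228 = n24356 := rfl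
theorem F109539 : act 5 n24356 = n20698 := d30_2 D19228 D24356 (iv D20698) (iv D16165) (iv F68868)
theorem F109540 : act 6 n24356 = n19669 := d31_2 (iv F87146) D24356 (iv D19669)
def n24358 : Q := act 8 n19228
theorem D24358 : act 8 n19228 = n24358 := rfl
theorem F109548 : act 5 n24358 = n20064 := d37_1 D24358 (iv D20064) (iv D15699) (iv F68869) D19228
def n24359 : Q := act 7 n19230
theorem D24359 : act 7 n19230 = n24359 := rfl
theorem F109551 : act 3 n24359 = n24359 := d27_1 D24359 (iv D24359) F87154
theorem F109552 : act 4 n24359 = n19231 := d32_1 D24359 (iv D19231) D19230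
theorem F109553 : act 5 n24359 = n20701 := d36_1 D24359 (iv D20701) (iv F87155)
def n24360 : Q := act 8 n19230
theorem D24360 : act 8 n19230 = n24360 := rfl
theorem F109556 : act 4 n24360 = n19232 := d33_1 D24360 (iv D19232) D19230
theorem F109557 : act 6 n24360 = n19673 := d40_1 D24360 (iv D19673) (iv F87156)
def n24361 : Q := act 6 n19231
theorem D24361 : act 6 n19231 = n24361 := rfl
theorem F109558 : act 0 n24361 = n20716 := d5_1 D24361 (iv D20716) (iv F87157)
theorem F109559 : act 3 n24361 = n19233 := d26_1 D24361 (iv D19233) (iv F87158)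
theorem F109560 : act 5 n24361 = n19244 := d35_1 D24361 (iv D19244) F68904 (iv F68876) (iv F87159)
theorem F109561 : act 7 n24361 = n19674 := d39_2 D19231 D24361 (iv D19674) (iv D15394) (iv F68872)
def n24362 : Q := act 8 n19231
theorem D24362 : act 8 n19231 = n24362 := rfl
theorem F109563 : act 3 n24362 = n19234 := d28_1 D24362 (iv D19234) (iv F87158)
theorem F109564 : act 5 n24362 = n20068 := d37_1 D24362 (iv D20068) F71807 (iv F68877) (iv F87159)
theorem F109565 : act 7 n24362 = n19232 := d42_1 D24362 (iv D19232) D19231
def n24363 : Q := act 9 n19232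
theorem D24363 : act 9 n19232 = n24363 := rfl
theorem F109567 : act 3 n24363 = n19235 := d29_1 D24363 (iv D19235) (iv F87161)
theorem F109568 : act 5 n24363 = n20069 := d38_1 D24363 (iv D20069) (iv F87162)
theorem F109569 : act 6 n24363 = n19676 := d41_1 D24363 (iv D19676) (iv F87163)
def n24364 : Q := act 8 n19233
theorem D24364 : act 8 n19233 = n24364 := rfl
theorem F109570 : act 0 n24364 = n20719 := d7_1 D24364 (iv D20719) (iv F87164)
theorem F109571 : act 2 n24364 = n19291 := d22_1 D24364 (iv D19291) (iv F87165)
theorem F109572 : act 4 n24364 = n24364 := d33_1 D24364 (iv D24364) F87166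
theorem F109573 : act 6 n24364 = n19234 := d40_1 D24364 (iv D19234) D19233
theorem F109574 : act 7 n24364 = n19677 := d42_1 D24364 (iv D19677) (iv F87168)
def n24365 : Q := act 9 n19234
theorem D24365 : act 9 n19234 = n24365 := rfl
theorem F109575 : act 0 n24365 = n20720 := d8_1 D24365 (iv D20720) (iv F87169)
theorem F109576 : act 2 n24365 = n19292 := d23_1 D24365 (iv D19292) (iv F87170)
theorem F109577 : act 4 n24365 = n24365 := d34_1 D24365 (iv D24365) F87171
theorem F109578 : act 5 n24365 = n20071 := d38_1 D24365 (iv D20071) (iv F87172)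
theorem F109579 : act 7 n24365 = n19235 := d43_1 D24365 (iv D19235) (iv F87173)
def n24366 : Q := act 5 n19236
theorem D24366 : act 5 n19236 = n24366 := rfl
theorem F109580 : act 0 n24366 = n19237 := d4_1 D24366 (iv D19237) (iv F87179)
def n24367 : Q := act 7 n19236
theorem D24367 : act 7 n19236 = n24367 := rfl
theorem F109584 : act 0 n24367 = n19238 := d6_1 D24367 (iv D19238) (iv F87179)
theorem F109586 : act 3 n24367 = n19294 := d27_1 D24367 (iv D19294) (iv F87181)
def n24368 : Q := act 4 n19237
theorem D24368 : act 4 n19237 = n24368 := rfl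
theorem F109587 : act 1 n24368 = n19239 := d11_1 D24368 (iv D19239) (iv F87182)
theorem F109588 : act 3 n24368 = n24368 := d24_1 D24368 (iv D24368) F87183 F69079 (iv F87183)
theorem F109589 : act 6 n24368 = n19681 := d31_2 (iv F87184) D24368 (iv D19681)
def n24369 : Q := act 7 n19237
theorem D24369 : act 7 n19237 = n24369 := rfl
theorem F109590 : act 1 n24369 = n19240 := d14_1 D24369 (iv D19240) (iv F87182)
theorem F109591 : act 3 n24369 = n19295 := d27_1 D24369 (iv D19295) (iv F87183)
theorem F109592 : act 5 n24369 = n19238 := d36_1 D24369 (iv D19238) D19237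
def n24370 : Q := act 8 n19237
theorem D24370 : act 8 n19237 = n24370 := rfl
theorem F109593 : act 1 n24370 = n19241 := d15_1 D24370 (iv D19241) (iv F87182)
theorem F109594 : act 3 n24370 = n19296 := d28_1 D24370 (iv D19296) (iv F87183)
theorem F109595 : act 6 n24370 = n19683 := d40_1 D24370 (iv D19683) (iv F87184)
def n24371 : Q := act 7 n19239
theorem D24371 : act 7 n19239 = n24371 := rfl
theorem F109596 : act 0 n24371 = n20726 := d6_1 D24371 (iv D20726) (iv F87187)
theorem F109597 : act 2 n24371 = n19242 := d21_1 D24371 (iv D19242) (iv F87188)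
theorem F109598 : act 3 n24371 = n24371 := d27_1 D24371 (iv D24371) F87189
theorem F109599 : act 4 n24371 = n19240 := d32_1 D24371 (iv D19240) D19239
def n24372 : Q := act 8 n19239
theorem D24372 : act 8 n19239 = n24372 := rfl
theorem F109603 : act 4 n24372 = n19241 := d33_1 D24372 (iv D19241) D19239
theorem F109604 : act 6 n24372 = n19685 := d40_1 D24372 (iv D19685) (iv F87190)
def n24373 : Q := act 6 n19240
theorem D24373 : act 6 n19240 = n24373 := rfl
theorem F109605 : act 0 n24373 = n20728 := d5_1 D24373 (iv D20728) (iv F87191)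
theorem F109606 : act 2 n24373 = n19244 := d20_1 D24373 (iv D19244) (iv F87192)
theorem F109607 : act 3 n24373 = n19297 := d26_1 D24373 (iv D19297) (iv F87193)
theorem F109608 : act 7 n24373 = n19686 := d39_2 D19240 D24373 (iv D19686) (iv D15403) (iv F68895)
def n24374 : Q := act 8 n19240
theorem D24374 : act 8 n19240 = n24374 := rfl
theorem F109609 : act 0 n24374 = n20729 := d7_1 D24374 (iv D20729) (iv F87191)
theorem F109610 : act 2 n24374 = n19245 := d22_1 D24374 (iv D19245) (iv F87192)
theorem F109611 : act 3 n24374 = n19298 := d28_1 D24374 (iv D19298) (iv F87193)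
theorem F109612 : act 7 n24374 = n19241 := d42_1 D24374 (iv D19241) D19240
def n24375 : Q := act 9 n19241
theorem D24375 : act 9 n19241 = n24375 := rfl
theorem F109613 : act 0 n24375 = n20730 := d8_1 D24375 (iv D20730) (iv F87195)
theorem F109614 : act 2 n24375 = n19246 := d23_1 D24375 (iv D19246) (iv F87196)
theorem F109615 : act 3 n24375 = n19299 := d29_1 D24375 (iv D19299) (iv F87197)
theorem F109616 : act 6 n24375 = n19688 := d41_1 D24375 (iv D19688) (iv F87198)
def n24376 : Q := act 6 n19242
theorem D24376 : act 6 n19242 = n24376 := rfl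
theorem F109619 : act 4 n24376 = n19244 := d31_1 D24376 (iv D19244) (iv F87201)
theorem F109620 : act 7 n24376 = n19689 := d39_2 D19242 D24376 (iv D19689) (iv D15405) (iv F68901)
def n24377 : Q := act 8 n19242
theorem D24377 : act 8 n19242 = n24377 := rfl
theorem F109623 : act 4 n24377 = n19245 := d33_1 D24377 (iv D19245) (iv F87201)
theorem F109624 : act 7 n24377 = n19243 := d42_1 D24377 (iv D19243) D19242
def n24378 : Q := act 5 n19243
theorem D24378 : act 5 n19243 = n24378 := rfl
theorem F109625 : act 0 n24378 = n20733 := d4_1 D24378 (iv D20733) (iv F87202)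
theorem F109627 : act 3 n24378 = n19251 := d25_1 D24378 (iv D19251) (iv F87203)
theorem F109628 : act 6 n24378 = n20604 := d35_2 (iv F87205) D24378 F92847 F89314 (iv D19691)
def n24379 : Q := act 9 n19243
theorem D24379 : act 9 n19243 = n24379 := rfl
theorem F109631 : act 4 n24379 = n19246 := d34_1 D24379 (iv D19246) (iv F87204)
def n24380 : Q := act 8 n19244
theorem D24380 : act 8 n19244 = n24380 := rfl
theorem F109635 : act 6 n24380 = n19245 := d40_1 D24380 (iv D19245) D19244
theorem F109636 : act 7 n24380 = n19693 := d42_1 D24380 (iv D19693) (iv F87208)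
def n24381 : Q := act 9 n19245
theorem D24381 : act 9 n19245 = n24381 := rfl
theorem F109637 : act 0 n24381 = n20736 := d8_1 D24381 (iv D20736) (iv F87209)
theorem F109638 : act 3 n24381 = n19248 := d29_1 D24381 (iv D19248) (iv F87210)
theorem F109639 : act 7 n24381 = n19246 := d43_1 D24381 (iv D19246) (iv F87211)
def n24382 : Q := act 5 n19247
theorem D24382 : act 5 n19247 = n24382 := rfl
theorem F109640 : act 0 n24382 = n20737 := d4_1 D24382 (iv D20737) (iv F87215)
theorem F109642 : act 7 n24382 = n19695 := d36_2 (iv F87219) D24382 (iv D19695)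
def n24383 : Q := act 9 n19247
theorem D24383 : act 9 n19247 = n24383 := rfl
theorem F109643 : act 0 n24383 = n20738 := d8_1 D24383 (iv D20738) (iv F87215)
theorem F109646 : act 6 n24383 = n19248 := d41_1 D24383 (iv D19248) (iv F87218)
def n24385 : Q := act 8 n19249
theorem D24385 : act 8 n19249 = n24385 := rfl
theorem F109655 : act 6 n24385 = n19250 := d40_1 D24385 (iv D19250) D19249
theorem F109656 : act 7 n24385 = n19698 := d42_1 D24385 (iv D19698) (iv F87227)
def n24386 : Q := act 5 n19250
theorem D24386 : act 5 n19250 = n24386 := rfl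
theorem F109658 : act 1 n24386 = n22076 := d12_1 D24386 F109396 F109392
theorem F109661 : act 7 n24386 = n19251 := d36_2 (iv F87231) D24386 (iv D19251)
def n24388 : Q := act 9 n19251
theorem D24388 : act 9 n19251 = n24388 := rfl
theorem F109671 : act 5 n24388 = n19252 := d38_1 D24388 (iv D19252) D19251
def n24390 : Q := act 9 n19253
theorem D24390 : act 9 n19253 = n24390 := rfl
theorem F109682 : act 6 n24390 = n19254 := d41_1 D24390 (iv D19254) (iv F87244)
theorem F109683 : act 7 n24390 = n19703 := d43_1 D24390 (iv D19703) (iv F87245)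
def n24397 : Q := act 7 n19259
theorem D24397 : act 7 n19259 = n24397 := rfl
theorem F109713 : act 0 n24397 = n20753 := d6_1 D24397 (iv D20753) (iv F87270)
theorem F109714 : act 2 n24397 = n19262 := d21_1 D24397 (iv D19262) (iv F87271)
theorem F109715 : act 5 n24397 = n19260 := d36_1 D24397 (iv D19260) D19259
theorem F109716 : act 9 n24397 = n19271 := d43_2 (iv F87273) D24397 (iv D19271)
def n24398 : Q := act 8 n19259
theorem D24398 : act 8 n19259 = n24398 := rfl
theorem F109717 : act 0 n24398 = n20754 := d7_1 D24398 (iv D20754) (iv F87270)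
theorem F109718 : act 2 n24398 = n19263 := d22_1 D24398 (iv D19263) (iv F87271)
theorem F109719 : act 6 n24398 = n24398 := d40_1 D24398 (iv D24398) F87272
def n24399 : Q := act 7 n19261
theorem D24399 : act 7 n19261 = n24399 := rfl
theorem F109720 : act 0 n24399 = n20755 := d6_1 D24399 (iv D20755) (iv F87279)
theorem F109721 : act 1 n24399 = n24399 := d14_1 D24399 (iv D24399) F87280
theorem F109722 : act 3 n24399 = n24399 := d27_1 D24399 (iv D24399) F87281
theorem F109723 : act 4 n24399 = n19262 := d32_1 D24399 (iv D19262) D19261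
theorem F109724 : act 5 n24399 = n19312 := d36_1 D24399 (iv D19312) (iv F87282)
theorem F109725 : act 9 n24399 = n19273 := d43_2 (iv F87284) D24399 (iv D19273)
def n24400 : Q := act 8 n19261
theorem D24400 : act 8 n19261 = n24400 := rfl
theorem F109726 : act 0 n24400 = n20756 := d7_1 D24400 (iv D20756) (iv F87279)
theorem F109727 : act 1 n24400 = n24400 := d15_1 D24400 (iv D24400) F87280
theorem F109728 : act 3 n24400 = n24400 := d28_1 D24400 (iv D24400) F87281
theorem F109729 : act 4 n24400 = n19263 := d33_1 D24400 (iv D19263) D19261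
theorem F109730 : act 5 n24400 = n21623 := d37_1 D24400 F96943 F87530 (iv D19313) (iv F87282)
theorem F109731 : act 6 n24400 = n24400 := d40_1 D24400 (iv D24400) F87283
def n24401 : Q := act 6 n19262
theorem D24401 : act 6 n19262 = n24401 := rfl
theorem F109732 : act 0 n24401 = n20757 := d5_1 D24401 (iv D20757) (iv F87285)
theorem F109733 : act 1 n24401 = n24401 := d13_1 D24401 (iv D24401) F87286
theorem F109734 : act 3 n24401 = n19264 := d26_1 D24401 (iv D19264) (iv F87287)
theorem F109735 : act 5 n24401 = n20009 := d35_1 D24401 (iv D20009) F71637 (iv F68968) (iv F87288)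
theorem F109736 : act 7 n24401 = n24401 := d39_2 D19262 D24401 (iv D24401) (iv D19262) F68962
theorem F109737 : act 9 n24401 = n19275 := d41_2 (iv F87289) D24401 (iv D19275)
def n24402 : Q := act 8 n19262
theorem D24402 : act 8 n19262 = n24402 := rfl
theorem F109738 : act 0 n24402 = n20758 := d7_1 D24402 (iv D20758) (iv F87285)
theorem F109739 : act 1 n24402 = n24402 := d15_1 D24402 (iv D24402) F87286
theorem F109740 : act 3 n24402 = n19265 := d28_1 D24402 (iv D19265) (iv F87287)
theorem F109741 : act 7 n24402 = n19263 := d42_1 D24402 (iv D19263) D19262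
def n24403 : Q := act 9 n19263
theorem D24403 : act 9 n19263 = n24403 := rfl
theorem F109742 : act 0 n24403 = n20759 := d8_1 D24403 (iv D20759) (iv F87290)
theorem F109743 : act 1 n24403 = n24403 := d16_1 D24403 (iv D24403) F87291
theorem F109744 : act 3 n24403 = n19266 := d29_1 D24403 (iv D19266) (iv F87292)
theorem F109745 : act 6 n24403 = n24403 := d41_1 D24403 (iv D24403) F87293
theorem F109746 : act 8 n24403 = n19277 := d44_1 D24403 (iv D19277) (iv D15088) (iv F68963) D19263
def n24404 : Q := act 8 n19264
theorem D24404 : act 8 n19264 = n24404 := rfl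
theorem F109747 : act 0 n24404 = n20760 := d7_1 D24404 (iv D20760) (iv F87294)
theorem F109748 : act 1 n24404 = n24404 := d15_1 D24404 (iv D24404) F87295
theorem F109749 : act 4 n24404 = n24404 := d33_1 D24404 (iv D24404) F87296
theorem F109750 : act 6 n24404 = n19265 := d40_1 D24404 (iv D19265) D19264
theorem F109751 : act 7 n24404 = n24404 := d42_1 D24404 (iv D24404) F87298
def n24405 : Q := act 9 n19265
theorem D24405 : act 9 n19265 = n24405 := rfl
theorem F109752 : act 0 n24405 = n20761 := d8_1 D24405 (iv D20761) (iv F87300)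
theorem F109753 : act 1 n24405 = n24405 := d16_1 D24405 (iv D24405) F87301
theorem F109754 : act 4 n24405 = n24405 := d34_1 D24405 (iv D24405) F87302
theorem F109755 : act 7 n24405 = n19266 := d43_1 D24405 (iv D19266) (iv F87303)
theorem F109756 : act 8 n24405 = n19279 := d44_1 D24405 (iv D19279) (iv D15090) (iv F68974) D19265
def n24407 : Q := act 7 n19267
theorem D24407 : act 7 n19267 = n24407 := rfl
theorem F109761 : act 0 n24407 = n19269 := d6_1 D24407 (iv D19269) (iv F87309)
def n24414 : Q := act 6 n19271
theorem D24414 : act 6 n19271 = n24414 := rfl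
theorem F109791 : act 0 n24414 = n20770 := d5_1 D24414 (iv D20770) (iv F87326)
theorem F109792 : act 2 n24414 = n19275 := d20_1 D24414 (iv D19275) (iv F87327)
theorem F109793 : act 5 n24414 = n20084 := d35_1 D24414 (iv D20084) F71855 (iv F68995) (iv F87328)
theorem F109794 : act 7 n24414 = n24414 := d39_2 D19271 D24414 (iv D24414) (iv D19271) F68991
def n24415 : Q := act 8 n19271
theorem D24415 : act 8 n19271 = n24415 := rfl
theorem F109795 : act 0 n24415 = n20771 := d7_1 D24415 (iv D20771) (iv F87326)
theorem F109796 : act 2 n24415 = n19276 := d22_1 D24415 (iv D19276) (iv F87327)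
theorem F109797 : act 5 n24415 = n19298 := d37_1 D24415 (iv D19298) F69087 (iv F68996) (iv F87328)
theorem F109798 : act 7 n24415 = n19272 := d42_1 D24415 (iv D19272) D19271
def n24416 : Q := act 9 n19272
theorem D24416 : act 9 n19272 = n24416 := rfl
theorem F109799 : act 0 n24416 = n20772 := d8_1 D24416 (iv D20772) (iv F87329)
theorem F109800 : act 2 n24416 = n19277 := d23_1 D24416 (iv D19277) (iv F87330)
theorem F109801 : act 5 n24416 = n19299 := d38_1 D24416 (iv D19299) (iv F87331)
theorem F109802 : act 6 n24416 = n24416 := d41_1 D24416 (iv D24416) F87332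
def n24417 : Q := act 6 n19273
theorem D24417 : act 6 n19273 = n24417 := rfl
theorem F109803 : act 0 n24417 = n20773 := d5_1 D24417 (iv D20773) (iv F87333)
theorem F109804 : act 1 n24417 = n24417 := d13_1 D24417 (iv D24417) F87334
theorem F109805 : act 3 n24417 = n24417 := d26_1 D24417 (iv D24417) F87335
theorem F109806 : act 4 n24417 = n19275 := d31_1 D24417 (iv D19275) (iv F87336)
theorem F109807 : act 5 n24417 = n24417 := d35_1 D24417 (iv D24417) F87337 F69199 (iv F87337)
theorem F109808 : act 7 n24417 = n24417 := d39_2 D19273 D24417 (iv D24417) (iv D19273) F69001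
def n24418 : Q := act 8 n19273
theorem D24418 : act 8 n19273 = n24418 := rfl
theorem F109809 : act 0 n24418 = n20774 := d7_1 D24418 (iv D20774) (iv F87333)
theorem F109810 : act 1 n24418 = n24418 := d15_1 D24418 (iv D24418) F87334
theorem F109811 : act 3 n24418 = n24418 := d28_1 D24418 (iv D24418) F87335
theorem F109812 : act 4 n24418 = n19276 := d33_1 D24418 (iv D19276) (iv F87336)
theorem F109813 : act 5 n24418 = n24418 := d37_1 D24418 (iv D24418) F87337 F69200 (iv F87337)
theorem F109814 : act 7 n24418 = n19274 := d42_1 D24418 (iv D19274) D19273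
def n24419 : Q := act 9 n19274
theorem D24419 : act 9 n19274 = n24419 := rfl
theorem F109815 : act 0 n24419 = n20775 := d8_1 D24419 (iv D20775) (iv F87338)
theorem F109816 : act 1 n24419 = n24419 := d16_1 D24419 (iv D24419) F87339
theorem F109817 : act 3 n24419 = n24419 := d29_1 D24419 (iv D24419) F87340
theorem F109818 : act 4 n24419 = n19277 := d34_1 D24419 (iv D19277) (iv F87341)
theorem F109819 : act 5 n24419 = n24419 := d38_1 D24419 (iv D24419) F87342
theorem F109820 : act 6 n24419 = n24419 := d41_1 D24419 (iv D24419) F87343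
def n24420 : Q := act 8 n19275
theorem D24420 : act 8 n19275 = n24420 := rfl
theorem F109821 : act 0 n24420 = n20776 := d7_1 D24420 (iv D20776) (iv F87344)
theorem F109822 : act 1 n24420 = n24420 := d15_1 D24420 (iv D24420) F87345
theorem F109823 : act 3 n24420 = n19278 := d28_1 D24420 (iv D19278) (iv F87346)
theorem F109824 : act 6 n24420 = n19276 := d40_1 D24420 (iv D19276) D19275
theorem F109825 : act 7 n24420 = n24420 := d42_1 D24420 (iv D24420) F87348
def n24421 : Q := act 9 n19276
theorem D24421 : act 9 n19276 = n24421 := rfl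
theorem F109826 : act 0 n24421 = n20777 := d8_1 D24421 (iv D20777) (iv F87349)
theorem F109827 : act 1 n24421 = n24421 := d16_1 D24421 (iv D24421) F87350
theorem F109828 : act 3 n24421 = n19279 := d29_1 D24421 (iv D19279) (iv F87351)
theorem F109829 : act 5 n24421 = n19301 := d38_1 D24421 (iv D19301) (iv F87352)
theorem F109830 : act 7 n24421 = n19277 := d43_1 D24421 (iv D19277) (iv F87353)
def n24422 : Q := act 5 n19278
theorem D24422 : act 5 n19278 = n24422 := rfl
theorem F109831 : act 0 n24422 = n20778 := d4_1 D24422 (iv D20778) (iv F87359)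
theorem F109832 : act 1 n24422 = n24422 := d12_1 D24422 (iv D24422) F87360
theorem F109833 : act 6 n24422 = n19302 := d35_2 (iv F87362) D24422 (iv D19302) F69110 (iv F69019)
theorem F109834 : act 7 n24422 = n24422 := d36_2 F87363 D24422 (iv D24422)
theorem F109835 : act 8 n24422 = n20089 := d37_2 D19278 D24422 (iv D20089) (iv D15722) (iv F69014)
def n24423 : Q := act 9 n19278
theorem D24423 : act 9 n19278 = n24423 := rfl
theorem F109836 : act 0 n24423 = n20779 := d8_1 D24423 (iv D20779) (iv F87359)
theorem F109837 : act 1 n24423 = n24423 := d16_1 D24423 (iv D24423) F87360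
theorem F109838 : act 4 n24423 = n24423 := d34_1 D24423 (iv D24423) F87361
theorem F109839 : act 6 n24423 = n19279 := d41_1 D24423 (iv D19279) (iv F87362)
theorem F109840 : act 7 n24423 = n24423 := d43_1 D24423 (iv D24423) F87363
def n24424 : Q := act 5 n19280
theorem D24424 : act 5 n19280 = n24424 := rfl
theorem F109844 : act 6 n24424 = n19706 := d35_2 D19280 D24424 (iv D19706) (iv D15420) (iv F69029)
def n24425 : Q := act 7 n19280
theorem D24425 : act 7 n19280 = n24425 := rfl
theorem F109849 : act 6 n24425 = n19294 := d39_1 D24425 (iv D19294) (iv D15102) (iv F69030) D19280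
theorem F109850 : act 8 n24425 = n20081 := d42_2 (iv F87373) D24425 (iv D20081)
def n24427 : Q := act 7 n19281
theorem D24427 : act 7 n19281 = n24427 := rfl
theorem F109857 : act 5 n24427 = n19282 := d36_1 D24427 (iv D19282) D19281
def n24432 : Q := act 6 n19284
theorem D24432 : act 6 n19284 = n24432 := rfl
theorem F109877 : act 5 n24432 = n19297 := d35_1 D24432 (iv D19297) F69087 (iv F69042) (iv F87388)
theorem F109878 : act 7 n24432 = n19714 := d39_2 D19284 D24432 (iv D19714) (iv D15424) (iv F69038)
def n24433 : Q := act 8 n19284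
theorem D24433 : act 8 n19284 = n24433 := rfl
theorem F109881 : act 5 n24433 = n20085 := d37_1 D24433 (iv D20085) F71855 (iv F69043) (iv F87388)
def n24440 : Q := act 5 n19291
theorem D24440 : act 5 n19291 = n24440 := rfl
theorem F109915 : act 0 n24440 = n20796 := d4_1 D24440 (iv D20796) (iv F87419)
theorem F109916 : act 1 n24440 = n24440 := d12_1 D24440 (iv D24440) F87420
theorem F109917 : act 6 n24440 = n20089 := d35_2 (iv F87422) D24440 (iv D20089) F71873 (iv F69066)
theorem F109918 : act 7 n24440 = n19723 := d36_2 (iv F87423) D24440 (iv D19723)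
theorem F109919 : act 8 n24440 = n19302 := d37_2 D19291 D24440 (iv D19302) (iv D15110) (iv F69061)
def n24441 : Q := act 9 n19291
theorem D24441 : act 9 n19291 = n24441 := rfl
theorem F109920 : act 0 n24441 = n20797 := d8_1 D24441 (iv D20797) (iv F87419)
theorem F109921 : act 1 n24441 = n24441 := d16_1 D24441 (iv D24441) F87420
theorem F109922 : act 4 n24441 = n24441 := d34_1 D24441 (iv D24441) F87421
theorem F109923 : act 6 n24441 = n19292 := d41_1 D24441 (iv D19292) (iv F87422)
theorem F109924 : act 7 n24441 = n19724 := d43_1 D24441 (iv D19724) (iv F87423)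
def n24442 : Q := act 7 n19293
theorem D24442 : act 7 n19293 = n24442 := rfl
theorem F109925 : act 0 n24442 = n19295 := d6_1 D24442 (iv D19295) (iv F87429)
theorem F109929 : act 5 n24442 = n19294 := d36_1 D24442 (iv D19294) D19293
def n24444 : Q := act 6 n19295
theorem D24444 : act 6 n19295 = n24444 := rfl
theorem F109935 : act 1 n24444 = n19297 := d13_1 D24444 (iv D19297) (iv F87438)
def n24445 : Q := act 8 n19295
theorem D24445 : act 8 n19295 = n24445 := rfl
theorem F109939 : act 1 n24445 = n19298 := d15_1 D24445 (iv D19298) (iv F87438)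
theorem F109940 : act 2 n24445 = n24445 := d22_1 D24445 (iv D24445) F87439
theorem F109941 : act 4 n24445 = n24445 := d33_1 D24445 (iv D24445) F87440
theorem F109942 : act 7 n24445 = n19296 := d42_1 D24445 (iv D19296) D19295
def n24446 : Q := act 9 n19296
theorem D24446 : act 9 n19296 = n24446 := rfl
theorem F109943 : act 1 n24446 = n19299 := d16_1 D24446 (iv D19299) (iv F87442)
theorem F109944 : act 2 n24446 = n24446 := d23_1 D24446 (iv D24446) F87443
theorem F109945 : act 4 n24446 = n24446 := d34_1 D24446 (iv D24446) F87444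
theorem F109946 : act 6 n24446 = n19729 := d41_1 D24446 (iv D19729) (iv F87445)
def n24447 : Q := act 8 n19297
theorem D24447 : act 8 n19297 = n24447 := rfl
theorem F109947 : act 0 n24447 = n20803 := d7_1 D24447 (iv D20803) (iv F87446)
theorem F109948 : act 2 n24447 = n19300 := d22_1 D24447 (iv D19300) (iv F87447)
theorem F109949 : act 4 n24447 = n24447 := d33_1 D24447 (iv D24447) F87448
theorem F109950 : act 6 n24447 = n19298 := d40_1 D24447 (iv D19298) D19297
theorem F109951 : act 7 n24447 = n19730 := d42_1 D24447 (iv D19730) (iv F87449)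
def n24448 : Q := act 9 n19298
theorem D24448 : act 9 n19298 = n24448 := rfl
theorem F109952 : act 0 n24448 = n20804 := d8_1 D24448 (iv D20804) (iv F87450)
theorem F109953 : act 2 n24448 = n19301 := d23_1 D24448 (iv D19301) (iv F87451)
theorem F109954 : act 4 n24448 = n24448 := d34_1 D24448 (iv D24448) F87452
theorem F109955 : act 7 n24448 = n19299 := d43_1 D24448 (iv D19299) (iv F87453)
def n24449 : Q := act 5 n19300
theorem D24449 : act 5 n19300 = n24449 := rfl
theorem F109956 : act 0 n24449 = n20805 := d4_1 D24449 (iv D20805) (iv F87458)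
theorem F109957 : act 1 n24449 = n24449 := d12_1 D24449 (iv D24449) F87459
theorem F109958 : act 3 n24449 = n19302 := d25_1 D24449 (iv D19302) (iv F87460)
theorem F109959 : act 7 n24449 = n19732 := d36_2 (iv F87463) D24449 (iv D19732)
def n24450 : Q := act 9 n19300
theorem D24450 : act 9 n19300 = n24450 := rfl
theorem F109960 : act 0 n24450 = n20806 := d8_1 D24450 (iv D20806) (iv F87458)
theorem F109961 : act 1 n24450 = n24450 := d16_1 D24450 (iv D24450) F87459
theorem F109962 : act 3 n24450 = n19303 := d29_1 D24450 (iv D19303) (iv F87460)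
theorem F109963 : act 4 n24450 = n24450 := d34_1 D24450 (iv D24450) F87461
theorem F109964 : act 6 n24450 = n19301 := d41_1 D24450 (iv D19301) (iv F87462)
theorem F109965 : act 7 n24450 = n19733 := d43_1 D24450 (iv D19733) (iv F87463)
def n24451 : Q := act 4 n19302
theorem D24451 : act 4 n19302 = n24451 := rfl
theorem F109966 : act 0 n24451 = n20807 := d3_1 D24451 (iv D20807) (iv F87469)
theorem F109969 : act 7 n24451 = n19734 := d32_2 (iv F87471) D24451 (iv D19734)
def n24452 : Q := act 9 n19302
theorem D24452 : act 9 n19302 = n24452 := rfl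
theorem F109970 : act 0 n24452 = n20808 := d8_1 D24452 (iv D20808) (iv F87469)
theorem F109971 : act 1 n24452 = n24452 := d16_1 D24452 (iv D24452) F87470
theorem F109972 : act 5 n24452 = n19303 := d38_1 D24452 (iv D19303) D19302
theorem F109973 : act 7 n24452 = n19735 := d43_1 D24452 (iv D19735) (iv F87471)
def n24457 : Q := act 7 n19306
theorem D24457 : act 7 n19306 = n24457 := rfl
theorem F110001 : act 6 n24457 = n20023 := d39_1 D24457 (iv D20023) (iv D15671) (iv F69131) D19306
theorem F110002 : act 9 n24457 = n19316 := d43_2 (iv F87492) D24457 (iv D19316)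
def n24463 : Q := act 8 n19309
theorem D24463 : act 8 n19309 = n24463 := rfl
theorem F110031 : act 6 n24463 = n19333 := d40_1 D24463 (iv D19333) (iv F87505)
theorem F110033 : act 5 n20288 = n24463 := d35_5 F110031 (iv F87640) (iv D15875) (iv F72413) D20288
def n24465 : Q := act 8 n19312
theorem D24465 : act 8 n19312 = n24465 := rfl
theorem F110040 : act 0 n24465 = n20818 := d7_1 D24465 (iv D20818) (iv F87518)
theorem F110041 : act 1 n24465 = n24465 := d15_1 D24465 (iv D24465) F87519
theorem F110042 : act 3 n24465 = n24465 := d28_1 D24465 (iv D24465) F87520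
theorem F110043 : act 4 n24465 = n19314 := d33_1 D24465 (iv D19314) (iv F87521)
theorem F110044 : act 6 n24465 = n24465 := d40_1 D24465 (iv D24465) F87522
theorem F110045 : act 7 n24465 = n19313 := d42_1 D24465 (iv D19313) D19312
theorem F110046 : act 9 n24465 = n24465 := d44_2 (iv F87523) D24465 (iv D24465) F87523 F69200
theorem F110047 : act 5 n21646 = n24465 := d36_3 F110045 (iv F87530) D21646
def n24476 : Q := act 3 n19327
theorem D24476 : act 3 n19327 = n24476 := rfl
theorem F110104 : act 4 n24476 = n20831 := d24_2 D19327 D24476 (iv D20831) (iv D16278) (iv F69239)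
def n24482 : Q := act 2 n19336
theorem D24482 : act 2 n19336 = n24482 := rfl
theorem F110139 : act 0 n24482 = n19371 := d1_1 D24482 (iv D19371) (iv F87652)
theorem F110140 : act 3 n24482 = n24482 := d17_2 D19336 D24482 (iv D24482) (iv D19336) F69303
theorem F110141 : act 4 n24482 = n20119 := d18_2 (iv F87654) D24482 (iv D20119)
theorem F110142 : act 5 n24482 = n19342 := d19_2 (iv F87655) D24482 (iv D19342)
theorem F110143 : act 7 n24482 = n19828 := d21_2 (iv F87656) D24482 (iv D19828)
theorem F110144 : act 9 n24482 = n24482 := d23_2 F87657 D24482 (iv D24482)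
def n24483 : Q := act 6 n19336
theorem D24483 : act 6 n19336 = n24483 := rfl
theorem F110145 : act 0 n24483 = n19372 := d5_1 D24483 (iv D19372) (iv F87652)
theorem F110146 : act 1 n24483 = n19848 := d13_1 D24483 (iv D19848) (iv F87653)
theorem F110147 : act 3 n24483 = n19337 := d26_1 D24483 (iv D19337) D19336
theorem F110148 : act 4 n24483 = n20120 := d31_1 D24483 (iv D20120) (iv F87654)
theorem F110149 : act 9 n24483 = n24483 := d41_2 F87657 D24483 (iv D24483)
def n24484 : Q := act 5 n19337
theorem D24484 : act 5 n19337 = n24484 := rfl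
theorem F110150 : act 0 n24484 = n19373 := d4_1 D24484 (iv D19373) (iv F87658)
theorem F110151 : act 1 n24484 = n19849 := d12_1 D24484 (iv D19849) (iv F87659)
theorem F110152 : act 2 n24484 = n24484 := d19_1 D24484 (iv D24484) F87660
theorem F110153 : act 4 n24484 = n24484 := d30_1 D24484 (iv D24484) F87661 F69311 (iv F87661)
theorem F110154 : act 6 n24484 = n19344 := d35_2 D19337 D24484 (iv D19344) (iv D15151) (iv F69304)
theorem F110155 : act 9 n24484 = n24484 := d38_2 F87662 D24484 (iv D24484)
def n24485 : Q := act 7 n19337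
theorem D24485 : act 7 n19337 = n24485 := rfl
theorem F110156 : act 0 n24485 = n19374 := d6_1 D24485 (iv D19374) (iv F87658)
theorem F110157 : act 1 n24485 = n19850 := d14_1 D24485 (iv D19850) (iv F87659)
theorem F110158 : act 2 n24485 = n24485 := d21_1 D24485 (iv D24485) F87660
theorem F110159 : act 4 n24485 = n19338 := d32_1 D24485 (iv D19338) (iv F87661)
theorem F110160 : act 6 n24485 = n19831 := d39_1 D24485 (iv D19831) (iv D15528) (iv F69305) D19337
theorem F110161 : act 9 n24485 = n24485 := d43_2 F87662 D24485 (iv D24485)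
def n24486 : Q := act 2 n19339
theorem D24486 : act 2 n19339 = n24486 := rfl
theorem F110162 : act 0 n24486 = n19378 := d1_1 D24486 (iv D19378) (iv F87670)
theorem F110163 : act 3 n24486 = n24486 := d17_2 D19339 D24486 (iv D24486) (iv D19339) F69315
theorem F110164 : act 4 n24486 = n24486 := d18_2 F87672 D24486 (iv D24486)
theorem F110165 : act 5 n24486 = n19828 := d19_2 (iv F87673) D24486 (iv D19828)
theorem F110166 : act 7 n24486 = n19342 := d21_2 (iv F87674) D24486 (iv D19342)
theorem F110167 : act 8 n24486 = n19346 := d22_2 (iv F87675) D24486 (iv D19346)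
theorem F110168 : act 9 n24486 = n24486 := d23_2 F87676 D24486 (iv D24486)
def n24487 : Q := act 6 n19339
theorem D24487 : act 6 n19339 = n24487 := rfl
theorem F110169 : act 0 n24487 = n19379 := d5_1 D24487 (iv D19379) (iv F87670)
theorem F110171 : act 3 n24487 = n19340 := d26_1 D24487 (iv D19340) D19339
theorem F110172 : act 4 n24487 = n24487 := d31_1 D24487 (iv D24487) F87672
theorem F110173 : act 8 n24487 = n19347 := d40_2 (iv F87675) D24487 (iv D19347)
theorem F110174 : act 9 n24487 = n24487 := d41_2 F87676 D24487 (iv D24487)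
def n24488 : Q := act 5 n19340
theorem D24488 : act 5 n19340 = n24488 := rfl
theorem F110175 : act 0 n24488 = n19380 := d4_1 D24488 (iv D19380) (iv F87677)
theorem F110176 : act 1 n24488 = n19798 := d12_1 D24488 (iv D19798) (iv F87678)
theorem F110177 : act 2 n24488 = n24488 := d19_1 D24488 (iv D24488) F87679
theorem F110178 : act 4 n24488 = n19794 := d30_1 D24488 (iv D19794) F70989 (iv F69324) (iv F87680)
theorem F110179 : act 6 n24488 = n19830 := d35_2 D19340 D24488 (iv D19830) (iv D15528) (iv F69316)
theorem F110180 : act 9 n24488 = n24488 := d38_2 F87682 D24488 (iv D24488)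
def n24489 : Q := act 7 n19340
theorem D24489 : act 7 n19340 = n24489 := rfl
theorem F110181 : act 0 n24489 = n19381 := d6_1 D24489 (iv D19381) (iv F87677)
def n24490 : Q := act 1 n19342
theorem D24490 : act 1 n19342 = n24490 := rfl
theorem F110188 : act 2 n24490 = n20832 := d9_2 D19342 D24490 (iv D20832) (iv D16280) (iv F69328)
theorem F110189 : act 3 n24490 = n24490 := d10_2 F87692 D24490 (iv D24490)
theorem F110190 : act 4 n24490 = n24490 := d11_2 F87693 D24490 (iv D24490)
theorem F110191 : act 8 n24490 = n19350 := d15_2 (iv F87694) D24490 (iv D19350)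
theorem F110192 : act 9 n24490 = n24490 := d16_2 F87695 D24490 (iv D24490)
def n24491 : Q := act 6 n19342
theorem D24491 : act 6 n19342 = n24491 := rfl
theorem F110193 : act 0 n24491 = n19383 := d5_1 D24491 (iv D19383) (iv F87691)
theorem F110194 : act 2 n24491 = n19343 := d20_1 D24491 (iv D19343) D19342
theorem F110195 : act 3 n24491 = n24491 := d26_1 D24491 (iv D24491) F87692
theorem F110196 : act 4 n24491 = n24491 := d31_1 D24491 (iv D24491) F87693
theorem F110197 : act 8 n24491 = n19351 := d40_2 (iv F87694) D24491 (iv D19351)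
theorem F110198 : act 9 n24491 = n24491 := d41_2 F87695 D24491 (iv D24491)
def n24492 : Q := act 5 n19343
theorem D24492 : act 5 n19343 = n24492 := rfl
theorem F110199 : act 0 n24492 = n19384 := d4_1 D24492 (iv D19384) (iv F87696)
theorem F110200 : act 1 n24492 = n20834 := d12_1 D24492 (iv D20834) (iv F87697)
theorem F110201 : act 3 n24492 = n19344 := d25_1 D24492 (iv D19344) (iv F87698)
theorem F110202 : act 9 n24492 = n24492 := d38_2 F87701 D24492 (iv D24492)
def n24493 : Q := act 7 n19343
theorem D24493 : act 7 n19343 = n24493 := rfl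
theorem F110203 : act 0 n24493 = n19385 := d6_1 D24493 (iv D19385) (iv F87696)
theorem F110207 : act 8 n24493 = n19353 := d42_2 (iv F87700) D24493 (iv D19353)
def n24494 : Q := act 7 n19344
theorem D24494 : act 7 n19344 = n24494 := rfl
theorem F110209 : act 0 n24494 = n19386 := d6_1 D24494 (iv D19386) (iv F87702)
theorem F110213 : act 5 n24494 = n19345 := d36_1 D24494 (iv D19345) D19344
def n24495 : Q := act 8 n19344
theorem D24495 : act 8 n19344 = n24495 := rfl
theorem F110215 : act 0 n24495 = n19387 := d7_1 D24495 (iv D19387) (iv F87702)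
theorem F110219 : act 5 n24495 = n19355 := d37_1 D24495 (iv D19355) (iv D15158) (iv F69336) D19344
def n24496 : Q := act 1 n19346
theorem D24496 : act 1 n19346 = n24496 := rfl
theorem F110220 : act 2 n24496 = n20838 := d9_2 D19346 D24496 (iv D20838) (iv D16284) (iv F69346)
theorem F110221 : act 3 n24496 = n24496 := d10_2 F87714 D24496 (iv D24496)
theorem F110222 : act 4 n24496 = n24496 := d11_2 F87715 D24496 (iv D24496)
theorem F110223 : act 7 n24496 = n19350 := d14_2 (iv F87716) D24496 (iv D19350)
theorem F110224 : act 9 n24496 = n19608 := d16_2 (iv F87717) D24496 (iv D19608)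
def n24497 : Q := act 6 n19346
theorem D24497 : act 6 n19346 = n24497 := rfl
theorem F110225 : act 0 n24497 = n19389 := d5_1 D24497 (iv D19389) (iv F87713)
theorem F110226 : act 2 n24497 = n19347 := d20_1 D24497 (iv D19347) D19346
theorem F110227 : act 3 n24497 = n24497 := d26_1 D24497 (iv D24497) F87714
theorem F110228 : act 4 n24497 = n24497 := d31_1 D24497 (iv D24497) F87715
theorem F110229 : act 9 n24497 = n19609 := d41_2 (iv F87717) D24497 (iv D19609)
def n24498 : Q := act 5 n19347
theorem D24498 : act 5 n19347 = n24498 := rfl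
theorem F110230 : act 0 n24498 = n19390 := d4_1 D24498 (iv D19390) (iv F87718)
theorem F110232 : act 3 n24498 = n19348 := d25_1 D24498 (iv D19348) (iv F87720)
theorem F110233 : act 9 n24498 = n19610 := d38_2 (iv F87722) D24498 (iv D19610)
def n24499 : Q := act 7 n19347
theorem D24499 : act 7 n19347 = n24499 := rfl
theorem F110234 : act 0 n24499 = n19391 := d6_1 D24499 (iv D19391) (iv F87718)
theorem F110235 : act 1 n24499 = n20841 := d14_1 D24499 (iv D20841) (iv F87719)
def n24500 : Q := act 7 n19348
theorem D24500 : act 7 n19348 = n24500 := rfl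
theorem F110240 : act 0 n24500 = n19392 := d6_1 D24500 (iv D19392) (iv F87723)
theorem F110241 : act 1 n24500 = n20842 := d14_1 D24500 (iv D20842) (iv F87724)
def n24501 : Q := act 8 n19348
theorem D24501 : act 8 n19348 = n24501 := rfl
theorem F110246 : act 0 n24501 = n19393 := d7_1 D24501 (iv D19393) (iv F87723)
theorem F110248 : act 2 n24501 = n24501 := d22_1 D24501 (iv D24501) F87725
theorem F110249 : act 4 n24501 = n24501 := d33_1 D24501 (iv D24501) F87726
def n24502 : Q := act 0 n19350
theorem D24502 : act 0 n19350 = n24502 := rfl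
theorem F110250 : act 1 n24502 = n19394 := d0_2 D19350 D24502 (iv D19394) (iv D15186) (iv F69362)
theorem F110251 : act 2 n24502 = n20844 := d1_2 (iv F87734) D24502 (iv D20844)
def n24503 : Q := act 6 n19350
theorem D24503 : act 6 n19350 = n24503 := rfl
theorem F110255 : act 1 n24503 = n19351 := d13_1 D24503 (iv D19351) D19350
def n24504 : Q := act 5 n19351
theorem D24504 : act 5 n19351 = n24504 := rfl
theorem F110261 : act 0 n24504 = n19396 := d4_1 D24504 (iv D19396) (iv F87738)
theorem F110265 : act 9 n24504 = n19616 := d38_2 (iv F87742) D24504 (iv D19616)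
theorem F110266 : act 4 n21220 = n24504 := d34_3 F110265 F88995 D21220
def n24505 : Q := act 7 n19351
theorem D24505 : act 7 n19351 = n24505 := rfl
def n24506 : Q := act 4 n19352
theorem D24506 : act 4 n19352 = n24506 := rfl
theorem F110272 : act 0 n24506 = n19398 := d3_1 D24506 (iv D19398) (iv F87743)
theorem F110273 : act 1 n24506 = n20848 := d11_1 D24506 (iv D20848) (iv F87744)
theorem F110277 : act 9 n24506 = n19618 := d34_2 (iv F87746) D24506 (iv D19618)
def n24507 : Q := act 7 n19352
theorem D24507 : act 7 n19352 = n24507 := rfl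
theorem F110278 : act 0 n24507 = n19399 := d6_1 D24507 (iv D19399) (iv F87743)
theorem F110282 : act 9 n24507 = n19619 := d43_2 (iv F87746) D24507 (iv D19619)
def n24508 : Q := act 8 n19352
theorem D24508 : act 8 n19352 = n24508 := rfl
theorem F110283 : act 0 n24508 = n19400 := d7_1 D24508 (iv D19400) (iv F87743)
def n24509 : Q := act 6 n19354
theorem D24509 : act 6 n19354 = n24509 := rfl
theorem F110286 : act 0 n24509 = n19401 := d5_1 D24509 (iv D19401) (iv F87752)
def n24510 : Q := act 8 n19354
theorem D24510 : act 8 n19354 = n24510 := rfl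
theorem F110291 : act 0 n24510 = n19402 := d7_1 D24510 (iv D19402) (iv F87752)
def n24511 : Q := act 9 n19355
theorem D24511 : act 9 n19355 = n24511 := rfl
theorem F110296 : act 0 n24511 = n19403 := d8_1 D24511 (iv D19403) (iv F87758)
theorem F110300 : act 8 n24511 = n19623 := d44_1 D24511 (iv D19623) (iv D15353) (iv F69375) D19355
def n24513 : Q := act 7 n19357
theorem D24513 : act 7 n19357 = n24513 := rfl
theorem F110312 : act 2 n24513 = n19360 := d21_1 D24513 (iv D19360) (iv F87772)
theorem F110316 : act 9 n24513 = n19625 := d43_2 (iv F87774) D24513 (iv D19625)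
def n24516 : Q := act 8 n19359
theorem D24516 : act 8 n19359 = n24516 := rfl
theorem F110330 : act 0 n24516 = n19408 := d7_1 D24516 (iv D19408) (iv F87783)
theorem F110331 : act 1 n24516 = n20860 := d15_1 D24516 (iv D20860) (iv F87784)
theorem F110334 : act 9 n24516 = n22454 := d44_2 (iv F87787) D24516 (iv D22454) F79047 F70328
def n24519 : Q := act 9 n19361
theorem D24519 : act 9 n19361 = n24519 := rfl
theorem F110346 : act 1 n24519 = n20863 := d16_1 D24519 (iv D20863) (iv F87794)
theorem F110351 : act 8 n24519 = n19629 := d44_1 D24519 (iv D19629) (iv D15359) (iv F69397) D19361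
def n24522 : Q := act 2 n19365
theorem D24522 : act 2 n19365 = n24522 := rfl
theorem F110362 : act 0 n24522 = n20119 := d1_1 D24522 (iv D20119) (iv F87812)
theorem F110363 : act 3 n24522 = n21417 := d17_2 D19365 D24522 (iv D21417) (iv D16743) (iv F69416)
theorem F110364 : act 4 n24522 = n19371 := d18_2 (iv F87814) D24522 (iv D19371)
theorem F110365 : act 5 n24522 = n24522 := d19_2 F87815 D24522 (iv D24522)
theorem F110366 : act 7 n24522 = n20096 := d21_2 (iv F87816) D24522 (iv D20096)
theorem F110367 : act 9 n24522 = n24522 := d23_2 F87817 D24522 (iv D24522)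
def n24523 : Q := act 6 n19365
theorem D24523 : act 6 n19365 = n24523 := rfl
theorem F110368 : act 0 n24523 = n20120 := d5_1 D24523 (iv D20120) (iv F87812)
theorem F110369 : act 1 n24523 = n19415 := d13_1 D24523 (iv D19415) (iv F87813)
theorem F110370 : act 3 n24523 = n19366 := d26_1 D24523 (iv D19366) D19365
theorem F110371 : act 4 n24523 = n19372 := d31_1 D24523 (iv D19372) (iv F87814)
theorem F110372 : act 9 n24523 = n24523 := d41_2 F87817 D24523 (iv D24523)
def n24524 : Q := act 5 n19366
theorem D24524 : act 5 n19366 = n24524 := rfl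
theorem F110373 : act 0 n24524 = n20121 := d4_1 D24524 (iv D20121) (iv F87818)
theorem F110374 : act 1 n24524 = n19416 := d12_1 D24524 (iv D19416) (iv F87819)
theorem F110375 : act 2 n24524 = n21419 := d19_1 D24524 (iv D21419) (iv F87820)
theorem F110376 : act 4 n24524 = n24524 := d30_1 D24524 (iv D24524) F87821 F69424 (iv F87821)
theorem F110377 : act 6 n24524 = n24524 := d35_2 D19366 D24524 (iv D24524) (iv D19366) F69417
theorem F110378 : act 9 n24524 = n24524 := d38_2 F87822 D24524 (iv D24524)
def n24525 : Q := act 7 n19366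
theorem D24525 : act 7 n19366 = n24525 := rfl
theorem F110379 : act 0 n24525 = n20122 := d6_1 D24525 (iv D20122) (iv F87818)
theorem F110380 : act 1 n24525 = n19417 := d14_1 D24525 (iv D19417) (iv F87819)
theorem F110381 : act 2 n24525 = n21420 := d21_1 D24525 (iv D21420) (iv F87820)
theorem F110382 : act 4 n24525 = n19367 := d32_1 D24525 (iv D19367) (iv F87821)
theorem F110383 : act 6 n24525 = n20099 := d39_1 D24525 (iv D20099) (iv D15730) (iv F69418) D19366
theorem F110384 : act 9 n24525 = n24525 := d43_2 F87822 D24525 (iv D24525)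
def n24526 : Q := act 2 n19368
theorem D24526 : act 2 n19368 = n24526 := rfl
theorem F110385 : act 0 n24526 = n19828 := d1_1 D24526 (iv D19828) (iv F87830)
theorem F110386 : act 3 n24526 = n24526 := d17_2 D19368 D24526 (iv D24526) (iv D19368) F69428
theorem F110387 : act 4 n24526 = n20096 := d18_2 (iv F87832) D24526 (iv D20096)
theorem F110388 : act 5 n24526 = n19378 := d19_2 (iv F87833) D24526 (iv D19378)
theorem F110389 : act 7 n24526 = n19371 := d21_2 (iv F87834) D24526 (iv D19371)
theorem F110390 : act 9 n24526 = n24526 := d23_2 F87835 D24526 (iv D24526)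
def n24527 : Q := act 6 n19368
theorem D24527 : act 6 n19368 = n24527 := rfl
theorem F110391 : act 0 n24527 = n19829 := d5_1 D24527 (iv D19829) (iv F87830)
theorem F110392 : act 1 n24527 = n19419 := d13_1 D24527 (iv D19419) (iv F87831)
theorem F110393 : act 3 n24527 = n19369 := d26_1 D24527 (iv D19369) D19368
theorem F110394 : act 4 n24527 = n20097 := d31_1 D24527 (iv D20097) (iv F87832)
theorem F110395 : act 9 n24527 = n24527 := d41_2 F87835 D24527 (iv D24527)
def n24528 : Q := act 5 n19369
theorem D24528 : act 5 n19369 = n24528 := rfl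
theorem F110396 : act 0 n24528 = n19830 := d4_1 D24528 (iv D19830) (iv F87836)
theorem F110397 : act 1 n24528 = n19420 := d12_1 D24528 (iv D19420) (iv F87837)
theorem F110398 : act 2 n24528 = n24528 := d19_1 D24528 (iv D24528) F87838
theorem F110399 : act 4 n24528 = n19823 := d30_1 D24528 (iv D19823) F71119 (iv F69436) (iv F87839)
theorem F110400 : act 6 n24528 = n19380 := d35_2 D19369 D24528 (iv D19380) (iv D15176) (iv F69429)
theorem F110401 : act 9 n24528 = n24528 := d38_2 F87840 D24528 (iv D24528)
def n24529 : Q := act 7 n19369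
theorem D24529 : act 7 n19369 = n24529 := rfl
theorem F110402 : act 0 n24529 = n19831 := d6_1 D24529 (iv D19831) (iv F87836)
theorem F110403 : act 1 n24529 = n19421 := d14_1 D24529 (iv D19421) (iv F87837)
theorem F110404 : act 2 n24529 = n24529 := d21_1 D24529 (iv D24529) F87838
theorem F110405 : act 4 n24529 = n19370 := d32_1 D24529 (iv D19370) (iv F87839)
theorem F110406 : act 6 n24529 = n19374 := d39_1 D24529 (iv D19374) (iv D15171) (iv F69430) D19369
theorem F110407 : act 9 n24529 = n24529 := d43_2 F87840 D24529 (iv D24529)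
def n24530 : Q := act 1 n19371
theorem D24530 : act 1 n19371 = n24530 := rfl
theorem F110408 : act 2 n24530 = n19422 := d9_2 D19371 D24530 (iv D19422) (iv D15206) (iv F69438)
theorem F110409 : act 3 n24530 = n24530 := d10_2 F87848 D24530 (iv D24530)
theorem F110410 : act 5 n24530 = n19382 := d12_2 (iv F87849) D24530 (iv D19382)
theorem F110411 : act 9 n24530 = n24530 := d16_2 F87850 D24530 (iv D24530)
def n24531 : Q := act 6 n19371
theorem D24531 : act 6 n19371 = n24531 := rfl
theorem F110412 : act 2 n24531 = n19372 := d20_1 D24531 (iv D19372) D19371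
theorem F110413 : act 3 n24531 = n24531 := d26_1 D24531 (iv D24531) F87848
theorem F110414 : act 9 n24531 = n24531 := d41_2 F87850 D24531 (iv D24531)
def n24532 : Q := act 5 n19372
theorem D24532 : act 5 n19372 = n24532 := rfl
theorem F110415 : act 1 n24532 = n19424 := d12_1 D24532 (iv D19424) (iv F87851)
theorem F110416 : act 3 n24532 = n19373 := d25_1 D24532 (iv D19373) (iv F87852)
theorem F110417 : act 6 n24532 = n19384 := d35_2 D19372 D24532 (iv D19384) (iv D15179) (iv F69439)
theorem F110418 : act 9 n24532 = n24532 := d38_2 F87853 D24532 (iv D24532)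
def n24533 : Q := act 7 n19372
theorem D24533 : act 7 n19372 = n24533 := rfl
theorem F110419 : act 1 n24533 = n19425 := d14_1 D24533 (iv D19425) (iv F87851)
theorem F110420 : act 3 n24533 = n19374 := d27_1 D24533 (iv D19374) (iv F87852)
theorem F110421 : act 9 n24533 = n24533 := d43_2 F87853 D24533 (iv D24533)
def n24534 : Q := act 7 n19373
theorem D24534 : act 7 n19373 = n24534 := rfl
theorem F110422 : act 1 n24534 = n19426 := d14_1 D24534 (iv D19426) (iv F87854)
theorem F110423 : act 2 n24534 = n24534 := d21_1 D24534 (iv D24534) F87855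
theorem F110424 : act 4 n24534 = n24534 := d32_1 D24534 (iv D24534) F87856
theorem F110425 : act 5 n24534 = n19374 := d36_1 D24534 (iv D19374) D19373
theorem F110426 : act 9 n24534 = n24534 := d43_2 F87858 D24534 (iv D24534)
def n24535 : Q := act 8 n19373
theorem D24535 : act 8 n19373 = n24535 := rfl
theorem F110427 : act 1 n24535 = n19427 := d15_1 D24535 (iv D19427) (iv F87854)
theorem F110428 : act 2 n24535 = n24535 := d22_1 D24535 (iv D24535) F87855
theorem F110429 : act 4 n24535 = n24535 := d33_1 D24535 (iv D24535) F87856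
theorem F110430 : act 6 n24535 = n19387 := d40_1 D24535 (iv D19387) (iv F87857)
def n24538 : Q := act 5 n19376
theorem D24538 : act 5 n19376 = n24538 := rfl
theorem F110444 : act 0 n24538 = n19794 := d4_1 D24538 (iv D19794) (iv F87870)
theorem F110447 : act 4 n24538 = n19380 := d30_1 D24538 (iv D19380) F69470 (iv F69460) (iv F87873)
def n24540 : Q := act 1 n19378
theorem D24540 : act 1 n19378 = n24540 := rfl
theorem F110460 : act 7 n24540 = n19382 := d14_2 (iv F87886) D24540 (iv D19382)
theorem F110461 : act 8 n24540 = n19388 := d15_2 (iv F87887) D24540 (iv D19388)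
def n24541 : Q := act 6 n19378
theorem D24541 : act 6 n19378 = n24541 := rfl
theorem F110463 : act 2 n24541 = n19379 := d20_1 D24541 (iv D19379) D19378
def n24542 : Q := act 5 n19379
theorem D24542 : act 5 n19379 = n24542 := rfl
theorem F110468 : act 1 n24542 = n19434 := d12_1 D24542 (iv D19434) (iv F87889)
theorem F110469 : act 3 n24542 = n19380 := d25_1 D24542 (iv D19380) (iv F87890)
theorem F110470 : act 9 n24542 = n24542 := d38_2 F87893 D24542 (iv D24542)
def n24543 : Q := act 7 n19379
theorem D24543 : act 7 n19379 = n24543 := rfl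
theorem F110471 : act 1 n24543 = n19435 := d14_1 D24543 (iv D19435) (iv F87889)
theorem F110472 : act 3 n24543 = n19381 := d27_1 D24543 (iv D19381) (iv F87890)
theorem F110473 : act 4 n24543 = n24543 := d32_1 D24543 (iv D24543) F87891
theorem F110474 : act 6 n24543 = n19385 := d39_1 D24543 (iv D19385) (iv D15179) (iv F69465) D19379
theorem F110475 : act 8 n24543 = n19391 := d42_2 (iv F87892) D24543 (iv D19391)
theorem F110476 : act 9 n24543 = n24543 := d43_2 F87893 D24543 (iv D24543)
def n24544 : Q := act 7 n19380
theorem D24544 : act 7 n19380 = n24544 := rfl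
theorem F110479 : act 5 n24544 = n19381 := d36_1 D24544 (iv D19381) D19380
def n24545 : Q := act 8 n19380
theorem D24545 : act 8 n19380 = n24545 := rfl
theorem F110481 : act 1 n24545 = n19437 := d15_1 D24545 (iv D19437) (iv F87894)
theorem F110482 : act 2 n24545 = n24545 := d22_1 D24545 (iv D24545) F87895
theorem F110483 : act 5 n24545 = n19393 := d37_1 D24545 (iv D19393) (iv D15184) (iv F69471) D19380
def n24546 : Q := act 0 n19382
theorem D24546 : act 0 n19382 = n24546 := rfl
theorem F110485 : act 3 n24546 = n24546 := d2_2 F87904 D24546 (iv D24546)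
theorem F110486 : act 4 n24546 = n24546 := d3_2 F87905 D24546 (iv D24546)
theorem F110487 : act 8 n24546 = n19394 := d7_2 (iv F87906) D24546 (iv D19394)
theorem F110488 : act 9 n24546 = n24546 := d8_2 F87907 D24546 (iv D24546)
def n24547 : Q := act 6 n19382
theorem D24547 : act 6 n19382 = n24547 := rfl
theorem F110489 : act 1 n24547 = n19383 := d13_1 D24547 (iv D19383) D19382
theorem F110490 : act 2 n24547 = n19439 := d20_1 D24547 (iv D19439) (iv F87903)
theorem F110491 : act 3 n24547 = n24547 := d26_1 D24547 (iv D24547) F87904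
theorem F110492 : act 4 n24547 = n24547 := d31_1 D24547 (iv D24547) F87905
theorem F110493 : act 8 n24547 = n19395 := d40_2 (iv F87906) D24547 (iv D19395)
theorem F110494 : act 9 n24547 = n24547 := d41_2 F87907 D24547 (iv D24547)
def n24548 : Q := act 5 n19383
theorem D24548 : act 5 n19383 = n24548 := rfl
theorem F110495 : act 2 n24548 = n19384 := d19_1 D24548 (iv D19384) (iv F87908)
theorem F110496 : act 3 n24548 = n24548 := d25_1 D24548 (iv D24548) F87909
theorem F110497 : act 9 n24548 = n24548 := d38_2 F87912 D24548 (iv D24548)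
def n24549 : Q := act 7 n19383
theorem D24549 : act 7 n19383 = n24549 := rfl
theorem F110498 : act 2 n24549 = n19385 := d21_1 D24549 (iv D19385) (iv F87908)
theorem F110501 : act 8 n24549 = n19397 := d42_2 (iv F87911) D24549 (iv D19397)
def n24550 : Q := act 4 n19384
theorem D24550 : act 4 n19384 = n24550 := rfl
theorem F110503 : act 1 n24550 = n19442 := d11_1 D24550 (iv D19442) (iv F87913)
theorem F110504 : act 3 n24550 = n24550 := d24_1 D24550 (iv D24550) F87914 F69490 (iv F87914)
theorem F110505 : act 5 n24550 = n24550 := d30_2 D19384 D24550 (iv D24550) (iv D19384) F69485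
theorem F110506 : act 9 n24550 = n24550 := d34_2 F87915 D24550 (iv D24550)
def n24551 : Q := act 7 n19384
theorem D24551 : act 7 n19384 = n24551 := rfl
theorem F110507 : act 1 n24551 = n19443 := d14_1 D24551 (iv D19443) (iv F87913)
theorem F110508 : act 3 n24551 = n19386 := d27_1 D24551 (iv D19386) (iv F87914)
theorem F110509 : act 5 n24551 = n19385 := d36_1 D24551 (iv D19385) D19384
theorem F110510 : act 9 n24551 = n24551 := d43_2 F87915 D24551 (iv D24551)
def n24552 : Q := act 8 n19384
theorem D24552 : act 8 n19384 = n24552 := rfl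
theorem F110511 : act 1 n24552 = n19444 := d15_1 D24552 (iv D19444) (iv F87913)
theorem F110512 : act 3 n24552 = n19387 := d28_1 D24552 (iv D19387) (iv F87914)
theorem F110513 : act 5 n24552 = n19400 := d37_1 D24552 (iv D19400) (iv D15188) (iv F69486) D19384
def n24553 : Q := act 6 n19386
theorem D24553 : act 6 n19386 = n24553 := rfl
theorem F110514 : act 1 n24553 = n19445 := d13_1 D24553 (iv D19445) (iv F87921)
theorem F110515 : act 2 n24553 = n24553 := d20_1 D24553 (iv D24553) F87922
theorem F110516 : act 4 n24553 = n24553 := d31_1 D24553 (iv D24553) F87923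
theorem F110517 : act 9 n24553 = n24553 := d41_2 F87925 D24553 (iv D24553)
def n24554 : Q := act 8 n19386
theorem D24554 : act 8 n19386 = n24554 := rfl
theorem F110521 : act 5 n24554 = n19402 := d37_1 D24554 (iv D19402) F69532 (iv F69495) (iv F87924)
theorem F110522 : act 7 n24554 = n19387 := d42_1 D24554 (iv D19387) D19386
def n24555 : Q := act 9 n19387
theorem D24555 : act 9 n19387 = n24555 := rfl
theorem F110523 : act 1 n24555 = n19447 := d16_1 D24555 (iv D19447) (iv F87926)
theorem F110524 : act 2 n24555 = n24555 := d23_1 D24555 (iv D24555) F87927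
theorem F110525 : act 4 n24555 = n24555 := d34_1 D24555 (iv D24555) F87928
theorem F110526 : act 5 n24555 = n19403 := d38_1 D24555 (iv D19403) (iv F87929)
theorem F110527 : act 8 n24555 = n24555 := d44_1 D24555 (iv D24555) (iv D19387) F69491 D19387
def n24556 : Q := act 0 n19388
theorem D24556 : act 0 n19388 = n24556 := rfl
theorem F110528 : act 2 n24556 = n19448 := d1_2 (iv F87930) D24556 (iv D19448)
theorem F110531 : act 7 n24556 = n19394 := d6_2 (iv F87933) D24556 (iv D19394)
def n24557 : Q := act 6 n19388
theorem D24557 : act 6 n19388 = n24557 := rfl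
theorem F110533 : act 1 n24557 = n19389 := d13_1 D24557 (iv D19389) D19388
theorem F110534 : act 2 n24557 = n19449 := d20_1 D24557 (iv D19449) (iv F87930)
def n24558 : Q := act 5 n19389
theorem D24558 : act 5 n19389 = n24558 := rfl
theorem F110538 : act 2 n24558 = n19390 := d19_1 D24558 (iv D19390) (iv F87935)
def n24559 : Q := act 7 n19389
theorem D24559 : act 7 n19389 = n24559 := rfl
theorem F110541 : act 2 n24559 = n19391 := d21_1 D24559 (iv D19391) (iv F87935)
def n24560 : Q := act 4 n19390
theorem D24560 : act 4 n19390 = n24560 := rfl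
theorem F110546 : act 1 n24560 = n19452 := d11_1 D24560 (iv D19452) (iv F87939)
theorem F110547 : act 3 n24560 = n24560 := d24_1 D24560 (iv D24560) F87940 F69507 (iv F87940)
theorem F110548 : act 5 n24560 = n24560 := d30_2 D19390 D24560 (iv D24560) (iv D19390) F69503
theorem F110549 : act 9 n24560 = n19636 := d34_2 (iv F87941) D24560 (iv D19636)
def n24561 : Q := act 7 n19390
theorem D24561 : act 7 n19390 = n24561 := rfl
theorem F110550 : act 1 n24561 = n19453 := d14_1 D24561 (iv D19453) (iv F87939)
theorem F110551 : act 3 n24561 = n19392 := d27_1 D24561 (iv D19392) (iv F87940)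
theorem F110552 : act 5 n24561 = n19391 := d36_1 D24561 (iv D19391) D19390
theorem F110553 : act 9 n24561 = n19637 := d43_2 (iv F87941) D24561 (iv D19637)
def n24562 : Q := act 8 n19390
theorem D24562 : act 8 n19390 = n24562 := rfl
theorem F110554 : act 1 n24562 = n19454 := d15_1 D24562 (iv D19454) (iv F87939)
theorem F110555 : act 3 n24562 = n19393 := d28_1 D24562 (iv D19393) (iv F87940)
def n24563 : Q := act 6 n19392
theorem D24563 : act 6 n19392 = n24563 := rfl
theorem F110556 : act 1 n24563 = n19455 := d13_1 D24563 (iv D19455) (iv F87947)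
theorem F110559 : act 5 n24563 = n19401 := d35_1 D24563 (iv D19401) F69532 (iv F69512) (iv F87950)
def n24564 : Q := act 8 n19392
theorem D24564 : act 8 n19392 = n24564 := rfl
theorem F110561 : act 1 n24564 = n19456 := d15_1 D24564 (iv D19456) (iv F87947)
theorem F110562 : act 2 n24564 = n24564 := d22_1 D24564 (iv D24564) F87948
theorem F110563 : act 4 n24564 = n24564 := d33_1 D24564 (iv D24564) F87949
theorem F110564 : act 7 n24564 = n19393 := d42_1 D24564 (iv D19393) D19392
def n24565 : Q := act 9 n19393
theorem D24565 : act 9 n19393 = n24565 := rfl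
theorem F110565 : act 1 n24565 = n19457 := d16_1 D24565 (iv D19457) (iv F87952)
theorem F110566 : act 2 n24565 = n24565 := d23_1 D24565 (iv D24565) F87953
theorem F110567 : act 4 n24565 = n24565 := d34_1 D24565 (iv D24565) F87954
theorem F110568 : act 8 n24565 = n19641 := d44_1 D24565 (iv D19641) (iv D15368) (iv F69508) D19393
def n24566 : Q := act 6 n19394
theorem D24566 : act 6 n19394 = n24566 := rfl
theorem F110569 : act 0 n24566 = n19395 := d5_1 D24566 (iv D19395) D19394
theorem F110570 : act 2 n24566 = n19458 := d20_1 D24566 (iv D19458) (iv F87955)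
def n24567 : Q := act 5 n19395
theorem D24567 : act 5 n19395 = n24567 := rfl
theorem F110574 : act 1 n24567 = n19396 := d12_1 D24567 (iv D19396) (iv F87959)
theorem F110575 : act 2 n24567 = n19459 := d19_1 D24567 (iv D19459) (iv F87960)
theorem F110576 : act 3 n24567 = n24567 := d25_1 D24567 (iv D24567) F87961
theorem F110577 : act 9 n24567 = n19643 := d38_2 (iv F87963) D24567 (iv D19643)
def n24568 : Q := act 7 n19395
theorem D24568 : act 7 n19395 = n24568 := rfl
theorem F110579 : act 2 n24568 = n19460 := d21_1 D24568 (iv D19460) (iv F87960)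
def n24569 : Q := act 4 n19396
theorem D24569 : act 4 n19396 = n24569 := rfl
theorem F110583 : act 0 n24569 = n21220 := d3_1 D24569 F110266 F110261
theorem F110584 : act 2 n24569 = n19398 := d18_1 D24569 (iv D19398) (iv F87964)
theorem F110585 : act 5 n24569 = n24569 := d30_2 D19396 D24569 (iv D24569) (iv D19396) F69520
theorem F110586 : act 9 n24569 = n19645 := d34_2 (iv F87966) D24569 (iv D19645)
def n24570 : Q := act 7 n19396
theorem D24570 : act 7 n19396 = n24570 := rfl
theorem F110591 : act 9 n24570 = n19646 := d43_2 (iv F87966) D24570 (iv D19646)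
def n24571 : Q := act 8 n19396
theorem D24571 : act 8 n19396 = n24571 := rfl
theorem F110592 : act 2 n24571 = n19400 := d22_1 D24571 (iv D19400) (iv F87964)
theorem F110593 : act 3 n24571 = n24571 := d28_1 D24571 (iv D24571) F87965
def n24573 : Q := act 8 n19398
theorem D24573 : act 8 n19398 = n24573 := rfl
theorem F110599 : act 1 n24573 = n19465 := d15_1 D24573 (iv D19465) (iv F87971)
theorem F110600 : act 3 n24573 = n19408 := d28_1 D24573 (iv D19408) (iv F87972)
theorem F110601 : act 4 n24573 = n19400 := d33_1 D24573 (iv D19400) D19398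
def n24575 : Q := act 8 n19399
theorem D24575 : act 8 n19399 = n24575 := rfl
theorem F110607 : act 7 n24575 = n19400 := d42_1 D24575 (iv D19400) D19399
def n24576 : Q := act 9 n19400
theorem D24576 : act 9 n19400 = n24576 := rfl
theorem F110608 : act 1 n24576 = n19468 := d16_1 D24576 (iv D19468) (iv F87979)
theorem F110609 : act 3 n24576 = n19403 := d29_1 D24576 (iv D19403) (iv F87980)
def n24577 : Q := act 8 n19401
theorem D24577 : act 8 n19401 = n24577 := rfl
theorem F110611 : act 1 n24577 = n19469 := d15_1 D24577 (iv D19469) (iv F87981)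
def n24584 : Q := act 6 n19407
theorem D24584 : act 6 n19407 = n24584 := rfl
theorem F110650 : act 1 n24584 = n19471 := d13_1 D24584 (iv D19471) (iv F88008)
theorem F110652 : act 9 n24584 = n19659 := d41_2 (iv F88011) D24584 (iv D19659)
def n24586 : Q := act 5 n19408
theorem D24586 : act 5 n19408 = n24586 := rfl
theorem F110656 : act 1 n24586 = n19473 := d12_1 D24586 (iv D19473) (iv F88012)
theorem F110657 : act 4 n24586 = n24586 := d30_1 D24586 (iv D24586) F88013 F69557 (iv F88013)
theorem F110658 : act 8 n24586 = n24586 := d37_2 D19408 D24586 (iv D24586) (iv D19408) F69549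
def n24587 : Q := act 9 n19408
theorem D24587 : act 9 n19408 = n24587 := rfl
theorem F110663 : act 8 n24587 = n19661 := d44_1 D24587 (iv D19661) (iv D15383) (iv F69550) D19408
def n24590 : Q := act 5 n19412
theorem D24590 : act 5 n19412 = n24590 := rfl
theorem F110672 : act 1 n24590 = n19477 := d12_1 D24590 (iv D19477) (iv F88026)
def n24592 : Q := act 1 n19414
theorem D24592 : act 1 n19414 = n24592 := rfl
theorem F110680 : act 3 n24592 = n24592 := d10_2 F88035 D24592 (iv D24592)
theorem F110681 : act 4 n24592 = n19422 := d11_2 (iv F88036) D24592 (iv D19422)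
theorem F110682 : act 5 n24592 = n24592 := d12_2 F88037 D24592 (iv D24592)
theorem F110683 : act 9 n24592 = n24592 := d16_2 F88038 D24592 (iv D24592)
def n24593 : Q := act 6 n19414
theorem D24593 : act 6 n19414 = n24593 := rfl
theorem F110684 : act 0 n24593 = n20926 := d5_1 D24593 (iv D20926) (iv F88034)
theorem F110685 : act 2 n24593 = n19415 := d20_1 D24593 (iv D19415) D19414
theorem F110686 : act 3 n24593 = n24593 := d26_1 D24593 (iv D24593) F88035
theorem F110687 : act 4 n24593 = n19423 := d31_1 D24593 (iv D19423) (iv F88036)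
theorem F110688 : act 9 n24593 = n24593 := d41_2 F88038 D24593 (iv D24593)
def n24594 : Q := act 5 n19415
theorem D24594 : act 5 n19415 = n24594 := rfl
theorem F110689 : act 0 n24594 = n20927 := d4_1 D24594 (iv D20927) (iv F88039)
theorem F110690 : act 3 n24594 = n19416 := d25_1 D24594 (iv D19416) (iv F88040)
theorem F110691 : act 6 n24594 = n24594 := d35_2 D19415 D24594 (iv D24594) (iv D19415) F69572
theorem F110692 : act 9 n24594 = n24594 := d38_2 F88042 D24594 (iv D24594)
def n24595 : Q := act 7 n19415
theorem D24595 : act 7 n19415 = n24595 := rfl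
theorem F110693 : act 0 n24595 = n20928 := d6_1 D24595 (iv D20928) (iv F88039)
theorem F110694 : act 3 n24595 = n19417 := d27_1 D24595 (iv D19417) (iv F88040)
theorem F110695 : act 4 n24595 = n19425 := d32_1 D24595 (iv D19425) (iv F88041)
theorem F110696 : act 9 n24595 = n24595 := d43_2 F88042 D24595 (iv D24595)
def n24596 : Q := act 7 n19416
theorem D24596 : act 7 n19416 = n24596 := rfl
theorem F110697 : act 0 n24596 = n20929 := d6_1 D24596 (iv D20929) (iv F88043)
theorem F110698 : act 2 n24596 = n24596 := d21_1 D24596 (iv D24596) F88044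
theorem F110699 : act 4 n24596 = n24596 := d32_1 D24596 (iv D24596) F88045
theorem F110700 : act 5 n24596 = n19417 := d36_1 D24596 (iv D19417) D19416
theorem F110701 : act 9 n24596 = n24596 := d43_2 F88047 D24596 (iv D24596)
def n24597 : Q := act 8 n19416
theorem D24597 : act 8 n19416 = n24597 := rfl
theorem F110702 : act 0 n24597 = n20930 := d7_1 D24597 (iv D20930) (iv F88043)
theorem F110703 : act 2 n24597 = n24597 := d22_1 D24597 (iv D24597) F88044
theorem F110704 : act 4 n24597 = n24597 := d33_1 D24597 (iv D24597) F88045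
theorem F110705 : act 6 n24597 = n24597 := d40_1 D24597 (iv D24597) F88046
def n24598 : Q := act 1 n19418
theorem D24598 : act 1 n19418 = n24598 := rfl
theorem F110707 : act 5 n24598 = n19432 := d12_2 (iv F88054) D24598 (iv D19432)
theorem F110708 : act 7 n24598 = n19422 := d14_2 (iv F88055) D24598 (iv D19422)
def n24599 : Q := act 6 n19418
theorem D24599 : act 6 n19418 = n24599 := rfl
theorem F110711 : act 2 n24599 = n19419 := d20_1 D24599 (iv D19419) D19418
theorem F110712 : act 3 n24599 = n19484 := d26_1 D24599 (iv D19484) (iv F88053)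
theorem F110713 : act 9 n24599 = n24599 := d41_2 F88056 D24599 (iv D24599)
def n24600 : Q := act 5 n19419
theorem D24600 : act 5 n19419 = n24600 := rfl
theorem F110715 : act 3 n24600 = n19420 := d25_1 D24600 (iv D19420) (iv F88058)
theorem F110716 : act 6 n24600 = n19434 := d35_2 D19419 D24600 (iv D19434) (iv D15214) (iv F69584)
theorem F110717 : act 9 n24600 = n24600 := d38_2 F88059 D24600 (iv D24600)
def n24601 : Q := act 7 n19419
theorem D24601 : act 7 n19419 = n24601 := rfl
theorem F110718 : act 0 n24601 = n20934 := d6_1 D24601 (iv D20934) (iv F88057)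
theorem F110719 : act 3 n24601 = n19421 := d27_1 D24601 (iv D19421) (iv F88058)
theorem F110720 : act 6 n24601 = n19425 := d39_1 D24601 (iv D19425) (iv D15207) (iv F69585) D19419
theorem F110721 : act 9 n24601 = n24601 := d43_2 F88059 D24601 (iv D24601)
def n24602 : Q := act 7 n19420
theorem D24602 : act 7 n19420 = n24602 := rfl
theorem F110722 : act 0 n24602 = n20935 := d6_1 D24602 (iv D20935) (iv F88060)
theorem F110723 : act 2 n24602 = n19487 := d21_1 D24602 (iv D19487) (iv F88061)
theorem F110724 : act 5 n24602 = n19421 := d36_1 D24602 (iv D19421) D19420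
theorem F110725 : act 9 n24602 = n24602 := d43_2 F88063 D24602 (iv D24602)
def n24603 : Q := act 8 n19420
theorem D24603 : act 8 n19420 = n24603 := rfl
theorem F110726 : act 0 n24603 = n20936 := d7_1 D24603 (iv D20936) (iv F88060)
theorem F110727 : act 2 n24603 = n19488 := d22_1 D24603 (iv D19488) (iv F88061)
theorem F110728 : act 6 n24603 = n19437 := d40_1 D24603 (iv D19437) (iv F88062)
def n24604 : Q := act 0 n19422
theorem D24604 : act 0 n19422 = n24604 := rfl
theorem F110731 : act 5 n24604 = n19438 := d4_2 (iv F88070) D24604 (iv D19438)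
def n24605 : Q := act 6 n19422
theorem D24605 : act 6 n19422 = n24605 := rfl
theorem F110733 : act 1 n24605 = n19423 := d13_1 D24605 (iv D19423) D19422
theorem F110734 : act 3 n24605 = n19490 := d26_1 D24605 (iv D19490) (iv F88069)
theorem F110735 : act 9 n24605 = n24605 := d41_2 F88071 D24605 (iv D24605)
def n24606 : Q := act 5 n19423
theorem D24606 : act 5 n19423 = n24606 := rfl
theorem F110736 : act 0 n24606 = n20939 := d4_1 D24606 (iv D20939) (iv F88072)
theorem F110737 : act 2 n24606 = n19424 := d19_1 D24606 (iv D19424) (iv F88073)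
theorem F110738 : act 3 n24606 = n19491 := d25_1 D24606 (iv D19491) (iv F88074)
theorem F110739 : act 6 n24606 = n19440 := d35_2 D19423 D24606 (iv D19440) (iv D15218) (iv F69597)
theorem F110740 : act 9 n24606 = n24606 := d38_2 F88075 D24606 (iv D24606)
def n24607 : Q := act 7 n19423
theorem D24607 : act 7 n19423 = n24607 := rfl
theorem F110741 : act 0 n24607 = n20940 := d6_1 D24607 (iv D20940) (iv F88072)
theorem F110742 : act 2 n24607 = n19425 := d21_1 D24607 (iv D19425) (iv F88073)
theorem F110743 : act 3 n24607 = n19492 := d27_1 D24607 (iv D19492) (iv F88074)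
theorem F110744 : act 9 n24607 = n24607 := d43_2 F88075 D24607 (iv D24607)
def n24608 : Q := act 4 n19424
theorem D24608 : act 4 n19424 = n24608 := rfl
theorem F110745 : act 0 n24608 = n20941 := d3_1 D24608 (iv D20941) (iv F88076)
theorem F110746 : act 3 n24608 = n24608 := d24_1 D24608 (iv D24608) F88077 F69604 (iv F88077)
theorem F110747 : act 6 n24608 = n19442 := d31_2 (iv F88078) D24608 (iv D19442)
theorem F110748 : act 9 n24608 = n24608 := d34_2 F88079 D24608 (iv D24608)
def n24609 : Q := act 7 n19424
theorem D24609 : act 7 n19424 = n24609 := rfl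
theorem F110749 : act 0 n24609 = n20942 := d6_1 D24609 (iv D20942) (iv F88076)
theorem F110750 : act 3 n24609 = n19426 := d27_1 D24609 (iv D19426) (iv F88077)
theorem F110751 : act 5 n24609 = n19425 := d36_1 D24609 (iv D19425) D19424
theorem F110752 : act 9 n24609 = n24609 := d43_2 F88079 D24609 (iv D24609)
def n24610 : Q := act 8 n19424
theorem D24610 : act 8 n19424 = n24610 := rfl
theorem F110753 : act 0 n24610 = n20943 := d7_1 D24610 (iv D20943) (iv F88076)
theorem F110754 : act 3 n24610 = n19427 := d28_1 D24610 (iv D19427) (iv F88077)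
theorem F110755 : act 6 n24610 = n19444 := d40_1 D24610 (iv D19444) (iv F88078)
def n24611 : Q := act 6 n19426
theorem D24611 : act 6 n19426 = n24611 := rfl
theorem F110756 : act 0 n24611 = n20944 := d5_1 D24611 (iv D20944) (iv F88083)
theorem F110757 : act 2 n24611 = n19496 := d20_1 D24611 (iv D19496) (iv F88084)
theorem F110758 : act 4 n24611 = n24611 := d31_1 D24611 (iv D24611) F88085
theorem F110759 : act 7 n24611 = n19445 := d39_2 D19426 D24611 (iv D19445) (iv D15221) (iv F69605)
theorem F110760 : act 9 n24611 = n24611 := d41_2 F88087 D24611 (iv D24611)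
def n24612 : Q := act 8 n19426
theorem D24612 : act 8 n19426 = n24612 := rfl
theorem F110761 : act 0 n24612 = n20945 := d7_1 D24612 (iv D20945) (iv F88083)
theorem F110762 : act 2 n24612 = n19497 := d22_1 D24612 (iv D19497) (iv F88084)
theorem F110763 : act 4 n24612 = n24612 := d33_1 D24612 (iv D24612) F88085
theorem F110764 : act 7 n24612 = n19427 := d42_1 D24612 (iv D19427) D19426
def n24613 : Q := act 9 n19427
theorem D24613 : act 9 n19427 = n24613 := rfl
theorem F110765 : act 0 n24613 = n20946 := d8_1 D24613 (iv D20946) (iv F88088)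
theorem F110766 : act 2 n24613 = n19498 := d23_1 D24613 (iv D19498) (iv F88089)
theorem F110767 : act 4 n24613 = n24613 := d34_1 D24613 (iv D24613) F88090
theorem F110768 : act 6 n24613 = n19447 := d41_1 D24613 (iv D19447) (iv F88091)
theorem F110769 : act 8 n24613 = n24613 := d44_1 D24613 (iv D24613) (iv D19427) F69606 D19427
def n24618 : Q := act 7 n19430
theorem D24618 : act 7 n19430 = n24618 := rfl
theorem F110793 : act 4 n24618 = n19436 := d32_1 D24618 (iv D19436) (iv F88105)
def n24619 : Q := act 8 n19430
theorem D24619 : act 8 n19430 = n24619 := rfl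
theorem F110798 : act 4 n24619 = n19437 := d33_1 D24619 (iv D19437) (iv F88105)
def n24623 : Q := act 7 n19433
theorem D24623 : act 7 n19433 = n24623 := rfl
theorem F110816 : act 2 n24623 = n19435 := d21_1 D24623 (iv D19435) (iv F88119)
theorem F110817 : act 3 n24623 = n19508 := d27_1 D24623 (iv D19508) (iv F88120)
theorem F110819 : act 6 n24623 = n19441 := d39_1 D24623 (iv D19441) (iv D15218) (iv F69631) D19433
def n24624 : Q := act 4 n19434
theorem D24624 : act 4 n19434 = n24624 := rfl
def n24625 : Q := act 7 n19434
theorem D24625 : act 7 n19434 = n24625 := rfl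
theorem F110827 : act 5 n24625 = n19435 := d36_1 D24625 (iv D19435) D19434
def n24626 : Q := act 8 n19434
theorem D24626 : act 8 n19434 = n24626 := rfl
theorem F110830 : act 3 n24626 = n19437 := d28_1 D24626 (iv D19437) (iv F88125)
theorem F110831 : act 5 n24626 = n19454 := d37_1 D24626 (iv D19454) (iv D15225) (iv F69637) D19434
def n24627 : Q := act 6 n19436
theorem D24627 : act 6 n19436 = n24627 := rfl
theorem F110834 : act 5 n24627 = n19445 := d35_1 D24627 (iv D19445) F69669 (iv F69645) (iv F88135)
def n24628 : Q := act 8 n19436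
theorem D24628 : act 8 n19436 = n24628 := rfl
theorem F110838 : act 5 n24628 = n19456 := d37_1 D24628 (iv D19456) F69695 (iv F69646) (iv F88135)
def n24629 : Q := act 9 n19437
theorem D24629 : act 9 n19437 = n24629 := rfl
theorem F110842 : act 5 n24629 = n19457 := d38_1 D24629 (iv D19457) (iv F88139)
def n24630 : Q := act 6 n19438
theorem D24630 : act 6 n19438 = n24630 := rfl
theorem F110844 : act 0 n24630 = n19439 := d5_1 D24630 (iv D19439) D19438
theorem F110848 : act 8 n24630 = n19458 := d40_2 (iv F88143) D24630 (iv D19458)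
def n24631 : Q := act 5 n19439
theorem D24631 : act 5 n19439 = n24631 := rfl
theorem F110850 : act 1 n24631 = n19440 := d12_1 D24631 (iv D19440) (iv F88145)
theorem F110851 : act 3 n24631 = n19516 := d25_1 D24631 (iv D19516) (iv F88146)
theorem F110852 : act 9 n24631 = n24631 := d38_2 F88149 D24631 (iv D24631)
def n24632 : Q := act 7 n19439
theorem D24632 : act 7 n19439 = n24632 := rfl
theorem F110853 : act 1 n24632 = n19441 := d14_1 D24632 (iv D19441) (iv F88145)
theorem F110856 : act 8 n24632 = n19460 := d42_2 (iv F88148) D24632 (iv D19460)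
def n24633 : Q := act 4 n19440
theorem D24633 : act 4 n19440 = n24633 := rfl
theorem F110858 : act 0 n24633 = n20965 := d3_1 D24633 (iv D20965) (iv F88150)
theorem F110859 : act 2 n24633 = n19442 := d18_1 D24633 (iv D19442) (iv F88151)
def n24634 : Q := act 7 n19440
theorem D24634 : act 7 n19440 = n24634 := rfl
theorem F110862 : act 0 n24634 = n20966 := d6_1 D24634 (iv D20966) (iv F88150)
theorem F110863 : act 2 n24634 = n19443 := d21_1 D24634 (iv D19443) (iv F88151)
theorem F110864 : act 3 n24634 = n19519 := d27_1 D24634 (iv D19519) (iv F88152)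
theorem F110865 : act 5 n24634 = n19441 := d36_1 D24634 (iv D19441) D19440
theorem F110866 : act 9 n24634 = n24634 := d43_2 F88153 D24634 (iv D24634)
def n24635 : Q := act 8 n19440
theorem D24635 : act 8 n19440 = n24635 := rfl
theorem F110867 : act 0 n24635 = n20967 := d7_1 D24635 (iv D20967) (iv F88150)
theorem F110868 : act 2 n24635 = n19444 := d22_1 D24635 (iv D19444) (iv F88151)
theorem F110869 : act 3 n24635 = n19520 := d28_1 D24635 (iv D19520) (iv F88152)
theorem F110870 : act 5 n24635 = n19463 := d37_1 D24635 (iv D19463) (iv D15231) (iv F69656) D19440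
def n24636 : Q := act 7 n19442
theorem D24636 : act 7 n19442 = n24636 := rfl
theorem F110872 : act 3 n24636 = n24636 := d27_1 D24636 (iv D24636) F88161
theorem F110873 : act 4 n24636 = n19443 := d32_1 D24636 (iv D19443) D19442
theorem F110874 : act 5 n24636 = n24636 := d36_1 D24636 (iv D24636) F88162
theorem F110875 : act 9 n24636 = n24636 := d43_2 F88163 D24636 (iv D24636)
def n24637 : Q := act 8 n19442
theorem D24637 : act 8 n19442 = n24637 := rfl
theorem F110876 : act 0 n24637 = n20969 := d7_1 D24637 (iv D20969) (iv F88160)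
theorem F110877 : act 3 n24637 = n24637 := d28_1 D24637 (iv D24637) F88161
theorem F110878 : act 4 n24637 = n19444 := d33_1 D24637 (iv D19444) D19442
def n24638 : Q := act 6 n19443
theorem D24638 : act 6 n19443 = n24638 := rfl
theorem F110880 : act 3 n24638 = n19445 := d26_1 D24638 (iv D19445) (iv F88165)
theorem F110881 : act 9 n24638 = n24638 := d41_2 F88167 D24638 (iv D24638)
def n24639 : Q := act 8 n19443
theorem D24639 : act 8 n19443 = n24639 := rfl
theorem F110883 : act 3 n24639 = n19446 := d28_1 D24639 (iv D19446) (iv F88165)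
theorem F110884 : act 5 n24639 = n19467 := d37_1 D24639 (iv D19467) F69723 (iv F69664) (iv F88166)
theorem F110885 : act 7 n24639 = n19444 := d42_1 D24639 (iv D19444) D19443
def n24640 : Q := act 9 n19444
theorem D24640 : act 9 n19444 = n24640 := rfl
theorem F110886 : act 0 n24640 = n20972 := d8_1 D24640 (iv D20972) (iv F88168)
theorem F110887 : act 3 n24640 = n19447 := d29_1 D24640 (iv D19447) (iv F88169)
theorem F110888 : act 5 n24640 = n19468 := d38_1 D24640 (iv D19468) (iv F88170)
theorem F110889 : act 8 n24640 = n24640 := d44_1 D24640 (iv D24640) (iv D19444) F69660 D19444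
def n24641 : Q := act 8 n19445
theorem D24641 : act 8 n19445 = n24641 := rfl
theorem F110890 : act 0 n24641 = n20973 := d7_1 D24641 (iv D20973) (iv F88171)
theorem F110891 : act 2 n24641 = n19526 := d22_1 D24641 (iv D19526) (iv F88172)
theorem F110892 : act 4 n24641 = n24641 := d33_1 D24641 (iv D24641) F88173
theorem F110893 : act 6 n24641 = n19446 := d40_1 D24641 (iv D19446) D19445
def n24642 : Q := act 9 n19446
theorem D24642 : act 9 n19446 = n24642 := rfl
theorem F110897 : act 5 n24642 = n19470 := d38_1 D24642 (iv D19470) (iv F88178)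
theorem F110898 : act 7 n24642 = n19447 := d43_1 D24642 (iv D19447) (iv F88179)
def n24645 : Q := act 7 n19449
theorem D24645 : act 7 n19449 = n24645 := rfl
theorem F110909 : act 3 n24645 = n19530 := d27_1 D24645 (iv D19530) (iv F88191)
theorem F110911 : act 6 n24645 = n19460 := d39_1 D24645 (iv D19460) (iv D15230) (iv F69677) D19449
def n24647 : Q := act 7 n19450
theorem D24647 : act 7 n19450 = n24647 := rfl
theorem F110917 : act 0 n24647 = n20979 := d6_1 D24647 (iv D20979) (iv F88194)
theorem F110918 : act 2 n24647 = n19453 := d21_1 D24647 (iv D19453) (iv F88195)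
def n24649 : Q := act 7 n19452
theorem D24649 : act 7 n19452 = n24649 := rfl
theorem F110925 : act 0 n24649 = n20981 := d6_1 D24649 (iv D20981) (iv F88204)
theorem F110927 : act 4 n24649 = n19453 := d32_1 D24649 (iv D19453) D19452
def n24650 : Q := act 8 n19452
theorem D24650 : act 8 n19452 = n24650 := rfl
theorem F110931 : act 3 n24650 = n24650 := d28_1 D24650 (iv D24650) F88205
theorem F110932 : act 4 n24650 = n19454 := d33_1 D24650 (iv D19454) D19452
def n24651 : Q := act 6 n19453
theorem D24651 : act 6 n19453 = n24651 := rfl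
theorem F110933 : act 0 n24651 = n20983 := d5_1 D24651 (iv D20983) (iv F88208)
theorem F110934 : act 3 n24651 = n19455 := d26_1 D24651 (iv D19455) (iv F88209)
theorem F110935 : act 5 n24651 = n19466 := d35_1 D24651 (iv D19466) F69723 (iv F69690) (iv F88210)
theorem F110936 : act 9 n24651 = n19674 := d41_2 (iv F88211) D24651 (iv D19674)
def n24652 : Q := act 8 n19453
theorem D24652 : act 8 n19453 = n24652 := rfl
theorem F110937 : act 0 n24652 = n20984 := d7_1 D24652 (iv D20984) (iv F88208)
theorem F110938 : act 3 n24652 = n19456 := d28_1 D24652 (iv D19456) (iv F88209)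
theorem F110939 : act 7 n24652 = n19454 := d42_1 D24652 (iv D19454) D19453
def n24653 : Q := act 9 n19454
theorem D24653 : act 9 n19454 = n24653 := rfl
theorem F110941 : act 3 n24653 = n19457 := d29_1 D24653 (iv D19457) (iv F88213)
theorem F110942 : act 8 n24653 = n19676 := d44_1 D24653 (iv D19676) (iv D15395) (iv F69686) D19454
def n24654 : Q := act 8 n19455
theorem D24654 : act 8 n19455 = n24654 := rfl
theorem F110943 : act 0 n24654 = n20986 := d7_1 D24654 (iv D20986) (iv F88214)
theorem F110944 : act 2 n24654 = n19539 := d22_1 D24654 (iv D19539) (iv F88215)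
theorem F110945 : act 4 n24654 = n24654 := d33_1 D24654 (iv D24654) F88216
theorem F110946 : act 6 n24654 = n19456 := d40_1 D24654 (iv D19456) D19455
def n24655 : Q := act 9 n19456
theorem D24655 : act 9 n19456 = n24655 := rfl
theorem F110951 : act 8 n24655 = n19678 := d44_1 D24655 (iv D19678) (iv D15397) (iv F69696) D19456
def n24656 : Q := act 5 n19458
theorem D24656 : act 5 n19458 = n24656 := rfl
theorem F110952 : act 0 n24656 = n19459 := d4_1 D24656 (iv D19459) (iv F88227)
def n24657 : Q := act 7 n19458
theorem D24657 : act 7 n19458 = n24657 := rfl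
theorem F110958 : act 3 n24657 = n19542 := d27_1 D24657 (iv D19542) (iv F88229)
def n24658 : Q := act 4 n19459
theorem D24658 : act 4 n19459 = n24658 := rfl
theorem F110961 : act 1 n24658 = n19461 := d11_1 D24658 (iv D19461) (iv F88232)
theorem F110962 : act 3 n24658 = n24658 := d24_1 D24658 (iv D24658) F88233 F69977 (iv F88233)
theorem F110963 : act 5 n24658 = n24658 := d30_2 D19459 D24658 (iv D24658) (iv D19459) F69706
theorem F110964 : act 9 n24658 = n19681 := d34_2 (iv F88234) D24658 (iv D19681)
def n24659 : Q := act 7 n19459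
theorem D24659 : act 7 n19459 = n24659 := rfl
theorem F110965 : act 1 n24659 = n19462 := d14_1 D24659 (iv D19462) (iv F88232)
theorem F110967 : act 5 n24659 = n19460 := d36_1 D24659 (iv D19460) D19459
def n24660 : Q := act 8 n19459
theorem D24660 : act 8 n19459 = n24660 := rfl
theorem F110969 : act 1 n24660 = n19463 := d15_1 D24660 (iv D19463) (iv F88232)
theorem F110970 : act 3 n24660 = n19544 := d28_1 D24660 (iv D19544) (iv F88233)
def n24661 : Q := act 7 n19461
theorem D24661 : act 7 n19461 = n24661 := rfl
theorem F110971 : act 0 n24661 = n20993 := d6_1 D24661 (iv D20993) (iv F88239)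
theorem F110972 : act 2 n24661 = n19464 := d21_1 D24661 (iv D19464) (iv F88240)
theorem F110973 : act 3 n24661 = n24661 := d27_1 D24661 (iv D24661) F88241
theorem F110974 : act 4 n24661 = n19462 := d32_1 D24661 (iv D19462) D19461
theorem F110975 : act 5 n24661 = n24661 := d36_1 D24661 (iv D24661) F88242
def n24662 : Q := act 8 n19461
theorem D24662 : act 8 n19461 = n24662 := rfl
theorem F110977 : act 0 n24662 = n20994 := d7_1 D24662 (iv D20994) (iv F88239)
theorem F110978 : act 2 n24662 = n19465 := d22_1 D24662 (iv D19465) (iv F88240)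
theorem F110979 : act 3 n24662 = n24662 := d28_1 D24662 (iv D24662) F88241
theorem F110980 : act 4 n24662 = n19463 := d33_1 D24662 (iv D19463) D19461
def n24663 : Q := act 6 n19462
theorem D24663 : act 6 n19462 = n24663 := rfl
theorem F110981 : act 0 n24663 = n20995 := d5_1 D24663 (iv D20995) (iv F88244)
theorem F110982 : act 2 n24663 = n19466 := d20_1 D24663 (iv D19466) (iv F88245)
theorem F110983 : act 3 n24663 = n19545 := d26_1 D24663 (iv D19545) (iv F88246)
theorem F110984 : act 9 n24663 = n19686 := d41_2 (iv F88248) D24663 (iv D19686)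
def n24664 : Q := act 8 n19462
theorem D24664 : act 8 n19462 = n24664 := rfl
theorem F110985 : act 0 n24664 = n20996 := d7_1 D24664 (iv D20996) (iv F88244)
theorem F110986 : act 2 n24664 = n19467 := d22_1 D24664 (iv D19467) (iv F88245)
theorem F110987 : act 3 n24664 = n19546 := d28_1 D24664 (iv D19546) (iv F88246)
theorem F110988 : act 7 n24664 = n19463 := d42_1 D24664 (iv D19463) D19462
def n24665 : Q := act 9 n19463
theorem D24665 : act 9 n19463 = n24665 := rfl
theorem F110989 : act 0 n24665 = n20997 := d8_1 D24665 (iv D20997) (iv F88249)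
theorem F110990 : act 2 n24665 = n19468 := d23_1 D24665 (iv D19468) (iv F88250)
theorem F110991 : act 3 n24665 = n19547 := d29_1 D24665 (iv D19547) (iv F88251)
theorem F110992 : act 8 n24665 = n19688 := d44_1 D24665 (iv D19688) (iv D15404) (iv F69711) D19463
def n24666 : Q := act 6 n19464
theorem D24666 : act 6 n19464 = n24666 := rfl
theorem F110995 : act 4 n24666 = n19466 := d31_1 D24666 (iv D19466) (iv F88254)
theorem F110996 : act 9 n24666 = n19689 := d41_2 (iv F88256) D24666 (iv D19689)
def n24667 : Q := act 8 n19464
theorem D24667 : act 8 n19464 = n24667 := rfl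
theorem F110999 : act 4 n24667 = n19467 := d33_1 D24667 (iv D19467) (iv F88254)
theorem F111000 : act 7 n24667 = n19465 := d42_1 D24667 (iv D19465) D19464
def n24668 : Q := act 5 n19465
theorem D24668 : act 5 n19465 = n24668 := rfl
theorem F111001 : act 0 n24668 = n21000 := d4_1 D24668 (iv D21000) (iv F88257)
theorem F111002 : act 3 n24668 = n19473 := d25_1 D24668 (iv D19473) (iv F88258)
theorem F111003 : act 8 n24668 = n24668 := d37_2 D19465 D24668 (iv D24668) (iv D19465) F69719
def n24669 : Q := act 9 n19465
theorem D24669 : act 9 n19465 = n24669 := rfl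
theorem F111006 : act 4 n24669 = n19468 := d34_1 D24669 (iv D19468) (iv F88259)
theorem F111007 : act 8 n24669 = n19692 := d44_1 D24669 (iv D19692) (iv D15406) (iv F69720) D19465
def n24670 : Q := act 8 n19466
theorem D24670 : act 8 n19466 = n24670 := rfl
theorem F111009 : act 3 n24670 = n19469 := d28_1 D24670 (iv D19469) (iv F88261)
theorem F111010 : act 6 n24670 = n19467 := d40_1 D24670 (iv D19467) D19466
def n24671 : Q := act 9 n19467
theorem D24671 : act 9 n19467 = n24671 := rfl
theorem F111013 : act 7 n24671 = n19468 := d43_1 D24671 (iv D19468) (iv F88265)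
theorem F111014 : act 8 n24671 = n19694 := d44_1 D24671 (iv D19694) (iv D15408) (iv F69724) D19467
def n24672 : Q := act 5 n19469
theorem D24672 : act 5 n19469 = n24672 := rfl
theorem F111016 : act 2 n24672 = n19550 := d19_1 D24672 (iv D19550) (iv F88270)
def n24673 : Q := act 9 n19469
theorem D24673 : act 9 n19469 = n24673 := rfl
theorem F111018 : act 2 n24673 = n19551 := d23_1 D24673 (iv D19551) (iv F88270)
theorem F111021 : act 8 n24673 = n19696 := d44_1 D24673 (iv D19696) (iv D15410) (iv F69730) D19469
def n24676 : Q := act 5 n19472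
theorem D24676 : act 5 n19472 = n24676 := rfl
theorem F111034 : act 7 n24676 = n19473 := d36_2 (iv F88285) D24676 (iv D19473)
def n24677 : Q := act 9 n19472
theorem D24677 : act 9 n19472 = n24677 := rfl
theorem F111040 : act 8 n24677 = n19700 := d44_1 D24677 (iv D19700) (iv D15413) (iv F69743) D19472
def n24678 : Q := act 6 n19473
theorem D24678 : act 6 n19473 = n24678 := rfl
theorem F111041 : act 0 n24678 = n21010 := d5_1 D24678 (iv D21010) (iv F88286)
theorem F111042 : act 2 n24678 = n24678 := d20_1 D24678 (iv D24678) F88287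
theorem F111043 : act 4 n24678 = n24678 := d31_1 D24678 (iv D24678) F88288
theorem F111044 : act 8 n24678 = n24678 := d40_2 F88289 D24678 (iv D24678)
def n24679 : Q := act 9 n19473
theorem D24679 : act 9 n19473 = n24679 := rfl
theorem F111048 : act 5 n24679 = n19474 := d38_1 D24679 (iv D19474) D19473
def n24680 : Q := act 5 n19475
theorem D24680 : act 5 n19475 = n24680 := rfl
theorem F111051 : act 3 n24680 = n19477 := d25_1 D24680 (iv D19477) (iv F88296)
def n24681 : Q := act 9 n19475
theorem D24681 : act 9 n19475 = n24681 := rfl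
theorem F111058 : act 8 n24681 = n19703 := d44_1 D24681 (iv D19703) (iv D15416) (iv F69751) D19475
def n24682 : Q := act 4 n19477
theorem D24682 : act 4 n19477 = n24682 := rfl
theorem F111060 : act 2 n24682 = n19552 := d18_1 D24682 (iv D19552) (iv F88305)
theorem F111061 : act 6 n24682 = n24682 := d31_2 F88306 D24682 (iv D24682)
theorem F111062 : act 8 n24682 = n24682 := d33_2 F88307 D24682 (iv D24682)
def n24683 : Q := act 9 n19477
theorem D24683 : act 9 n19477 = n24683 := rfl
theorem F111064 : act 2 n24683 = n19553 := d23_1 D24683 (iv D19553) (iv F88305)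
theorem F111065 : act 5 n24683 = n19478 := d38_1 D24683 (iv D19478) D19477
def n24688 : Q := act 7 n19481
theorem D24688 : act 7 n19481 = n24688 := rfl
theorem F111090 : act 4 n24688 = n19487 := d32_1 D24688 (iv D19487) (iv F88324)
def n24689 : Q := act 8 n19481
theorem D24689 : act 8 n19481 = n24689 := rfl
theorem F111095 : act 4 n24689 = n19488 := d33_1 D24689 (iv D19488) (iv F88324)
theorem F111096 : act 6 n24689 = n19504 := d40_1 D24689 (iv D19504) (iv F88325)
def n24692 : Q := act 5 n19484
theorem D24692 : act 5 n19484 = n24692 := rfl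
theorem F111109 : act 6 n24692 = n19507 := d35_2 D19484 D24692 (iv D19507) (iv D15264) (iv F69788)
def n24693 : Q := act 7 n19484
theorem D24693 : act 7 n19484 = n24693 := rfl
theorem F111112 : act 2 n24693 = n19486 := d21_1 D24693 (iv D19486) (iv F88338)
theorem F111113 : act 4 n24693 = n24693 := d32_1 D24693 (iv D24693) F88339
theorem F111114 : act 6 n24693 = n19492 := d39_1 D24693 (iv D19492) (iv D15254) (iv F69789) D19484
theorem F111115 : act 9 n24693 = n24693 := d43_2 F88340 D24693 (iv D24693)
def n24697 : Q := act 6 n19487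
theorem D24697 : act 6 n19487 = n24697 := rfl
theorem F111132 : act 5 n24697 = n19496 := d35_1 D24697 (iv D19496) F69826 (iv F69803) (iv F88354)
theorem F111133 : act 7 n24697 = n19512 := d39_2 D19487 D24697 (iv D19512) (iv D15267) (iv F69798)
def n24698 : Q := act 8 n19487
theorem D24698 : act 8 n19487 = n24698 := rfl
theorem F111135 : act 0 n24698 = n21029 := d7_1 D24698 (iv D21029) (iv F88352)
theorem F111136 : act 1 n24698 = n24698 := d15_1 D24698 (iv D24698) F88353
theorem F111137 : act 7 n24698 = n19488 := d42_1 D24698 (iv D19488) D19487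
def n24699 : Q := act 9 n19488
theorem D24699 : act 9 n19488 = n24699 := rfl
def n24700 : Q := act 6 n19489
theorem D24700 : act 6 n19489 = n24700 := rfl
theorem F111142 : act 0 n24700 = n19490 := d5_1 D24700 (iv D19490) D19489
theorem F111143 : act 1 n24700 = n21031 := d13_1 D24700 (iv D21031) (iv F88359)
def n24701 : Q := act 5 n19490
theorem D24701 : act 5 n19490 = n24701 := rfl
theorem F111147 : act 1 n24701 = n19491 := d12_1 D24701 (iv D19491) (iv F88364)
theorem F111148 : act 2 n24701 = n24701 := d19_1 D24701 (iv D24701) F88365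
theorem F111149 : act 6 n24701 = n19516 := d35_2 D19490 D24701 (iv D19516) (iv D15270) (iv F69807)
theorem F111150 : act 9 n24701 = n24701 := d38_2 F88367 D24701 (iv D24701)
def n24702 : Q := act 7 n19490
theorem D24702 : act 7 n19490 = n24702 := rfl
theorem F111151 : act 1 n24702 = n19492 := d14_1 D24702 (iv D19492) (iv F88364)
theorem F111152 : act 2 n24702 = n24702 := d21_1 D24702 (iv D24702) F88365
theorem F111153 : act 4 n24702 = n24702 := d32_1 D24702 (iv D24702) F88366
theorem F111154 : act 9 n24702 = n24702 := d43_2 F88367 D24702 (iv D24702)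
def n24703 : Q := act 4 n19491
theorem D24703 : act 4 n19491 = n24703 := rfl
theorem F111156 : act 2 n24703 = n19493 := d18_1 D24703 (iv D19493) (iv F88369)
def n24704 : Q := act 7 n19491
theorem D24704 : act 7 n19491 = n24704 := rfl
theorem F111160 : act 0 n24704 = n21035 := d6_1 D24704 (iv D21035) (iv F88368)
theorem F111161 : act 2 n24704 = n19494 := d21_1 D24704 (iv D19494) (iv F88369)
theorem F111162 : act 5 n24704 = n19492 := d36_1 D24704 (iv D19492) D19491
theorem F111163 : act 9 n24704 = n24704 := d43_2 F88371 D24704 (iv D24704)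
def n24705 : Q := act 8 n19491
theorem D24705 : act 8 n19491 = n24705 := rfl
theorem F111164 : act 0 n24705 = n21036 := d7_1 D24705 (iv D21036) (iv F88368)
theorem F111165 : act 2 n24705 = n19495 := d22_1 D24705 (iv D19495) (iv F88369)
theorem F111166 : act 6 n24705 = n19520 := d40_1 D24705 (iv D19520) (iv F88370)
def n24706 : Q := act 7 n19493
theorem D24706 : act 7 n19493 = n24706 := rfl
def n24707 : Q := act 8 n19493
theorem D24707 : act 8 n19493 = n24707 := rfl
theorem F111173 : act 0 n24707 = n21038 := d7_1 D24707 (iv D21038) (iv F88376)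
theorem F111174 : act 1 n24707 = n24707 := d15_1 D24707 (iv D24707) F88377
theorem F111175 : act 3 n24707 = n24707 := d28_1 D24707 (iv D24707) F88378
theorem F111176 : act 4 n24707 = n19495 := d33_1 D24707 (iv D19495) D19493
theorem F111177 : act 6 n24707 = n19522 := d40_1 D24707 (iv D19522) (iv F88380)
def n24708 : Q := act 6 n19494
theorem D24708 : act 6 n19494 = n24708 := rfl
theorem F111180 : act 3 n24708 = n19496 := d26_1 D24708 (iv D19496) (iv F88384)
theorem F111181 : act 7 n24708 = n19523 := d39_2 D19494 D24708 (iv D19523) (iv D15274) (iv F69816)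
def n24709 : Q := act 8 n19494
theorem D24709 : act 8 n19494 = n24709 := rfl
theorem F111183 : act 0 n24709 = n21040 := d7_1 D24709 (iv D21040) (iv F88382)
theorem F111184 : act 1 n24709 = n24709 := d15_1 D24709 (iv D24709) F88383
theorem F111185 : act 3 n24709 = n19497 := d28_1 D24709 (iv D19497) (iv F88384)
theorem F111186 : act 7 n24709 = n19495 := d42_1 D24709 (iv D19495) D19494
def n24710 : Q := act 9 n19495
theorem D24710 : act 9 n19495 = n24710 := rfl
theorem F111187 : act 0 n24710 = n21041 := d8_1 D24710 (iv D21041) (iv F88387)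
theorem F111188 : act 1 n24710 = n24710 := d16_1 D24710 (iv D24710) F88388
theorem F111189 : act 3 n24710 = n19498 := d29_1 D24710 (iv D19498) (iv F88389)
theorem F111190 : act 6 n24710 = n19525 := d41_1 D24710 (iv D19525) (iv F88390)
theorem F111191 : act 8 n24710 = n24710 := d44_1 D24710 (iv D24710) (iv D19495) F69817 D19495
def n24711 : Q := act 8 n19496
theorem D24711 : act 8 n19496 = n24711 := rfl
theorem F111192 : act 0 n24711 = n21042 := d7_1 D24711 (iv D21042) (iv F88391)
theorem F111193 : act 1 n24711 = n24711 := d15_1 D24711 (iv D24711) F88392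
theorem F111194 : act 4 n24711 = n24711 := d33_1 D24711 (iv D24711) F88393
theorem F111195 : act 6 n24711 = n19497 := d40_1 D24711 (iv D19497) D19496
theorem F111196 : act 7 n24711 = n19526 := d42_1 D24711 (iv D19526) (iv F88394)
def n24712 : Q := act 9 n19497
theorem D24712 : act 9 n19497 = n24712 := rfl
theorem F111197 : act 0 n24712 = n21043 := d8_1 D24712 (iv D21043) (iv F88396)
theorem F111198 : act 1 n24712 = n24712 := d16_1 D24712 (iv D24712) F88397
theorem F111199 : act 4 n24712 = n24712 := d34_1 D24712 (iv D24712) F88398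
theorem F111200 : act 7 n24712 = n19498 := d43_1 D24712 (iv D19498) (iv F88399)
theorem F111201 : act 8 n24712 = n24712 := d44_1 D24712 (iv D24712) (iv D19497) F69827 D19497
def n24716 : Q := act 4 n19501
theorem D24716 : act 4 n19501 = n24716 := rfl
theorem F111220 : act 5 n24716 = n19557 := d30_2 D19501 D24716 (iv D19557) (iv D15303) (iv F69840)
def n24724 : Q := act 7 n19506
theorem D24724 : act 7 n19506 = n24724 := rfl
theorem F111258 : act 6 n24724 = n19517 := d39_1 D24724 (iv D19517) (iv D15270) (iv F69855) D19506
theorem F111259 : act 8 n24724 = n19530 := d42_2 (iv F88445) D24724 (iv D19530)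
def n24737 : Q := act 4 n19516
theorem D24737 : act 4 n19516 = n24737 := rfl
theorem F111315 : act 5 n24737 = n19578 := d30_2 D19516 D24737 (iv D19578) (iv D15318) (iv F69888)
def n24738 : Q := act 7 n19516
theorem D24738 : act 7 n19516 = n24738 := rfl
theorem F111319 : act 5 n24738 = n19517 := d36_1 D24738 (iv D19517) D19516
def n24739 : Q := act 8 n19516
theorem D24739 : act 8 n19516 = n24739 := rfl
theorem F111321 : act 1 n24739 = n19520 := d15_1 D24739 (iv D19520) (iv F88487)
theorem F111322 : act 2 n24739 = n24739 := d22_1 D24739 (iv D24739) F88488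
theorem F111323 : act 5 n24739 = n19544 := d37_1 D24739 (iv D19544) (iv D15290) (iv F69889) D19516
def n24741 : Q := act 7 n19518
theorem D24741 : act 7 n19518 = n24741 := rfl
theorem F111330 : act 4 n24741 = n19519 := d32_1 D24741 (iv D19519) D19518
def n24742 : Q := act 8 n19518
theorem D24742 : act 8 n19518 = n24742 := rfl
theorem F111334 : act 2 n24742 = n19522 := d22_1 D24742 (iv D19522) (iv F88496)
theorem F111335 : act 4 n24742 = n19520 := d33_1 D24742 (iv D19520) D19518
def n24743 : Q := act 6 n19519
theorem D24743 : act 6 n19519 = n24743 := rfl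
def n24744 : Q := act 8 n19519
theorem D24744 : act 8 n19519 = n24744 := rfl
theorem F111340 : act 0 n24744 = n21074 := d7_1 D24744 (iv D21074) (iv F88499)
theorem F111341 : act 2 n24744 = n19524 := d22_1 D24744 (iv D19524) (iv F88500)
theorem F111342 : act 5 n24744 = n19546 := d37_1 D24744 (iv D19546) F69986 (iv F69897) (iv F88501)
theorem F111343 : act 7 n24744 = n19520 := d42_1 D24744 (iv D19520) D19519
def n24745 : Q := act 9 n19520
theorem D24745 : act 9 n19520 = n24745 := rfl
theorem F111344 : act 0 n24745 = n21075 := d8_1 D24745 (iv D21075) (iv F88503)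
theorem F111345 : act 2 n24745 = n19525 := d23_1 D24745 (iv D19525) (iv F88504)
theorem F111346 : act 5 n24745 = n19547 := d38_1 D24745 (iv D19547) (iv F88505)
theorem F111347 : act 8 n24745 = n24745 := d44_1 D24745 (iv D24745) (iv D19520) F69893 D19520
def n24747 : Q := act 8 n19521
theorem D24747 : act 8 n19521 = n24747 := rfl
theorem F111356 : act 4 n24747 = n19524 := d33_1 D24747 (iv D19524) (iv F88509)
def n24748 : Q := act 9 n19522
theorem D24748 : act 9 n19522 = n24748 := rfl
theorem F111362 : act 4 n24748 = n19525 := d34_1 D24748 (iv D19525) (iv F88515)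
def n24749 : Q := act 8 n19523
theorem D24749 : act 8 n19523 = n24749 := rfl
theorem F111368 : act 6 n24749 = n19524 := d40_1 D24749 (iv D19524) D19523
def n24750 : Q := act 9 n19524
theorem D24750 : act 9 n19524 = n24750 := rfl
theorem F111369 : act 0 n24750 = n21080 := d8_1 D24750 (iv D21080) (iv F88521)
theorem F111370 : act 1 n24750 = n24750 := d16_1 D24750 (iv D24750) F88522
theorem F111371 : act 3 n24750 = n19527 := d29_1 D24750 (iv D19527) (iv F88523)
theorem F111372 : act 5 n24750 = n19549 := d38_1 D24750 (iv D19549) (iv F88524)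
theorem F111373 : act 7 n24750 = n19525 := d43_1 D24750 (iv D19525) (iv F88525)
theorem F111374 : act 8 n24750 = n24750 := d44_1 D24750 (iv D24750) (iv D19524) F69908 D19524
def n24751 : Q := act 5 n19526
theorem D24751 : act 5 n19526 = n24751 := rfl
theorem F111375 : act 0 n24751 = n21081 := d4_1 D24751 (iv D21081) (iv F88531)
theorem F111376 : act 1 n24751 = n24751 := d12_1 D24751 (iv D24751) F88532
theorem F111377 : act 6 n24751 = n19550 := d35_2 (iv F88534) D24751 (iv D19550) F70009 (iv F69920)
def n24752 : Q := act 9 n19526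
theorem D24752 : act 9 n19526 = n24752 := rfl
theorem F111378 : act 0 n24752 = n21082 := d8_1 D24752 (iv D21082) (iv F88531)
theorem F111379 : act 1 n24752 = n24752 := d16_1 D24752 (iv D24752) F88532
theorem F111380 : act 4 n24752 = n24752 := d34_1 D24752 (iv D24752) F88533
theorem F111381 : act 6 n24752 = n19527 := d41_1 D24752 (iv D19527) (iv F88534)
theorem F111382 : act 8 n24752 = n24752 := d44_1 D24752 (iv D24752) (iv D19526) F69916 D19526
def n24754 : Q := act 7 n19528
theorem D24754 : act 7 n19528 = n24754 := rfl
theorem F111391 : act 6 n24754 = n19542 := d39_1 D24754 (iv D19542) (iv D15289) (iv F69930) D19528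
def n24759 : Q := act 7 n19531
theorem D24759 : act 7 n19531 = n24759 := rfl
theorem F111409 : act 4 n24759 = n19532 := d32_1 D24759 (iv D19532) D19531
theorem F111410 : act 5 n24759 = n19590 := d36_1 D24759 (iv D19590) (iv F88556)
def n24761 : Q := act 6 n19532
theorem D24761 : act 6 n19532 = n24761 := rfl
theorem F111415 : act 0 n24761 = n21091 := d5_1 D24761 (iv D21091) (iv F88558)
theorem F111417 : act 5 n24761 = n19545 := d35_1 D24761 (iv D19545) F69986 (iv F69942) (iv F88560)
def n24765 : Q := act 8 n19534
theorem D24765 : act 8 n19534 = n24765 := rfl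
theorem F111431 : act 0 n24765 = n21095 := d7_1 D24765 (iv D21095) (iv F88564)
theorem F111434 : act 4 n24765 = n19537 := d33_1 D24765 (iv D19537) (iv F88567)
def n24770 : Q := act 5 n19539
theorem D24770 : act 5 n19539 = n24770 := rfl
theorem F111454 : act 0 n24770 = n21100 := d4_1 D24770 (iv D21100) (iv F88587)
theorem F111455 : act 1 n24770 = n24770 := d12_1 D24770 (iv D24770) F88588
theorem F111456 : act 8 n24770 = n19550 := d37_2 D19539 D24770 (iv D19550) (iv D15297) (iv F69960)
def n24771 : Q := act 9 n19539
theorem D24771 : act 9 n19539 = n24771 := rfl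
theorem F111457 : act 0 n24771 = n21101 := d8_1 D24771 (iv D21101) (iv F88587)
theorem F111461 : act 8 n24771 = n19724 := d44_1 D24771 (iv D19724) (iv D15431) (iv F69961) D19539
def n24772 : Q := act 7 n19541
theorem D24772 : act 7 n19541 = n24772 := rfl
theorem F111466 : act 5 n24772 = n19542 := d36_1 D24772 (iv D19542) D19541
def n24773 : Q := act 8 n19541
theorem D24773 : act 8 n19541 = n24773 := rfl
theorem F111468 : act 0 n24773 = n19544 := d7_1 D24773 (iv D19544) (iv F88596)
def n24774 : Q := act 6 n19543
theorem D24774 : act 6 n19543 = n24774 := rfl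
theorem F111472 : act 1 n24774 = n19545 := d13_1 D24774 (iv D19545) (iv F88606)
def n24775 : Q := act 8 n19543
theorem D24775 : act 8 n19543 = n24775 := rfl
theorem F111476 : act 1 n24775 = n19546 := d15_1 D24775 (iv D19546) (iv F88606)
theorem F111479 : act 7 n24775 = n19544 := d42_1 D24775 (iv D19544) D19543
def n24776 : Q := act 9 n19544
theorem D24776 : act 9 n19544 = n24776 := rfl
theorem F111480 : act 1 n24776 = n19547 := d16_1 D24776 (iv D19547) (iv F88611)
theorem F111481 : act 2 n24776 = n24776 := d23_1 D24776 (iv D24776) F88612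
theorem F111482 : act 4 n24776 = n24776 := d34_1 D24776 (iv D24776) F88613
theorem F111483 : act 8 n24776 = n19729 := d44_1 D24776 (iv D19729) (iv D15436) (iv F69978) D19544
def n24777 : Q := act 8 n19545
theorem D24777 : act 8 n19545 = n24777 := rfl
theorem F111484 : act 0 n24777 = n21107 := d7_1 D24777 (iv D21107) (iv F88614)
theorem F111485 : act 2 n24777 = n19548 := d22_1 D24777 (iv D19548) (iv F88615)
theorem F111486 : act 4 n24777 = n24777 := d33_1 D24777 (iv D24777) F88616
theorem F111487 : act 6 n24777 = n19546 := d40_1 D24777 (iv D19546) D19545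
def n24778 : Q := act 9 n19546
theorem D24778 : act 9 n19546 = n24778 := rfl
theorem F111488 : act 0 n24778 = n21108 := d8_1 D24778 (iv D21108) (iv F88618)
theorem F111489 : act 2 n24778 = n19549 := d23_1 D24778 (iv D19549) (iv F88619)
theorem F111490 : act 4 n24778 = n24778 := d34_1 D24778 (iv D24778) F88620
theorem F111491 : act 7 n24778 = n19547 := d43_1 D24778 (iv D19547) (iv F88621)
theorem F111492 : act 8 n24778 = n19731 := d44_1 D24778 (iv D19731) (iv D15438) (iv F69987) D19546
def n24779 : Q := act 5 n19548
theorem D24779 : act 5 n19548 = n24779 := rfl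
theorem F111493 : act 0 n24779 = n21109 := d4_1 D24779 (iv D21109) (iv F88626)
theorem F111494 : act 1 n24779 = n24779 := d12_1 D24779 (iv D24779) F88627
theorem F111495 : act 3 n24779 = n19550 := d25_1 D24779 (iv D19550) (iv F88628)
def n24780 : Q := act 9 n19548
theorem D24780 : act 9 n19548 = n24780 := rfl
theorem F111496 : act 0 n24780 = n21110 := d8_1 D24780 (iv D21110) (iv F88626)
theorem F111497 : act 1 n24780 = n24780 := d16_1 D24780 (iv D24780) F88627
theorem F111498 : act 3 n24780 = n19551 := d29_1 D24780 (iv D19551) (iv F88628)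
theorem F111499 : act 4 n24780 = n24780 := d34_1 D24780 (iv D24780) F88629
theorem F111500 : act 6 n24780 = n19549 := d41_1 D24780 (iv D19549) (iv F88630)
theorem F111501 : act 8 n24780 = n19733 := d44_1 D24780 (iv D19733) (iv D15440) (iv F69995) D19548
def n24781 : Q := act 4 n19550
theorem D24781 : act 4 n19550 = n24781 := rfl
theorem F111502 : act 0 n24781 = n21111 := d3_1 D24781 (iv D21111) (iv F88637)
theorem F111503 : act 1 n24781 = n24781 := d11_1 D24781 (iv D24781) F88638
theorem F111504 : act 5 n24781 = n19552 := d30_2 D19550 D24781 (iv D19552) (iv D15299) (iv F70008)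
def n24782 : Q := act 9 n19550
theorem D24782 : act 9 n19550 = n24782 := rfl
theorem F111505 : act 0 n24782 = n21112 := d8_1 D24782 (iv D21112) (iv F88637)
theorem F111506 : act 1 n24782 = n24782 := d16_1 D24782 (iv D24782) F88638
theorem F111507 : act 5 n24782 = n19551 := d38_1 D24782 (iv D19551) D19550
def n24783 : Q := act 3 n19552
theorem D24783 : act 3 n19552 = n24783 := rfl
def n24784 : Q := act 9 n19552
theorem D24784 : act 9 n19552 = n24784 := rfl
theorem F111515 : act 4 n24784 = n19553 := d34_1 D24784 (iv D19553) D19552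
def n24807 : Q := act 8 n19567
theorem D24807 : act 8 n19567 = n24807 := rfl
theorem F111638 : act 5 n24807 = n19592 := d37_1 D24807 (iv D19592) F70176 (iv F70081) (iv F88729)
def n24813 : Q := act 8 n19571
theorem D24813 : act 8 n19571 = n24813 := rfl
theorem F111667 : act 6 n24813 = n19572 := d40_1 D24813 (iv D19572) D19571
def n24814 : Q := act 9 n19572
theorem D24814 : act 9 n19572 = n24814 := rfl
theorem F111672 : act 5 n24814 = n19597 := d38_1 D24814 (iv D19597) (iv F88753)
def n24826 : Q := act 8 n19584
theorem D24826 : act 8 n19584 = n24826 := rfl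
theorem F111741 : act 1 n24826 = n21154 := d15_1 D24826 (iv D21154) (iv F88822)
def n24834 : Q := act 8 n19590
theorem D24834 : act 8 n19590 = n24834 := rfl
theorem F111779 : act 0 n24834 = n21162 := d7_1 D24834 (iv D21162) (iv F88852)
def n24837 : Q := act 9 n19592
theorem D24837 : act 9 n19592 = n24837 := rfl
theorem F111791 : act 0 n24837 = n21165 := d8_1 D24837 (iv D21165) (iv F88861)
def n24839 : Q := act 9 n19594
theorem D24839 : act 9 n19594 = n24839 := rfl
theorem F111801 : act 0 n24839 = n21167 := d8_1 D24839 (iv D21167) (iv F88871)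
def n24845 : Q := act 2 n19600
theorem D24845 : act 2 n19600 = n24845 := rfl
theorem F111836 : act 5 n24845 = n19922 := d19_2 F108980 D24845 F108983
def n24855 : Q := act 0 n19608
theorem D24855 : act 0 n19608 = n24855 := rfl
theorem F111882 : act 1 n24855 = n19632 := d0_2 D19608 D24855 (iv D19632) (iv D15363) (iv F70258)
theorem F111883 : act 2 n24855 = n21183 := d1_2 (iv F88942) D24855 (iv D21183)
theorem F111888 : act 6 n21280 = n24855 := d20_0 F111883 F95018 (iv F95407)
def n24856 : Q := act 6 n19608
theorem D24856 : act 6 n19608 = n24856 := rfl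
theorem F111890 : act 1 n24856 = n19609 := d13_1 D24856 (iv D19609) D19608
theorem F111891 : act 2 n24856 = n19691 := d20_1 D24856 (iv F89314) (iv F88942)
theorem F111895 : act 5 n19685 = n24856 := d19_0 F111891 (iv D19691) (iv F89287)
def n24857 : Q := act 5 n19609
theorem D24857 : act 5 n19609 = n24857 := rfl
theorem F111896 : act 0 n24857 = n19634 := d4_1 D24857 (iv D19634) (iv F88947)
theorem F111897 : act 1 n24857 = n19685 := d12_1 D24857 F111895 F111890
theorem F111898 : act 2 n24857 = n19610 := d19_1 D24857 (iv D19610) (iv F88948)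
theorem F111900 : act 4 n19683 = n24857 := d11_0 F111897 F89289 (iv F89278)
theorem F111901 : act 8 n19681 = n24857 := d15_0 F111897 (iv D19685) (iv F89272)
def n24858 : Q := act 7 n19609
theorem D24858 : act 7 n19609 = n24858 := rfl
theorem F111903 : act 2 n24858 = n19611 := d21_1 D24858 (iv D19611) (iv F88948)
theorem F111906 : act 6 n24858 = n19617 := d39_1 D24858 (iv D19617) (iv D15349) (iv F70261) D19609
def n24859 : Q := act 4 n19610
theorem D24859 : act 4 n19610 = n24859 := rfl
theorem F111908 : act 0 n24859 = n19636 := d3_1 D24859 (iv D19636) (iv F88952)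
theorem F111909 : act 1 n24859 = n19647 := d11_1 D24859 F89134 (iv F88953)
theorem F111910 : act 2 n24859 = n19683 := d18_1 D24859 F111900 F111898
theorem F111911 : act 3 n24859 = n24859 := d24_1 D24859 (iv D24859) F88954 F70271 (iv F88954)
theorem F111912 : act 5 n24859 = n24859 := d30_2 D19610 D24859 (iv D24859) (iv D19610) F70266
theorem F111913 : act 8 n19643 = n24859 := d22_0 F111910 (iv D19683) (iv F89116)
def n24860 : Q := act 7 n19610
theorem D24860 : act 7 n19610 = n24860 := rfl
theorem F111914 : act 0 n24860 = n19637 := d6_1 D24860 (iv D19637) (iv F88952)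
theorem F111917 : act 5 n24860 = n19611 := d36_1 D24860 (iv D19611) D19610
def n24861 : Q := act 8 n19610
theorem D24861 : act 8 n19610 = n24861 := rfl
theorem F111918 : act 0 n24861 = n19638 := d7_1 D24861 (iv D19638) (iv F88952)
theorem F111919 : act 1 n24861 = n19645 := d15_1 D24861 F89127 (iv F88953)
theorem F111920 : act 2 n24861 = n19681 := d22_1 D24861 F111901 F111898
theorem F111921 : act 3 n24861 = n19613 := d28_1 D24861 (iv D19613) (iv F88954)
theorem F111922 : act 4 n24861 = n19643 := d33_1 D24861 F111913 (iv D24859)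
theorem F111923 : act 5 n24861 = n24861 := d37_1 D24861 (iv D24861) (iv D19610) F70267 D19610
def n24863 : Q := act 8 n19612
theorem D24863 : act 8 n19612 = n24863 := rfl
theorem F111929 : act 0 n24863 = n19640 := d7_1 D24863 (iv D19640) (iv F88961)
theorem F111930 : act 1 n24863 = n21187 := d15_1 D24863 (iv D21187) (iv F88962)
theorem F111934 : act 7 n24863 = n19613 := d42_1 D24863 (iv D19613) D19612
def n24864 : Q := act 9 n19613
theorem D24864 : act 9 n19613 = n24864 := rfl
theorem F111935 : act 0 n24864 = n19641 := d8_1 D24864 (iv D19641) (iv F88966)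
theorem F111937 : act 2 n24864 = n24864 := d23_1 D24864 (iv D24864) F88968
theorem F111938 : act 4 n24864 = n24864 := d34_1 D24864 (iv D24864) F88969
theorem F111939 : act 5 n24864 = n24864 := d38_1 D24864 (iv D24864) F88970
def n24865 : Q := act 6 n19614
theorem D24865 : act 6 n19614 = n24865 := rfl
theorem F111941 : act 1 n24865 = n19642 := d13_1 D24865 (iv D19642) (iv F88971)
theorem F111942 : act 2 n24865 = n21189 := d20_1 D24865 (iv D21189) (iv F88972)
def n24866 : Q := act 7 n19615
theorem D24866 : act 7 n19615 = n24866 := rfl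
theorem F111947 : act 1 n24866 = n19617 := d14_1 D24866 (iv D19617) (iv F88976)
theorem F111948 : act 2 n24866 = n21191 := d21_1 D24866 (iv D21191) (iv F88977)
def n24867 : Q := act 7 n19616
theorem D24867 : act 7 n19616 = n24867 := rfl
theorem F111953 : act 0 n24867 = n19646 := d6_1 D24867 (iv D19646) (iv F88981)
theorem F111954 : act 1 n24867 = n21264 := d14_1 D24867 F95361 F88996
def n24868 : Q := act 7 n19618
theorem D24868 : act 7 n19618 = n24868 := rfl
theorem F111963 : act 3 n24868 = n19626 := d27_1 D24868 (iv D19626) (iv F88991)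
theorem F111964 : act 4 n24868 = n19619 := d32_1 D24868 (iv D19619) D19618
theorem F111966 : act 8 n24868 = n21216 := d42_2 F88994 D24868 (iv D21216)
def n24869 : Q := act 6 n19619
theorem D24869 : act 6 n19619 = n24869 := rfl
theorem F111967 : act 0 n24869 = n19650 := d5_1 D24869 (iv D19650) (iv F88999)
def n24870 : Q := act 8 n19619
theorem D24870 : act 8 n19619 = n24870 := rfl
theorem F111973 : act 3 n24870 = n19622 := d28_1 D24870 (iv D19622) (iv F89001)
theorem F111974 : act 4 n24870 = n21216 := d33_1 D24870 (iv F111966) F111964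
def n24871 : Q := act 9 n19620
theorem D24871 : act 9 n19620 = n24871 := rfl
theorem F111978 : act 1 n24871 = n21199 := d16_1 D24871 (iv D21199) (iv F89004)
def n24874 : Q := act 6 n19625
theorem D24874 : act 6 n19625 = n24874 := rfl
theorem F111996 : act 2 n24874 = n19627 := d20_1 D24874 (iv D19627) (iv F89034)
theorem F112000 : act 8 n24874 = n22852 := d40_2 (iv F89038) D24874 (iv D22852)
def n24875 : Q := act 6 n19626
theorem D24875 : act 6 n19626 = n24875 := rfl
theorem F112004 : act 4 n24875 = n19627 := d31_1 D24875 (iv D19627) (iv F89042)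
theorem F112005 : act 8 n24875 = n22851 := d40_2 (iv F89044) D24875 (iv D22851)
def n24876 : Q := act 8 n19627
theorem D24876 : act 8 n19627 = n24876 := rfl
theorem F112008 : act 2 n24876 = n22852 := d22_1 D24876 (iv F112000) F111996
def n24877 : Q := act 9 n19628
theorem D24877 : act 9 n19628 = n24877 := rfl
theorem F112015 : act 3 n24877 = n19631 := d29_1 D24877 (iv D19631) (iv F89052)
theorem F112017 : act 5 n24877 = n19766 := d38_1 D24877 (iv D19766) (iv F89054)
def n24878 : Q := act 5 n19630
theorem D24878 : act 5 n19630 = n24878 := rfl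
theorem F112022 : act 6 n24878 = n19767 := d35_2 (iv F89065) D24878 (iv D19767) F70839 (iv F70346)
def n24880 : Q := act 6 n19632
theorem D24880 : act 6 n19632 = n24880 := rfl
theorem F112028 : act 0 n24880 = n19633 := d5_1 D24880 (iv D19633) D19632
theorem F112029 : act 1 n24880 = n21280 := d13_1 D24880 F111888 F111882
theorem F112030 : act 2 n24880 = n19666 := d20_1 D24880 (iv D19666) (iv F89071)
theorem F112034 : act 5 n21274 = n24880 := d12_0 F112029 (iv D21280) (iv F95388)
def n24881 : Q := act 5 n19633
theorem D24881 : act 5 n19633 = n24881 := rfl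
theorem F112035 : act 0 n24881 = n21274 := d4_1 D24881 F112034 F112028
theorem F112036 : act 1 n24881 = n19634 := d12_1 D24881 (iv D19634) (iv F89076)
theorem F112037 : act 2 n24881 = n19667 := d19_1 D24881 (iv D19667) (iv F89077)
theorem F112039 : act 4 n21272 = n24881 := d3_0 F112035 F95390 (iv F95381)
theorem F112040 : act 8 n21270 = n24881 := d7_0 F112035 (iv D21274) (iv F95375)
def n24882 : Q := act 7 n19633
theorem D24882 : act 7 n19633 = n24882 := rfl
theorem F112041 : act 1 n24882 = n19635 := d14_1 D24882 (iv D19635) (iv F89076)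
theorem F112042 : act 2 n24882 = n19668 := d21_1 D24882 (iv D19668) (iv F89077)
theorem F112045 : act 6 n24882 = n19644 := d39_1 D24882 (iv D19644) (iv D15370) (iv F70355) D19633
def n24883 : Q := act 4 n19634
theorem D24883 : act 4 n19634 = n24883 := rfl
theorem F112047 : act 0 n24883 = n19683 := d3_1 D24883 F111900 F111896
theorem F112048 : act 1 n24883 = n21272 := d11_1 D24883 F112039 F112036
theorem F112049 : act 2 n24883 = n19636 := d18_1 D24883 (iv D19636) (iv F89081)
theorem F112052 : act 8 n19679 = n24883 := d15_0 F112048 (iv D21272) (iv F89265)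
def n24884 : Q := act 7 n19634
theorem D24884 : act 7 n19634 = n24884 := rfl
theorem F112053 : act 2 n24884 = n19637 := d21_1 D24884 (iv D19637) (iv F89081)
theorem F112055 : act 5 n24884 = n19635 := d36_1 D24884 (iv D19635) D19634
def n24885 : Q := act 8 n19634
theorem D24885 : act 8 n19634 = n24885 := rfl
theorem F112056 : act 0 n24885 = n19681 := d7_1 D24885 F111901 F111896
theorem F112057 : act 1 n24885 = n21270 := d15_1 D24885 F112040 F112036
def n24886 : Q := act 7 n19636
theorem D24886 : act 7 n19636 = n24886 := rfl
theorem F112064 : act 4 n24886 = n19637 := d32_1 D24886 (iv D19637) D19636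
def n24887 : Q := act 8 n19636
theorem D24887 : act 8 n19636 = n24887 := rfl
theorem F112066 : act 0 n24887 = n19643 := d7_1 D24887 F111913 F111908
theorem F112068 : act 2 n24887 = n19679 := d22_1 D24887 F112052 F112049
theorem F112071 : act 5 n19642 = n24887 := d19_0 F112068 (iv D19679) (iv F89111)
def n24888 : Q := act 6 n19637
theorem D24888 : act 6 n19637 = n24888 := rfl
theorem F112072 : act 1 n24888 = n19674 := d13_1 D24888 (iv D19674) (iv F89091)
theorem F112074 : act 5 n24888 = n19650 := d35_1 D24888 (iv D19650) F70396 (iv F70366) (iv F89093)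
def n24889 : Q := act 8 n19637
theorem D24889 : act 8 n19637 = n24889 := rfl
theorem F112076 : act 3 n24889 = n19640 := d28_1 D24889 (iv D19640) (iv F89092)
def n24890 : Q := act 9 n19638
theorem D24890 : act 9 n19638 = n24890 := rfl
theorem F112079 : act 1 n24890 = n19676 := d16_1 D24890 (iv D19676) (iv F89094)
theorem F112080 : act 3 n24890 = n19641 := d29_1 D24890 (iv D19641) (iv F89095)
theorem F112081 : act 5 n24890 = n24890 := d38_1 D24890 (iv D24890) F89096
def n24891 : Q := act 8 n19639
theorem D24891 : act 8 n19639 = n24891 := rfl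
theorem F112082 : act 1 n24891 = n19677 := d15_1 D24891 (iv D19677) (iv F89097)
theorem F112085 : act 6 n24891 = n19640 := d40_1 D24891 (iv D19640) D19639
def n24892 : Q := act 9 n19640
theorem D24892 : act 9 n19640 = n24892 := rfl
theorem F112086 : act 1 n24892 = n19678 := d16_1 D24892 (iv D19678) (iv F89101)
theorem F112087 : act 2 n24892 = n24892 := d23_1 D24892 (iv D24892) F89102
theorem F112088 : act 4 n24892 = n24892 := d34_1 D24892 (iv D24892) F89103
theorem F112089 : act 5 n24892 = n24892 := d38_1 D24892 (iv D24892) F89104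
theorem F112090 : act 7 n24892 = n19641 := d43_1 D24892 (iv D19641) (iv F89105)
def n24893 : Q := act 7 n19642
theorem D24893 : act 7 n19642 = n24893 := rfl
theorem F112092 : act 2 n24893 = n19680 := d21_1 D24893 (iv D19680) (iv F89111)
def n24894 : Q := act 7 n19643
theorem D24894 : act 7 n19643 = n24894 := rfl
theorem F112096 : act 1 n24894 = n19646 := d14_1 D24894 (iv D19646) (iv F89115)
def n24895 : Q := act 7 n19645
theorem D24895 : act 7 n19645 = n24895 := rfl
theorem F112102 : act 3 n24895 = n21187 := d27_1 D24895 F95038 F89126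
theorem F112105 : act 8 n24895 = n21185 := d42_2 (iv F89127) D24895 (iv D21185)
def n24898 : Q := act 9 n19647
theorem D24898 : act 9 n19647 = n24898 := rfl
theorem F112117 : act 4 n24898 = n20840 := d34_1 D24898 F93709 (iv F89134)
def n24900 : Q := act 8 n19648
theorem D24900 : act 8 n19648 = n24900 := rfl
theorem F112127 : act 7 n24900 = n19649 := d42_1 D24900 (iv D19649) D19648
theorem F112128 : act 5 n21184 = n24900 := d36_3 F112127 (iv F89145) D21184
def n24901 : Q := act 9 n19649
theorem D24901 : act 9 n19649 = n24901 := rfl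
theorem F112133 : act 4 n24901 = n19652 := d34_1 D24901 (iv D19652) (iv F89144)
theorem F112134 : act 5 n24901 = n20839 := d38_1 D24901 F93706 F89145
def n24910 : Q := act 8 n19659
theorem D24910 : act 8 n19659 = n24910 := rfl
theorem F112175 : act 6 n24910 = n19660 := d40_1 D24910 (iv D19660) D19659
theorem F112176 : act 5 n22825 = n24910 := d35_5 F112175 (iv F89195) F80192 (iv F80227) D22825
def n24911 : Q := act 9 n19660
theorem D24911 : act 9 n19660 = n24911 := rfl
theorem F112181 : act 5 n24911 = n22384 := d38_1 D24911 F100032 F89195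
theorem F112182 : act 7 n24911 = n19661 := d43_1 D24911 (iv D19661) (iv F89194)
def n24912 : Q := act 5 n19662
theorem D24912 : act 5 n19662 = n24912 := rfl
theorem F112185 : act 6 n24912 = n19775 := d35_2 (iv F89203) D24912 (iv D19775) F70896 (iv F70441)
def n24916 : Q := act 5 n19666
theorem D24916 : act 5 n19666 = n24916 := rfl
theorem F112198 : act 0 n24916 = n19667 := d4_1 D24916 (iv D19667) (iv F89215)
theorem F112200 : act 2 n24916 = n21274 := d19_1 D24916 F112034 F112030
theorem F112201 : act 3 n24916 = n19706 := d25_1 D24916 (iv D19706) (iv F89217)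
theorem F112202 : act 4 n21227 = n24916 := d18_0 F112200 F95390 (iv F95214)
theorem F112203 : act 8 n21225 = n24916 := d22_0 F112200 (iv D21274) (iv F95207)
def n24917 : Q := act 7 n19666
theorem D24917 : act 7 n19666 = n24917 := rfl
theorem F112206 : act 3 n24917 = n19707 := d27_1 D24917 (iv D19707) (iv F89217)
theorem F112208 : act 6 n24917 = n19680 := d39_1 D24917 (iv D19680) (iv D15399) (iv F70456) D19666
def n24918 : Q := act 4 n19667
theorem D24918 : act 4 n19667 = n24918 := rfl
theorem F112211 : act 1 n24918 = n19669 := d11_1 D24918 (iv D19669) (iv F89220)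
theorem F112212 : act 2 n24918 = n21272 := d18_1 D24918 F112039 F112037
theorem F112214 : act 3 n22859 = n24918 := d17_0 F112212 F95382 F75305 (iv F80549) (iv F101962)
def n24919 : Q := act 7 n19667
theorem D24919 : act 7 n19667 = n24919 := rfl
theorem F112217 : act 3 n24919 = n19709 := d27_1 D24919 (iv D19709) (iv F89221)
def n24920 : Q := act 8 n19667
theorem D24920 : act 8 n19667 = n24920 := rfl
theorem F112219 : act 0 n24920 = n21225 := d7_1 D24920 F112203 F112198
theorem F112221 : act 2 n24920 = n21270 := d22_1 D24920 F112040 F112037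
def n24921 : Q := act 3 n19669
theorem D24921 : act 3 n19669 = n24921 := rfl
theorem F112226 : act 1 n24921 = n22859 := d10_1 D24921 F112214 F112211
theorem F112228 : act 4 n24921 = n19711 := d24_2 D19669 D24921 (iv D19711) (iv D15423) (iv F70464)
theorem F112230 : act 8 n22822 = n24921 := d15_0 F112226 (iv D22859) (iv F101809)
def n24922 : Q := act 7 n19669
theorem D24922 : act 7 n19669 = n24922 := rfl
theorem F112231 : act 0 n24922 = n21259 := d6_1 D24922 (iv D21259) (iv F89227)
theorem F112232 : act 2 n24922 = n19672 := d21_1 D24922 (iv D19672) (iv F89228)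
def n24923 : Q := act 8 n19669
theorem D24923 : act 8 n19669 = n24923 := rfl
theorem F112237 : act 2 n24923 = n19673 := d22_1 D24923 (iv D19673) (iv F89228)
theorem F112238 : act 3 n24923 = n22822 := d28_1 D24923 F112230 (iv D24921)
theorem F112239 : act 4 n24923 = n19671 := d33_1 D24923 (iv D19671) D19669
def n24924 : Q := act 6 n19670
theorem D24924 : act 6 n19670 = n24924 := rfl
theorem F112242 : act 2 n24924 = n19674 := d20_1 D24924 (iv D19674) (iv F89231)
theorem F112243 : act 3 n24924 = n19714 := d26_1 D24924 (iv D19714) (iv F89232)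
theorem F112244 : act 5 n24924 = n19686 := d35_1 D24924 (iv D19686) F70511 (iv F70469) (iv F89233)
def n24925 : Q := act 8 n19670
theorem D24925 : act 8 n19670 = n24925 := rfl
theorem F112246 : act 2 n24925 = n19675 := d22_1 D24925 (iv D19675) (iv F89231)
theorem F112247 : act 3 n24925 = n19715 := d28_1 D24925 (iv D19715) (iv F89232)
def n24927 : Q := act 6 n19672
theorem D24927 : act 6 n19672 = n24927 := rfl
theorem F112254 : act 0 n24927 = n21263 := d5_1 D24927 (iv D21263) (iv F89238)
theorem F112256 : act 4 n24927 = n19674 := d31_1 D24927 (iv D19674) (iv F89240)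
def n24929 : Q := act 9 n19673
theorem D24929 : act 9 n19673 = n24929 := rfl
theorem F112263 : act 4 n24929 = n19676 := d34_1 D24929 (iv D19676) (iv F89244)
def n24930 : Q := act 8 n19674
theorem D24930 : act 8 n19674 = n24930 := rfl
theorem F112264 : act 0 n24930 = n21266 := d7_1 D24930 (iv D21266) (iv F89245)
theorem F112265 : act 3 n24930 = n19677 := d28_1 D24930 (iv D19677) (iv F89246)
def n24931 : Q := act 9 n19675
theorem D24931 : act 9 n19675 = n24931 := rfl
theorem F112267 : act 0 n24931 = n21267 := d8_1 D24931 (iv D21267) (iv F89248)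
theorem F112268 : act 3 n24931 = n19678 := d29_1 D24931 (iv D19678) (iv F89249)
def n24932 : Q := act 5 n19677
theorem D24932 : act 5 n19677 = n24932 := rfl
theorem F112274 : act 8 n24932 = n19695 := d37_2 D19677 D24932 (iv D19695) (iv D15410) (iv F70483)
def n24933 : Q := act 9 n19677
theorem D24933 : act 9 n19677 = n24933 := rfl
theorem F112275 : act 0 n24933 = n21269 := d8_1 D24933 (iv D21269) (iv F89255)
theorem F112276 : act 2 n24933 = n19724 := d23_1 D24933 (iv D19724) (iv F89256)
theorem F112277 : act 4 n24933 = n24933 := d34_1 D24933 (iv D24933) F89257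
theorem F112278 : act 6 n24933 = n19678 := d41_1 D24933 (iv D19678) (iv F89258)
def n24934 : Q := act 7 n19679
theorem D24934 : act 7 n19679 = n24934 := rfl
theorem F112282 : act 5 n24934 = n19680 := d36_1 D24934 (iv D19680) D19679
def n24935 : Q := act 7 n19681
theorem D24935 : act 7 n19681 = n24935 := rfl
theorem F112285 : act 4 n24935 = n19682 := d32_1 D24935 (iv D19682) D19681
def n24936 : Q := act 6 n19682
theorem D24936 : act 6 n19682 = n24936 := rfl
theorem F112287 : act 1 n24936 = n19686 := d13_1 D24936 (iv D19686) (iv F89275)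
def n24937 : Q := act 8 n19682
theorem D24937 : act 8 n19682 = n24937 := rfl
theorem F112292 : act 7 n24937 = n19683 := d42_1 D24937 (iv D19683) D19682
def n24938 : Q := act 9 n19683
theorem D24938 : act 9 n19683 = n24938 := rfl
theorem F112293 : act 1 n24938 = n19688 := d16_1 D24938 (iv D19688) (iv F89278)
theorem F112294 : act 3 n24938 = n19729 := d29_1 D24938 (iv D19729) (iv F89279)
theorem F112295 : act 5 n24938 = n24938 := d38_1 D24938 (iv D24938) F89280
def n24939 : Q := act 6 n19684
theorem D24939 : act 6 n19684 = n24939 := rfl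
theorem F112297 : act 2 n24939 = n19689 := d20_1 D24939 (iv D19689) (iv F89282)
theorem F112299 : act 4 n24939 = n19686 := d31_1 D24939 (iv D19686) (iv F89284)
def n24940 : Q := act 8 n19684
theorem D24940 : act 8 n19684 = n24940 := rfl
theorem F112301 : act 2 n24940 = n19690 := d22_1 D24940 (iv D19690) (iv F89282)
theorem F112303 : act 4 n24940 = n19687 := d33_1 D24940 (iv D19687) (iv F89284)
def n24941 : Q := act 9 n19685
theorem D24941 : act 9 n19685 = n24941 := rfl
theorem F112308 : act 4 n24941 = n19688 := d34_1 D24941 (iv D19688) (iv F89289)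
def n24942 : Q := act 8 n19686
theorem D24942 : act 8 n19686 = n24942 := rfl
theorem F112310 : act 2 n24942 = n19693 := d22_1 D24942 (iv D19693) (iv F89291)
theorem F112311 : act 3 n24942 = n19730 := d28_1 D24942 (iv D19730) (iv F89292)
def n24943 : Q := act 9 n19687
theorem D24943 : act 9 n19687 = n24943 := rfl
theorem F112314 : act 2 n24943 = n19694 := d23_1 D24943 (iv D19694) (iv F89294)
theorem F112315 : act 3 n24943 = n19731 := d29_1 D24943 (iv D19731) (iv F89295)
theorem F112317 : act 7 n24943 = n19688 := d43_1 D24943 (iv D19688) (iv F89297)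
def n24945 : Q := act 8 n19689
theorem D24945 : act 8 n19689 = n24945 := rfl
theorem F112322 : act 3 n24945 = n19698 := d28_1 D24945 (iv D19698) (iv F89303)
theorem F112323 : act 4 n24945 = n19693 := d33_1 D24945 (iv D19693) (iv F89304)
def n24946 : Q := act 5 n19690
theorem D24946 : act 5 n19690 = n24946 := rfl
theorem F112329 : act 7 n24946 = n19691 := d36_2 (iv F89308) D24946 (iv D19691)
theorem F112331 : act 6 n21191 = n24946 := d39_5 F112329 (iv F89314) F74865 D16542 D21191
def n24947 : Q := act 9 n19690
theorem D24947 : act 9 n19690 = n24947 := rfl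
theorem F112333 : act 3 n24947 = n19700 := d29_1 D24947 (iv D19700) (iv F89306)
theorem F112334 : act 4 n24947 = n19694 := d34_1 D24947 (iv D19694) (iv F89307)
def n24948 : Q := act 9 n19691
theorem D24948 : act 9 n19691 = n24948 := rfl
theorem F112338 : act 3 n24948 = n19701 := d29_1 D24948 (iv D19701) (iv F89311)
theorem F112341 : act 6 n24948 = n20838 := d41_1 D24948 F93701 F89314
def n24951 : Q := act 4 n19695
theorem D24951 : act 4 n19695 = n24951 := rfl
theorem F112350 : act 5 n24951 = n19704 := d30_2 D19695 D24951 (iv D19704) (iv D15418) (iv F70534)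
def n24952 : Q := act 9 n19695
theorem D24952 : act 9 n19695 = n24952 := rfl
theorem F112353 : act 2 n24952 = n19735 := d23_1 D24952 (iv D19735) (iv F89326)
def n24954 : Q := act 5 n19698
theorem D24954 : act 5 n19698 = n24954 := rfl
theorem F112360 : act 0 n24954 = n21294 := d4_1 D24954 (iv D21294) (iv F89336)
theorem F112363 : act 6 n24954 = n22823 := d35_2 (iv F89339) D24954 F101813 F89346 (iv D19699)
def n24956 : Q := act 9 n19699
theorem D24956 : act 9 n19699 = n24956 := rfl
theorem F112372 : act 5 n24956 = n19700 := d38_1 D24956 (iv D19700) D19699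
theorem F112373 : act 6 n24956 = n22392 := d41_1 D24956 F100065 F89346
theorem F112374 : act 7 n24956 = n19701 := d43_1 D24956 (iv D19701) (iv F89344)
def n24961 : Q := act 9 n19704
theorem D24961 : act 9 n19704 = n24961 := rfl
def n24962 : Q := act 8 n19705
theorem D24962 : act 8 n19705 = n24962 := rfl
def n24963 : Q := act 4 n19706
theorem D24963 : act 4 n19706 = n24963 := rfl
theorem F112401 : act 0 n24963 = n19708 := d3_1 D24963 (iv D19708) (iv F89374)
theorem F112404 : act 3 n24963 = n22862 := d24_1 D24963 F101973 (iv F95215) F112202 F112201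
theorem F112405 : act 5 n24963 = n19739 := d30_2 D19706 D24963 (iv D19739) (iv D15446) (iv F70576)
theorem F112406 : act 8 n22860 = n24963 := d28_0 F112404 (iv D22862) D22860
def n24965 : Q := act 8 n19706
theorem D24965 : act 8 n19706 = n24965 := rfl
theorem F112414 : act 3 n24965 = n21225 := d28_1 D24965 F112203 F112201
theorem F112415 : act 4 n24965 = n22860 := d33_1 D24965 F112406 (iv D24963)
def n24966 : Q := act 3 n19708
theorem D24966 : act 3 n19708 = n24966 := rfl
theorem F112417 : act 0 n24966 = n22862 := d2_1 D24966 (iv F112404) F112401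
theorem F112419 : act 4 n24966 = n22859 := d24_2 D19708 D24966 F112214 (iv D24918) F89221
theorem F112420 : act 5 n24966 = n19742 := d25_2 (iv F89385) D24966 (iv D19742)
theorem F112421 : act 2 n22907 = n24966 := d18_3 F112419 F101962 (iv F102152)
def n24967 : Q := act 7 n19708
theorem D24967 : act 7 n19708 = n24967 := rfl
theorem F112425 : act 4 n24967 = n19709 := d32_1 D24967 (iv D19709) D19708
theorem F112426 : act 5 n24967 = n19743 := d36_1 D24967 (iv D19743) (iv F89385)
def n24969 : Q := act 6 n19709
theorem D24969 : act 6 n19709 = n24969 := rfl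
theorem F112435 : act 5 n24969 = n19727 := d35_1 D24969 (iv D19727) F70637 (iv F70583) (iv F89388)
def n24973 : Q := act 8 n19711
theorem D24973 : act 8 n19711 = n24973 := rfl
theorem F112451 : act 4 n24973 = n22822 := d33_1 D24973 F112230 F112228
theorem F112452 : act 5 n23271 = n24973 := d30_0 F112451 (iv D22822) F80214 D18308 D23271
def n24974 : Q := act 6 n19712
theorem D24974 : act 6 n19712 = n24974 := rfl
theorem F112455 : act 4 n24974 = n19714 := d31_1 D24974 (iv D19714) (iv F89397)
def n24975 : Q := act 8 n19712
theorem D24975 : act 8 n19712 = n24975 := rfl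
theorem F112457 : act 0 n24975 = n21316 := d7_1 D24975 (iv D21316) (iv F89395)
theorem F112459 : act 4 n24975 = n19715 := d33_1 D24975 (iv D19715) (iv F89397)
def n24980 : Q := act 8 n19717
theorem D24980 : act 8 n19717 = n24980 := rfl
theorem F112481 : act 4 n24980 = n19721 := d33_1 D24980 (iv D19721) (iv F89415)
theorem F112482 : act 6 n24980 = n19718 := d40_1 D24980 (iv D19718) D19717
def n24981 : Q := act 5 n19718
theorem D24981 : act 5 n19718 = n24981 := rfl
theorem F112488 : act 8 n24981 = n19753 := d37_2 D19718 D24981 (iv D19753) (iv D15456) (iv F70598)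
def n24984 : Q := act 5 n19721
theorem D24984 : act 5 n19721 = n24984 := rfl
theorem F112504 : act 8 n24984 = n19732 := d37_2 D19721 D24984 (iv D19732) (iv D15440) (iv F70606)
def n24987 : Q := act 9 n19723
theorem D24987 : act 9 n19723 = n24987 := rfl
theorem F112514 : act 0 n24987 = n21328 := d8_1 D24987 (iv D21328) (iv F89441)
theorem F112515 : act 1 n24987 = n24987 := d16_1 D24987 (iv D24987) F89442
theorem F112516 : act 5 n24987 = n19724 := d38_1 D24987 (iv D19724) D19723
theorem F112517 : act 6 n24987 = n24987 := d41_1 D24987 (iv D24987) F89443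
def n24989 : Q := act 8 n19725
theorem D24989 : act 8 n19725 = n24989 := rfl
theorem F112527 : act 7 n24989 = n19726 := d42_1 D24989 (iv D19726) D19725
def n24990 : Q := act 9 n19726
theorem D24990 : act 9 n19726 = n24990 := rfl
theorem F112528 : act 0 n24990 = n19729 := d8_1 D24990 (iv D19729) (iv F89454)
def n24991 : Q := act 8 n19727
theorem D24991 : act 8 n19727 = n24991 := rfl
theorem F112533 : act 1 n24991 = n19730 := d15_1 D24991 (iv D19730) (iv F89459)
def n24992 : Q := act 9 n19728
theorem D24992 : act 9 n19728 = n24992 := rfl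
theorem F112537 : act 1 n24992 = n19731 := d16_1 D24992 (iv D19731) (iv F89462)
theorem F112541 : act 7 n24992 = n19729 := d43_1 D24992 (iv D19729) (iv F89466)
def n24993 : Q := act 5 n19730
theorem D24993 : act 5 n19730 = n24993 := rfl
theorem F112543 : act 2 n24993 = n19732 := d19_1 D24993 (iv D19732) (iv F89472)
def n24994 : Q := act 9 n19730
theorem D24994 : act 9 n19730 = n24994 := rfl
theorem F112545 : act 0 n24994 = n21335 := d8_1 D24994 (iv D21335) (iv F89471)
theorem F112546 : act 2 n24994 = n19733 := d23_1 D24994 (iv D19733) (iv F89472)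
theorem F112547 : act 4 n24994 = n24994 := d34_1 D24994 (iv D24994) F89473
theorem F112548 : act 6 n24994 = n19731 := d41_1 D24994 (iv D19731) (iv F89474)
def n24995 : Q := act 4 n19732
theorem D24995 : act 4 n19732 = n24995 := rfl
def n24996 : Q := act 9 n19732
theorem D24996 : act 9 n19732 = n24996 := rfl
theorem F112553 : act 0 n24996 = n21337 := d8_1 D24996 (iv D21337) (iv F89480)
theorem F112554 : act 1 n24996 = n24996 := d16_1 D24996 (iv D24996) F89481
theorem F112555 : act 3 n24996 = n19735 := d29_1 D24996 (iv D19735) (iv F89482)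
theorem F112556 : act 5 n24996 = n19733 := d38_1 D24996 (iv D19733) D19732
theorem F112557 : act 6 n24996 = n24996 := d41_1 D24996 (iv D24996) F89483
def n24999 : Q := act 8 n19735
theorem D24999 : act 8 n19735 = n24999 := rfl
def n25000 : Q := act 2 n19736
theorem D25000 : act 2 n19736 = n25000 := rfl
theorem F112572 : act 6 n25000 = n19789 := d20_2 (iv F89500) D25000 (iv D19789)
def n25001 : Q := act 9 n19736
theorem D25001 : act 9 n19736 = n25001 := rfl
theorem F112578 : act 6 n25001 = n19790 := d41_1 D25001 (iv D19790) (iv F89500)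
def n25003 : Q := act 3 n19739
theorem D25003 : act 3 n19739 = n25003 := rfl
theorem F112587 : act 5 n25003 = n22862 := d25_2 F112405 D25003 (iv F112404)
theorem F112590 : act 8 n23318 = n25003 := d37_0 F112587 (iv D22862) F80370 D18354 D23318
def n25005 : Q := act 8 n19739
theorem D25005 : act 8 n19739 = n25005 := rfl
theorem F112597 : act 1 n25005 = n21346 := d15_1 D25005 (iv D21346) (iv F89512)
theorem F112601 : act 5 n25005 = n23315 := d37_1 D25005 (iv D23315) (iv F101966) F112406 F112405
def n25006 : Q := act 8 n19740
theorem D25006 : act 8 n19740 = n25006 := rfl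
theorem F112609 : act 7 n25006 = n19741 := d42_1 D25006 (iv D19741) D19740
def n25007 : Q := act 9 n19741
theorem D25007 : act 9 n19741 = n25007 := rfl
theorem F112611 : act 1 n25007 = n21348 := d16_1 D25007 (iv D21348) (iv F89522)
def n25008 : Q := act 2 n19742
theorem D25008 : act 2 n19742 = n25008 := rfl
theorem F112620 : act 5 n25008 = n22907 := d19_2 F112420 D25008 F112421
theorem F112622 : act 8 n23353 = n25008 := d37_0 F112620 (iv D22907) F80542 D18401 D23353
def n25016 : Q := act 5 n19748
theorem D25016 : act 5 n19748 = n25016 := rfl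
theorem F112664 : act 2 n25016 = n25016 := d19_1 D25016 (iv D25016) F89555
theorem F112665 : act 3 n25016 = n19750 := d25_1 D25016 (iv D19750) (iv F89556)
theorem F112667 : act 8 n25016 = n23271 := d37_2 D19748 D25016 F112452 (iv D24973) F89394
def n25019 : Q := act 9 n19749
theorem D25019 : act 9 n19749 = n25019 := rfl
theorem F112678 : act 0 n25019 = n21360 := d8_1 D25019 (iv D21360) (iv F89559)
def n25029 : Q := act 5 n19764
theorem D25029 : act 5 n19764 = n25029 := rfl
theorem F112740 : act 1 n25029 = n21374 := d12_1 D25029 (iv D21374) (iv F89641)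
theorem F112746 : act 8 n25029 = n23330 := d37_2 (iv F89646) D25029 (iv D23330) (iv D18364) (iv F82585)
def n25030 : Q := act 5 n19765
theorem D25030 : act 5 n19765 = n25030 := rfl
theorem F112751 : act 3 n25030 = n19767 := d25_1 D25030 (iv D19767) (iv F89651)
theorem F112752 : act 4 n25030 = n23325 := d30_1 D25030 (iv D23325) F82647 (iv F82585) (iv F89652)
def n25031 : Q := act 9 n19765
theorem D25031 : act 9 n19765 = n25031 := rfl
theorem F112758 : act 3 n25031 = n19768 := d29_1 D25031 (iv D19768) (iv F89651)
theorem F112759 : act 4 n25031 = n23090 := d34_1 D25031 F103094 (iv F89652)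
theorem F112760 : act 6 n25031 = n19766 := d41_1 D25031 (iv D19766) (iv F89653)
def n25032 : Q := act 4 n19767
theorem D25032 : act 4 n19767 = n25032 := rfl
theorem F112764 : act 1 n25032 = n21379 := d11_1 D25032 (iv D21379) (iv F89663)
def n25034 : Q := act 5 n19769
theorem D25034 : act 5 n19769 = n25034 := rfl
theorem F112776 : act 2 n25034 = n19772 := d19_1 D25034 (iv D19772) (iv F89676)
theorem F112781 : act 8 n25034 = n23287 := d37_2 (iv F89680) D25034 (iv D23287) (iv D18322) (iv F82396)
def n25037 : Q := act 8 n19772
theorem D25037 : act 8 n19772 = n25037 := rfl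
theorem F112799 : act 1 n25037 = n19779 := d15_1 D25037 (iv D19779) (iv F89696)
theorem F112800 : act 2 n25037 = n23287 := d22_1 D25037 (iv F112781) F112776
theorem F112803 : act 5 n25037 = n23280 := d37_1 D25037 (iv D23280) F89709 (iv D19773) D19772
def n25038 : Q := act 9 n19773
theorem D25038 : act 9 n19773 = n25038 := rfl
theorem F112810 : act 4 n25038 = n19776 := d34_1 D25038 (iv D19776) (iv F89706)
theorem F112811 : act 5 n25038 = n23037 := d38_1 D25038 F102831 F89709
def n25039 : Q := act 4 n19775
theorem D25039 : act 4 n19775 = n25039 := rfl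
theorem F112818 : act 5 n25039 = n23277 := d30_2 D19775 D25039 F104029 F89709 F89706
def n25044 : Q := act 5 n19779
theorem D25044 : act 5 n19779 = n25044 := rfl
theorem F112839 : act 0 n25044 = n21397 := d4_1 D25044 (iv D21397) (iv F89736)
theorem F112840 : act 1 n25044 = n23280 := d12_1 D25044 (iv F112803) F112799
theorem F112844 : act 8 n25044 = n19780 := d37_2 D19779 D25044 (iv D19780) (iv D15488) D15487
theorem F112845 : act 6 n23274 = n25044 := d40_3 F112844 F89746 D23274
def n25046 : Q := act 4 n19780
theorem D25046 : act 4 n19780 = n25046 := rfl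
theorem F112853 : act 0 n25046 = n21399 := d3_1 D25046 (iv D21399) (iv F89742)
theorem F112854 : act 1 n25046 = n23277 := d11_1 D25046 F104029 (iv F89743)
theorem F112856 : act 5 n25046 = n19784 := d30_2 D19780 D25046 (iv D19784) (iv D15492) (iv F70922)
theorem F112857 : act 6 n25046 = n23273 := d31_2 (iv F89746) D25046 F104012
def n25047 : Q := act 9 n19780
theorem D25047 : act 9 n19780 = n25047 := rfl
theorem F112859 : act 0 n25047 = n21401 := d8_1 D25047 (iv D21401) (iv F89742)
theorem F112860 : act 1 n25047 = n23037 := d16_1 D25047 F102831 (iv F89743)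
theorem F112863 : act 5 n25047 = n19781 := d38_1 D25047 (iv D19781) D19780
def n25048 : Q := act 8 n19782
theorem D25048 : act 8 n19782 = n25048 := rfl
theorem F112872 : act 7 n25048 = n19783 := d42_1 D25048 (iv D19783) (iv F89761)
def n25049 : Q := act 3 n19784
theorem D25049 : act 3 n19784 = n25049 := rfl
theorem F112875 : act 4 n25049 = n19786 := d24_2 D19784 D25049 (iv D19786) (iv D15494) (iv F70946)
def n25052 : Q := act 2 n19786
theorem D25052 : act 2 n19786 = n25052 := rfl
theorem F112889 : act 3 n25052 = n19789 := d17_2 D19786 D25052 (iv D19789) (iv D15496) (iv F70956)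
def n25056 : Q := act 9 n19789
theorem D25056 : act 9 n19789 = n25056 := rfl
theorem F112909 : act 2 n25056 = n19790 := d23_1 D25056 (iv D19790) D19789
def n25060 : Q := act 5 n19793
theorem D25060 : act 5 n19793 = n25060 := rfl
theorem F112932 : act 3 n25060 = n19794 := d25_1 D25060 (iv D19794) (iv F89816)
theorem F112933 : act 6 n25060 = n19833 := d35_2 D19793 D25060 (iv D19833) (iv D15531) (iv F70983)
def n25063 : Q := act 8 n19794
theorem D25063 : act 8 n19794 = n25063 := rfl
theorem F112945 : act 1 n25063 = n19803 := d15_1 D25063 (iv D19803) (iv F89820)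
theorem F112946 : act 2 n25063 = n25063 := d22_1 D25063 (iv D25063) F89821
theorem F112947 : act 5 n25063 = n25063 := d37_1 D25063 (iv D25063) (iv D19794) F70990 D19794
theorem F112948 : act 6 n25063 = n19836 := d40_1 D25063 (iv D19836) (iv F89822)
def n25064 : Q := act 1 n19796
theorem D25064 : act 1 n19796 = n25064 := rfl
theorem F112951 : act 5 n25064 = n19851 := d12_2 (iv F89833) D25064 (iv D19851)
theorem F112953 : act 8 n25064 = n20838 := d15_2 (iv F89835) D25064 (iv D20838)
def n25065 : Q := act 6 n19796
theorem D25065 : act 6 n19796 = n25065 := rfl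
theorem F112956 : act 2 n25065 = n19797 := d20_1 D25065 (iv D19797) D19796
theorem F112957 : act 3 n25065 = n19805 := d26_1 D25065 (iv D19805) (iv F89831)
def n25066 : Q := act 5 n19797
theorem D25066 : act 5 n19797 = n25066 := rfl
theorem F112963 : act 6 n25066 = n19853 := d35_2 D19797 D25066 (iv D19853) (iv D15545) (iv F71000)
def n25068 : Q := act 7 n19798
theorem D25068 : act 7 n19798 = n25068 := rfl
theorem F112973 : act 4 n25068 = n19802 := d32_1 D25068 (iv D19802) (iv F89844)
theorem F112974 : act 5 n25068 = n19799 := d36_1 D25068 (iv D19799) D19798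
def n25069 : Q := act 8 n19798
theorem D25069 : act 8 n19798 = n25069 := rfl
theorem F112978 : act 4 n25069 = n19803 := d33_1 D25069 (iv D19803) (iv F89844)
theorem F112980 : act 6 n25069 = n19856 := d40_1 D25069 (iv D19856) (iv F89845)
def n25070 : Q := act 4 n19800
theorem D25070 : act 4 n19800 = n25070 := rfl
theorem F112983 : act 6 n25070 = n19857 := d31_2 (iv F89855) D25070 (iv D19857)
def n25071 : Q := act 7 n19800
theorem D25071 : act 7 n19800 = n25071 := rfl
theorem F112986 : act 3 n25071 = n19802 := d27_1 D25071 (iv D19802) (iv F89854)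
def n25072 : Q := act 8 n19800
theorem D25072 : act 8 n19800 = n25072 := rfl
theorem F112990 : act 3 n25072 = n19803 := d28_1 D25072 (iv D19803) (iv F89854)
theorem F112992 : act 6 n25072 = n19859 := d40_1 D25072 (iv D19859) (iv F89855)
def n25073 : Q := act 6 n19802
theorem D25073 : act 6 n19802 = n25073 := rfl
theorem F112993 : act 2 n25073 = n19810 := d20_1 D25073 (iv D19810) (iv F89863)
theorem F112995 : act 7 n25073 = n19860 := d39_2 D19802 D25073 (iv D19860) (iv D15550) (iv F71022)
def n25074 : Q := act 8 n19802
theorem D25074 : act 8 n19802 = n25074 := rfl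
theorem F112997 : act 2 n25074 = n19811 := d22_1 D25074 (iv D19811) (iv F89863)
theorem F112999 : act 7 n25074 = n19803 := d42_1 D25074 (iv D19803) D19802
def n25075 : Q := act 9 n19803
theorem D25075 : act 9 n19803 = n25075 := rfl
theorem F113000 : act 2 n25075 = n19812 := d23_1 D25075 (iv D19812) (iv F89866)
theorem F113001 : act 5 n25075 = n25075 := d38_1 D25075 (iv D25075) F89867
theorem F113002 : act 6 n25075 = n19862 := d41_1 D25075 (iv D19862) (iv F89868)
theorem F113003 : act 8 n25075 = n25075 := d44_1 D25075 (iv D25075) (iv D19803) F71023 D19803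
def n25077 : Q := act 5 n19805
theorem D25077 : act 5 n19805 = n25077 := rfl
theorem F113015 : act 6 n25077 = n19885 := d35_2 D19805 D25077 (iv D19885) (iv D15567) (iv F71031)
def n25078 : Q := act 7 n19805
theorem D25078 : act 7 n19805 = n25078 := rfl
theorem F113020 : act 6 n25078 = n22377 := d39_1 D25078 (iv D22377) (iv D17504) (iv F71032) D19805
def n25079 : Q := act 7 n19806
theorem D25079 : act 7 n19806 = n25079 := rfl
theorem F113027 : act 5 n25079 = n19807 := d36_1 D25079 (iv D19807) D19806
def n25081 : Q := act 6 n19808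
theorem D25081 : act 6 n19808 = n25081 := rfl
theorem F113039 : act 7 n25081 = n19889 := d39_2 D19808 D25081 (iv D19889) (iv D15570) (iv F71044)
def n25082 : Q := act 8 n19808
theorem D25082 : act 8 n19808 = n25082 := rfl
theorem F113043 : act 4 n25082 = n19811 := d33_1 D25082 (iv D19811) (iv F89895)
def n25083 : Q := act 9 n19809
theorem D25083 : act 9 n19809 = n25083 := rfl
theorem F113048 : act 4 n25083 = n19812 := d34_1 D25083 (iv D19812) (iv F89900)
theorem F113050 : act 6 n25083 = n19891 := d41_1 D25083 (iv D19891) (iv F89902)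
def n25084 : Q := act 8 n19810
theorem D25084 : act 8 n19810 = n25084 := rfl
theorem F113054 : act 6 n25084 = n19811 := d40_1 D25084 (iv D19811) D19810
theorem F113055 : act 7 n25084 = n19892 := d42_1 D25084 (iv D19892) (iv F89906)
def n25093 : Q := act 6 n19821
theorem D25093 : act 6 n19821 = n25093 := rfl
theorem F113107 : act 2 n25093 = n19822 := d20_1 D25093 (iv D19822) D19821
theorem F113110 : act 8 n25093 = n19932 := d40_2 (iv F89978) D25093 (iv D19932)
def n25094 : Q := act 5 n19822
theorem D25094 : act 5 n19822 = n25094 := rfl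
theorem F113112 : act 0 n25094 = n19833 := d4_1 D25094 (iv D19833) (iv F89980)
def n25095 : Q := act 7 n19822
theorem D25095 : act 7 n19822 = n25095 := rfl
theorem F113115 : act 0 n25095 = n19834 := d6_1 D25095 (iv D19834) (iv F89980)
theorem F113116 : act 3 n25095 = n19824 := d27_1 D25095 (iv D19824) (iv F89981)
theorem F113117 : act 4 n25095 = n20103 := d32_1 D25095 (iv D20103) (iv F89982)
theorem F113118 : act 6 n25095 = n25095 := d39_1 D25095 (iv D25095) (iv D19822) F71114 D19822
theorem F113119 : act 8 n25095 = n19934 := d42_2 (iv F89983) D25095 (iv D19934)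
theorem F113120 : act 9 n25095 = n25095 := d43_2 F89984 D25095 (iv D25095)
def n25096 : Q := act 7 n19823
theorem D25096 : act 7 n19823 = n25096 := rfl
theorem F113121 : act 0 n25096 = n19835 := d6_1 D25096 (iv D19835) (iv F89985)
theorem F113122 : act 2 n25096 = n25096 := d21_1 D25096 (iv D25096) F89986
theorem F113123 : act 5 n25096 = n19824 := d36_1 D25096 (iv D19824) D19823
theorem F113124 : act 9 n25096 = n25096 := d43_2 F89987 D25096 (iv D25096)
def n25097 : Q := act 8 n19823
theorem D25097 : act 8 n19823 = n25097 := rfl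
theorem F113125 : act 0 n25097 = n19836 := d7_1 D25097 (iv D19836) (iv F89985)
theorem F113126 : act 2 n25097 = n25097 := d22_1 D25097 (iv D25097) F89986
theorem F113127 : act 5 n25097 = n19936 := d37_1 D25097 (iv D19936) (iv D15606) (iv F71120) D19823
def n25098 : Q := act 2 n19825
theorem D25098 : act 2 n19825 = n25098 := rfl
theorem F113128 : act 3 n25098 = n25098 := d17_2 D19825 D25098 (iv D25098) (iv D19825) F71129
theorem F113129 : act 4 n25098 = n20115 := d18_2 (iv F89995) D25098 (iv D20115)
theorem F113130 : act 8 n25098 = n19828 := d22_2 (iv F89996) D25098 (iv D19828)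
def n25099 : Q := act 6 n19825
theorem D25099 : act 6 n19825 = n25099 := rfl
theorem F113131 : act 1 n25099 = n19844 := d13_1 D25099 (iv D19844) (iv F89994)
theorem F113132 : act 3 n25099 = n19826 := d26_1 D25099 (iv D19826) D19825
theorem F113133 : act 4 n25099 = n20116 := d31_1 D25099 (iv D20116) (iv F89995)
theorem F113134 : act 8 n25099 = n19829 := d40_2 (iv F89996) D25099 (iv D19829)
def n25100 : Q := act 5 n19826
theorem D25100 : act 5 n19826 = n25100 := rfl
theorem F113135 : act 1 n25100 = n19845 := d12_1 D25100 (iv D19845) (iv F89997)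
theorem F113136 : act 2 n25100 = n25100 := d19_1 D25100 (iv D25100) F89998
theorem F113137 : act 4 n25100 = n19942 := d30_1 D25100 (iv D19942) F71483 (iv F71134) (iv F89999)
def n25101 : Q := act 7 n19826
theorem D25101 : act 7 n19826 = n25101 := rfl
theorem F113138 : act 1 n25101 = n19846 := d14_1 D25101 (iv D19846) (iv F89997)
theorem F113139 : act 2 n25101 = n25101 := d21_1 D25101 (iv D25101) F89998
theorem F113140 : act 4 n25101 = n19827 := d32_1 D25101 (iv D19827) (iv F89999)
theorem F113141 : act 8 n25101 = n19831 := d42_2 (iv F90000) D25101 (iv D19831)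
def n25102 : Q := act 1 n19828
theorem D25102 : act 1 n19828 = n25102 := rfl
theorem F113142 : act 2 n25102 = n19851 := d9_2 D19828 D25102 (iv D19851) (iv D15544) (iv F71136)
theorem F113143 : act 3 n25102 = n25102 := d10_2 F90006 D25102 (iv D25102)
theorem F113144 : act 4 n25102 = n20123 := d11_2 (iv F90007) D25102 (iv D20123)
theorem F113145 : act 9 n25102 = n25102 := d16_2 F90008 D25102 (iv D25102)
def n25103 : Q := act 6 n19828
theorem D25103 : act 6 n19828 = n25103 := rfl
theorem F113146 : act 2 n25103 = n19829 := d20_1 D25103 (iv D19829) D19828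
theorem F113147 : act 3 n25103 = n25103 := d26_1 D25103 (iv D25103) F90006
theorem F113148 : act 4 n25103 = n20124 := d31_1 D25103 (iv D20124) (iv F90007)
theorem F113149 : act 9 n25103 = n25103 := d41_2 F90008 D25103 (iv D25103)
def n25104 : Q := act 5 n19829
theorem D25104 : act 5 n19829 = n25104 := rfl
theorem F113150 : act 1 n25104 = n19853 := d12_1 D25104 (iv D19853) (iv F90009)
theorem F113151 : act 3 n25104 = n19830 := d25_1 D25104 (iv D19830) (iv F90010)
theorem F113152 : act 9 n25104 = n25104 := d38_2 F90012 D25104 (iv D25104)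
def n25105 : Q := act 7 n19829
theorem D25105 : act 7 n19829 = n25105 := rfl
theorem F113153 : act 1 n25105 = n19854 := d14_1 D25105 (iv D19854) (iv F90009)
theorem F113154 : act 3 n25105 = n19831 := d27_1 D25105 (iv D19831) (iv F90010)
theorem F113155 : act 4 n25105 = n20126 := d32_1 D25105 (iv D20126) (iv F90011)
theorem F113156 : act 9 n25105 = n25105 := d43_2 F90012 D25105 (iv D25105)
def n25106 : Q := act 7 n19830
theorem D25106 : act 7 n19830 = n25106 := rfl
theorem F113157 : act 1 n25106 = n19855 := d14_1 D25106 (iv D19855) (iv F90013)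
theorem F113158 : act 2 n25106 = n25106 := d21_1 D25106 (iv D25106) F90014
theorem F113159 : act 4 n25106 = n19835 := d32_1 D25106 (iv D19835) (iv F90015)
theorem F113160 : act 5 n25106 = n19831 := d36_1 D25106 (iv D19831) D19830
theorem F113161 : act 9 n25106 = n25106 := d43_2 F90016 D25106 (iv D25106)
def n25107 : Q := act 8 n19830
theorem D25107 : act 8 n19830 = n25107 := rfl
theorem F113162 : act 1 n25107 = n19856 := d15_1 D25107 (iv D19856) (iv F90013)
theorem F113163 : act 2 n25107 = n25107 := d22_1 D25107 (iv D25107) F90014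
theorem F113164 : act 4 n25107 = n19836 := d33_1 D25107 (iv D19836) (iv F90015)
def n25108 : Q := act 5 n19832
theorem D25108 : act 5 n19832 = n25108 := rfl
theorem F113166 : act 2 n25108 = n19833 := d19_1 D25108 (iv D19833) (iv F90022)
def n25109 : Q := act 7 n19832
theorem D25109 : act 7 n19832 = n25109 := rfl
theorem F113170 : act 2 n25109 = n19834 := d21_1 D25109 (iv D19834) (iv F90022)
theorem F113174 : act 8 n25109 = n19951 := d42_2 (iv F90025) D25109 (iv D19951)
def n25110 : Q := act 4 n19833
theorem D25110 : act 4 n19833 = n25110 := rfl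
theorem F113176 : act 1 n25110 = n19857 := d11_1 D25110 (iv D19857) (iv F90027)
theorem F113177 : act 5 n25110 = n20131 := d30_2 D19833 D25110 (iv D20131) (iv D15753) (iv F71156)
theorem F113178 : act 9 n25110 = n25110 := d34_2 F90029 D25110 (iv D25110)
def n25111 : Q := act 7 n19833
theorem D25111 : act 7 n19833 = n25111 := rfl
theorem F113179 : act 1 n25111 = n19858 := d14_1 D25111 (iv D19858) (iv F90027)
theorem F113180 : act 3 n25111 = n19835 := d27_1 D25111 (iv D19835) (iv F90028)
theorem F113181 : act 5 n25111 = n19834 := d36_1 D25111 (iv D19834) D19833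
theorem F113182 : act 9 n25111 = n25111 := d43_2 F90029 D25111 (iv D25111)
def n25112 : Q := act 8 n19833
theorem D25112 : act 8 n19833 = n25112 := rfl
theorem F113183 : act 1 n25112 = n19859 := d15_1 D25112 (iv D19859) (iv F90027)
theorem F113184 : act 3 n25112 = n19836 := d28_1 D25112 (iv D19836) (iv F90028)
theorem F113185 : act 5 n25112 = n19954 := d37_1 D25112 (iv D19954) (iv D15618) (iv F71157) D19833
def n25113 : Q := act 6 n19835
theorem D25113 : act 6 n19835 = n25113 := rfl
theorem F113186 : act 1 n25113 = n19860 := d13_1 D25113 (iv D19860) (iv F90036)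
theorem F113187 : act 2 n25113 = n25113 := d20_1 D25113 (iv D25113) F90037
theorem F113188 : act 5 n25113 = n25113 := d35_1 D25113 (iv D25113) F90038 F71165 (iv F90038)
theorem F113189 : act 9 n25113 = n25113 := d41_2 F90039 D25113 (iv D25113)
def n25114 : Q := act 8 n19835
theorem D25114 : act 8 n19835 = n25114 := rfl
theorem F113190 : act 1 n25114 = n19861 := d15_1 D25114 (iv D19861) (iv F90036)
theorem F113191 : act 2 n25114 = n25114 := d22_1 D25114 (iv D25114) F90037
theorem F113192 : act 5 n25114 = n19956 := d37_1 D25114 (iv D19956) F71522 (iv F71166) (iv F90038)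
theorem F113193 : act 7 n25114 = n19836 := d42_1 D25114 (iv D19836) D19835
def n25115 : Q := act 9 n19836
theorem D25115 : act 9 n19836 = n25115 := rfl
theorem F113194 : act 1 n25115 = n19862 := d16_1 D25115 (iv D19862) (iv F90040)
theorem F113195 : act 2 n25115 = n25115 := d23_1 D25115 (iv D25115) F90041
theorem F113196 : act 5 n25115 = n19957 := d38_1 D25115 (iv D19957) (iv F90042)
theorem F113197 : act 8 n25115 = n25115 := d44_1 D25115 (iv D25115) (iv D19836) F71161 D19836
def n25116 : Q := act 2 n19837
theorem D25116 : act 2 n19837 = n25116 := rfl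
theorem F113200 : act 5 n25116 = n19843 := d19_2 (iv F90044) D25116 (iv D19843)
theorem F113202 : act 8 n25116 = n20305 := d22_2 (iv F90046) D25116 (iv D20305)
def n25117 : Q := act 6 n19837
theorem D25117 : act 6 n19837 = n25117 := rfl
theorem F113203 : act 0 n25117 = n20329 := d5_1 D25117 (iv D20329) (iv F90043)
theorem F113204 : act 3 n25117 = n19838 := d26_1 D25117 (iv D19838) D19837
theorem F113205 : act 8 n25117 = n20306 := d40_2 (iv F90046) D25117 (iv D20306)
def n25118 : Q := act 5 n19838
theorem D25118 : act 5 n19838 = n25118 := rfl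
theorem F113206 : act 0 n25118 = n20330 := d4_1 D25118 (iv D20330) (iv F90047)
theorem F113207 : act 2 n25118 = n19865 := d19_1 D25118 (iv D19865) (iv F90048)
theorem F113208 : act 4 n25118 = n19963 := d30_1 D25118 (iv D19963) F71536 (iv F71175) (iv F90049)
theorem F113209 : act 6 n25118 = n19845 := d35_2 D19838 D25118 (iv D19845) (iv D15539) (iv F71170)
def n25119 : Q := act 7 n19838
theorem D25119 : act 7 n19838 = n25119 := rfl
theorem F113210 : act 0 n25119 = n20331 := d6_1 D25119 (iv D20331) (iv F90047)
theorem F113211 : act 2 n25119 = n19866 := d21_1 D25119 (iv D19866) (iv F90048)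
theorem F113212 : act 4 n25119 = n19839 := d32_1 D25119 (iv D19839) (iv F90049)
theorem F113213 : act 6 n25119 = n20304 := d39_1 D25119 (iv D20304) (iv D15882) (iv F71171) D19838
theorem F113214 : act 8 n25119 = n20308 := d42_2 (iv F90050) D25119 (iv D20308)
def n25120 : Q := act 2 n19840
theorem D25120 : act 2 n19840 = n25120 := rfl
theorem F113215 : act 0 n25120 = n20324 := d1_1 D25120 (iv D20324) (iv F90056)
theorem F113217 : act 4 n25120 = n20147 := d18_2 (iv F90057) D25120 (iv D20147)
theorem F113218 : act 5 n25120 = n20301 := d19_2 (iv F90058) D25120 (iv D20301)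
theorem F113219 : act 7 n25120 = n19843 := d21_2 (iv F90059) D25120 (iv D19843)
def n25121 : Q := act 6 n19840
theorem D25121 : act 6 n19840 = n25121 := rfl
theorem F113221 : act 0 n25121 = n20325 := d5_1 D25121 (iv D20325) (iv F90056)
theorem F113222 : act 3 n25121 = n19841 := d26_1 D25121 (iv D19841) D19840
theorem F113223 : act 4 n25121 = n20148 := d31_1 D25121 (iv D20148) (iv F90057)
theorem F113224 : act 8 n25121 = n19848 := d40_2 (iv F90060) D25121 (iv D19848)
def n25122 : Q := act 5 n19841
theorem D25122 : act 5 n19841 = n25122 := rfl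
theorem F113225 : act 0 n25122 = n20326 := d4_1 D25122 (iv D20326) (iv F90061)
theorem F113226 : act 2 n25122 = n19869 := d19_1 D25122 (iv D19869) (iv F90062)
theorem F113227 : act 6 n25122 = n20303 := d35_2 D19841 D25122 (iv D20303) (iv D15882) (iv F71179)
def n25123 : Q := act 7 n19841
theorem D25123 : act 7 n19841 = n25123 := rfl
theorem F113228 : act 0 n25123 = n20327 := d6_1 D25123 (iv D20327) (iv F90061)
theorem F113229 : act 2 n25123 = n19870 := d21_1 D25123 (iv D19870) (iv F90062)
theorem F113230 : act 4 n25123 = n19842 := d32_1 D25123 (iv D19842) (iv F90063)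
theorem F113231 : act 6 n25123 = n19846 := d39_1 D25123 (iv D19846) (iv D15539) (iv F71180) D19841
theorem F113232 : act 8 n25123 = n19850 := d42_2 (iv F90064) D25123 (iv D19850)
def n25124 : Q := act 1 n19843
theorem D25124 : act 1 n19843 = n25124 := rfl
theorem F113233 : act 3 n25124 = n19871 := d10_2 (iv F90070) D25124 (iv D19871)
theorem F113234 : act 4 n25124 = n20155 := d11_2 (iv F90071) D25124 (iv D20155)
theorem F113235 : act 8 n25124 = n19851 := d15_2 (iv F90072) D25124 (iv D19851)
def n25125 : Q := act 6 n19843
theorem D25125 : act 6 n19843 = n25125 := rfl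
theorem F113236 : act 2 n25125 = n19844 := d20_1 D25125 (iv D19844) D19843
theorem F113237 : act 3 n25125 = n19872 := d26_1 D25125 (iv D19872) (iv F90070)
theorem F113238 : act 4 n25125 = n20156 := d31_1 D25125 (iv D20156) (iv F90071)
theorem F113239 : act 8 n25125 = n19852 := d40_2 (iv F90072) D25125 (iv D19852)
def n25126 : Q := act 5 n19844
theorem D25126 : act 5 n19844 = n25126 := rfl
theorem F113240 : act 3 n25126 = n19845 := d25_1 D25126 (iv D19845) (iv F90073)
def n25127 : Q := act 7 n19844
theorem D25127 : act 7 n19844 = n25127 := rfl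
theorem F113241 : act 3 n25127 = n19846 := d27_1 D25127 (iv D19846) (iv F90073)
theorem F113242 : act 4 n25127 = n20158 := d32_1 D25127 (iv D20158) (iv F90074)
theorem F113243 : act 8 n25127 = n19854 := d42_2 (iv F90075) D25127 (iv D19854)
def n25128 : Q := act 7 n19845
theorem D25128 : act 7 n19845 = n25128 := rfl
theorem F113244 : act 2 n25128 = n19875 := d21_1 D25128 (iv D19875) (iv F90076)
theorem F113245 : act 4 n25128 = n19969 := d32_1 D25128 (iv D19969) (iv F90077)
theorem F113246 : act 5 n25128 = n19846 := d36_1 D25128 (iv D19846) D19845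
def n25129 : Q := act 8 n19845
theorem D25129 : act 8 n19845 = n25129 := rfl
theorem F113247 : act 2 n25129 = n19876 := d22_1 D25129 (iv D19876) (iv F90076)
theorem F113248 : act 4 n25129 = n19970 := d33_1 D25129 (iv D19970) (iv F90077)
theorem F113249 : act 5 n25129 = n19856 := d37_1 D25129 (iv D19856) (iv D15546) (iv F71190) D19845
def n25130 : Q := act 1 n19847
theorem D25130 : act 1 n19847 = n25130 := rfl
theorem F113251 : act 4 n25130 = n20161 := d11_2 (iv F90083) D25130 (iv D20161)
theorem F113252 : act 5 n25130 = n20832 := d12_2 (iv F90084) D25130 (iv D20832)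
theorem F113253 : act 7 n25130 = n19851 := d14_2 (iv F90085) D25130 (iv D19851)
def n25131 : Q := act 6 n19847
theorem D25131 : act 6 n19847 = n25131 := rfl
theorem F113255 : act 0 n25131 = n20867 := d5_1 D25131 (iv D20867) (iv F90081)
theorem F113256 : act 2 n25131 = n19848 := d20_1 D25131 (iv D19848) D19847
theorem F113258 : act 4 n25131 = n20162 := d31_1 D25131 (iv D20162) (iv F90083)
def n25132 : Q := act 5 n19848
theorem D25132 : act 5 n19848 = n25132 := rfl
theorem F113260 : act 0 n25132 = n20868 := d4_1 D25132 (iv D20868) (iv F90087)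
theorem F113262 : act 6 n25132 = n20834 := d35_2 D19848 D25132 (iv D20834) (iv D16281) (iv F71197)
def n25133 : Q := act 7 n19848
theorem D25133 : act 7 n19848 = n25133 := rfl
theorem F113264 : act 0 n25133 = n20869 := d6_1 D25133 (iv D20869) (iv F90087)
theorem F113265 : act 3 n25133 = n19850 := d27_1 D25133 (iv D19850) (iv F90088)
theorem F113266 : act 4 n25133 = n20164 := d32_1 D25133 (iv D20164) (iv F90089)
theorem F113267 : act 6 n25133 = n19854 := d39_1 D25133 (iv D19854) (iv D15545) (iv F71198) D19848
theorem F113268 : act 9 n25133 = n25133 := d43_2 F90090 D25133 (iv D25133)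
def n25134 : Q := act 7 n19849
theorem D25134 : act 7 n19849 = n25134 := rfl
theorem F113269 : act 0 n25134 = n20870 := d6_1 D25134 (iv D20870) (iv F90091)
theorem F113272 : act 5 n25134 = n19850 := d36_1 D25134 (iv D19850) D19849
def n25136 : Q := act 0 n19851
theorem D25136 : act 0 n19851 = n25136 := rfl
theorem F113278 : act 3 n25136 = n19883 := d2_2 (iv F90101) D25136 (iv D19883)
theorem F113279 : act 4 n25136 = n20167 := d3_2 (iv F90102) D25136 (iv D20167)
def n25137 : Q := act 6 n19851
theorem D25137 : act 6 n19851 = n25137 := rfl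
theorem F113281 : act 1 n25137 = n19852 := d13_1 D25137 (iv D19852) D19851
theorem F113282 : act 3 n25137 = n19884 := d26_1 D25137 (iv D19884) (iv F90101)
theorem F113283 : act 4 n25137 = n20168 := d31_1 D25137 (iv D20168) (iv F90102)
theorem F113284 : act 9 n25137 = n25137 := d41_2 F90103 D25137 (iv D25137)
def n25138 : Q := act 5 n19852
theorem D25138 : act 5 n19852 = n25138 := rfl
theorem F113285 : act 2 n25138 = n19853 := d19_1 D25138 (iv D19853) (iv F90104)
theorem F113286 : act 3 n25138 = n19885 := d25_1 D25138 (iv D19885) (iv F90105)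
def n25139 : Q := act 7 n19852
theorem D25139 : act 7 n19852 = n25139 := rfl
theorem F113288 : act 2 n25139 = n19854 := d21_1 D25139 (iv D19854) (iv F90104)
theorem F113289 : act 3 n25139 = n19886 := d27_1 D25139 (iv D19886) (iv F90105)
theorem F113290 : act 4 n25139 = n20170 := d32_1 D25139 (iv D20170) (iv F90106)
theorem F113291 : act 9 n25139 = n25139 := d43_2 F90107 D25139 (iv D25139)
def n25140 : Q := act 4 n19853
theorem D25140 : act 4 n19853 = n25140 := rfl
theorem F113292 : act 3 n25140 = n19857 := d24_1 D25140 (iv D19857) F71223 (iv F71217) (iv F90108)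
theorem F113293 : act 5 n25140 = n20171 := d30_2 D19853 D25140 (iv D20171) (iv D15780) (iv F71214)
theorem F113294 : act 9 n25140 = n25140 := d34_2 F90109 D25140 (iv D25140)
def n25141 : Q := act 7 n19853
theorem D25141 : act 7 n19853 = n25141 := rfl
theorem F113295 : act 3 n25141 = n19855 := d27_1 D25141 (iv D19855) (iv F90108)
theorem F113296 : act 5 n25141 = n19854 := d36_1 D25141 (iv D19854) D19853
theorem F113297 : act 9 n25141 = n25141 := d43_2 F90109 D25141 (iv D25141)
def n25142 : Q := act 8 n19853
theorem D25142 : act 8 n19853 = n25142 := rfl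
theorem F113298 : act 3 n25142 = n19856 := d28_1 D25142 (iv D19856) (iv F90108)
def n25143 : Q := act 6 n19855
theorem D25143 : act 6 n19855 = n25143 := rfl
theorem F113299 : act 2 n25143 = n19889 := d20_1 D25143 (iv D19889) (iv F90113)
theorem F113300 : act 4 n25143 = n19860 := d31_1 D25143 (iv D19860) (iv F90114)
def n25144 : Q := act 8 n19855
theorem D25144 : act 8 n19855 = n25144 := rfl
theorem F113302 : act 2 n25144 = n19890 := d22_1 D25144 (iv D19890) (iv F90113)
theorem F113303 : act 4 n25144 = n19861 := d33_1 D25144 (iv D19861) (iv F90114)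
theorem F113304 : act 7 n25144 = n19856 := d42_1 D25144 (iv D19856) D19855
def n25145 : Q := act 9 n19856
theorem D25145 : act 9 n19856 = n25145 := rfl
theorem F113305 : act 2 n25145 = n19891 := d23_1 D25145 (iv D19891) (iv F90117)
theorem F113306 : act 4 n25145 = n19862 := d34_1 D25145 (iv D19862) (iv F90118)
theorem F113307 : act 8 n25145 = n25145 := d44_1 D25145 (iv D25145) (iv D19856) F71218 D19856
def n25146 : Q := act 7 n19857
theorem D25146 : act 7 n19857 = n25146 := rfl
theorem F113308 : act 2 n25146 = n25146 := d21_1 D25146 (iv D25146) F90119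
theorem F113309 : act 4 n25146 = n19858 := d32_1 D25146 (iv D19858) D19857
theorem F113310 : act 5 n25146 = n20177 := d36_1 D25146 (iv D20177) (iv F90120)
theorem F113311 : act 9 n25146 = n25146 := d43_2 F90121 D25146 (iv D25146)
def n25147 : Q := act 8 n19857
theorem D25147 : act 8 n19857 = n25147 := rfl
theorem F113312 : act 2 n25147 = n25147 := d22_1 D25147 (iv D25147) F90119
theorem F113313 : act 4 n25147 = n19859 := d33_1 D25147 (iv D19859) D19857
def n25148 : Q := act 6 n19858
theorem D25148 : act 6 n19858 = n25148 := rfl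
theorem F113315 : act 3 n25148 = n19860 := d26_1 D25148 (iv D19860) (iv F90123)
def n25149 : Q := act 8 n19858
theorem D25149 : act 8 n19858 = n25149 := rfl
theorem F113318 : act 2 n25149 = n25149 := d22_1 D25149 (iv D25149) F90122
theorem F113319 : act 3 n25149 = n19861 := d28_1 D25149 (iv D19861) (iv F90123)
theorem F113320 : act 5 n25149 = n19984 := d37_1 D25149 (iv D19984) F71577 (iv F71229) (iv F90124)
theorem F113321 : act 7 n25149 = n19859 := d42_1 D25149 (iv D19859) D19858
def n25150 : Q := act 9 n19859
theorem D25150 : act 9 n19859 = n25150 := rfl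
theorem F113322 : act 2 n25150 = n25150 := d23_1 D25150 (iv D25150) F90126
theorem F113323 : act 3 n25150 = n19862 := d29_1 D25150 (iv D19862) (iv F90127)
theorem F113324 : act 5 n25150 = n19985 := d38_1 D25150 (iv D19985) (iv F90128)
theorem F113325 : act 8 n25150 = n25150 := d44_1 D25150 (iv D25150) (iv D19859) F71224 D19859
def n25151 : Q := act 8 n19860
theorem D25151 : act 8 n19860 = n25151 := rfl
theorem F113326 : act 2 n25151 = n19892 := d22_1 D25151 (iv D19892) (iv F90129)
theorem F113327 : act 6 n25151 = n19861 := d40_1 D25151 (iv D19861) D19860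
def n25152 : Q := act 9 n19861
theorem D25152 : act 9 n19861 = n25152 := rfl
theorem F113328 : act 2 n25152 = n19893 := d23_1 D25152 (iv D19893) (iv F90132)
theorem F113329 : act 5 n25152 = n19987 := d38_1 D25152 (iv D19987) (iv F90133)
theorem F113330 : act 7 n25152 = n19862 := d43_1 D25152 (iv D19862) (iv F90134)
theorem F113331 : act 8 n25152 = n25152 := d44_1 D25152 (iv D25152) (iv D19861) F71233 D19861
def n25153 : Q := act 1 n19863
theorem D25153 : act 1 n19863 = n25153 := rfl
theorem F113334 : act 5 n25153 = n19871 := d12_2 (iv F90140) D25153 (iv D19871)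
theorem F113336 : act 8 n25153 = n21657 := d15_2 (iv F90142) D25153 (iv D21657)
def n25155 : Q := act 5 n19864
theorem D25155 : act 5 n19864 = n25155 := rfl
theorem F113343 : act 3 n25155 = n19865 := d25_1 D25155 (iv D19865) (iv F90145)
theorem F113344 : act 6 n25155 = n19873 := d35_2 D19864 D25155 (iv D19873) (iv D15559) (iv F71239)
def n25156 : Q := act 7 n19864
theorem D25156 : act 7 n19864 = n25156 := rfl
theorem F113345 : act 0 n25156 = n21694 := d6_1 D25156 (iv D21694) (iv F90143)
theorem F113347 : act 3 n25156 = n19866 := d27_1 D25156 (iv D19866) (iv F90145)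
def n25157 : Q := act 7 n19865
theorem D25157 : act 7 n19865 = n25157 := rfl
theorem F113351 : act 0 n25157 = n21695 := d6_1 D25157 (iv D21695) (iv F90148)
theorem F113352 : act 1 n25157 = n25157 := d14_1 D25157 (iv D25157) F90149
theorem F113353 : act 4 n25157 = n19992 := d32_1 D25157 (iv D19992) (iv F90150)
theorem F113354 : act 5 n25157 = n19866 := d36_1 D25157 (iv D19866) D19865
def n25158 : Q := act 8 n19865
theorem D25158 : act 8 n19865 = n25158 := rfl
theorem F113357 : act 4 n25158 = n19993 := d33_1 D25158 (iv D19993) (iv F90150)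
theorem F113358 : act 5 n25158 = n21662 := d37_1 D25158 (iv D21662) (iv D16931) (iv F71245) D19865
theorem F113359 : act 6 n25158 = n19876 := d40_1 D25158 (iv D19876) (iv F90151)
def n25159 : Q := act 1 n19867
theorem D25159 : act 1 n19867 = n25159 := rfl
theorem F113361 : act 4 n25159 = n19894 := d11_2 (iv F90158) D25159 (iv D19894)
theorem F113362 : act 5 n25159 = n21651 := d12_2 (iv F90159) D25159 (iv D21651)
theorem F113363 : act 7 n25159 = n19871 := d14_2 (iv F90160) D25159 (iv D19871)
def n25160 : Q := act 6 n19867
theorem D25160 : act 6 n19867 = n25160 := rfl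
theorem F113367 : act 4 n25160 = n19895 := d31_1 D25160 (iv D19895) (iv F90158)
theorem F113368 : act 8 n25160 = n19878 := d40_2 (iv F90161) D25160 (iv D19878)
def n25161 : Q := act 5 n19868
theorem D25161 : act 5 n19868 = n25161 := rfl
theorem F113371 : act 3 n25161 = n19869 := d25_1 D25161 (iv D19869) (iv F90164)
theorem F113372 : act 6 n25161 = n21653 := d35_2 D19868 D25161 (iv D21653) (iv D16926) (iv F71255)
def n25162 : Q := act 7 n19868
theorem D25162 : act 7 n19868 = n25162 := rfl
theorem F113375 : act 3 n25162 = n19870 := d27_1 D25162 (iv D19870) (iv F90164)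
theorem F113376 : act 4 n25162 = n19897 := d32_1 D25162 (iv D19897) (iv F90165)
theorem F113377 : act 6 n25162 = n19874 := d39_1 D25162 (iv D19874) (iv D15559) (iv F71256) D19868
def n25163 : Q := act 7 n19869
theorem D25163 : act 7 n19869 = n25163 := rfl
theorem F113379 : act 0 n25163 = n21689 := d6_1 D25163 (iv D21689) (iv F90167)
theorem F113380 : act 1 n25163 = n25163 := d14_1 D25163 (iv D25163) F90168
theorem F113381 : act 5 n25163 = n19870 := d36_1 D25163 (iv D19870) D19869
def n25164 : Q := act 8 n19869
theorem D25164 : act 8 n19869 = n25164 := rfl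
theorem F113385 : act 6 n25164 = n21656 := d40_1 D25164 (iv D21656) (iv F90169)
def n25165 : Q := act 0 n19871
theorem D25165 : act 0 n19871 = n25165 := rfl
theorem F113387 : act 4 n25165 = n19900 := d3_2 (iv F90176) D25165 (iv D19900)
theorem F113388 : act 8 n25165 = n19883 := d7_2 (iv F90177) D25165 (iv D19883)
def n25166 : Q := act 6 n19871
theorem D25166 : act 6 n19871 = n25166 := rfl
theorem F113389 : act 1 n25166 = n19872 := d13_1 D25166 (iv D19872) D19871
theorem F113390 : act 2 n25166 = n25166 := d20_1 D25166 (iv D25166) F90175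
theorem F113391 : act 4 n25166 = n19901 := d31_1 D25166 (iv D19901) (iv F90176)
theorem F113392 : act 8 n25166 = n19884 := d40_2 (iv F90177) D25166 (iv D19884)
def n25167 : Q := act 5 n19872
theorem D25167 : act 5 n19872 = n25167 := rfl
theorem F113393 : act 2 n25167 = n19873 := d19_1 D25167 (iv D19873) (iv F90178)
def n25168 : Q := act 7 n19872
theorem D25168 : act 7 n19872 = n25168 := rfl
theorem F113394 : act 2 n25168 = n19874 := d21_1 D25168 (iv D19874) (iv F90178)
theorem F113395 : act 4 n25168 = n19903 := d32_1 D25168 (iv D19903) (iv F90179)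
theorem F113396 : act 8 n25168 = n19886 := d42_2 (iv F90180) D25168 (iv D19886)
def n25169 : Q := act 4 n19873
theorem D25169 : act 4 n19873 = n25169 := rfl
theorem F113397 : act 1 n25169 = n25169 := d11_1 D25169 (iv D25169) F90181
theorem F113398 : act 3 n25169 = n19998 := d24_1 D25169 (iv D19998) F71610 (iv F71274) (iv F90182)
theorem F113399 : act 5 n25169 = n19904 := d30_2 D19873 D25169 (iv D19904) (iv D15581) (iv F71271)
def n25170 : Q := act 7 n19873
theorem D25170 : act 7 n19873 = n25170 := rfl
theorem F113400 : act 1 n25170 = n25170 := d14_1 D25170 (iv D25170) F90181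
theorem F113401 : act 3 n25170 = n19875 := d27_1 D25170 (iv D19875) (iv F90182)
theorem F113402 : act 5 n25170 = n19874 := d36_1 D25170 (iv D19874) D19873
def n25171 : Q := act 8 n19873
theorem D25171 : act 8 n19873 = n25171 := rfl
theorem F113404 : act 3 n25171 = n19876 := d28_1 D25171 (iv D19876) (iv F90182)
theorem F113405 : act 5 n25171 = n19888 := d37_1 D25171 (iv D19888) (iv D15568) (iv F71272) D19873
def n25172 : Q := act 6 n19875
theorem D25172 : act 6 n19875 = n25172 := rfl
theorem F113406 : act 1 n25172 = n25172 := d13_1 D25172 (iv D25172) F90187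
theorem F113407 : act 4 n25172 = n20001 := d31_1 D25172 (iv D20001) (iv F90188)
def n25173 : Q := act 8 n19875
theorem D25173 : act 8 n19875 = n25173 := rfl
theorem F113408 : act 1 n25173 = n25173 := d15_1 D25173 (iv D25173) F90187
theorem F113409 : act 4 n25173 = n20002 := d33_1 D25173 (iv D20002) (iv F90188)
theorem F113410 : act 5 n25173 = n19890 := d37_1 D25173 (iv D19890) F71314 (iv F71277) (iv F90189)
theorem F113411 : act 7 n25173 = n19876 := d42_1 D25173 (iv D19876) D19875
def n25174 : Q := act 9 n19876
theorem D25174 : act 9 n19876 = n25174 := rfl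
theorem F113412 : act 1 n25174 = n25174 := d16_1 D25174 (iv D25174) F90190
theorem F113413 : act 4 n25174 = n20003 := d34_1 D25174 (iv D20003) (iv F90191)
theorem F113414 : act 5 n25174 = n19891 := d38_1 D25174 (iv D19891) (iv F90192)
def n25175 : Q := act 0 n19877
theorem D25175 : act 0 n19877 = n25175 := rfl
theorem F113417 : act 4 n25175 = n19907 := d3_2 (iv F90194) D25175 (iv D19907)
theorem F113418 : act 5 n25175 = n22374 := d4_2 (iv F90195) D25175 (iv D22374)
theorem F113419 : act 7 n25175 = n19883 := d6_2 (iv F90196) D25175 (iv D19883)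
def n25178 : Q := act 7 n19878
theorem D25178 : act 7 n19878 = n25178 := rfl
theorem F113431 : act 4 n25178 = n19910 := d32_1 D25178 (iv D19910) (iv F90200)
theorem F113432 : act 6 n25178 = n19886 := d39_1 D25178 (iv D19886) (iv D15567) (iv F71281) D19878
def n25185 : Q := act 6 n19883
theorem D25185 : act 6 n19883 = n25185 := rfl
theorem F113464 : act 0 n25185 = n19884 := d5_1 D25185 (iv D19884) D19883
theorem F113466 : act 4 n25185 = n19916 := d31_1 D25185 (iv D19916) (iv F90223)
def n25186 : Q := act 5 n19884
theorem D25186 : act 5 n19884 = n25186 := rfl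
theorem F113468 : act 1 n25186 = n19885 := d12_1 D25186 (iv D19885) (iv F90225)
def n25187 : Q := act 7 n19884
theorem D25187 : act 7 n19884 = n25187 := rfl
theorem F113472 : act 1 n25187 = n19886 := d14_1 D25187 (iv D19886) (iv F90225)
theorem F113473 : act 2 n25187 = n25187 := d21_1 D25187 (iv D25187) F90226
theorem F113474 : act 4 n25187 = n19917 := d32_1 D25187 (iv D19917) (iv F90227)
theorem F113475 : act 9 n25187 = n25187 := d43_2 F90228 D25187 (iv D25187)
def n25188 : Q := act 7 n19885
theorem D25188 : act 7 n19885 = n25188 := rfl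
theorem F113476 : act 2 n25188 = n19887 := d21_1 D25188 (iv D19887) (iv F90229)
theorem F113478 : act 5 n25188 = n19886 := d36_1 D25188 (iv D19886) D19885
def n25191 : Q := act 8 n19887
theorem D25191 : act 8 n19887 = n25191 := rfl
theorem F113487 : act 3 n25191 = n19890 := d28_1 D25191 (iv D19890) (iv F90236)
def n25192 : Q := act 9 n19888
theorem D25192 : act 9 n19888 = n25192 := rfl
theorem F113491 : act 3 n25192 = n19891 := d29_1 D25192 (iv D19891) (iv F90241)
def n25193 : Q := act 8 n19889
theorem D25193 : act 8 n19889 = n25193 := rfl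
theorem F113495 : act 4 n25193 = n19892 := d33_1 D25193 (iv D19892) (iv F90244)
theorem F113496 : act 6 n25193 = n19890 := d40_1 D25193 (iv D19890) D19889
def n25194 : Q := act 9 n19890
theorem D25194 : act 9 n19890 = n25194 := rfl
theorem F113497 : act 1 n25194 = n25194 := d16_1 D25194 (iv D25194) F90246
theorem F113498 : act 4 n25194 = n19893 := d34_1 D25194 (iv D19893) (iv F90247)
theorem F113499 : act 7 n25194 = n19891 := d43_1 D25194 (iv D19891) (iv F90248)
theorem F113500 : act 8 n25194 = n25194 := d44_1 D25194 (iv D25194) (iv D19890) F71315 D19890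
def n25195 : Q := act 5 n19892
theorem D25195 : act 5 n19892 = n25195 := rfl
theorem F113501 : act 1 n25195 = n25195 := d12_1 D25195 (iv D25195) F90252
theorem F113502 : act 3 n25195 = n25195 := d25_1 D25195 (iv D25195) F90253
theorem F113503 : act 6 n25195 = n20014 := d35_2 (iv F90254) D25195 (iv D20014) F71656 (iv F71324)
theorem F113504 : act 8 n25195 = n25195 := d37_2 D19892 D25195 (iv D25195) (iv D19892) F71320
def n25196 : Q := act 9 n19892
theorem D25196 : act 9 n19892 = n25196 := rfl
theorem F113505 : act 1 n25196 = n25196 := d16_1 D25196 (iv D25196) F90252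
theorem F113506 : act 3 n25196 = n25196 := d29_1 D25196 (iv D25196) F90253
theorem F113507 : act 6 n25196 = n19893 := d41_1 D25196 (iv D19893) (iv F90254)
theorem F113508 : act 8 n25196 = n25196 := d44_1 D25196 (iv D25196) (iv D19892) F71321 D19892
def n25197 : Q := act 0 n19894
theorem D25197 : act 0 n19894 = n25197 := rfl
theorem F113510 : act 3 n25197 = n20262 := d2_2 (iv F90261) D25197 (iv D20262)
theorem F113512 : act 7 n25197 = n19900 := d6_2 (iv F90263) D25197 (iv D19900)
theorem F113513 : act 8 n25197 = n19907 := d7_2 (iv F90264) D25197 (iv D19907)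
def n25198 : Q := act 6 n19894
theorem D25198 : act 6 n19894 = n25198 := rfl
theorem F113514 : act 1 n25198 = n19895 := d13_1 D25198 (iv D19895) D19894
theorem F113516 : act 3 n25198 = n20263 := d26_1 D25198 (iv D20263) (iv F90261)
theorem F113517 : act 8 n25198 = n19908 := d40_2 (iv F90264) D25198 (iv D19908)
def n25199 : Q := act 5 n19895
theorem D25199 : act 5 n19895 = n25199 := rfl
theorem F113518 : act 2 n25199 = n19896 := d19_1 D25199 (iv D19896) (iv F90265)
theorem F113519 : act 3 n25199 = n20264 := d25_1 D25199 (iv D20264) (iv F90266)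
def n25200 : Q := act 7 n19895
theorem D25200 : act 7 n19895 = n25200 := rfl
theorem F113521 : act 2 n25200 = n19897 := d21_1 D25200 (iv D19897) (iv F90265)
theorem F113522 : act 3 n25200 = n20265 := d27_1 D25200 (iv D20265) (iv F90266)
theorem F113523 : act 6 n25200 = n19903 := d39_1 D25200 (iv D19903) (iv D15580) (iv F71332) D19895
theorem F113524 : act 8 n25200 = n19910 := d42_2 (iv F90267) D25200 (iv D19910)
def n25201 : Q := act 4 n19896
theorem D25201 : act 4 n19896 = n25201 := rfl
theorem F113525 : act 1 n25201 = n25201 := d11_1 D25201 (iv D25201) F90268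
theorem F113526 : act 6 n25201 = n25201 := d31_2 F90270 D25201 (iv D25201)
def n25202 : Q := act 7 n19896
theorem D25202 : act 7 n19896 = n25202 := rfl
theorem F113527 : act 1 n25202 = n25202 := d14_1 D25202 (iv D25202) F90268
theorem F113528 : act 3 n25202 = n19898 := d27_1 D25202 (iv D19898) (iv F90269)
theorem F113529 : act 5 n25202 = n19897 := d36_1 D25202 (iv D19897) D19896
def n25203 : Q := act 8 n19896
theorem D25203 : act 8 n19896 = n25203 := rfl
theorem F113531 : act 3 n25203 = n19899 := d28_1 D25203 (iv D19899) (iv F90269)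
theorem F113532 : act 5 n25203 = n19913 := d37_1 D25203 (iv D19913) (iv D15586) (iv F71336) D19896
def n25204 : Q := act 6 n19898
theorem D25204 : act 6 n19898 = n25204 := rfl
theorem F113534 : act 1 n25204 = n25204 := d13_1 D25204 (iv D25204) F90275
theorem F113535 : act 2 n25204 = n20269 := d20_1 D25204 (iv D20269) (iv F90276)
theorem F113536 : act 5 n25204 = n19906 := d35_1 D25204 (iv D19906) F71362 (iv F71343) (iv F90277)
theorem F113537 : act 7 n25204 = n25204 := d39_2 D19898 D25204 (iv D25204) (iv D19898) F71339
def n25205 : Q := act 8 n19898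
theorem D25205 : act 8 n19898 = n25205 := rfl
theorem F113538 : act 1 n25205 = n25205 := d15_1 D25205 (iv D25205) F90275
theorem F113539 : act 2 n25205 = n20270 := d22_1 D25205 (iv D20270) (iv F90276)
theorem F113540 : act 5 n25205 = n19914 := d37_1 D25205 (iv D19914) F71383 (iv F71344) (iv F90277)
theorem F113541 : act 7 n25205 = n19899 := d42_1 D25205 (iv D19899) D19898
def n25206 : Q := act 9 n19899
theorem D25206 : act 9 n19899 = n25206 := rfl
theorem F113543 : act 2 n25206 = n20271 := d23_1 D25206 (iv D20271) (iv F90279)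
theorem F113544 : act 5 n25206 = n19915 := d38_1 D25206 (iv D19915) (iv F90280)
def n25207 : Q := act 6 n19900
theorem D25207 : act 6 n19900 = n25207 := rfl
theorem F113546 : act 0 n25207 = n19901 := d5_1 D25207 (iv D19901) D19900
theorem F113547 : act 2 n25207 = n25207 := d20_1 D25207 (iv D25207) F90282
theorem F113548 : act 3 n25207 = n20281 := d26_1 D25207 (iv D20281) (iv F90283)
theorem F113549 : act 8 n25207 = n19916 := d40_2 (iv F90285) D25207 (iv D19916)
def n25208 : Q := act 5 n19901
theorem D25208 : act 5 n19901 = n25208 := rfl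
theorem F113550 : act 1 n25208 = n19902 := d12_1 D25208 (iv D19902) (iv F90286)
theorem F113551 : act 2 n25208 = n25208 := d19_1 D25208 (iv D25208) F90287
theorem F113552 : act 3 n25208 = n20282 := d25_1 D25208 (iv D20282) (iv F90288)
theorem F113553 : act 6 n25208 = n25208 := d35_2 D19901 D25208 (iv D25208) (iv D19901) F71347
theorem F113554 : act 8 n25208 = n25208 := d37_2 (iv F90289) D25208 (iv D25208) F90289 F71397
def n25209 : Q := act 7 n19901
theorem D25209 : act 7 n19901 = n25209 := rfl
theorem F113555 : act 1 n25209 = n19903 := d14_1 D25209 (iv D19903) (iv F90286)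
theorem F113556 : act 2 n25209 = n25209 := d21_1 D25209 (iv D25209) F90287
theorem F113557 : act 3 n25209 = n20283 := d27_1 D25209 (iv D20283) (iv F90288)
theorem F113558 : act 8 n25209 = n19917 := d42_2 (iv F90289) D25209 (iv D19917)
def n25210 : Q := act 4 n19902
theorem D25210 : act 4 n19902 = n25210 := rfl
theorem F113559 : act 2 n25210 = n19904 := d18_1 D25210 (iv D19904) (iv F90290)
theorem F113560 : act 6 n25210 = n25210 := d31_2 F90292 D25210 (iv D25210)
theorem F113561 : act 8 n25210 = n25210 := d33_2 F90293 D25210 (iv D25210)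
def n25211 : Q := act 7 n19902
theorem D25211 : act 7 n19902 = n25211 := rfl
theorem F113562 : act 2 n25211 = n19905 := d21_1 D25211 (iv D19905) (iv F90290)
theorem F113563 : act 3 n25211 = n20285 := d27_1 D25211 (iv D20285) (iv F90291)
theorem F113564 : act 5 n25211 = n19903 := d36_1 D25211 (iv D19903) D19902
theorem F113565 : act 8 n25211 = n25211 := d42_2 F90293 D25211 (iv D25211)
def n25212 : Q := act 7 n19904
theorem D25212 : act 7 n19904 = n25212 := rfl
theorem F113566 : act 1 n25212 = n25212 := d14_1 D25212 (iv D25212) F90297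
theorem F113567 : act 3 n25212 = n20021 := d27_1 D25212 (iv D20021) (iv F90298)
theorem F113568 : act 4 n25212 = n19905 := d32_1 D25212 (iv D19905) D19904
theorem F113569 : act 8 n25212 = n25212 := d42_2 F90300 D25212 (iv D25212)
def n25213 : Q := act 6 n19905
theorem D25213 : act 6 n19905 = n25213 := rfl
theorem F113570 : act 1 n25213 = n25213 := d13_1 D25213 (iv D25213) F90301
theorem F113571 : act 3 n25213 = n19906 := d26_1 D25213 (iv D19906) (iv F90302)
theorem F113572 : act 7 n25213 = n25213 := d39_2 D19905 D25213 (iv D25213) (iv D19905) F71354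
theorem F113573 : act 8 n25213 = n25213 := d40_2 F90304 D25213 (iv D25213)
def n25215 : Q := act 5 n19908
theorem D25215 : act 5 n19908 = n25215 := rfl
theorem F113581 : act 6 n25215 = n19919 := d35_2 D19908 D25215 (iv D19919) (iv D15594) (iv F71366)
theorem F113583 : act 8 n20815 = n25215 := d40_0 F113581 (iv F90370) (iv F93599)
def n25216 : Q := act 7 n19908
theorem D25216 : act 7 n19908 = n25216 := rfl
theorem F113584 : act 1 n25216 = n19910 := d14_1 D25216 (iv D19910) (iv F90315)
theorem F113586 : act 3 n25216 = n20290 := d27_1 D25216 (iv D20290) (iv F90317)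
theorem F113587 : act 6 n25216 = n19917 := d39_1 D25216 (iv D19917) (iv D15591) (iv F71367) D19908
def n25218 : Q := act 7 n19909
theorem D25218 : act 7 n19909 = n25218 := rfl
theorem F113593 : act 3 n25218 = n20292 := d27_1 D25218 (iv D20292) (iv F90320)
theorem F113594 : act 5 n25218 = n19910 := d36_1 D25218 (iv D19910) D19909
def n25219 : Q := act 8 n19909
theorem D25219 : act 8 n19909 = n25219 := rfl
theorem F113598 : act 2 n25219 = n19913 := d22_1 D25219 (iv D19913) (iv F90319)
theorem F113599 : act 3 n25219 = n20293 := d28_1 D25219 (iv D20293) (iv F90320)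
def n25222 : Q := act 8 n19912
theorem D25222 : act 8 n19912 = n25222 := rfl
theorem F113612 : act 3 n25222 = n19914 := d28_1 D25222 (iv D19914) (iv F90332)
theorem F113614 : act 7 n25222 = n19913 := d42_1 D25222 (iv D19913) D19912
def n25224 : Q := act 9 n19914
theorem D25224 : act 9 n19914 = n25224 := rfl
theorem F113621 : act 2 n25224 = n20296 := d23_1 D25224 (iv D20296) (iv F90340)
theorem F113624 : act 7 n25224 = n19915 := d43_1 D25224 (iv D19915) (iv F90343)
def n25225 : Q := act 7 n19916
theorem D25225 : act 7 n19916 = n25225 := rfl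
theorem F113626 : act 0 n25225 = n19917 := d6_1 D25225 (iv D19917) (iv F90349)
theorem F113628 : act 3 n25225 = n20297 := d27_1 D25225 (iv D20297) (iv F90351)
def n25226 : Q := act 2 n19924
theorem D25226 : act 2 n19924 = n25226 := rfl
theorem F113631 : act 0 n25226 = n19940 := d1_1 D25226 (iv D19940) (iv F90390)
theorem F113634 : act 8 n25226 = n19927 := d22_2 (iv F90392) D25226 (iv D19927)
def n25227 : Q := act 6 n19924
theorem D25227 : act 6 n19924 = n25227 := rfl
theorem F113635 : act 0 n25227 = n19941 := d5_1 D25227 (iv D19941) (iv F90390)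
theorem F113636 : act 3 n25227 = n19925 := d26_1 D25227 (iv D19925) D19924
theorem F113637 : act 4 n25227 = n20302 := d31_1 D25227 (iv D20302) (iv F90391)
theorem F113638 : act 8 n25227 = n19928 := d40_2 (iv F90392) D25227 (iv D19928)
def n25228 : Q := act 5 n19925
theorem D25228 : act 5 n19925 = n25228 := rfl
theorem F113639 : act 0 n25228 = n19942 := d4_1 D25228 (iv D19942) (iv F90393)
theorem F113640 : act 2 n25228 = n25228 := d19_1 D25228 (iv D25228) F90394
def n25229 : Q := act 7 n19925
theorem D25229 : act 7 n19925 = n25229 := rfl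
theorem F113641 : act 0 n25229 = n19943 := d6_1 D25229 (iv D19943) (iv F90393)
theorem F113642 : act 2 n25229 = n25229 := d21_1 D25229 (iv D25229) F90394
theorem F113643 : act 4 n25229 = n19926 := d32_1 D25229 (iv D19926) (iv F90395)
theorem F113644 : act 8 n25229 = n19930 := d42_2 (iv F90396) D25229 (iv D19930)
def n25231 : Q := act 6 n19927
theorem D25231 : act 6 n19927 = n25231 := rfl
theorem F113649 : act 0 n25231 = n19945 := d5_1 D25231 (iv D19945) (iv F90401)
theorem F113650 : act 2 n25231 = n19928 := d20_1 D25231 (iv D19928) D19927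
def n25232 : Q := act 5 n19928
theorem D25232 : act 5 n19928 = n25232 := rfl
theorem F113654 : act 0 n25232 = n19946 := d4_1 D25232 (iv D19946) (iv F90406)
theorem F113655 : act 3 n25232 = n19929 := d25_1 D25232 (iv D19929) (iv F90407)
theorem F113656 : act 6 n25232 = n25232 := d35_2 D19928 D25232 (iv D25232) (iv D19928) F71441
theorem F113657 : act 9 n25232 = n20026 := d38_2 (iv F90409) D25232 (iv D20026)
def n25233 : Q := act 7 n19928
theorem D25233 : act 7 n19928 = n25233 := rfl
theorem F113658 : act 0 n25233 = n19947 := d6_1 D25233 (iv D19947) (iv F90406)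
theorem F113659 : act 3 n25233 = n19930 := d27_1 D25233 (iv D19930) (iv F90407)
theorem F113660 : act 4 n25233 = n20312 := d32_1 D25233 (iv D20312) (iv F90408)
theorem F113661 : act 9 n25233 = n20027 := d43_2 (iv F90409) D25233 (iv D20027)
def n25234 : Q := act 7 n19929
theorem D25234 : act 7 n19929 = n25234 := rfl
theorem F113662 : act 0 n25234 = n19948 := d6_1 D25234 (iv D19948) (iv F90410)
theorem F113663 : act 2 n25234 = n25234 := d21_1 D25234 (iv D25234) F90411
theorem F113664 : act 4 n25234 = n19935 := d32_1 D25234 (iv D19935) (iv F90412)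
theorem F113665 : act 5 n25234 = n19930 := d36_1 D25234 (iv D19930) D19929
theorem F113666 : act 9 n25234 = n20028 := d43_2 (iv F90414) D25234 (iv D20028)
def n25235 : Q := act 8 n19929
theorem D25235 : act 8 n19929 = n25235 := rfl
theorem F113667 : act 0 n25235 = n19949 := d7_1 D25235 (iv D19949) (iv F90410)
theorem F113668 : act 2 n25235 = n25235 := d22_1 D25235 (iv D25235) F90411
theorem F113669 : act 4 n25235 = n19936 := d33_1 D25235 (iv D19936) (iv F90412)
theorem F113670 : act 6 n25235 = n25235 := d40_1 D25235 (iv D25235) F90413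
def n25237 : Q := act 5 n19932
theorem D25237 : act 5 n19932 = n25237 := rfl
theorem F113677 : act 2 n25237 = n19933 := d19_1 D25237 (iv D19933) (iv F90426)
theorem F113680 : act 9 n25237 = n20031 := d38_2 (iv F90429) D25237 (iv D20031)
def n25238 : Q := act 7 n19932
theorem D25238 : act 7 n19932 = n25238 := rfl
theorem F113682 : act 2 n25238 = n19934 := d21_1 D25238 (iv D19934) (iv F90426)
theorem F113686 : act 9 n25238 = n20032 := d43_2 (iv F90429) D25238 (iv D20032)
def n25239 : Q := act 4 n19933
theorem D25239 : act 4 n19933 = n25239 := rfl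
theorem F113690 : act 9 n25239 = n20033 := d34_2 (iv F90433) D25239 (iv D20033)
def n25240 : Q := act 7 n19933
theorem D25240 : act 7 n19933 = n25240 := rfl
theorem F113691 : act 0 n25240 = n19953 := d6_1 D25240 (iv D19953) (iv F90430)
theorem F113692 : act 3 n25240 = n19935 := d27_1 D25240 (iv D19935) (iv F90431)
theorem F113693 : act 5 n25240 = n19934 := d36_1 D25240 (iv D19934) D19933
theorem F113694 : act 9 n25240 = n20034 := d43_2 (iv F90433) D25240 (iv D20034)
def n25241 : Q := act 8 n19933
theorem D25241 : act 8 n19933 = n25241 := rfl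
theorem F113695 : act 0 n25241 = n19954 := d7_1 D25241 (iv D19954) (iv F90430)
theorem F113696 : act 3 n25241 = n19936 := d28_1 D25241 (iv D19936) (iv F90431)
theorem F113697 : act 6 n25241 = n25241 := d40_1 D25241 (iv D25241) F90432
def n25242 : Q := act 6 n19935
theorem D25242 : act 6 n19935 = n25242 := rfl
theorem F113698 : act 0 n25242 = n19955 := d5_1 D25242 (iv D19955) (iv F90439)
theorem F113699 : act 2 n25242 = n25242 := d20_1 D25242 (iv D25242) F90440
theorem F113700 : act 5 n25242 = n25242 := d35_1 D25242 (iv D25242) F90441 F71469 (iv F90441)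
theorem F113701 : act 7 n25242 = n25242 := d39_2 D19935 D25242 (iv D25242) (iv D19935) F71464
theorem F113702 : act 9 n25242 = n20036 := d41_2 (iv F90442) D25242 (iv D20036)
def n25243 : Q := act 8 n19935
theorem D25243 : act 8 n19935 = n25243 := rfl
theorem F113703 : act 0 n25243 = n19956 := d7_1 D25243 (iv D19956) (iv F90439)
theorem F113704 : act 2 n25243 = n25243 := d22_1 D25243 (iv D25243) F90440
theorem F113705 : act 7 n25243 = n19936 := d42_1 D25243 (iv D19936) D19935
def n25244 : Q := act 9 n19936
theorem D25244 : act 9 n19936 = n25244 := rfl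
theorem F113706 : act 0 n25244 = n19957 := d8_1 D25244 (iv D19957) (iv F90443)
theorem F113707 : act 2 n25244 = n25244 := d23_1 D25244 (iv D25244) F90444
theorem F113708 : act 6 n25244 = n25244 := d41_1 D25244 (iv D25244) F90445
theorem F113709 : act 8 n25244 = n20038 := d44_1 D25244 (iv D20038) (iv D15682) (iv F71465) D19936
def n25245 : Q := act 2 n19937
theorem D25245 : act 2 n19937 = n25245 := rfl
theorem F113710 : act 3 n25245 = n25245 := d17_2 D19937 D25245 (iv D25245) (iv D19937) F71472
theorem F113711 : act 5 n25245 = n19940 := d19_2 (iv F90447) D25245 (iv D19940)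
theorem F113712 : act 8 n25245 = n25245 := d22_2 F90448 D25245 (iv D25245)
def n25246 : Q := act 6 n19937
theorem D25246 : act 6 n19937 = n25246 := rfl
theorem F113713 : act 1 n25246 = n19962 := d13_1 D25246 (iv D19962) (iv F90446)
theorem F113714 : act 3 n25246 = n19938 := d26_1 D25246 (iv D19938) D19937
theorem F113715 : act 8 n25246 = n25246 := d40_2 F90448 D25246 (iv D25246)
def n25247 : Q := act 5 n19938
theorem D25247 : act 5 n19938 = n25247 := rfl
theorem F113716 : act 1 n25247 = n19963 := d12_1 D25247 (iv D19963) (iv F90449)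
theorem F113717 : act 2 n25247 = n25247 := d19_1 D25247 (iv D25247) F90450
theorem F113718 : act 6 n25247 = n19942 := d35_2 D19938 D25247 (iv D19942) (iv D15611) (iv F71473)
def n25248 : Q := act 7 n19938
theorem D25248 : act 7 n19938 = n25248 := rfl
theorem F113719 : act 1 n25248 = n19964 := d14_1 D25248 (iv D19964) (iv F90449)
theorem F113720 : act 2 n25248 = n25248 := d21_1 D25248 (iv D25248) F90450
theorem F113721 : act 4 n25248 = n19939 := d32_1 D25248 (iv D19939) (iv F90451)
theorem F113722 : act 8 n25248 = n25248 := d42_2 F90452 D25248 (iv D25248)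
def n25249 : Q := act 1 n19940
theorem D25249 : act 1 n19940 = n25249 := rfl
theorem F113723 : act 2 n25249 = n19965 := d9_2 D19940 D25249 (iv D19965) (iv D15627) (iv F71478)
theorem F113724 : act 3 n25249 = n25249 := d10_2 F90456 D25249 (iv D25249)
theorem F113725 : act 4 n25249 = n20336 := d11_2 (iv F90457) D25249 (iv D20336)
theorem F113726 : act 8 n25249 = n19944 := d15_2 (iv F90458) D25249 (iv D19944)
def n25250 : Q := act 6 n19940
theorem D25250 : act 6 n19940 = n25250 := rfl
theorem F113727 : act 2 n25250 = n19941 := d20_1 D25250 (iv D19941) D19940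
theorem F113728 : act 3 n25250 = n25250 := d26_1 D25250 (iv D25250) F90456
theorem F113729 : act 4 n25250 = n20337 := d31_1 D25250 (iv D20337) (iv F90457)
theorem F113730 : act 8 n25250 = n19945 := d40_2 (iv F90458) D25250 (iv D19945)
def n25251 : Q := act 5 n19941
theorem D25251 : act 5 n19941 = n25251 := rfl
theorem F113731 : act 1 n25251 = n19967 := d12_1 D25251 (iv D19967) (iv F90459)
theorem F113732 : act 3 n25251 = n19942 := d25_1 D25251 (iv D19942) (iv F90460)
def n25252 : Q := act 7 n19941
theorem D25252 : act 7 n19941 = n25252 := rfl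
theorem F113733 : act 1 n25252 = n19968 := d14_1 D25252 (iv D19968) (iv F90459)
theorem F113734 : act 3 n25252 = n19943 := d27_1 D25252 (iv D19943) (iv F90460)
theorem F113735 : act 4 n25252 = n20339 := d32_1 D25252 (iv D20339) (iv F90461)
theorem F113736 : act 8 n25252 = n19947 := d42_2 (iv F90462) D25252 (iv D19947)
def n25253 : Q := act 7 n19942
theorem D25253 : act 7 n19942 = n25253 := rfl
theorem F113737 : act 1 n25253 = n19969 := d14_1 D25253 (iv D19969) (iv F90463)
theorem F113738 : act 2 n25253 = n25253 := d21_1 D25253 (iv D25253) F90464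
theorem F113739 : act 5 n25253 = n19943 := d36_1 D25253 (iv D19943) D19942
def n25254 : Q := act 8 n19942
theorem D25254 : act 8 n19942 = n25254 := rfl
theorem F113740 : act 1 n25254 = n19970 := d15_1 D25254 (iv D19970) (iv F90463)
theorem F113741 : act 2 n25254 = n25254 := d22_1 D25254 (iv D25254) F90464
theorem F113742 : act 5 n25254 = n19949 := d37_1 D25254 (iv D19949) (iv D15615) (iv F71484) D19942
def n25256 : Q := act 6 n19944
theorem D25256 : act 6 n19944 = n25256 := rfl
theorem F113748 : act 1 n25256 = n19945 := d13_1 D25256 (iv D19945) D19944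
theorem F113749 : act 2 n25256 = n19972 := d20_1 D25256 (iv D19972) (iv F90469)
theorem F113750 : act 3 n25256 = n25256 := d26_1 D25256 (iv D25256) F90470
theorem F113752 : act 9 n25256 = n20040 := d41_2 (iv F90473) D25256 (iv D20040)
def n25257 : Q := act 5 n19945
theorem D25257 : act 5 n19945 = n25257 := rfl
theorem F113753 : act 2 n25257 = n19946 := d19_1 D25257 (iv D19946) (iv F90474)
theorem F113756 : act 9 n25257 = n20041 := d38_2 (iv F90477) D25257 (iv D20041)
def n25258 : Q := act 7 n19945
theorem D25258 : act 7 n19945 = n25258 := rfl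
theorem F113757 : act 2 n25258 = n19947 := d21_1 D25258 (iv D19947) (iv F90474)
theorem F113758 : act 3 n25258 = n25258 := d27_1 D25258 (iv D25258) F90475
theorem F113759 : act 4 n25258 = n20351 := d32_1 D25258 (iv D20351) (iv F90476)
theorem F113760 : act 9 n25258 = n20042 := d43_2 (iv F90477) D25258 (iv D20042)
def n25259 : Q := act 4 n19946
theorem D25259 : act 4 n19946 = n25259 := rfl
theorem F113761 : act 1 n25259 = n19975 := d11_1 D25259 (iv D19975) (iv F90478)
theorem F113763 : act 5 n25259 = n20352 := d30_2 D19946 D25259 (iv D20352) (iv D15916) (iv F71495)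
def n25260 : Q := act 7 n19946
theorem D25260 : act 7 n19946 = n25260 := rfl
theorem F113766 : act 1 n25260 = n19976 := d14_1 D25260 (iv D19976) (iv F90478)
theorem F113767 : act 3 n25260 = n19948 := d27_1 D25260 (iv D19948) (iv F90479)
theorem F113768 : act 5 n25260 = n19947 := d36_1 D25260 (iv D19947) D19946
theorem F113769 : act 9 n25260 = n20044 := d43_2 (iv F90481) D25260 (iv D20044)
def n25261 : Q := act 8 n19946
theorem D25261 : act 8 n19946 = n25261 := rfl
theorem F113770 : act 1 n25261 = n19977 := d15_1 D25261 (iv D19977) (iv F90478)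
theorem F113771 : act 3 n25261 = n19949 := d28_1 D25261 (iv D19949) (iv F90479)
theorem F113772 : act 6 n25261 = n25261 := d40_1 D25261 (iv D25261) F90480
def n25262 : Q := act 6 n19948
theorem D25262 : act 6 n19948 = n25262 := rfl
theorem F113773 : act 1 n25262 = n19978 := d13_1 D25262 (iv D19978) (iv F90486)
theorem F113774 : act 2 n25262 = n25262 := d20_1 D25262 (iv D25262) F90487
theorem F113775 : act 4 n25262 = n19955 := d31_1 D25262 (iv D19955) (iv F90488)
theorem F113776 : act 7 n25262 = n25262 := d39_2 D19948 D25262 (iv D25262) (iv D19948) F71500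
theorem F113777 : act 9 n25262 = n20046 := d41_2 (iv F90490) D25262 (iv D20046)
def n25263 : Q := act 8 n19948
theorem D25263 : act 8 n19948 = n25263 := rfl
theorem F113778 : act 1 n25263 = n19979 := d15_1 D25263 (iv D19979) (iv F90486)
theorem F113779 : act 2 n25263 = n25263 := d22_1 D25263 (iv D25263) F90487
theorem F113780 : act 4 n25263 = n19956 := d33_1 D25263 (iv D19956) (iv F90488)
theorem F113781 : act 7 n25263 = n19949 := d42_1 D25263 (iv D19949) D19948
def n25264 : Q := act 9 n19949
theorem D25264 : act 9 n19949 = n25264 := rfl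
theorem F113782 : act 1 n25264 = n19980 := d16_1 D25264 (iv D19980) (iv F90491)
theorem F113783 : act 2 n25264 = n25264 := d23_1 D25264 (iv D25264) F90492
theorem F113784 : act 4 n25264 = n19957 := d34_1 D25264 (iv D19957) (iv F90493)
theorem F113785 : act 6 n25264 = n25264 := d41_1 D25264 (iv D25264) F90494
theorem F113786 : act 8 n25264 = n20048 := d44_1 D25264 (iv D20048) (iv D15688) (iv F71501) D19949
def n25266 : Q := act 7 n19950
theorem D25266 : act 7 n19950 = n25266 := rfl
theorem F113793 : act 2 n25266 = n19953 := d21_1 D25266 (iv D19953) (iv F90496)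
theorem F113796 : act 9 n25266 = n20050 := d43_2 (iv F90499) D25266 (iv D20050)
def n25267 : Q := act 8 n19950
theorem D25267 : act 8 n19950 = n25267 := rfl
theorem F113798 : act 2 n25267 = n19954 := d22_1 D25267 (iv D19954) (iv F90496)
def n25268 : Q := act 7 n19952
theorem D25268 : act 7 n19952 = n25268 := rfl
theorem F113801 : act 1 n25268 = n19981 := d14_1 D25268 (iv D19981) (iv F90506)
theorem F113802 : act 4 n25268 = n19953 := d32_1 D25268 (iv D19953) D19952
theorem F113803 : act 5 n25268 = n20361 := d36_1 D25268 (iv D20361) (iv F90507)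
def n25269 : Q := act 8 n19952
theorem D25269 : act 8 n19952 = n25269 := rfl
theorem F113805 : act 1 n25269 = n19982 := d15_1 D25269 (iv D19982) (iv F90506)
theorem F113806 : act 4 n25269 = n19954 := d33_1 D25269 (iv D19954) D19952
def n25270 : Q := act 6 n19953
theorem D25270 : act 6 n19953 = n25270 := rfl
theorem F113808 : act 1 n25270 = n19983 := d13_1 D25270 (iv D19983) (iv F90510)
theorem F113809 : act 3 n25270 = n19955 := d26_1 D25270 (iv D19955) (iv F90511)
theorem F113810 : act 5 n25270 = n25270 := d35_1 D25270 (iv D25270) F90512 F71518 (iv F90512)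
theorem F113811 : act 7 n25270 = n25270 := d39_2 D19953 D25270 (iv D25270) (iv D19953) F71513
theorem F113812 : act 9 n25270 = n20054 := d41_2 (iv F90513) D25270 (iv D20054)
def n25271 : Q := act 8 n19953
theorem D25271 : act 8 n19953 = n25271 := rfl
theorem F113813 : act 1 n25271 = n19984 := d15_1 D25271 (iv D19984) (iv F90510)
theorem F113814 : act 3 n25271 = n19956 := d28_1 D25271 (iv D19956) (iv F90511)
theorem F113815 : act 7 n25271 = n19954 := d42_1 D25271 (iv D19954) D19953
def n25272 : Q := act 9 n19954
theorem D25272 : act 9 n19954 = n25272 := rfl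
theorem F113816 : act 1 n25272 = n19985 := d16_1 D25272 (iv D19985) (iv F90514)
theorem F113817 : act 3 n25272 = n19957 := d29_1 D25272 (iv D19957) (iv F90515)
theorem F113818 : act 6 n25272 = n25272 := d41_1 D25272 (iv D25272) F90516
theorem F113819 : act 8 n25272 = n20056 := d44_1 D25272 (iv D20056) (iv D15693) (iv F71514) D19954
def n25273 : Q := act 8 n19955
theorem D25273 : act 8 n19955 = n25273 := rfl
theorem F113820 : act 1 n25273 = n19986 := d15_1 D25273 (iv D19986) (iv F90517)
theorem F113821 : act 2 n25273 = n25273 := d22_1 D25273 (iv D25273) F90518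
theorem F113822 : act 6 n25273 = n19956 := d40_1 D25273 (iv D19956) D19955
theorem F113823 : act 7 n25273 = n25273 := d42_1 D25273 (iv D25273) F90520
def n25274 : Q := act 9 n19956
theorem D25274 : act 9 n19956 = n25274 := rfl
theorem F113824 : act 1 n25274 = n19987 := d16_1 D25274 (iv D19987) (iv F90522)
theorem F113825 : act 2 n25274 = n25274 := d23_1 D25274 (iv D25274) F90523
theorem F113826 : act 7 n25274 = n19957 := d43_1 D25274 (iv D19957) (iv F90524)
theorem F113827 : act 8 n25274 = n20058 := d44_1 D25274 (iv D20058) (iv D15695) (iv F71523) D19956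
def n25275 : Q := act 2 n19958
theorem D25275 : act 2 n19958 = n25275 := rfl
theorem F113828 : act 3 n25275 = n25275 := d17_2 D19958 D25275 (iv D25275) (iv D19958) F71527
theorem F113829 : act 4 n25275 = n19961 := d18_2 (iv F90529) D25275 (iv D19961)
theorem F113830 : act 5 n25275 = n20371 := d19_2 (iv F90530) D25275 (iv D20371)
theorem F113831 : act 8 n25275 = n25275 := d22_2 F90531 D25275 (iv D25275)
def n25276 : Q := act 6 n19958
theorem D25276 : act 6 n19958 = n25276 := rfl
theorem F113832 : act 3 n25276 = n19959 := d26_1 D25276 (iv D19959) D19958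
theorem F113833 : act 4 n25276 = n19962 := d31_1 D25276 (iv D19962) (iv F90529)
theorem F113834 : act 8 n25276 = n25276 := d40_2 F90531 D25276 (iv D25276)
def n25277 : Q := act 5 n19959
theorem D25277 : act 5 n19959 = n25277 := rfl
theorem F113835 : act 2 n25277 = n25277 := d19_1 D25277 (iv D25277) F90532
theorem F113836 : act 6 n25277 = n20373 := d35_2 D19959 D25277 (iv D20373) (iv D15931) (iv F71528)
def n25278 : Q := act 7 n19959
theorem D25278 : act 7 n19959 = n25278 := rfl
theorem F113837 : act 2 n25278 = n25278 := d21_1 D25278 (iv D25278) F90532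
theorem F113838 : act 4 n25278 = n19960 := d32_1 D25278 (iv D19960) (iv F90533)
theorem F113839 : act 8 n25278 = n25278 := d42_2 F90534 D25278 (iv D25278)
def n25279 : Q := act 1 n19961
theorem D25279 : act 1 n19961 = n25279 := rfl
theorem F113840 : act 3 n25279 = n19988 := d10_2 (iv F90538) D25279 (iv D19988)
theorem F113841 : act 5 n25279 = n19965 := d12_2 (iv F90539) D25279 (iv D19965)
theorem F113842 : act 8 n25279 = n25279 := d15_2 F90540 D25279 (iv D25279)
def n25280 : Q := act 6 n19961
theorem D25280 : act 6 n19961 = n25280 := rfl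
theorem F113843 : act 2 n25280 = n19962 := d20_1 D25280 (iv D19962) D19961
theorem F113844 : act 3 n25280 = n19989 := d26_1 D25280 (iv D19989) (iv F90538)
theorem F113845 : act 8 n25280 = n25280 := d40_2 F90540 D25280 (iv D25280)
def n25281 : Q := act 5 n19962
theorem D25281 : act 5 n19962 = n25281 := rfl
theorem F113846 : act 3 n25281 = n19963 := d25_1 D25281 (iv D19963) (iv F90541)
theorem F113847 : act 6 n25281 = n19967 := d35_2 D19962 D25281 (iv D19967) (iv D15628) (iv F71533)
def n25282 : Q := act 7 n19962
theorem D25282 : act 7 n19962 = n25282 := rfl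
theorem F113848 : act 3 n25282 = n19964 := d27_1 D25282 (iv D19964) (iv F90541)
theorem F113849 : act 8 n25282 = n25282 := d42_2 F90542 D25282 (iv D25282)
def n25283 : Q := act 7 n19963
theorem D25283 : act 7 n19963 = n25283 := rfl
theorem F113850 : act 2 n25283 = n19992 := d21_1 D25283 (iv D19992) (iv F90543)
theorem F113851 : act 5 n25283 = n19964 := d36_1 D25283 (iv D19964) D19963
def n25284 : Q := act 8 n19963
theorem D25284 : act 8 n19963 = n25284 := rfl
theorem F113852 : act 2 n25284 = n19993 := d22_1 D25284 (iv D19993) (iv F90543)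
theorem F113853 : act 5 n25284 = n25284 := d37_1 D25284 (iv D25284) (iv D19963) F71537 D19963
theorem F113854 : act 6 n25284 = n19970 := d40_1 D25284 (iv D19970) (iv F90544)
def n25285 : Q := act 0 n19965
theorem D25285 : act 0 n19965 = n25285 := rfl
theorem F113855 : act 3 n25285 = n19994 := d2_2 (iv F90548) D25285 (iv D19994)
theorem F113857 : act 8 n25285 = n19971 := d7_2 (iv F90550) D25285 (iv D19971)
def n25286 : Q := act 6 n19965
theorem D25286 : act 6 n19965 = n25286 := rfl
theorem F113858 : act 1 n25286 = n19966 := d13_1 D25286 (iv D19966) D19965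
theorem F113859 : act 3 n25286 = n19995 := d26_1 D25286 (iv D19995) (iv F90548)
theorem F113860 : act 4 n25286 = n20406 := d31_1 D25286 (iv D20406) (iv F90549)
theorem F113861 : act 8 n25286 = n19972 := d40_2 (iv F90550) D25286 (iv D19972)
def n25287 : Q := act 5 n19966
theorem D25287 : act 5 n19966 = n25287 := rfl
theorem F113862 : act 2 n25287 = n19967 := d19_1 D25287 (iv D19967) (iv F90551)
theorem F113863 : act 3 n25287 = n19996 := d25_1 D25287 (iv D19996) (iv F90552)
def n25288 : Q := act 7 n19966
theorem D25288 : act 7 n19966 = n25288 := rfl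
theorem F113864 : act 2 n25288 = n19968 := d21_1 D25288 (iv D19968) (iv F90551)
theorem F113865 : act 3 n25288 = n19997 := d27_1 D25288 (iv D19997) (iv F90552)
theorem F113866 : act 4 n25288 = n20408 := d32_1 D25288 (iv D20408) (iv F90553)
theorem F113867 : act 8 n25288 = n19974 := d42_2 (iv F90554) D25288 (iv D19974)
def n25289 : Q := act 4 n19967
theorem D25289 : act 4 n19967 = n25289 := rfl
theorem F113868 : act 5 n25289 = n20409 := d30_2 D19967 D25289 (iv D20409) (iv D15956) (iv F71544)
def n25290 : Q := act 7 n19967
theorem D25290 : act 7 n19967 = n25290 := rfl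
theorem F113869 : act 3 n25290 = n19969 := d27_1 D25290 (iv D19969) (iv F90555)
theorem F113870 : act 5 n25290 = n19968 := d36_1 D25290 (iv D19968) D19967
def n25291 : Q := act 8 n19967
theorem D25291 : act 8 n19967 = n25291 := rfl
theorem F113871 : act 3 n25291 = n19970 := d28_1 D25291 (iv D19970) (iv F90555)
theorem F113872 : act 5 n25291 = n19977 := d37_1 D25291 (iv D19977) (iv D15633) (iv F71545) D19967
def n25292 : Q := act 6 n19969
theorem D25292 : act 6 n19969 = n25292 := rfl
theorem F113873 : act 2 n25292 = n20001 := d20_1 D25292 (iv D20001) (iv F90559)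
def n25293 : Q := act 8 n19969
theorem D25293 : act 8 n19969 = n25293 := rfl
theorem F113874 : act 2 n25293 = n20002 := d22_1 D25293 (iv D20002) (iv F90559)
theorem F113875 : act 5 n25293 = n19979 := d37_1 D25293 (iv D19979) F71566 (iv F71549) (iv F90560)
theorem F113876 : act 7 n25293 = n19970 := d42_1 D25293 (iv D19970) D19969
def n25294 : Q := act 9 n19970
theorem D25294 : act 9 n19970 = n25294 := rfl
theorem F113877 : act 2 n25294 = n20003 := d23_1 D25294 (iv D20003) (iv F90561)
theorem F113878 : act 5 n25294 = n19980 := d38_1 D25294 (iv D19980) (iv F90562)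
def n25295 : Q := act 6 n19971
theorem D25295 : act 6 n19971 = n25295 := rfl
theorem F113879 : act 0 n25295 = n19972 := d5_1 D25295 (iv D19972) D19971
theorem F113882 : act 9 n25295 = n20059 := d41_2 (iv F90566) D25295 (iv D20059)
def n25296 : Q := act 5 n19972
theorem D25296 : act 5 n19972 = n25296 := rfl
theorem F113883 : act 1 n25296 = n19973 := d12_1 D25296 (iv D19973) (iv F90567)
theorem F113884 : act 3 n25296 = n20005 := d25_1 D25296 (iv D20005) (iv F90568)
theorem F113885 : act 6 n25296 = n25296 := d35_2 D19972 D25296 (iv D25296) (iv D19972) F71552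
theorem F113886 : act 9 n25296 = n20060 := d38_2 (iv F90570) D25296 (iv D20060)
def n25297 : Q := act 7 n19972
theorem D25297 : act 7 n19972 = n25297 := rfl
theorem F113887 : act 1 n25297 = n19974 := d14_1 D25297 (iv D19974) (iv F90567)
theorem F113888 : act 3 n25297 = n20006 := d27_1 D25297 (iv D20006) (iv F90568)
theorem F113889 : act 4 n25297 = n20427 := d32_1 D25297 (iv D20427) (iv F90569)
theorem F113890 : act 9 n25297 = n20061 := d43_2 (iv F90570) D25297 (iv D20061)
def n25298 : Q := act 4 n19973
theorem D25298 : act 4 n19973 = n25298 := rfl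
theorem F113891 : act 2 n25298 = n19975 := d18_1 D25298 (iv D19975) (iv F90571)
theorem F113892 : act 3 n25298 = n25298 := d24_1 D25298 (iv D25298) F90572 F71628 (iv F90572)
theorem F113893 : act 5 n25298 = n20428 := d30_2 D19973 D25298 (iv D20428) (iv D15968) (iv F71556)
theorem F113894 : act 6 n25298 = n25298 := d31_2 F90573 D25298 (iv D25298)
theorem F113895 : act 9 n25298 = n20062 := d34_2 (iv F90574) D25298 (iv D20062)
def n25299 : Q := act 7 n19973
theorem D25299 : act 7 n19973 = n25299 := rfl
theorem F113896 : act 2 n25299 = n19976 := d21_1 D25299 (iv D19976) (iv F90571)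
theorem F113897 : act 3 n25299 = n20007 := d27_1 D25299 (iv D20007) (iv F90572)
theorem F113898 : act 5 n25299 = n19974 := d36_1 D25299 (iv D19974) D19973
theorem F113899 : act 9 n25299 = n20063 := d43_2 (iv F90574) D25299 (iv D20063)
def n25300 : Q := act 8 n19973
theorem D25300 : act 8 n19973 = n25300 := rfl
theorem F113900 : act 2 n25300 = n19977 := d22_1 D25300 (iv D19977) (iv F90571)
theorem F113901 : act 3 n25300 = n20008 := d28_1 D25300 (iv D20008) (iv F90572)
theorem F113902 : act 6 n25300 = n25300 := d40_1 D25300 (iv D25300) F90573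
def n25301 : Q := act 7 n19975
theorem D25301 : act 7 n19975 = n25301 := rfl
theorem F113903 : act 3 n25301 = n19981 := d27_1 D25301 (iv D19981) (iv F90579)
theorem F113904 : act 4 n25301 = n19976 := d32_1 D25301 (iv D19976) D19975
theorem F113905 : act 5 n25301 = n20431 := d36_1 D25301 (iv D20431) (iv F90580)
theorem F113906 : act 9 n25301 = n20065 := d43_2 (iv F90582) D25301 (iv D20065)
def n25302 : Q := act 8 n19975
theorem D25302 : act 8 n19975 = n25302 := rfl
theorem F113907 : act 3 n25302 = n19982 := d28_1 D25302 (iv D19982) (iv F90579)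
theorem F113908 : act 4 n25302 = n19977 := d33_1 D25302 (iv D19977) D19975
theorem F113909 : act 6 n25302 = n25302 := d40_1 D25302 (iv D25302) F90581
def n25303 : Q := act 6 n19976
theorem D25303 : act 6 n19976 = n25303 := rfl
theorem F113910 : act 3 n25303 = n19978 := d26_1 D25303 (iv D19978) (iv F90583)
theorem F113911 : act 7 n25303 = n25303 := d39_2 D19976 D25303 (iv D25303) (iv D19976) F71559
theorem F113912 : act 9 n25303 = n20067 := d41_2 (iv F90585) D25303 (iv D20067)
def n25304 : Q := act 8 n19976
theorem D25304 : act 8 n19976 = n25304 := rfl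
theorem F113913 : act 3 n25304 = n19979 := d28_1 D25304 (iv D19979) (iv F90583)
theorem F113914 : act 7 n25304 = n19977 := d42_1 D25304 (iv D19977) D19976
def n25305 : Q := act 9 n19977
theorem D25305 : act 9 n19977 = n25305 := rfl
theorem F113915 : act 3 n25305 = n19980 := d29_1 D25305 (iv D19980) (iv F90586)
theorem F113916 : act 6 n25305 = n25305 := d41_1 D25305 (iv D25305) F90587
theorem F113917 : act 8 n25305 = n20069 := d44_1 D25305 (iv D20069) (iv D15703) (iv F71560) D19977
def n25306 : Q := act 8 n19978
theorem D25306 : act 8 n19978 = n25306 := rfl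
theorem F113918 : act 2 n25306 = n20012 := d22_1 D25306 (iv D20012) (iv F90588)
theorem F113919 : act 4 n25306 = n19986 := d33_1 D25306 (iv D19986) (iv F90589)
theorem F113920 : act 6 n25306 = n19979 := d40_1 D25306 (iv D19979) D19978
theorem F113921 : act 7 n25306 = n25306 := d42_1 D25306 (iv D25306) F90590
def n25307 : Q := act 9 n19979
theorem D25307 : act 9 n19979 = n25307 := rfl
theorem F113922 : act 2 n25307 = n20013 := d23_1 D25307 (iv D20013) (iv F90592)
theorem F113923 : act 4 n25307 = n19987 := d34_1 D25307 (iv D19987) (iv F90593)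
theorem F113924 : act 7 n25307 = n19980 := d43_1 D25307 (iv D19980) (iv F90594)
theorem F113925 : act 8 n25307 = n20071 := d44_1 D25307 (iv D20071) (iv D15705) (iv F71567) D19979
def n25308 : Q := act 6 n19981
theorem D25308 : act 6 n19981 = n25308 := rfl
theorem F113926 : act 2 n25308 = n25308 := d20_1 D25308 (iv D25308) F90599
theorem F113927 : act 4 n25308 = n19983 := d31_1 D25308 (iv D19983) (iv F90600)
theorem F113928 : act 7 n25308 = n25308 := d39_2 D19981 D25308 (iv D25308) (iv D19981) F71573
theorem F113929 : act 9 n25308 = n20072 := d41_2 (iv F90602) D25308 (iv D20072)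
def n25309 : Q := act 8 n19981
theorem D25309 : act 8 n19981 = n25309 := rfl
theorem F113930 : act 2 n25309 = n25309 := d22_1 D25309 (iv D25309) F90599
theorem F113931 : act 4 n25309 = n19984 := d33_1 D25309 (iv D19984) (iv F90600)
theorem F113932 : act 7 n25309 = n19982 := d42_1 D25309 (iv D19982) D19981
def n25310 : Q := act 5 n19982
theorem D25310 : act 5 n19982 = n25310 := rfl
theorem F113933 : act 2 n25310 = n25310 := d19_1 D25310 (iv D25310) F90603
theorem F113934 : act 8 n25310 = n20440 := d37_2 D19982 D25310 (iv D20440) (iv D15977) (iv F71572)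
def n25311 : Q := act 9 n19982
theorem D25311 : act 9 n19982 = n25311 := rfl
theorem F113935 : act 2 n25311 = n25311 := d23_1 D25311 (iv D25311) F90603
theorem F113936 : act 4 n25311 = n19985 := d34_1 D25311 (iv D19985) (iv F90604)
theorem F113937 : act 6 n25311 = n25311 := d41_1 D25311 (iv D25311) F90605
theorem F113938 : act 8 n25311 = n20075 := d44_1 D25311 (iv D20075) (iv D15708) (iv F71574) D19982
def n25312 : Q := act 8 n19983
theorem D25312 : act 8 n19983 = n25312 := rfl
theorem F113939 : act 2 n25312 = n25312 := d22_1 D25312 (iv D25312) F90606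
theorem F113940 : act 3 n25312 = n19986 := d28_1 D25312 (iv D19986) (iv F90607)
theorem F113941 : act 6 n25312 = n19984 := d40_1 D25312 (iv D19984) D19983
theorem F113942 : act 7 n25312 = n25312 := d42_1 D25312 (iv D25312) F90609
def n25313 : Q := act 9 n19984
theorem D25313 : act 9 n19984 = n25313 := rfl
theorem F113943 : act 2 n25313 = n25313 := d23_1 D25313 (iv D25313) F90611
theorem F113944 : act 3 n25313 = n19987 := d29_1 D25313 (iv D19987) (iv F90612)
theorem F113945 : act 7 n25313 = n19985 := d43_1 D25313 (iv D19985) (iv F90613)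
theorem F113946 : act 8 n25313 = n20077 := d44_1 D25313 (iv D20077) (iv D15710) (iv F71578) D19984
def n25314 : Q := act 5 n19986
theorem D25314 : act 5 n19986 = n25314 := rfl
theorem F113947 : act 2 n25314 = n20014 := d19_1 D25314 (iv D20014) (iv F90618)
theorem F113948 : act 7 n25314 = n25314 := d36_2 F90620 D25314 (iv D25314)
theorem F113949 : act 8 n25314 = n25314 := d37_2 D19986 D25314 (iv D25314) (iv D19986) F71583
def n25315 : Q := act 9 n19986
theorem D25315 : act 9 n19986 = n25315 := rfl
theorem F113950 : act 2 n25315 = n20015 := d23_1 D25315 (iv D20015) (iv F90618)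
theorem F113951 : act 6 n25315 = n19987 := d41_1 D25315 (iv D19987) (iv F90619)
theorem F113952 : act 7 n25315 = n25315 := d43_1 D25315 (iv D25315) F90620
theorem F113953 : act 8 n25315 = n20079 := d44_1 D25315 (iv D20079) (iv D15712) (iv F71585) D19986
def n25316 : Q := act 0 n19988
theorem D25316 : act 0 n19988 = n25316 := rfl
theorem F113956 : act 5 n25316 = n19994 := d4_2 (iv F90626) D25316 (iv D19994)
def n25317 : Q := act 6 n19988
theorem D25317 : act 6 n19988 = n25317 := rfl
theorem F113958 : act 1 n25317 = n19989 := d13_1 D25317 (iv D19989) D19988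
theorem F113959 : act 2 n25317 = n25317 := d20_1 D25317 (iv D25317) F90624
theorem F113960 : act 4 n25317 = n25317 := d31_1 D25317 (iv D25317) F90625
theorem F113961 : act 8 n25317 = n25317 := d40_2 F90627 D25317 (iv D25317)
def n25318 : Q := act 5 n19989
theorem D25318 : act 5 n19989 = n25318 := rfl
theorem F113962 : act 2 n25318 = n19990 := d19_1 D25318 (iv D19990) (iv F90628)
theorem F113963 : act 6 n25318 = n19996 := d35_2 D19989 D25318 (iv D19996) (iv D15648) (iv F71592)
def n25319 : Q := act 7 n19989
theorem D25319 : act 7 n19989 = n25319 := rfl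
theorem F113964 : act 2 n25319 = n19991 := d21_1 D25319 (iv D19991) (iv F90628)
theorem F113965 : act 4 n25319 = n25319 := d32_1 D25319 (iv D25319) F90629
theorem F113966 : act 8 n25319 = n25319 := d42_2 F90630 D25319 (iv D25319)
def n25320 : Q := act 4 n19990
theorem D25320 : act 4 n19990 = n25320 := rfl
theorem F113967 : act 1 n25320 = n25320 := d11_1 D25320 (iv D25320) F90631
theorem F113968 : act 5 n25320 = n25320 := d30_2 D19990 D25320 (iv D25320) (iv D19990) F71596
theorem F113969 : act 6 n25320 = n19998 := d31_2 (iv F90633) D25320 (iv D19998)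
def n25321 : Q := act 7 n19990
theorem D25321 : act 7 n19990 = n25321 := rfl
theorem F113970 : act 1 n25321 = n25321 := d14_1 D25321 (iv D25321) F90631
theorem F113971 : act 3 n25321 = n19992 := d27_1 D25321 (iv D19992) (iv F90632)
theorem F113972 : act 5 n25321 = n19991 := d36_1 D25321 (iv D19991) D19990
def n25322 : Q := act 8 n19990
theorem D25322 : act 8 n19990 = n25322 := rfl
theorem F113973 : act 1 n25322 = n25322 := d15_1 D25322 (iv D25322) F90631
theorem F113974 : act 3 n25322 = n19993 := d28_1 D25322 (iv D19993) (iv F90632)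
theorem F113975 : act 5 n25322 = n25322 := d37_1 D25322 (iv D25322) (iv D19990) F71597 D19990
theorem F113976 : act 6 n25322 = n20000 := d40_1 D25322 (iv D20000) (iv F90633)
def n25323 : Q := act 6 n19992
theorem D25323 : act 6 n19992 = n25323 := rfl
theorem F113977 : act 1 n25323 = n25323 := d13_1 D25323 (iv D25323) F90638
theorem F113978 : act 7 n25323 = n20001 := d39_2 D19992 D25323 (iv D20001) (iv D15651) (iv F71599)
def n25324 : Q := act 8 n19992
theorem D25324 : act 8 n19992 = n25324 := rfl
theorem F113979 : act 1 n25324 = n25324 := d15_1 D25324 (iv D25324) F90638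
theorem F113980 : act 5 n25324 = n25324 := d37_1 D25324 (iv D25324) F90639 F71602 (iv F90639)
theorem F113981 : act 7 n25324 = n19993 := d42_1 D25324 (iv D19993) D19992
def n25325 : Q := act 9 n19993
theorem D25325 : act 9 n19993 = n25325 := rfl
theorem F113982 : act 1 n25325 = n25325 := d16_1 D25325 (iv D25325) F90640
theorem F113983 : act 5 n25325 = n25325 := d38_1 D25325 (iv D25325) F90641
theorem F113984 : act 6 n25325 = n20003 := d41_1 D25325 (iv D20003) (iv F90642)
def n25326 : Q := act 6 n19994
theorem D25326 : act 6 n19994 = n25326 := rfl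
theorem F113985 : act 0 n25326 = n19995 := d5_1 D25326 (iv D19995) D19994
theorem F113988 : act 8 n25326 = n20004 := d40_2 (iv F90645) D25326 (iv D20004)
def n25327 : Q := act 5 n19995
theorem D25327 : act 5 n19995 = n25327 := rfl
theorem F113989 : act 1 n25327 = n19996 := d12_1 D25327 (iv D19996) (iv F90646)
theorem F113990 : act 2 n25327 = n25327 := d19_1 D25327 (iv D25327) F90647
def n25328 : Q := act 7 n19995
theorem D25328 : act 7 n19995 = n25328 := rfl
theorem F113991 : act 1 n25328 = n19997 := d14_1 D25328 (iv D19997) (iv F90646)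
theorem F113992 : act 2 n25328 = n25328 := d21_1 D25328 (iv D25328) F90647
theorem F113993 : act 4 n25328 = n20018 := d32_1 D25328 (iv D20018) (iv F90648)
theorem F113994 : act 8 n25328 = n20006 := d42_2 (iv F90649) D25328 (iv D20006)
def n25329 : Q := act 4 n19996
theorem D25329 : act 4 n19996 = n25329 := rfl
theorem F113995 : act 2 n25329 = n19998 := d18_1 D25329 (iv D19998) (iv F90650)
theorem F113996 : act 5 n25329 = n20019 := d30_2 D19996 D25329 (iv D20019) (iv D15666) (iv F71607)
def n25330 : Q := act 7 n19996
theorem D25330 : act 7 n19996 = n25330 := rfl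
theorem F113997 : act 2 n25330 = n19999 := d21_1 D25330 (iv D19999) (iv F90650)
theorem F113998 : act 5 n25330 = n19997 := d36_1 D25330 (iv D19997) D19996
def n25331 : Q := act 8 n19996
theorem D25331 : act 8 n19996 = n25331 := rfl
theorem F113999 : act 2 n25331 = n20000 := d22_1 D25331 (iv D20000) (iv F90650)
theorem F114000 : act 5 n25331 = n20008 := d37_1 D25331 (iv D20008) (iv D15655) (iv F71608) D19996
def n25332 : Q := act 7 n19998
theorem D25332 : act 7 n19998 = n25332 := rfl
theorem F114001 : act 1 n25332 = n25332 := d14_1 D25332 (iv D25332) F90654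
theorem F114002 : act 4 n25332 = n19999 := d32_1 D25332 (iv D19999) D19998
theorem F114003 : act 5 n25332 = n20021 := d36_1 D25332 (iv D20021) (iv F90655)
def n25333 : Q := act 8 n19998
theorem D25333 : act 8 n19998 = n25333 := rfl
theorem F114004 : act 1 n25333 = n25333 := d15_1 D25333 (iv D25333) F90654
theorem F114005 : act 4 n25333 = n20000 := d33_1 D25333 (iv D20000) D19998
theorem F114006 : act 5 n25333 = n25333 := d37_1 D25333 (iv D25333) F90655 F71679 (iv F90655)
def n25334 : Q := act 6 n19999
theorem D25334 : act 6 n19999 = n25334 := rfl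
theorem F114007 : act 1 n25334 = n25334 := d13_1 D25334 (iv D25334) F90656
theorem F114008 : act 3 n25334 = n20001 := d26_1 D25334 (iv D20001) (iv F90657)
def n25335 : Q := act 8 n19999
theorem D25335 : act 8 n19999 = n25335 := rfl
theorem F114009 : act 1 n25335 = n25335 := d15_1 D25335 (iv D25335) F90656
theorem F114010 : act 3 n25335 = n20002 := d28_1 D25335 (iv D20002) (iv F90657)
theorem F114011 : act 5 n25335 = n20010 := d37_1 D25335 (iv D20010) F71637 (iv F71614) (iv F90658)
theorem F114012 : act 7 n25335 = n20000 := d42_1 D25335 (iv D20000) D19999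
def n25336 : Q := act 9 n20000
theorem D25336 : act 9 n20000 = n25336 := rfl
theorem F114013 : act 1 n25336 = n25336 := d16_1 D25336 (iv D25336) F90659
theorem F114014 : act 3 n25336 = n20003 := d29_1 D25336 (iv D20003) (iv F90660)
theorem F114015 : act 5 n25336 = n20011 := d38_1 D25336 (iv D20011) (iv F90661)
def n25337 : Q := act 8 n20001
theorem D25337 : act 8 n20001 = n25337 := rfl
theorem F114016 : act 1 n25337 = n25337 := d15_1 D25337 (iv D25337) F90662
theorem F114017 : act 6 n25337 = n20002 := d40_1 D25337 (iv D20002) D20001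
def n25338 : Q := act 9 n20002
theorem D25338 : act 9 n20002 = n25338 := rfl
theorem F114018 : act 1 n25338 = n25338 := d16_1 D25338 (iv D25338) F90663
theorem F114019 : act 5 n25338 = n20013 := d38_1 D25338 (iv D20013) (iv F90664)
theorem F114020 : act 7 n25338 = n20003 := d43_1 D25338 (iv D20003) (iv F90665)
def n25339 : Q := act 5 n20004
theorem D25339 : act 5 n20004 = n25339 := rfl
theorem F114021 : act 0 n25339 = n20005 := d4_1 D25339 (iv D20005) (iv F90668)
theorem F114025 : act 9 n25339 = n20080 := d38_2 (iv F90671) D25339 (iv D20080)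
def n25341 : Q := act 7 n20005
theorem D25341 : act 7 n20005 = n25341 := rfl
theorem F114030 : act 1 n25341 = n20007 := d14_1 D25341 (iv D20007) (iv F90672)
theorem F114031 : act 2 n25341 = n25341 := d21_1 D25341 (iv D25341) F90673
theorem F114032 : act 4 n25341 = n25341 := d32_1 D25341 (iv D25341) F90674
theorem F114033 : act 5 n25341 = n20006 := d36_1 D25341 (iv D20006) D20005
theorem F114034 : act 9 n25341 = n20082 := d43_2 (iv F90676) D25341 (iv D20082)
def n25342 : Q := act 8 n20005
theorem D25342 : act 8 n20005 = n25342 := rfl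
theorem F114035 : act 1 n25342 = n20008 := d15_1 D25342 (iv D20008) (iv F90672)
theorem F114036 : act 2 n25342 = n25342 := d22_1 D25342 (iv D25342) F90673
theorem F114037 : act 4 n25342 = n25342 := d33_1 D25342 (iv D25342) F90674
theorem F114038 : act 6 n25342 = n25342 := d40_1 D25342 (iv D25342) F90675
def n25343 : Q := act 6 n20007
theorem D25343 : act 6 n20007 = n25343 := rfl
theorem F114039 : act 2 n25343 = n20009 := d20_1 D25343 (iv D20009) (iv F90681)
theorem F114040 : act 4 n25343 = n25343 := d31_1 D25343 (iv D25343) F90682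
theorem F114041 : act 7 n25343 = n25343 := d39_2 D20007 D25343 (iv D25343) (iv D20007) F71629
theorem F114042 : act 9 n25343 = n20084 := d41_2 (iv F90684) D25343 (iv D20084)
def n25344 : Q := act 8 n20007
theorem D25344 : act 8 n20007 = n25344 := rfl
theorem F114043 : act 2 n25344 = n20010 := d22_1 D25344 (iv D20010) (iv F90681)
theorem F114044 : act 4 n25344 = n25344 := d33_1 D25344 (iv D25344) F90682
theorem F114045 : act 7 n25344 = n20008 := d42_1 D25344 (iv D20008) D20007
def n25345 : Q := act 9 n20008
theorem D25345 : act 9 n20008 = n25345 := rfl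
theorem F114046 : act 2 n25345 = n20011 := d23_1 D25345 (iv D20011) (iv F90685)
theorem F114047 : act 4 n25345 = n25345 := d34_1 D25345 (iv D25345) F90686
theorem F114048 : act 6 n25345 = n25345 := d41_1 D25345 (iv D25345) F90687
theorem F114049 : act 8 n25345 = n20086 := d44_1 D25345 (iv D20086) (iv D15718) (iv F71630) D20008
def n25346 : Q := act 8 n20009
theorem D25346 : act 8 n20009 = n25346 := rfl
theorem F114050 : act 1 n25346 = n25346 := d15_1 D25346 (iv D25346) F90688
theorem F114051 : act 3 n25346 = n20012 := d28_1 D25346 (iv D20012) (iv F90689)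
theorem F114052 : act 4 n25346 = n25346 := d33_1 D25346 (iv D25346) F90690
theorem F114053 : act 6 n25346 = n20010 := d40_1 D25346 (iv D20010) D20009
theorem F114054 : act 7 n25346 = n25346 := d42_1 D25346 (iv D25346) F90691
def n25347 : Q := act 9 n20010
theorem D25347 : act 9 n20010 = n25347 := rfl
theorem F114055 : act 1 n25347 = n25347 := d16_1 D25347 (iv D25347) F90693
theorem F114056 : act 3 n25347 = n20013 := d29_1 D25347 (iv D20013) (iv F90694)
theorem F114057 : act 4 n25347 = n25347 := d34_1 D25347 (iv D25347) F90695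
theorem F114058 : act 7 n25347 = n20011 := d43_1 D25347 (iv D20011) (iv F90696)
theorem F114059 : act 8 n25347 = n20088 := d44_1 D25347 (iv D20088) (iv D15720) (iv F71638) D20010
def n25348 : Q := act 5 n20012
theorem D25348 : act 5 n20012 = n25348 := rfl
theorem F114060 : act 1 n25348 = n25348 := d12_1 D25348 (iv D25348) F90702
theorem F114061 : act 7 n25348 = n25348 := d36_2 F90705 D25348 (iv D25348)
def n25349 : Q := act 9 n20012
theorem D25349 : act 9 n20012 = n25349 := rfl
theorem F114062 : act 1 n25349 = n25349 := d16_1 D25349 (iv D25349) F90702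
theorem F114063 : act 4 n25349 = n20015 := d34_1 D25349 (iv D20015) (iv F90703)
theorem F114064 : act 6 n25349 = n20013 := d41_1 D25349 (iv D20013) (iv F90704)
theorem F114065 : act 7 n25349 = n25349 := d43_1 D25349 (iv D25349) F90705
theorem F114066 : act 8 n25349 = n20090 := d44_1 D25349 (iv D20090) (iv D15722) (iv F71646) D20012
def n25350 : Q := act 4 n20014
theorem D25350 : act 4 n20014 = n25350 := rfl
theorem F114067 : act 1 n25350 = n25350 := d11_1 D25350 (iv D25350) F90710
theorem F114068 : act 7 n25350 = n25350 := d32_2 F90712 D25350 (iv D25350)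
theorem F114069 : act 8 n25350 = n25350 := d33_2 F90713 D25350 (iv D25350)
def n25351 : Q := act 9 n20014
theorem D25351 : act 9 n20014 = n25351 := rfl
theorem F114070 : act 1 n25351 = n25351 := d16_1 D25351 (iv D25351) F90710
theorem F114071 : act 3 n25351 = n25351 := d29_1 D25351 (iv D25351) F90711
theorem F114072 : act 5 n25351 = n20015 := d38_1 D25351 (iv D20015) D20014
theorem F114073 : act 7 n25351 = n25351 := d43_1 D25351 (iv D25351) F90712
def n25352 : Q := act 5 n20016
theorem D25352 : act 5 n20016 = n25352 := rfl
theorem F114074 : act 0 n25352 = n20017 := d4_1 D25352 (iv D20017) (iv F90719)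
def n25353 : Q := act 7 n20016
theorem D25353 : act 7 n20016 = n25353 := rfl
theorem F114079 : act 0 n25353 = n20018 := d6_1 D25353 (iv D20018) (iv F90719)
theorem F114082 : act 8 n25353 = n20023 := d42_2 (iv F90722) D25353 (iv D20023)
def n25354 : Q := act 4 n20017
theorem D25354 : act 4 n20017 = n25354 := rfl
theorem F114083 : act 1 n25354 = n20019 := d11_1 D25354 (iv D20019) (iv F90723)
theorem F114084 : act 2 n25354 = n25354 := d18_1 D25354 (iv D25354) F90724
theorem F114085 : act 6 n25354 = n25354 := d31_2 F90726 D25354 (iv D25354)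
theorem F114086 : act 8 n25354 = n25354 := d33_2 F90727 D25354 (iv D25354)
def n25355 : Q := act 7 n20017
theorem D25355 : act 7 n20017 = n25355 := rfl
theorem F114087 : act 1 n25355 = n20020 := d14_1 D25355 (iv D20020) (iv F90723)
theorem F114088 : act 2 n25355 = n25355 := d21_1 D25355 (iv D25355) F90724
theorem F114090 : act 5 n25355 = n20018 := d36_1 D25355 (iv D20018) D20017
theorem F114091 : act 8 n25355 = n25355 := d42_2 F90727 D25355 (iv D25355)
def n25356 : Q := act 3 n20019
theorem D25356 : act 3 n20019 = n25356 := rfl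
theorem F114092 : act 4 n25356 = n20572 := d24_2 D20019 D25356 (iv D20572) (iv D16075) (iv F71671)
theorem F114093 : act 6 n25356 = n25356 := d26_2 F90733 D25356 (iv D25356)
theorem F114094 : act 8 n25356 = n25356 := d28_2 F90734 D25356 (iv D25356)
def n25357 : Q := act 7 n20019
theorem D25357 : act 7 n20019 = n25357 := rfl
theorem F114095 : act 2 n25357 = n20021 := d21_1 D25357 (iv D20021) (iv F90732)
theorem F114096 : act 4 n25357 = n20020 := d32_1 D25357 (iv D20020) D20019
theorem F114097 : act 8 n25357 = n25357 := d42_2 F90734 D25357 (iv D25357)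
def n25358 : Q := act 6 n20020
theorem D25358 : act 6 n20020 = n25358 := rfl
theorem F114098 : act 2 n25358 = n20022 := d20_1 D25358 (iv D20022) (iv F90735)
theorem F114099 : act 3 n25358 = n20574 := d26_1 D25358 (iv D20574) (iv F90736)
theorem F114100 : act 7 n25358 = n25358 := d39_2 D20020 D25358 (iv D25358) (iv D20020) F71672
theorem F114101 : act 8 n25358 = n25358 := d40_2 F90738 D25358 (iv D25358)
def n25359 : Q := act 6 n20021
theorem D25359 : act 6 n20021 = n25359 := rfl
theorem F114102 : act 1 n25359 = n25359 := d13_1 D25359 (iv D25359) F90739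
theorem F114103 : act 4 n25359 = n20022 := d31_1 D25359 (iv D20022) (iv F90740)
theorem F114104 : act 7 n25359 = n25359 := d39_2 D20021 D25359 (iv D25359) (iv D20021) F71678
theorem F114105 : act 8 n25359 = n25359 := d40_2 F90741 D25359 (iv D25359)
def n25362 : Q := act 5 n20025
theorem D25362 : act 5 n20025 = n25362 := rfl
theorem F114114 : act 2 n25362 = n20026 := d19_1 D25362 (iv D20026) (iv F90755)
def n25363 : Q := act 7 n20025
theorem D25363 : act 7 n20025 = n25363 := rfl
theorem F114117 : act 0 n25363 = n20042 := d6_1 D25363 (iv D20042) (iv F90754)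
theorem F114118 : act 2 n25363 = n20027 := d21_1 D25363 (iv D20027) (iv F90755)
def n25364 : Q := act 4 n20026
theorem D25364 : act 4 n20026 = n25364 := rfl
theorem F114123 : act 5 n25364 = n20614 := d30_2 D20026 D25364 (iv D20614) (iv D16108) (iv F71704)
def n25365 : Q := act 7 n20026
theorem D25365 : act 7 n20026 = n25365 := rfl
theorem F114125 : act 0 n25365 = n20044 := d6_1 D25365 (iv D20044) (iv F90758)
theorem F114126 : act 3 n25365 = n20028 := d27_1 D25365 (iv D20028) (iv F90759)
theorem F114127 : act 5 n25365 = n20027 := d36_1 D25365 (iv D20027) D20026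
def n25366 : Q := act 8 n20026
theorem D25366 : act 8 n20026 = n25366 := rfl
theorem F114128 : act 0 n25366 = n20045 := d7_1 D25366 (iv D20045) (iv F90758)
theorem F114129 : act 3 n25366 = n20029 := d28_1 D25366 (iv D20029) (iv F90759)
theorem F114130 : act 6 n25366 = n25366 := d40_1 D25366 (iv D25366) F90760
def n25367 : Q := act 6 n20028
theorem D25367 : act 6 n20028 = n25367 := rfl
theorem F114131 : act 0 n25367 = n20046 := d5_1 D25367 (iv D20046) (iv F90764)
theorem F114132 : act 2 n25367 = n25367 := d20_1 D25367 (iv D25367) F90765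
theorem F114133 : act 4 n25367 = n20036 := d31_1 D25367 (iv D20036) (iv F90766)
theorem F114134 : act 7 n25367 = n25367 := d39_2 D20028 D25367 (iv D25367) (iv D20028) F71708
def n25368 : Q := act 8 n20028
theorem D25368 : act 8 n20028 = n25368 := rfl
theorem F114135 : act 0 n25368 = n20047 := d7_1 D25368 (iv D20047) (iv F90764)
theorem F114136 : act 2 n25368 = n25368 := d22_1 D25368 (iv D25368) F90765
theorem F114137 : act 4 n25368 = n20037 := d33_1 D25368 (iv D20037) (iv F90766)
theorem F114138 : act 7 n25368 = n20029 := d42_1 D25368 (iv D20029) D20028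
def n25369 : Q := act 9 n20029
theorem D25369 : act 9 n20029 = n25369 := rfl
theorem F114139 : act 0 n25369 = n20048 := d8_1 D25369 (iv D20048) (iv F90768)
theorem F114140 : act 2 n25369 = n25369 := d23_1 D25369 (iv D25369) F90769
theorem F114141 : act 4 n25369 = n20038 := d34_1 D25369 (iv D20038) (iv F90770)
theorem F114142 : act 6 n25369 = n25369 := d41_1 D25369 (iv D25369) F90771
def n25370 : Q := act 5 n20030
theorem D25370 : act 5 n20030 = n25370 := rfl
theorem F114144 : act 1 n25370 = n20031 := d12_1 D25370 (iv D20031) (iv F90773)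
theorem F114147 : act 4 n25370 = n22210 := d30_1 D25370 F99298 F92904 (iv D20620) (iv F90775)
theorem F114149 : act 8 n22208 = n25370 := d33_0 F114147 (iv D22210) D22208
def n25372 : Q := act 4 n20031
theorem D25372 : act 4 n20031 = n25372 := rfl
theorem F114159 : act 5 n25372 = n20622 := d30_2 D20031 D25372 (iv D20622) (iv D16113) (iv F71721)
def n25373 : Q := act 7 n20031
theorem D25373 : act 7 n20031 = n25373 := rfl
theorem F114164 : act 2 n25373 = n20034 := d21_1 D25373 (iv D20034) (iv F90778)
def n25374 : Q := act 8 n20031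
theorem D25374 : act 8 n20031 = n25374 := rfl
theorem F114168 : act 1 n25374 = n22208 := d15_1 D25374 F114149 F114144
theorem F114169 : act 2 n25374 = n20035 := d22_1 D25374 (iv D20035) (iv F90778)
def n25375 : Q := act 7 n20033
theorem D25375 : act 7 n20033 = n25375 := rfl
theorem F114175 : act 4 n25375 = n20034 := d32_1 D25375 (iv D20034) D20033
theorem F114176 : act 5 n25375 = n20625 := d36_1 D25375 (iv D20625) (iv F90788)
def n25377 : Q := act 6 n20034
theorem D25377 : act 6 n20034 = n25377 := rfl
theorem F114183 : act 0 n25377 = n20054 := d5_1 D25377 (iv D20054) (iv F90790)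
theorem F114184 : act 3 n25377 = n20036 := d26_1 D25377 (iv D20036) (iv F90791)
theorem F114185 : act 5 n25377 = n25377 := d35_1 D25377 (iv D25377) F90792 F71729 (iv F90792)
theorem F114186 : act 7 n25377 = n25377 := d39_2 D20034 D25377 (iv D25377) (iv D20034) F71725
def n25378 : Q := act 8 n20034
theorem D25378 : act 8 n20034 = n25378 := rfl
theorem F114187 : act 0 n25378 = n20055 := d7_1 D25378 (iv D20055) (iv F90790)
theorem F114188 : act 3 n25378 = n20037 := d28_1 D25378 (iv D20037) (iv F90791)
theorem F114189 : act 5 n25378 = n25378 := d37_1 D25378 (iv D25378) F90792 F71730 (iv F90792)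
theorem F114190 : act 7 n25378 = n20035 := d42_1 D25378 (iv D20035) D20034
def n25379 : Q := act 9 n20035
theorem D25379 : act 9 n20035 = n25379 := rfl
theorem F114191 : act 0 n25379 = n20056 := d8_1 D25379 (iv D20056) (iv F90793)
theorem F114192 : act 3 n25379 = n20038 := d29_1 D25379 (iv D20038) (iv F90794)
theorem F114193 : act 5 n25379 = n25379 := d38_1 D25379 (iv D25379) F90795
theorem F114194 : act 6 n25379 = n25379 := d41_1 D25379 (iv D25379) F90796
def n25380 : Q := act 8 n20036
theorem D25380 : act 8 n20036 = n25380 := rfl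
theorem F114195 : act 0 n25380 = n20057 := d7_1 D25380 (iv D20057) (iv F90797)
theorem F114196 : act 2 n25380 = n25380 := d22_1 D25380 (iv D25380) F90798
theorem F114197 : act 6 n25380 = n20037 := d40_1 D25380 (iv D20037) D20036
theorem F114198 : act 7 n25380 = n25380 := d42_1 D25380 (iv D25380) F90800
def n25381 : Q := act 9 n20037
theorem D25381 : act 9 n20037 = n25381 := rfl
theorem F114199 : act 0 n25381 = n20058 := d8_1 D25381 (iv D20058) (iv F90801)
theorem F114200 : act 2 n25381 = n25381 := d23_1 D25381 (iv D25381) F90802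
theorem F114201 : act 5 n25381 = n25381 := d38_1 D25381 (iv D25381) F90803
theorem F114202 : act 7 n25381 = n20038 := d43_1 D25381 (iv D20038) (iv F90804)
def n25383 : Q := act 5 n20040
theorem D25383 : act 5 n20040 = n25383 := rfl
theorem F114208 : act 2 n25383 = n20060 := d19_1 D25383 (iv D20060) (iv F90814)
def n25384 : Q := act 7 n20040
theorem D25384 : act 7 n20040 = n25384 := rfl
theorem F114211 : act 1 n25384 = n20042 := d14_1 D25384 (iv D20042) (iv F90813)
theorem F114212 : act 2 n25384 = n20061 := d21_1 D25384 (iv D20061) (iv F90814)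
theorem F114213 : act 3 n25384 = n25384 := d27_1 D25384 (iv D25384) F90815
def n25386 : Q := act 7 n20041
theorem D25386 : act 7 n20041 = n25386 := rfl
theorem F114218 : act 2 n25386 = n20044 := d21_1 D25386 (iv D20044) (iv F90817)
theorem F114220 : act 5 n25386 = n20042 := d36_1 D25386 (iv D20042) D20041
def n25387 : Q := act 8 n20041
theorem D25387 : act 8 n20041 = n25387 := rfl
theorem F114221 : act 2 n25387 = n20045 := d22_1 D25387 (iv D20045) (iv F90817)
def n25388 : Q := act 7 n20043
theorem D25388 : act 7 n20043 = n25388 := rfl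
theorem F114224 : act 1 n25388 = n20065 := d14_1 D25388 (iv D20065) (iv F90823)
theorem F114226 : act 4 n25388 = n20044 := d32_1 D25388 (iv D20044) D20043
theorem F114227 : act 5 n25388 = n20664 := d36_1 D25388 (iv D20664) (iv F90825)
def n25389 : Q := act 8 n20043
theorem D25389 : act 8 n20043 = n25389 := rfl
theorem F114228 : act 1 n25389 = n20066 := d15_1 D25389 (iv D20066) (iv F90823)
theorem F114229 : act 3 n25389 = n20053 := d28_1 D25389 (iv D20053) (iv F90824)
theorem F114230 : act 4 n25389 = n20045 := d33_1 D25389 (iv D20045) D20043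
def n25390 : Q := act 6 n20044
theorem D25390 : act 6 n20044 = n25390 := rfl
theorem F114232 : act 1 n25390 = n20067 := d13_1 D25390 (iv D20067) (iv F90827)
theorem F114233 : act 3 n25390 = n20046 := d26_1 D25390 (iv D20046) (iv F90828)
theorem F114234 : act 7 n25390 = n25390 := d39_2 D20044 D25390 (iv D25390) (iv D20044) F71747
def n25391 : Q := act 8 n20044
theorem D25391 : act 8 n20044 = n25391 := rfl
theorem F114235 : act 1 n25391 = n20068 := d15_1 D25391 (iv D20068) (iv F90827)
theorem F114236 : act 3 n25391 = n20047 := d28_1 D25391 (iv D20047) (iv F90828)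
theorem F114237 : act 7 n25391 = n20045 := d42_1 D25391 (iv D20045) D20044
def n25392 : Q := act 9 n20045
theorem D25392 : act 9 n20045 = n25392 := rfl
theorem F114238 : act 1 n25392 = n20069 := d16_1 D25392 (iv D20069) (iv F90830)
theorem F114239 : act 3 n25392 = n20048 := d29_1 D25392 (iv D20048) (iv F90831)
theorem F114240 : act 6 n25392 = n25392 := d41_1 D25392 (iv D25392) F90832
def n25393 : Q := act 8 n20046
theorem D25393 : act 8 n20046 = n25393 := rfl
theorem F114241 : act 1 n25393 = n20070 := d15_1 D25393 (iv D20070) (iv F90833)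
theorem F114242 : act 2 n25393 = n25393 := d22_1 D25393 (iv D25393) F90834
theorem F114243 : act 4 n25393 = n20057 := d33_1 D25393 (iv D20057) (iv F90835)
theorem F114244 : act 6 n25393 = n20047 := d40_1 D25393 (iv D20047) D20046
theorem F114245 : act 7 n25393 = n25393 := d42_1 D25393 (iv D25393) F90836
def n25394 : Q := act 9 n20047
theorem D25394 : act 9 n20047 = n25394 := rfl
theorem F114246 : act 1 n25394 = n20071 := d16_1 D25394 (iv D20071) (iv F90837)
theorem F114247 : act 2 n25394 = n25394 := d23_1 D25394 (iv D25394) F90838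
theorem F114248 : act 4 n25394 = n20058 := d34_1 D25394 (iv D20058) (iv F90839)
theorem F114249 : act 7 n25394 = n20048 := d43_1 D25394 (iv D20048) (iv F90840)
def n25398 : Q := act 6 n20050
theorem D25398 : act 6 n20050 = n25398 := rfl
theorem F114268 : act 2 n25398 = n20054 := d20_1 D25398 (iv D20054) (iv F90850)
def n25399 : Q := act 8 n20050
theorem D25399 : act 8 n20050 = n25399 := rfl
theorem F114273 : act 2 n25399 = n20055 := d22_1 D25399 (iv D20055) (iv F90850)
def n25400 : Q := act 9 n20051
theorem D25400 : act 9 n20051 = n25400 := rfl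
theorem F114278 : act 2 n25400 = n20056 := d23_1 D25400 (iv D20056) (iv F90854)
def n25401 : Q := act 6 n20052
theorem D25401 : act 6 n20052 = n25401 := rfl
theorem F114282 : act 1 n25401 = n20072 := d13_1 D25401 (iv D20072) (iv F90858)
theorem F114283 : act 4 n25401 = n20054 := d31_1 D25401 (iv D20054) (iv F90859)
def n25402 : Q := act 8 n20052
theorem D25402 : act 8 n20052 = n25402 := rfl
theorem F114285 : act 1 n25402 = n20073 := d15_1 D25402 (iv D20073) (iv F90858)
theorem F114286 : act 4 n25402 = n20055 := d33_1 D25402 (iv D20055) (iv F90859)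
theorem F114287 : act 7 n25402 = n20053 := d42_1 D25402 (iv D20053) D20052
def n25403 : Q := act 5 n20053
theorem D25403 : act 5 n20053 = n25403 := rfl
theorem F114289 : act 1 n25403 = n20074 := d12_1 D25403 (iv D20074) (iv F90861)
theorem F114292 : act 8 n25403 = n20679 := d37_2 D20053 D25403 (iv D20679) (iv D16151) (iv F71770)
def n25404 : Q := act 9 n20053
theorem D25404 : act 9 n20053 = n25404 := rfl
theorem F114294 : act 1 n25404 = n20075 := d16_1 D25404 (iv D20075) (iv F90861)
theorem F114295 : act 4 n25404 = n20056 := d34_1 D25404 (iv D20056) (iv F90862)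
def n25405 : Q := act 8 n20054
theorem D25405 : act 8 n20054 = n25405 := rfl
theorem F114297 : act 1 n25405 = n20076 := d15_1 D25405 (iv D20076) (iv F90864)
theorem F114298 : act 3 n25405 = n20057 := d28_1 D25405 (iv D20057) (iv F90865)
theorem F114299 : act 6 n25405 = n20055 := d40_1 D25405 (iv D20055) D20054
theorem F114300 : act 7 n25405 = n25405 := d42_1 D25405 (iv D25405) F90867
def n25406 : Q := act 9 n20055
theorem D25406 : act 9 n20055 = n25406 := rfl
theorem F114301 : act 1 n25406 = n20077 := d16_1 D25406 (iv D20077) (iv F90868)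
theorem F114302 : act 3 n25406 = n20058 := d29_1 D25406 (iv D20058) (iv F90869)
theorem F114303 : act 5 n25406 = n25406 := d38_1 D25406 (iv D25406) F90870
theorem F114304 : act 7 n25406 = n20056 := d43_1 D25406 (iv D20056) (iv F90871)
def n25407 : Q := act 5 n20057
theorem D25407 : act 5 n20057 = n25407 := rfl
theorem F114305 : act 1 n25407 = n20078 := d12_1 D25407 (iv D20078) (iv F90876)
theorem F114306 : act 2 n25407 = n25407 := d19_1 D25407 (iv D25407) F90877
theorem F114307 : act 6 n25407 = n25407 := d35_2 (iv F90878) D25407 (iv D25407) F90878 F71785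
theorem F114308 : act 7 n25407 = n25407 := d36_2 F90879 D25407 (iv D25407)
theorem F114309 : act 8 n25407 = n25407 := d37_2 D20057 D25407 (iv D25407) (iv D20057) F71781
def n25408 : Q := act 9 n20057
theorem D25408 : act 9 n20057 = n25408 := rfl
theorem F114310 : act 1 n25408 = n20079 := d16_1 D25408 (iv D20079) (iv F90876)
theorem F114311 : act 2 n25408 = n25408 := d23_1 D25408 (iv D25408) F90877
theorem F114312 : act 6 n25408 = n20058 := d41_1 D25408 (iv D20058) (iv F90878)
theorem F114313 : act 7 n25408 = n25408 := d43_1 D25408 (iv D25408) F90879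
def n25409 : Q := act 5 n20059
theorem D25409 : act 5 n20059 = n25409 := rfl
theorem F114314 : act 0 n25409 = n20060 := d4_1 D25409 (iv D20060) (iv F90884)
def n25410 : Q := act 7 n20059
theorem D25410 : act 7 n20059 = n25410 := rfl
theorem F114317 : act 0 n25410 = n20061 := d6_1 D25410 (iv D20061) (iv F90884)
def n25411 : Q := act 4 n20060
theorem D25411 : act 4 n20060 = n25411 := rfl
theorem F114320 : act 1 n25411 = n20062 := d11_1 D25411 (iv D20062) (iv F90887)
theorem F114322 : act 5 n25411 = n20723 := d30_2 D20060 D25411 (iv D20723) (iv D16184) (iv F71796)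
def n25412 : Q := act 7 n20060
theorem D25412 : act 7 n20060 = n25412 := rfl
theorem F114324 : act 1 n25412 = n20063 := d14_1 D25412 (iv D20063) (iv F90887)
theorem F114325 : act 3 n25412 = n20082 := d27_1 D25412 (iv D20082) (iv F90888)
theorem F114326 : act 5 n25412 = n20061 := d36_1 D25412 (iv D20061) D20060
def n25413 : Q := act 8 n20060
theorem D25413 : act 8 n20060 = n25413 := rfl
theorem F114327 : act 1 n25413 = n20064 := d15_1 D25413 (iv D20064) (iv F90887)
theorem F114328 : act 3 n25413 = n20083 := d28_1 D25413 (iv D20083) (iv F90888)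
def n25414 : Q := act 7 n20062
theorem D25414 : act 7 n20062 = n25414 := rfl
theorem F114330 : act 2 n25414 = n20065 := d21_1 D25414 (iv D20065) (iv F90893)
theorem F114331 : act 3 n25414 = n25414 := d27_1 D25414 (iv D25414) F90894
theorem F114332 : act 4 n25414 = n20063 := d32_1 D25414 (iv D20063) D20062
theorem F114333 : act 5 n25414 = n20726 := d36_1 D25414 (iv D20726) (iv F90895)
def n25415 : Q := act 8 n20062
theorem D25415 : act 8 n20062 = n25415 := rfl
theorem F114334 : act 2 n25415 = n20066 := d22_1 D25415 (iv D20066) (iv F90893)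
theorem F114335 : act 3 n25415 = n25415 := d28_1 D25415 (iv D25415) F90894
theorem F114336 : act 4 n25415 = n20064 := d33_1 D25415 (iv D20064) D20062
theorem F114337 : act 6 n25415 = n25415 := d40_1 D25415 (iv D25415) F90896
def n25416 : Q := act 6 n20063
theorem D25416 : act 6 n20063 = n25416 := rfl
theorem F114338 : act 2 n25416 = n20067 := d20_1 D25416 (iv D20067) (iv F90897)
theorem F114339 : act 3 n25416 = n20084 := d26_1 D25416 (iv D20084) (iv F90898)
theorem F114340 : act 7 n25416 = n25416 := d39_2 D20063 D25416 (iv D25416) (iv D20063) F71799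
def n25417 : Q := act 8 n20063
theorem D25417 : act 8 n20063 = n25417 := rfl
theorem F114341 : act 2 n25417 = n20068 := d22_1 D25417 (iv D20068) (iv F90897)
theorem F114342 : act 3 n25417 = n20085 := d28_1 D25417 (iv D20085) (iv F90898)
theorem F114343 : act 7 n25417 = n20064 := d42_1 D25417 (iv D20064) D20063
def n25418 : Q := act 9 n20064
theorem D25418 : act 9 n20064 = n25418 := rfl
theorem F114344 : act 2 n25418 = n20069 := d23_1 D25418 (iv D20069) (iv F90900)
theorem F114345 : act 3 n25418 = n20086 := d29_1 D25418 (iv D20086) (iv F90901)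
theorem F114346 : act 6 n25418 = n25418 := d41_1 D25418 (iv D25418) F90902
def n25419 : Q := act 6 n20065
theorem D25419 : act 6 n20065 = n25419 := rfl
theorem F114347 : act 3 n25419 = n20072 := d26_1 D25419 (iv D20072) (iv F90903)
theorem F114348 : act 4 n25419 = n20067 := d31_1 D25419 (iv D20067) (iv F90904)
theorem F114349 : act 7 n25419 = n25419 := d39_2 D20065 D25419 (iv D25419) (iv D20065) F71805
def n25420 : Q := act 8 n20065
theorem D25420 : act 8 n20065 = n25420 := rfl
theorem F114350 : act 3 n25420 = n20073 := d28_1 D25420 (iv D20073) (iv F90903)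
theorem F114351 : act 4 n25420 = n20068 := d33_1 D25420 (iv D20068) (iv F90904)
theorem F114352 : act 7 n25420 = n20066 := d42_1 D25420 (iv D20066) D20065
def n25421 : Q := act 5 n20066
theorem D25421 : act 5 n20066 = n25421 := rfl
theorem F114354 : act 8 n25421 = n20733 := d37_2 D20066 D25421 (iv D20733) (iv D16190) (iv F71804)
def n25422 : Q := act 9 n20066
theorem D25422 : act 9 n20066 = n25422 := rfl
theorem F114355 : act 3 n25422 = n20075 := d29_1 D25422 (iv D20075) (iv F90906)
theorem F114356 : act 4 n25422 = n20069 := d34_1 D25422 (iv D20069) (iv F90907)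
theorem F114357 : act 6 n25422 = n25422 := d41_1 D25422 (iv D25422) F90908
def n25423 : Q := act 8 n20067
theorem D25423 : act 8 n20067 = n25423 := rfl
theorem F114358 : act 3 n25423 = n20070 := d28_1 D25423 (iv D20070) (iv F90909)
theorem F114359 : act 6 n25423 = n20068 := d40_1 D25423 (iv D20068) D20067
theorem F114360 : act 7 n25423 = n25423 := d42_1 D25423 (iv D25423) F90910
def n25424 : Q := act 9 n20068
theorem D25424 : act 9 n20068 = n25424 := rfl
theorem F114361 : act 3 n25424 = n20071 := d29_1 D25424 (iv D20071) (iv F90911)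
theorem F114362 : act 7 n25424 = n20069 := d43_1 D25424 (iv D20069) (iv F90912)
def n25425 : Q := act 5 n20070
theorem D25425 : act 5 n20070 = n25425 := rfl
theorem F114363 : act 2 n25425 = n20089 := d19_1 D25425 (iv D20089) (iv F90915)
theorem F114364 : act 7 n25425 = n25425 := d36_2 F90918 D25425 (iv D25425)
def n25426 : Q := act 9 n20070
theorem D25426 : act 9 n20070 = n25426 := rfl
theorem F114365 : act 2 n25426 = n20090 := d23_1 D25426 (iv D20090) (iv F90915)
theorem F114366 : act 4 n25426 = n20079 := d34_1 D25426 (iv D20079) (iv F90916)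
theorem F114367 : act 6 n25426 = n20071 := d41_1 D25426 (iv D20071) (iv F90917)
theorem F114368 : act 7 n25426 = n25426 := d43_1 D25426 (iv D25426) F90918
def n25427 : Q := act 5 n20072
theorem D25427 : act 5 n20072 = n25427 := rfl
theorem F114369 : act 2 n25427 = n25427 := d19_1 D25427 (iv D25427) F90922
theorem F114370 : act 4 n25427 = n25427 := d30_1 D25427 (iv D25427) F90923 F71827 (iv F90923)
theorem F114371 : act 6 n25427 = n20739 := d35_2 D20072 D25427 (iv D20739) (iv D16196) (iv F71821)
theorem F114372 : act 7 n25427 = n25427 := d36_2 F90924 D25427 (iv D25427)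
def n25428 : Q := act 8 n20072
theorem D25428 : act 8 n20072 = n25428 := rfl
theorem F114373 : act 2 n25428 = n25428 := d22_1 D25428 (iv D25428) F90922
theorem F114374 : act 4 n25428 = n20076 := d33_1 D25428 (iv D20076) (iv F90923)
theorem F114375 : act 6 n25428 = n20073 := d40_1 D25428 (iv D20073) D20072
theorem F114376 : act 7 n25428 = n25428 := d42_1 D25428 (iv D25428) F90924
def n25429 : Q := act 5 n20073
theorem D25429 : act 5 n20073 = n25429 := rfl
theorem F114380 : act 8 n25429 = n20741 := d37_2 D20073 D25429 (iv D20741) (iv D16197) (iv F71821)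
def n25430 : Q := act 9 n20073
theorem D25430 : act 9 n20073 = n25430 := rfl
theorem F114381 : act 2 n25430 = n25430 := d23_1 D25430 (iv D25430) F90925
theorem F114382 : act 4 n25430 = n20077 := d34_1 D25430 (iv D20077) (iv F90926)
theorem F114383 : act 7 n25430 = n20075 := d43_1 D25430 (iv D20075) (iv F90927)
def n25432 : Q := act 9 n20074
theorem D25432 : act 9 n20074 = n25432 := rfl
theorem F114393 : act 5 n25432 = n20075 := d38_1 D25432 (iv D20075) D20074
def n25433 : Q := act 5 n20076
theorem D25433 : act 5 n20076 = n25433 := rfl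
theorem F114394 : act 2 n25433 = n25433 := d19_1 D25433 (iv D25433) F90934
theorem F114395 : act 3 n25433 = n20078 := d25_1 D25433 (iv D20078) (iv F90935)
theorem F114396 : act 6 n25433 = n25433 := d35_2 (iv F90936) D25433 (iv D25433) F90936 F71831
theorem F114397 : act 7 n25433 = n25433 := d36_2 F90937 D25433 (iv D25433)
theorem F114398 : act 8 n25433 = n25433 := d37_2 D20076 D25433 (iv D25433) (iv D20076) F71827
def n25434 : Q := act 9 n20076
theorem D25434 : act 9 n20076 = n25434 := rfl
theorem F114399 : act 2 n25434 = n25434 := d23_1 D25434 (iv D25434) F90934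
theorem F114400 : act 3 n25434 = n20079 := d29_1 D25434 (iv D20079) (iv F90935)
theorem F114401 : act 6 n25434 = n20077 := d41_1 D25434 (iv D20077) (iv F90936)
theorem F114402 : act 7 n25434 = n25434 := d43_1 D25434 (iv D25434) F90937
def n25435 : Q := act 4 n20078
theorem D25435 : act 4 n20078 = n25435 := rfl
theorem F114403 : act 2 n25435 = n20091 := d18_1 D25435 (iv D20091) (iv F90942)
theorem F114404 : act 6 n25435 = n25435 := d31_2 F90943 D25435 (iv D25435)
theorem F114405 : act 7 n25435 = n25435 := d32_2 F90944 D25435 (iv D25435)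
theorem F114406 : act 8 n25435 = n25435 := d33_2 F90945 D25435 (iv D25435)
def n25436 : Q := act 9 n20078
theorem D25436 : act 9 n20078 = n25436 := rfl
theorem F114407 : act 2 n25436 = n20092 := d23_1 D25436 (iv D20092) (iv F90942)
theorem F114408 : act 5 n25436 = n20079 := d38_1 D25436 (iv D20079) D20078
theorem F114409 : act 6 n25436 = n25436 := d41_1 D25436 (iv D25436) F90943
theorem F114410 : act 7 n25436 = n25436 := d43_1 D25436 (iv D25436) F90944
def n25437 : Q := act 7 n20080
theorem D25437 : act 7 n20080 = n25437 := rfl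
theorem F114411 : act 0 n25437 = n20082 := d6_1 D25437 (iv D20082) (iv F90949)
theorem F114414 : act 5 n25437 = n20081 := d36_1 D25437 (iv D20081) D20080
def n25439 : Q := act 6 n20082
theorem D25439 : act 6 n20082 = n25439 := rfl
theorem F114419 : act 1 n25439 = n20084 := d13_1 D25439 (iv D20084) (iv F90956)
def n25440 : Q := act 8 n20082
theorem D25440 : act 8 n20082 = n25440 := rfl
theorem F114423 : act 1 n25440 = n20085 := d15_1 D25440 (iv D20085) (iv F90956)
theorem F114426 : act 7 n25440 = n20083 := d42_1 D25440 (iv D20083) D20082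
def n25441 : Q := act 9 n20083
theorem D25441 : act 9 n20083 = n25441 := rfl
theorem F114427 : act 1 n25441 = n20086 := d16_1 D25441 (iv D20086) (iv F90960)
def n25442 : Q := act 8 n20084
theorem D25442 : act 8 n20084 = n25442 := rfl
theorem F114431 : act 2 n25442 = n20087 := d22_1 D25442 (iv D20087) (iv F90964)
theorem F114432 : act 4 n25442 = n25442 := d33_1 D25442 (iv D25442) F90965
theorem F114433 : act 6 n25442 = n20085 := d40_1 D25442 (iv D20085) D20084
theorem F114434 : act 7 n25442 = n25442 := d42_1 D25442 (iv D25442) F90966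
def n25443 : Q := act 9 n20085
theorem D25443 : act 9 n20085 = n25443 := rfl
theorem F114435 : act 2 n25443 = n20088 := d23_1 D25443 (iv D20088) (iv F90967)
theorem F114436 : act 4 n25443 = n25443 := d34_1 D25443 (iv D25443) F90968
theorem F114437 : act 7 n25443 = n20086 := d43_1 D25443 (iv D20086) (iv F90969)
def n25444 : Q := act 5 n20087
theorem D25444 : act 5 n20087 = n25444 := rfl
theorem F114438 : act 1 n25444 = n25444 := d12_1 D25444 (iv D25444) F90973
theorem F114439 : act 3 n25444 = n20089 := d25_1 D25444 (iv D20089) (iv F90974)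
theorem F114440 : act 7 n25444 = n25444 := d36_2 F90977 D25444 (iv D25444)
def n25445 : Q := act 9 n20087
theorem D25445 : act 9 n20087 = n25445 := rfl
theorem F114441 : act 1 n25445 = n25445 := d16_1 D25445 (iv D25445) F90973
theorem F114442 : act 3 n25445 = n20090 := d29_1 D25445 (iv D20090) (iv F90974)
theorem F114443 : act 4 n25445 = n25445 := d34_1 D25445 (iv D25445) F90975
theorem F114444 : act 6 n25445 = n20088 := d41_1 D25445 (iv D20088) (iv F90976)
theorem F114445 : act 7 n25445 = n25445 := d43_1 D25445 (iv D25445) F90977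
def n25446 : Q := act 4 n20089
theorem D25446 : act 4 n20089 = n25446 := rfl
theorem F114446 : act 1 n25446 = n25446 := d11_1 D25446 (iv D25446) F90982
theorem F114447 : act 5 n25446 = n20091 := d30_2 D20089 D25446 (iv D20091) (iv D15724) (iv F71872)
theorem F114448 : act 7 n25446 = n25446 := d32_2 F90983 D25446 (iv D25446)
def n25447 : Q := act 9 n20089
theorem D25447 : act 9 n20089 = n25447 := rfl
theorem F114449 : act 1 n25447 = n25447 := d16_1 D25447 (iv D25447) F90982
theorem F114450 : act 5 n25447 = n20090 := d38_1 D25447 (iv D20090) D20089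
theorem F114451 : act 7 n25447 = n25447 := d43_1 D25447 (iv D25447) F90983
def n25448 : Q := act 3 n20091
theorem D25448 : act 3 n20091 = n25448 := rfl
theorem F114452 : act 1 n25448 = n25448 := d10_1 D25448 (iv D25448) F90988
theorem F114453 : act 4 n25448 = n25448 := d24_2 D20091 D25448 (iv D25448) (iv D20091) F71879
theorem F114454 : act 6 n25448 = n25448 := d26_2 F90989 D25448 (iv D25448)
theorem F114455 : act 7 n25448 = n25448 := d27_2 F90990 D25448 (iv D25448)
theorem F114456 : act 8 n25448 = n25448 := d28_2 F90991 D25448 (iv D25448)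
def n25449 : Q := act 9 n20091
theorem D25449 : act 9 n20091 = n25449 := rfl
theorem F114457 : act 1 n25449 = n25449 := d16_1 D25449 (iv D25449) F90988
theorem F114458 : act 4 n25449 = n20092 := d34_1 D25449 (iv D20092) D20091
theorem F114459 : act 6 n25449 = n25449 := d41_1 D25449 (iv D25449) F90989
theorem F114460 : act 7 n25449 = n25449 := d43_1 D25449 (iv D25449) F90990
def n25450 : Q := act 8 n20092
theorem D25450 : act 8 n20092 = n25450 := rfl
theorem F114461 : act 1 n25450 = n25450 := d15_1 D25450 (iv D25450) F90992
theorem F114462 : act 3 n25450 = n25450 := d28_1 D25450 (iv D25450) F90993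
theorem F114463 : act 6 n25450 = n25450 := d40_1 D25450 (iv D25450) F90995
theorem F114464 : act 7 n25450 = n25450 := d42_1 D25450 (iv D25450) F90996
theorem F114465 : act 9 n25450 = n25450 := d44_2 D20092 D25450 (iv D25450) (iv D20092) F71882
def n25451 : Q := act 2 n20093
theorem D25451 : act 2 n20093 = n25451 := rfl
theorem F114466 : act 0 n25451 = n20115 := d1_1 D25451 (iv D20115) (iv F90997)
theorem F114467 : act 3 n25451 = n21413 := d17_2 D20093 D25451 (iv D21413) (iv D16740) (iv F71892)
theorem F114468 : act 8 n25451 = n20096 := d22_2 (iv F90998) D25451 (iv D20096)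
def n25452 : Q := act 6 n20093
theorem D25452 : act 6 n20093 = n25452 := rfl
theorem F114469 : act 0 n25452 = n20116 := d5_1 D25452 (iv D20116) (iv F90997)
theorem F114470 : act 3 n25452 = n20094 := d26_1 D25452 (iv D20094) D20093
theorem F114471 : act 8 n25452 = n20097 := d40_2 (iv F90998) D25452 (iv D20097)
def n25453 : Q := act 5 n20094
theorem D25453 : act 5 n20094 = n25453 := rfl
theorem F114472 : act 0 n25453 = n20117 := d4_1 D25453 (iv D20117) (iv F90999)
theorem F114473 : act 2 n25453 = n21415 := d19_1 D25453 (iv D21415) (iv F91000)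
theorem F114474 : act 4 n25453 = n20303 := d30_1 D25453 (iv D20303) F72493 (iv F71896) (iv F91001)
def n25454 : Q := act 7 n20094
theorem D25454 : act 7 n20094 = n25454 := rfl
theorem F114475 : act 0 n25454 = n20118 := d6_1 D25454 (iv D20118) (iv F90999)
theorem F114476 : act 2 n25454 = n21416 := d21_1 D25454 (iv D21416) (iv F91000)
theorem F114477 : act 4 n25454 = n20095 := d32_1 D25454 (iv D20095) (iv F91001)
theorem F114478 : act 8 n25454 = n20099 := d42_2 (iv F91002) D25454 (iv D20099)
def n25455 : Q := act 1 n20096
theorem D25455 : act 1 n20096 = n25455 := rfl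
theorem F114479 : act 3 n25455 = n21421 := d10_2 (iv F91008) D25455 (iv D21421)
theorem F114480 : act 5 n25455 = n25455 := d12_2 F91009 D25455 (iv D25455)
theorem F114481 : act 9 n25455 = n25455 := d16_2 F91010 D25455 (iv D25455)
def n25456 : Q := act 6 n20096
theorem D25456 : act 6 n20096 = n25456 := rfl
theorem F114482 : act 0 n25456 = n20124 := d5_1 D25456 (iv D20124) (iv F91007)
theorem F114483 : act 2 n25456 = n20097 := d20_1 D25456 (iv D20097) D20096
theorem F114484 : act 3 n25456 = n21422 := d26_1 D25456 (iv D21422) (iv F91008)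
theorem F114485 : act 9 n25456 = n25456 := d41_2 F91010 D25456 (iv D25456)
def n25457 : Q := act 5 n20097
theorem D25457 : act 5 n20097 = n25457 := rfl
theorem F114486 : act 0 n25457 = n20125 := d4_1 D25457 (iv D20125) (iv F91011)
theorem F114487 : act 3 n25457 = n20098 := d25_1 D25457 (iv D20098) (iv F91012)
theorem F114488 : act 6 n25457 = n25457 := d35_2 D20097 D25457 (iv D25457) (iv D20097) F71899
theorem F114489 : act 9 n25457 = n25457 := d38_2 F91013 D25457 (iv D25457)
def n25458 : Q := act 7 n20097
theorem D25458 : act 7 n20097 = n25458 := rfl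
theorem F114490 : act 0 n25458 = n20126 := d6_1 D25458 (iv D20126) (iv F91011)
theorem F114491 : act 3 n25458 = n20099 := d27_1 D25458 (iv D20099) (iv F91012)
theorem F114492 : act 9 n25458 = n25458 := d43_2 F91013 D25458 (iv D25458)
def n25459 : Q := act 7 n20098
theorem D25459 : act 7 n20098 = n25459 := rfl
theorem F114493 : act 0 n25459 = n20127 := d6_1 D25459 (iv D20127) (iv F91014)
theorem F114494 : act 2 n25459 = n21425 := d21_1 D25459 (iv D21425) (iv F91015)
theorem F114495 : act 4 n25459 = n20104 := d32_1 D25459 (iv D20104) (iv F91016)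
theorem F114496 : act 5 n25459 = n20099 := d36_1 D25459 (iv D20099) D20098
theorem F114497 : act 9 n25459 = n25459 := d43_2 F91018 D25459 (iv D25459)
def n25460 : Q := act 8 n20098
theorem D25460 : act 8 n20098 = n25460 := rfl
theorem F114498 : act 0 n25460 = n20128 := d7_1 D25460 (iv D20128) (iv F91014)
theorem F114500 : act 4 n25460 = n20105 := d33_1 D25460 (iv D20105) (iv F91016)
def n25462 : Q := act 5 n20101
theorem D25462 : act 5 n20101 = n25462 := rfl
theorem F114508 : act 2 n25462 = n20102 := d19_1 D25462 (iv D20102) (iv F91030)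
def n25463 : Q := act 7 n20101
theorem D25463 : act 7 n20101 = n25463 := rfl
theorem F114513 : act 2 n25463 = n20103 := d21_1 D25463 (iv D20103) (iv F91030)
theorem F114516 : act 8 n25463 = n20317 := d42_2 (iv F91032) D25463 (iv D20317)
def n25464 : Q := act 4 n20102
theorem D25464 : act 4 n20102 = n25464 := rfl
theorem F114518 : act 0 n25464 = n20131 := d3_1 D25464 (iv D20131) (iv F91034)
theorem F114519 : act 6 n25464 = n25464 := d31_2 F91036 D25464 (iv D25464)
theorem F114520 : act 9 n25464 = n25464 := d34_2 F91037 D25464 (iv D25464)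
def n25465 : Q := act 7 n20102
theorem D25465 : act 7 n20102 = n25465 := rfl
theorem F114521 : act 0 n25465 = n20132 := d6_1 D25465 (iv D20132) (iv F91034)
theorem F114522 : act 3 n25465 = n20104 := d27_1 D25465 (iv D20104) (iv F91035)
theorem F114523 : act 5 n25465 = n20103 := d36_1 D25465 (iv D20103) D20102
theorem F114524 : act 9 n25465 = n25465 := d43_2 F91037 D25465 (iv D25465)
def n25466 : Q := act 8 n20102
theorem D25466 : act 8 n20102 = n25466 := rfl
theorem F114527 : act 5 n25466 = n20320 := d37_1 D25466 (iv D20320) (iv D15893) (iv F71917) D20102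
def n25467 : Q := act 6 n20104
theorem D25467 : act 6 n20104 = n25467 := rfl
theorem F114529 : act 0 n25467 = n20134 := d5_1 D25467 (iv D20134) (iv F91043)
theorem F114530 : act 2 n25467 = n21433 := d20_1 D25467 (iv D21433) (iv F91044)
theorem F114531 : act 5 n25467 = n25467 := d35_1 D25467 (iv D25467) F91045 F71926 (iv F91045)
theorem F114532 : act 7 n25467 = n25467 := d39_2 D20104 D25467 (iv D25467) (iv D20104) F71921
theorem F114533 : act 9 n25467 = n25467 := d41_2 F91046 D25467 (iv D25467)
def n25468 : Q := act 8 n20104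
theorem D25468 : act 8 n20104 = n25468 := rfl
theorem F114534 : act 0 n25468 = n20135 := d7_1 D25468 (iv D20135) (iv F91043)
theorem F114536 : act 5 n25468 = n20322 := d37_1 D25468 (iv D20322) F72546 (iv F71927) (iv F91045)
def n25469 : Q := act 9 n20105
theorem D25469 : act 9 n20105 = n25469 := rfl
theorem F114540 : act 5 n25469 = n20323 := d38_1 D25469 (iv D20323) (iv F91049)
def n25470 : Q := act 2 n20106
theorem D25470 : act 2 n20106 = n25470 := rfl
theorem F114543 : act 3 n25470 = n20202 := d17_2 D20106 D25470 (iv D20202) (iv D15803) (iv F71930)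
theorem F114544 : act 5 n25470 = n20115 := d19_2 (iv F91052) D25470 (iv D20115)
theorem F114545 : act 7 n25470 = n20151 := d21_2 (iv F91053) D25470 (iv D20151)
theorem F114546 : act 8 n25470 = n25470 := d22_2 F91054 D25470 (iv D25470)
theorem F114547 : act 9 n25470 = n20147 := d23_2 (iv F91055) D25470 (iv D20147)
def n25471 : Q := act 6 n20106
theorem D25471 : act 6 n20106 = n25471 := rfl
theorem F114548 : act 1 n25471 = n20141 := d13_1 D25471 (iv D20141) (iv F91051)
theorem F114549 : act 3 n25471 = n20107 := d26_1 D25471 (iv D20107) D20106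
theorem F114550 : act 8 n25471 = n25471 := d40_2 F91054 D25471 (iv D25471)
theorem F114551 : act 9 n25471 = n20148 := d41_2 (iv F91055) D25471 (iv D20148)
def n25472 : Q := act 5 n20107
theorem D25472 : act 5 n20107 = n25472 := rfl
theorem F114552 : act 1 n25472 = n20142 := d12_1 D25472 (iv D20142) (iv F91056)
theorem F114553 : act 2 n25472 = n20204 := d19_1 D25472 (iv D20204) (iv F91057)
theorem F114554 : act 4 n25472 = n20326 := d30_1 D25472 (iv D20326) F72556 (iv F71937) (iv F91058)
theorem F114555 : act 6 n25472 = n20117 := d35_2 D20107 D25472 (iv D20117) (iv D15743) (iv F71931)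
theorem F114556 : act 9 n25472 = n20149 := d38_2 (iv F91060) D25472 (iv D20149)
def n25473 : Q := act 7 n20107
theorem D25473 : act 7 n20107 = n25473 := rfl
theorem F114557 : act 1 n25473 = n20143 := d14_1 D25473 (iv D20143) (iv F91056)
theorem F114558 : act 2 n25473 = n20205 := d21_1 D25473 (iv D20205) (iv F91057)
theorem F114559 : act 4 n25473 = n20108 := d32_1 D25473 (iv D20108) (iv F91058)
theorem F114560 : act 6 n25473 = n20154 := d39_1 D25473 (iv D20154) (iv D15768) (iv F71932) D20107
theorem F114561 : act 8 n25473 = n25473 := d42_2 F91059 D25473 (iv D25473)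
theorem F114562 : act 9 n25473 = n20150 := d43_2 (iv F91060) D25473 (iv D20150)
def n25474 : Q := act 2 n20109
theorem D25474 : act 2 n20109 = n25474 := rfl
theorem F114563 : act 3 n25474 = n20188 := d17_2 D20109 D25474 (iv D20188) (iv D15793) (iv F71941)
theorem F114564 : act 5 n25474 = n20151 := d19_2 (iv F91068) D25474 (iv D20151)
theorem F114565 : act 7 n25474 = n20115 := d21_2 (iv F91069) D25474 (iv D20115)
theorem F114566 : act 8 n25474 = n20119 := d22_2 (iv F91070) D25474 (iv D20119)
theorem F114567 : act 9 n25474 = n20140 := d23_2 (iv F91071) D25474 (iv D20140)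
def n25475 : Q := act 6 n20109
theorem D25475 : act 6 n20109 = n25475 := rfl
theorem F114568 : act 1 n25475 = n20148 := d13_1 D25475 (iv D20148) (iv F91067)
theorem F114569 : act 3 n25475 = n20110 := d26_1 D25475 (iv D20110) D20109
theorem F114570 : act 8 n25475 = n20120 := d40_2 (iv F91070) D25475 (iv D20120)
theorem F114571 : act 9 n25475 = n20141 := d41_2 (iv F91071) D25475 (iv D20141)
def n25476 : Q := act 5 n20110
theorem D25476 : act 5 n20110 = n25476 := rfl
theorem F114572 : act 1 n25476 = n20149 := d12_1 D25476 (iv D20149) (iv F91072)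
theorem F114573 : act 2 n25476 = n20190 := d19_1 D25476 (iv D20190) (iv F91073)
theorem F114574 : act 4 n25476 = n20381 := d30_1 D25476 (iv D20381) F72695 (iv F71948) (iv F91074)
theorem F114575 : act 6 n25476 = n20153 := d35_2 D20110 D25476 (iv D20153) (iv D15768) (iv F71942)
theorem F114576 : act 9 n25476 = n20142 := d38_2 (iv F91076) D25476 (iv D20142)
def n25477 : Q := act 7 n20110
theorem D25477 : act 7 n20110 = n25477 := rfl
theorem F114577 : act 1 n25477 = n20150 := d14_1 D25477 (iv D20150) (iv F91072)
theorem F114578 : act 2 n25477 = n20191 := d21_1 D25477 (iv D20191) (iv F91073)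
theorem F114579 : act 4 n25477 = n20111 := d32_1 D25477 (iv D20111) (iv F91074)
theorem F114580 : act 6 n25477 = n20118 := d39_1 D25477 (iv D20118) (iv D15743) (iv F71943) D20110
theorem F114581 : act 8 n25477 = n20122 := d42_2 (iv F91075) D25477 (iv D20122)
theorem F114582 : act 9 n25477 = n20143 := d43_2 (iv F91076) D25477 (iv D20143)
def n25478 : Q := act 2 n20112
theorem D25478 : act 2 n20112 = n25478 := rfl
theorem F114583 : act 3 n25478 = n20184 := d17_2 D20112 D25478 (iv D20184) (iv D15790) (iv F71952)
theorem F114584 : act 5 n25478 = n20147 := d19_2 (iv F91084) D25478 (iv D20147)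
theorem F114585 : act 7 n25478 = n20140 := d21_2 (iv F91085) D25478 (iv D20140)
theorem F114586 : act 8 n25478 = n25478 := d22_2 F91086 D25478 (iv D25478)
theorem F114587 : act 9 n25478 = n20115 := d23_2 (iv F91087) D25478 (iv D20115)
def n25479 : Q := act 6 n20112
theorem D25479 : act 6 n20112 = n25479 := rfl
theorem F114588 : act 1 n25479 = n20152 := d13_1 D25479 (iv D20152) (iv F91083)
theorem F114589 : act 3 n25479 = n20113 := d26_1 D25479 (iv D20113) D20112
theorem F114590 : act 8 n25479 = n25479 := d40_2 F91086 D25479 (iv D25479)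
theorem F114591 : act 9 n25479 = n20116 := d41_2 (iv F91087) D25479 (iv D20116)
def n25480 : Q := act 5 n20113
theorem D25480 : act 5 n20113 = n25480 := rfl
theorem F114592 : act 1 n25480 = n20153 := d12_1 D25480 (iv D20153) (iv F91088)
theorem F114593 : act 2 n25480 = n20186 := d19_1 D25480 (iv D20186) (iv F91089)
theorem F114594 : act 4 n25480 = n20334 := d30_1 D25480 (iv D20334) F72577 (iv F71959) (iv F91090)
theorem F114595 : act 6 n25480 = n20149 := d35_2 D20113 D25480 (iv D20149) (iv D15765) (iv F71953)
theorem F114596 : act 9 n25480 = n20117 := d38_2 (iv F91092) D25480 (iv D20117)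
def n25481 : Q := act 7 n20113
theorem D25481 : act 7 n20113 = n25481 := rfl
theorem F114597 : act 1 n25481 = n20154 := d14_1 D25481 (iv D20154) (iv F91088)
theorem F114598 : act 2 n25481 = n20187 := d21_1 D25481 (iv D20187) (iv F91089)
theorem F114599 : act 4 n25481 = n20114 := d32_1 D25481 (iv D20114) (iv F91090)
theorem F114600 : act 6 n25481 = n20143 := d39_1 D25481 (iv D20143) (iv D15760) (iv F71954) D20113
theorem F114601 : act 8 n25481 = n25481 := d42_2 F91091 D25481 (iv D25481)
theorem F114602 : act 9 n25481 = n20118 := d43_2 (iv F91092) D25481 (iv D20118)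
def n25482 : Q := act 1 n20115
theorem D25482 : act 1 n20115 = n25482 := rfl
theorem F114603 : act 2 n25482 = n20155 := d9_2 D20115 D25482 (iv D20155) (iv D15770) (iv F71962)
theorem F114604 : act 3 n25482 = n21436 := d10_2 (iv F91099) D25482 (iv D21436)
theorem F114605 : act 8 n25482 = n20123 := d15_2 (iv F91100) D25482 (iv D20123)
def n25483 : Q := act 6 n20115
theorem D25483 : act 6 n20115 = n25483 := rfl
theorem F114606 : act 2 n25483 = n20116 := d20_1 D25483 (iv D20116) D20115
theorem F114607 : act 3 n25483 = n21437 := d26_1 D25483 (iv D21437) (iv F91099)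
theorem F114608 : act 8 n25483 = n20124 := d40_2 (iv F91100) D25483 (iv D20124)
def n25484 : Q := act 5 n20116
theorem D25484 : act 5 n20116 = n25484 := rfl
theorem F114609 : act 1 n25484 = n20157 := d12_1 D25484 (iv D20157) (iv F91101)
theorem F114610 : act 3 n25484 = n20117 := d25_1 D25484 (iv D20117) (iv F91102)
def n25485 : Q := act 7 n20116
theorem D25485 : act 7 n20116 = n25485 := rfl
theorem F114611 : act 1 n25485 = n20158 := d14_1 D25485 (iv D20158) (iv F91101)
theorem F114612 : act 3 n25485 = n20118 := d27_1 D25485 (iv D20118) (iv F91102)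
theorem F114613 : act 8 n25485 = n20126 := d42_2 (iv F91103) D25485 (iv D20126)
def n25486 : Q := act 7 n20117
theorem D25486 : act 7 n20117 = n25486 := rfl
theorem F114614 : act 1 n25486 = n20159 := d14_1 D25486 (iv D20159) (iv F91104)
theorem F114615 : act 2 n25486 = n21440 := d21_1 D25486 (iv D21440) (iv F91105)
theorem F114616 : act 4 n25486 = n20340 := d32_1 D25486 (iv D20340) (iv F91106)
theorem F114617 : act 5 n25486 = n20118 := d36_1 D25486 (iv D20118) D20117
def n25487 : Q := act 8 n20117
theorem D25487 : act 8 n20117 = n25487 := rfl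
theorem F114618 : act 1 n25487 = n20160 := d15_1 D25487 (iv D20160) (iv F91104)
theorem F114619 : act 2 n25487 = n21441 := d22_1 D25487 (iv D21441) (iv F91105)
theorem F114620 : act 4 n25487 = n20341 := d33_1 D25487 (iv D20341) (iv F91106)
theorem F114621 : act 5 n25487 = n20128 := d37_1 D25487 (iv D20128) (iv D15750) (iv F71967) D20117
def n25488 : Q := act 1 n20119
theorem D25488 : act 1 n20119 = n25488 := rfl
theorem F114622 : act 2 n25488 = n20161 := d9_2 D20119 D25488 (iv D20161) (iv D15774) (iv F71972)
theorem F114623 : act 3 n25488 = n21442 := d10_2 (iv F91111) D25488 (iv D21442)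
theorem F114624 : act 5 n25488 = n25488 := d12_2 F91112 D25488 (iv D25488)
theorem F114625 : act 7 n25488 = n20123 := d14_2 (iv F91113) D25488 (iv D20123)
theorem F114626 : act 9 n25488 = n25488 := d16_2 F91114 D25488 (iv D25488)
def n25489 : Q := act 6 n20119
theorem D25489 : act 6 n20119 = n25489 := rfl
theorem F114627 : act 2 n25489 = n20120 := d20_1 D25489 (iv D20120) D20119
theorem F114628 : act 3 n25489 = n21443 := d26_1 D25489 (iv D21443) (iv F91111)
theorem F114629 : act 9 n25489 = n25489 := d41_2 F91114 D25489 (iv D25489)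
def n25490 : Q := act 5 n20120
theorem D25490 : act 5 n20120 = n25490 := rfl
theorem F114630 : act 1 n25490 = n20163 := d12_1 D25490 (iv D20163) (iv F91115)
theorem F114631 : act 3 n25490 = n20121 := d25_1 D25490 (iv D20121) (iv F91116)
theorem F114632 : act 6 n25490 = n25490 := d35_2 D20120 D25490 (iv D25490) (iv D20120) F71973
theorem F114633 : act 9 n25490 = n25490 := d38_2 F91117 D25490 (iv D25490)
def n25491 : Q := act 7 n20120
theorem D25491 : act 7 n20120 = n25491 := rfl
theorem F114634 : act 1 n25491 = n20164 := d14_1 D25491 (iv D20164) (iv F91115)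
theorem F114635 : act 3 n25491 = n20122 := d27_1 D25491 (iv D20122) (iv F91116)
theorem F114636 : act 6 n25491 = n20126 := d39_1 D25491 (iv D20126) (iv D15749) (iv F71974) D20120
theorem F114637 : act 9 n25491 = n25491 := d43_2 F91117 D25491 (iv D25491)
def n25492 : Q := act 7 n20121
theorem D25492 : act 7 n20121 = n25492 := rfl
theorem F114638 : act 1 n25492 = n20165 := d14_1 D25492 (iv D20165) (iv F91118)
theorem F114639 : act 2 n25492 = n21446 := d21_1 D25492 (iv D21446) (iv F91119)
theorem F114640 : act 4 n25492 = n25492 := d32_1 D25492 (iv D25492) F91120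
theorem F114641 : act 5 n25492 = n20122 := d36_1 D25492 (iv D20122) D20121
theorem F114642 : act 9 n25492 = n25492 := d43_2 F91122 D25492 (iv D25492)
def n25493 : Q := act 8 n20121
theorem D25493 : act 8 n20121 = n25493 := rfl
theorem F114643 : act 1 n25493 = n20166 := d15_1 D25493 (iv D20166) (iv F91118)
theorem F114644 : act 2 n25493 = n21447 := d22_1 D25493 (iv D21447) (iv F91119)
theorem F114645 : act 4 n25493 = n25493 := d33_1 D25493 (iv D25493) F91120
theorem F114646 : act 6 n25493 = n25493 := d40_1 D25493 (iv D25493) F91121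
def n25494 : Q := act 0 n20123
theorem D25494 : act 0 n20123 = n25494 := rfl
theorem F114647 : act 2 n25494 = n20167 := d1_2 (iv F91128) D25494 (iv D20167)
theorem F114648 : act 3 n25494 = n21448 := d2_2 (iv F91129) D25494 (iv D21448)
theorem F114649 : act 5 n25494 = n25494 := d4_2 F91130 D25494 (iv D25494)
theorem F114650 : act 9 n25494 = n25494 := d8_2 F91131 D25494 (iv D25494)
def n25495 : Q := act 6 n20123
theorem D25495 : act 6 n20123 = n25495 := rfl
theorem F114651 : act 1 n25495 = n20124 := d13_1 D25495 (iv D20124) D20123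
theorem F114652 : act 2 n25495 = n20168 := d20_1 D25495 (iv D20168) (iv F91128)
theorem F114653 : act 3 n25495 = n21449 := d26_1 D25495 (iv D21449) (iv F91129)
theorem F114654 : act 9 n25495 = n25495 := d41_2 F91131 D25495 (iv D25495)
def n25496 : Q := act 5 n20124
theorem D25496 : act 5 n20124 = n25496 := rfl
theorem F114655 : act 2 n25496 = n20125 := d19_1 D25496 (iv D20125) (iv F91132)
theorem F114656 : act 3 n25496 = n21450 := d25_1 D25496 (iv D21450) (iv F91133)
theorem F114657 : act 6 n25496 = n25496 := d35_2 D20124 D25496 (iv D25496) (iv D20124) F71986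
theorem F114658 : act 9 n25496 = n25496 := d38_2 F91134 D25496 (iv D25496)
def n25497 : Q := act 7 n20124
theorem D25497 : act 7 n20124 = n25497 := rfl
theorem F114659 : act 2 n25497 = n20126 := d21_1 D25497 (iv D20126) (iv F91132)
theorem F114660 : act 3 n25497 = n21451 := d27_1 D25497 (iv D21451) (iv F91133)
theorem F114661 : act 9 n25497 = n25497 := d43_2 F91134 D25497 (iv D25497)
def n25498 : Q := act 4 n20125
theorem D25498 : act 4 n20125 = n25498 := rfl
theorem F114662 : act 1 n25498 = n20171 := d11_1 D25498 (iv D20171) (iv F91135)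
theorem F114663 : act 3 n25498 = n20131 := d24_1 D25498 (iv D20131) F72006 (iv F71993) (iv F91136)
theorem F114664 : act 6 n25498 = n25498 := d31_2 F91137 D25498 (iv D25498)
theorem F114665 : act 9 n25498 = n25498 := d34_2 F91138 D25498 (iv D25498)
def n25499 : Q := act 7 n20125
theorem D25499 : act 7 n20125 = n25499 := rfl
theorem F114666 : act 1 n25499 = n20172 := d14_1 D25499 (iv D20172) (iv F91135)
theorem F114667 : act 3 n25499 = n20127 := d27_1 D25499 (iv D20127) (iv F91136)
theorem F114668 : act 5 n25499 = n20126 := d36_1 D25499 (iv D20126) D20125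
theorem F114669 : act 9 n25499 = n25499 := d43_2 F91138 D25499 (iv D25499)
def n25500 : Q := act 8 n20125
theorem D25500 : act 8 n20125 = n25500 := rfl
theorem F114670 : act 1 n25500 = n20173 := d15_1 D25500 (iv D20173) (iv F91135)
theorem F114671 : act 3 n25500 = n20128 := d28_1 D25500 (iv D20128) (iv F91136)
theorem F114672 : act 6 n25500 = n25500 := d40_1 D25500 (iv D25500) F91137
def n25501 : Q := act 6 n20127
theorem D25501 : act 6 n20127 = n25501 := rfl
theorem F114673 : act 1 n25501 = n20174 := d13_1 D25501 (iv D20174) (iv F91142)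
theorem F114674 : act 2 n25501 = n21455 := d20_1 D25501 (iv D21455) (iv F91143)
theorem F114675 : act 4 n25501 = n20134 := d31_1 D25501 (iv D20134) (iv F91144)
theorem F114676 : act 7 n25501 = n25501 := d39_2 D20127 D25501 (iv D25501) (iv D20127) F71994
theorem F114677 : act 9 n25501 = n25501 := d41_2 F91146 D25501 (iv D25501)
def n25502 : Q := act 8 n20127
theorem D25502 : act 8 n20127 = n25502 := rfl
theorem F114678 : act 1 n25502 = n20175 := d15_1 D25502 (iv D20175) (iv F91142)
theorem F114679 : act 2 n25502 = n21456 := d22_1 D25502 (iv D21456) (iv F91143)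
theorem F114680 : act 4 n25502 = n20135 := d33_1 D25502 (iv D20135) (iv F91144)
theorem F114681 : act 7 n25502 = n20128 := d42_1 D25502 (iv D20128) D20127
def n25503 : Q := act 9 n20128
theorem D25503 : act 9 n20128 = n25503 := rfl
theorem F114682 : act 1 n25503 = n20176 := d16_1 D25503 (iv D20176) (iv F91147)
def n25504 : Q := act 4 n20129
theorem D25504 : act 4 n20129 = n25504 := rfl
theorem F114688 : act 2 n25504 = n20131 := d18_1 D25504 (iv D20131) (iv F91152)
def n25505 : Q := act 7 n20129
theorem D25505 : act 7 n20129 = n25505 := rfl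
theorem F114692 : act 2 n25505 = n20132 := d21_1 D25505 (iv D20132) (iv F91152)
theorem F114694 : act 5 n25505 = n20130 := d36_1 D25505 (iv D20130) D20129
def n25507 : Q := act 7 n20131
theorem D25507 : act 7 n20131 = n25507 := rfl
theorem F114701 : act 1 n25507 = n20177 := d14_1 D25507 (iv D20177) (iv F91162)
theorem F114702 : act 4 n25507 = n20132 := d32_1 D25507 (iv D20132) D20131
theorem F114703 : act 9 n25507 = n25507 := d43_2 F91164 D25507 (iv D25507)
def n25508 : Q := act 8 n20131
theorem D25508 : act 8 n20131 = n25508 := rfl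
theorem F114704 : act 1 n25508 = n20178 := d15_1 D25508 (iv D20178) (iv F91162)
theorem F114705 : act 4 n25508 = n20133 := d33_1 D25508 (iv D20133) D20131
def n25509 : Q := act 6 n20132
theorem D25509 : act 6 n20132 = n25509 := rfl
theorem F114707 : act 1 n25509 = n20179 := d13_1 D25509 (iv D20179) (iv F91165)
theorem F114708 : act 3 n25509 = n20134 := d26_1 D25509 (iv D20134) (iv F91166)
theorem F114709 : act 5 n25509 = n25509 := d35_1 D25509 (iv D25509) F91167 F72011 (iv F91167)
theorem F114710 : act 7 n25509 = n25509 := d39_2 D20132 D25509 (iv D25509) (iv D20132) F72007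
theorem F114711 : act 9 n25509 = n25509 := d41_2 F91168 D25509 (iv D25509)
def n25510 : Q := act 8 n20132
theorem D25510 : act 8 n20132 = n25510 := rfl
theorem F114712 : act 1 n25510 = n20180 := d15_1 D25510 (iv D20180) (iv F91165)
theorem F114713 : act 3 n25510 = n20135 := d28_1 D25510 (iv D20135) (iv F91166)
theorem F114714 : act 5 n25510 = n20364 := d37_1 D25510 (iv D20364) F72650 (iv F72012) (iv F91167)
def n25512 : Q := act 8 n20134
theorem D25512 : act 8 n20134 = n25512 := rfl
theorem F114721 : act 1 n25512 = n20182 := d15_1 D25512 (iv D20182) (iv F91173)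
theorem F114722 : act 2 n25512 = n21466 := d22_1 D25512 (iv D21466) (iv F91174)
theorem F114723 : act 6 n25512 = n20135 := d40_1 D25512 (iv D20135) D20134
theorem F114724 : act 7 n25512 = n25512 := d42_1 D25512 (iv D25512) F91176
def n25513 : Q := act 9 n20135
theorem D25513 : act 9 n20135 = n25513 := rfl
theorem F114725 : act 1 n25513 = n20183 := d16_1 D25513 (iv D20183) (iv F91178)
theorem F114727 : act 5 n25513 = n20367 := d38_1 D25513 (iv D20367) (iv F91180)
def n25514 : Q := act 2 n20137
theorem D25514 : act 2 n20137 = n25514 := rfl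
theorem F114730 : act 3 n25514 = n25514 := d17_2 D20137 D25514 (iv D25514) (iv D20137) F72022
theorem F114731 : act 4 n25514 = n20140 := d18_2 (iv F91187) D25514 (iv D20140)
theorem F114732 : act 8 n25514 = n25514 := d22_2 F91188 D25514 (iv D25514)
def n25515 : Q := act 6 n20137
theorem D25515 : act 6 n20137 = n25515 := rfl
theorem F114733 : act 3 n25515 = n20138 := d26_1 D25515 (iv D20138) D20137
theorem F114734 : act 4 n25515 = n20141 := d31_1 D25515 (iv D20141) (iv F91187)
theorem F114735 : act 8 n25515 = n25515 := d40_2 F91188 D25515 (iv D25515)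
def n25516 : Q := act 5 n20138
theorem D25516 : act 5 n20138 = n25516 := rfl
theorem F114736 : act 2 n25516 = n25516 := d19_1 D25516 (iv D25516) F91189
theorem F114737 : act 4 n25516 = n20373 := d30_1 D25516 (iv D20373) F72677 (iv F72026) (iv F91190)
def n25517 : Q := act 7 n20138
theorem D25517 : act 7 n20138 = n25517 := rfl
theorem F114738 : act 2 n25517 = n25517 := d21_1 D25517 (iv D25517) F91189
theorem F114739 : act 4 n25517 = n20139 := d32_1 D25517 (iv D20139) (iv F91190)
theorem F114740 : act 8 n25517 = n25517 := d42_2 F91191 D25517 (iv D25517)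
def n25518 : Q := act 1 n20140
theorem D25518 : act 1 n20140 = n25518 := rfl
theorem F114741 : act 3 n25518 = n20192 := d10_2 (iv F91196) D25518 (iv D20192)
theorem F114742 : act 5 n25518 = n20155 := d12_2 (iv F91197) D25518 (iv D20155)
theorem F114743 : act 8 n25518 = n25518 := d15_2 F91198 D25518 (iv D25518)
def n25519 : Q := act 6 n20140
theorem D25519 : act 6 n20140 = n25519 := rfl
theorem F114744 : act 2 n25519 = n20141 := d20_1 D25519 (iv D20141) D20140
theorem F114745 : act 3 n25519 = n20193 := d26_1 D25519 (iv D20193) (iv F91196)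
theorem F114746 : act 8 n25519 = n25519 := d40_2 F91198 D25519 (iv D25519)
def n25520 : Q := act 5 n20141
theorem D25520 : act 5 n20141 = n25520 := rfl
theorem F114747 : act 3 n25520 = n20142 := d25_1 D25520 (iv D20142) (iv F91199)
theorem F114748 : act 6 n25520 = n20157 := d35_2 D20141 D25520 (iv D20157) (iv D15771) (iv F72028)
def n25521 : Q := act 7 n20141
theorem D25521 : act 7 n20141 = n25521 := rfl
theorem F114749 : act 3 n25521 = n20143 := d27_1 D25521 (iv D20143) (iv F91199)
theorem F114750 : act 8 n25521 = n25521 := d42_2 F91200 D25521 (iv D25521)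
def n25522 : Q := act 7 n20142
theorem D25522 : act 7 n20142 = n25522 := rfl
theorem F114751 : act 2 n25522 = n20196 := d21_1 D25522 (iv D20196) (iv F91201)
theorem F114752 : act 4 n25522 = n20387 := d32_1 D25522 (iv D20387) (iv F91202)
theorem F114753 : act 5 n25522 = n20143 := d36_1 D25522 (iv D20143) D20142
def n25523 : Q := act 8 n20142
theorem D25523 : act 8 n20142 = n25523 := rfl
theorem F114754 : act 2 n25523 = n20197 := d22_1 D25523 (iv D20197) (iv F91201)
theorem F114755 : act 4 n25523 = n20388 := d33_1 D25523 (iv D20388) (iv F91202)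
theorem F114756 : act 5 n25523 = n25523 := d37_1 D25523 (iv D25523) (iv D20142) F72032 D20142
theorem F114757 : act 6 n25523 = n20160 := d40_1 D25523 (iv D20160) (iv F91203)
def n25524 : Q := act 2 n20144
theorem D25524 : act 2 n20144 = n25524 := rfl
theorem F114758 : act 3 n25524 = n20198 := d17_2 D20144 D25524 (iv D20198) (iv D15800) (iv F72037)
theorem F114759 : act 5 n25524 = n20332 := d19_2 (iv F91208) D25524 (iv D20332)
theorem F114760 : act 7 n25524 = n20389 := d21_2 (iv F91209) D25524 (iv D20389)
theorem F114761 : act 8 n25524 = n25524 := d22_2 F91210 D25524 (iv D25524)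
theorem F114762 : act 9 n25524 = n20324 := d23_2 (iv F91211) D25524 (iv D20324)
def n25525 : Q := act 6 n20144
theorem D25525 : act 6 n20144 = n25525 := rfl
theorem F114763 : act 1 n25525 = n20380 := d13_1 D25525 (iv D20380) (iv F91207)
theorem F114764 : act 3 n25525 = n20145 := d26_1 D25525 (iv D20145) D20144
theorem F114765 : act 8 n25525 = n25525 := d40_2 F91210 D25525 (iv D25525)
theorem F114766 : act 9 n25525 = n20325 := d41_2 (iv F91211) D25525 (iv D20325)
def n25526 : Q := act 5 n20145
theorem D25526 : act 5 n20145 = n25526 := rfl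
theorem F114767 : act 1 n25526 = n20381 := d12_1 D25526 (iv D20381) (iv F91212)
theorem F114768 : act 2 n25526 = n20200 := d19_1 D25526 (iv D20200) (iv F91213)
theorem F114769 : act 4 n25526 = n20149 := d30_1 D25526 (iv D20149) F72050 (iv F72044) (iv F91214)
theorem F114770 : act 6 n25526 = n20334 := d35_2 D20145 D25526 (iv D20334) (iv D15904) (iv F72038)
theorem F114771 : act 9 n25526 = n20326 := d38_2 (iv F91216) D25526 (iv D20326)
def n25527 : Q := act 7 n20145
theorem D25527 : act 7 n20145 = n25527 := rfl
theorem F114772 : act 1 n25527 = n20382 := d14_1 D25527 (iv D20382) (iv F91212)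
theorem F114773 : act 2 n25527 = n20201 := d21_1 D25527 (iv D20201) (iv F91213)
theorem F114774 : act 4 n25527 = n20146 := d32_1 D25527 (iv D20146) (iv F91214)
theorem F114775 : act 6 n25527 = n20392 := d39_1 D25527 (iv D20392) (iv D15944) (iv F72039) D20145
theorem F114776 : act 8 n25527 = n25527 := d42_2 F91215 D25527 (iv D25527)
theorem F114777 : act 9 n25527 = n20327 := d43_2 (iv F91216) D25527 (iv D20327)
def n25528 : Q := act 1 n20147
theorem D25528 : act 1 n20147 = n25528 := rfl
theorem F114778 : act 3 n25528 = n20206 := d10_2 (iv F91223) D25528 (iv D20206)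
theorem F114779 : act 7 n25528 = n20155 := d14_2 (iv F91224) D25528 (iv D20155)
theorem F114780 : act 8 n25528 = n20161 := d15_2 (iv F91225) D25528 (iv D20161)
def n25529 : Q := act 6 n20147
theorem D25529 : act 6 n20147 = n25529 := rfl
theorem F114781 : act 2 n25529 = n20148 := d20_1 D25529 (iv D20148) D20147
theorem F114782 : act 3 n25529 = n20207 := d26_1 D25529 (iv D20207) (iv F91223)
theorem F114783 : act 8 n25529 = n20162 := d40_2 (iv F91225) D25529 (iv D20162)
def n25530 : Q := act 5 n20148
theorem D25530 : act 5 n20148 = n25530 := rfl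
theorem F114784 : act 3 n25530 = n20149 := d25_1 D25530 (iv D20149) (iv F91226)
def n25531 : Q := act 7 n20148
theorem D25531 : act 7 n20148 = n25531 := rfl
theorem F114785 : act 3 n25531 = n20150 := d27_1 D25531 (iv D20150) (iv F91226)
theorem F114786 : act 6 n25531 = n20158 := d39_1 D25531 (iv D20158) (iv D15771) (iv F72047) D20148
theorem F114787 : act 8 n25531 = n20164 := d42_2 (iv F91227) D25531 (iv D20164)
def n25532 : Q := act 7 n20149
theorem D25532 : act 7 n20149 = n25532 := rfl
theorem F114788 : act 2 n25532 = n20210 := d21_1 D25532 (iv D20210) (iv F91228)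
theorem F114789 : act 5 n25532 = n20150 := d36_1 D25532 (iv D20150) D20149
def n25533 : Q := act 8 n20149
theorem D25533 : act 8 n20149 = n25533 := rfl
theorem F114790 : act 2 n25533 = n20211 := d22_1 D25533 (iv D20211) (iv F91228)
theorem F114791 : act 5 n25533 = n20166 := d37_1 D25533 (iv D20166) (iv D15776) (iv F72051) D20149
def n25534 : Q := act 1 n20151
theorem D25534 : act 1 n20151 = n25534 := rfl
theorem F114792 : act 3 n25534 = n20212 := d10_2 (iv F91233) D25534 (iv D20212)
theorem F114793 : act 8 n25534 = n25534 := d15_2 F91234 D25534 (iv D25534)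
theorem F114794 : act 9 n25534 = n20155 := d16_2 (iv F91235) D25534 (iv D20155)
def n25535 : Q := act 6 n20151
theorem D25535 : act 6 n20151 = n25535 := rfl
theorem F114795 : act 2 n25535 = n20152 := d20_1 D25535 (iv D20152) D20151
theorem F114796 : act 3 n25535 = n20213 := d26_1 D25535 (iv D20213) (iv F91233)
theorem F114797 : act 8 n25535 = n25535 := d40_2 F91234 D25535 (iv D25535)
theorem F114798 : act 9 n25535 = n20156 := d41_2 (iv F91235) D25535 (iv D20156)
def n25536 : Q := act 5 n20152
theorem D25536 : act 5 n20152 = n25536 := rfl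
theorem F114799 : act 3 n25536 = n20153 := d25_1 D25536 (iv D20153) (iv F91236)
theorem F114800 : act 9 n25536 = n20157 := d38_2 (iv F91238) D25536 (iv D20157)
def n25537 : Q := act 7 n20152
theorem D25537 : act 7 n20152 = n25537 := rfl
theorem F114801 : act 3 n25537 = n20154 := d27_1 D25537 (iv D20154) (iv F91236)
theorem F114802 : act 8 n25537 = n25537 := d42_2 F91237 D25537 (iv D25537)
theorem F114803 : act 9 n25537 = n20158 := d43_2 (iv F91238) D25537 (iv D20158)
def n25538 : Q := act 7 n20153
theorem D25538 : act 7 n20153 = n25538 := rfl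
theorem F114804 : act 2 n25538 = n20216 := d21_1 D25538 (iv D20216) (iv F91239)
theorem F114805 : act 4 n25538 = n20403 := d32_1 D25538 (iv D20403) (iv F91240)
theorem F114806 : act 5 n25538 = n20154 := d36_1 D25538 (iv D20154) D20153
theorem F114807 : act 9 n25538 = n20159 := d43_2 (iv F91241) D25538 (iv D20159)
def n25539 : Q := act 8 n20153
theorem D25539 : act 8 n20153 = n25539 := rfl
theorem F114808 : act 2 n25539 = n20217 := d22_1 D25539 (iv D20217) (iv F91239)
theorem F114809 : act 4 n25539 = n20404 := d33_1 D25539 (iv D20404) (iv F91240)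
theorem F114810 : act 5 n25539 = n25539 := d37_1 D25539 (iv D25539) (iv D20153) F72059 D20153
def n25540 : Q := act 0 n20155
theorem D25540 : act 0 n20155 = n25540 := rfl
theorem F114811 : act 3 n25540 = n20218 := d2_2 (iv F91246) D25540 (iv D20218)
theorem F114812 : act 8 n25540 = n20167 := d7_2 (iv F91247) D25540 (iv D20167)
def n25541 : Q := act 6 n20155
theorem D25541 : act 6 n20155 = n25541 := rfl
theorem F114813 : act 1 n25541 = n20156 := d13_1 D25541 (iv D20156) D20155
theorem F114814 : act 3 n25541 = n20219 := d26_1 D25541 (iv D20219) (iv F91246)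
theorem F114815 : act 8 n25541 = n20168 := d40_2 (iv F91247) D25541 (iv D20168)
def n25542 : Q := act 5 n20156
theorem D25542 : act 5 n20156 = n25542 := rfl
theorem F114816 : act 2 n25542 = n20157 := d19_1 D25542 (iv D20157) (iv F91248)
theorem F114817 : act 3 n25542 = n20220 := d25_1 D25542 (iv D20220) (iv F91249)
def n25543 : Q := act 7 n20156
theorem D25543 : act 7 n20156 = n25543 := rfl
theorem F114818 : act 2 n25543 = n20158 := d21_1 D25543 (iv D20158) (iv F91248)
theorem F114819 : act 3 n25543 = n20221 := d27_1 D25543 (iv D20221) (iv F91249)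
theorem F114820 : act 8 n25543 = n20170 := d42_2 (iv F91250) D25543 (iv D20170)
def n25544 : Q := act 4 n20157
theorem D25544 : act 4 n20157 = n25544 := rfl
theorem F114821 : act 3 n25544 = n20409 := d24_1 D25544 (iv D20409) F72745 (iv F72070) (iv F91251)
def n25545 : Q := act 7 n20157
theorem D25545 : act 7 n20157 = n25545 := rfl
theorem F114822 : act 3 n25545 = n20159 := d27_1 D25545 (iv D20159) (iv F91251)
theorem F114823 : act 5 n25545 = n20158 := d36_1 D25545 (iv D20158) D20157
def n25546 : Q := act 8 n20157
theorem D25546 : act 8 n20157 = n25546 := rfl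
theorem F114824 : act 3 n25546 = n20160 := d28_1 D25546 (iv D20160) (iv F91251)
theorem F114825 : act 5 n25546 = n20173 := d37_1 D25546 (iv D20173) (iv D15780) (iv F72068) D20157
def n25547 : Q := act 6 n20159
theorem D25547 : act 6 n20159 = n25547 := rfl
theorem F114826 : act 2 n25547 = n20225 := d20_1 D25547 (iv D20225) (iv F91254)
theorem F114827 : act 4 n25547 = n20412 := d31_1 D25547 (iv D20412) (iv F91255)
def n25548 : Q := act 8 n20159
theorem D25548 : act 8 n20159 = n25548 := rfl
theorem F114828 : act 2 n25548 = n20226 := d22_1 D25548 (iv D20226) (iv F91254)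
theorem F114829 : act 4 n25548 = n20413 := d33_1 D25548 (iv D20413) (iv F91255)
theorem F114830 : act 5 n25548 = n20175 := d37_1 D25548 (iv D20175) F72101 (iv F72073) (iv F91256)
theorem F114831 : act 7 n25548 = n20160 := d42_1 D25548 (iv D20160) D20159
def n25549 : Q := act 9 n20160
theorem D25549 : act 9 n20160 = n25549 := rfl
theorem F114832 : act 2 n25549 = n20227 := d23_1 D25549 (iv D20227) (iv F91257)
theorem F114833 : act 4 n25549 = n20414 := d34_1 D25549 (iv D20414) (iv F91258)
theorem F114834 : act 5 n25549 = n20176 := d38_1 D25549 (iv D20176) (iv F91259)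
def n25550 : Q := act 0 n20161
theorem D25550 : act 0 n20161 = n25550 := rfl
theorem F114835 : act 3 n25550 = n20228 := d2_2 (iv F91260) D25550 (iv D20228)
theorem F114836 : act 5 n25550 = n25550 := d4_2 F91261 D25550 (iv D25550)
theorem F114837 : act 7 n25550 = n20167 := d6_2 (iv F91262) D25550 (iv D20167)
theorem F114838 : act 9 n25550 = n25550 := d8_2 F91263 D25550 (iv D25550)
def n25551 : Q := act 6 n20161
theorem D25551 : act 6 n20161 = n25551 := rfl
theorem F114839 : act 1 n25551 = n20162 := d13_1 D25551 (iv D20162) D20161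
theorem F114840 : act 3 n25551 = n20229 := d26_1 D25551 (iv D20229) (iv F91260)
theorem F114841 : act 9 n25551 = n25551 := d41_2 F91263 D25551 (iv D25551)
def n25552 : Q := act 5 n20162
theorem D25552 : act 5 n20162 = n25552 := rfl
theorem F114842 : act 2 n25552 = n20163 := d19_1 D25552 (iv D20163) (iv F91264)
theorem F114843 : act 3 n25552 = n20230 := d25_1 D25552 (iv D20230) (iv F91265)
theorem F114844 : act 6 n25552 = n25552 := d35_2 D20162 D25552 (iv D25552) (iv D20162) F72075
theorem F114845 : act 9 n25552 = n25552 := d38_2 F91266 D25552 (iv D25552)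
def n25553 : Q := act 7 n20162
theorem D25553 : act 7 n20162 = n25553 := rfl
theorem F114846 : act 2 n25553 = n20164 := d21_1 D25553 (iv D20164) (iv F91264)
theorem F114847 : act 3 n25553 = n20231 := d27_1 D25553 (iv D20231) (iv F91265)
theorem F114848 : act 6 n25553 = n20170 := d39_1 D25553 (iv D20170) (iv D15779) (iv F72076) D20162
theorem F114849 : act 9 n25553 = n25553 := d43_2 F91266 D25553 (iv D25553)
def n25554 : Q := act 4 n20163
theorem D25554 : act 4 n20163 = n25554 := rfl
theorem F114850 : act 3 n25554 = n25554 := d24_1 D25554 (iv D25554) F91267 F72081 (iv F91267)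
theorem F114851 : act 6 n25554 = n25554 := d31_2 F91268 D25554 (iv D25554)
theorem F114852 : act 9 n25554 = n25554 := d34_2 F91269 D25554 (iv D25554)
def n25555 : Q := act 7 n20163
theorem D25555 : act 7 n20163 = n25555 := rfl
theorem F114853 : act 3 n25555 = n20165 := d27_1 D25555 (iv D20165) (iv F91267)
theorem F114854 : act 5 n25555 = n20164 := d36_1 D25555 (iv D20164) D20163
theorem F114855 : act 9 n25555 = n25555 := d43_2 F91269 D25555 (iv D25555)
def n25556 : Q := act 8 n20163
theorem D25556 : act 8 n20163 = n25556 := rfl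
theorem F114856 : act 3 n25556 = n20166 := d28_1 D25556 (iv D20166) (iv F91267)
theorem F114857 : act 6 n25556 = n25556 := d40_1 D25556 (iv D25556) F91268
def n25557 : Q := act 6 n20165
theorem D25557 : act 6 n20165 = n25557 := rfl
theorem F114858 : act 2 n25557 = n20235 := d20_1 D25557 (iv D20235) (iv F91273)
theorem F114859 : act 4 n25557 = n25557 := d31_1 D25557 (iv D25557) F91274
theorem F114860 : act 5 n25557 = n20174 := d35_1 D25557 (iv D20174) F72101 (iv F72086) (iv F91275)
theorem F114861 : act 7 n25557 = n25557 := d39_2 D20165 D25557 (iv D25557) (iv D20165) F72082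
theorem F114862 : act 9 n25557 = n25557 := d41_2 F91276 D25557 (iv D25557)
def n25558 : Q := act 8 n20165
theorem D25558 : act 8 n20165 = n25558 := rfl
theorem F114863 : act 2 n25558 = n20236 := d22_1 D25558 (iv D20236) (iv F91273)
theorem F114864 : act 4 n25558 = n25558 := d33_1 D25558 (iv D25558) F91274
theorem F114865 : act 7 n25558 = n20166 := d42_1 D25558 (iv D20166) D20165
def n25559 : Q := act 9 n20166
theorem D25559 : act 9 n20166 = n25559 := rfl
theorem F114866 : act 2 n25559 = n20237 := d23_1 D25559 (iv D20237) (iv F91277)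
theorem F114867 : act 4 n25559 = n25559 := d34_1 D25559 (iv D25559) F91278
theorem F114868 : act 6 n25559 = n25559 := d41_1 D25559 (iv D25559) F91279
theorem F114869 : act 8 n25559 = n25559 := d44_1 D25559 (iv D25559) (iv D20166) F72083 D20166
def n25560 : Q := act 6 n20167
theorem D25560 : act 6 n20167 = n25560 := rfl
theorem F114870 : act 0 n25560 = n20168 := d5_1 D25560 (iv D20168) D20167
theorem F114871 : act 3 n25560 = n20238 := d26_1 D25560 (iv D20238) (iv F91280)
theorem F114872 : act 9 n25560 = n25560 := d41_2 F91282 D25560 (iv D25560)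
def n25561 : Q := act 5 n20168
theorem D25561 : act 5 n20168 = n25561 := rfl
theorem F114873 : act 1 n25561 = n20169 := d12_1 D25561 (iv D20169) (iv F91283)
theorem F114874 : act 3 n25561 = n20239 := d25_1 D25561 (iv D20239) (iv F91284)
theorem F114875 : act 6 n25561 = n25561 := d35_2 D20168 D25561 (iv D25561) (iv D20168) F72089
theorem F114876 : act 9 n25561 = n25561 := d38_2 F91285 D25561 (iv D25561)
def n25562 : Q := act 7 n20168
theorem D25562 : act 7 n20168 = n25562 := rfl
theorem F114877 : act 1 n25562 = n20170 := d14_1 D25562 (iv D20170) (iv F91283)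
theorem F114878 : act 3 n25562 = n20240 := d27_1 D25562 (iv D20240) (iv F91284)
theorem F114879 : act 9 n25562 = n25562 := d43_2 F91285 D25562 (iv D25562)
def n25563 : Q := act 4 n20169
theorem D25563 : act 4 n20169 = n25563 := rfl
theorem F114880 : act 2 n25563 = n20171 := d18_1 D25563 (iv D20171) (iv F91286)
theorem F114881 : act 3 n25563 = n25563 := d24_1 D25563 (iv D25563) F91287 F72283 (iv F91287)
theorem F114882 : act 6 n25563 = n25563 := d31_2 F91288 D25563 (iv D25563)
theorem F114883 : act 9 n25563 = n25563 := d34_2 F91289 D25563 (iv D25563)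
def n25564 : Q := act 7 n20169
theorem D25564 : act 7 n20169 = n25564 := rfl
theorem F114884 : act 2 n25564 = n20172 := d21_1 D25564 (iv D20172) (iv F91286)
theorem F114885 : act 3 n25564 = n20241 := d27_1 D25564 (iv D20241) (iv F91287)
theorem F114886 : act 5 n25564 = n20170 := d36_1 D25564 (iv D20170) D20169
theorem F114887 : act 9 n25564 = n25564 := d43_2 F91289 D25564 (iv D25564)
def n25565 : Q := act 8 n20169
theorem D25565 : act 8 n20169 = n25565 := rfl
theorem F114888 : act 2 n25565 = n20173 := d22_1 D25565 (iv D20173) (iv F91286)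
theorem F114889 : act 3 n25565 = n20242 := d28_1 D25565 (iv D20242) (iv F91287)
theorem F114890 : act 6 n25565 = n25565 := d40_1 D25565 (iv D25565) F91288
def n25566 : Q := act 7 n20171
theorem D25566 : act 7 n20171 = n25566 := rfl
theorem F114891 : act 3 n25566 = n20177 := d27_1 D25566 (iv D20177) (iv F91293)
theorem F114892 : act 4 n25566 = n20172 := d32_1 D25566 (iv D20172) D20171
theorem F114893 : act 9 n25566 = n25566 := d43_2 F91295 D25566 (iv D25566)
def n25567 : Q := act 8 n20171
theorem D25567 : act 8 n20171 = n25567 := rfl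
theorem F114894 : act 3 n25567 = n20178 := d28_1 D25567 (iv D20178) (iv F91293)
theorem F114895 : act 4 n25567 = n20173 := d33_1 D25567 (iv D20173) D20171
theorem F114896 : act 6 n25567 = n25567 := d40_1 D25567 (iv D25567) F91294
def n25568 : Q := act 6 n20172
theorem D25568 : act 6 n20172 = n25568 := rfl
theorem F114897 : act 3 n25568 = n20174 := d26_1 D25568 (iv D20174) (iv F91296)
theorem F114898 : act 7 n25568 = n25568 := d39_2 D20172 D25568 (iv D25568) (iv D20172) F72095
theorem F114899 : act 9 n25568 = n25568 := d41_2 F91298 D25568 (iv D25568)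
def n25569 : Q := act 8 n20172
theorem D25569 : act 8 n20172 = n25569 := rfl
theorem F114900 : act 3 n25569 = n20175 := d28_1 D25569 (iv D20175) (iv F91296)
theorem F114901 : act 7 n25569 = n20173 := d42_1 D25569 (iv D20173) D20172
def n25570 : Q := act 9 n20173
theorem D25570 : act 9 n20173 = n25570 := rfl
theorem F114902 : act 3 n25570 = n20176 := d29_1 D25570 (iv D20176) (iv F91299)
theorem F114903 : act 6 n25570 = n25570 := d41_1 D25570 (iv D25570) F91300
theorem F114904 : act 8 n25570 = n25570 := d44_1 D25570 (iv D25570) (iv D20173) F72096 D20173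
def n25571 : Q := act 8 n20174
theorem D25571 : act 8 n20174 = n25571 := rfl
theorem F114905 : act 2 n25571 = n20246 := d22_1 D25571 (iv D20246) (iv F91301)
theorem F114906 : act 4 n25571 = n20182 := d33_1 D25571 (iv D20182) (iv F91302)
theorem F114907 : act 6 n25571 = n20175 := d40_1 D25571 (iv D20175) D20174
theorem F114908 : act 7 n25571 = n25571 := d42_1 D25571 (iv D25571) F91303
def n25572 : Q := act 9 n20175
theorem D25572 : act 9 n20175 = n25572 := rfl
theorem F114909 : act 2 n25572 = n20247 := d23_1 D25572 (iv D20247) (iv F91305)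
theorem F114910 : act 4 n25572 = n20183 := d34_1 D25572 (iv D20183) (iv F91306)
theorem F114911 : act 7 n25572 = n20176 := d43_1 D25572 (iv D20176) (iv F91307)
theorem F114912 : act 8 n25572 = n25572 := d44_1 D25572 (iv D25572) (iv D20175) F72102 D20175
def n25573 : Q := act 6 n20177
theorem D25573 : act 6 n20177 = n25573 := rfl
theorem F114913 : act 2 n25573 = n25573 := d20_1 D25573 (iv D25573) F91312
theorem F114914 : act 4 n25573 = n20179 := d31_1 D25573 (iv D20179) (iv F91313)
theorem F114915 : act 7 n25573 = n25573 := d39_2 D20177 D25573 (iv D25573) (iv D20177) F72107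
theorem F114916 : act 9 n25573 = n25573 := d41_2 F91314 D25573 (iv D25573)
def n25574 : Q := act 8 n20177
theorem D25574 : act 8 n20177 = n25574 := rfl
theorem F114917 : act 2 n25574 = n25574 := d22_1 D25574 (iv D25574) F91312
theorem F114918 : act 4 n25574 = n20180 := d33_1 D25574 (iv D20180) (iv F91313)
theorem F114919 : act 7 n25574 = n20178 := d42_1 D25574 (iv D20178) D20177
def n25575 : Q := act 5 n20178
theorem D25575 : act 5 n20178 = n25575 := rfl
theorem F114920 : act 2 n25575 = n25575 := d19_1 D25575 (iv D25575) F91315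
theorem F114921 : act 4 n25575 = n20440 := d30_1 D25575 (iv D20440) F72808 (iv F72115) (iv F91316)
def n25576 : Q := act 9 n20178
theorem D25576 : act 9 n20178 = n25576 := rfl
theorem F114923 : act 4 n25576 = n20181 := d34_1 D25576 (iv D20181) (iv F91316)
def n25577 : Q := act 8 n20179
theorem D25577 : act 8 n20179 = n25577 := rfl
theorem F114926 : act 2 n25577 = n25577 := d22_1 D25577 (iv D25577) F91318
theorem F114927 : act 3 n25577 = n20182 := d28_1 D25577 (iv D20182) (iv F91319)
theorem F114928 : act 6 n25577 = n20180 := d40_1 D25577 (iv D20180) D20179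
theorem F114929 : act 7 n25577 = n25577 := d42_1 D25577 (iv D25577) F91321
def n25578 : Q := act 9 n20180
theorem D25578 : act 9 n20180 = n25578 := rfl
theorem F114931 : act 3 n25578 = n20183 := d29_1 D25578 (iv D20183) (iv F91324)
theorem F114932 : act 5 n25578 = n20443 := d38_1 D25578 (iv D20443) (iv F91325)
def n25579 : Q := act 5 n20182
theorem D25579 : act 5 n20182 = n25579 := rfl
theorem F114935 : act 2 n25579 = n20248 := d19_1 D25579 (iv D20248) (iv F91332)
theorem F114936 : act 6 n25579 = n20444 := d35_2 (iv F91333) D25579 (iv D20444) F72823 (iv F72122)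
theorem F114937 : act 7 n25579 = n25579 := d36_2 F91334 D25579 (iv D25579)
theorem F114938 : act 8 n25579 = n25579 := d37_2 D20182 D25579 (iv D25579) (iv D20182) F72118
def n25580 : Q := act 9 n20182
theorem D25580 : act 9 n20182 = n25580 := rfl
theorem F114939 : act 2 n25580 = n20249 := d23_1 D25580 (iv D20249) (iv F91332)
theorem F114940 : act 6 n25580 = n20183 := d41_1 D25580 (iv D20183) (iv F91333)
theorem F114941 : act 7 n25580 = n25580 := d43_1 D25580 (iv D25580) F91334
theorem F114942 : act 8 n25580 = n25580 := d44_1 D25580 (iv D25580) (iv D20182) F72120 D20182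
def n25581 : Q := act 1 n20184
theorem D25581 : act 1 n20184 = n25581 := rfl
theorem F114943 : act 2 n25581 = n21480 := d9_2 D20184 D25581 (iv D21480) (iv D16786) (iv F72128)
theorem F114944 : act 4 n25581 = n25581 := d11_2 F91339 D25581 (iv D25581)
theorem F114945 : act 5 n25581 = n20206 := d12_2 (iv F91340) D25581 (iv D20206)
theorem F114946 : act 7 n25581 = n20192 := d14_2 (iv F91341) D25581 (iv D20192)
theorem F114947 : act 8 n25581 = n25581 := d15_2 F91342 D25581 (iv D25581)
theorem F114948 : act 9 n25581 = n21436 := d16_2 (iv F91343) D25581 (iv D21436)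
def n25582 : Q := act 6 n20184
theorem D25582 : act 6 n20184 = n25582 := rfl
theorem F114949 : act 2 n25582 = n20185 := d20_1 D25582 (iv D20185) D20184
theorem F114950 : act 4 n25582 = n25582 := d31_1 D25582 (iv D25582) F91339
theorem F114951 : act 8 n25582 = n25582 := d40_2 F91342 D25582 (iv D25582)
theorem F114952 : act 9 n25582 = n21437 := d41_2 (iv F91343) D25582 (iv D21437)
def n25583 : Q := act 5 n20185
theorem D25583 : act 5 n20185 = n25583 := rfl
theorem F114953 : act 1 n25583 = n21482 := d12_1 D25583 (iv D21482) (iv F91344)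
theorem F114954 : act 3 n25583 = n20186 := d25_1 D25583 (iv D20186) (iv F91345)
theorem F114955 : act 6 n25583 = n20208 := d35_2 D20185 D25583 (iv D20208) (iv D15807) (iv F72130)
theorem F114956 : act 9 n25583 = n21438 := d38_2 (iv F91348) D25583 (iv D21438)
def n25584 : Q := act 7 n20185
theorem D25584 : act 7 n20185 = n25584 := rfl
theorem F114957 : act 1 n25584 = n21483 := d14_1 D25584 (iv D21483) (iv F91344)
theorem F114958 : act 3 n25584 = n20187 := d27_1 D25584 (iv D20187) (iv F91345)
theorem F114959 : act 4 n25584 = n25584 := d32_1 D25584 (iv D25584) F91346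
theorem F114960 : act 6 n25584 = n20195 := d39_1 D25584 (iv D20195) (iv D15797) (iv F72131) D20185
theorem F114961 : act 8 n25584 = n25584 := d42_2 F91347 D25584 (iv D25584)
theorem F114962 : act 9 n25584 = n21439 := d43_2 (iv F91348) D25584 (iv D21439)
def n25585 : Q := act 7 n20186
theorem D25585 : act 7 n20186 = n25585 := rfl
theorem F114963 : act 1 n25585 = n21484 := d14_1 D25585 (iv D21484) (iv F91349)
theorem F114964 : act 4 n25585 = n21701 := d32_1 D25585 (iv D21701) (iv F91350)
theorem F114965 : act 5 n25585 = n20187 := d36_1 D25585 (iv D20187) D20186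
theorem F114966 : act 9 n25585 = n21440 := d43_2 (iv F91352) D25585 (iv D21440)
def n25586 : Q := act 8 n20186
theorem D25586 : act 8 n20186 = n25586 := rfl
theorem F114967 : act 1 n25586 = n21485 := d15_1 D25586 (iv D21485) (iv F91349)
theorem F114968 : act 4 n25586 = n21702 := d33_1 D25586 (iv D21702) (iv F91350)
theorem F114969 : act 5 n25586 = n25586 := d37_1 D25586 (iv D25586) (iv D20186) F72136 D20186
theorem F114970 : act 6 n25586 = n20211 := d40_1 D25586 (iv D20211) (iv F91351)
def n25587 : Q := act 1 n20188
theorem D25587 : act 1 n20188 = n25587 := rfl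
theorem F114971 : act 2 n25587 = n21474 := d9_2 D20188 D25587 (iv D21474) (iv D16782) (iv F72144)
theorem F114972 : act 4 n25587 = n25587 := d11_2 F91358 D25587 (iv D25587)
theorem F114973 : act 5 n25587 = n20212 := d12_2 (iv F91359) D25587 (iv D20212)
theorem F114974 : act 7 n25587 = n21436 := d14_2 (iv F91360) D25587 (iv D21436)
theorem F114975 : act 8 n25587 = n21442 := d15_2 (iv F91361) D25587 (iv D21442)
theorem F114976 : act 9 n25587 = n20192 := d16_2 (iv F91362) D25587 (iv D20192)
def n25588 : Q := act 6 n20188
theorem D25588 : act 6 n20188 = n25588 := rfl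
theorem F114977 : act 2 n25588 = n20189 := d20_1 D25588 (iv D20189) D20188
theorem F114978 : act 4 n25588 = n25588 := d31_1 D25588 (iv D25588) F91358
theorem F114979 : act 8 n25588 = n21443 := d40_2 (iv F91361) D25588 (iv D21443)
theorem F114980 : act 9 n25588 = n20193 := d41_2 (iv F91362) D25588 (iv D20193)
def n25589 : Q := act 5 n20189
theorem D25589 : act 5 n20189 = n25589 := rfl
theorem F114981 : act 1 n25589 = n21476 := d12_1 D25589 (iv D21476) (iv F91363)
theorem F114982 : act 3 n25589 = n20190 := d25_1 D25589 (iv D20190) (iv F91364)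
theorem F114983 : act 6 n25589 = n20214 := d35_2 D20189 D25589 (iv D20214) (iv D15811) (iv F72146)
theorem F114984 : act 9 n25589 = n20194 := d38_2 (iv F91367) D25589 (iv D20194)
def n25590 : Q := act 7 n20189
theorem D25590 : act 7 n20189 = n25590 := rfl
theorem F114985 : act 1 n25590 = n21477 := d14_1 D25590 (iv D21477) (iv F91363)
theorem F114986 : act 3 n25590 = n20191 := d27_1 D25590 (iv D20191) (iv F91364)
theorem F114987 : act 4 n25590 = n25590 := d32_1 D25590 (iv D25590) F91365
theorem F114988 : act 6 n25590 = n21439 := d39_1 D25590 (iv D21439) (iv D16757) (iv F72147) D20189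
theorem F114989 : act 8 n25590 = n21445 := d42_2 (iv F91366) D25590 (iv D21445)
theorem F114990 : act 9 n25590 = n20195 := d43_2 (iv F91367) D25590 (iv D20195)
def n25591 : Q := act 7 n20190
theorem D25591 : act 7 n20190 = n25591 := rfl
theorem F114991 : act 1 n25591 = n21478 := d14_1 D25591 (iv D21478) (iv F91368)
theorem F114992 : act 4 n25591 = n20460 := d32_1 D25591 (iv D20460) (iv F91369)
theorem F114993 : act 5 n25591 = n20191 := d36_1 D25591 (iv D20191) D20190
theorem F114994 : act 9 n25591 = n20196 := d43_2 (iv F91371) D25591 (iv D20196)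
def n25592 : Q := act 8 n20190
theorem D25592 : act 8 n20190 = n25592 := rfl
theorem F114995 : act 1 n25592 = n21479 := d15_1 D25592 (iv D21479) (iv F91368)
theorem F114996 : act 4 n25592 = n20461 := d33_1 D25592 (iv D20461) (iv F91369)
theorem F114997 : act 5 n25592 = n21447 := d37_1 D25592 (iv D21447) (iv D16762) (iv F72152) D20190
theorem F114998 : act 6 n25592 = n20217 := d40_1 D25592 (iv D20217) (iv F91370)
def n25593 : Q := act 0 n20192
theorem D25593 : act 0 n20192 = n25593 := rfl
theorem F114999 : act 2 n25593 = n21527 := d1_2 (iv F91377) D25593 (iv D21527)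
theorem F115000 : act 4 n25593 = n25593 := d3_2 F91378 D25593 (iv D25593)
theorem F115001 : act 5 n25593 = n20218 := d4_2 (iv F91379) D25593 (iv D20218)
theorem F115002 : act 8 n25593 = n25593 := d7_2 F91380 D25593 (iv D25593)
def n25594 : Q := act 6 n20192
theorem D25594 : act 6 n20192 = n25594 := rfl
theorem F115003 : act 1 n25594 = n20193 := d13_1 D25594 (iv D20193) D20192
theorem F115004 : act 2 n25594 = n21528 := d20_1 D25594 (iv D21528) (iv F91377)
theorem F115005 : act 4 n25594 = n25594 := d31_1 D25594 (iv D25594) F91378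
theorem F115006 : act 8 n25594 = n25594 := d40_2 F91380 D25594 (iv D25594)
def n25595 : Q := act 5 n20193
theorem D25595 : act 5 n20193 = n25595 := rfl
theorem F115007 : act 2 n25595 = n20194 := d19_1 D25595 (iv D20194) (iv F91381)
theorem F115008 : act 6 n25595 = n20220 := d35_2 D20193 D25595 (iv D20220) (iv D15815) (iv F72161)
def n25596 : Q := act 7 n20193
theorem D25596 : act 7 n20193 = n25596 := rfl
theorem F115009 : act 2 n25596 = n20195 := d21_1 D25596 (iv D20195) (iv F91381)
theorem F115010 : act 4 n25596 = n25596 := d32_1 D25596 (iv D25596) F91382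
theorem F115011 : act 8 n25596 = n25596 := d42_2 F91383 D25596 (iv D25596)
def n25597 : Q := act 4 n20194
theorem D25597 : act 4 n20194 = n25597 := rfl
theorem F115012 : act 1 n25597 = n21531 := d11_1 D25597 (iv D21531) (iv F91384)
theorem F115013 : act 3 n25597 = n20466 := d24_1 D25597 (iv D20466) F72882 (iv F72168) (iv F91385)
theorem F115014 : act 5 n25597 = n25597 := d30_2 D20194 D25597 (iv D25597) (iv D20194) F72165
theorem F115015 : act 6 n25597 = n20222 := d31_2 (iv F91386) D25597 (iv D20222)
def n25598 : Q := act 7 n20194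
theorem D25598 : act 7 n20194 = n25598 := rfl
theorem F115016 : act 1 n25598 = n21532 := d14_1 D25598 (iv D21532) (iv F91384)
theorem F115017 : act 3 n25598 = n20196 := d27_1 D25598 (iv D20196) (iv F91385)
theorem F115018 : act 5 n25598 = n20195 := d36_1 D25598 (iv D20195) D20194
def n25599 : Q := act 8 n20194
theorem D25599 : act 8 n20194 = n25599 := rfl
theorem F115019 : act 1 n25599 = n21533 := d15_1 D25599 (iv D21533) (iv F91384)
theorem F115020 : act 3 n25599 = n20197 := d28_1 D25599 (iv D20197) (iv F91385)
theorem F115021 : act 5 n25599 = n25599 := d37_1 D25599 (iv D25599) (iv D20194) F72166 D20194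
theorem F115022 : act 6 n25599 = n20224 := d40_1 D25599 (iv D20224) (iv F91386)
def n25600 : Q := act 6 n20196
theorem D25600 : act 6 n20196 = n25600 := rfl
theorem F115023 : act 1 n25600 = n21534 := d13_1 D25600 (iv D21534) (iv F91391)
theorem F115024 : act 4 n25600 = n20469 := d31_1 D25600 (iv D20469) (iv F91392)
theorem F115025 : act 7 n25600 = n20225 := d39_2 D20196 D25600 (iv D20225) (iv D15818) (iv F72169)
def n25601 : Q := act 8 n20196
theorem D25601 : act 8 n20196 = n25601 := rfl
theorem F115026 : act 1 n25601 = n21535 := d15_1 D25601 (iv D21535) (iv F91391)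
theorem F115027 : act 4 n25601 = n20470 := d33_1 D25601 (iv D20470) (iv F91392)
theorem F115028 : act 5 n25601 = n25601 := d37_1 D25601 (iv D25601) F91393 F72172 (iv F91393)
theorem F115029 : act 7 n25601 = n20197 := d42_1 D25601 (iv D20197) D20196
def n25602 : Q := act 9 n20197
theorem D25602 : act 9 n20197 = n25602 := rfl
theorem F115030 : act 1 n25602 = n21536 := d16_1 D25602 (iv D21536) (iv F91394)
theorem F115031 : act 4 n25602 = n20471 := d34_1 D25602 (iv D20471) (iv F91395)
theorem F115032 : act 5 n25602 = n25602 := d38_1 D25602 (iv D25602) F91396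
theorem F115033 : act 6 n25602 = n20227 := d41_1 D25602 (iv D20227) (iv F91397)
def n25603 : Q := act 1 n20198
theorem D25603 : act 1 n20198 = n25603 := rfl
theorem F115035 : act 4 n25603 = n20250 := d11_2 (iv F91398) D25603 (iv D20250)
theorem F115037 : act 7 n25603 = n20472 := d14_2 (iv F91400) D25603 (iv D20472)
theorem F115038 : act 8 n25603 = n25603 := d15_2 F91401 D25603 (iv D25603)
theorem F115039 : act 9 n25603 = n21685 := d16_2 (iv F91402) D25603 (iv D21685)
def n25604 : Q := act 6 n20198
theorem D25604 : act 6 n20198 = n25604 := rfl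
theorem F115040 : act 2 n25604 = n20199 := d20_1 D25604 (iv D20199) D20198
theorem F115041 : act 4 n25604 = n20251 := d31_1 D25604 (iv D20251) (iv F91398)
theorem F115042 : act 8 n25604 = n25604 := d40_2 F91401 D25604 (iv D25604)
theorem F115043 : act 9 n25604 = n21686 := d41_2 (iv F91402) D25604 (iv D21686)
def n25605 : Q := act 5 n20199
theorem D25605 : act 5 n20199 = n25605 := rfl
theorem F115044 : act 1 n25605 = n21539 := d12_1 D25605 (iv D21539) (iv F91403)
theorem F115045 : act 3 n25605 = n20200 := d25_1 D25605 (iv D20200) (iv F91404)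
theorem F115047 : act 9 n25605 = n21687 := d38_2 (iv F91407) D25605 (iv D21687)
def n25606 : Q := act 7 n20199
theorem D25606 : act 7 n20199 = n25606 := rfl
theorem F115048 : act 1 n25606 = n21540 := d14_1 D25606 (iv D21540) (iv F91403)
theorem F115049 : act 3 n25606 = n20201 := d27_1 D25606 (iv D20201) (iv F91404)
theorem F115050 : act 4 n25606 = n20253 := d32_1 D25606 (iv D20253) (iv F91405)
theorem F115051 : act 6 n25606 = n20475 := d39_1 D25606 (iv D20475) (iv D16001) (iv F72176) D20199
theorem F115052 : act 8 n25606 = n25606 := d42_2 F91406 D25606 (iv D25606)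
theorem F115053 : act 9 n25606 = n21688 := d43_2 (iv F91407) D25606 (iv D21688)
def n25607 : Q := act 7 n20200
theorem D25607 : act 7 n20200 = n25607 := rfl
theorem F115054 : act 1 n25607 = n21541 := d14_1 D25607 (iv D21541) (iv F91408)
theorem F115055 : act 4 n25607 = n20210 := d32_1 D25607 (iv D20210) (iv F91409)
theorem F115056 : act 5 n25607 = n20201 := d36_1 D25607 (iv D20201) D20200
theorem F115057 : act 9 n25607 = n21689 := d43_2 (iv F91411) D25607 (iv D21689)
def n25608 : Q := act 8 n20200
theorem D25608 : act 8 n20200 = n25608 := rfl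
theorem F115058 : act 1 n25608 = n21542 := d15_1 D25608 (iv D21542) (iv F91408)
theorem F115059 : act 4 n25608 = n20211 := d33_1 D25608 (iv D20211) (iv F91409)
theorem F115060 : act 5 n25608 = n25608 := d37_1 D25608 (iv D25608) (iv D20200) F72181 D20200
theorem F115061 : act 6 n25608 = n21702 := d40_1 D25608 (iv D21702) (iv F91410)
def n25609 : Q := act 1 n20202
theorem D25609 : act 1 n20202 = n25609 := rfl
theorem F115062 : act 2 n25609 = n21468 := d9_2 D20202 D25609 (iv D21468) (iv D16778) (iv F72189)
theorem F115063 : act 4 n25609 = n20256 := d11_2 (iv F91417) D25609 (iv D20256)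
theorem F115064 : act 5 n25609 = n21436 := d12_2 (iv F91418) D25609 (iv D21436)
theorem F115065 : act 7 n25609 = n20212 := d14_2 (iv F91419) D25609 (iv D20212)
theorem F115066 : act 8 n25609 = n25609 := d15_2 F91420 D25609 (iv D25609)
theorem F115067 : act 9 n25609 = n20206 := d16_2 (iv F91421) D25609 (iv D20206)
def n25610 : Q := act 6 n20202
theorem D25610 : act 6 n20202 = n25610 := rfl
theorem F115068 : act 2 n25610 = n20203 := d20_1 D25610 (iv D20203) D20202
theorem F115069 : act 4 n25610 = n20257 := d31_1 D25610 (iv D20257) (iv F91417)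
theorem F115070 : act 8 n25610 = n25610 := d40_2 F91420 D25610 (iv D25610)
theorem F115071 : act 9 n25610 = n20207 := d41_2 (iv F91421) D25610 (iv D20207)
def n25611 : Q := act 5 n20203
theorem D25611 : act 5 n20203 = n25611 := rfl
theorem F115072 : act 1 n25611 = n21470 := d12_1 D25611 (iv D21470) (iv F91422)
theorem F115073 : act 3 n25611 = n20204 := d25_1 D25611 (iv D20204) (iv F91423)
theorem F115074 : act 6 n25611 = n21438 := d35_2 D20203 D25611 (iv D21438) (iv D16757) (iv F72191)
theorem F115075 : act 9 n25611 = n20208 := d38_2 (iv F91426) D25611 (iv D20208)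
def n25612 : Q := act 7 n20203
theorem D25612 : act 7 n20203 = n25612 := rfl
theorem F115076 : act 1 n25612 = n21471 := d14_1 D25612 (iv D21471) (iv F91422)
theorem F115077 : act 3 n25612 = n20205 := d27_1 D25612 (iv D20205) (iv F91423)
theorem F115078 : act 4 n25612 = n20259 := d32_1 D25612 (iv D20259) (iv F91424)
theorem F115079 : act 6 n25612 = n20215 := d39_1 D25612 (iv D20215) (iv D15811) (iv F72192) D20203
theorem F115080 : act 8 n25612 = n25612 := d42_2 F91425 D25612 (iv D25612)
theorem F115081 : act 9 n25612 = n20209 := d43_2 (iv F91426) D25612 (iv D20209)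
def n25613 : Q := act 7 n20204
theorem D25613 : act 7 n20204 = n25613 := rfl
theorem F115082 : act 1 n25613 = n21472 := d14_1 D25613 (iv D21472) (iv F91427)
theorem F115083 : act 4 n25613 = n21689 := d32_1 D25613 (iv D21689) (iv F91428)
theorem F115084 : act 5 n25613 = n20205 := d36_1 D25613 (iv D20205) D20204
theorem F115085 : act 9 n25613 = n20210 := d43_2 (iv F91430) D25613 (iv D20210)
def n25614 : Q := act 8 n20204
theorem D25614 : act 8 n20204 = n25614 := rfl
theorem F115086 : act 1 n25614 = n21473 := d15_1 D25614 (iv D21473) (iv F91427)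
theorem F115088 : act 5 n25614 = n25614 := d37_1 D25614 (iv D25614) (iv D20204) F72197 D20204
theorem F115089 : act 6 n25614 = n21441 := d40_1 D25614 (iv D21441) (iv F91429)
def n25615 : Q := act 0 n20206
theorem D25615 : act 0 n20206 = n25615 := rfl
theorem F115090 : act 2 n25615 = n21543 := d1_2 (iv F91436) D25615 (iv D21543)
theorem F115091 : act 4 n25615 = n20262 := d3_2 (iv F91437) D25615 (iv D20262)
theorem F115092 : act 7 n25615 = n20218 := d6_2 (iv F91438) D25615 (iv D20218)
theorem F115093 : act 8 n25615 = n20228 := d7_2 (iv F91439) D25615 (iv D20228)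
def n25616 : Q := act 6 n20206
theorem D25616 : act 6 n20206 = n25616 := rfl
theorem F115094 : act 1 n25616 = n20207 := d13_1 D25616 (iv D20207) D20206
theorem F115095 : act 2 n25616 = n21544 := d20_1 D25616 (iv D21544) (iv F91436)
theorem F115096 : act 4 n25616 = n20263 := d31_1 D25616 (iv D20263) (iv F91437)
theorem F115097 : act 8 n25616 = n20229 := d40_2 (iv F91439) D25616 (iv D20229)
def n25617 : Q := act 5 n20207
theorem D25617 : act 5 n20207 = n25617 := rfl
theorem F115098 : act 2 n25617 = n20208 := d19_1 D25617 (iv D20208) (iv F91440)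
def n25618 : Q := act 7 n20207
theorem D25618 : act 7 n20207 = n25618 := rfl
theorem F115099 : act 2 n25618 = n20209 := d21_1 D25618 (iv D20209) (iv F91440)
theorem F115100 : act 4 n25618 = n20265 := d32_1 D25618 (iv D20265) (iv F91441)
theorem F115101 : act 6 n25618 = n20221 := d39_1 D25618 (iv D20221) (iv D15815) (iv F72206) D20207
theorem F115102 : act 8 n25618 = n20231 := d42_2 (iv F91442) D25618 (iv D20231)
def n25619 : Q := act 4 n20208
theorem D25619 : act 4 n20208 = n25619 := rfl
theorem F115103 : act 1 n25619 = n21547 := d11_1 D25619 (iv D21547) (iv F91443)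
theorem F115104 : act 5 n25619 = n20266 := d30_2 D20208 D25619 (iv D20266) (iv D15847) (iv F72210)
theorem F115105 : act 8 n21919 = n25619 := d37_0 F115104 (iv F91659) (iv D17429) (iv F77219) D21919
def n25620 : Q := act 7 n20208
theorem D25620 : act 7 n20208 = n25620 := rfl
theorem F115106 : act 1 n25620 = n21548 := d14_1 D25620 (iv D21548) (iv F91443)
theorem F115107 : act 3 n25620 = n20210 := d27_1 D25620 (iv D20210) (iv F91444)
theorem F115108 : act 5 n25620 = n20209 := d36_1 D25620 (iv D20209) D20208
def n25621 : Q := act 8 n20208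
theorem D25621 : act 8 n20208 = n25621 := rfl
theorem F115109 : act 1 n25621 = n21549 := d15_1 D25621 (iv D21549) (iv F91443)
theorem F115110 : act 3 n25621 = n20211 := d28_1 D25621 (iv D20211) (iv F91444)
theorem F115112 : act 5 n25621 = n20234 := d37_1 D25621 (iv D20234) (iv D15822) (iv F72211) D20208
theorem F115113 : act 9 n21930 = n25621 := d38_0 F115112 (iv F91536) (iv F98145)
def n25622 : Q := act 6 n20210
theorem D25622 : act 6 n20210 = n25622 := rfl
theorem F115114 : act 1 n25622 = n21550 := d13_1 D25622 (iv D21550) (iv F91450)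
theorem F115115 : act 5 n25622 = n20225 := d35_1 D25622 (iv D20225) F72246 (iv F72215) (iv F91451)
def n25623 : Q := act 8 n20210
theorem D25623 : act 8 n20210 = n25623 := rfl
theorem F115116 : act 1 n25623 = n21551 := d15_1 D25623 (iv D21551) (iv F91450)
theorem F115117 : act 5 n25623 = n20236 := d37_1 D25623 (iv D20236) F72269 (iv F72216) (iv F91451)
theorem F115118 : act 7 n25623 = n20211 := d42_1 D25623 (iv D20211) D20210
def n25624 : Q := act 9 n20211
theorem D25624 : act 9 n20211 = n25624 := rfl
theorem F115119 : act 1 n25624 = n21552 := d16_1 D25624 (iv D21552) (iv F91452)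
theorem F115120 : act 3 n25624 = n21930 := d29_1 D25624 F115113 F115110
theorem F115121 : act 5 n25624 = n20237 := d38_1 D25624 (iv D20237) (iv F91453)
def n25625 : Q := act 0 n20212
theorem D25625 : act 0 n20212 = n25625 := rfl
theorem F115122 : act 2 n25625 = n21553 := d1_2 (iv F91454) D25625 (iv D21553)
theorem F115123 : act 4 n25625 = n20272 := d3_2 (iv F91455) D25625 (iv D20272)
theorem F115124 : act 8 n25625 = n25625 := d7_2 F91456 D25625 (iv D25625)
theorem F115125 : act 9 n25625 = n20218 := d8_2 (iv F91457) D25625 (iv D20218)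
def n25626 : Q := act 6 n20212
theorem D25626 : act 6 n20212 = n25626 := rfl
theorem F115126 : act 1 n25626 = n20213 := d13_1 D25626 (iv D20213) D20212
theorem F115127 : act 2 n25626 = n21554 := d20_1 D25626 (iv D21554) (iv F91454)
theorem F115128 : act 4 n25626 = n20273 := d31_1 D25626 (iv D20273) (iv F91455)
theorem F115129 : act 8 n25626 = n25626 := d40_2 F91456 D25626 (iv D25626)
theorem F115130 : act 9 n25626 = n20219 := d41_2 (iv F91457) D25626 (iv D20219)
def n25627 : Q := act 5 n20213
theorem D25627 : act 5 n20213 = n25627 := rfl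
theorem F115131 : act 2 n25627 = n20214 := d19_1 D25627 (iv D20214) (iv F91458)
theorem F115132 : act 9 n25627 = n20220 := d38_2 (iv F91461) D25627 (iv D20220)
def n25628 : Q := act 7 n20213
theorem D25628 : act 7 n20213 = n25628 := rfl
theorem F115133 : act 2 n25628 = n20215 := d21_1 D25628 (iv D20215) (iv F91458)
theorem F115134 : act 4 n25628 = n20275 := d32_1 D25628 (iv D20275) (iv F91459)
theorem F115135 : act 8 n25628 = n25628 := d42_2 F91460 D25628 (iv D25628)
theorem F115136 : act 9 n25628 = n20221 := d43_2 (iv F91461) D25628 (iv D20221)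
def n25629 : Q := act 4 n20214
theorem D25629 : act 4 n20214 = n25629 := rfl
theorem F115137 : act 1 n25629 = n21557 := d11_1 D25629 (iv D21557) (iv F91462)
theorem F115138 : act 3 n25629 = n20492 := d24_1 D25629 (iv D20492) F72931 (iv F72226) (iv F91463)
theorem F115139 : act 5 n25629 = n20276 := d30_2 D20214 D25629 (iv D20276) (iv D15853) (iv F72222)
theorem F115140 : act 9 n25629 = n20222 := d34_2 (iv F91464) D25629 (iv D20222)
def n25630 : Q := act 7 n20214
theorem D25630 : act 7 n20214 = n25630 := rfl
theorem F115141 : act 1 n25630 = n21558 := d14_1 D25630 (iv D21558) (iv F91462)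
theorem F115142 : act 3 n25630 = n20216 := d27_1 D25630 (iv D20216) (iv F91463)
theorem F115143 : act 5 n25630 = n20215 := d36_1 D25630 (iv D20215) D20214
theorem F115144 : act 9 n25630 = n20223 := d43_2 (iv F91464) D25630 (iv D20223)
def n25631 : Q := act 8 n20214
theorem D25631 : act 8 n20214 = n25631 := rfl
theorem F115145 : act 1 n25631 = n21559 := d15_1 D25631 (iv D21559) (iv F91462)
theorem F115146 : act 3 n25631 = n20217 := d28_1 D25631 (iv D20217) (iv F91463)
theorem F115147 : act 5 n25631 = n25631 := d37_1 D25631 (iv D25631) (iv D20214) F72223 D20214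
def n25632 : Q := act 6 n20216
theorem D25632 : act 6 n20216 = n25632 := rfl
theorem F115148 : act 1 n25632 = n21560 := d13_1 D25632 (iv D21560) (iv F91470)
theorem F115149 : act 4 n25632 = n20495 := d31_1 D25632 (iv D20495) (iv F91471)
theorem F115150 : act 9 n25632 = n20225 := d41_2 (iv F91473) D25632 (iv D20225)
def n25633 : Q := act 8 n20216
theorem D25633 : act 8 n20216 = n25633 := rfl
theorem F115151 : act 1 n25633 = n21561 := d15_1 D25633 (iv D21561) (iv F91470)
theorem F115152 : act 4 n25633 = n20496 := d33_1 D25633 (iv D20496) (iv F91471)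
theorem F115153 : act 5 n25633 = n25633 := d37_1 D25633 (iv D25633) F91472 F72230 (iv F91472)
theorem F115154 : act 7 n25633 = n20217 := d42_1 D25633 (iv D20217) D20216
def n25634 : Q := act 9 n20217
theorem D25634 : act 9 n20217 = n25634 := rfl
theorem F115155 : act 1 n25634 = n21562 := d16_1 D25634 (iv D21562) (iv F91474)
theorem F115156 : act 4 n25634 = n20497 := d34_1 D25634 (iv D20497) (iv F91475)
theorem F115157 : act 5 n25634 = n25634 := d38_1 D25634 (iv D25634) F91476
theorem F115158 : act 8 n25634 = n20227 := d44_1 D25634 (iv D20227) (iv D15819) (iv F72227) D20217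
def n25635 : Q := act 6 n20218
theorem D25635 : act 6 n20218 = n25635 := rfl
theorem F115159 : act 0 n25635 = n20219 := d5_1 D25635 (iv D20219) D20218
theorem F115160 : act 2 n25635 = n21563 := d20_1 D25635 (iv D21563) (iv F91477)
theorem F115161 : act 4 n25635 = n20281 := d31_1 D25635 (iv D20281) (iv F91478)
theorem F115162 : act 8 n25635 = n20238 := d40_2 (iv F91479) D25635 (iv D20238)
def n25636 : Q := act 5 n20219
theorem D25636 : act 5 n20219 = n25636 := rfl
theorem F115163 : act 1 n25636 = n20220 := d12_1 D25636 (iv D20220) (iv F91480)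
theorem F115164 : act 2 n25636 = n21564 := d19_1 D25636 (iv D21564) (iv F91481)
def n25637 : Q := act 7 n20219
theorem D25637 : act 7 n20219 = n25637 := rfl
theorem F115165 : act 1 n25637 = n20221 := d14_1 D25637 (iv D20221) (iv F91480)
theorem F115166 : act 2 n25637 = n21565 := d21_1 D25637 (iv D21565) (iv F91481)
theorem F115167 : act 4 n25637 = n20283 := d32_1 D25637 (iv D20283) (iv F91482)
theorem F115168 : act 8 n25637 = n20240 := d42_2 (iv F91483) D25637 (iv D20240)
def n25638 : Q := act 4 n20220
theorem D25638 : act 4 n20220 = n25638 := rfl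
theorem F115169 : act 2 n25638 = n20222 := d18_1 D25638 (iv D20222) (iv F91484)
theorem F115170 : act 5 n25638 = n20284 := d30_2 D20220 D25638 (iv D20284) (iv D15859) (iv F72236)
def n25639 : Q := act 7 n20220
theorem D25639 : act 7 n20220 = n25639 := rfl
theorem F115171 : act 2 n25639 = n20223 := d21_1 D25639 (iv D20223) (iv F91484)
theorem F115172 : act 5 n25639 = n20221 := d36_1 D25639 (iv D20221) D20220
def n25640 : Q := act 8 n20220
theorem D25640 : act 8 n20220 = n25640 := rfl
theorem F115173 : act 2 n25640 = n20224 := d22_1 D25640 (iv D20224) (iv F91484)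
theorem F115174 : act 5 n25640 = n20242 := d37_1 D25640 (iv D20242) (iv D15828) (iv F72237) D20220
def n25641 : Q := act 7 n20222
theorem D25641 : act 7 n20222 = n25641 := rfl
theorem F115175 : act 1 n25641 = n21569 := d14_1 D25641 (iv D21569) (iv F91488)
theorem F115176 : act 3 n25641 = n20504 := d27_1 D25641 (iv D20504) (iv F91489)
theorem F115177 : act 4 n25641 = n20223 := d32_1 D25641 (iv D20223) D20222
theorem F115178 : act 5 n25641 = n20286 := d36_1 D25641 (iv D20286) (iv F91490)
def n25642 : Q := act 8 n20222
theorem D25642 : act 8 n20222 = n25642 := rfl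
theorem F115179 : act 1 n25642 = n21570 := d15_1 D25642 (iv D21570) (iv F91488)
theorem F115180 : act 3 n25642 = n20505 := d28_1 D25642 (iv D20505) (iv F91489)
theorem F115181 : act 4 n25642 = n20224 := d33_1 D25642 (iv D20224) D20222
theorem F115182 : act 5 n25642 = n25642 := d37_1 D25642 (iv D25642) F91490 F72403 (iv F91490)
def n25643 : Q := act 6 n20223
theorem D25643 : act 6 n20223 = n25643 := rfl
theorem F115183 : act 1 n25643 = n21571 := d13_1 D25643 (iv D21571) (iv F91491)
theorem F115184 : act 3 n25643 = n20225 := d26_1 D25643 (iv D20225) (iv F91492)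
def n25644 : Q := act 8 n20223
theorem D25644 : act 8 n20223 = n25644 := rfl
theorem F115185 : act 1 n25644 = n21572 := d15_1 D25644 (iv D21572) (iv F91491)
theorem F115186 : act 3 n25644 = n20226 := d28_1 D25644 (iv D20226) (iv F91492)
theorem F115187 : act 5 n25644 = n20244 := d37_1 D25644 (iv D20244) F72292 (iv F72243) (iv F91493)
theorem F115188 : act 7 n25644 = n20224 := d42_1 D25644 (iv D20224) D20223
def n25645 : Q := act 9 n20224
theorem D25645 : act 9 n20224 = n25645 := rfl
theorem F115189 : act 1 n25645 = n21573 := d16_1 D25645 (iv D21573) (iv F91494)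
theorem F115190 : act 3 n25645 = n20227 := d29_1 D25645 (iv D20227) (iv F91495)
theorem F115191 : act 5 n25645 = n20245 := d38_1 D25645 (iv D20245) (iv F91496)
def n25646 : Q := act 8 n20225
theorem D25646 : act 8 n20225 = n25646 := rfl
theorem F115192 : act 1 n25646 = n21574 := d15_1 D25646 (iv D21574) (iv F91497)
theorem F115193 : act 4 n25646 = n20509 := d33_1 D25646 (iv D20509) (iv F91498)
theorem F115194 : act 6 n25646 = n20226 := d40_1 D25646 (iv D20226) D20225
def n25647 : Q := act 9 n20226
theorem D25647 : act 9 n20226 = n25647 := rfl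
theorem F115195 : act 1 n25647 = n21575 := d16_1 D25647 (iv D21575) (iv F91499)
theorem F115196 : act 4 n25647 = n20510 := d34_1 D25647 (iv D20510) (iv F91500)
theorem F115197 : act 5 n25647 = n20247 := d38_1 D25647 (iv D20247) (iv F91501)
theorem F115198 : act 7 n25647 = n20227 := d43_1 D25647 (iv D20227) (iv F91502)
def n25648 : Q := act 6 n20228
theorem D25648 : act 6 n20228 = n25648 := rfl
theorem F115199 : act 0 n25648 = n20229 := d5_1 D25648 (iv D20229) D20228
theorem F115200 : act 2 n25648 = n21576 := d20_1 D25648 (iv D21576) (iv F91506)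
theorem F115201 : act 4 n25648 = n20288 := d31_1 D25648 (iv D20288) (iv F91507)
def n25649 : Q := act 5 n20229
theorem D25649 : act 5 n20229 = n25649 := rfl
theorem F115203 : act 1 n25649 = n20230 := d12_1 D25649 (iv D20230) (iv F91511)
theorem F115204 : act 2 n25649 = n20564 := d19_1 D25649 (iv F92688) (iv F91512)
theorem F115205 : act 4 n25649 = n20562 := d30_1 D25649 F92678 F91746 (iv D20289) (iv F91513)
theorem F115208 : act 8 n20560 = n25649 := d33_0 F115205 (iv D20562) D20560
def n25650 : Q := act 7 n20229
theorem D25650 : act 7 n20229 = n25650 := rfl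
theorem F115209 : act 1 n25650 = n20231 := d14_1 D25650 (iv D20231) (iv F91511)
theorem F115210 : act 2 n25650 = n21577 := d21_1 D25650 (iv D21577) (iv F91512)
theorem F115211 : act 4 n25650 = n20290 := d32_1 D25650 (iv D20290) (iv F91513)
theorem F115212 : act 6 n25650 = n20240 := d39_1 D25650 (iv D20240) (iv D15827) (iv F72253) D20229
theorem F115213 : act 9 n25650 = n25650 := d43_2 F91514 D25650 (iv D25650)
def n25651 : Q := act 4 n20230
theorem D25651 : act 4 n20230 = n25651 := rfl
theorem F115215 : act 2 n25651 = n20232 := d18_1 D25651 (iv D20232) (iv F91515)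
theorem F115216 : act 5 n25651 = n20291 := d30_2 D20230 D25651 (iv D20291) (iv D15866) (iv F72256)
theorem F115219 : act 8 n20558 = n25651 := d37_0 F115216 (iv F91756) (iv D16254) (iv F73113) D20558
def n25652 : Q := act 7 n20230
theorem D25652 : act 7 n20230 = n25652 := rfl
theorem F115220 : act 2 n25652 = n20233 := d21_1 D25652 (iv D20233) (iv F91515)
theorem F115221 : act 5 n25652 = n20231 := d36_1 D25652 (iv D20231) D20230
theorem F115222 : act 9 n25652 = n25652 := d43_2 F91517 D25652 (iv D25652)
def n25653 : Q := act 8 n20230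
theorem D25653 : act 8 n20230 = n25653 := rfl
theorem F115223 : act 1 n25653 = n20560 := d15_1 D25653 F115208 F115203
theorem F115224 : act 2 n25653 = n20234 := d22_1 D25653 (iv D20234) (iv F91515)
theorem F115225 : act 4 n25653 = n20558 := d33_1 D25653 F115219 (iv D25651)
theorem F115226 : act 6 n25653 = n25653 := d40_1 D25653 (iv D25653) F91516
theorem F115227 : act 9 n20570 = n25653 := d34_0 F115225 F92666 D20570
def n25654 : Q := act 7 n20232
theorem D25654 : act 7 n20232 = n25654 := rfl
theorem F115228 : act 1 n25654 = n21579 := d14_1 D25654 (iv D21579) (iv F91522)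
theorem F115229 : act 3 n25654 = n25654 := d27_1 D25654 (iv D25654) F91523
theorem F115230 : act 4 n25654 = n20233 := d32_1 D25654 (iv D20233) D20232
theorem F115231 : act 5 n25654 = n20294 := d36_1 D25654 (iv D20294) (iv F91524)
theorem F115232 : act 8 n25654 = n22019 := d42_2 F91527 D25654 (iv D22019)
theorem F115233 : act 9 n25654 = n25654 := d43_2 F91526 D25654 (iv D25654)
def n25655 : Q := act 6 n20233
theorem D25655 : act 6 n20233 = n25655 := rfl
theorem F115234 : act 1 n25655 = n21580 := d13_1 D25655 (iv D21580) (iv F91528)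
theorem F115235 : act 3 n25655 = n20235 := d26_1 D25655 (iv D20235) (iv F91529)
theorem F115236 : act 5 n25655 = n20243 := d35_1 D25655 (iv D20243) F72292 (iv F72265) (iv F91530)
theorem F115237 : act 7 n25655 = n25655 := d39_2 D20233 D25655 (iv D25655) (iv D20233) F72260
theorem F115238 : act 9 n25655 = n25655 := d41_2 F91531 D25655 (iv D25655)
def n25656 : Q := act 8 n20233
theorem D25656 : act 8 n20233 = n25656 := rfl
theorem F115239 : act 1 n25656 = n21581 := d15_1 D25656 (iv D21581) (iv F91528)
theorem F115240 : act 3 n25656 = n20236 := d28_1 D25656 (iv D20236) (iv F91529)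
theorem F115242 : act 7 n25656 = n20234 := d42_1 D25656 (iv D20234) D20233
theorem F115243 : act 9 n22025 = n25656 := d43_0 F115242 (iv F91536) D22025
def n25657 : Q := act 8 n20235
theorem D25657 : act 8 n20235 = n25657 := rfl
theorem F115244 : act 1 n25657 = n21582 := d15_1 D25657 (iv D21582) (iv F91537)
theorem F115245 : act 4 n25657 = n25657 := d33_1 D25657 (iv D25657) F91538
theorem F115246 : act 6 n25657 = n20236 := d40_1 D25657 (iv D20236) D20235
theorem F115247 : act 7 n25657 = n25657 := d42_1 D25657 (iv D25657) F91540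
def n25658 : Q := act 9 n20236
theorem D25658 : act 9 n20236 = n25658 := rfl
theorem F115248 : act 1 n25658 = n21583 := d16_1 D25658 (iv D21583) (iv F91542)
theorem F115249 : act 3 n25658 = n22025 := d29_1 D25658 F115243 F115240
theorem F115250 : act 4 n25658 = n25658 := d34_1 D25658 (iv D25658) F91543
theorem F115251 : act 7 n25658 = n20237 := d43_1 D25658 (iv D20237) (iv F91544)
theorem F115252 : act 8 n25658 = n25658 := d44_1 D25658 (iv D25658) (iv D20236) F72270 D20236
def n25659 : Q := act 5 n20238
theorem D25659 : act 5 n20238 = n25659 := rfl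
theorem F115253 : act 0 n25659 = n20239 := d4_1 D25659 (iv D20239) (iv F91550)
theorem F115254 : act 2 n25659 = n21584 := d19_1 D25659 (iv D21584) (iv F91551)
theorem F115255 : act 4 n25659 = n25659 := d30_1 D25659 (iv D25659) F91552 F72451 (iv F91552)
theorem F115256 : act 6 n25659 = n25659 := d35_2 D20238 D25659 (iv D25659) (iv D20238) F72276
theorem F115257 : act 9 n25659 = n25659 := d38_2 F91553 D25659 (iv D25659)
def n25660 : Q := act 7 n20238
theorem D25660 : act 7 n20238 = n25660 := rfl
theorem F115258 : act 0 n25660 = n20240 := d6_1 D25660 (iv D20240) (iv F91550)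
theorem F115259 : act 2 n25660 = n21585 := d21_1 D25660 (iv D21585) (iv F91551)
theorem F115260 : act 4 n25660 = n20297 := d32_1 D25660 (iv D20297) (iv F91552)
theorem F115261 : act 9 n25660 = n25660 := d43_2 F91553 D25660 (iv D25660)
def n25661 : Q := act 7 n20239
theorem D25661 : act 7 n20239 = n25661 := rfl
theorem F115262 : act 1 n25661 = n20241 := d14_1 D25661 (iv D20241) (iv F91554)
theorem F115263 : act 2 n25661 = n21586 := d21_1 D25661 (iv D21586) (iv F91555)
theorem F115264 : act 4 n25661 = n25661 := d32_1 D25661 (iv D25661) F91556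
theorem F115265 : act 5 n25661 = n20240 := d36_1 D25661 (iv D20240) D20239
theorem F115266 : act 9 n25661 = n25661 := d43_2 F91558 D25661 (iv D25661)
def n25662 : Q := act 8 n20239
theorem D25662 : act 8 n20239 = n25662 := rfl
theorem F115267 : act 1 n25662 = n20242 := d15_1 D25662 (iv D20242) (iv F91554)
theorem F115268 : act 2 n25662 = n21587 := d22_1 D25662 (iv D21587) (iv F91555)
theorem F115269 : act 4 n25662 = n25662 := d33_1 D25662 (iv D25662) F91556
theorem F115270 : act 6 n25662 = n25662 := d40_1 D25662 (iv D25662) F91557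
def n25663 : Q := act 6 n20241
theorem D25663 : act 6 n20241 = n25663 := rfl
theorem F115271 : act 2 n25663 = n20243 := d20_1 D25663 (iv D20243) (iv F91563)
theorem F115272 : act 4 n25663 = n25663 := d31_1 D25663 (iv D25663) F91564
theorem F115273 : act 7 n25663 = n25663 := d39_2 D20241 D25663 (iv D25663) (iv D20241) F72284
theorem F115274 : act 9 n25663 = n25663 := d41_2 F91566 D25663 (iv D25663)
def n25664 : Q := act 8 n20241
theorem D25664 : act 8 n20241 = n25664 := rfl
theorem F115275 : act 2 n25664 = n20244 := d22_1 D25664 (iv D20244) (iv F91563)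
theorem F115276 : act 4 n25664 = n25664 := d33_1 D25664 (iv D25664) F91564
theorem F115277 : act 7 n25664 = n20242 := d42_1 D25664 (iv D20242) D20241
def n25665 : Q := act 9 n20242
theorem D25665 : act 9 n20242 = n25665 := rfl
theorem F115278 : act 2 n25665 = n20245 := d23_1 D25665 (iv D20245) (iv F91567)
theorem F115279 : act 4 n25665 = n25665 := d34_1 D25665 (iv D25665) F91568
theorem F115280 : act 6 n25665 = n25665 := d41_1 D25665 (iv D25665) F91569
theorem F115281 : act 8 n25665 = n25665 := d44_1 D25665 (iv D25665) (iv D20242) F72285 D20242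
def n25666 : Q := act 8 n20243
theorem D25666 : act 8 n20243 = n25666 := rfl
theorem F115282 : act 1 n25666 = n21591 := d15_1 D25666 (iv D21591) (iv F91570)
theorem F115283 : act 3 n25666 = n20246 := d28_1 D25666 (iv D20246) (iv F91571)
theorem F115284 : act 4 n25666 = n25666 := d33_1 D25666 (iv D25666) F91572
theorem F115285 : act 6 n25666 = n20244 := d40_1 D25666 (iv D20244) D20243
theorem F115286 : act 7 n25666 = n25666 := d42_1 D25666 (iv D25666) F91573
def n25667 : Q := act 9 n20244
theorem D25667 : act 9 n20244 = n25667 := rfl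
theorem F115287 : act 1 n25667 = n21592 := d16_1 D25667 (iv D21592) (iv F91575)
theorem F115288 : act 3 n25667 = n20247 := d29_1 D25667 (iv D20247) (iv F91576)
theorem F115289 : act 4 n25667 = n25667 := d34_1 D25667 (iv D25667) F91577
theorem F115290 : act 7 n25667 = n20245 := d43_1 D25667 (iv D20245) (iv F91578)
theorem F115291 : act 8 n25667 = n25667 := d44_1 D25667 (iv D25667) (iv D20244) F72293 D20244
def n25668 : Q := act 5 n20246
theorem D25668 : act 5 n20246 = n25668 := rfl
theorem F115292 : act 1 n25668 = n21593 := d12_1 D25668 (iv D21593) (iv F91584)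
theorem F115293 : act 7 n25668 = n25668 := d36_2 F91587 D25668 (iv D25668)
def n25669 : Q := act 9 n20246
theorem D25669 : act 9 n20246 = n25669 := rfl
theorem F115294 : act 1 n25669 = n21594 := d16_1 D25669 (iv D21594) (iv F91584)
theorem F115295 : act 4 n25669 = n20249 := d34_1 D25669 (iv D20249) (iv F91585)
theorem F115296 : act 6 n25669 = n20247 := d41_1 D25669 (iv D20247) (iv F91586)
theorem F115297 : act 7 n25669 = n25669 := d43_1 D25669 (iv D25669) F91587
theorem F115298 : act 8 n25669 = n25669 := d44_1 D25669 (iv D25669) (iv D20246) F72301 D20246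
def n25670 : Q := act 4 n20248
theorem D25670 : act 4 n20248 = n25670 := rfl
theorem F115299 : act 1 n25670 = n21595 := d11_1 D25670 (iv D21595) (iv F91592)
theorem F115300 : act 6 n25670 = n20535 := d31_2 (iv F91594) D25670 (iv D20535)
theorem F115301 : act 7 n25670 = n25670 := d32_2 F91595 D25670 (iv D25670)
theorem F115302 : act 8 n25670 = n25670 := d33_2 F91596 D25670 (iv D25670)
def n25671 : Q := act 9 n20248
theorem D25671 : act 9 n20248 = n25671 := rfl
theorem F115303 : act 1 n25671 = n21596 := d16_1 D25671 (iv D21596) (iv F91592)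
theorem F115304 : act 3 n25671 = n25671 := d29_1 D25671 (iv D25671) F91593
theorem F115305 : act 5 n25671 = n20249 := d38_1 D25671 (iv D20249) D20248
theorem F115306 : act 6 n25671 = n20536 := d41_1 D25671 (iv D20536) (iv F91594)
theorem F115307 : act 7 n25671 = n25671 := d43_1 D25671 (iv D25671) F91595
def n25672 : Q := act 0 n20250
theorem D25672 : act 0 n20250 = n25672 := rfl
theorem F115308 : act 2 n25672 = n21603 := d1_2 (iv F91602) D25672 (iv D21603)
theorem F115310 : act 7 n25672 = n20537 := d6_2 (iv F91604) D25672 (iv D20537)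
def n25673 : Q := act 6 n20250
theorem D25673 : act 6 n20250 = n25673 := rfl
theorem F115312 : act 1 n25673 = n20251 := d13_1 D25673 (iv D20251) D20250
theorem F115313 : act 2 n25673 = n21604 := d20_1 D25673 (iv D21604) (iv F91602)
def n25674 : Q := act 5 n20251
theorem D25674 : act 5 n20251 = n25674 := rfl
theorem F115315 : act 2 n25674 = n20252 := d19_1 D25674 (iv D20252) (iv F91606)
def n25675 : Q := act 7 n20251
theorem D25675 : act 7 n20251 = n25675 := rfl
theorem F115317 : act 2 n25675 = n20253 := d21_1 D25675 (iv D20253) (iv F91606)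
theorem F115318 : act 6 n25675 = n20540 := d39_1 D25675 (iv D20540) (iv D16049) (iv F72319) D20251
theorem F115319 : act 8 n25675 = n25675 := d42_2 F91607 D25675 (iv D25675)
def n25676 : Q := act 4 n20252
theorem D25676 : act 4 n20252 = n25676 := rfl
theorem F115320 : act 1 n25676 = n21607 := d11_1 D25676 (iv D21607) (iv F91608)
theorem F115321 : act 3 n25676 = n20266 := d24_1 D25676 (iv D20266) F72354 (iv F72325) (iv F91609)
theorem F115322 : act 6 n25676 = n25676 := d31_2 F91610 D25676 (iv D25676)
theorem F115323 : act 8 n22219 = n25676 := d28_0 F115321 (iv F91659) (iv F99332)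
def n25677 : Q := act 7 n20252
theorem D25677 : act 7 n20252 = n25677 := rfl
theorem F115324 : act 1 n25677 = n21608 := d14_1 D25677 (iv D21608) (iv F91608)
theorem F115325 : act 3 n25677 = n20254 := d27_1 D25677 (iv D20254) (iv F91609)
theorem F115326 : act 5 n25677 = n20253 := d36_1 D25677 (iv D20253) D20252
def n25678 : Q := act 8 n20252
theorem D25678 : act 8 n20252 = n25678 := rfl
theorem F115327 : act 1 n25678 = n21609 := d15_1 D25678 (iv D21609) (iv F91608)
theorem F115328 : act 3 n25678 = n20255 := d28_1 D25678 (iv D20255) (iv F91609)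
theorem F115329 : act 4 n25678 = n22219 := d33_1 D25678 F115323 (iv D25676)
theorem F115332 : act 9 n22230 = n25678 := d34_0 F115329 F99334 D22230
def n25679 : Q := act 6 n20254
theorem D25679 : act 6 n20254 = n25679 := rfl
theorem F115333 : act 1 n25679 = n21610 := d13_1 D25679 (iv D21610) (iv F91615)
theorem F115334 : act 4 n25679 = n20269 := d31_1 D25679 (iv D20269) (iv F91616)
theorem F115335 : act 5 n25679 = n20544 := d35_1 D25679 (iv D20544) F73072 (iv F72329) (iv F91617)
theorem F115336 : act 7 n25679 = n25679 := d39_2 D20254 D25679 (iv D25679) (iv D20254) F72326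
def n25680 : Q := act 8 n20254
theorem D25680 : act 8 n20254 = n25680 := rfl
theorem F115337 : act 1 n25680 = n21611 := d15_1 D25680 (iv D21611) (iv F91615)
theorem F115338 : act 4 n25680 = n20270 := d33_1 D25680 (iv D20270) (iv F91616)
theorem F115339 : act 5 n25680 = n25680 := d37_1 D25680 (iv D25680) F91617 F72330 (iv F91617)
theorem F115340 : act 7 n25680 = n20255 := d42_1 D25680 (iv D20255) D20254
def n25681 : Q := act 9 n20255
theorem D25681 : act 9 n20255 = n25681 := rfl
theorem F115341 : act 1 n25681 = n21612 := d16_1 D25681 (iv D21612) (iv F91618)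
theorem F115342 : act 3 n25681 = n22230 := d29_1 D25681 F115332 F115328
theorem F115343 : act 4 n25681 = n20271 := d34_1 D25681 (iv D20271) (iv F91619)
def n25682 : Q := act 0 n20256
theorem D25682 : act 0 n20256 = n25682 := rfl
theorem F115346 : act 2 n25682 = n21613 := d1_2 (iv F91622) D25682 (iv D21613)
theorem F115347 : act 5 n25682 = n25682 := d4_2 F91623 D25682 (iv D25682)
theorem F115348 : act 7 n25682 = n20272 := d6_2 (iv F91624) D25682 (iv D20272)
theorem F115349 : act 8 n25682 = n25682 := d7_2 F91625 D25682 (iv D25682)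
theorem F115350 : act 9 n25682 = n20262 := d8_2 (iv F91626) D25682 (iv D20262)
def n25683 : Q := act 6 n20256
theorem D25683 : act 6 n20256 = n25683 := rfl
theorem F115351 : act 1 n25683 = n20257 := d13_1 D25683 (iv D20257) D20256
theorem F115352 : act 2 n25683 = n21614 := d20_1 D25683 (iv D21614) (iv F91622)
theorem F115353 : act 8 n25683 = n25683 := d40_2 F91625 D25683 (iv D25683)
theorem F115354 : act 9 n25683 = n20263 := d41_2 (iv F91626) D25683 (iv D20263)
def n25684 : Q := act 5 n20257
theorem D25684 : act 5 n20257 = n25684 := rfl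
theorem F115355 : act 2 n25684 = n20258 := d19_1 D25684 (iv D20258) (iv F91627)
theorem F115356 : act 6 n25684 = n25684 := d35_2 D20257 D25684 (iv D25684) (iv D20257) F72331
theorem F115357 : act 9 n25684 = n20264 := d38_2 (iv F91629) D25684 (iv D20264)
def n25685 : Q := act 7 n20257
theorem D25685 : act 7 n20257 = n25685 := rfl
theorem F115358 : act 2 n25685 = n20259 := d21_1 D25685 (iv D20259) (iv F91627)
theorem F115359 : act 6 n25685 = n20275 := d39_1 D25685 (iv D20275) (iv D15852) (iv F72332) D20257
theorem F115360 : act 8 n25685 = n25685 := d42_2 F91628 D25685 (iv D25685)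
theorem F115361 : act 9 n25685 = n20265 := d43_2 (iv F91629) D25685 (iv D20265)
def n25686 : Q := act 4 n20258
theorem D25686 : act 4 n20258 = n25686 := rfl
theorem F115362 : act 1 n25686 = n21617 := d11_1 D25686 (iv D21617) (iv F91630)
theorem F115363 : act 6 n25686 = n25686 := d31_2 F91632 D25686 (iv D25686)
theorem F115364 : act 9 n25686 = n20266 := d34_2 (iv F91633) D25686 (iv D20266)
theorem F115365 : act 8 n22327 = n25686 := d44_5 F115364 (iv F91659) F78514 D17442 D22327
def n25687 : Q := act 7 n20258
theorem D25687 : act 7 n20258 = n25687 := rfl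
theorem F115366 : act 1 n25687 = n21618 := d14_1 D25687 (iv D21618) (iv F91630)
theorem F115367 : act 3 n25687 = n20260 := d27_1 D25687 (iv D20260) (iv F91631)
theorem F115368 : act 5 n25687 = n20259 := d36_1 D25687 (iv D20259) D20258
theorem F115369 : act 9 n25687 = n20267 := d43_2 (iv F91633) D25687 (iv D20267)
def n25688 : Q := act 8 n20258
theorem D25688 : act 8 n20258 = n25688 := rfl
theorem F115370 : act 1 n25688 = n21619 := d15_1 D25688 (iv D21619) (iv F91630)
theorem F115371 : act 3 n25688 = n20261 := d28_1 D25688 (iv D20261) (iv F91631)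
theorem F115373 : act 5 n25688 = n25688 := d37_1 D25688 (iv D25688) (iv D20258) F72337 D20258
theorem F115374 : act 6 n25688 = n25688 := d40_1 D25688 (iv D25688) F91632
theorem F115375 : act 9 n25688 = n22324 := d44_2 (iv F91633) D25688 (iv D22324) F91668 (iv D20268)
def n25689 : Q := act 6 n20260
theorem D25689 : act 6 n20260 = n25689 := rfl
theorem F115376 : act 1 n25689 = n21620 := d13_1 D25689 (iv D21620) (iv F91639)
theorem F115377 : act 5 n25689 = n20279 := d35_1 D25689 (iv D20279) F72382 (iv F72344) (iv F91640)
theorem F115378 : act 7 n25689 = n25689 := d39_2 D20260 D25689 (iv D25689) (iv D20260) F72340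
theorem F115379 : act 9 n25689 = n20269 := d41_2 (iv F91641) D25689 (iv D20269)
def n25690 : Q := act 8 n20260
theorem D25690 : act 8 n20260 = n25690 := rfl
theorem F115380 : act 1 n25690 = n21621 := d15_1 D25690 (iv D21621) (iv F91639)
theorem F115381 : act 5 n25690 = n25690 := d37_1 D25690 (iv D25690) F91640 F72345 (iv F91640)
theorem F115382 : act 7 n25690 = n20261 := d42_1 D25690 (iv D20261) D20260
def n25691 : Q := act 9 n20261
theorem D25691 : act 9 n20261 = n25691 := rfl
theorem F115384 : act 3 n25691 = n22324 := d29_1 D25691 (iv F115375) F115371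
theorem F115387 : act 8 n25691 = n20271 := d44_1 D25691 (iv D20271) (iv D15850) (iv F72341) D20261
def n25692 : Q := act 6 n20262
theorem D25692 : act 6 n20262 = n25692 := rfl
theorem F115388 : act 0 n25692 = n20263 := d5_1 D25692 (iv D20263) D20262
theorem F115389 : act 2 n25692 = n21623 := d20_1 D25692 (iv D21623) (iv F91645)
theorem F115390 : act 8 n25692 = n20288 := d40_2 (iv F91648) D25692 (iv D20288)
def n25693 : Q := act 5 n20263
theorem D25693 : act 5 n20263 = n25693 := rfl
theorem F115391 : act 1 n25693 = n20264 := d12_1 D25693 (iv D20264) (iv F91649)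
theorem F115392 : act 2 n25693 = n20756 := d19_1 D25693 F93381 (iv F91650)
theorem F115394 : act 8 n25693 = n20752 := d37_2 (iv F91651) D25693 F93365 F91747 (iv D20289)
theorem F115395 : act 4 n20754 = n25693 := d33_3 F115394 (iv D20752) D20754
def n25694 : Q := act 7 n20263
theorem D25694 : act 7 n20263 = n25694 := rfl
theorem F115396 : act 1 n25694 = n20265 := d14_1 D25694 (iv D20265) (iv F91649)
theorem F115397 : act 2 n25694 = n21624 := d21_1 D25694 (iv D21624) (iv F91650)
theorem F115398 : act 6 n25694 = n20283 := d39_1 D25694 (iv D20283) (iv D15858) (iv F72349) D20263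
theorem F115399 : act 8 n25694 = n20290 := d42_2 (iv F91651) D25694 (iv D20290)
def n25695 : Q := act 4 n20264
theorem D25695 : act 4 n20264 = n25695 := rfl
theorem F115400 : act 1 n25695 = n20754 := d11_1 D25695 F115395 F115391
theorem F115401 : act 2 n25695 = n20266 := d18_1 D25695 (iv D20266) (iv F91652)
theorem F115402 : act 6 n25695 = n25695 := d31_2 F91653 D25695 (iv D25695)
theorem F115403 : act 8 n20750 = n25695 := d22_0 F115401 (iv F91659) (iv F93357)
def n25696 : Q := act 7 n20264
theorem D25696 : act 7 n20264 = n25696 := rfl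
theorem F115404 : act 2 n25696 = n20267 := d21_1 D25696 (iv D20267) (iv F91652)
theorem F115405 : act 5 n25696 = n20265 := d36_1 D25696 (iv D20265) D20264
def n25697 : Q := act 8 n20264
theorem D25697 : act 8 n20264 = n25697 := rfl
theorem F115407 : act 2 n25697 = n20268 := d22_1 D25697 (iv D20268) (iv F91652)
theorem F115408 : act 4 n25697 = n20750 := d33_1 D25697 F115403 (iv D25695)
theorem F115409 : act 5 n25697 = n20293 := d37_1 D25697 (iv D20293) (iv D15866) (iv F72352) D20264
def n25698 : Q := act 7 n20266
theorem D25698 : act 7 n20266 = n25698 := rfl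
theorem F115412 : act 1 n25698 = n21626 := d14_1 D25698 (iv D21626) (iv F91657)
theorem F115413 : act 4 n25698 = n20267 := d32_1 D25698 (iv D20267) D20266
theorem F115414 : act 8 n25698 = n22313 := d42_2 F91659 D25698 (iv D22313)
def n25699 : Q := act 6 n20267
theorem D25699 : act 6 n20267 = n25699 := rfl
theorem F115415 : act 1 n25699 = n21627 := d13_1 D25699 (iv D21627) (iv F91660)
theorem F115416 : act 3 n25699 = n20269 := d26_1 D25699 (iv D20269) (iv F91661)
theorem F115417 : act 5 n25699 = n20287 := d35_1 D25699 (iv D20287) F72406 (iv F72358) (iv F91662)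
theorem F115418 : act 7 n25699 = n25699 := d39_2 D20267 D25699 (iv D25699) (iv D20267) F72355
def n25700 : Q := act 8 n20267
theorem D25700 : act 8 n20267 = n25700 := rfl
theorem F115419 : act 1 n25700 = n21628 := d15_1 D25700 (iv D21628) (iv F91660)
theorem F115420 : act 3 n25700 = n20270 := d28_1 D25700 (iv D20270) (iv F91661)
theorem F115421 : act 4 n25700 = n22313 := d33_1 D25700 (iv F115414) F115413
theorem F115422 : act 5 n25700 = n20295 := d37_1 D25700 (iv D20295) F72432 (iv F72359) (iv F91662)
theorem F115423 : act 7 n25700 = n20268 := d42_1 D25700 (iv D20268) D20267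
theorem F115424 : act 9 n22323 = n25700 := d43_0 F115423 (iv F91668) D22323
def n25701 : Q := act 8 n20269
theorem D25701 : act 8 n20269 = n25701 := rfl
theorem F115425 : act 1 n25701 = n21629 := d15_1 D25701 (iv D21629) (iv F91669)
theorem F115426 : act 5 n25701 = n25701 := d37_1 D25701 (iv D25701) F91670 F72411 (iv F91670)
theorem F115427 : act 6 n25701 = n20270 := d40_1 D25701 (iv D20270) D20269
theorem F115428 : act 7 n25701 = n25701 := d42_1 D25701 (iv D25701) F91671
def n25702 : Q := act 9 n20270
theorem D25702 : act 9 n20270 = n25702 := rfl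
theorem F115429 : act 1 n25702 = n21630 := d16_1 D25702 (iv D21630) (iv F91672)
theorem F115431 : act 5 n25702 = n20296 := d38_1 D25702 (iv D20296) (iv F91673)
theorem F115432 : act 7 n25702 = n20271 := d43_1 D25702 (iv D20271) (iv F91674)
def n25703 : Q := act 6 n20272
theorem D25703 : act 6 n20272 = n25703 := rfl
theorem F115433 : act 0 n25703 = n20273 := d5_1 D25703 (iv D20273) D20272
theorem F115434 : act 2 n25703 = n21631 := d20_1 D25703 (iv D21631) (iv F91679)
theorem F115435 : act 8 n25703 = n25703 := d40_2 F91681 D25703 (iv D25703)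
theorem F115436 : act 9 n25703 = n20281 := d41_2 (iv F91682) D25703 (iv D20281)
def n25704 : Q := act 5 n20273
theorem D25704 : act 5 n20273 = n25704 := rfl
theorem F115437 : act 1 n25704 = n20274 := d12_1 D25704 (iv D20274) (iv F91683)
theorem F115438 : act 2 n25704 = n21632 := d19_1 D25704 (iv D21632) (iv F91684)
theorem F115439 : act 6 n25704 = n25704 := d35_2 D20273 D25704 (iv D25704) (iv D20273) F72366
theorem F115440 : act 9 n25704 = n20282 := d38_2 (iv F91686) D25704 (iv D20282)
def n25705 : Q := act 7 n20273
theorem D25705 : act 7 n20273 = n25705 := rfl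
theorem F115441 : act 1 n25705 = n20275 := d14_1 D25705 (iv D20275) (iv F91683)
theorem F115442 : act 2 n25705 = n21633 := d21_1 D25705 (iv D21633) (iv F91684)
theorem F115443 : act 8 n25705 = n25705 := d42_2 F91685 D25705 (iv D25705)
theorem F115444 : act 9 n25705 = n20283 := d43_2 (iv F91686) D25705 (iv D20283)
def n25706 : Q := act 4 n20274
theorem D25706 : act 4 n20274 = n25706 := rfl
theorem F115445 : act 2 n25706 = n20276 := d18_1 D25706 (iv D20276) (iv F91687)
theorem F115446 : act 6 n25706 = n25706 := d31_2 F91688 D25706 (iv D25706)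
theorem F115447 : act 9 n25706 = n20284 := d34_2 (iv F91689) D25706 (iv D20284)
def n25707 : Q := act 7 n20274
theorem D25707 : act 7 n20274 = n25707 := rfl
theorem F115448 : act 2 n25707 = n20277 := d21_1 D25707 (iv D20277) (iv F91687)
theorem F115449 : act 5 n25707 = n20275 := d36_1 D25707 (iv D20275) D20274
theorem F115450 : act 9 n25707 = n20285 := d43_2 (iv F91689) D25707 (iv D20285)
def n25708 : Q := act 8 n20274
theorem D25708 : act 8 n20274 = n25708 := rfl
theorem F115451 : act 2 n25708 = n20278 := d22_1 D25708 (iv D20278) (iv F91687)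
theorem F115452 : act 5 n25708 = n25708 := d37_1 D25708 (iv D25708) (iv D20274) F72370 D20274
theorem F115453 : act 6 n25708 = n25708 := d40_1 D25708 (iv D25708) F91688
theorem F115454 : act 9 n25708 = n25708 := d44_2 (iv F91689) D25708 (iv D25708) F91689 F72397
def n25709 : Q := act 7 n20276
theorem D25709 : act 7 n20276 = n25709 := rfl
theorem F115455 : act 1 n25709 = n21635 := d14_1 D25709 (iv D21635) (iv F91693)
theorem F115456 : act 3 n25709 = n20563 := d27_1 D25709 (iv D20563) (iv F91694)
theorem F115457 : act 4 n25709 = n20277 := d32_1 D25709 (iv D20277) D20276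
theorem F115458 : act 9 n25709 = n20286 := d43_2 (iv F91696) D25709 (iv D20286)
def n25710 : Q := act 8 n20276
theorem D25710 : act 8 n20276 = n25710 := rfl
theorem F115459 : act 1 n25710 = n21498 := d15_1 D25710 (iv F96386) (iv F91693)
theorem F115460 : act 3 n25710 = n20564 := d28_1 D25710 (iv D20564) (iv F91694)
theorem F115461 : act 4 n25710 = n20278 := d33_1 D25710 (iv D20278) D20276
theorem F115462 : act 6 n25710 = n25710 := d40_1 D25710 (iv D25710) F91695
theorem F115463 : act 9 n25710 = n25710 := d44_2 (iv F91696) D25710 (iv D25710) F91696 F72403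
theorem F115464 : act 5 n21497 = n25710 := d25_0 F115460 (iv F92688) (iv F96377)
def n25711 : Q := act 6 n20277
theorem D25711 : act 6 n20277 = n25711 := rfl
theorem F115465 : act 1 n25711 = n21636 := d13_1 D25711 (iv D21636) (iv F91697)
theorem F115466 : act 3 n25711 = n20279 := d26_1 D25711 (iv D20279) (iv F91698)
theorem F115467 : act 7 n25711 = n25711 := d39_2 D20277 D25711 (iv D25711) (iv D20277) F72374
theorem F115468 : act 9 n25711 = n20287 := d41_2 (iv F91700) D25711 (iv D20287)
def n25712 : Q := act 8 n20277
theorem D25712 : act 8 n20277 = n25712 := rfl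
theorem F115469 : act 1 n25712 = n21637 := d15_1 D25712 (iv D21637) (iv F91697)
theorem F115470 : act 3 n25712 = n20280 := d28_1 D25712 (iv D20280) (iv F91698)
theorem F115471 : act 5 n25712 = n25712 := d37_1 D25712 (iv D25712) F91699 F72378 (iv F91699)
theorem F115472 : act 7 n25712 = n20278 := d42_1 D25712 (iv D20278) D20277
theorem F115473 : act 9 n25712 = n25712 := d44_2 (iv F91700) D25712 (iv D25712) F91700 F72407
def n25713 : Q := act 8 n20279
theorem D25713 : act 8 n20279 = n25713 := rfl
theorem F115474 : act 1 n25713 = n21638 := d15_1 D25713 (iv D21638) (iv F91706)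
theorem F115475 : act 4 n25713 = n20567 := d33_1 D25713 (iv D20567) (iv F91707)
theorem F115476 : act 6 n25713 = n20280 := d40_1 D25713 (iv D20280) D20279
theorem F115477 : act 7 n25713 = n25713 := d42_1 D25713 (iv D25713) F91708
theorem F115478 : act 9 n25713 = n25713 := d44_2 (iv F91709) D25713 (iv D25713) F91709 F72411
def n25714 : Q := act 5 n20281
theorem D25714 : act 5 n20281 = n25714 := rfl
theorem F115479 : act 0 n25714 = n20282 := d4_1 D25714 (iv D20282) (iv F91715)
theorem F115480 : act 2 n25714 = n21639 := d19_1 D25714 (iv D21639) (iv F91716)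
theorem F115481 : act 6 n25714 = n25714 := d35_2 D20281 D25714 (iv D25714) (iv D20281) F72390
theorem F115482 : act 8 n25714 = n25714 := d37_2 (iv F91717) D25714 (iv D25714) F91717 F72451
def n25715 : Q := act 7 n20281
theorem D25715 : act 7 n20281 = n25715 := rfl
theorem F115483 : act 0 n25715 = n20283 := d6_1 D25715 (iv D20283) (iv F91715)
theorem F115484 : act 2 n25715 = n21640 := d21_1 D25715 (iv D21640) (iv F91716)
theorem F115485 : act 8 n25715 = n20297 := d42_2 (iv F91717) D25715 (iv D20297)
def n25716 : Q := act 4 n20282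
theorem D25716 : act 4 n20282 = n25716 := rfl
theorem F115486 : act 1 n25716 = n20284 := d11_1 D25716 (iv D20284) (iv F91718)
theorem F115487 : act 2 n25716 = n21641 := d18_1 D25716 (iv D21641) (iv F91719)
theorem F115488 : act 6 n25716 = n25716 := d31_2 F91720 D25716 (iv D25716)
theorem F115489 : act 8 n25716 = n25716 := d33_2 F91721 D25716 (iv D25716)
def n25717 : Q := act 7 n20282
theorem D25717 : act 7 n20282 = n25717 := rfl
theorem F115490 : act 1 n25717 = n20285 := d14_1 D25717 (iv D20285) (iv F91718)
theorem F115491 : act 2 n25717 = n21642 := d21_1 D25717 (iv D21642) (iv F91719)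
theorem F115492 : act 5 n25717 = n20283 := d36_1 D25717 (iv D20283) D20282
theorem F115493 : act 8 n25717 = n25717 := d42_2 F91721 D25717 (iv D25717)
def n25718 : Q := act 3 n20284
theorem D25718 : act 3 n20284 = n25718 := rfl
theorem F115494 : act 2 n25718 = n20572 := d17_1 D25718 (iv D20572) F73150 (iv F72401) (iv F91725)
theorem F115495 : act 6 n25718 = n25718 := d26_2 F91726 D25718 (iv D25718)
theorem F115496 : act 8 n25718 = n25718 := d28_2 F91727 D25718 (iv D25718)
def n25719 : Q := act 7 n20284
theorem D25719 : act 7 n20284 = n25719 := rfl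
theorem F115497 : act 2 n25719 = n20286 := d21_1 D25719 (iv D20286) (iv F91725)
theorem F115498 : act 4 n25719 = n20285 := d32_1 D25719 (iv D20285) D20284
theorem F115499 : act 8 n25719 = n25719 := d42_2 F91727 D25719 (iv D25719)
def n25720 : Q := act 6 n20285
theorem D25720 : act 6 n20285 = n25720 := rfl
theorem F115500 : act 2 n25720 = n20287 := d20_1 D25720 (iv D20287) (iv F91728)
theorem F115501 : act 7 n25720 = n25720 := d39_2 D20285 D25720 (iv D25720) (iv D20285) F72396
theorem F115502 : act 8 n25720 = n25720 := d40_2 F91730 D25720 (iv D25720)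
def n25721 : Q := act 6 n20286
theorem D25721 : act 6 n20286 = n25721 := rfl
theorem F115503 : act 1 n25721 = n21645 := d13_1 D25721 (iv D21645) (iv F91731)
theorem F115504 : act 3 n25721 = n20575 := d26_1 D25721 (iv D20575) (iv F91732)
theorem F115505 : act 4 n25721 = n20287 := d31_1 D25721 (iv D20287) (iv F91733)
theorem F115506 : act 7 n25721 = n25721 := d39_2 D20286 D25721 (iv D25721) (iv D20286) F72402
theorem F115507 : act 8 n25721 = n25721 := d40_2 F91734 D25721 (iv D25721)
def n25722 : Q := act 7 n20288
theorem D25722 : act 7 n20288 = n25722 := rfl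
theorem F115508 : act 0 n25722 = n20290 := d6_1 D25722 (iv D20290) (iv F91739)
theorem F115509 : act 2 n25722 = n21646 := d21_1 D25722 (iv D21646) (iv F91740)
theorem F115510 : act 6 n25722 = n20297 := d39_1 D25722 (iv D20297) (iv D15873) (iv F72414) D20288
def n25723 : Q := act 7 n20289
theorem D25723 : act 7 n20289 = n25723 := rfl
theorem F115512 : act 1 n25723 = n20292 := d14_1 D25723 (iv D20292) (iv F91742)
theorem F115513 : act 2 n25723 = n20818 := d21_1 D25723 F93613 (iv F91743)
theorem F115515 : act 5 n25723 = n20290 := d36_1 D25723 (iv D20290) D20289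
theorem F115517 : act 8 n25723 = n20816 := d42_2 F91747 D25723 (iv D20816)
def n25724 : Q := act 7 n20291
theorem D25724 : act 7 n20291 = n25724 := rfl
theorem F115520 : act 2 n25724 = n20294 := d21_1 D25724 (iv D20294) (iv F91753)
theorem F115521 : act 4 n25724 = n20292 := d32_1 D25724 (iv D20292) D20291
theorem F115523 : act 8 n25724 = n20814 := d42_2 F91756 D25724 (iv D20814)
def n25725 : Q := act 8 n20292
theorem D25725 : act 8 n20292 = n25725 := rfl
theorem F115526 : act 2 n25725 = n20295 := d22_1 D25725 (iv D20295) (iv F91757)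
theorem F115529 : act 7 n25725 = n20293 := d42_1 D25725 (iv D20293) D20292
theorem F115530 : act 9 n20822 = n25725 := d43_0 F115529 (iv F91765) D20822
def n25726 : Q := act 2 n20298
theorem D25726 : act 2 n20298 = n25726 := rfl
theorem F115531 : act 0 n25726 = n20332 := d1_1 D25726 (iv D20332) (iv F91788)
theorem F115534 : act 9 n25726 = n20301 := d23_2 (iv F91790) D25726 (iv D20301)
def n25727 : Q := act 6 n20298
theorem D25727 : act 6 n20298 = n25727 := rfl
theorem F115535 : act 0 n25727 = n20333 := d5_1 D25727 (iv D20333) (iv F91788)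
theorem F115536 : act 3 n25727 = n20299 := d26_1 D25727 (iv D20299) D20298
theorem F115537 : act 8 n25727 = n20595 := d40_2 (iv F91789) D25727 (iv D20595)
theorem F115538 : act 9 n25727 = n20302 := d41_2 (iv F91790) D25727 (iv D20302)
def n25728 : Q := act 5 n20299
theorem D25728 : act 5 n20299 = n25728 := rfl
theorem F115539 : act 0 n25728 = n20334 := d4_1 D25728 (iv D20334) (iv F91791)
theorem F115540 : act 2 n25728 = n21649 := d19_1 D25728 (iv D21649) (iv F91792)
theorem F115541 : act 9 n25728 = n20303 := d38_2 (iv F91795) D25728 (iv D20303)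
def n25729 : Q := act 7 n20299
theorem D25729 : act 7 n20299 = n25729 := rfl
theorem F115542 : act 0 n25729 = n20335 := d6_1 D25729 (iv D20335) (iv F91791)
theorem F115543 : act 2 n25729 = n21650 := d21_1 D25729 (iv D21650) (iv F91792)
theorem F115544 : act 4 n25729 = n20300 := d32_1 D25729 (iv D20300) (iv F91793)
theorem F115545 : act 8 n25729 = n20597 := d42_2 (iv F91794) D25729 (iv D20597)
theorem F115546 : act 9 n25729 = n20304 := d43_2 (iv F91795) D25729 (iv D20304)
def n25731 : Q := act 6 n20301
theorem D25731 : act 6 n20301 = n25731 := rfl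
theorem F115549 : act 0 n25731 = n20337 := d5_1 D25731 (iv D20337) (iv F91800)
theorem F115550 : act 2 n25731 = n20302 := d20_1 D25731 (iv D20302) D20301
theorem F115552 : act 8 n25731 = n20310 := d40_2 (iv F91802) D25731 (iv D20310)
def n25732 : Q := act 5 n20302
theorem D25732 : act 5 n20302 = n25732 := rfl
theorem F115553 : act 0 n25732 = n20338 := d4_1 D25732 (iv D20338) (iv F91803)
theorem F115554 : act 3 n25732 = n20303 := d25_1 D25732 (iv D20303) (iv F91804)
def n25733 : Q := act 7 n20302
theorem D25733 : act 7 n20302 = n25733 := rfl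
theorem F115555 : act 0 n25733 = n20339 := d6_1 D25733 (iv D20339) (iv F91803)
theorem F115556 : act 3 n25733 = n20304 := d27_1 D25733 (iv D20304) (iv F91804)
theorem F115557 : act 8 n25733 = n20312 := d42_2 (iv F91805) D25733 (iv D20312)
def n25734 : Q := act 7 n20303
theorem D25734 : act 7 n20303 = n25734 := rfl
theorem F115558 : act 0 n25734 = n20340 := d6_1 D25734 (iv D20340) (iv F91806)
theorem F115559 : act 2 n25734 = n21655 := d21_1 D25734 (iv D21655) (iv F91807)
theorem F115560 : act 5 n25734 = n20304 := d36_1 D25734 (iv D20304) D20303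
def n25735 : Q := act 8 n20303
theorem D25735 : act 8 n20303 = n25735 := rfl
theorem F115561 : act 0 n25735 = n20341 := d7_1 D25735 (iv D20341) (iv F91806)
theorem F115563 : act 5 n25735 = n20314 := d37_1 D25735 (iv D20314) (iv D15889) (iv F72494) D20303
def n25737 : Q := act 6 n20305
theorem D25737 : act 6 n20305 = n25737 := rfl
theorem F115569 : act 2 n25737 = n20306 := d20_1 D25737 (iv D20306) D20305
def n25738 : Q := act 5 n20306
theorem D25738 : act 5 n20306 = n25738 := rfl
theorem F115574 : act 6 n25738 = n20840 := d35_2 D20306 D25738 (iv D20840) (iv D16285) (iv F72499)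
def n25739 : Q := act 7 n20306
theorem D25739 : act 7 n20306 = n25739 := rfl
theorem F115576 : act 0 n25739 = n20345 := d6_1 D25739 (iv D20345) (iv F91817)
theorem F115577 : act 3 n25739 = n20308 := d27_1 D25739 (iv D20308) (iv F91818)
theorem F115578 : act 6 n25739 = n20312 := d39_1 D25739 (iv D20312) (iv D15888) (iv F72500) D20306
theorem F115579 : act 9 n25739 = n20607 := d43_2 (iv F91819) D25739 (iv D20607)
def n25740 : Q := act 7 n20307
theorem D25740 : act 7 n20307 = n25740 := rfl
theorem F115583 : act 5 n25740 = n20308 := d36_1 D25740 (iv D20308) D20307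
theorem F115584 : act 9 n25740 = n20608 := d43_2 (iv F91824) D25740 (iv D20608)
def n25745 : Q := act 7 n20310
theorem D25745 : act 7 n20310 = n25745 := rfl
theorem F115601 : act 0 n25745 = n20351 := d6_1 D25745 (iv D20351) (iv F91833)
theorem F115602 : act 2 n25745 = n20312 := d21_1 D25745 (iv D20312) (iv F91834)
def n25747 : Q := act 7 n20311
theorem D25747 : act 7 n20311 = n25747 := rfl
theorem F115609 : act 0 n25747 = n20353 := d6_1 D25747 (iv D20353) (iv F91837)
theorem F115611 : act 5 n25747 = n20312 := d36_1 D25747 (iv D20312) D20311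
def n25748 : Q := act 8 n20311
theorem D25748 : act 8 n20311 = n25748 := rfl
theorem F115613 : act 0 n25748 = n20354 := d7_1 D25748 (iv D20354) (iv F91837)
theorem F115614 : act 3 n25748 = n20314 := d28_1 D25748 (iv D20314) (iv F91838)
def n25750 : Q := act 8 n20313
theorem D25750 : act 8 n20313 = n25750 := rfl
theorem F115621 : act 0 n25750 = n20356 := d7_1 D25750 (iv D20356) (iv F91844)
theorem F115624 : act 7 n25750 = n20314 := d42_1 D25750 (iv D20314) D20313
def n25751 : Q := act 9 n20314
theorem D25751 : act 9 n20314 = n25751 := rfl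
theorem F115625 : act 0 n25751 = n20357 := d8_1 D25751 (iv D20357) (iv F91849)
theorem F115628 : act 6 n25751 = n20853 := d41_1 D25751 (iv D20853) (iv F91852)
def n25752 : Q := act 5 n20315
theorem D25752 : act 5 n20315 = n25752 := rfl
theorem F115632 : act 2 n25752 = n22254 := d19_1 D25752 (iv F107718) F107716
theorem F115634 : act 6 n25752 = n20854 := d35_2 D20315 D25752 (iv D20854) (iv D16294) (iv F72529)
def n25760 : Q := act 8 n20319
theorem D25760 : act 8 n20319 = n25760 := rfl
theorem F115670 : act 7 n25760 = n20320 := d42_1 D25760 (iv D20320) D20319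
def n25761 : Q := act 9 n20320
theorem D25761 : act 9 n20320 = n25761 := rfl
theorem F115674 : act 8 n25761 = n20629 := d44_1 D25761 (iv D20629) (iv D16117) (iv F72539) D20320
def n25763 : Q := act 9 n20322
theorem D25763 : act 9 n20322 = n25763 := rfl
theorem F115679 : act 0 n25763 = n20367 := d8_1 D25763 (iv D20367) (iv F91882)
theorem F115681 : act 7 n25763 = n20323 := d43_1 D25763 (iv D20323) (iv F91884)
theorem F115682 : act 8 n25763 = n20631 := d44_1 D25763 (iv D20631) (iv D16119) (iv F72547) D20322
def n25764 : Q := act 1 n20324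
theorem D25764 : act 1 n20324 = n25764 := rfl
theorem F115683 : act 2 n25764 = n20383 := d9_2 D20324 D25764 (iv D20383) (iv D15939) (iv F72551)
theorem F115685 : act 5 n25764 = n20336 := d12_2 (iv F91890) D25764 (iv D20336)
theorem F115686 : act 8 n25764 = n20866 := d15_2 (iv F91891) D25764 (iv D20866)
def n25765 : Q := act 6 n20324
theorem D25765 : act 6 n20324 = n25765 := rfl
theorem F115687 : act 2 n25765 = n20325 := d20_1 D25765 (iv D20325) D20324
theorem F115688 : act 3 n25765 = n21686 := d26_1 D25765 (iv D21686) (iv F91889)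
theorem F115689 : act 8 n25765 = n20867 := d40_2 (iv F91891) D25765 (iv D20867)
def n25766 : Q := act 5 n20325
theorem D25766 : act 5 n20325 = n25766 := rfl
theorem F115690 : act 1 n25766 = n20385 := d12_1 D25766 (iv D20385) (iv F91892)
theorem F115691 : act 3 n25766 = n20326 := d25_1 D25766 (iv D20326) (iv F91893)
theorem F115692 : act 6 n25766 = n20338 := d35_2 D20325 D25766 (iv D20338) (iv D15907) (iv F72552)
def n25767 : Q := act 7 n20325
theorem D25767 : act 7 n20325 = n25767 := rfl
theorem F115693 : act 1 n25767 = n20386 := d14_1 D25767 (iv D20386) (iv F91892)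
theorem F115694 : act 3 n25767 = n20327 := d27_1 D25767 (iv D20327) (iv F91893)
theorem F115695 : act 8 n25767 = n20869 := d42_2 (iv F91894) D25767 (iv D20869)
def n25768 : Q := act 7 n20326
theorem D25768 : act 7 n20326 = n25768 := rfl
theorem F115696 : act 1 n25768 = n20387 := d14_1 D25768 (iv D20387) (iv F91895)
theorem F115697 : act 2 n25768 = n21689 := d21_1 D25768 (iv D21689) (iv F91896)
theorem F115698 : act 5 n25768 = n20327 := d36_1 D25768 (iv D20327) D20326
def n25769 : Q := act 8 n20326
theorem D25769 : act 8 n20326 = n25769 := rfl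
theorem F115699 : act 1 n25769 = n20388 := d15_1 D25769 (iv D20388) (iv F91895)
theorem F115700 : act 2 n25769 = n21690 := d22_1 D25769 (iv D21690) (iv F91896)
theorem F115702 : act 6 n25769 = n20341 := d40_1 D25769 (iv D20341) (iv F91897)
def n25771 : Q := act 6 n20328
theorem D25771 : act 6 n20328 = n25771 := rfl
theorem F115707 : act 2 n25771 = n20329 := d20_1 D25771 (iv D20329) D20328
theorem F115709 : act 8 n25771 = n20343 := d40_2 (iv F91904) D25771 (iv D20343)
def n25772 : Q := act 5 n20329
theorem D25772 : act 5 n20329 = n25772 := rfl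
theorem F115710 : act 1 n25772 = n20395 := d12_1 D25772 (iv D20395) (iv F91905)
theorem F115711 : act 3 n25772 = n20330 := d25_1 D25772 (iv D20330) (iv F91906)
def n25773 : Q := act 7 n20329
theorem D25773 : act 7 n20329 = n25773 := rfl
theorem F115712 : act 1 n25773 = n20396 := d14_1 D25773 (iv D20396) (iv F91905)
theorem F115713 : act 3 n25773 = n20331 := d27_1 D25773 (iv D20331) (iv F91906)
theorem F115714 : act 6 n25773 = n20339 := d39_1 D25773 (iv D20339) (iv D15907) (iv F72562) D20329
theorem F115715 : act 8 n25773 = n20345 := d42_2 (iv F91907) D25773 (iv D20345)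
def n25774 : Q := act 7 n20330
theorem D25774 : act 7 n20330 = n25774 := rfl
theorem F115716 : act 1 n25774 = n20397 := d14_1 D25774 (iv D20397) (iv F91908)
theorem F115717 : act 2 n25774 = n21695 := d21_1 D25774 (iv D21695) (iv F91909)
theorem F115718 : act 5 n25774 = n20331 := d36_1 D25774 (iv D20331) D20330
def n25775 : Q := act 8 n20330
theorem D25775 : act 8 n20330 = n25775 := rfl
theorem F115719 : act 1 n25775 = n20398 := d15_1 D25775 (iv D20398) (iv F91908)
theorem F115721 : act 5 n25775 = n20347 := d37_1 D25775 (iv D20347) (iv D15912) (iv F72567) D20330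
def n25776 : Q := act 1 n20332
theorem D25776 : act 1 n20332 = n25776 := rfl
theorem F115722 : act 2 n25776 = n20399 := d9_2 D20332 D25776 (iv D20399) (iv D15950) (iv F72572)
theorem F115724 : act 8 n25776 = n20632 := d15_2 (iv F91916) D25776 (iv D20632)
theorem F115725 : act 9 n25776 = n20336 := d16_2 (iv F91917) D25776 (iv D20336)
def n25777 : Q := act 6 n20332
theorem D25777 : act 6 n20332 = n25777 := rfl
theorem F115726 : act 2 n25777 = n20333 := d20_1 D25777 (iv D20333) D20332
theorem F115727 : act 3 n25777 = n21698 := d26_1 D25777 (iv D21698) (iv F91915)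
theorem F115728 : act 8 n25777 = n20633 := d40_2 (iv F91916) D25777 (iv D20633)
theorem F115729 : act 9 n25777 = n20337 := d41_2 (iv F91917) D25777 (iv D20337)
def n25778 : Q := act 5 n20333
theorem D25778 : act 5 n20333 = n25778 := rfl
theorem F115730 : act 1 n25778 = n20401 := d12_1 D25778 (iv D20401) (iv F91918)
theorem F115731 : act 3 n25778 = n20334 := d25_1 D25778 (iv D20334) (iv F91919)
theorem F115732 : act 9 n25778 = n20338 := d38_2 (iv F91921) D25778 (iv D20338)
def n25779 : Q := act 7 n20333
theorem D25779 : act 7 n20333 = n25779 := rfl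
theorem F115733 : act 1 n25779 = n20402 := d14_1 D25779 (iv D20402) (iv F91918)
theorem F115734 : act 3 n25779 = n20335 := d27_1 D25779 (iv D20335) (iv F91919)
theorem F115735 : act 8 n25779 = n20635 := d42_2 (iv F91920) D25779 (iv D20635)
theorem F115736 : act 9 n25779 = n20339 := d43_2 (iv F91921) D25779 (iv D20339)
def n25780 : Q := act 7 n20334
theorem D25780 : act 7 n20334 = n25780 := rfl
theorem F115737 : act 1 n25780 = n20403 := d14_1 D25780 (iv D20403) (iv F91922)
theorem F115738 : act 2 n25780 = n21701 := d21_1 D25780 (iv D21701) (iv F91923)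
theorem F115739 : act 5 n25780 = n20335 := d36_1 D25780 (iv D20335) D20334
theorem F115740 : act 9 n25780 = n20340 := d43_2 (iv F91924) D25780 (iv D20340)
def n25781 : Q := act 8 n20334
theorem D25781 : act 8 n20334 = n25781 := rfl
theorem F115741 : act 1 n25781 = n20404 := d15_1 D25781 (iv D20404) (iv F91922)
theorem F115742 : act 2 n25781 = n21702 := d22_1 D25781 (iv D21702) (iv F91923)
theorem F115743 : act 5 n25781 = n20637 := d37_1 D25781 (iv D20637) (iv D16123) (iv F72578) D20334
def n25783 : Q := act 6 n20336
theorem D25783 : act 6 n20336 = n25783 := rfl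
theorem F115747 : act 1 n25783 = n20337 := d13_1 D25783 (iv D20337) D20336
theorem F115748 : act 2 n25783 = n20406 := d20_1 D25783 (iv D20406) (iv F91930)
theorem F115750 : act 8 n25783 = n20349 := d40_2 (iv F91932) D25783 (iv D20349)
def n25784 : Q := act 5 n20337
theorem D25784 : act 5 n20337 = n25784 := rfl
theorem F115751 : act 2 n25784 = n20338 := d19_1 D25784 (iv D20338) (iv F91933)
theorem F115752 : act 3 n25784 = n21705 := d25_1 D25784 (iv D21705) (iv F91934)
def n25785 : Q := act 7 n20337
theorem D25785 : act 7 n20337 = n25785 := rfl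
theorem F115753 : act 2 n25785 = n20339 := d21_1 D25785 (iv D20339) (iv F91933)
theorem F115754 : act 3 n25785 = n21706 := d27_1 D25785 (iv D21706) (iv F91934)
theorem F115755 : act 8 n25785 = n20351 := d42_2 (iv F91935) D25785 (iv D20351)
def n25786 : Q := act 4 n20338
theorem D25786 : act 4 n20338 = n25786 := rfl
theorem F115756 : act 1 n25786 = n20409 := d11_1 D25786 (iv D20409) (iv F91936)
def n25787 : Q := act 7 n20338
theorem D25787 : act 7 n20338 = n25787 := rfl
theorem F115757 : act 1 n25787 = n20410 := d14_1 D25787 (iv D20410) (iv F91936)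
theorem F115758 : act 3 n25787 = n20340 := d27_1 D25787 (iv D20340) (iv F91937)
theorem F115759 : act 5 n25787 = n20339 := d36_1 D25787 (iv D20339) D20338
def n25788 : Q := act 8 n20338
theorem D25788 : act 8 n20338 = n25788 := rfl
theorem F115760 : act 1 n25788 = n20411 := d15_1 D25788 (iv D20411) (iv F91936)
theorem F115761 : act 3 n25788 = n20341 := d28_1 D25788 (iv D20341) (iv F91937)
theorem F115762 : act 5 n25788 = n20354 := d37_1 D25788 (iv D20354) (iv D15916) (iv F72588) D20338
def n25789 : Q := act 6 n20340
theorem D25789 : act 6 n20340 = n25789 := rfl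
theorem F115763 : act 1 n25789 = n20412 := d13_1 D25789 (iv D20412) (iv F91941)
theorem F115764 : act 2 n25789 = n21710 := d20_1 D25789 (iv D21710) (iv F91942)
def n25790 : Q := act 8 n20340
theorem D25790 : act 8 n20340 = n25790 := rfl
theorem F115765 : act 1 n25790 = n20413 := d15_1 D25790 (iv D20413) (iv F91941)
theorem F115766 : act 2 n25790 = n21711 := d22_1 D25790 (iv D21711) (iv F91942)
theorem F115767 : act 5 n25790 = n20356 := d37_1 D25790 (iv D20356) F72629 (iv F72594) (iv F91943)
theorem F115768 : act 7 n25790 = n20341 := d42_1 D25790 (iv D20341) D20340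
def n25791 : Q := act 9 n20341
theorem D25791 : act 9 n20341 = n25791 := rfl
theorem F115769 : act 1 n25791 = n20414 := d16_1 D25791 (iv D20414) (iv F91944)
theorem F115771 : act 5 n25791 = n20357 := d38_1 D25791 (iv D20357) (iv F91946)
def n25792 : Q := act 0 n20342
theorem D25792 : act 0 n20342 = n25792 := rfl
theorem F115774 : act 5 n25792 = n20888 := d4_2 (iv F91949) D25792 (iv D20888)
def n25795 : Q := act 7 n20343
theorem D25795 : act 7 n20343 = n25795 := rfl
theorem F115785 : act 2 n25795 = n20345 := d21_1 D25795 (iv D20345) (iv F91952)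
theorem F115787 : act 6 n25795 = n20351 := d39_1 D25795 (iv D20351) (iv D15915) (iv F72597) D20343
theorem F115788 : act 9 n25795 = n20651 := d43_2 (iv F91954) D25795 (iv D20651)
def n25796 : Q := act 4 n20344
theorem D25796 : act 4 n20344 = n25796 := rfl
theorem F115792 : act 9 n25796 = n20652 := d34_2 (iv F91958) D25796 (iv D20652)
def n25797 : Q := act 7 n20344
theorem D25797 : act 7 n20344 = n25797 := rfl
theorem F115794 : act 3 n25797 = n20346 := d27_1 D25797 (iv D20346) (iv F91956)
theorem F115795 : act 5 n25797 = n20345 := d36_1 D25797 (iv D20345) D20344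
theorem F115796 : act 9 n25797 = n20653 := d43_2 (iv F91958) D25797 (iv D20653)
def n25798 : Q := act 8 n20344
theorem D25798 : act 8 n20344 = n25798 := rfl
theorem F115798 : act 3 n25798 = n20347 := d28_1 D25798 (iv D20347) (iv F91956)
def n25800 : Q := act 8 n20346
theorem D25800 : act 8 n20346 = n25800 := rfl
theorem F115806 : act 1 n25800 = n20423 := d15_1 D25800 (iv D20423) (iv F91963)
theorem F115808 : act 4 n25800 = n25800 := d33_1 D25800 (iv D25800) F91965
theorem F115809 : act 7 n25800 = n20347 := d42_1 D25800 (iv D20347) D20346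
def n25801 : Q := act 9 n20347
theorem D25801 : act 9 n20347 = n25801 := rfl
theorem F115810 : act 1 n25801 = n20424 := d16_1 D25801 (iv D20424) (iv F91968)
theorem F115812 : act 4 n25801 = n25801 := d34_1 D25801 (iv D25801) F91970
theorem F115813 : act 6 n25801 = n20897 := d41_1 D25801 (iv D20897) (iv F91971)
theorem F115814 : act 8 n25801 = n20657 := d44_1 D25801 (iv D20657) (iv D16136) (iv F72606) D20347
def n25803 : Q := act 5 n20349
theorem D25803 : act 5 n20349 = n25803 := rfl
theorem F115819 : act 1 n25803 = n20350 := d12_1 D25803 (iv D20350) (iv F91976)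
theorem F115820 : act 2 n25803 = n20426 := d19_1 D25803 (iv D20426) (iv F91977)
theorem F115821 : act 3 n25803 = n21724 := d25_1 D25803 (iv D21724) (iv F91978)
def n25804 : Q := act 7 n20349
theorem D25804 : act 7 n20349 = n25804 := rfl
theorem F115824 : act 1 n25804 = n20351 := d14_1 D25804 (iv D20351) (iv F91976)
theorem F115825 : act 2 n25804 = n20427 := d21_1 D25804 (iv D20427) (iv F91977)
def n25806 : Q := act 7 n20350
theorem D25806 : act 7 n20350 = n25806 := rfl
theorem F115831 : act 2 n25806 = n20353 := d21_1 D25806 (iv D20353) (iv F91980)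
theorem F115833 : act 5 n25806 = n20351 := d36_1 D25806 (iv D20351) D20350
def n25807 : Q := act 8 n20350
theorem D25807 : act 8 n20350 = n25807 := rfl
theorem F115835 : act 2 n25807 = n20354 := d22_1 D25807 (iv D20354) (iv F91980)
def n25808 : Q := act 7 n20352
theorem D25808 : act 7 n20352 = n25808 := rfl
theorem F115838 : act 1 n25808 = n20431 := d14_1 D25808 (iv D20431) (iv F91987)
theorem F115840 : act 4 n25808 = n20353 := d32_1 D25808 (iv D20353) D20352
theorem F115841 : act 9 n25808 = n20664 := d43_2 (iv F91990) D25808 (iv D20664)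
def n25809 : Q := act 8 n20352
theorem D25809 : act 8 n20352 = n25809 := rfl
theorem F115842 : act 1 n25809 = n20432 := d15_1 D25809 (iv D20432) (iv F91987)
theorem F115844 : act 4 n25809 = n20354 := d33_1 D25809 (iv D20354) D20352
theorem F115845 : act 6 n25809 = n20905 := d40_1 D25809 (iv D20905) (iv F91989)
def n25810 : Q := act 6 n20353
theorem D25810 : act 6 n20353 = n25810 := rfl
theorem F115849 : act 9 n25810 = n20666 := d41_2 (iv F91994) D25810 (iv D20666)
def n25811 : Q := act 8 n20353
theorem D25811 : act 8 n20353 = n25811 := rfl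
theorem F115850 : act 1 n25811 = n20434 := d15_1 D25811 (iv D20434) (iv F91991)
theorem F115851 : act 3 n25811 = n20356 := d28_1 D25811 (iv D20356) (iv F91992)
theorem F115852 : act 7 n25811 = n20354 := d42_1 D25811 (iv D20354) D20353
def n25812 : Q := act 9 n20354
theorem D25812 : act 9 n20354 = n25812 := rfl
theorem F115853 : act 1 n25812 = n20435 := d16_1 D25812 (iv D20435) (iv F91995)
theorem F115854 : act 3 n25812 = n20357 := d29_1 D25812 (iv D20357) (iv F91996)
def n25813 : Q := act 8 n20355
theorem D25813 : act 8 n20355 = n25813 := rfl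
theorem F115857 : act 1 n25813 = n20436 := d15_1 D25813 (iv D20436) (iv F91998)
theorem F115859 : act 4 n25813 = n20366 := d33_1 D25813 (iv D20366) (iv F92000)
theorem F115860 : act 6 n25813 = n20356 := d40_1 D25813 (iv D20356) D20355
def n25814 : Q := act 9 n20356
theorem D25814 : act 9 n20356 = n25814 := rfl
theorem F115862 : act 1 n25814 = n20437 := d16_1 D25814 (iv D20437) (iv F92003)
theorem F115866 : act 8 n25814 = n20670 := d44_1 D25814 (iv D20670) (iv D16145) (iv F72630) D20356
def n25821 : Q := act 6 n20361
theorem D25821 : act 6 n20361 = n25821 := rfl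
theorem F115897 : act 7 n25821 = n20917 := d39_2 D20361 D25821 (iv D20917) (iv D16336) (iv F72646)
theorem F115898 : act 9 n25821 = n20677 := d41_2 (iv F92027) D25821 (iv D20677)
def n25822 : Q := act 8 n20361
theorem D25822 : act 8 n20361 = n25822 := rfl
theorem F115899 : act 1 n25822 = n20439 := d15_1 D25822 (iv D20439) (iv F92025)
def n25823 : Q := act 5 n20362
theorem D25823 : act 5 n20362 = n25823 := rfl
theorem F115902 : act 1 n25823 = n20440 := d12_1 D25823 (iv D20440) (iv F92028)
def n25825 : Q := act 8 n20363
theorem D25825 : act 8 n20363 = n25825 := rfl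
theorem F115908 : act 3 n25825 = n20366 := d28_1 D25825 (iv D20366) (iv F92032)
theorem F115909 : act 6 n25825 = n20364 := d40_1 D25825 (iv D20364) D20363
theorem F115910 : act 7 n25825 = n20921 := d42_1 D25825 (iv D20921) (iv F92034)
def n25827 : Q := act 5 n20366
theorem D25827 : act 5 n20366 = n25827 := rfl
theorem F115915 : act 1 n25827 = n20444 := d12_1 D25827 (iv D20444) (iv F92043)
theorem F115917 : act 7 n25827 = n20923 := d36_2 (iv F92046) D25827 (iv D20923)
def n25828 : Q := act 9 n20366
theorem D25828 : act 9 n20366 = n25828 := rfl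
theorem F115919 : act 1 n25828 = n20445 := d16_1 D25828 (iv D20445) (iv F92043)
theorem F115921 : act 6 n25828 = n20367 := d41_1 D25828 (iv D20367) (iv F92045)
theorem F115922 : act 7 n25828 = n20924 := d43_1 D25828 (iv D20924) (iv F92046)
def n25829 : Q := act 2 n20368
theorem D25829 : act 2 n20368 = n25829 := rfl
theorem F115924 : act 3 n25829 = n25829 := d17_2 D20368 D25829 (iv D25829) (iv D20368) F72667
theorem F115925 : act 4 n25829 = n20379 := d18_2 (iv F92051) D25829 (iv D20379)
theorem F115926 : act 8 n25829 = n25829 := d22_2 F92052 D25829 (iv D25829)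
theorem F115927 : act 9 n25829 = n20371 := d23_2 (iv F92053) D25829 (iv D20371)
def n25830 : Q := act 6 n20368
theorem D25830 : act 6 n20368 = n25830 := rfl
theorem F115928 : act 3 n25830 = n20369 := d26_1 D25830 (iv D20369) D20368
theorem F115929 : act 4 n25830 = n20380 := d31_1 D25830 (iv D20380) (iv F92051)
theorem F115930 : act 8 n25830 = n25830 := d40_2 F92052 D25830 (iv D25830)
theorem F115931 : act 9 n25830 = n20372 := d41_2 (iv F92053) D25830 (iv D20372)
def n25831 : Q := act 5 n20369
theorem D25831 : act 5 n20369 = n25831 := rfl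
theorem F115932 : act 2 n25831 = n25831 := d19_1 D25831 (iv D25831) F92054
theorem F115933 : act 9 n25831 = n20373 := d38_2 (iv F92057) D25831 (iv D20373)
def n25832 : Q := act 7 n20369
theorem D25832 : act 7 n20369 = n25832 := rfl
theorem F115934 : act 2 n25832 = n25832 := d21_1 D25832 (iv D25832) F92054
theorem F115935 : act 4 n25832 = n20370 := d32_1 D25832 (iv D20370) (iv F92055)
theorem F115936 : act 8 n25832 = n25832 := d42_2 F92056 D25832 (iv D25832)
theorem F115937 : act 9 n25832 = n20374 := d43_2 (iv F92057) D25832 (iv D20374)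
def n25833 : Q := act 1 n20371
theorem D25833 : act 1 n20371 = n25833 := rfl
theorem F115938 : act 3 n25833 = n25833 := d10_2 F92062 D25833 (iv D25833)
theorem F115939 : act 4 n25833 = n20383 := d11_2 (iv F92063) D25833 (iv D20383)
theorem F115940 : act 8 n25833 = n20925 := d15_2 (iv F92064) D25833 (iv D20925)
def n25834 : Q := act 6 n20371
theorem D25834 : act 6 n20371 = n25834 := rfl
theorem F115941 : act 2 n25834 = n20372 := d20_1 D25834 (iv D20372) D20371
theorem F115942 : act 3 n25834 = n25834 := d26_1 D25834 (iv D25834) F92062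
theorem F115943 : act 4 n25834 = n20384 := d31_1 D25834 (iv D20384) (iv F92063)
theorem F115944 : act 8 n25834 = n20926 := d40_2 (iv F92064) D25834 (iv D20926)
def n25835 : Q := act 5 n20372
theorem D25835 : act 5 n20372 = n25835 := rfl
theorem F115945 : act 3 n25835 = n20373 := d25_1 D25835 (iv D20373) (iv F92065)
def n25836 : Q := act 7 n20372
theorem D25836 : act 7 n20372 = n25836 := rfl
theorem F115946 : act 3 n25836 = n20374 := d27_1 D25836 (iv D20374) (iv F92065)
theorem F115947 : act 4 n25836 = n20386 := d32_1 D25836 (iv D20386) (iv F92066)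
theorem F115948 : act 8 n25836 = n20928 := d42_2 (iv F92067) D25836 (iv D20928)
def n25837 : Q := act 7 n20373
theorem D25837 : act 7 n20373 = n25837 := rfl
theorem F115949 : act 2 n25837 = n25837 := d21_1 D25837 (iv D25837) F92068
theorem F115950 : act 5 n25837 = n20374 := d36_1 D25837 (iv D20374) D20373
def n25838 : Q := act 8 n20373
theorem D25838 : act 8 n20373 = n25838 := rfl
theorem F115951 : act 2 n25838 = n25838 := d22_1 D25838 (iv D25838) F92068
theorem F115952 : act 5 n25838 = n20930 := d37_1 D25838 (iv D20930) (iv D16345) (iv F72678) D20373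
def n25839 : Q := act 1 n20375
theorem D25839 : act 1 n20375 = n25839 := rfl
theorem F115954 : act 5 n25839 = n20393 := d12_2 (iv F92073) D25839 (iv D20393)
theorem F115955 : act 7 n25839 = n20383 := d14_2 (iv F92074) D25839 (iv D20383)
def n25840 : Q := act 6 n20375
theorem D25840 : act 6 n20375 = n25840 := rfl
theorem F115957 : act 2 n25840 = n20376 := d20_1 D25840 (iv D20376) D20375
theorem F115958 : act 3 n25840 = n20451 := d26_1 D25840 (iv D20451) (iv F92072)
def n25841 : Q := act 5 n20376
theorem D25841 : act 5 n20376 = n25841 := rfl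
theorem F115960 : act 3 n25841 = n20377 := d25_1 D25841 (iv D20377) (iv F92076)
theorem F115961 : act 6 n25841 = n20395 := d35_2 D20376 D25841 (iv D20395) (iv D15947) (iv F72682)
def n25842 : Q := act 7 n20376
theorem D25842 : act 7 n20376 = n25842 := rfl
theorem F115962 : act 3 n25842 = n20378 := d27_1 D25842 (iv D20378) (iv F92076)
theorem F115963 : act 6 n25842 = n20386 := d39_1 D25842 (iv D20386) (iv D15940) (iv F72683) D20376
theorem F115964 : act 8 n25842 = n20934 := d42_2 (iv F92077) D25842 (iv D20934)
def n25843 : Q := act 7 n20377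
theorem D25843 : act 7 n20377 = n25843 := rfl
theorem F115965 : act 2 n25843 = n20454 := d21_1 D25843 (iv D20454) (iv F92078)
theorem F115966 : act 5 n25843 = n20378 := d36_1 D25843 (iv D20378) D20377
def n25844 : Q := act 8 n20377
theorem D25844 : act 8 n20377 = n25844 := rfl
theorem F115967 : act 2 n25844 = n20455 := d22_1 D25844 (iv D20455) (iv F92078)
theorem F115968 : act 5 n25844 = n20936 := d37_1 D25844 (iv D20936) (iv D16349) (iv F72687) D20377
theorem F115969 : act 6 n25844 = n20398 := d40_1 D25844 (iv D20398) (iv F92079)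
def n25845 : Q := act 1 n20379
theorem D25845 : act 1 n20379 = n25845 := rfl
theorem F115970 : act 3 n25845 = n20456 := d10_2 (iv F92084) D25845 (iv D20456)
theorem F115971 : act 5 n25845 = n20399 := d12_2 (iv F92085) D25845 (iv D20399)
theorem F115972 : act 8 n25845 = n25845 := d15_2 F92086 D25845 (iv D25845)
theorem F115973 : act 9 n25845 = n20383 := d16_2 (iv F92087) D25845 (iv D20383)
def n25846 : Q := act 6 n20379
theorem D25846 : act 6 n20379 = n25846 := rfl
theorem F115974 : act 2 n25846 = n20380 := d20_1 D25846 (iv D20380) D20379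
theorem F115975 : act 3 n25846 = n20457 := d26_1 D25846 (iv D20457) (iv F92084)
theorem F115976 : act 8 n25846 = n25846 := d40_2 F92086 D25846 (iv D25846)
theorem F115977 : act 9 n25846 = n20384 := d41_2 (iv F92087) D25846 (iv D20384)
def n25847 : Q := act 5 n20380
theorem D25847 : act 5 n20380 = n25847 := rfl
theorem F115978 : act 3 n25847 = n20381 := d25_1 D25847 (iv D20381) (iv F92088)
theorem F115979 : act 6 n25847 = n20401 := d35_2 D20380 D25847 (iv D20401) (iv D15951) (iv F72691)
theorem F115980 : act 9 n25847 = n20385 := d38_2 (iv F92090) D25847 (iv D20385)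
def n25848 : Q := act 7 n20380
theorem D25848 : act 7 n20380 = n25848 := rfl
theorem F115981 : act 3 n25848 = n20382 := d27_1 D25848 (iv D20382) (iv F92088)
theorem F115982 : act 8 n25848 = n25848 := d42_2 F92089 D25848 (iv D25848)
theorem F115983 : act 9 n25848 = n20386 := d43_2 (iv F92090) D25848 (iv D20386)
def n25849 : Q := act 7 n20381
theorem D25849 : act 7 n20381 = n25849 := rfl
theorem F115984 : act 2 n25849 = n20460 := d21_1 D25849 (iv D20460) (iv F92091)
theorem F115985 : act 5 n25849 = n20382 := d36_1 D25849 (iv D20382) D20381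
theorem F115986 : act 9 n25849 = n20387 := d43_2 (iv F92093) D25849 (iv D20387)
def n25850 : Q := act 8 n20381
theorem D25850 : act 8 n20381 = n25850 := rfl
theorem F115987 : act 2 n25850 = n20461 := d22_1 D25850 (iv D20461) (iv F92091)
theorem F115988 : act 5 n25850 = n25850 := d37_1 D25850 (iv D25850) (iv D20381) F72696 D20381
theorem F115989 : act 6 n25850 = n20404 := d40_1 D25850 (iv D20404) (iv F92092)
def n25851 : Q := act 0 n20383
theorem D25851 : act 0 n20383 = n25851 := rfl
theorem F115991 : act 5 n25851 = n20405 := d4_2 (iv F92099) D25851 (iv D20405)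
def n25852 : Q := act 6 n20383
theorem D25852 : act 6 n20383 = n25852 := rfl
theorem F115993 : act 1 n25852 = n20384 := d13_1 D25852 (iv D20384) D20383
theorem F115994 : act 3 n25852 = n20463 := d26_1 D25852 (iv D20463) (iv F92098)
theorem F115995 : act 8 n25852 = n20938 := d40_2 (iv F92100) D25852 (iv D20938)
def n25853 : Q := act 5 n20384
theorem D25853 : act 5 n20384 = n25853 := rfl
theorem F115996 : act 2 n25853 = n20385 := d19_1 D25853 (iv D20385) (iv F92101)
theorem F115997 : act 3 n25853 = n20464 := d25_1 D25853 (iv D20464) (iv F92102)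
theorem F115998 : act 6 n25853 = n20407 := d35_2 D20384 D25853 (iv D20407) (iv D15955) (iv F72702)
def n25854 : Q := act 7 n20384
theorem D25854 : act 7 n20384 = n25854 := rfl
theorem F115999 : act 2 n25854 = n20386 := d21_1 D25854 (iv D20386) (iv F92101)
theorem F116000 : act 3 n25854 = n20465 := d27_1 D25854 (iv D20465) (iv F92102)
theorem F116001 : act 8 n25854 = n20940 := d42_2 (iv F92103) D25854 (iv D20940)
def n25855 : Q := act 4 n20385
theorem D25855 : act 4 n20385 = n25855 := rfl
theorem F116002 : act 6 n25855 = n20409 := d31_2 (iv F92105) D25855 (iv D20409)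
def n25856 : Q := act 7 n20385
theorem D25856 : act 7 n20385 = n25856 := rfl
theorem F116003 : act 3 n25856 = n20387 := d27_1 D25856 (iv D20387) (iv F92104)
theorem F116004 : act 5 n25856 = n20386 := d36_1 D25856 (iv D20386) D20385
def n25857 : Q := act 8 n20385
theorem D25857 : act 8 n20385 = n25857 := rfl
theorem F116005 : act 3 n25857 = n20388 := d28_1 D25857 (iv D20388) (iv F92104)
theorem F116006 : act 5 n25857 = n20943 := d37_1 D25857 (iv D20943) (iv D16353) (iv F72705) D20385
theorem F116007 : act 6 n25857 = n20411 := d40_1 D25857 (iv D20411) (iv F92105)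
def n25858 : Q := act 6 n20387
theorem D25858 : act 6 n20387 = n25858 := rfl
theorem F116008 : act 2 n25858 = n20469 := d20_1 D25858 (iv D20469) (iv F92108)
theorem F116009 : act 7 n25858 = n20412 := d39_2 D20387 D25858 (iv D20412) (iv D15958) (iv F72707)
def n25859 : Q := act 8 n20387
theorem D25859 : act 8 n20387 = n25859 := rfl
theorem F116010 : act 2 n25859 = n20470 := d22_1 D25859 (iv D20470) (iv F92108)
theorem F116011 : act 5 n25859 = n20945 := d37_1 D25859 (iv D20945) F74169 (iv F72710) (iv F92109)
theorem F116012 : act 7 n25859 = n20388 := d42_1 D25859 (iv D20388) D20387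
def n25860 : Q := act 9 n20388
theorem D25860 : act 9 n20388 = n25860 := rfl
theorem F116013 : act 2 n25860 = n20471 := d23_1 D25860 (iv D20471) (iv F92110)
theorem F116014 : act 5 n25860 = n20946 := d38_1 D25860 (iv D20946) (iv F92111)
theorem F116015 : act 6 n25860 = n20414 := d41_1 D25860 (iv D20414) (iv F92112)
def n25861 : Q := act 1 n20389
theorem D25861 : act 1 n20389 = n25861 := rfl
theorem F116016 : act 3 n25861 = n20472 := d10_2 (iv F92113) D25861 (iv D20472)
theorem F116017 : act 8 n25861 = n25861 := d15_2 F92114 D25861 (iv D25861)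
def n25862 : Q := act 6 n20389
theorem D25862 : act 6 n20389 = n25862 := rfl
theorem F116018 : act 2 n25862 = n20390 := d20_1 D25862 (iv D20390) D20389
theorem F116019 : act 3 n25862 = n20473 := d26_1 D25862 (iv D20473) (iv F92113)
theorem F116020 : act 8 n25862 = n25862 := d40_2 F92114 D25862 (iv D25862)
def n25863 : Q := act 5 n20390
theorem D25863 : act 5 n20390 = n25863 := rfl
theorem F116021 : act 3 n25863 = n20391 := d25_1 D25863 (iv D20391) (iv F92115)
def n25864 : Q := act 7 n20390
theorem D25864 : act 7 n20390 = n25864 := rfl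
theorem F116022 : act 3 n25864 = n20392 := d27_1 D25864 (iv D20392) (iv F92115)
theorem F116023 : act 8 n25864 = n25864 := d42_2 F92116 D25864 (iv D25864)
def n25865 : Q := act 7 n20391
theorem D25865 : act 7 n20391 = n25865 := rfl
theorem F116024 : act 2 n25865 = n20476 := d21_1 D25865 (iv D20476) (iv F92117)
theorem F116025 : act 4 n25865 = n20397 := d32_1 D25865 (iv D20397) (iv F92118)
theorem F116026 : act 5 n25865 = n20392 := d36_1 D25865 (iv D20392) D20391
def n25866 : Q := act 8 n20391
theorem D25866 : act 8 n20391 = n25866 := rfl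
theorem F116027 : act 2 n25866 = n20477 := d22_1 D25866 (iv D20477) (iv F92117)
theorem F116028 : act 4 n25866 = n20398 := d33_1 D25866 (iv D20398) (iv F92118)
theorem F116029 : act 5 n25866 = n25866 := d37_1 D25866 (iv D25866) (iv D20391) F72714 D20391
def n25869 : Q := act 5 n20394
theorem D25869 : act 5 n20394 = n25869 := rfl
theorem F116036 : act 2 n25869 = n20395 := d19_1 D25869 (iv D20395) (iv F92125)
def n25870 : Q := act 7 n20394
theorem D25870 : act 7 n20394 = n25870 := rfl
theorem F116038 : act 2 n25870 = n20396 := d21_1 D25870 (iv D20396) (iv F92125)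
theorem F116040 : act 6 n25870 = n20408 := d39_1 D25870 (iv D20408) (iv D15955) (iv F72719) D20394
theorem F116041 : act 8 n25870 = n20418 := d42_2 (iv F92127) D25870 (iv D20418)
def n25871 : Q := act 4 n20395
theorem D25871 : act 4 n20395 = n25871 := rfl
def n25872 : Q := act 7 n20395
theorem D25872 : act 7 n20395 = n25872 := rfl
theorem F116042 : act 3 n25872 = n20397 := d27_1 D25872 (iv D20397) (iv F92128)
theorem F116043 : act 5 n25872 = n20396 := d36_1 D25872 (iv D20396) D20395
def n25873 : Q := act 8 n20395
theorem D25873 : act 8 n20395 = n25873 := rfl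
theorem F116045 : act 5 n25873 = n20421 := d37_1 D25873 (iv D20421) (iv D15962) (iv F72722) D20395
def n25874 : Q := act 6 n20397
theorem D25874 : act 6 n20397 = n25874 := rfl
theorem F116046 : act 2 n25874 = n20485 := d20_1 D25874 (iv D20485) (iv F92132)
theorem F116047 : act 5 n25874 = n20412 := d35_1 D25874 (iv D20412) F72749 (iv F72726) (iv F92133)
def n25875 : Q := act 8 n20397
theorem D25875 : act 8 n20397 = n25875 := rfl
theorem F116048 : act 2 n25875 = n20486 := d22_1 D25875 (iv D20486) (iv F92132)
theorem F116049 : act 5 n25875 = n20423 := d37_1 D25875 (iv D20423) F72767 (iv F72727) (iv F92133)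
theorem F116050 : act 7 n25875 = n20398 := d42_1 D25875 (iv D20398) D20397
def n25876 : Q := act 9 n20398
theorem D25876 : act 9 n20398 = n25876 := rfl
theorem F116051 : act 2 n25876 = n20487 := d23_1 D25876 (iv D20487) (iv F92134)
theorem F116052 : act 5 n25876 = n20424 := d38_1 D25876 (iv D20424) (iv F92135)
def n25877 : Q := act 0 n20399
theorem D25877 : act 0 n20399 = n25877 := rfl
theorem F116054 : act 8 n25877 = n20685 := d7_2 (iv F92137) D25877 (iv D20685)
def n25878 : Q := act 6 n20399
theorem D25878 : act 6 n20399 = n25878 := rfl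
theorem F116056 : act 1 n25878 = n20400 := d13_1 D25878 (iv D20400) D20399
theorem F116057 : act 3 n25878 = n20489 := d26_1 D25878 (iv D20489) (iv F92136)
theorem F116058 : act 8 n25878 = n20686 := d40_2 (iv F92137) D25878 (iv D20686)
theorem F116059 : act 9 n25878 = n20406 := d41_2 (iv F92138) D25878 (iv D20406)
def n25879 : Q := act 5 n20400
theorem D25879 : act 5 n20400 = n25879 := rfl
theorem F116060 : act 2 n25879 = n20401 := d19_1 D25879 (iv D20401) (iv F92139)
theorem F116061 : act 3 n25879 = n20490 := d25_1 D25879 (iv D20490) (iv F92140)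
theorem F116062 : act 9 n25879 = n20407 := d38_2 (iv F92142) D25879 (iv D20407)
def n25880 : Q := act 7 n20400
theorem D25880 : act 7 n20400 = n25880 := rfl
theorem F116063 : act 2 n25880 = n20402 := d21_1 D25880 (iv D20402) (iv F92139)
theorem F116064 : act 3 n25880 = n20491 := d27_1 D25880 (iv D20491) (iv F92140)
theorem F116065 : act 8 n25880 = n20688 := d42_2 (iv F92141) D25880 (iv D20688)
theorem F116066 : act 9 n25880 = n20408 := d43_2 (iv F92142) D25880 (iv D20408)
def n25881 : Q := act 4 n20401
theorem D25881 : act 4 n20401 = n25881 := rfl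
theorem F116067 : act 9 n25881 = n20409 := d34_2 (iv F92144) D25881 (iv D20409)
def n25882 : Q := act 7 n20401
theorem D25882 : act 7 n20401 = n25882 := rfl
theorem F116068 : act 3 n25882 = n20403 := d27_1 D25882 (iv D20403) (iv F92143)
theorem F116069 : act 5 n25882 = n20402 := d36_1 D25882 (iv D20402) D20401
theorem F116070 : act 9 n25882 = n20410 := d43_2 (iv F92144) D25882 (iv D20410)
def n25883 : Q := act 8 n20401
theorem D25883 : act 8 n20401 = n25883 := rfl
theorem F116071 : act 3 n25883 = n20404 := d28_1 D25883 (iv D20404) (iv F92143)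
theorem F116072 : act 5 n25883 = n20691 := d37_1 D25883 (iv D20691) (iv D16159) (iv F72732) D20401
def n25884 : Q := act 6 n20403
theorem D25884 : act 6 n20403 = n25884 := rfl
theorem F116073 : act 2 n25884 = n20495 := d20_1 D25884 (iv D20495) (iv F92148)
theorem F116074 : act 9 n25884 = n20412 := d41_2 (iv F92150) D25884 (iv D20412)
def n25885 : Q := act 8 n20403
theorem D25885 : act 8 n20403 = n25885 := rfl
theorem F116075 : act 2 n25885 = n20496 := d22_1 D25885 (iv D20496) (iv F92148)
theorem F116076 : act 5 n25885 = n20693 := d37_1 D25885 (iv D20693) F73462 (iv F72738) (iv F92149)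
theorem F116077 : act 7 n25885 = n20404 := d42_1 D25885 (iv D20404) D20403
def n25886 : Q := act 9 n20404
theorem D25886 : act 9 n20404 = n25886 := rfl
theorem F116078 : act 2 n25886 = n20497 := d23_1 D25886 (iv D20497) (iv F92151)
theorem F116079 : act 5 n25886 = n20694 := d38_1 D25886 (iv D20694) (iv F92152)
theorem F116080 : act 8 n25886 = n20414 := d44_1 D25886 (iv D20414) (iv D15959) (iv F72735) D20404
def n25887 : Q := act 6 n20405
theorem D25887 : act 6 n20405 = n25887 := rfl
theorem F116081 : act 0 n25887 = n20406 := d5_1 D25887 (iv D20406) D20405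
theorem F116083 : act 8 n25887 = n20425 := d40_2 (iv F92154) D25887 (iv D20425)
def n25888 : Q := act 5 n20406
theorem D25888 : act 5 n20406 = n25888 := rfl
theorem F116084 : act 1 n25888 = n20407 := d12_1 D25888 (iv D20407) (iv F92155)
theorem F116085 : act 3 n25888 = n20499 := d25_1 D25888 (iv D20499) (iv F92156)
def n25889 : Q := act 7 n20406
theorem D25889 : act 7 n20406 = n25889 := rfl
theorem F116086 : act 1 n25889 = n20408 := d14_1 D25889 (iv D20408) (iv F92155)
theorem F116088 : act 8 n25889 = n20427 := d42_2 (iv F92157) D25889 (iv D20427)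
def n25890 : Q := act 4 n20407
theorem D25890 : act 4 n20407 = n25890 := rfl
theorem F116089 : act 2 n25890 = n20409 := d18_1 D25890 (iv D20409) (iv F92158)
def n25891 : Q := act 7 n20407
theorem D25891 : act 7 n20407 = n25891 := rfl
theorem F116090 : act 2 n25891 = n20410 := d21_1 D25891 (iv D20410) (iv F92158)
theorem F116091 : act 3 n25891 = n20502 := d27_1 D25891 (iv D20502) (iv F92159)
theorem F116092 : act 5 n25891 = n20408 := d36_1 D25891 (iv D20408) D20407
def n25892 : Q := act 8 n20407
theorem D25892 : act 8 n20407 = n25892 := rfl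
theorem F116093 : act 2 n25892 = n20411 := d22_1 D25892 (iv D20411) (iv F92158)
theorem F116094 : act 3 n25892 = n20503 := d28_1 D25892 (iv D20503) (iv F92159)
theorem F116095 : act 5 n25892 = n20430 := d37_1 D25892 (iv D20430) (iv D15968) (iv F72744) D20407
def n25893 : Q := act 7 n20409
theorem D25893 : act 7 n20409 = n25893 := rfl
theorem F116096 : act 4 n25893 = n20410 := d32_1 D25893 (iv D20410) D20409
def n25894 : Q := act 8 n20409
theorem D25894 : act 8 n20409 = n25894 := rfl
theorem F116097 : act 4 n25894 = n20411 := d33_1 D25894 (iv D20411) D20409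
def n25895 : Q := act 6 n20410
theorem D25895 : act 6 n20410 = n25895 := rfl
theorem F116098 : act 3 n25895 = n20412 := d26_1 D25895 (iv D20412) (iv F92163)
def n25896 : Q := act 8 n20410
theorem D25896 : act 8 n20410 = n25896 := rfl
theorem F116099 : act 3 n25896 = n20413 := d28_1 D25896 (iv D20413) (iv F92163)
theorem F116100 : act 5 n25896 = n20434 := d37_1 D25896 (iv D20434) F72789 (iv F72747) (iv F92164)
theorem F116101 : act 7 n25896 = n20411 := d42_1 D25896 (iv D20411) D20410
def n25897 : Q := act 9 n20411
theorem D25897 : act 9 n20411 = n25897 := rfl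
theorem F116102 : act 3 n25897 = n20414 := d29_1 D25897 (iv D20414) (iv F92165)
theorem F116103 : act 5 n25897 = n20435 := d38_1 D25897 (iv D20435) (iv F92166)
def n25898 : Q := act 8 n20412
theorem D25898 : act 8 n20412 = n25898 := rfl
theorem F116104 : act 2 n25898 = n20509 := d22_1 D25898 (iv D20509) (iv F92167)
theorem F116105 : act 6 n25898 = n20413 := d40_1 D25898 (iv D20413) D20412
def n25899 : Q := act 9 n20413
theorem D25899 : act 9 n20413 = n25899 := rfl
theorem F116106 : act 2 n25899 = n20510 := d23_1 D25899 (iv D20510) (iv F92168)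
theorem F116107 : act 5 n25899 = n20437 := d38_1 D25899 (iv D20437) (iv F92169)
theorem F116108 : act 7 n25899 = n20414 := d43_1 D25899 (iv D20414) (iv F92170)
def n25902 : Q := act 7 n20416
theorem D25902 : act 7 n20416 = n25902 := rfl
theorem F116118 : act 6 n25902 = n20427 := d39_1 D25902 (iv D20427) (iv D15967) (iv F72754) D20416
def n25908 : Q := act 6 n20420
theorem D25908 : act 6 n20420 = n25908 := rfl
theorem F116136 : act 3 n25908 = n20422 := d26_1 D25908 (iv D20422) (iv F92191)
theorem F116138 : act 7 n25908 = n20983 := d39_2 D20420 D25908 (iv D20983) (iv D16382) (iv F72760)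
def n25911 : Q := act 8 n20422
theorem D25911 : act 8 n20422 = n25911 := rfl
theorem F116145 : act 2 n25911 = n20522 := d22_1 D25911 (iv D20522) (iv F92196)
theorem F116146 : act 4 n25911 = n25911 := d33_1 D25911 (iv D25911) F92197
theorem F116147 : act 6 n25911 = n20423 := d40_1 D25911 (iv D20423) D20422
def n25912 : Q := act 9 n20423
theorem D25912 : act 9 n20423 = n25912 := rfl
theorem F116149 : act 2 n25912 = n20523 := d23_1 D25912 (iv D20523) (iv F92201)
theorem F116150 : act 4 n25912 = n25912 := d34_1 D25912 (iv D25912) F92202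
theorem F116151 : act 7 n25912 = n20424 := d43_1 D25912 (iv D20424) (iv F92203)
theorem F116152 : act 8 n25912 = n20720 := d44_1 D25912 (iv D20720) (iv D16181) (iv F72768) D20423
def n25914 : Q := act 7 n20425
theorem D25914 : act 7 n20425 = n25914 := rfl
theorem F116157 : act 0 n25914 = n20427 := d6_1 D25914 (iv D20427) (iv F92208)
def n25915 : Q := act 4 n20426
theorem D25915 : act 4 n20426 = n25915 := rfl
theorem F116160 : act 1 n25915 = n20428 := d11_1 D25915 (iv D20428) (iv F92211)
theorem F116163 : act 9 n25915 = n20723 := d34_2 (iv F92214) D25915 (iv D20723)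
def n25916 : Q := act 7 n20426
theorem D25916 : act 7 n20426 = n25916 := rfl
theorem F116164 : act 1 n25916 = n20429 := d14_1 D25916 (iv D20429) (iv F92211)
theorem F116166 : act 5 n25916 = n20427 := d36_1 D25916 (iv D20427) D20426
def n25917 : Q := act 8 n20426
theorem D25917 : act 8 n20426 = n25917 := rfl
theorem F116168 : act 1 n25917 = n20430 := d15_1 D25917 (iv D20430) (iv F92211)
theorem F116169 : act 3 n25917 = n20527 := d28_1 D25917 (iv D20527) (iv F92212)
def n25918 : Q := act 7 n20428
theorem D25918 : act 7 n20428 = n25918 := rfl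
theorem F116171 : act 2 n25918 = n20431 := d21_1 D25918 (iv D20431) (iv F92218)
theorem F116172 : act 3 n25918 = n25918 := d27_1 D25918 (iv D25918) F92219
theorem F116173 : act 4 n25918 = n20429 := d32_1 D25918 (iv D20429) D20428
theorem F116174 : act 9 n25918 = n20726 := d43_2 (iv F92221) D25918 (iv D20726)
def n25919 : Q := act 8 n20428
theorem D25919 : act 8 n20428 = n25919 := rfl
theorem F116175 : act 2 n25919 = n20432 := d22_1 D25919 (iv D20432) (iv F92218)
theorem F116176 : act 3 n25919 = n25919 := d28_1 D25919 (iv D25919) F92219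
theorem F116177 : act 4 n25919 = n20430 := d33_1 D25919 (iv D20430) D20428
theorem F116178 : act 6 n25919 = n20994 := d40_1 D25919 (iv D20994) (iv F92220)
def n25920 : Q := act 6 n20429
theorem D25920 : act 6 n20429 = n25920 := rfl
theorem F116181 : act 7 n25920 = n20995 := d39_2 D20429 D25920 (iv D20995) (iv D16391) (iv F72780)
def n25921 : Q := act 8 n20429
theorem D25921 : act 8 n20429 = n25921 := rfl
theorem F116183 : act 2 n25921 = n20434 := d22_1 D25921 (iv D20434) (iv F92222)
theorem F116184 : act 3 n25921 = n20529 := d28_1 D25921 (iv D20529) (iv F92223)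
theorem F116185 : act 7 n25921 = n20430 := d42_1 D25921 (iv D20430) D20429
def n25922 : Q := act 9 n20430
theorem D25922 : act 9 n20430 = n25922 := rfl
theorem F116186 : act 2 n25922 = n20435 := d23_1 D25922 (iv D20435) (iv F92226)
theorem F116187 : act 3 n25922 = n20530 := d29_1 D25922 (iv D20530) (iv F92227)
theorem F116188 : act 6 n25922 = n20997 := d41_1 D25922 (iv D20997) (iv F92228)
theorem F116189 : act 8 n25922 = n20730 := d44_1 D25922 (iv D20730) (iv D16188) (iv F72781) D20430
def n25923 : Q := act 6 n20431
theorem D25923 : act 6 n20431 = n25923 := rfl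
theorem F116193 : act 9 n25923 = n20731 := d41_2 (iv F92231) D25923 (iv D20731)
def n25924 : Q := act 8 n20431
theorem D25924 : act 8 n20431 = n25924 := rfl
theorem F116194 : act 3 n25924 = n20439 := d28_1 D25924 (iv D20439) (iv F92229)
theorem F116195 : act 4 n25924 = n20434 := d33_1 D25924 (iv D20434) (iv F92230)
theorem F116196 : act 7 n25924 = n20432 := d42_1 D25924 (iv D20432) D20431
def n25925 : Q := act 5 n20432
theorem D25925 : act 5 n20432 = n25925 := rfl
theorem F116197 : act 3 n25925 = n20440 := d25_1 D25925 (iv D20440) (iv F92232)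
def n25926 : Q := act 9 n20432
theorem D25926 : act 9 n20432 = n25926 := rfl
theorem F116199 : act 4 n25926 = n20435 := d34_1 D25926 (iv D20435) (iv F92233)
theorem F116201 : act 8 n25926 = n20734 := d44_1 D25926 (iv D20734) (iv D16190) (iv F72787) D20432
def n25927 : Q := act 8 n20433
theorem D25927 : act 8 n20433 = n25927 := rfl
theorem F116202 : act 3 n25927 = n20436 := d28_1 D25927 (iv D20436) (iv F92235)
theorem F116203 : act 6 n25927 = n20434 := d40_1 D25927 (iv D20434) D20433
def n25928 : Q := act 9 n20434
theorem D25928 : act 9 n20434 = n25928 := rfl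
theorem F116205 : act 3 n25928 = n20437 := d29_1 D25928 (iv D20437) (iv F92238)
theorem F116206 : act 7 n25928 = n20435 := d43_1 D25928 (iv D20435) (iv F92239)
theorem F116207 : act 8 n25928 = n20736 := d44_1 D25928 (iv D20736) (iv D16192) (iv F72790) D20434
def n25929 : Q := act 5 n20436
theorem D25929 : act 5 n20436 = n25929 := rfl
theorem F116208 : act 2 n25929 = n20533 := d19_1 D25929 (iv D20533) (iv F92243)
theorem F116209 : act 7 n25929 = n21004 := d36_2 (iv F92246) D25929 (iv D21004)
def n25930 : Q := act 9 n20436
theorem D25930 : act 9 n20436 = n25930 := rfl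
theorem F116210 : act 2 n25930 = n20534 := d23_1 D25930 (iv D20534) (iv F92243)
theorem F116211 : act 4 n25930 = n20445 := d34_1 D25930 (iv D20445) (iv F92244)
theorem F116212 : act 6 n25930 = n20437 := d41_1 D25930 (iv D20437) (iv F92245)
theorem F116213 : act 7 n25930 = n21005 := d43_1 D25930 (iv D21005) (iv F92246)
theorem F116214 : act 8 n25930 = n20738 := d44_1 D25930 (iv D20738) (iv D16194) (iv F72796) D20436
def n25932 : Q := act 8 n20438
theorem D25932 : act 8 n20438 = n25932 := rfl
theorem F116221 : act 6 n25932 = n20439 := d40_1 D25932 (iv D20439) D20438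
def n25933 : Q := act 5 n20439
theorem D25933 : act 5 n20439 = n25933 := rfl
theorem F116223 : act 2 n25933 = n25933 := d19_1 D25933 (iv D25933) F92255
theorem F116224 : act 7 n25933 = n20440 := d36_2 (iv F92257) D25933 (iv D20440)
def n25934 : Q := act 9 n20439
theorem D25934 : act 9 n20439 = n25934 := rfl
theorem F116227 : act 7 n25934 = n20441 := d43_1 D25934 (iv D20441) (iv F92257)
def n25935 : Q := act 6 n20440
theorem D25935 : act 6 n20440 = n25935 := rfl
theorem F116229 : act 2 n25935 = n25935 := d20_1 D25935 (iv D25935) F92258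
theorem F116230 : act 5 n25935 = n21010 := d35_1 D25935 (iv D21010) (iv D16402) (iv F72809) D20440
def n25936 : Q := act 9 n20440
theorem D25936 : act 9 n20440 = n25936 := rfl
theorem F116232 : act 5 n25936 = n20441 := d38_1 D25936 (iv D20441) D20440
def n25937 : Q := act 5 n20442
theorem D25937 : act 5 n20442 = n25937 := rfl
theorem F116234 : act 3 n25937 = n20444 := d25_1 D25937 (iv D20444) (iv F92264)
def n25938 : Q := act 9 n20442
theorem D25938 : act 9 n20442 = n25938 := rfl
theorem F116238 : act 3 n25938 = n20445 := d29_1 D25938 (iv D20445) (iv F92264)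
theorem F116241 : act 8 n25938 = n20746 := d44_1 D25938 (iv D20746) (iv D16200) (iv F72814) D20442
def n25939 : Q := act 4 n20444
theorem D25939 : act 4 n20444 = n25939 := rfl
theorem F116242 : act 2 n25939 = n20535 := d18_1 D25939 (iv D20535) (iv F92271)
theorem F116244 : act 8 n25939 = n25939 := d33_2 F92273 D25939 (iv D25939)
def n25940 : Q := act 9 n20444
theorem D25940 : act 9 n20444 = n25940 := rfl
theorem F116245 : act 2 n25940 = n20536 := d23_1 D25940 (iv D20536) (iv F92271)
theorem F116246 : act 5 n25940 = n20445 := d38_1 D25940 (iv D20445) D20444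
def n25942 : Q := act 6 n20446
theorem D25942 : act 6 n20446 = n25942 := rfl
theorem F116254 : act 2 n25942 = n20447 := d20_1 D25942 (iv D20447) D20446
theorem F116255 : act 4 n25942 = n25942 := d31_1 D25942 (iv D25942) F92278
theorem F116257 : act 9 n25942 = n21692 := d41_2 (iv F92282) D25942 (iv D21692)
def n25943 : Q := act 5 n20447
theorem D25943 : act 5 n20447 = n25943 := rfl
theorem F116258 : act 1 n25943 = n21774 := d12_1 D25943 (iv D21774) (iv F92283)
theorem F116259 : act 3 n25943 = n20448 := d25_1 D25943 (iv D20448) (iv F92284)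
theorem F116260 : act 6 n25943 = n20474 := d35_2 D20447 D25943 (iv D20474) (iv D16001) (iv F72830)
def n25944 : Q := act 7 n20447
theorem D25944 : act 7 n20447 = n25944 := rfl
theorem F116262 : act 1 n25944 = n21775 := d14_1 D25944 (iv D21775) (iv F92283)
theorem F116263 : act 3 n25944 = n20449 := d27_1 D25944 (iv D20449) (iv F92284)
theorem F116264 : act 4 n25944 = n25944 := d32_1 D25944 (iv D25944) F92285
theorem F116265 : act 6 n25944 = n21700 := d39_1 D25944 (iv D21700) (iv D16957) (iv F72831) D20447
theorem F116267 : act 9 n25944 = n21694 := d43_2 (iv F92287) D25944 (iv D21694)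
def n25945 : Q := act 7 n20448
theorem D25945 : act 7 n20448 = n25945 := rfl
theorem F116268 : act 1 n25945 = n21776 := d14_1 D25945 (iv D21776) (iv F92288)
theorem F116269 : act 4 n25945 = n20454 := d32_1 D25945 (iv D20454) (iv F92289)
theorem F116270 : act 5 n25945 = n20449 := d36_1 D25945 (iv D20449) D20448
theorem F116271 : act 9 n25945 = n21695 := d43_2 (iv F92291) D25945 (iv D21695)
def n25946 : Q := act 8 n20448
theorem D25946 : act 8 n20448 = n25946 := rfl
theorem F116273 : act 4 n25946 = n20455 := d33_1 D25946 (iv D20455) (iv F92289)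
theorem F116274 : act 5 n25946 = n22116 := d37_1 D25946 (iv D22116) (iv D17268) (iv F72836) D20448
theorem F116275 : act 6 n25946 = n20477 := d40_1 D25946 (iv D20477) (iv F92290)
def n25948 : Q := act 6 n20450
theorem D25948 : act 6 n20450 = n25948 := rfl
theorem F116281 : act 1 n25948 = n20451 := d13_1 D25948 (iv D20451) D20450
def n25949 : Q := act 5 n20451
theorem D25949 : act 5 n20451 = n25949 := rfl
theorem F116286 : act 6 n25949 = n20480 := d35_2 D20451 D25949 (iv D20480) (iv D16005) (iv F72845)
def n25950 : Q := act 7 n20451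
theorem D25950 : act 7 n20451 = n25950 := rfl
theorem F116287 : act 2 n25950 = n20453 := d21_1 D25950 (iv D20453) (iv F92302)
theorem F116288 : act 4 n25950 = n25950 := d32_1 D25950 (iv D25950) F92303
theorem F116289 : act 6 n25950 = n20465 := d39_1 D25950 (iv D20465) (iv D15995) (iv F72846) D20451
def n25951 : Q := act 4 n20452
theorem D25951 : act 4 n20452 = n25951 := rfl
theorem F116293 : act 6 n25951 = n20482 := d31_2 (iv F92307) D25951 (iv D20482)
def n25952 : Q := act 7 n20452
theorem D25952 : act 7 n20452 = n25952 := rfl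
theorem F116295 : act 3 n25952 = n20454 := d27_1 D25952 (iv D20454) (iv F92306)
theorem F116296 : act 5 n25952 = n20453 := d36_1 D25952 (iv D20453) D20452
def n25954 : Q := act 6 n20454
theorem D25954 : act 6 n20454 = n25954 := rfl
theorem F116301 : act 1 n25954 = n21859 := d13_1 D25954 (iv D21859) (iv F92313)
theorem F116302 : act 5 n25954 = n20469 := d35_1 D25954 (iv D20469) F72889 (iv F72856) (iv F92314)
theorem F116303 : act 7 n25954 = n20485 := d39_2 D20454 D25954 (iv D20485) (iv D16008) (iv F72853)
def n25955 : Q := act 8 n20454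
theorem D25955 : act 8 n20454 = n25955 := rfl
theorem F116305 : act 5 n25955 = n21029 := d37_1 D25955 (iv D21029) F74384 (iv F72857) (iv F92314)
theorem F116306 : act 7 n25955 = n20455 := d42_1 D25955 (iv D20455) D20454
def n25956 : Q := act 9 n20455
theorem D25956 : act 9 n20455 = n25956 := rfl
theorem F116309 : act 6 n25956 = n20487 := d41_1 D25956 (iv D20487) (iv F92317)
def n25957 : Q := act 0 n20456
theorem D25957 : act 0 n20456 = n25957 := rfl
theorem F116310 : act 2 n25957 = n21862 := d1_2 (iv F92318) D25957 (iv D21862)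
theorem F116312 : act 5 n25957 = n20488 := d4_2 (iv F92320) D25957 (iv D20488)
def n25958 : Q := act 6 n20456
theorem D25958 : act 6 n20456 = n25958 := rfl
theorem F116315 : act 1 n25958 = n20457 := d13_1 D25958 (iv D20457) D20456
theorem F116317 : act 4 n25958 = n25958 := d31_1 D25958 (iv D25958) F92319
theorem F116318 : act 8 n25958 = n25958 := d40_2 F92321 D25958 (iv D25958)
theorem F116319 : act 9 n25958 = n20463 := d41_2 (iv F92322) D25958 (iv D20463)
def n25959 : Q := act 5 n20457
theorem D25959 : act 5 n20457 = n25959 := rfl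
theorem F116320 : act 2 n25959 = n20458 := d19_1 D25959 (iv D20458) (iv F92323)
theorem F116321 : act 6 n25959 = n20490 := d35_2 D20457 D25959 (iv D20490) (iv D16011) (iv F72859)
theorem F116322 : act 9 n25959 = n20464 := d38_2 (iv F92326) D25959 (iv D20464)
def n25960 : Q := act 7 n20457
theorem D25960 : act 7 n20457 = n25960 := rfl
theorem F116323 : act 2 n25960 = n20459 := d21_1 D25960 (iv D20459) (iv F92323)
theorem F116324 : act 4 n25960 = n25960 := d32_1 D25960 (iv D25960) F92324
theorem F116325 : act 8 n25960 = n25960 := d42_2 F92325 D25960 (iv D25960)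
theorem F116326 : act 9 n25960 = n20465 := d43_2 (iv F92326) D25960 (iv D20465)
def n25961 : Q := act 4 n20458
theorem D25961 : act 4 n20458 = n25961 := rfl
theorem F116327 : act 1 n25961 = n21866 := d11_1 D25961 (iv D21866) (iv F92327)
theorem F116328 : act 5 n25961 = n25961 := d30_2 D20458 D25961 (iv D25961) (iv D20458) F72864
theorem F116329 : act 6 n25961 = n20492 := d31_2 (iv F92329) D25961 (iv D20492)
theorem F116330 : act 9 n25961 = n20466 := d34_2 (iv F92330) D25961 (iv D20466)
def n25962 : Q := act 7 n20458
theorem D25962 : act 7 n20458 = n25962 := rfl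
theorem F116331 : act 1 n25962 = n21867 := d14_1 D25962 (iv D21867) (iv F92327)
theorem F116332 : act 3 n25962 = n20460 := d27_1 D25962 (iv D20460) (iv F92328)
theorem F116333 : act 5 n25962 = n20459 := d36_1 D25962 (iv D20459) D20458
theorem F116334 : act 9 n25962 = n20467 := d43_2 (iv F92330) D25962 (iv D20467)
def n25963 : Q := act 8 n20458
theorem D25963 : act 8 n20458 = n25963 := rfl
theorem F116335 : act 1 n25963 = n21868 := d15_1 D25963 (iv D21868) (iv F92327)
theorem F116336 : act 3 n25963 = n20461 := d28_1 D25963 (iv D20461) (iv F92328)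
theorem F116337 : act 5 n25963 = n25963 := d37_1 D25963 (iv D25963) (iv D20458) F72865 D20458
theorem F116338 : act 6 n25963 = n20494 := d40_1 D25963 (iv D20494) (iv F92329)
def n25964 : Q := act 6 n20460
theorem D25964 : act 6 n20460 = n25964 := rfl
theorem F116339 : act 1 n25964 = n21869 := d13_1 D25964 (iv D21869) (iv F92336)
theorem F116340 : act 7 n25964 = n20495 := d39_2 D20460 D25964 (iv D20495) (iv D16014) (iv F72868)
theorem F116341 : act 9 n25964 = n20469 := d41_2 (iv F92338) D25964 (iv D20469)
def n25965 : Q := act 8 n20460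
theorem D25965 : act 8 n20460 = n25965 := rfl
theorem F116342 : act 1 n25965 = n21870 := d15_1 D25965 (iv D21870) (iv F92336)
theorem F116343 : act 5 n25965 = n25965 := d37_1 D25965 (iv D25965) F92337 F72872 (iv F92337)
theorem F116344 : act 7 n25965 = n20461 := d42_1 D25965 (iv D20461) D20460
def n25966 : Q := act 9 n20461
theorem D25966 : act 9 n20461 = n25966 := rfl
theorem F116345 : act 1 n25966 = n21871 := d16_1 D25966 (iv D21871) (iv F92339)
theorem F116346 : act 5 n25966 = n25966 := d38_1 D25966 (iv D25966) F92340
theorem F116347 : act 6 n25966 = n20497 := d41_1 D25966 (iv D20497) (iv F92341)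
theorem F116348 : act 8 n25966 = n20471 := d44_1 D25966 (iv D20471) (iv D15999) (iv F72869) D20461
def n25968 : Q := act 5 n20463
theorem D25968 : act 5 n20463 = n25968 := rfl
theorem F116353 : act 1 n25968 = n20464 := d12_1 D25968 (iv D20464) (iv F92346)
theorem F116354 : act 2 n25968 = n21873 := d19_1 D25968 (iv D21873) (iv F92347)
theorem F116355 : act 6 n25968 = n20499 := d35_2 D20463 D25968 (iv D20499) (iv D16017) (iv F72876)
def n25969 : Q := act 7 n20463
theorem D25969 : act 7 n20463 = n25969 := rfl
theorem F116356 : act 1 n25969 = n20465 := d14_1 D25969 (iv D20465) (iv F92346)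
theorem F116358 : act 4 n25969 = n25969 := d32_1 D25969 (iv D25969) F92348
def n25970 : Q := act 4 n20464
theorem D25970 : act 4 n20464 = n25970 := rfl
theorem F116360 : act 2 n25970 = n20466 := d18_1 D25970 (iv D20466) (iv F92350)
theorem F116361 : act 5 n25970 = n25970 := d30_2 D20464 D25970 (iv D25970) (iv D20464) F72879
theorem F116362 : act 6 n25970 = n20501 := d31_2 (iv F92351) D25970 (iv D20501)
def n25971 : Q := act 7 n20464
theorem D25971 : act 7 n20464 = n25971 := rfl
theorem F116363 : act 2 n25971 = n20467 := d21_1 D25971 (iv D20467) (iv F92350)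
theorem F116364 : act 5 n25971 = n20465 := d36_1 D25971 (iv D20465) D20464
def n25972 : Q := act 8 n20464
theorem D25972 : act 8 n20464 = n25972 := rfl
theorem F116365 : act 2 n25972 = n20468 := d22_1 D25972 (iv D20468) (iv F92350)
theorem F116366 : act 5 n25972 = n21036 := d37_1 D25972 (iv D21036) (iv D16420) (iv F72880) D20464
theorem F116367 : act 6 n25972 = n20503 := d40_1 D25972 (iv D20503) (iv F92351)
def n25973 : Q := act 7 n20466
theorem D25973 : act 7 n20466 = n25973 := rfl
theorem F116368 : act 1 n25973 = n21878 := d14_1 D25973 (iv D21878) (iv F92355)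
theorem F116369 : act 4 n25973 = n20467 := d32_1 D25973 (iv D20467) D20466
theorem F116370 : act 5 n25973 = n25973 := d36_1 D25973 (iv D25973) F92356
def n25974 : Q := act 8 n20466
theorem D25974 : act 8 n20466 = n25974 := rfl
theorem F116371 : act 1 n25974 = n21879 := d15_1 D25974 (iv D21879) (iv F92355)
theorem F116372 : act 4 n25974 = n20468 := d33_1 D25974 (iv D20468) D20466
theorem F116373 : act 6 n25974 = n20505 := d40_1 D25974 (iv D20505) (iv F92357)
def n25975 : Q := act 6 n20467
theorem D25975 : act 6 n20467 = n25975 := rfl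
theorem F116374 : act 1 n25975 = n21880 := d13_1 D25975 (iv D21880) (iv F92358)
theorem F116375 : act 3 n25975 = n20469 := d26_1 D25975 (iv D20469) (iv F92359)
theorem F116376 : act 7 n25975 = n20506 := d39_2 D20467 D25975 (iv D20506) (iv D16021) (iv F72883)
def n25976 : Q := act 8 n20467
theorem D25976 : act 8 n20467 = n25976 := rfl
theorem F116377 : act 1 n25976 = n21881 := d15_1 D25976 (iv D21881) (iv F92358)
theorem F116378 : act 3 n25976 = n20470 := d28_1 D25976 (iv D20470) (iv F92359)
theorem F116379 : act 5 n25976 = n21040 := d37_1 D25976 (iv D21040) F74409 (iv F72887) (iv F92360)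
theorem F116380 : act 7 n25976 = n20468 := d42_1 D25976 (iv D20468) D20467
def n25977 : Q := act 9 n20468
theorem D25977 : act 9 n20468 = n25977 := rfl
theorem F116381 : act 1 n25977 = n21882 := d16_1 D25977 (iv D21882) (iv F92361)
theorem F116382 : act 3 n25977 = n20471 := d29_1 D25977 (iv D20471) (iv F92362)
theorem F116383 : act 5 n25977 = n21041 := d38_1 D25977 (iv D21041) (iv F92363)
theorem F116384 : act 6 n25977 = n20508 := d41_1 D25977 (iv D20508) (iv F92364)
def n25978 : Q := act 8 n20469
theorem D25978 : act 8 n20469 = n25978 := rfl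
theorem F116385 : act 1 n25978 = n21883 := d15_1 D25978 (iv D21883) (iv F92365)
theorem F116386 : act 6 n25978 = n20470 := d40_1 D25978 (iv D20470) D20469
theorem F116387 : act 7 n25978 = n20509 := d42_1 D25978 (iv D20509) (iv F92366)
def n25979 : Q := act 9 n20470
theorem D25979 : act 9 n20470 = n25979 := rfl
theorem F116388 : act 1 n25979 = n21884 := d16_1 D25979 (iv D21884) (iv F92367)
theorem F116389 : act 5 n25979 = n21043 := d38_1 D25979 (iv D21043) (iv F92368)
theorem F116390 : act 7 n25979 = n20471 := d43_1 D25979 (iv D20471) (iv F92369)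
def n25980 : Q := act 0 n20472
theorem D25980 : act 0 n20472 = n25980 := rfl
theorem F116391 : act 2 n25980 = n21885 := d1_2 (iv F92373) D25980 (iv D21885)
theorem F116392 : act 4 n25980 = n20537 := d3_2 (iv F92374) D25980 (iv D20537)
def n25981 : Q := act 6 n20472
theorem D25981 : act 6 n20472 = n25981 := rfl
theorem F116394 : act 1 n25981 = n20473 := d13_1 D25981 (iv D20473) D20472
theorem F116395 : act 2 n25981 = n21886 := d20_1 D25981 (iv D21886) (iv F92373)
theorem F116396 : act 4 n25981 = n20538 := d31_1 D25981 (iv D20538) (iv F92374)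
theorem F116397 : act 8 n25981 = n25981 := d40_2 F92375 D25981 (iv D25981)
def n25982 : Q := act 5 n20473
theorem D25982 : act 5 n20473 = n25982 := rfl
theorem F116398 : act 2 n25982 = n20474 := d19_1 D25982 (iv D20474) (iv F92376)
def n25983 : Q := act 7 n20473
theorem D25983 : act 7 n20473 = n25983 := rfl
theorem F116399 : act 2 n25983 = n20475 := d21_1 D25983 (iv D20475) (iv F92376)
theorem F116400 : act 4 n25983 = n20540 := d32_1 D25983 (iv D20540) (iv F92377)
theorem F116401 : act 8 n25983 = n25983 := d42_2 F92378 D25983 (iv D25983)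
def n25984 : Q := act 4 n20474
theorem D25984 : act 4 n20474 = n25984 := rfl
theorem F116403 : act 3 n25984 = n20482 := d24_1 D25984 (iv D20482) F72912 (iv F72900) (iv F92380)
theorem F116404 : act 5 n25984 = n20541 := d30_2 D20474 D25984 (iv D20541) (iv D16050) (iv F72897)
def n25985 : Q := act 7 n20474
theorem D25985 : act 7 n20474 = n25985 := rfl
theorem F116405 : act 1 n25985 = n21890 := d14_1 D25985 (iv D21890) (iv F92379)
theorem F116406 : act 3 n25985 = n20476 := d27_1 D25985 (iv D20476) (iv F92380)
theorem F116407 : act 5 n25985 = n20475 := d36_1 D25985 (iv D20475) D20474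
def n25986 : Q := act 8 n20474
theorem D25986 : act 8 n20474 = n25986 := rfl
theorem F116409 : act 3 n25986 = n20477 := d28_1 D25986 (iv D20477) (iv F92380)
theorem F116410 : act 5 n25986 = n25986 := d37_1 D25986 (iv D25986) (iv D20474) F72898 D20474
def n25987 : Q := act 6 n20476
theorem D25987 : act 6 n20476 = n25987 := rfl
theorem F116411 : act 1 n25987 = n21892 := d13_1 D25987 (iv D21892) (iv F92385)
theorem F116412 : act 4 n25987 = n20485 := d31_1 D25987 (iv D20485) (iv F92386)
def n25988 : Q := act 8 n20476
theorem D25988 : act 8 n20476 = n25988 := rfl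
theorem F116414 : act 4 n25988 = n20486 := d33_1 D25988 (iv D20486) (iv F92386)
theorem F116415 : act 5 n25988 = n25988 := d37_1 D25988 (iv D25988) F92387 F72903 (iv F92387)
theorem F116416 : act 7 n25988 = n20477 := d42_1 D25988 (iv D20477) D20476
def n25989 : Q := act 9 n20477
theorem D25989 : act 9 n20477 = n25989 := rfl
theorem F116418 : act 4 n25989 = n20487 := d34_1 D25989 (iv D20487) (iv F92389)
theorem F116419 : act 5 n25989 = n25989 := d38_1 D25989 (iv D25989) F92390
def n25996 : Q := act 7 n20482
theorem D25996 : act 7 n20482 = n25996 := rfl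
theorem F116438 : act 4 n25996 = n20483 := d32_1 D25996 (iv D20483) D20482
theorem F116439 : act 5 n25996 = n20552 := d36_1 D25996 (iv D20552) (iv F92405)
def n25998 : Q := act 6 n20483
theorem D25998 : act 6 n20483 = n25998 := rfl
theorem F116443 : act 3 n25998 = n20485 := d26_1 D25998 (iv D20485) (iv F92407)
theorem F116444 : act 5 n25998 = n20506 := d35_1 D25998 (iv D20506) F72958 (iv F72916) (iv F92408)
def n26001 : Q := act 8 n20485
theorem D26001 : act 8 n20485 = n26001 := rfl
theorem F116453 : act 6 n26001 = n20486 := d40_1 D26001 (iv D20486) D20485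
def n26002 : Q := act 9 n20486
theorem D26002 : act 9 n20486 = n26002 := rfl
theorem F116455 : act 5 n26002 = n20523 := d38_1 D26002 (iv D20523) (iv F92415)
theorem F116456 : act 7 n26002 = n20487 := d43_1 D26002 (iv D20487) (iv F92416)
def n26003 : Q := act 6 n20488
theorem D26003 : act 6 n20488 = n26003 := rfl
theorem F116457 : act 0 n26003 = n20489 := d5_1 D26003 (iv D20489) D20488
theorem F116460 : act 8 n26003 = n20749 := d40_2 (iv F92421) D26003 (iv D20749)
def n26004 : Q := act 5 n20489
theorem D26004 : act 5 n20489 = n26004 := rfl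
theorem F116462 : act 1 n26004 = n20490 := d12_1 D26004 (iv D20490) (iv F92423)
theorem F116463 : act 2 n26004 = n21919 := d19_1 D26004 (iv D21919) (iv F92424)
theorem F116464 : act 9 n26004 = n20499 := d38_2 (iv F92427) D26004 (iv D20499)
def n26005 : Q := act 7 n20489
theorem D26005 : act 7 n20489 = n26005 := rfl
theorem F116465 : act 1 n26005 = n20491 := d14_1 D26005 (iv D20491) (iv F92423)
def n26006 : Q := act 4 n20490
theorem D26006 : act 4 n20490 = n26006 := rfl
theorem F116470 : act 2 n26006 = n20492 := d18_1 D26006 (iv D20492) (iv F92428)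
theorem F116471 : act 5 n26006 = n20560 := d30_2 D20490 D26006 (iv D20560) (iv D16065) (iv F72927)
theorem F116472 : act 9 n26006 = n20501 := d34_2 (iv F92429) D26006 (iv D20501)
def n26007 : Q := act 7 n20490
theorem D26007 : act 7 n20490 = n26007 := rfl
theorem F116473 : act 2 n26007 = n20493 := d21_1 D26007 (iv D20493) (iv F92428)
theorem F116474 : act 5 n26007 = n20491 := d36_1 D26007 (iv D20491) D20490
theorem F116475 : act 9 n26007 = n20502 := d43_2 (iv F92429) D26007 (iv D20502)
def n26008 : Q := act 8 n20490
theorem D26008 : act 8 n20490 = n26008 := rfl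
theorem F116476 : act 2 n26008 = n20494 := d22_1 D26008 (iv D20494) (iv F92428)
theorem F116477 : act 5 n26008 = n20754 := d37_1 D26008 (iv D20754) (iv D16206) (iv F72928) D20490
def n26009 : Q := act 7 n20492
theorem D26009 : act 7 n20492 = n26009 := rfl
theorem F116478 : act 1 n26009 = n21922 := d14_1 D26009 (iv D21922) (iv F92434)
theorem F116479 : act 4 n26009 = n20493 := d32_1 D26009 (iv D20493) D20492
theorem F116480 : act 5 n26009 = n20563 := d36_1 D26009 (iv D20563) (iv F92435)
theorem F116481 : act 9 n26009 = n20504 := d43_2 (iv F92436) D26009 (iv D20504)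
def n26010 : Q := act 8 n20492
theorem D26010 : act 8 n20492 = n26010 := rfl
theorem F116482 : act 1 n26010 = n21545 := d15_1 D26010 F96601 (iv F92434)
theorem F116483 : act 4 n26010 = n20494 := d33_1 D26010 (iv D20494) D20492
theorem F116484 : act 5 n26010 = n21544 := d37_1 D26010 F96597 F92688 (iv D20564) (iv F92435)
def n26011 : Q := act 6 n20493
theorem D26011 : act 6 n20493 = n26011 := rfl
theorem F116485 : act 1 n26011 = n21923 := d13_1 D26011 (iv D21923) (iv F92437)
theorem F116486 : act 3 n26011 = n20495 := d26_1 D26011 (iv D20495) (iv F92438)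
theorem F116487 : act 9 n26011 = n20506 := d41_2 (iv F92440) D26011 (iv D20506)
def n26012 : Q := act 8 n20493
theorem D26012 : act 8 n20493 = n26012 := rfl
theorem F116488 : act 1 n26012 = n21924 := d15_1 D26012 (iv D21924) (iv F92437)
theorem F116489 : act 3 n26012 = n20496 := d28_1 D26012 (iv D20496) (iv F92438)
theorem F116490 : act 5 n26012 = n20758 := d37_1 D26012 (iv D20758) F73605 (iv F72936) (iv F92439)
theorem F116491 : act 7 n26012 = n20494 := d42_1 D26012 (iv D20494) D20493
def n26013 : Q := act 9 n20494
theorem D26013 : act 9 n20494 = n26013 := rfl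
theorem F116492 : act 1 n26013 = n21925 := d16_1 D26013 (iv D21925) (iv F92441)
theorem F116493 : act 3 n26013 = n20497 := d29_1 D26013 (iv D20497) (iv F92442)
theorem F116494 : act 5 n26013 = n20759 := d38_1 D26013 (iv D20759) (iv F92443)
theorem F116495 : act 8 n26013 = n20508 := d44_1 D26013 (iv D20508) (iv D16022) (iv F72932) D20494
def n26014 : Q := act 8 n20495
theorem D26014 : act 8 n20495 = n26014 := rfl
theorem F116496 : act 1 n26014 = n21926 := d15_1 D26014 (iv D21926) (iv F92444)
theorem F116497 : act 6 n26014 = n20496 := d40_1 D26014 (iv D20496) D20495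
def n26015 : Q := act 9 n20496
theorem D26015 : act 9 n20496 = n26015 := rfl
theorem F116498 : act 1 n26015 = n21927 := d16_1 D26015 (iv D21927) (iv F92446)
theorem F116499 : act 5 n26015 = n20761 := d38_1 D26015 (iv D20761) (iv F92447)
theorem F116500 : act 7 n26015 = n20497 := d43_1 D26015 (iv D20497) (iv F92448)
theorem F116501 : act 8 n26015 = n20510 := d44_1 D26015 (iv D20510) (iv D16024) (iv F72940) D20496
def n26016 : Q := act 5 n20498
theorem D26016 : act 5 n20498 = n26016 := rfl
theorem F116502 : act 0 n26016 = n20499 := d4_1 D26016 (iv D20499) (iv F92452)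
def n26018 : Q := act 4 n20499
theorem D26018 : act 4 n20499 = n26018 := rfl
theorem F116508 : act 1 n26018 = n20501 := d11_1 D26018 (iv D20501) (iv F92456)
theorem F116509 : act 2 n26018 = n21930 := d18_1 D26018 (iv D21930) (iv F92457)
theorem F116510 : act 5 n26018 = n20570 := d30_2 D20499 D26018 (iv D20570) (iv D16073) (iv F72948)
def n26019 : Q := act 7 n20499
theorem D26019 : act 7 n20499 = n26019 := rfl
theorem F116511 : act 1 n26019 = n20502 := d14_1 D26019 (iv D20502) (iv F92456)
def n26020 : Q := act 8 n20499
theorem D26020 : act 8 n20499 = n26020 := rfl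
theorem F116514 : act 1 n26020 = n20503 := d15_1 D26020 (iv D20503) (iv F92456)
theorem F116516 : act 5 n26020 = n20527 := d37_1 D26020 (iv D20527) (iv D16037) (iv F72949) D20499
def n26021 : Q := act 3 n20501
theorem D26021 : act 3 n20501 = n26021 := rfl
theorem F116517 : act 5 n26021 = n20572 := d25_2 (iv F92463) D26021 (iv D20572)
def n26022 : Q := act 7 n20501
theorem D26022 : act 7 n20501 = n26022 := rfl
theorem F116518 : act 2 n26022 = n20504 := d21_1 D26022 (iv D20504) (iv F92462)
theorem F116519 : act 4 n26022 = n20502 := d32_1 D26022 (iv D20502) D20501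
theorem F116520 : act 5 n26022 = n20573 := d36_1 D26022 (iv D20573) (iv F92463)
def n26023 : Q := act 8 n20501
theorem D26023 : act 8 n20501 = n26023 := rfl
theorem F116521 : act 2 n26023 = n20505 := d22_1 D26023 (iv D20505) (iv F92462)
theorem F116522 : act 4 n26023 = n20503 := d33_1 D26023 (iv D20503) D20501
theorem F116523 : act 5 n26023 = n26023 := d37_1 D26023 (iv D26023) F92463 F73152 (iv F92463)
def n26024 : Q := act 6 n20502
theorem D26024 : act 6 n20502 = n26024 := rfl
theorem F116524 : act 2 n26024 = n20506 := d20_1 D26024 (iv D20506) (iv F92464)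
def n26025 : Q := act 8 n20502
theorem D26025 : act 8 n20502 = n26025 := rfl
theorem F116525 : act 2 n26025 = n20507 := d22_1 D26025 (iv D20507) (iv F92464)
theorem F116526 : act 5 n26025 = n20529 := d37_1 D26025 (iv D20529) F73023 (iv F72953) (iv F92465)
theorem F116527 : act 7 n26025 = n20503 := d42_1 D26025 (iv D20503) D20502
def n26026 : Q := act 9 n20503
theorem D26026 : act 9 n20503 = n26026 := rfl
theorem F116528 : act 2 n26026 = n20508 := d23_1 D26026 (iv D20508) (iv F92466)
theorem F116529 : act 5 n26026 = n20530 := d38_1 D26026 (iv D20530) (iv F92467)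
def n26027 : Q := act 6 n20504
theorem D26027 : act 6 n20504 = n26027 := rfl
theorem F116530 : act 1 n26027 = n21938 := d13_1 D26027 (iv D21938) (iv F92468)
theorem F116531 : act 4 n26027 = n20506 := d31_1 D26027 (iv D20506) (iv F92469)
def n26028 : Q := act 8 n20504
theorem D26028 : act 8 n20504 = n26028 := rfl
theorem F116532 : act 1 n26028 = n21939 := d15_1 D26028 (iv D21939) (iv F92468)
theorem F116533 : act 4 n26028 = n20507 := d33_1 D26028 (iv D20507) (iv F92469)
theorem F116534 : act 5 n26028 = n26028 := d37_1 D26028 (iv D26028) F92470 F73158 (iv F92470)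
theorem F116535 : act 7 n26028 = n20505 := d42_1 D26028 (iv D20505) D20504
def n26029 : Q := act 9 n20505
theorem D26029 : act 9 n20505 = n26029 := rfl
theorem F116536 : act 1 n26029 = n21940 := d16_1 D26029 (iv D21940) (iv F92471)
theorem F116537 : act 4 n26029 = n20508 := d34_1 D26029 (iv D20508) (iv F92472)
theorem F116538 : act 5 n26029 = n26029 := d38_1 D26029 (iv D26029) F92473
def n26030 : Q := act 8 n20506
theorem D26030 : act 8 n20506 = n26030 := rfl
theorem F116539 : act 1 n26030 = n21941 := d15_1 D26030 (iv D21941) (iv F92474)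
theorem F116540 : act 3 n26030 = n20509 := d28_1 D26030 (iv D20509) (iv F92475)
theorem F116541 : act 6 n26030 = n20507 := d40_1 D26030 (iv D20507) D20506
def n26031 : Q := act 9 n20507
theorem D26031 : act 9 n20507 = n26031 := rfl
theorem F116542 : act 1 n26031 = n21942 := d16_1 D26031 (iv D21942) (iv F92476)
theorem F116543 : act 3 n26031 = n20510 := d29_1 D26031 (iv D20510) (iv F92477)
theorem F116544 : act 5 n26031 = n20532 := d38_1 D26031 (iv D20532) (iv F92478)
theorem F116545 : act 7 n26031 = n20508 := d43_1 D26031 (iv D20508) (iv F92479)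
def n26032 : Q := act 5 n20509
theorem D26032 : act 5 n20509 = n26032 := rfl
theorem F116547 : act 6 n26032 = n20533 := d35_2 (iv F92484) D26032 (iv D20533) F73044 (iv F72964)
def n26033 : Q := act 9 n20509
theorem D26033 : act 9 n20509 = n26033 := rfl
theorem F116548 : act 1 n26033 = n21944 := d16_1 D26033 (iv D21944) (iv F92483)
theorem F116549 : act 6 n26033 = n20510 := d41_1 D26033 (iv D20510) (iv F92484)
def n26042 : Q := act 6 n20515
theorem D26042 : act 6 n20515 = n26042 := rfl
theorem F116583 : act 5 n26042 = n20528 := d35_1 D26042 (iv D20528) F73023 (iv F72982) (iv F92506)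
theorem F116584 : act 7 n26042 = n21091 := d39_2 D20515 D26042 (iv D21091) (iv D16460) (iv F72978)
def n26049 : Q := act 8 n20519
theorem D26049 : act 8 n20519 = n26049 := rfl
theorem F116610 : act 3 n26049 = n20522 := d28_1 D26049 (iv D20522) (iv F92520)
theorem F116612 : act 7 n26049 = n21098 := d42_1 D26049 (iv D21098) (iv F92522)
def n26051 : Q := act 5 n20522
theorem D26051 : act 5 n20522 = n26051 := rfl
theorem F116617 : act 1 n26051 = n21962 := d12_1 D26051 (iv D21962) (iv F92531)
theorem F116618 : act 7 n26051 = n21100 := d36_2 (iv F92534) D26051 (iv D21100)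
theorem F116619 : act 8 n26051 = n20533 := d37_2 D20522 D26051 (iv D20533) (iv D16044) (iv F72998)
def n26052 : Q := act 9 n20522
theorem D26052 : act 9 n20522 = n26052 := rfl
theorem F116624 : act 8 n26052 = n20797 := d44_1 D26052 (iv D20797) (iv D16238) (iv F73000) D20522
def n26056 : Q := act 8 n20526
theorem D26056 : act 8 n20526 = n26056 := rfl
theorem F116639 : act 1 n26056 = n20529 := d15_1 D26056 (iv D20529) (iv F92548)
theorem F116642 : act 7 n26056 = n20527 := d42_1 D26056 (iv D20527) D20526
def n26057 : Q := act 9 n20527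
theorem D26057 : act 9 n20527 = n26057 := rfl
theorem F116643 : act 1 n26057 = n20530 := d16_1 D26057 (iv D20530) (iv F92553)
theorem F116647 : act 8 n26057 = n20802 := d44_1 D26057 (iv D20802) (iv D16243) (iv F73016) D20527
def n26058 : Q := act 8 n20528
theorem D26058 : act 8 n20528 = n26058 := rfl
theorem F116648 : act 2 n26058 = n20531 := d22_1 D26058 (iv D20531) (iv F92557)
theorem F116650 : act 6 n26058 = n20529 := d40_1 D26058 (iv D20529) D20528
def n26059 : Q := act 9 n20529
theorem D26059 : act 9 n20529 = n26059 := rfl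
theorem F116652 : act 2 n26059 = n20532 := d23_1 D26059 (iv D20532) (iv F92561)
theorem F116653 : act 4 n26059 = n26059 := d34_1 D26059 (iv D26059) F92562
theorem F116654 : act 7 n26059 = n20530 := d43_1 D26059 (iv D20530) (iv F92563)
theorem F116655 : act 8 n26059 = n20804 := d44_1 D26059 (iv D20804) (iv D16245) (iv F73024) D20529
def n26060 : Q := act 5 n20531
theorem D26060 : act 5 n20531 = n26060 := rfl
theorem F116656 : act 1 n26060 = n21971 := d12_1 D26060 (iv D21971) (iv F92568)
theorem F116657 : act 3 n26060 = n20533 := d25_1 D26060 (iv D20533) (iv F92569)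
theorem F116658 : act 7 n26060 = n21109 := d36_2 (iv F92572) D26060 (iv D21109)
def n26061 : Q := act 9 n20531
theorem D26061 : act 9 n20531 = n26061 := rfl
theorem F116659 : act 1 n26061 = n21972 := d16_1 D26061 (iv D21972) (iv F92568)
theorem F116660 : act 3 n26061 = n20534 := d29_1 D26061 (iv D20534) (iv F92569)
theorem F116661 : act 4 n26061 = n26061 := d34_1 D26061 (iv D26061) F92570
theorem F116662 : act 6 n26061 = n20532 := d41_1 D26061 (iv D20532) (iv F92571)
theorem F116663 : act 7 n26061 = n21110 := d43_1 D26061 (iv D21110) (iv F92572)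
theorem F116664 : act 8 n26061 = n20806 := d44_1 D26061 (iv D20806) (iv D16247) (iv F73032) D20531
def n26062 : Q := act 4 n20533
theorem D26062 : act 4 n20533 = n26062 := rfl
theorem F116666 : act 5 n26062 = n20535 := d30_2 D20533 D26062 (iv D20535) (iv D16046) (iv F73043)
theorem F116667 : act 7 n26062 = n21111 := d32_2 (iv F92579) D26062 (iv D21111)
def n26063 : Q := act 9 n20533
theorem D26063 : act 9 n20533 = n26063 := rfl
theorem F116669 : act 5 n26063 = n20534 := d38_1 D26063 (iv D20534) D20533
theorem F116670 : act 7 n26063 = n21112 := d43_1 D26063 (iv D21112) (iv F92579)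
def n26064 : Q := act 3 n20535
theorem D26064 : act 3 n20535 = n26064 := rfl
def n26065 : Q := act 9 n20535
theorem D26065 : act 9 n20535 = n26065 := rfl
theorem F116676 : act 4 n26065 = n20536 := d34_1 D26065 (iv D20536) D20535
def n26067 : Q := act 6 n20537
theorem D26067 : act 6 n20537 = n26067 := rfl
theorem F116683 : act 0 n26067 = n20538 := d5_1 D26067 (iv D20538) D20537
theorem F116684 : act 2 n26067 = n21985 := d20_1 D26067 (iv D21985) (iv F92592)
theorem F116685 : act 8 n26067 = n26067 := d40_2 F92594 D26067 (iv D26067)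
def n26068 : Q := act 5 n20538
theorem D26068 : act 5 n20538 = n26068 := rfl
theorem F116686 : act 1 n26068 = n20539 := d12_1 D26068 (iv D20539) (iv F92595)
theorem F116687 : act 2 n26068 = n21986 := d19_1 D26068 (iv D21986) (iv F92596)
theorem F116688 : act 6 n26068 = n26068 := d35_2 D20538 D26068 (iv D26068) (iv D20538) F73060
def n26069 : Q := act 7 n20538
theorem D26069 : act 7 n20538 = n26069 := rfl
theorem F116689 : act 1 n26069 = n20540 := d14_1 D26069 (iv D20540) (iv F92595)
theorem F116690 : act 2 n26069 = n21987 := d21_1 D26069 (iv D21987) (iv F92596)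
theorem F116691 : act 8 n26069 = n26069 := d42_2 F92597 D26069 (iv D26069)
def n26070 : Q := act 4 n20539
theorem D26070 : act 4 n20539 = n26070 := rfl
theorem F116692 : act 2 n26070 = n20541 := d18_1 D26070 (iv D20541) (iv F92598)
theorem F116693 : act 6 n26070 = n26070 := d31_2 F92599 D26070 (iv D26070)
def n26071 : Q := act 7 n20539
theorem D26071 : act 7 n20539 = n26071 := rfl
theorem F116694 : act 2 n26071 = n20542 := d21_1 D26071 (iv D20542) (iv F92598)
theorem F116695 : act 5 n26071 = n20540 := d36_1 D26071 (iv D20540) D20539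
def n26072 : Q := act 8 n20539
theorem D26072 : act 8 n20539 = n26072 := rfl
theorem F116696 : act 2 n26072 = n20543 := d22_1 D26072 (iv D20543) (iv F92598)
theorem F116697 : act 5 n26072 = n26072 := d37_1 D26072 (iv D26072) (iv D20539) F73063 D20539
theorem F116698 : act 6 n26072 = n26072 := d40_1 D26072 (iv D26072) F92599
theorem F116699 : act 9 n26072 = n26072 := d44_2 F105591 D26072 (iv D26072) (iv F105591) F105590
def n26073 : Q := act 7 n20541
theorem D26073 : act 7 n20541 = n26073 := rfl
theorem F116701 : act 3 n26073 = n20552 := d27_1 D26073 (iv D20552) (iv F92603)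
theorem F116702 : act 4 n26073 = n20542 := d32_1 D26073 (iv D20542) D20541
def n26075 : Q := act 6 n20542
theorem D26075 : act 6 n20542 = n26075 := rfl
theorem F116708 : act 1 n26075 = n21993 := d13_1 D26075 (iv D21993) (iv F92605)
theorem F116709 : act 3 n26075 = n20544 := d26_1 D26075 (iv D20544) (iv F92606)
theorem F116710 : act 7 n26075 = n26075 := d39_2 D20542 D26075 (iv D26075) (iv D20542) F73066
def n26076 : Q := act 8 n20542
theorem D26076 : act 8 n20542 = n26076 := rfl
theorem F116712 : act 3 n26076 = n20545 := d28_1 D26076 (iv D20545) (iv F92606)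
theorem F116713 : act 5 n26076 = n26076 := d37_1 D26076 (iv D26076) F92607 F73069 (iv F92607)
theorem F116714 : act 7 n26076 = n20543 := d42_1 D26076 (iv D20543) D20542
theorem F116715 : act 9 n26076 = n26076 := d44_2 F105608 D26076 (iv D26076) (iv F105608) F105607
def n26077 : Q := act 8 n20544
theorem D26077 : act 8 n20544 = n26077 := rfl
theorem F116717 : act 4 n26077 = n20556 := d33_1 D26077 (iv D20556) (iv F92614)
theorem F116718 : act 6 n26077 = n20545 := d40_1 D26077 (iv D20545) D20544
theorem F116719 : act 7 n26077 = n26077 := d42_1 D26077 (iv D26077) F92615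
theorem F116720 : act 9 n26077 = n26077 := d44_2 F105615 D26077 (iv D26077) (iv F105615) F105614
def n26086 : Q := act 6 n20550
theorem D26086 : act 6 n20550 = n26086 := rfl
theorem F116747 : act 5 n26086 = n20574 := d35_1 D26086 (iv D20574) F73154 (iv F73088) (iv F92634)
def n26088 : Q := act 6 n20552
theorem D26088 : act 6 n20552 = n26088 := rfl
theorem F116754 : act 4 n26088 = n20554 := d31_1 D26088 (iv D20554) (iv F92640)
theorem F116755 : act 7 n26088 = n26088 := d39_2 D20552 D26088 (iv D26088) (iv D20552) F73091
def n26092 : Q := act 5 n20557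
theorem D26092 : act 5 n20557 = n26092 := rfl
theorem F116769 : act 0 n26092 = n20558 := d4_1 D26092 (iv D20558) (iv F92659)
def n26094 : Q := act 7 n20558
theorem D26094 : act 7 n20558 = n26094 := rfl
theorem F116777 : act 1 n26094 = n20561 := d14_1 D26094 (iv D20561) (iv F92663)
theorem F116780 : act 9 n26094 = n20571 := d43_2 (iv F92666) D26094 (iv D20571)
def n26095 : Q := act 3 n20560
theorem D26095 : act 3 n20560 = n26095 := rfl
theorem F116781 : act 6 n26095 = n26095 := d26_2 F92672 D26095 (iv D26095)
theorem F116782 : act 9 n26095 = n20572 := d29_2 (iv F92673) D26095 (iv D20572)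
def n26096 : Q := act 7 n20560
theorem D26096 : act 7 n20560 = n26096 := rfl
theorem F116783 : act 2 n26096 = n20563 := d21_1 D26096 (iv D20563) (iv F92671)
theorem F116784 : act 4 n26096 = n20561 := d32_1 D26096 (iv D20561) D20560
theorem F116785 : act 9 n26096 = n20573 := d43_2 (iv F92673) D26096 (iv D20573)
def n26097 : Q := act 6 n20561
theorem D26097 : act 6 n20561 = n26097 := rfl
theorem F116786 : act 2 n26097 = n20565 := d20_1 D26097 (iv D20565) (iv F92674)
theorem F116787 : act 7 n26097 = n26097 := d39_2 D20561 D26097 (iv D26097) (iv D20561) F73116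
theorem F116788 : act 9 n26097 = n20574 := d41_2 (iv F92676) D26097 (iv D20574)
def n26098 : Q := act 8 n20561
theorem D26098 : act 8 n20561 = n26098 := rfl
theorem F116789 : act 2 n26098 = n20566 := d22_1 D26098 (iv D20566) (iv F92674)
theorem F116790 : act 5 n26098 = n20817 := d37_1 D26098 (iv D20817) F73773 (iv F73119) (iv F92675)
def n26099 : Q := act 6 n20563
theorem D26099 : act 6 n20563 = n26099 := rfl
theorem F116793 : act 1 n26099 = n22021 := d13_1 D26099 (iv D22021) (iv F92681)
theorem F116794 : act 4 n26099 = n20565 := d31_1 D26099 (iv D20565) (iv F92682)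
theorem F116795 : act 7 n26099 = n26099 := d39_2 D20563 D26099 (iv D26099) (iv D20563) F73122
theorem F116796 : act 9 n26099 = n20575 := d41_2 (iv F92683) D26099 (iv D20575)
def n26100 : Q := act 8 n20563
theorem D26100 : act 8 n20563 = n26100 := rfl
theorem F116797 : act 1 n26100 = n21578 := d15_1 D26100 F96719 (iv F92681)
theorem F116798 : act 4 n26100 = n20566 := d33_1 D26100 (iv D20566) (iv F92682)
theorem F116799 : act 7 n26100 = n20564 := d42_1 D26100 (iv D20564) D20563
theorem F116800 : act 9 n26100 = n26100 := d44_2 (iv F92683) D26100 (iv D26100) F92683 F73158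
theorem F116801 : act 5 n21577 = n26100 := d36_3 F116799 (iv F92688) D21577
def n26101 : Q := act 8 n20565
theorem D26101 : act 8 n20565 = n26101 := rfl
theorem F116802 : act 1 n26101 = n22022 := d15_1 D26101 (iv D22022) (iv F92689)
theorem F116803 : act 3 n26101 = n20567 := d28_1 D26101 (iv D20567) (iv F92690)
theorem F116804 : act 5 n26101 = n26101 := d37_1 D26101 (iv D26101) (iv F106191) F106193 F106191
theorem F116805 : act 6 n26101 = n20566 := d40_1 D26101 (iv D20566) D20565
theorem F116806 : act 7 n26101 = n26101 := d42_1 D26101 (iv D26101) F92691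
theorem F116807 : act 9 n26101 = n26101 := d44_2 (iv F92692) D26101 (iv D26101) F92692 F73162
def n26102 : Q := act 4 n20568
theorem D26102 : act 4 n20568 = n26102 := rfl
theorem F116808 : act 0 n26102 = n20570 := d3_1 D26102 (iv D20570) (iv F92703)
def n26104 : Q := act 3 n20570
theorem D26104 : act 3 n20570 = n26104 := rfl
theorem F116816 : act 1 n26104 = n20572 := d10_1 D26104 (iv D20572) (iv F92710)
theorem F116817 : act 6 n26104 = n26104 := d26_2 F92712 D26104 (iv D26104)
theorem F116818 : act 8 n26104 = n26104 := d28_2 F92713 D26104 (iv D26104)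
def n26105 : Q := act 7 n20570
theorem D26105 : act 7 n20570 = n26105 := rfl
theorem F116819 : act 1 n26105 = n20573 := d14_1 D26105 (iv D20573) (iv F92710)
theorem F116821 : act 4 n26105 = n20571 := d32_1 D26105 (iv D20571) D20570
def n26106 : Q := act 6 n20571
theorem D26106 : act 6 n20571 = n26106 := rfl
theorem F116823 : act 1 n26106 = n20574 := d13_1 D26106 (iv D20574) (iv F92714)
def n26107 : Q := act 7 n20572
theorem D26107 : act 7 n20572 = n26107 := rfl
theorem F116827 : act 3 n26107 = n20573 := d27_1 D26107 (iv D20573) D20572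
theorem F116828 : act 8 n26107 = n26107 := d42_2 F92719 D26107 (iv D26107)
def n26108 : Q := act 6 n20573
theorem D26108 : act 6 n20573 = n26108 := rfl
theorem F116829 : act 2 n26108 = n20575 := d20_1 D26108 (iv D20575) (iv F92720)
theorem F116830 : act 4 n26108 = n20574 := d31_1 D26108 (iv D20574) (iv F92721)
theorem F116831 : act 7 n26108 = n26108 := d39_2 D20573 D26108 (iv D26108) (iv D20573) F73151
theorem F116832 : act 8 n26108 = n26108 := d40_2 F92722 D26108 (iv D26108)
def n26109 : Q := act 5 n20575
theorem D26109 : act 5 n20575 = n26109 := rfl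
theorem F116833 : act 1 n26109 = n22028 := d12_1 D26109 (iv D22028) (iv F92726)
theorem F116834 : act 7 n26109 = n26109 := d36_2 F92728 D26109 (iv D26109)
def n26132 : Q := act 6 n20594
theorem D26132 : act 6 n20594 = n26132 := rfl
theorem F116931 : act 0 n26132 = n20633 := d5_1 D26132 (iv D20633) (iv F92808)
theorem F116932 : act 2 n26132 = n20595 := d20_1 D26132 (iv D20595) D20594
theorem F116934 : act 9 n26132 = n20599 := d41_2 (iv F92811) D26132 (iv D20599)
def n26133 : Q := act 5 n20595
theorem D26133 : act 5 n20595 = n26133 := rfl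
theorem F116935 : act 0 n26133 = n20634 := d4_1 D26133 (iv D20634) (iv F92812)
theorem F116938 : act 9 n26133 = n20600 := d38_2 (iv F92814) D26133 (iv D20600)
def n26134 : Q := act 7 n20595
theorem D26134 : act 7 n20595 = n26134 := rfl
theorem F116939 : act 0 n26134 = n20635 := d6_1 D26134 (iv D20635) (iv F92812)
theorem F116940 : act 3 n26134 = n20597 := d27_1 D26134 (iv D20597) (iv F92813)
theorem F116941 : act 9 n26134 = n20601 := d43_2 (iv F92814) D26134 (iv D20601)
def n26135 : Q := act 7 n20596
theorem D26135 : act 7 n20596 = n26135 := rfl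
theorem F116942 : act 0 n26135 = n20636 := d6_1 D26135 (iv D20636) (iv F92815)
theorem F116945 : act 5 n26135 = n20597 := d36_1 D26135 (iv D20597) D20596
theorem F116946 : act 9 n26135 = n20602 := d43_2 (iv F92819) D26135 (iv D20602)
def n26136 : Q := act 8 n20596
theorem D26136 : act 8 n20596 = n26136 := rfl
theorem F116947 : act 0 n26136 = n20637 := d7_1 D26136 (iv D20637) (iv F92815)
def n26140 : Q := act 7 n20599
theorem D26140 : act 7 n20599 = n26140 := rfl
theorem F116962 : act 0 n26140 = n20641 := d6_1 D26140 (iv D20641) (iv F92827)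
theorem F116963 : act 2 n26140 = n20601 := d21_1 D26140 (iv D20601) (iv F92828)
theorem F116965 : act 8 n26140 = n20613 := d42_2 (iv F92830) D26140 (iv D20613)
def n26141 : Q := act 4 n20600
theorem D26141 : act 4 n20600 = n26141 := rfl
theorem F116966 : act 0 n26141 = n20642 := d3_1 D26141 (iv D20642) (iv F92831)
def n26142 : Q := act 7 n20600
theorem D26142 : act 7 n20600 = n26142 := rfl
theorem F116969 : act 0 n26142 = n20643 := d6_1 D26142 (iv D20643) (iv F92831)
theorem F116971 : act 5 n26142 = n20601 := d36_1 D26142 (iv D20601) D20600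
def n26144 : Q := act 6 n20602
theorem D26144 : act 6 n20602 = n26144 := rfl
theorem F116976 : act 0 n26144 = n20645 := d5_1 D26144 (iv D20645) (iv F92837)
def n26147 : Q := act 0 n20604
theorem D26147 : act 0 n20604 = n26147 := rfl
theorem F116990 : act 1 n26147 = n20648 := d0_2 D20604 D26147 (iv D20648) (iv D16131) (iv F73257)
theorem F116992 : act 5 n26147 = n21183 := d4_2 (iv F92847) D26147 (iv D21183)
theorem F116993 : act 6 n26147 = n20733 := d5_2 F109628 D26147 (iv F109625)
def n26148 : Q := act 7 n20605
theorem D26148 : act 7 n20605 = n26148 := rfl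
theorem F116996 : act 2 n26148 = n20607 := d21_1 D26148 (iv D20607) (iv F92850)
theorem F116997 : act 3 n26148 = n22076 := d27_1 D26148 (iv D22076) (iv F92851)
def n26149 : Q := act 7 n20606
theorem D26149 : act 7 n20606 = n26149 := rfl
theorem F117000 : act 3 n26149 = n20608 := d27_1 D26149 (iv D20608) (iv F92853)
theorem F117001 : act 5 n26149 = n20607 := d36_1 D26149 (iv D20607) D20606
def n26150 : Q := act 6 n20608
theorem D26150 : act 6 n20608 = n26150 := rfl
theorem F117006 : act 7 n26150 = n21186 := d39_2 D20608 D26150 (iv D21186) (iv D16539) (iv F73266)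
def n26159 : Q := act 7 n20614
theorem D26159 : act 7 n20614 = n26159 := rfl
def n26160 : Q := act 8 n20614
theorem D26160 : act 8 n20614 = n26160 := rfl
theorem F117046 : act 1 n26160 = n20650 := d15_1 D26160 F109120 F109116
theorem F117050 : act 6 n26160 = n21196 := d40_1 D26160 (iv D21196) (iv F92880)
def n26162 : Q := act 8 n20615
theorem D26162 : act 8 n20615 = n26162 := rfl
theorem F117057 : act 7 n26162 = n20616 := d42_1 D26162 (iv D20616) D20615
def n26165 : Q := act 9 n20618
theorem D26165 : act 9 n20618 = n26165 := rfl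
theorem F117066 : act 0 n26165 = n20670 := d8_1 D26165 (iv D20670) (iv F92891)
def n26173 : Q := act 9 n20626
theorem D26173 : act 9 n20626 = n26173 := rfl
theorem F117112 : act 1 n26173 = n21715 := d16_1 D26173 F97311 (iv F92931)
theorem F117116 : act 6 n26173 = n21209 := d41_1 D26173 (iv D21209) (iv F92934)
def n26179 : Q := act 6 n20632
theorem D26179 : act 6 n20632 = n26179 := rfl
theorem F117138 : act 1 n26179 = n20633 := d13_1 D26179 (iv D20633) D20632
theorem F117139 : act 2 n26179 = n20686 := d20_1 D26179 (iv D20686) (iv F92956)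
theorem F117141 : act 9 n26179 = n20639 := d41_2 (iv F92959) D26179 (iv D20639)
def n26180 : Q := act 5 n20633
theorem D26180 : act 5 n20633 = n26180 := rfl
theorem F117142 : act 2 n26180 = n20634 := d19_1 D26180 (iv D20634) (iv F92960)
theorem F117145 : act 9 n26180 = n20640 := d38_2 (iv F92962) D26180 (iv D20640)
def n26181 : Q := act 7 n20633
theorem D26181 : act 7 n20633 = n26181 := rfl
theorem F117146 : act 2 n26181 = n20635 := d21_1 D26181 (iv D20635) (iv F92960)
theorem F117147 : act 3 n26181 = n22130 := d27_1 D26181 (iv D22130) (iv F92961)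
theorem F117148 : act 9 n26181 = n20641 := d43_2 (iv F92962) D26181 (iv D20641)
def n26182 : Q := act 4 n20634
theorem D26182 : act 4 n20634 = n26182 := rfl
theorem F117149 : act 1 n26182 = n20689 := d11_1 D26182 (iv D20689) (iv F92963)
theorem F117150 : act 3 n26182 = n26182 := d24_1 D26182 (iv D26182) F92964 F73331 (iv F92964)
theorem F117151 : act 6 n26182 = n26182 := d31_2 F92965 D26182 (iv D26182)
theorem F117152 : act 9 n26182 = n20642 := d34_2 (iv F92966) D26182 (iv D20642)
def n26183 : Q := act 7 n20634
theorem D26183 : act 7 n20634 = n26183 := rfl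
theorem F117153 : act 1 n26183 = n20690 := d14_1 D26183 (iv D20690) (iv F92963)
theorem F117154 : act 3 n26183 = n20636 := d27_1 D26183 (iv D20636) (iv F92964)
theorem F117155 : act 5 n26183 = n20635 := d36_1 D26183 (iv D20635) D20634
theorem F117156 : act 9 n26183 = n20643 := d43_2 (iv F92966) D26183 (iv D20643)
def n26184 : Q := act 8 n20634
theorem D26184 : act 8 n20634 = n26184 := rfl
theorem F117157 : act 1 n26184 = n20691 := d15_1 D26184 (iv D20691) (iv F92963)
theorem F117158 : act 3 n26184 = n20637 := d28_1 D26184 (iv D20637) (iv F92964)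
theorem F117159 : act 6 n26184 = n26184 := d40_1 D26184 (iv D26184) F92965
def n26185 : Q := act 6 n20636
theorem D26185 : act 6 n20636 = n26185 := rfl
theorem F117160 : act 1 n26185 = n20692 := d13_1 D26185 (iv D20692) (iv F92970)
theorem F117161 : act 2 n26185 = n22134 := d20_1 D26185 (iv D22134) (iv F92971)
theorem F117162 : act 4 n26185 = n26185 := d31_1 D26185 (iv D26185) F92972
theorem F117163 : act 7 n26185 = n26185 := d39_2 D20636 D26185 (iv D26185) (iv D20636) F73332
theorem F117164 : act 9 n26185 = n20645 := d41_2 (iv F92974) D26185 (iv D20645)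
def n26186 : Q := act 8 n20636
theorem D26186 : act 8 n20636 = n26186 := rfl
theorem F117165 : act 1 n26186 = n20693 := d15_1 D26186 (iv D20693) (iv F92970)
theorem F117166 : act 2 n26186 = n22135 := d22_1 D26186 (iv D22135) (iv F92971)
theorem F117167 : act 4 n26186 = n26186 := d33_1 D26186 (iv D26186) F92972
theorem F117168 : act 7 n26186 = n20637 := d42_1 D26186 (iv D20637) D20636
def n26187 : Q := act 9 n20637
theorem D26187 : act 9 n20637 = n26187 := rfl
theorem F117169 : act 1 n26187 = n20694 := d16_1 D26187 (iv D20694) (iv F92975)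
theorem F117173 : act 8 n26187 = n20647 := d44_1 D26187 (iv D20647) (iv D16130) (iv F73333) D20637
def n26189 : Q := act 5 n20639
theorem D26189 : act 5 n20639 = n26189 := rfl
theorem F117179 : act 2 n26189 = n20696 := d19_1 D26189 (iv D20696) (iv F92984)
theorem F117180 : act 3 n26189 = n22138 := d25_1 D26189 (iv D22138) (iv F92985)
def n26190 : Q := act 7 n20639
theorem D26190 : act 7 n20639 = n26190 := rfl
theorem F117182 : act 1 n26190 = n20641 := d14_1 D26190 (iv D20641) (iv F92983)
theorem F117183 : act 2 n26190 = n20697 := d21_1 D26190 (iv D20697) (iv F92984)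
def n26191 : Q := act 4 n20640
theorem D26191 : act 4 n20640 = n26191 := rfl
theorem F117186 : act 2 n26191 = n20642 := d18_1 D26191 (iv D20642) (iv F92987)
def n26192 : Q := act 7 n20640
theorem D26192 : act 7 n20640 = n26192 := rfl
theorem F117188 : act 2 n26192 = n20643 := d21_1 D26192 (iv D20643) (iv F92987)
theorem F117190 : act 5 n26192 = n20641 := d36_1 D26192 (iv D20641) D20640
def n26194 : Q := act 7 n20642
theorem D26194 : act 7 n20642 = n26194 := rfl
theorem F117195 : act 1 n26194 = n20701 := d14_1 D26194 (iv D20701) (iv F92993)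
theorem F117196 : act 3 n26194 = n26194 := d27_1 D26194 (iv D26194) F92994
theorem F117197 : act 4 n26194 = n20643 := d32_1 D26194 (iv D20643) D20642
def n26195 : Q := act 8 n20642
theorem D26195 : act 8 n20642 = n26195 := rfl
theorem F117198 : act 1 n26195 = n20702 := d15_1 D26195 (iv D20702) (iv F92993)
theorem F117200 : act 4 n26195 = n20644 := d33_1 D26195 (iv D20644) D20642
def n26196 : Q := act 6 n20643
theorem D26196 : act 6 n20643 = n26196 := rfl
theorem F117202 : act 1 n26196 = n20703 := d13_1 D26196 (iv D20703) (iv F92996)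
theorem F117203 : act 3 n26196 = n20645 := d26_1 D26196 (iv D20645) (iv F92997)
theorem F117204 : act 7 n26196 = n26196 := d39_2 D20643 D26196 (iv D26196) (iv D20643) F73347
def n26197 : Q := act 8 n20643
theorem D26197 : act 8 n20643 = n26197 := rfl
theorem F117205 : act 1 n26197 = n20704 := d15_1 D26197 (iv D20704) (iv F92996)
theorem F117207 : act 5 n26197 = n20667 := d37_1 D26197 (iv D20667) F73396 (iv F73350) (iv F92998)
def n26198 : Q := act 9 n20644
theorem D26198 : act 9 n20644 = n26198 := rfl
theorem F117209 : act 1 n26198 = n20705 := d16_1 D26198 (iv D20705) (iv F92999)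
def n26199 : Q := act 8 n20645
theorem D26199 : act 8 n20645 = n26199 := rfl
theorem F117213 : act 1 n26199 = n20706 := d15_1 D26199 (iv D20706) (iv F93003)
theorem F117216 : act 6 n26199 = n20646 := d40_1 D26199 (iv D20646) D20645
def n26200 : Q := act 9 n20646
theorem D26200 : act 9 n20646 = n26200 := rfl
theorem F117218 : act 1 n26200 = n20707 := d16_1 D26200 (iv D20707) (iv F93007)
theorem F117221 : act 5 n26200 = n20670 := d38_1 D26200 (iv D20670) (iv F93010)
def n26204 : Q := act 7 n20652
theorem D26204 : act 7 n20652 = n26204 := rfl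
theorem F117237 : act 4 n26204 = n20653 := d32_1 D26204 (iv D20653) D20652
def n26206 : Q := act 8 n20653
theorem D26206 : act 8 n20653 = n26206 := rfl
theorem F117243 : act 3 n26206 = n20656 := d28_1 D26206 (iv D20656) (iv F93034)
def n26207 : Q := act 9 n20654
theorem D26207 : act 9 n20654 = n26207 := rfl
theorem F117246 : act 3 n26207 = n20657 := d29_1 D26207 (iv D20657) (iv F93037)
def n26209 : Q := act 9 n20656
theorem D26209 : act 9 n20656 = n26209 := rfl
theorem F117253 : act 1 n26209 = n20720 := d16_1 D26209 (iv D20720) (iv F93044)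
theorem F117255 : act 4 n26209 = n26209 := d34_1 D26209 (iv D26209) F93046
theorem F117256 : act 7 n26209 = n20657 := d43_1 D26209 (iv D20657) (iv F93047)
def n26212 : Q := act 4 n20659
theorem D26212 : act 4 n20659 = n26212 := rfl
theorem F117265 : act 2 n26212 = n20723 := d18_1 D26212 (iv D20723) (iv F93056)
theorem F117266 : act 6 n26212 = n21225 := d31_2 (iv F93058) D26212 (iv D21225)
def n26214 : Q := act 8 n20659
theorem D26214 : act 8 n20659 = n26214 := rfl
theorem F117272 : act 2 n26214 = n20725 := d22_1 D26214 (iv D20725) (iv F93056)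
theorem F117274 : act 6 n26214 = n21227 := d40_1 D26214 (iv D21227) (iv F93058)
def n26221 : Q := act 6 n20664
theorem D26221 : act 6 n20664 = n26221 := rfl
theorem F117297 : act 1 n26221 = n20731 := d13_1 D26221 (iv D20731) (iv F93070)
theorem F117299 : act 4 n26221 = n20666 := d31_1 D26221 (iv D20666) (iv F93072)
theorem F117300 : act 7 n26221 = n21234 := d39_2 D20664 D26221 (iv D21234) (iv D16579) (iv F73393)
def n26224 : Q := act 8 n20666
theorem D26224 : act 8 n20666 = n26224 := rfl
theorem F117309 : act 1 n26224 = n20735 := d15_1 D26224 (iv D20735) (iv F93077)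
theorem F117311 : act 6 n26224 = n20667 := d40_1 D26224 (iv D20667) D20666
theorem F117312 : act 7 n26224 = n21237 := d42_1 D26224 (iv D21237) (iv F93079)
def n26225 : Q := act 9 n20667
theorem D26225 : act 9 n20667 = n26225 := rfl
theorem F117313 : act 1 n26225 = n20736 := d16_1 D26225 (iv D20736) (iv F93080)
theorem F117314 : act 3 n26225 = n20670 := d29_1 D26225 (iv D20670) (iv F93081)
def n26226 : Q := act 5 n20669
theorem D26226 : act 5 n20669 = n26226 := rfl
theorem F117316 : act 1 n26226 = n20737 := d12_1 D26226 (iv D20737) (iv F93086)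
theorem F117318 : act 7 n26226 = n21239 := d36_2 (iv F93090) D26226 (iv D21239)
def n26231 : Q := act 9 n20673
theorem D26231 : act 9 n20673 = n26231 := rfl
theorem F117345 : act 5 n26231 = n21811 := d38_1 D26231 F97697 F93109
theorem F117346 : act 6 n26231 = n21244 := d41_1 D26231 (iv D21244) (iv F93108)
def n26236 : Q := act 5 n20678
theorem D26236 : act 5 n20678 = n26236 := rfl
theorem F117365 : act 1 n26236 = n20741 := d12_1 D26236 (iv D20741) (iv F93128)
theorem F117368 : act 7 n26236 = n20679 := d36_2 (iv F93130) D26236 (iv D20679)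
theorem F117369 : act 6 n22159 = n26236 := d39_5 F117368 F93135 F77970 D17302 D22159
def n26243 : Q := act 6 n20685
theorem D26243 : act 6 n20685 = n26243 := rfl
theorem F117398 : act 0 n26243 = n20686 := d5_1 D26243 (iv D20686) D20685
theorem F117400 : act 9 n26243 = n20695 := d41_2 (iv F93158) D26243 (iv D20695)
def n26244 : Q := act 5 n20686
theorem D26244 : act 5 n20686 = n26244 := rfl
theorem F117401 : act 1 n26244 = n20687 := d12_1 D26244 (iv D20687) (iv F93159)
theorem F117402 : act 3 n26244 = n20750 := d25_1 D26244 (iv D20750) (iv F93160)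
theorem F117403 : act 6 n26244 = n26244 := d35_2 D20686 D26244 (iv D26244) (iv D20686) F73450
theorem F117404 : act 9 n26244 = n20696 := d38_2 (iv F93161) D26244 (iv D20696)
def n26245 : Q := act 7 n20686
theorem D26245 : act 7 n20686 = n26245 := rfl
theorem F117405 : act 1 n26245 = n20688 := d14_1 D26245 (iv D20688) (iv F93159)
theorem F117407 : act 9 n26245 = n20697 := d43_2 (iv F93161) D26245 (iv D20697)
def n26246 : Q := act 4 n20687
theorem D26246 : act 4 n20687 = n26246 := rfl
theorem F117408 : act 2 n26246 = n20689 := d18_1 D26246 (iv D20689) (iv F93162)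
theorem F117410 : act 9 n26246 = n20698 := d34_2 (iv F93165) D26246 (iv D20698)
def n26247 : Q := act 7 n20687
theorem D26247 : act 7 n20687 = n26247 := rfl
theorem F117411 : act 2 n26247 = n20690 := d21_1 D26247 (iv D20690) (iv F93162)
theorem F117412 : act 3 n26247 = n20753 := d27_1 D26247 (iv D20753) (iv F93163)
theorem F117413 : act 5 n26247 = n20688 := d36_1 D26247 (iv D20688) D20687
theorem F117414 : act 9 n26247 = n20699 := d43_2 (iv F93165) D26247 (iv D20699)
def n26248 : Q := act 8 n20687
theorem D26248 : act 8 n20687 = n26248 := rfl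
theorem F117415 : act 2 n26248 = n20691 := d22_1 D26248 (iv D20691) (iv F93162)
theorem F117416 : act 3 n26248 = n20754 := d28_1 D26248 (iv D20754) (iv F93163)
theorem F117417 : act 6 n26248 = n26248 := d40_1 D26248 (iv D26248) F93164
def n26249 : Q := act 7 n20689
theorem D26249 : act 7 n20689 = n26249 := rfl
theorem F117418 : act 3 n26249 = n26249 := d27_1 D26249 (iv D26249) F93169
theorem F117419 : act 4 n26249 = n20690 := d32_1 D26249 (iv D20690) D20689
theorem F117420 : act 9 n26249 = n20701 := d43_2 (iv F93171) D26249 (iv D20701)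
def n26250 : Q := act 8 n20689
theorem D26250 : act 8 n20689 = n26250 := rfl
theorem F117421 : act 3 n26250 = n26250 := d28_1 D26250 (iv D26250) F93169
theorem F117422 : act 4 n26250 = n20691 := d33_1 D26250 (iv D20691) D20689
theorem F117423 : act 6 n26250 = n26250 := d40_1 D26250 (iv D26250) F93170
def n26251 : Q := act 6 n20690
theorem D26251 : act 6 n20690 = n26251 := rfl
theorem F117424 : act 3 n26251 = n20692 := d26_1 D26251 (iv D20692) (iv F93172)
theorem F117425 : act 7 n26251 = n26251 := d39_2 D20690 D26251 (iv D26251) (iv D20690) F73456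
theorem F117426 : act 9 n26251 = n20703 := d41_2 (iv F93174) D26251 (iv D20703)
def n26252 : Q := act 8 n20690
theorem D26252 : act 8 n20690 = n26252 := rfl
theorem F117427 : act 3 n26252 = n20693 := d28_1 D26252 (iv D20693) (iv F93172)
theorem F117428 : act 7 n26252 = n20691 := d42_1 D26252 (iv D20691) D20690
def n26253 : Q := act 9 n20691
theorem D26253 : act 9 n20691 = n26253 := rfl
theorem F117429 : act 3 n26253 = n20694 := d29_1 D26253 (iv D20694) (iv F93175)
theorem F117430 : act 6 n26253 = n26253 := d41_1 D26253 (iv D26253) F93176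
theorem F117431 : act 8 n26253 = n20705 := d44_1 D26253 (iv D20705) (iv D16169) (iv F73457) D20691
def n26254 : Q := act 8 n20692
theorem D26254 : act 8 n20692 = n26254 := rfl
theorem F117432 : act 2 n26254 = n20760 := d22_1 D26254 (iv D20760) (iv F93177)
theorem F117433 : act 4 n26254 = n26254 := d33_1 D26254 (iv D26254) F93178
theorem F117434 : act 6 n26254 = n20693 := d40_1 D26254 (iv D20693) D20692
theorem F117435 : act 7 n26254 = n26254 := d42_1 D26254 (iv D26254) F93179
def n26255 : Q := act 9 n20693
theorem D26255 : act 9 n20693 = n26255 := rfl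
theorem F117436 : act 2 n26255 = n20761 := d23_1 D26255 (iv D20761) (iv F93181)
theorem F117437 : act 4 n26255 = n26255 := d34_1 D26255 (iv D26255) F93182
theorem F117438 : act 7 n26255 = n20694 := d43_1 D26255 (iv D20694) (iv F93183)
theorem F117439 : act 8 n26255 = n20707 := d44_1 D26255 (iv D20707) (iv D16171) (iv F73463) D20693
def n26256 : Q := act 5 n20695
theorem D26256 : act 5 n20695 = n26256 := rfl
theorem F117440 : act 0 n26256 = n20696 := d4_1 D26256 (iv D20696) (iv F93188)
def n26257 : Q := act 7 n20695
theorem D26257 : act 7 n20695 = n26257 := rfl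
theorem F117443 : act 0 n26257 = n20697 := d6_1 D26257 (iv D20697) (iv F93188)
def n26258 : Q := act 4 n20696
theorem D26258 : act 4 n20696 = n26258 := rfl
theorem F117446 : act 1 n26258 = n20698 := d11_1 D26258 (iv D20698) (iv F93191)
def n26259 : Q := act 7 n20696
theorem D26259 : act 7 n20696 = n26259 := rfl
theorem F117448 : act 1 n26259 = n20699 := d14_1 D26259 (iv D20699) (iv F93191)
theorem F117450 : act 5 n26259 = n20697 := d36_1 D26259 (iv D20697) D20696
def n26260 : Q := act 8 n20696
theorem D26260 : act 8 n20696 = n26260 := rfl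
theorem F117451 : act 1 n26260 = n20700 := d15_1 D26260 (iv D20700) (iv F93191)
theorem F117453 : act 5 n26260 = n20725 := d37_1 D26260 (iv D20725) (iv D16184) (iv F73472) D20696
def n26262 : Q := act 7 n20698
theorem D26262 : act 7 n20698 = n26262 := rfl
theorem F117458 : act 2 n26262 = n20701 := d21_1 D26262 (iv D20701) (iv F93197)
theorem F117459 : act 4 n26262 = n20699 := d32_1 D26262 (iv D20699) D20698
def n26263 : Q := act 8 n20698
theorem D26263 : act 8 n20698 = n26263 := rfl
theorem F117460 : act 2 n26263 = n20702 := d22_1 D26263 (iv D20702) (iv F93197)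
theorem F117461 : act 4 n26263 = n20700 := d33_1 D26263 (iv D20700) D20698
def n26264 : Q := act 6 n20699
theorem D26264 : act 6 n20699 = n26264 := rfl
theorem F117463 : act 2 n26264 = n20703 := d20_1 D26264 (iv D20703) (iv F93199)
theorem F117464 : act 3 n26264 = n20770 := d26_1 D26264 (iv D20770) (iv F93200)
theorem F117465 : act 7 n26264 = n26264 := d39_2 D20699 D26264 (iv D26264) (iv D20699) F73475
def n26265 : Q := act 8 n20699
theorem D26265 : act 8 n20699 = n26265 := rfl
theorem F117466 : act 2 n26265 = n20704 := d22_1 D26265 (iv D20704) (iv F93199)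
theorem F117467 : act 3 n26265 = n20771 := d28_1 D26265 (iv D20771) (iv F93200)
theorem F117468 : act 5 n26265 = n20729 := d37_1 D26265 (iv D20729) F73536 (iv F73478) (iv F93201)
theorem F117469 : act 7 n26265 = n20700 := d42_1 D26265 (iv D20700) D20699
def n26266 : Q := act 9 n20700
theorem D26266 : act 9 n20700 = n26266 := rfl
theorem F117470 : act 2 n26266 = n20705 := d23_1 D26266 (iv D20705) (iv F93202)
theorem F117471 : act 3 n26266 = n20772 := d29_1 D26266 (iv D20772) (iv F93203)
theorem F117472 : act 5 n26266 = n20730 := d38_1 D26266 (iv D20730) (iv F93204)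
theorem F117473 : act 6 n26266 = n26266 := d41_1 D26266 (iv D26266) F93205
def n26267 : Q := act 6 n20701
theorem D26267 : act 6 n20701 = n26267 := rfl
theorem F117474 : act 3 n26267 = n26267 := d26_1 D26267 (iv D26267) F93206
theorem F117475 : act 4 n26267 = n20703 := d31_1 D26267 (iv D20703) (iv F93207)
theorem F117476 : act 7 n26267 = n26267 := d39_2 D20701 D26267 (iv D26267) (iv D20701) F73480
def n26268 : Q := act 8 n20701
theorem D26268 : act 8 n20701 = n26268 := rfl
theorem F117477 : act 3 n26268 = n26268 := d28_1 D26268 (iv D26268) F93206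
theorem F117478 : act 4 n26268 = n20704 := d33_1 D26268 (iv D20704) (iv F93207)
theorem F117479 : act 7 n26268 = n20702 := d42_1 D26268 (iv D20702) D20701
def n26269 : Q := act 5 n20702
theorem D26269 : act 5 n20702 = n26269 := rfl
theorem F117481 : act 4 n26269 = n20733 := d30_1 D26269 (iv D20733) F73543 (iv F73484) (iv F93209)
def n26270 : Q := act 9 n20702
theorem D26270 : act 9 n20702 = n26270 := rfl
theorem F117482 : act 3 n26270 = n26270 := d29_1 D26270 (iv D26270) F93208
theorem F117483 : act 4 n26270 = n20705 := d34_1 D26270 (iv D20705) (iv F93209)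
theorem F117484 : act 6 n26270 = n26270 := d41_1 D26270 (iv D26270) F93210
def n26271 : Q := act 8 n20703
theorem D26271 : act 8 n20703 = n26271 := rfl
theorem F117485 : act 3 n26271 = n20706 := d28_1 D26271 (iv D20706) (iv F93211)
theorem F117486 : act 6 n26271 = n20704 := d40_1 D26271 (iv D20704) D20703
theorem F117487 : act 7 n26271 = n26271 := d42_1 D26271 (iv D26271) F93212
def n26272 : Q := act 9 n20704
theorem D26272 : act 9 n20704 = n26272 := rfl
theorem F117488 : act 3 n26272 = n20707 := d29_1 D26272 (iv D20707) (iv F93213)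
theorem F117489 : act 5 n26272 = n20736 := d38_1 D26272 (iv D20736) (iv F93214)
theorem F117490 : act 7 n26272 = n20705 := d43_1 D26272 (iv D20705) (iv F93215)
def n26273 : Q := act 5 n20706
theorem D26273 : act 5 n20706 = n26273 := rfl
theorem F117491 : act 2 n26273 = n20778 := d19_1 D26273 (iv D20778) (iv F93219)
theorem F117492 : act 6 n26273 = n20737 := d35_2 (iv F93221) D26273 (iv D20737) F73553 (iv F73491)
theorem F117493 : act 7 n26273 = n26273 := d36_2 F93222 D26273 (iv D26273)
def n26274 : Q := act 9 n20706
theorem D26274 : act 9 n20706 = n26274 := rfl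
theorem F117494 : act 2 n26274 = n20779 := d23_1 D26274 (iv D20779) (iv F93219)
theorem F117495 : act 4 n26274 = n26274 := d34_1 D26274 (iv D26274) F93220
theorem F117496 : act 6 n26274 = n20707 := d41_1 D26274 (iv D20707) (iv F93221)
theorem F117497 : act 7 n26274 = n26274 := d43_1 D26274 (iv D26274) F93222
def n26287 : Q := act 5 n20719
theorem D26287 : act 5 n20719 = n26287 := rfl
theorem F117535 : act 2 n26287 = n20796 := d19_1 D26287 (iv D20796) (iv F93255)
theorem F117537 : act 8 n26287 = n20737 := d37_2 D20719 D26287 (iv D20737) (iv D16194) (iv F73516)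
def n26288 : Q := act 9 n20719
theorem D26288 : act 9 n20719 = n26288 := rfl
theorem F117538 : act 2 n26288 = n20797 := d23_1 D26288 (iv D20797) (iv F93255)
theorem F117539 : act 4 n26288 = n26288 := d34_1 D26288 (iv D26288) F93256
theorem F117540 : act 6 n26288 = n20720 := d41_1 D26288 (iv D20720) (iv F93257)
def n26292 : Q := act 7 n20723
theorem D26292 : act 7 n20723 = n26292 := rfl
theorem F117551 : act 1 n26292 = n20726 := d14_1 D26292 (iv D20726) (iv F93267)
def n26295 : Q := act 8 n20724
theorem D26295 : act 8 n20724 = n26295 := rfl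
theorem F117561 : act 1 n26295 = n20729 := d15_1 D26295 (iv D20729) (iv F93270)
theorem F117563 : act 7 n26295 = n20725 := d42_1 D26295 (iv D20725) D20724
def n26296 : Q := act 9 n20725
theorem D26296 : act 9 n20725 = n26296 := rfl
theorem F117564 : act 1 n26296 = n20730 := d16_1 D26296 (iv D20730) (iv F93273)
def n26297 : Q := act 6 n20726
theorem D26297 : act 6 n20726 = n26297 := rfl
theorem F117570 : act 7 n26297 = n21278 := d39_2 D20726 D26297 (iv D21278) (iv D16618) (iv F73533)
def n26298 : Q := act 8 n20726
theorem D26298 : act 8 n20726 = n26298 := rfl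
theorem F117573 : act 4 n26298 = n20729 := d33_1 D26298 (iv D20729) (iv F93278)
theorem F117574 : act 7 n26298 = n20727 := d42_1 D26298 (iv D20727) D20726
def n26300 : Q := act 9 n20727
theorem D26300 : act 9 n20727 = n26300 := rfl
theorem F117579 : act 4 n26300 = n20730 := d34_1 D26300 (iv D20730) (iv F93281)
def n26301 : Q := act 8 n20728
theorem D26301 : act 8 n20728 = n26301 := rfl
theorem F117583 : act 6 n26301 = n20729 := d40_1 D26301 (iv D20729) D20728
theorem F117584 : act 7 n26301 = n21282 := d42_1 D26301 (iv D21282) (iv F93285)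
def n26302 : Q := act 9 n20729
theorem D26302 : act 9 n20729 = n26302 := rfl
theorem F117585 : act 2 n26302 = n20736 := d23_1 D26302 (iv D20736) (iv F93286)
theorem F117586 : act 3 n26302 = n20804 := d29_1 D26302 (iv D20804) (iv F93287)
theorem F117587 : act 7 n26302 = n20730 := d43_1 D26302 (iv D20730) (iv F93288)
def n26306 : Q := act 9 n20732
theorem D26306 : act 9 n20732 = n26306 := rfl
theorem F117597 : act 4 n26306 = n20736 := d34_1 D26306 (iv D20736) (iv F93296)
def n26308 : Q := act 5 n20735
theorem D26308 : act 5 n20735 = n26308 := rfl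
theorem F117601 : act 3 n26308 = n20737 := d25_1 D26308 (iv D20737) (iv F93302)
theorem F117602 : act 7 n26308 = n21289 := d36_2 (iv F93304) D26308 (iv D21289)
def n26309 : Q := act 9 n20735
theorem D26309 : act 9 n20735 = n26309 := rfl
theorem F117603 : act 3 n26309 = n20738 := d29_1 D26309 (iv D20738) (iv F93302)
theorem F117604 : act 6 n26309 = n20736 := d41_1 D26309 (iv D20736) (iv F93303)
def n26310 : Q := act 4 n20737
theorem D26310 : act 4 n20737 = n26310 := rfl
theorem F117606 : act 2 n26310 = n20807 := d18_1 D26310 (iv D20807) (iv F93307)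
theorem F117608 : act 7 n26310 = n21291 := d32_2 (iv F93308) D26310 (iv D21291)
def n26311 : Q := act 9 n20737
theorem D26311 : act 9 n20737 = n26311 := rfl
theorem F117609 : act 2 n26311 = n20808 := d23_1 D26311 (iv D20808) (iv F93307)
theorem F117610 : act 5 n26311 = n20738 := d38_1 D26311 (iv D20738) D20737
def n26313 : Q := act 5 n20740
theorem D26313 : act 5 n20740 = n26313 := rfl
theorem F117616 : act 7 n26313 = n21294 := d36_2 (iv F93319) D26313 (iv D21294)
def n26315 : Q := act 6 n20741
theorem D26315 : act 6 n20741 = n26315 := rfl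
theorem F117622 : act 1 n26315 = n22159 := d13_1 D26315 F117369 F117365
theorem F117625 : act 7 n26315 = n22081 := d39_2 (iv F93322) D26315 (iv D22081) F93331 (iv D20743)
def n26324 : Q := act 5 n20749
theorem D26324 : act 5 n20749 = n26324 := rfl
theorem F117659 : act 0 n26324 = n20750 := d4_1 D26324 (iv D20750) (iv F93352)
theorem F117662 : act 9 n26324 = n20762 := d38_2 (iv F93355) D26324 (iv D20762)
def n26325 : Q := act 7 n20749
theorem D26325 : act 7 n20749 = n26325 := rfl
theorem F117664 : act 2 n26325 = n22312 := d21_1 D26325 (iv D22312) (iv F93353)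
theorem F117666 : act 9 n26325 = n20763 := d43_2 (iv F93355) D26325 (iv D20763)
def n26326 : Q := act 7 n20750
theorem D26326 : act 7 n20750 = n26326 := rfl
theorem F117667 : act 1 n26326 = n20753 := d14_1 D26326 (iv D20753) (iv F93356)
theorem F117670 : act 9 n26326 = n20765 := d43_2 (iv F93359) D26326 (iv D20765)
def n26328 : Q := act 7 n20752
theorem D26328 : act 7 n20752 = n26328 := rfl
theorem F117675 : act 2 n26328 = n20755 := d21_1 D26328 (iv D20755) (iv F93364)
theorem F117676 : act 4 n26328 = n20753 := d32_1 D26328 (iv D20753) D20752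
theorem F117678 : act 9 n26328 = n20768 := d43_2 (iv F93367) D26328 (iv D20768)
def n26329 : Q := act 6 n20753
theorem D26329 : act 6 n20753 = n26329 := rfl
theorem F117679 : act 2 n26329 = n20757 := d20_1 D26329 (iv D20757) (iv F93368)
theorem F117680 : act 7 n26329 = n26329 := d39_2 D20753 D26329 (iv D26329) (iv D20753) F73593
theorem F117681 : act 9 n26329 = n20770 := d41_2 (iv F93370) D26329 (iv D20770)
def n26330 : Q := act 8 n20753
theorem D26330 : act 8 n20753 = n26330 := rfl
theorem F117682 : act 2 n26330 = n20758 := d22_1 D26330 (iv D20758) (iv F93368)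
theorem F117683 : act 7 n26330 = n20754 := d42_1 D26330 (iv D20754) D20753
def n26331 : Q := act 9 n20754
theorem D26331 : act 9 n20754 = n26331 := rfl
theorem F117684 : act 2 n26331 = n20759 := d23_1 D26331 (iv D20759) (iv F93371)
theorem F117685 : act 6 n26331 = n26331 := d41_1 D26331 (iv D26331) F93372
theorem F117686 : act 8 n26331 = n20772 := d44_1 D26331 (iv D20772) (iv D16219) (iv F73594) D20754
def n26332 : Q := act 6 n20755
theorem D26332 : act 6 n20755 = n26332 := rfl
theorem F117687 : act 1 n26332 = n22315 := d13_1 D26332 (iv D22315) (iv F93373)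
theorem F117688 : act 3 n26332 = n26332 := d26_1 D26332 (iv D26332) F93374
theorem F117689 : act 4 n26332 = n20757 := d31_1 D26332 (iv D20757) (iv F93375)
theorem F117690 : act 5 n26332 = n26332 := d35_1 D26332 (iv D26332) F93376 F73782 (iv F93376)
theorem F117691 : act 7 n26332 = n26332 := d39_2 D20755 D26332 (iv D26332) (iv D20755) F73601
theorem F117692 : act 9 n26332 = n20773 := d41_2 (iv F93377) D26332 (iv D20773)
def n26333 : Q := act 8 n20755
theorem D26333 : act 8 n20755 = n26333 := rfl
theorem F117693 : act 1 n26333 = n21625 := d15_1 D26333 F96953 (iv F93373)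
theorem F117694 : act 3 n26333 = n26333 := d28_1 D26333 (iv D26333) F93374
theorem F117695 : act 4 n26333 = n20758 := d33_1 D26333 (iv D20758) (iv F93375)
theorem F117696 : act 5 n26333 = n21624 := d37_1 D26333 F96947 F93615 (iv D20818) (iv F93376)
theorem F117697 : act 7 n26333 = n20756 := d42_1 D26333 (iv D20756) D20755
def n26334 : Q := act 9 n20756
theorem D26334 : act 9 n20756 = n26334 := rfl
theorem F117698 : act 1 n26334 = n21615 := d16_1 D26334 F96900 (iv F93378)
theorem F117699 : act 3 n26334 = n26334 := d29_1 D26334 (iv D26334) F93379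
theorem F117700 : act 4 n26334 = n20759 := d34_1 D26334 (iv D20759) (iv F93380)
theorem F117701 : act 5 n26334 = n21614 := d38_1 D26334 F96895 (iv F93381)
theorem F117702 : act 6 n26334 = n26334 := d41_1 D26334 (iv D26334) F93382
theorem F117703 : act 8 n26334 = n20775 := d44_1 D26334 (iv D20775) (iv D16221) (iv F73602) D20756
def n26335 : Q := act 8 n20757
theorem D26335 : act 8 n20757 = n26335 := rfl
theorem F117704 : act 1 n26335 = n22316 := d15_1 D26335 (iv D22316) (iv F93383)
theorem F117705 : act 3 n26335 = n20760 := d28_1 D26335 (iv D20760) (iv F93384)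
theorem F117706 : act 6 n26335 = n20758 := d40_1 D26335 (iv D20758) D20757
theorem F117707 : act 7 n26335 = n26335 := d42_1 D26335 (iv D26335) F93385
def n26336 : Q := act 9 n20758
theorem D26336 : act 9 n20758 = n26336 := rfl
theorem F117708 : act 1 n26336 = n22317 := d16_1 D26336 (iv D22317) (iv F93387)
theorem F117709 : act 3 n26336 = n20761 := d29_1 D26336 (iv D20761) (iv F93388)
theorem F117710 : act 7 n26336 = n20759 := d43_1 D26336 (iv D20759) (iv F93389)
theorem F117711 : act 8 n26336 = n20777 := d44_1 D26336 (iv D20777) (iv D16223) (iv F73606) D20758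
def n26337 : Q := act 5 n20760
theorem D26337 : act 5 n20760 = n26337 := rfl
theorem F117712 : act 1 n26337 = n22318 := d12_1 D26337 (iv D22318) (iv F93394)
theorem F117713 : act 7 n26337 = n26337 := d36_2 F93397 D26337 (iv D26337)
def n26338 : Q := act 9 n20760
theorem D26338 : act 9 n20760 = n26338 := rfl
theorem F117714 : act 1 n26338 = n22319 := d16_1 D26338 (iv D22319) (iv F93394)
theorem F117715 : act 4 n26338 = n26338 := d34_1 D26338 (iv D26338) F93395
theorem F117716 : act 6 n26338 = n20761 := d41_1 D26338 (iv D20761) (iv F93396)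
theorem F117717 : act 7 n26338 = n26338 := d43_1 D26338 (iv D26338) F93397
theorem F117718 : act 8 n26338 = n20779 := d44_1 D26338 (iv D20779) (iv D16225) (iv F73613) D20760
def n26339 : Q := act 4 n20762
theorem D26339 : act 4 n20762 = n26339 := rfl
theorem F117721 : act 5 n26339 = n20819 := d30_2 D20762 D26339 (iv D20819) (iv D16262) (iv F73623)
def n26340 : Q := act 7 n20762
theorem D26340 : act 7 n20762 = n26340 := rfl
theorem F117724 : act 2 n26340 = n22321 := d21_1 D26340 (iv D22321) (iv F93403)
theorem F117725 : act 5 n26340 = n20763 := d36_1 D26340 (iv D20763) D20762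
def n26343 : Q := act 7 n20764
theorem D26343 : act 7 n20764 = n26343 := rfl
theorem F117736 : act 5 n26343 = n20822 := d36_1 D26343 (iv D20822) (iv F93411)
def n26344 : Q := act 8 n20764
theorem D26344 : act 8 n20764 = n26344 := rfl
theorem F117739 : act 4 n26344 = n20766 := d33_1 D26344 (iv D20766) D20764
def n26345 : Q := act 6 n20765
theorem D26345 : act 6 n20765 = n26345 := rfl
theorem F117742 : act 1 n26345 = n20770 := d13_1 D26345 (iv D20770) (iv F93413)
def n26346 : Q := act 8 n20765
theorem D26346 : act 8 n20765 = n26346 := rfl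
theorem F117745 : act 1 n26346 = n20771 := d15_1 D26346 (iv D20771) (iv F93413)
theorem F117747 : act 5 n26346 = n20801 := d37_1 D26346 (iv D20801) F73721 (iv F73631) (iv F93415)
theorem F117748 : act 7 n26346 = n20766 := d42_1 D26346 (iv D20766) D20765
def n26347 : Q := act 9 n20766
theorem D26347 : act 9 n20766 = n26347 := rfl
theorem F117749 : act 1 n26347 = n20772 := d16_1 D26347 (iv D20772) (iv F93416)
theorem F117751 : act 5 n26347 = n20802 := d38_1 D26347 (iv D20802) (iv F93418)
theorem F117752 : act 6 n26347 = n26347 := d41_1 D26347 (iv D26347) F93419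
def n26350 : Q := act 6 n20768
theorem D26350 : act 6 n20768 = n26350 := rfl
theorem F117760 : act 2 n26350 = n20773 := d20_1 D26350 (iv D20773) (iv F93423)
theorem F117761 : act 4 n26350 = n20770 := d31_1 D26350 (iv D20770) (iv F93424)
def n26351 : Q := act 8 n20768
theorem D26351 : act 8 n20768 = n26351 := rfl
theorem F117764 : act 2 n26351 = n20774 := d22_1 D26351 (iv D20774) (iv F93423)
theorem F117765 : act 4 n26351 = n20771 := d33_1 D26351 (iv D20771) (iv F93424)
def n26352 : Q := act 9 n20769
theorem D26352 : act 9 n20769 = n26352 := rfl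
theorem F117768 : act 2 n26352 = n20775 := d23_1 D26352 (iv D20775) (iv F93426)
theorem F117769 : act 4 n26352 = n20772 := d34_1 D26352 (iv D20772) (iv F93427)
def n26353 : Q := act 8 n20770
theorem D26353 : act 8 n20770 = n26353 := rfl
theorem F117772 : act 2 n26353 = n20776 := d22_1 D26353 (iv D20776) (iv F93430)
theorem F117773 : act 6 n26353 = n20771 := d40_1 D26353 (iv D20771) D20770
theorem F117774 : act 7 n26353 = n26353 := d42_1 D26353 (iv D26353) F93431
def n26354 : Q := act 9 n20771
theorem D26354 : act 9 n20771 = n26354 := rfl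
theorem F117775 : act 2 n26354 = n20777 := d23_1 D26354 (iv D20777) (iv F93432)
theorem F117776 : act 5 n26354 = n20804 := d38_1 D26354 (iv D20804) (iv F93433)
theorem F117777 : act 7 n26354 = n20772 := d43_1 D26354 (iv D20772) (iv F93434)
def n26355 : Q := act 8 n20773
theorem D26355 : act 8 n20773 = n26355 := rfl
theorem F117778 : act 1 n26355 = n22332 := d15_1 D26355 (iv D22332) (iv F93438)
theorem F117779 : act 3 n26355 = n26355 := d28_1 D26355 (iv D26355) F93439
theorem F117780 : act 4 n26355 = n20776 := d33_1 D26355 (iv D20776) (iv F93440)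
theorem F117781 : act 6 n26355 = n20774 := d40_1 D26355 (iv D20774) D20773
theorem F117782 : act 7 n26355 = n26355 := d42_1 D26355 (iv D26355) F93442
def n26356 : Q := act 9 n20774
theorem D26356 : act 9 n20774 = n26356 := rfl
theorem F117783 : act 1 n26356 = n22333 := d16_1 D26356 (iv D22333) (iv F93443)
theorem F117784 : act 3 n26356 = n26356 := d29_1 D26356 (iv D26356) F93444
theorem F117785 : act 4 n26356 = n20777 := d34_1 D26356 (iv D20777) (iv F93445)
theorem F117786 : act 5 n26356 = n26356 := d38_1 D26356 (iv D26356) F93446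
theorem F117787 : act 7 n26356 = n20775 := d43_1 D26356 (iv D20775) (iv F93447)
def n26357 : Q := act 5 n20776
theorem D26357 : act 5 n20776 = n26357 := rfl
theorem F117789 : act 3 n26357 = n20778 := d25_1 D26357 (iv D20778) (iv F93454)
theorem F117790 : act 6 n26357 = n20805 := d35_2 (iv F93455) D26357 (iv D20805) F73738 (iv F73654)
theorem F117791 : act 7 n26357 = n26357 := d36_2 F93456 D26357 (iv D26357)
def n26358 : Q := act 9 n20776
theorem D26358 : act 9 n20776 = n26358 := rfl
theorem F117792 : act 1 n26358 = n22335 := d16_1 D26358 (iv D22335) (iv F93453)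
theorem F117793 : act 3 n26358 = n20779 := d29_1 D26358 (iv D20779) (iv F93454)
theorem F117794 : act 6 n26358 = n20777 := d41_1 D26358 (iv D20777) (iv F93455)
theorem F117795 : act 7 n26358 = n26358 := d43_1 D26358 (iv D26358) F93456
def n26359 : Q := act 4 n20778
theorem D26359 : act 4 n20778 = n26359 := rfl
theorem F117796 : act 1 n26359 = n22336 := d11_1 D26359 (iv D22336) (iv F93461)
theorem F117797 : act 5 n26359 = n26359 := d30_2 D20778 D26359 (iv D26359) (iv D20778) F73661
theorem F117798 : act 6 n26359 = n20807 := d31_2 (iv F93462) D26359 (iv D20807)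
theorem F117799 : act 7 n26359 = n26359 := d32_2 F93463 D26359 (iv D26359)
def n26360 : Q := act 9 n20778
theorem D26360 : act 9 n20778 = n26360 := rfl
theorem F117801 : act 5 n26360 = n20779 := d38_1 D26360 (iv D20779) D20778
theorem F117802 : act 6 n26360 = n20808 := d41_1 D26360 (iv D20808) (iv F93462)
theorem F117803 : act 7 n26360 = n26360 := d43_1 D26360 (iv D26360) F93463
def n26380 : Q := act 4 n20796
theorem D26380 : act 4 n20796 = n26380 := rfl
theorem F117886 : act 5 n26380 = n26380 := d30_2 D20796 D26380 (iv D26380) (iv D20796) F73705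
theorem F117887 : act 7 n26380 = n21327 := d32_2 (iv F93525) D26380 (iv D21327)
theorem F117888 : act 8 n26380 = n20807 := d33_2 (iv F93526) D26380 (iv D20807)
def n26381 : Q := act 9 n20796
theorem D26381 : act 9 n20796 = n26381 := rfl
theorem F117890 : act 5 n26381 = n20797 := d38_1 D26381 (iv D20797) D20796
theorem F117891 : act 7 n26381 = n21328 := d43_1 D26381 (iv D21328) (iv F93525)
def n26382 : Q := act 6 n20798
theorem D26382 : act 6 n20798 = n26382 := rfl
theorem F117895 : act 7 n26382 = n21329 := d39_2 D20798 D26382 (iv D21329) (iv D16660) (iv F73714)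
def n26385 : Q := act 8 n20800
theorem D26385 : act 8 n20800 = n26385 := rfl
theorem F117907 : act 6 n26385 = n20801 := d40_1 D26385 (iv D20801) D20800
def n26386 : Q := act 9 n20801
theorem D26386 : act 9 n20801 = n26386 := rfl
theorem F117909 : act 1 n26386 = n20804 := d16_1 D26386 (iv D20804) (iv F93543)
theorem F117912 : act 7 n26386 = n20802 := d43_1 D26386 (iv D20802) (iv F93546)
def n26387 : Q := act 5 n20803
theorem D26387 : act 5 n20803 = n26387 := rfl
theorem F117913 : act 2 n26387 = n20805 := d19_1 D26387 (iv D20805) (iv F93551)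
def n26388 : Q := act 9 n20803
theorem D26388 : act 9 n20803 = n26388 := rfl
theorem F117915 : act 2 n26388 = n20806 := d23_1 D26388 (iv D20806) (iv F93551)
theorem F117917 : act 6 n26388 = n20804 := d41_1 D26388 (iv D20804) (iv F93553)
def n26389 : Q := act 4 n20805
theorem D26389 : act 4 n20805 = n26389 := rfl
def n26390 : Q := act 9 n20805
theorem D26390 : act 9 n20805 = n26390 := rfl
theorem F117923 : act 3 n26390 = n20808 := d29_1 D26390 (iv D20808) (iv F93559)
theorem F117924 : act 5 n26390 = n20806 := d38_1 D26390 (iv D20806) D20805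
theorem F117925 : act 7 n26390 = n21337 := d43_1 D26390 (iv D21337) (iv F93560)
def n26391 : Q := act 3 n20807
theorem D26391 : act 3 n20807 = n26391 := rfl
theorem F117928 : act 7 n26391 = n21338 := d27_2 (iv F93568) D26391 (iv D21338)
def n26392 : Q := act 9 n20807
theorem D26392 : act 9 n20807 = n26392 := rfl
def n26393 : Q := act 8 n20808
theorem D26393 : act 8 n20808 = n26393 := rfl
def n26416 : Q := act 9 n20837
theorem D26416 : act 9 n20837 = n26416 := rfl
theorem F118041 : act 5 n26416 = n20853 := d38_1 D26416 (iv D20853) (iv F93697)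
def n26418 : Q := act 7 n20839
theorem D26418 : act 7 n20839 = n26418 := rfl
theorem F118053 : act 6 n26418 = n20847 := d39_1 D26418 (iv D20847) (iv D16289) (iv F73889) D20839
def n26419 : Q := act 7 n20840
theorem D26419 : act 7 n20840 = n26419 := rfl
theorem F118056 : act 3 n26419 = n20842 := d27_1 D26419 (iv D20842) (iv F93708)
theorem F118057 : act 5 n26419 = n20841 := d36_1 D26419 (iv D20841) D20840
def n26424 : Q := act 6 n20844
theorem D26424 : act 6 n20844 = n26424 := rfl
theorem F118076 : act 3 n26424 = n22390 := d26_1 D26424 (iv D22390) (iv F93724)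
def n26431 : Q := act 8 n20848
theorem D26431 : act 8 n20848 = n26431 := rfl
theorem F118108 : act 3 n26431 = n20860 := d28_1 D26431 (iv D20860) (iv F93741)
def n26434 : Q := act 9 n20850
theorem D26434 : act 9 n20850 = n26434 := rfl
theorem F118118 : act 8 n26434 = n21199 := d44_1 D26434 (iv D21199) (iv D16547) (iv F73914) D20850
def n26438 : Q := act 8 n20854
theorem D26438 : act 8 n20854 = n26438 := rfl
theorem F118137 : act 2 n26438 = n22573 := d22_1 D26438 F100793 (iv F93764)
theorem F118138 : act 3 n26438 = n22405 := d28_1 D26438 (iv D22405) (iv F93765)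
theorem F118141 : act 9 n26438 = n22567 := d44_2 (iv F93766) D26438 (iv D22567) F79382 (iv F74928)
def n26440 : Q := act 8 n20856
theorem D26440 : act 8 n20856 = n26440 := rfl
theorem F118151 : act 2 n26440 = n20860 := d22_1 D26440 (iv D20860) (iv F93777)
theorem F118154 : act 9 n26440 = n22564 := d44_2 (iv F93779) D26440 (iv D22564) F79373 F74941
def n26446 : Q := act 5 n20860
theorem D26446 : act 5 n20860 = n26446 := rfl
def n26447 : Q := act 9 n20860
theorem D26447 : act 9 n20860 = n26447 := rfl
theorem F118182 : act 1 n26447 = n22454 := d16_1 D26447 (iv F110334) F110331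
theorem F118183 : act 2 n26447 = n22564 := d23_1 D26447 (iv F118154) F118151
def n26449 : Q := act 9 n20862
theorem D26449 : act 9 n20862 = n26449 := rfl
theorem F118192 : act 7 n26449 = n20863 := d43_1 D26449 (iv D20863) (iv F93803)
theorem F118193 : act 8 n26449 = n21211 := d44_1 D26449 (iv D21211) (iv D16559) (iv F73950) D20862
def n26453 : Q := act 6 n20866
theorem D26453 : act 6 n20866 = n26453 := rfl
theorem F118206 : act 1 n26453 = n20867 := d13_1 D26453 (iv D20867) D20866
theorem F118207 : act 2 n26453 = n20938 := d20_1 D26453 (iv D20938) (iv F93816)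
theorem F118208 : act 3 n26453 = n22421 := d26_1 D26453 (iv D22421) (iv F93817)
def n26454 : Q := act 5 n20867
theorem D26454 : act 5 n20867 = n26454 := rfl
theorem F118210 : act 2 n26454 = n20868 := d19_1 D26454 (iv D20868) (iv F93820)
theorem F118212 : act 6 n26454 = n20880 := d35_2 D20867 D26454 (iv D20880) (iv D16312) (iv F73967)
def n26455 : Q := act 7 n20867
theorem D26455 : act 7 n20867 = n26455 := rfl
theorem F118214 : act 2 n26455 = n20869 := d21_1 D26455 (iv D20869) (iv F93820)
theorem F118215 : act 3 n26455 = n22423 := d27_1 D26455 (iv D22423) (iv F93821)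
theorem F118216 : act 9 n26455 = n26455 := d43_2 F93822 D26455 (iv D26455)
def n26456 : Q := act 4 n20868
theorem D26456 : act 4 n20868 = n26456 := rfl
theorem F118217 : act 1 n26456 = n20941 := d11_1 D26456 (iv D20941) (iv F93823)
theorem F118219 : act 6 n26456 = n20882 := d31_2 (iv F93825) D26456 (iv D20882)
def n26457 : Q := act 7 n20868
theorem D26457 : act 7 n20868 = n26457 := rfl
theorem F118221 : act 1 n26457 = n20942 := d14_1 D26457 (iv D20942) (iv F93823)
theorem F118222 : act 3 n26457 = n20870 := d27_1 D26457 (iv D20870) (iv F93824)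
theorem F118223 : act 5 n26457 = n20869 := d36_1 D26457 (iv D20869) D20868
theorem F118224 : act 9 n26457 = n26457 := d43_2 F93826 D26457 (iv D26457)
def n26458 : Q := act 8 n20868
theorem D26458 : act 8 n20868 = n26458 := rfl
theorem F118225 : act 1 n26458 = n20943 := d15_1 D26458 (iv D20943) (iv F93823)
theorem F118227 : act 6 n26458 = n20884 := d40_1 D26458 (iv D20884) (iv F93825)
def n26459 : Q := act 6 n20870
theorem D26459 : act 6 n20870 = n26459 := rfl
theorem F118228 : act 1 n26459 = n20944 := d13_1 D26459 (iv D20944) (iv F93830)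
def n26460 : Q := act 8 n20870
theorem D26460 : act 8 n20870 = n26460 := rfl
theorem F118233 : act 1 n26460 = n20945 := d15_1 D26460 (iv D20945) (iv F93830)
theorem F118236 : act 7 n26460 = n20871 := d42_1 D26460 (iv D20871) D20870
def n26461 : Q := act 9 n20871
theorem D26461 : act 9 n20871 = n26461 := rfl
theorem F118237 : act 1 n26461 = n20946 := d16_1 D26461 (iv D20946) (iv F93835)
theorem F118240 : act 6 n26461 = n20887 := d41_1 D26461 (iv D20887) (iv F93838)
def n26463 : Q := act 6 n20872
theorem D26463 : act 6 n20872 = n26463 := rfl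
theorem F118248 : act 1 n26463 = n20873 := d13_1 D26463 (iv D20873) D20872
theorem F118249 : act 2 n26463 = n20953 := d20_1 D26463 (iv D20953) (iv F93839)
def n26465 : Q := act 7 n20873
theorem D26465 : act 7 n20873 = n26465 := rfl
theorem F118260 : act 6 n26465 = n20881 := d39_1 D26465 (iv D20881) (iv D16312) (iv F73983) D20873
def n26468 : Q := act 8 n20874
theorem D26468 : act 8 n20874 = n26468 := rfl
theorem F118271 : act 3 n26468 = n20877 := d28_1 D26468 (iv D20877) (iv F93851)
theorem F118272 : act 5 n26468 = n20894 := d37_1 D26468 (iv D20894) (iv D16319) (iv F73989) D20874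
def n26469 : Q := act 6 n20876
theorem D26469 : act 6 n20876 = n26469 := rfl
theorem F118274 : act 2 n26469 = n22436 := d20_1 D26469 (iv D22436) (iv F93860)
def n26471 : Q := act 9 n20877
theorem D26471 : act 9 n20877 = n26471 := rfl
theorem F118283 : act 5 n26471 = n20897 := d38_1 D26471 (iv D20897) (iv F93865)
def n26473 : Q := act 5 n20879
theorem D26473 : act 5 n20879 = n26473 := rfl
theorem F118291 : act 1 n26473 = n20880 := d12_1 D26473 (iv D20880) (iv F93871)
theorem F118292 : act 2 n26473 = n20963 := d19_1 D26473 (iv D20963) (iv F93872)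
theorem F118293 : act 3 n26473 = n22440 := d25_1 D26473 (iv D22440) (iv F93873)
def n26474 : Q := act 7 n20879
theorem D26474 : act 7 n20879 = n26474 := rfl
theorem F118296 : act 2 n26474 = n20964 := d21_1 D26474 (iv D20964) (iv F93872)
theorem F118297 : act 3 n26474 = n22441 := d27_1 D26474 (iv D22441) (iv F93873)
def n26479 : Q := act 8 n20882
theorem D26479 : act 8 n20882 = n26479 := rfl
theorem F118316 : act 1 n26479 = n20969 := d15_1 D26479 (iv D20969) (iv F93885)
theorem F118318 : act 4 n26479 = n20884 := d33_1 D26479 (iv D20884) D20882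
def n26482 : Q := act 9 n20884
theorem D26482 : act 9 n20884 = n26482 := rfl
theorem F118326 : act 1 n26482 = n20972 := d16_1 D26482 (iv D20972) (iv F93893)
theorem F118328 : act 5 n26482 = n20908 := d38_1 D26482 (iv D20908) (iv F93895)
def n26484 : Q := act 9 n20886
theorem D26484 : act 9 n20886 = n26484 := rfl
theorem F118334 : act 1 n26484 = n20974 := d16_1 D26484 (iv D20974) (iv F93900)
theorem F118337 : act 5 n26484 = n20910 := d38_1 D26484 (iv D20910) (iv F93903)
theorem F118338 : act 7 n26484 = n20887 := d43_1 D26484 (iv D20887) (iv F93904)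
def n26485 : Q := act 6 n20888
theorem D26485 : act 6 n20888 = n26485 := rfl
theorem F118342 : act 2 n26485 = n20975 := d20_1 D26485 (iv D20975) (iv F93910)
def n26486 : Q := act 5 n20889
theorem D26486 : act 5 n20889 = n26486 := rfl
theorem F118348 : act 1 n26486 = n20890 := d12_1 D26486 (iv D20890) (iv F93915)
theorem F118349 : act 2 n26486 = n20976 := d19_1 D26486 (iv D20976) (iv F93916)
def n26487 : Q := act 7 n20889
theorem D26487 : act 7 n20889 = n26487 := rfl
theorem F118355 : act 3 n26487 = n22452 := d27_1 D26487 (iv D22452) (iv F93917)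
theorem F118357 : act 6 n26487 = n20900 := d39_1 D26487 (iv D20900) (iv D16324) (iv F74030) D20889
def n26488 : Q := act 7 n20890
theorem D26488 : act 7 n20890 = n26488 := rfl
theorem F118359 : act 2 n26488 = n20893 := d21_1 D26488 (iv D20893) (iv F93920)
theorem F118361 : act 5 n26488 = n20891 := d36_1 D26488 (iv D20891) D20890
def n26494 : Q := act 9 n20894
theorem D26494 : act 9 n20894 = n26494 := rfl
theorem F118381 : act 3 n26494 = n20897 := d29_1 D26494 (iv D20897) (iv F93937)
def n26499 : Q := act 4 n20899
theorem D26499 : act 4 n20899 = n26499 := rfl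
theorem F118402 : act 2 n26499 = n20990 := d18_1 D26499 (iv D20990) (iv F93957)
theorem F118404 : act 9 n26499 = n21225 := d34_2 (iv F93959) D26499 (iv D21225)
def n26500 : Q := act 7 n20899
theorem D26500 : act 7 n20899 = n26500 := rfl
theorem F118406 : act 2 n26500 = n20991 := d21_1 D26500 (iv D20991) (iv F93957)
theorem F118407 : act 3 n26500 = n22465 := d27_1 D26500 (iv D22465) (iv F93958)
def n26501 : Q := act 8 n20899
theorem D26501 : act 8 n20899 = n26501 := rfl
theorem F118411 : act 2 n26501 = n20992 := d22_1 D26501 (iv D20992) (iv F93957)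
theorem F118412 : act 3 n26501 = n22466 := d28_1 D26501 (iv D22466) (iv F93958)
def n26509 : Q := act 8 n20904
theorem D26509 : act 8 n20904 = n26509 := rfl
theorem F118437 : act 1 n26509 = n20999 := d15_1 D26509 (iv D20999) (iv F93974)
theorem F118440 : act 7 n26509 = n20905 := d42_1 D26509 (iv D20905) D20904
def n26510 : Q := act 5 n20905
theorem D26510 : act 5 n20905 = n26510 := rfl
theorem F118441 : act 1 n26510 = n21000 := d12_1 D26510 (iv D21000) (iv F93979)
def n26513 : Q := act 9 n20907
theorem D26513 : act 9 n20907 = n26513 := rfl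
theorem F118451 : act 1 n26513 = n21003 := d16_1 D26513 (iv D21003) (iv F93985)
theorem F118452 : act 3 n26513 = n20910 := d29_1 D26513 (iv D20910) (iv F93986)
theorem F118453 : act 7 n26513 = n20908 := d43_1 D26513 (iv D20908) (iv F93987)
def n26525 : Q := act 8 n20917
theorem D26525 : act 8 n20917 = n26525 := rfl
theorem F118507 : act 6 n26525 = n20918 := d40_1 D26525 (iv D20918) D20917
def n26526 : Q := act 5 n20918
theorem D26526 : act 5 n20918 = n26526 := rfl
theorem F118508 : act 1 n26526 = n21008 := d12_1 D26526 (iv D21008) (iv F94031)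
theorem F118510 : act 7 n26526 = n20919 := d36_2 (iv F94033) D26526 (iv D20919)
def n26528 : Q := act 6 n20919
theorem D26528 : act 6 n20919 = n26528 := rfl
theorem F118516 : act 1 n26528 = n21010 := d13_1 D26528 (iv D21010) (iv F94034)
def n26530 : Q := act 5 n20921
theorem D26530 : act 5 n20921 = n26530 := rfl
theorem F118522 : act 1 n26530 = n21012 := d12_1 D26530 (iv D21012) (iv F94040)
theorem F118523 : act 3 n26530 = n20923 := d25_1 D26530 (iv D20923) (iv F94041)
def n26533 : Q := act 9 n20923
theorem D26533 : act 9 n20923 = n26533 := rfl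
theorem F118534 : act 1 n26533 = n21015 := d16_1 D26533 (iv D21015) (iv F94048)
theorem F118535 : act 2 n26533 = n22498 := d23_1 D26533 (iv D22498) (iv F94049)
theorem F118536 : act 5 n26533 = n20924 := d38_1 D26533 (iv D20924) D20923
def n26534 : Q := act 0 n20925
theorem D26534 : act 0 n20925 = n26534 := rfl
theorem F118539 : act 4 n26534 = n20937 := d3_2 (iv F94057) D26534 (iv D20937)
def n26535 : Q := act 6 n20925
theorem D26535 : act 6 n20925 = n26535 := rfl
theorem F118542 : act 1 n26535 = n20926 := d13_1 D26535 (iv D20926) D20925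
theorem F118543 : act 3 n26535 = n26535 := d26_1 D26535 (iv D26535) F94056
theorem F118544 : act 4 n26535 = n20938 := d31_1 D26535 (iv D20938) (iv F94057)
theorem F118545 : act 9 n26535 = n26535 := d41_2 F94059 D26535 (iv D26535)
def n26536 : Q := act 5 n20926
theorem D26536 : act 5 n20926 = n26536 := rfl
theorem F118546 : act 2 n26536 = n20927 := d19_1 D26536 (iv D20927) (iv F94060)
theorem F118547 : act 3 n26536 = n26536 := d25_1 D26536 (iv D26536) F94061
theorem F118548 : act 6 n26536 = n26536 := d35_2 D20926 D26536 (iv D26536) (iv D20926) F74131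
theorem F118549 : act 9 n26536 = n26536 := d38_2 F94063 D26536 (iv D26536)
def n26537 : Q := act 7 n20926
theorem D26537 : act 7 n20926 = n26537 := rfl
theorem F118550 : act 2 n26537 = n20928 := d21_1 D26537 (iv D20928) (iv F94060)
theorem F118551 : act 3 n26537 = n26537 := d27_1 D26537 (iv D26537) F94061
theorem F118552 : act 4 n26537 = n20940 := d32_1 D26537 (iv D20940) (iv F94062)
theorem F118553 : act 9 n26537 = n26537 := d43_2 F94063 D26537 (iv D26537)
def n26538 : Q := act 4 n20927
theorem D26538 : act 4 n20927 = n26538 := rfl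
theorem F118554 : act 3 n26538 = n26538 := d24_1 D26538 (iv D26538) F94064 F74137 (iv F94064)
theorem F118555 : act 5 n26538 = n20941 := d30_2 D20927 D26538 (iv D20941) (iv D16353) (iv F74134)
theorem F118556 : act 6 n26538 = n26538 := d31_2 F94065 D26538 (iv D26538)
theorem F118557 : act 9 n26538 = n26538 := d34_2 F94066 D26538 (iv D26538)
def n26539 : Q := act 7 n20927
theorem D26539 : act 7 n20927 = n26539 := rfl
theorem F118558 : act 3 n26539 = n20929 := d27_1 D26539 (iv D20929) (iv F94064)
theorem F118559 : act 5 n26539 = n20928 := d36_1 D26539 (iv D20928) D20927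
theorem F118560 : act 9 n26539 = n26539 := d43_2 F94066 D26539 (iv D26539)
def n26540 : Q := act 8 n20927
theorem D26540 : act 8 n20927 = n26540 := rfl
theorem F118561 : act 3 n26540 = n20930 := d28_1 D26540 (iv D20930) (iv F94064)
theorem F118562 : act 6 n26540 = n26540 := d40_1 D26540 (iv D26540) F94065
def n26541 : Q := act 6 n20929
theorem D26541 : act 6 n20929 = n26541 := rfl
theorem F118563 : act 2 n26541 = n26541 := d20_1 D26541 (iv D26541) F94070
theorem F118564 : act 4 n26541 = n26541 := d31_1 D26541 (iv D26541) F94071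
theorem F118565 : act 7 n26541 = n26541 := d39_2 D20929 D26541 (iv D26541) (iv D20929) F74138
theorem F118566 : act 9 n26541 = n26541 := d41_2 F94073 D26541 (iv D26541)
def n26542 : Q := act 8 n20929
theorem D26542 : act 8 n20929 = n26542 := rfl
theorem F118567 : act 2 n26542 = n26542 := d22_1 D26542 (iv D26542) F94070
theorem F118568 : act 4 n26542 = n26542 := d33_1 D26542 (iv D26542) F94071
theorem F118569 : act 7 n26542 = n20930 := d42_1 D26542 (iv D20930) D20929
def n26543 : Q := act 9 n20930
theorem D26543 : act 9 n20930 = n26543 := rfl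
theorem F118570 : act 2 n26543 = n26543 := d23_1 D26543 (iv D26543) F94074
theorem F118571 : act 4 n26543 = n26543 := d34_1 D26543 (iv D26543) F94075
theorem F118572 : act 6 n26543 = n26543 := d41_1 D26543 (iv D26543) F94076
theorem F118573 : act 8 n26543 = n26543 := d44_1 D26543 (iv D26543) (iv D20930) F74139 D20930
def n26547 : Q := act 7 n20932
theorem D26547 : act 7 n20932 = n26547 := rfl
theorem F118585 : act 2 n26547 = n20934 := d21_1 D26547 (iv D20934) (iv F94081)
theorem F118587 : act 6 n26547 = n20940 := d39_1 D26547 (iv D20940) (iv D16352) (iv F74145) D20932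
def n26549 : Q := act 7 n20933
theorem D26549 : act 7 n20933 = n26549 := rfl
theorem F118592 : act 5 n26549 = n20934 := d36_1 D26549 (iv D20934) D20933
def n26551 : Q := act 6 n20935
theorem D26551 : act 6 n20935 = n26551 := rfl
theorem F118597 : act 5 n26551 = n20944 := d35_1 D26551 (iv D20944) F74169 (iv F74154) (iv F94091)
theorem F118598 : act 7 n26551 = n20959 := d39_2 D20935 D26551 (iv D20959) (iv D16365) (iv F74150)
def n26552 : Q := act 8 n20935
theorem D26552 : act 8 n20935 = n26552 := rfl
theorem F118600 : act 2 n26552 = n21029 := d22_1 D26552 (iv D21029) (iv F94090)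
theorem F118601 : act 7 n26552 = n20936 := d42_1 D26552 (iv D20936) D20935
def n26553 : Q := act 9 n20936
theorem D26553 : act 9 n20936 = n26553 := rfl
def n26554 : Q := act 6 n20937
theorem D26554 : act 6 n20937 = n26554 := rfl
theorem F118605 : act 0 n26554 = n20938 := d5_1 D26554 (iv D20938) D20937
theorem F118606 : act 3 n26554 = n21031 := d26_1 D26554 (iv D21031) (iv F94095)
def n26555 : Q := act 5 n20938
theorem D26555 : act 5 n20938 = n26555 := rfl
theorem F118608 : act 1 n26555 = n20939 := d12_1 D26555 (iv D20939) (iv F94098)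
theorem F118610 : act 6 n26555 = n20963 := d35_2 D20938 D26555 (iv D20963) (iv D16368) (iv F74157)
def n26556 : Q := act 7 n20938
theorem D26556 : act 7 n20938 = n26556 := rfl
theorem F118612 : act 1 n26556 = n20940 := d14_1 D26556 (iv D20940) (iv F94098)
theorem F118614 : act 9 n26556 = n26556 := d43_2 F94100 D26556 (iv D26556)
def n26557 : Q := act 4 n20939
theorem D26557 : act 4 n20939 = n26557 := rfl
theorem F118615 : act 2 n26557 = n20941 := d18_1 D26557 (iv D20941) (iv F94101)
theorem F118616 : act 6 n26557 = n20965 := d31_2 (iv F94103) D26557 (iv D20965)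
def n26558 : Q := act 7 n20939
theorem D26558 : act 7 n20939 = n26558 := rfl
theorem F118618 : act 2 n26558 = n20942 := d21_1 D26558 (iv D20942) (iv F94101)
theorem F118619 : act 3 n26558 = n21035 := d27_1 D26558 (iv D21035) (iv F94102)
theorem F118620 : act 5 n26558 = n20940 := d36_1 D26558 (iv D20940) D20939
theorem F118621 : act 9 n26558 = n26558 := d43_2 F94104 D26558 (iv D26558)
def n26559 : Q := act 8 n20939
theorem D26559 : act 8 n20939 = n26559 := rfl
theorem F118622 : act 2 n26559 = n20943 := d22_1 D26559 (iv D20943) (iv F94101)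
theorem F118623 : act 3 n26559 = n21036 := d28_1 D26559 (iv D21036) (iv F94102)
theorem F118624 : act 6 n26559 = n20967 := d40_1 D26559 (iv D20967) (iv F94103)
def n26560 : Q := act 7 n20941
theorem D26560 : act 7 n20941 = n26560 := rfl
theorem F118625 : act 3 n26560 = n26560 := d27_1 D26560 (iv D26560) F94108
theorem F118626 : act 4 n26560 = n20942 := d32_1 D26560 (iv D20942) D20941
theorem F118627 : act 9 n26560 = n26560 := d43_2 F94110 D26560 (iv D26560)
def n26561 : Q := act 8 n20941
theorem D26561 : act 8 n20941 = n26561 := rfl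
theorem F118628 : act 3 n26561 = n26561 := d28_1 D26561 (iv D26561) F94108
theorem F118629 : act 4 n26561 = n20943 := d33_1 D26561 (iv D20943) D20941
theorem F118630 : act 6 n26561 = n20969 := d40_1 D26561 (iv D20969) (iv F94109)
def n26562 : Q := act 6 n20942
theorem D26562 : act 6 n20942 = n26562 := rfl
theorem F118631 : act 3 n26562 = n20944 := d26_1 D26562 (iv D20944) (iv F94111)
theorem F118632 : act 7 n26562 = n20970 := d39_2 D20942 D26562 (iv D20970) (iv D16372) (iv F74163)
def n26563 : Q := act 8 n20942
theorem D26563 : act 8 n20942 = n26563 := rfl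
theorem F118634 : act 3 n26563 = n20945 := d28_1 D26563 (iv D20945) (iv F94111)
theorem F118635 : act 7 n26563 = n20943 := d42_1 D26563 (iv D20943) D20942
def n26564 : Q := act 9 n20943
theorem D26564 : act 9 n20943 = n26564 := rfl
theorem F118636 : act 3 n26564 = n20946 := d29_1 D26564 (iv D20946) (iv F94114)
theorem F118637 : act 6 n26564 = n20972 := d41_1 D26564 (iv D20972) (iv F94115)
theorem F118638 : act 8 n26564 = n26564 := d44_1 D26564 (iv D26564) (iv D20943) F74164 D20943
def n26565 : Q := act 8 n20944
theorem D26565 : act 8 n20944 = n26565 := rfl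
theorem F118639 : act 2 n26565 = n21042 := d22_1 D26565 (iv D21042) (iv F94116)
theorem F118641 : act 6 n26565 = n20945 := d40_1 D26565 (iv D20945) D20944
theorem F118642 : act 7 n26565 = n20973 := d42_1 D26565 (iv D20973) (iv F94118)
def n26566 : Q := act 9 n20945
theorem D26566 : act 9 n20945 = n26566 := rfl
theorem F118643 : act 2 n26566 = n21043 := d23_1 D26566 (iv D21043) (iv F94120)
theorem F118644 : act 4 n26566 = n26566 := d34_1 D26566 (iv D26566) F94121
theorem F118645 : act 7 n26566 = n20946 := d43_1 D26566 (iv D20946) (iv F94122)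
theorem F118646 : act 8 n26566 = n26566 := d44_1 D26566 (iv D26566) (iv D20945) F74170 D20945
def n26579 : Q := act 7 n20954
theorem D26579 : act 7 n20954 = n26579 := rfl
theorem F118696 : act 3 n26579 = n21056 := d27_1 D26579 (iv D21056) (iv F94158)
theorem F118697 : act 5 n26579 = n20955 := d36_1 D26579 (iv D20955) D20954
def n26592 : Q := act 8 n20963
theorem D26592 : act 8 n20963 = n26592 := rfl
theorem F118736 : act 1 n26592 = n20967 := d15_1 D26592 (iv D20967) (iv F94187)
theorem F118738 : act 5 n26592 = n20992 := d37_1 D26592 (iv D20992) (iv D16388) (iv F74221) D20963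
def n26595 : Q := act 8 n20965
theorem D26595 : act 8 n20965 = n26595 := rfl
theorem F118747 : act 2 n26595 = n20969 := d22_1 D26595 (iv D20969) (iv F94195)
theorem F118748 : act 4 n26595 = n20967 := d33_1 D26595 (iv D20967) D20965
def n26597 : Q := act 8 n20966
theorem D26597 : act 8 n20966 = n26597 := rfl
theorem F118754 : act 5 n26597 = n20996 := d37_1 D26597 (iv D20996) F74300 (iv F74229) (iv F94200)
theorem F118755 : act 7 n26597 = n20967 := d42_1 D26597 (iv D20967) D20966
def n26598 : Q := act 9 n20967
theorem D26598 : act 9 n20967 = n26598 := rfl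
theorem F118756 : act 2 n26598 = n20972 := d23_1 D26598 (iv D20972) (iv F94202)
theorem F118757 : act 3 n26598 = n21075 := d29_1 D26598 (iv D21075) (iv F94203)
theorem F118758 : act 5 n26598 = n20997 := d38_1 D26598 (iv D20997) (iv F94204)
def n26600 : Q := act 8 n20968
theorem D26600 : act 8 n20968 = n26600 := rfl
theorem F118764 : act 4 n26600 = n20971 := d33_1 D26600 (iv D20971) (iv F94206)
theorem F118765 : act 7 n26600 = n20969 := d42_1 D26600 (iv D20969) D20968
def n26601 : Q := act 5 n20969
theorem D26601 : act 5 n20969 = n26601 := rfl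
theorem F118766 : act 3 n26601 = n26601 := d25_1 D26601 (iv D26601) F94209
theorem F118767 : act 4 n26601 = n21000 := d30_1 D26601 (iv D21000) F74309 (iv F74238) (iv F94210)
theorem F118768 : act 8 n26601 = n26601 := d37_2 D20969 D26601 (iv D26601) (iv D20969) F74232
def n26602 : Q := act 9 n20969
theorem D26602 : act 9 n20969 = n26602 := rfl
theorem F118769 : act 3 n26602 = n26602 := d29_1 D26602 (iv D26602) F94209
theorem F118770 : act 4 n26602 = n20972 := d34_1 D26602 (iv D20972) (iv F94210)
theorem F118771 : act 8 n26602 = n26602 := d44_1 D26602 (iv D26602) (iv D20969) F74233 D20969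
def n26604 : Q := act 9 n20971
theorem D26604 : act 9 n20971 = n26604 := rfl
theorem F118775 : act 5 n26604 = n21003 := d38_1 D26604 (iv D21003) (iv F94214)
theorem F118776 : act 7 n26604 = n20972 := d43_1 D26604 (iv D20972) (iv F94215)
def n26606 : Q := act 9 n20973
theorem D26606 : act 9 n20973 = n26606 := rfl
theorem F118780 : act 2 n26606 = n21082 := d23_1 D26606 (iv D21082) (iv F94219)
theorem F118782 : act 6 n26606 = n20974 := d41_1 D26606 (iv D20974) (iv F94221)
def n26608 : Q := act 7 n20975
theorem D26608 : act 7 n20975 = n26608 := rfl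
theorem F118790 : act 3 n26608 = n21084 := d27_1 D26608 (iv D21084) (iv F94228)
theorem F118792 : act 6 n26608 = n20989 := d39_1 D26608 (iv D20989) (iv D16387) (iv F74252) D20975
def n26613 : Q := act 7 n20978
theorem D26613 : act 7 n20978 = n26613 := rfl
theorem F118811 : act 2 n26613 = n20981 := d21_1 D26613 (iv D20981) (iv F94239)
theorem F118814 : act 9 n26613 = n21259 := d43_2 (iv F94241) D26613 (iv D21259)
def n26615 : Q := act 6 n20979
theorem D26615 : act 6 n20979 = n26615 := rfl
theorem F118818 : act 3 n26615 = n21091 := d26_1 D26615 (iv D21091) (iv F94243)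
theorem F118819 : act 5 n26615 = n20995 := d35_1 D26615 (iv D20995) F74300 (iv F74264) (iv F94244)
def n26616 : Q := act 8 n20979
theorem D26616 : act 8 n20979 = n26616 := rfl
theorem F118822 : act 3 n26616 = n21092 := d28_1 D26616 (iv D21092) (iv F94243)
def n26624 : Q := act 5 n20986
theorem D26624 : act 5 n20986 = n26624 := rfl
theorem F118843 : act 2 n26624 = n21100 := d19_1 D26624 (iv D21100) (iv F94261)
theorem F118844 : act 8 n26624 = n21004 := d37_2 D20986 D26624 (iv D21004) (iv D16398) (iv F74275)
def n26627 : Q := act 7 n20988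
theorem D26627 : act 7 n20988 = n26627 := rfl
theorem F118855 : act 5 n26627 = n20989 := d36_1 D26627 (iv D20989) D20988
def n26630 : Q := act 8 n20990
theorem D26630 : act 8 n20990 = n26630 := rfl
theorem F118864 : act 1 n26630 = n20994 := d15_1 D26630 (iv D20994) (iv F94275)
def n26633 : Q := act 9 n20992
theorem D26633 : act 9 n20992 = n26633 := rfl
theorem F118873 : act 1 n26633 = n20997 := d16_1 D26633 (iv D20997) (iv F94283)
theorem F118875 : act 8 n26633 = n21277 := d44_1 D26633 (iv D21277) (iv D16617) (iv F74289) D20992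
def n26635 : Q := act 8 n20993
theorem D26635 : act 8 n20993 = n26635 := rfl
theorem F118883 : act 7 n26635 = n20994 := d42_1 D26635 (iv D20994) D20993
def n26636 : Q := act 5 n20994
theorem D26636 : act 5 n20994 = n26636 := rfl
theorem F118884 : act 2 n26636 = n21000 := d19_1 D26636 (iv D21000) (iv F94290)
theorem F118885 : act 3 n26636 = n26636 := d25_1 D26636 (iv D26636) F94291
theorem F118886 : act 8 n26636 = n26636 := d37_2 D20994 D26636 (iv D26636) (iv D20994) F74296
def n26637 : Q := act 9 n20994
theorem D26637 : act 9 n20994 = n26637 := rfl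
theorem F118887 : act 2 n26637 = n21001 := d23_1 D26637 (iv D21001) (iv F94290)
theorem F118889 : act 4 n26637 = n20997 := d34_1 D26637 (iv D20997) (iv F94292)
def n26639 : Q := act 9 n20996
theorem D26639 : act 9 n20996 = n26639 := rfl
theorem F118896 : act 7 n26639 = n20997 := d43_1 D26639 (iv D20997) (iv F94298)
def n26642 : Q := act 5 n20999
theorem D26642 : act 5 n20999 = n26642 := rfl
theorem F118905 : act 7 n26642 = n21000 := d36_2 (iv F94307) D26642 (iv D21000)
def n26644 : Q := act 6 n21000
theorem D26644 : act 6 n21000 = n26644 := rfl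
theorem F118911 : act 3 n26644 = n21010 := d26_1 D26644 (iv D21010) (iv F94308)
theorem F118912 : act 8 n26644 = n26644 := d40_2 F94309 D26644 (iv D26644)
def n26645 : Q := act 9 n21000
theorem D26645 : act 9 n21000 = n26645 := rfl
theorem F118914 : act 5 n26645 = n21001 := d38_1 D26645 (iv D21001) D21000
def n26655 : Q := act 7 n21010
theorem D26655 : act 7 n21010 = n26655 := rfl
theorem F118938 : act 2 n26655 = n26655 := d21_1 D26655 (iv D26655) F94338
theorem F118939 : act 4 n26655 = n26655 := d32_1 D26655 (iv D26655) F94339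
theorem F118940 : act 8 n26655 = n26655 := d42_2 F94340 D26655 (iv D26655)
def n26656 : Q := act 9 n21010
theorem D26656 : act 9 n21010 = n26656 := rfl
theorem F118943 : act 6 n26656 = n21011 := d41_1 D26656 (iv D21011) D21010
def n26669 : Q := act 8 n21019
theorem D26669 : act 8 n21019 = n26669 := rfl
theorem F118991 : act 4 n26669 = n21029 := d33_1 D26669 (iv D21029) (iv F94372)
theorem F118992 : act 7 n26669 = n21020 := d42_1 D26669 (iv D21020) D21019
def n26683 : Q := act 9 n21029
theorem D26683 : act 9 n21029 = n26683 := rfl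
def n26685 : Q := act 7 n21031
theorem D26685 : act 7 n21031 = n26685 := rfl
theorem F119049 : act 2 n26685 = n22635 := d21_1 D26685 (iv D22635) (iv F94415)
def n26687 : Q := act 7 n21032
theorem D26687 : act 7 n21032 = n26687 := rfl
theorem F119057 : act 1 n26687 = n21035 := d14_1 D26687 (iv D21035) (iv F94418)
def n26688 : Q := act 8 n21032
theorem D26688 : act 8 n21032 = n26688 := rfl
theorem F119061 : act 1 n26688 = n21036 := d15_1 D26688 (iv D21036) (iv F94418)
def n26690 : Q := act 7 n21034
theorem D26690 : act 7 n21034 = n26690 := rfl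
theorem F119068 : act 2 n26690 = n21037 := d21_1 D26690 (iv D21037) (iv F94426)
theorem F119069 : act 4 n26690 = n21035 := d32_1 D26690 (iv D21035) D21034
def n26691 : Q := act 8 n21034
theorem D26691 : act 8 n21034 = n26691 := rfl
theorem F119072 : act 2 n26691 = n21038 := d22_1 D26691 (iv D21038) (iv F94426)
theorem F119073 : act 4 n26691 = n21036 := d33_1 D26691 (iv D21036) D21034
def n26692 : Q := act 6 n21035
theorem D26692 : act 6 n21035 = n26692 := rfl
theorem F119076 : act 7 n26692 = n21073 := d39_2 D21035 D26692 (iv D21073) (iv D16447) (iv F74397)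
def n26693 : Q := act 8 n21035
theorem D26693 : act 8 n21035 = n26693 := rfl
theorem F119078 : act 2 n26693 = n21040 := d22_1 D26693 (iv D21040) (iv F94430)
theorem F119079 : act 7 n26693 = n21036 := d42_1 D26693 (iv D21036) D21035
def n26694 : Q := act 9 n21036
theorem D26694 : act 9 n21036 = n26694 := rfl
theorem F119080 : act 2 n26694 = n21041 := d23_1 D26694 (iv D21041) (iv F94433)
def n26696 : Q := act 8 n21037
theorem D26696 : act 8 n21037 = n26696 := rfl
theorem F119090 : act 4 n26696 = n21040 := d33_1 D26696 (iv D21040) (iv F94437)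
theorem F119091 : act 7 n26696 = n21038 := d42_1 D26696 (iv D21038) D21037
def n26697 : Q := act 5 n21038
theorem D26697 : act 5 n21038 = n26697 := rfl
theorem F119092 : act 1 n26697 = n22647 := d12_1 D26697 (iv D22647) (iv F94440)
theorem F119093 : act 3 n26697 = n26697 := d25_1 D26697 (iv D26697) F94441
theorem F119094 : act 6 n26697 = n26697 := d35_2 (iv F94443) D26697 (iv D26697) F94443 F74511
theorem F119095 : act 8 n26697 = n26697 := d37_2 D21038 D26697 (iv D26697) (iv D21038) F74404
def n26698 : Q := act 9 n21038
theorem D26698 : act 9 n21038 = n26698 := rfl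
theorem F119098 : act 4 n26698 = n21041 := d34_1 D26698 (iv D21041) (iv F94442)
def n26699 : Q := act 8 n21039
theorem D26699 : act 8 n21039 = n26699 := rfl
theorem F119102 : act 3 n26699 = n21042 := d28_1 D26699 (iv D21042) (iv F94445)
theorem F119103 : act 6 n26699 = n21040 := d40_1 D26699 (iv D21040) D21039
theorem F119104 : act 7 n26699 = n21079 := d42_1 D26699 (iv D21079) (iv F94446)
def n26700 : Q := act 9 n21040
theorem D26700 : act 9 n21040 = n26700 := rfl
theorem F119105 : act 1 n26700 = n22650 := d16_1 D26700 (iv D22650) (iv F94448)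
theorem F119106 : act 3 n26700 = n21043 := d29_1 D26700 (iv D21043) (iv F94449)
theorem F119107 : act 7 n26700 = n21041 := d43_1 D26700 (iv D21041) (iv F94450)
theorem F119108 : act 8 n26700 = n26700 := d44_1 D26700 (iv D26700) (iv D21040) F74410 D21040
def n26701 : Q := act 5 n21042
theorem D26701 : act 5 n21042 = n26701 := rfl
theorem F119109 : act 1 n26701 = n22651 := d12_1 D26701 (iv D22651) (iv F94455)
theorem F119110 : act 7 n26701 = n21081 := d36_2 (iv F94458) D26701 (iv D21081)
def n26702 : Q := act 9 n21042
theorem D26702 : act 9 n21042 = n26702 := rfl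
theorem F119111 : act 1 n26702 = n22652 := d16_1 D26702 (iv D22652) (iv F94455)
theorem F119112 : act 4 n26702 = n26702 := d34_1 D26702 (iv D26702) F94456
theorem F119113 : act 6 n26702 = n21043 := d41_1 D26702 (iv D21043) (iv F94457)
theorem F119114 : act 7 n26702 = n21082 := d43_1 D26702 (iv D21082) (iv F94458)
theorem F119115 : act 8 n26702 = n26702 := d44_1 D26702 (iv D26702) (iv D21042) F74417 D21042
def n26714 : Q := act 7 n21052
theorem D26714 : act 7 n21052 = n26714 := rfl
theorem F119161 : act 6 n26714 = n21066 := d39_1 D26714 (iv D21066) (iv D16443) (iv F74448) D21052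
def n26719 : Q := act 7 n21055
theorem D26719 : act 7 n21055 = n26719 := rfl
theorem F119178 : act 4 n26719 = n21056 := d32_1 D26719 (iv D21056) D21055
theorem F119179 : act 5 n26719 = n21132 := d36_1 D26719 (iv D21132) (iv F94510)
def n26721 : Q := act 6 n21056
theorem D26721 : act 6 n21056 = n26721 := rfl
theorem F119184 : act 5 n26721 = n21073 := d35_1 D26721 (iv D21073) F74499 (iv F74460) (iv F94513)
def n26730 : Q := act 5 n21063
theorem D26730 : act 5 n21063 = n26730 := rfl
theorem F119213 : act 6 n26730 = n21100 := d35_2 (iv F94536) D26730 (iv D21100) F74570 (iv F74477)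
theorem F119214 : act 8 n26730 = n21081 := d37_2 D21063 D26730 (iv D21081) (iv D16454) (iv F74474)
def n26733 : Q := act 7 n21065
theorem D26733 : act 7 n21065 = n26733 := rfl
theorem F119224 : act 5 n26733 = n21066 := d36_1 D26733 (iv D21066) D21065
def n26747 : Q := act 9 n21074
theorem D26747 : act 9 n21074 = n26747 := rfl
theorem F119272 : act 2 n26747 = n21080 := d23_1 D26747 (iv D21080) (iv F94572)
def n26750 : Q := act 9 n21077
theorem D26750 : act 9 n21077 = n26750 := rfl
theorem F119286 : act 4 n26750 = n21080 := d34_1 D26750 (iv D21080) (iv F94584)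
def n26751 : Q := act 5 n21079
theorem D26751 : act 5 n21079 = n26751 := rfl
theorem F119291 : act 3 n26751 = n21081 := d25_1 D26751 (iv D21081) (iv F94593)
theorem F119292 : act 6 n26751 = n21109 := d35_2 (iv F94594) D26751 (iv D21109) F74603 (iv F74517)
def n26752 : Q := act 9 n21079
theorem D26752 : act 9 n21079 = n26752 := rfl
theorem F119294 : act 3 n26752 = n21082 := d29_1 D26752 (iv D21082) (iv F94593)
theorem F119295 : act 6 n26752 = n21080 := d41_1 D26752 (iv D21080) (iv F94594)
def n26753 : Q := act 4 n21081
theorem D26753 : act 4 n21081 = n26753 := rfl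
theorem F119298 : act 5 n26753 = n26753 := d30_2 D21081 D26753 (iv D26753) (iv D21081) F74524
theorem F119299 : act 6 n26753 = n21111 := d31_2 (iv F94601) D26753 (iv D21111)
def n26754 : Q := act 9 n21081
theorem D26754 : act 9 n21081 = n26754 := rfl
theorem F119300 : act 1 n26754 = n22700 := d16_1 D26754 (iv D22700) (iv F94600)
theorem F119301 : act 5 n26754 = n21082 := d38_1 D26754 (iv D21082) D21081
theorem F119302 : act 6 n26754 = n21112 := d41_1 D26754 (iv D21112) (iv F94601)
def n26759 : Q := act 7 n21085
theorem D26759 : act 7 n21085 = n26759 := rfl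
theorem F119322 : act 4 n26759 = n21086 := d32_1 D26759 (iv D21086) D21085
theorem F119323 : act 5 n26759 = n21156 := d36_1 D26759 (iv D21156) (iv F94616)
def n26761 : Q := act 6 n21086
theorem D26761 : act 6 n21086 = n26761 := rfl
theorem F119330 : act 5 n26761 = n21104 := d35_1 D26761 (iv D21104) F74586 (iv F74541) (iv F94620)
def n26772 : Q := act 8 n21094
theorem D26772 : act 8 n21094 = n26772 := rfl
theorem F119363 : act 4 n26772 = n21098 := d33_1 D26772 (iv D21098) (iv F94642)
theorem F119364 : act 6 n26772 = n21095 := d40_1 D26772 (iv D21095) D21094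
def n26773 : Q := act 5 n21095
theorem D26773 : act 5 n21095 = n26773 := rfl
theorem F119368 : act 8 n26773 = n21166 := d37_2 D21095 D26773 (iv D21166) (iv D16521) (iv F74553)
def n26777 : Q := act 5 n21098
theorem D26777 : act 5 n21098 = n26777 := rfl
theorem F119381 : act 3 n26777 = n21100 := d25_1 D26777 (iv D21100) (iv F94657)
theorem F119382 : act 8 n26777 = n21109 := d37_2 D21098 D26777 (iv D21109) (iv D16476) (iv F74560)
def n26779 : Q := act 4 n21100
theorem D26779 : act 4 n21100 = n26779 := rfl
theorem F119387 : act 1 n26779 = n22725 := d11_1 D26779 (iv D22725) (iv F94663)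
theorem F119388 : act 5 n26779 = n26779 := d30_2 D21100 D26779 (iv D26779) (iv D21100) F74569
theorem F119389 : act 8 n26779 = n21111 := d33_2 (iv F94664) D26779 (iv D21111)
def n26780 : Q := act 9 n21100
theorem D26780 : act 9 n21100 = n26780 := rfl
def n26784 : Q := act 8 n21104
theorem D26784 : act 8 n21104 = n26784 := rfl
theorem F119404 : act 1 n26784 = n21107 := d15_1 D26784 (iv D21107) (iv F94677)
def n26786 : Q := act 5 n21107
theorem D26786 : act 5 n21107 = n26786 := rfl
theorem F119413 : act 2 n26786 = n21109 := d19_1 D26786 (iv D21109) (iv F94689)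
def n26787 : Q := act 9 n21107
theorem D26787 : act 9 n21107 = n26787 := rfl
theorem F119414 : act 2 n26787 = n21110 := d23_1 D26787 (iv D21110) (iv F94689)
def n26788 : Q := act 4 n21109
theorem D26788 : act 4 n21109 = n26788 := rfl
def n26789 : Q := act 9 n21109
theorem D26789 : act 9 n21109 = n26789 := rfl
theorem F119420 : act 1 n26789 = n22735 := d16_1 D26789 (iv D22735) (iv F94696)
theorem F119421 : act 3 n26789 = n21112 := d29_1 D26789 (iv D21112) (iv F94697)
theorem F119422 : act 5 n26789 = n21110 := d38_1 D26789 (iv D21110) D21109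
def n26790 : Q := act 3 n21111
theorem D26790 : act 3 n21111 = n26790 := rfl
def n26791 : Q := act 9 n21111
theorem D26791 : act 9 n21111 = n26791 := rfl
theorem F119426 : act 4 n26791 = n21112 := d34_1 D26791 (iv D21112) D21111
def n26792 : Q := act 8 n21112
theorem D26792 : act 8 n21112 = n26792 := rfl
def n26812 : Q := act 8 n21126
theorem D26812 : act 8 n21126 = n26812 := rfl
theorem F119521 : act 5 n26812 = n21154 := d37_1 D26812 (iv D21154) (iv D16511) (iv F74664) D21126
def n26817 : Q := act 8 n21129
theorem D26817 : act 8 n21129 = n26817 := rfl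
theorem F119546 : act 7 n26817 = n21130 := d42_1 D26817 (iv D21130) D21129
def n26818 : Q := act 9 n21130
theorem D26818 : act 9 n21130 = n26818 := rfl
theorem F119550 : act 5 n26818 = n21159 := d38_1 D26818 (iv D21159) (iv F94789)
def n26822 : Q := act 8 n21132
theorem D26822 : act 8 n21132 = n26822 := rfl
theorem F119564 : act 4 n26822 = n21135 := d33_1 D26822 (iv D21135) (iv F94795)
def n26825 : Q := act 8 n21134
theorem D26825 : act 8 n21134 = n26825 := rfl
theorem F119575 : act 6 n26825 = n21135 := d40_1 D26825 (iv D21135) D21134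
def n26826 : Q := act 9 n21135
theorem D26826 : act 9 n21135 = n26826 := rfl
theorem F119579 : act 5 n26826 = n21165 := d38_1 D26826 (iv D21165) (iv F94807)
def n26840 : Q := act 6 n21149
theorem D26840 : act 6 n21149 = n26840 := rfl
theorem F119643 : act 3 n26840 = n21150 := d26_1 D26840 (iv D21150) (iv F94871)
def n26846 : Q := act 8 n21153
theorem D26846 : act 8 n21153 = n26846 := rfl
theorem F119674 : act 7 n26846 = n21154 := d42_1 D26846 (iv D21154) D21153
def n26847 : Q := act 9 n21154
theorem D26847 : act 9 n21154 = n26847 := rfl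
theorem F119676 : act 2 n26847 = n22784 := d23_1 D26847 (iv D22784) (iv F94895)
def n26851 : Q := act 8 n21156
theorem D26851 : act 8 n21156 = n26851 := rfl
theorem F119700 : act 7 n26851 = n21157 := d42_1 D26851 (iv D21157) D21156
def n26853 : Q := act 9 n21157
theorem D26853 : act 9 n21157 = n26853 := rfl
theorem F119704 : act 2 n26853 = n22790 := d23_1 D26853 (iv D22790) (iv F94908)
def n26854 : Q := act 9 n21158
theorem D26854 : act 9 n21158 = n26854 := rfl
theorem F119712 : act 7 n26854 = n21159 := d43_1 D26854 (iv D21159) (iv F94915)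
def n26863 : Q := act 9 n21166
theorem D26863 : act 9 n21166 = n26863 := rfl
theorem F119742 : act 5 n26863 = n21167 := d38_1 D26863 (iv D21167) D21166
def n26883 : Q := act 8 n21186
theorem D26883 : act 8 n21186 = n26883 := rfl
theorem F119826 : act 6 n26883 = n21187 := d40_1 D26883 (iv D21187) D21186
def n26885 : Q := act 7 n21189
theorem D26885 : act 7 n21189 = n26885 := rfl
theorem F119834 : act 3 n26885 = n21296 := d27_1 D26885 F95457 (iv F95045)
theorem F119836 : act 6 n26885 = n21286 := d39_1 D26885 F95428 (iv F95018) F95019 D21189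
def n26886 : Q := act 7 n21190
theorem D26886 : act 7 n21190 = n26886 := rfl
theorem F119839 : act 2 n26886 = n21264 := d21_1 D26886 F95361 (iv F95049)
theorem F119840 : act 3 n26886 = n22823 := d27_1 D26886 (iv D22823) (iv F95050)
def n26887 : Q := act 7 n21192
theorem D26887 : act 7 n21192 = n26887 := rfl
theorem F119846 : act 2 n26887 = n21195 := d21_1 D26887 (iv D21195) (iv F95059)
theorem F119850 : act 8 n26887 = n21257 := d42_2 (iv F95062) D26887 (iv D21257)
def n26891 : Q := act 8 n21195
theorem D26891 : act 8 n21195 = n26891 := rfl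
theorem F119866 : act 2 n26891 = n21257 := d22_1 D26891 (iv F119850) F119846
theorem F119867 : act 3 n26891 = n21208 := d28_1 D26891 (iv D21208) (iv F95074)
def n26896 : Q := act 6 n21202
theorem D26896 : act 6 n21202 = n26896 := rfl
theorem F119888 : act 3 n26896 = n22836 := d26_1 D26896 (iv D22836) (iv F95104)
theorem F119891 : act 8 n26896 = n22896 := d40_2 (iv F95107) D26896 (iv D22896)
def n26898 : Q := act 8 n21204
theorem D26898 : act 8 n21204 = n26898 := rfl
theorem F119900 : act 2 n26898 = n21210 := d22_1 D26898 (iv D21210) (iv F95116)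
theorem F119903 : act 6 n26898 = n21205 := d40_1 D26898 (iv D21205) D21204
def n26899 : Q := act 9 n21205
theorem D26899 : act 9 n21205 = n26899 := rfl
theorem F119906 : act 2 n26899 = n21211 := d23_1 D26899 (iv D21211) (iv F95121)
theorem F119907 : act 3 n26899 = n22842 := d29_1 D26899 (iv D22842) (iv F95122)
def n26901 : Q := act 8 n21207
theorem D26901 : act 8 n21207 = n26901 := rfl
theorem F119914 : act 0 n26901 = n21248 := d7_1 D26901 (iv D21248) (iv F95132)
theorem F119917 : act 4 n26901 = n21210 := d33_1 D26901 (iv D21210) (iv F95133)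
theorem F119918 : act 6 n26901 = n21208 := d40_1 D26901 (iv D21208) D21207
theorem F119919 : act 5 n22863 = n26901 := d35_5 F119918 (iv F95139) F80337 (iv F80373) D22863
def n26902 : Q := act 9 n21208
theorem D26902 : act 9 n21208 = n26902 := rfl
theorem F119922 : act 2 n26902 = n22563 := d23_1 D26902 F100749 (iv F95136)
theorem F119923 : act 4 n26902 = n21211 := d34_1 D26902 (iv D21211) (iv F95137)
def n26903 : Q := act 5 n21210
theorem D26903 : act 5 n21210 = n26903 := rfl
theorem F119927 : act 3 n26903 = n21212 := d25_1 D26903 (iv D21212) (iv F95146)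
theorem F119928 : act 6 n26903 = n21377 := d35_2 (iv F95147) D26903 (iv D21377) F75512 (iv F74965)
def n26914 : Q := act 7 n21223
theorem D26914 : act 7 n21223 = n26914 := rfl
theorem F119970 : act 0 n26914 = n21226 := d6_1 D26914 (iv D21226) (iv F95198)
theorem F119972 : act 3 n26914 = n22858 := d27_1 D26914 (iv D22858) (iv F95200)
def n26915 : Q := act 7 n21225
theorem D26915 : act 7 n21225 = n26915 := rfl
theorem F119974 : act 1 n26915 = n21229 := d14_1 D26915 (iv D21229) (iv F95206)
theorem F119975 : act 2 n26915 = n21273 := d21_1 D26915 (iv D21273) (iv F95207)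
def n26916 : Q := act 6 n21226
theorem D26916 : act 6 n21226 = n26916 := rfl
theorem F119979 : act 2 n26916 = n21275 := d20_1 D26916 (iv D21275) (iv F95210)
def n26917 : Q := act 8 n21226
theorem D26917 : act 8 n21226 = n26917 := rfl
theorem F119982 : act 2 n26917 = n21276 := d22_1 D26917 (iv D21276) (iv F95210)
def n26918 : Q := act 9 n21227
theorem D26918 : act 9 n21227 = n26918 := rfl
theorem F119987 : act 2 n26918 = n21277 := d23_1 D26918 (iv D21277) (iv F95214)
def n26919 : Q := act 7 n21228
theorem D26919 : act 7 n21228 = n26919 := rfl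
theorem F119992 : act 3 n26919 = n21229 := d27_1 D26919 (iv D21229) D21228
theorem F119993 : act 4 n26919 = n22866 := d32_1 D26919 (iv D22866) (iv F95219)
theorem F119995 : act 8 n26919 = n21306 := d42_2 F95221 D26919 (iv D21306)
def n26921 : Q := act 8 n21229
theorem D26921 : act 8 n21229 = n26921 := rfl
theorem F119999 : act 2 n26921 = n21235 := d22_1 D26921 (iv D21235) (iv F95222)
theorem F120000 : act 3 n26921 = n21306 := d28_1 D26921 (iv F119995) F119992
def n26926 : Q := act 9 n21235
theorem D26926 : act 9 n21235 = n26926 := rfl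
theorem F120018 : act 1 n26926 = n21287 := d16_1 D26926 (iv D21287) (iv F95242)
def n26927 : Q := act 5 n21237
theorem D26927 : act 5 n21237 = n26927 := rfl
theorem F120022 : act 1 n26927 = n21289 := d12_1 D26927 (iv D21289) (iv F95249)
def n26930 : Q := act 9 n21239
theorem D26930 : act 9 n21239 = n26930 := rfl
theorem F120032 : act 1 n26930 = n21292 := d16_1 D26930 (iv D21292) (iv F95256)
theorem F120033 : act 2 n26930 = n22880 := d23_1 D26930 (iv D22880) (iv F95257)
def n26933 : Q := act 8 n21242
theorem D26933 : act 8 n21242 = n26933 := rfl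
theorem F120050 : act 6 n26933 = n21243 := d40_1 D26933 (iv D21243) D21242
theorem F120051 : act 5 n22908 = n26933 := d35_5 F120050 (iv F95278) F80492 (iv F80546) D22908
def n26938 : Q := act 5 n21248
theorem D26938 : act 5 n21248 = n26938 := rfl
theorem F120071 : act 0 n26938 = n22863 := d4_1 D26938 F119919 F119914
theorem F120074 : act 6 n26938 = n22858 := d35_2 (iv F95299) D26938 F101960 F95306 (iv D21249)
def n26941 : Q := act 8 n21251
theorem D26941 : act 8 n21251 = n26941 := rfl
theorem F120087 : act 2 n26941 = n22533 := d22_1 D26941 F100614 (iv F95312)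
theorem F120089 : act 6 n26941 = n22430 := d40_1 D26941 F100217 (iv F95315)
def n26942 : Q := act 4 n21252
theorem D26942 : act 4 n21252 = n26942 := rfl
theorem F120092 : act 6 n26942 = n21392 := d31_2 (iv F95318) D26942 (iv D21392)
def n26944 : Q := act 3 n21254
theorem D26944 : act 3 n21254 = n26944 := rfl
theorem F120100 : act 6 n26944 = n21394 := d26_2 (iv F95325) D26944 (iv D21394)
def n26948 : Q := act 7 n21258
theorem D26948 : act 7 n21258 = n26948 := rfl
theorem F120115 : act 3 n26948 = n21259 := d27_1 D26948 (iv D21259) D21258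
theorem F120116 : act 4 n26948 = n21313 := d32_1 D26948 (iv D21313) (iv F95341)
theorem F120118 : act 8 n26948 = n22823 := d42_2 (iv F95343) D26948 (iv D22823)
def n26949 : Q := act 6 n21259
theorem D26949 : act 6 n21259 = n26949 := rfl
theorem F120119 : act 2 n26949 = n21263 := d20_1 D26949 (iv D21263) (iv F95344)
def n26950 : Q := act 8 n21260
theorem D26950 : act 8 n21260 = n26950 := rfl
theorem F120121 : act 2 n26950 = n21266 := d22_1 D26950 (iv D21266) (iv F95347)
theorem F120123 : act 6 n26950 = n21261 := d40_1 D26950 (iv D21261) D21260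
def n26951 : Q := act 9 n21261
theorem D26951 : act 9 n21261 = n26951 := rfl
theorem F120124 : act 2 n26951 = n21267 := d23_1 D26951 (iv D21267) (iv F95350)
def n26958 : Q := act 9 n21268
theorem D26958 : act 9 n21268 = n26958 := rfl
theorem F120146 : act 2 n26958 = n21328 := d23_1 D26958 (iv D21328) (iv F95369)
def n26959 : Q := act 7 n21270
theorem D26959 : act 7 n21270 = n26959 := rfl
theorem F120151 : act 4 n26959 = n21271 := d32_1 D26959 (iv D21271) D21270
def n26961 : Q := act 8 n21271
theorem D26961 : act 8 n21271 = n26961 := rfl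
theorem F120158 : act 7 n26961 = n21272 := d42_1 D26961 (iv D21272) D21271
def n26973 : Q := act 5 n21282
theorem D26973 : act 5 n21282 = n26973 := rfl
theorem F120200 : act 3 n26973 = n21334 := d25_1 D26973 (iv D21334) (iv F95415)
def n26976 : Q := act 5 n21285
theorem D26976 : act 5 n21285 = n26976 := rfl
theorem F120207 : act 3 n26976 = n21294 := d25_1 D26976 (iv D21294) (iv F95423)
def n26988 : Q := act 6 n21294
theorem D26988 : act 6 n21294 = n26988 := rfl
theorem F120237 : act 0 n26988 = n22823 := d5_1 D26988 (iv F112363) F112360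
def n26989 : Q := act 9 n21294
theorem D26989 : act 9 n21294 = n26989 := rfl
theorem F120243 : act 5 n26989 = n21295 := d38_1 D26989 (iv D21295) D21294
def n26990 : Q := act 9 n21296
theorem D26990 : act 9 n21296 = n26990 := rfl
theorem F120247 : act 4 n26990 = n21402 := d34_1 D26990 (iv D21402) (iv F95456)
theorem F120248 : act 6 n26990 = n21297 := d41_1 D26990 (iv D21297) D21296
theorem F120249 : act 7 n26990 = n22390 := d43_1 D26990 F100058 (iv F95457)
def n26998 : Q := act 7 n21305
theorem D26998 : act 7 n21305 = n26998 := rfl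
theorem F120277 : act 4 n26998 = n21306 := d32_1 D26998 (iv D21306) D21305
theorem F120278 : act 5 n26998 = n21345 := d36_1 D26998 (iv D21345) (iv F95490)
def n26999 : Q := act 6 n21306
theorem D26999 : act 6 n21306 = n26999 := rfl
theorem F120282 : act 5 n26999 = n21329 := d35_1 D26999 (iv D21329) F75303 (iv F75246) (iv F95494)
def n27000 : Q := act 7 n21307
theorem D27000 : act 7 n21307 = n27000 := rfl
theorem F120288 : act 5 n27000 = n21350 := d36_1 D27000 (iv D21350) (iv F95499)
theorem F120289 : act 8 n27000 = n22824 := d42_2 F95500 D27000 (iv D22824)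
def n27007 : Q := act 8 n21313
theorem D27007 : act 8 n21313 = n27007 := rfl
theorem F120320 : act 4 n27007 = n22823 := d33_1 D27007 (iv F120118) F120116
theorem F120321 : act 7 n27007 = n21314 := d42_1 D27007 (iv D21314) D21313
theorem F120322 : act 5 n23273 = n27007 := d36_3 F120321 (iv F95528) D23273
def n27010 : Q := act 5 n21316
theorem D27010 : act 5 n21316 = n27010 := rfl
theorem F120336 : act 8 n27010 = n21359 := d37_2 D21316 D27010 (iv D21359) (iv D16684) (iv F75261)
def n27013 : Q := act 5 n21319
theorem D27013 : act 5 n21319 = n27013 := rfl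
theorem F120348 : act 8 n27013 = n21334 := d37_2 D21319 D27013 (iv D21334) (iv D16665) (iv F75265)
def n27020 : Q := act 4 n21325
theorem D27020 : act 4 n21325 = n27020 := rfl
theorem F120373 : act 1 n27020 = n22952 := d11_1 D27020 (iv D22952) (iv F95566)
theorem F120375 : act 8 n27020 = n21336 := d33_2 (iv F95569) D27020 (iv D21336)
def n27023 : Q := act 9 n21327
theorem D27023 : act 9 n21327 = n27023 := rfl
theorem F120385 : act 4 n27023 = n21328 := d34_1 D27023 (iv D21328) D21327
def n27024 : Q := act 8 n21328
theorem D27024 : act 8 n21328 = n27024 := rfl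
def n27030 : Q := act 9 n21334
theorem D27030 : act 9 n21334 = n27030 := rfl
theorem F120410 : act 2 n27030 = n21337 := d23_1 D27030 (iv D21337) (iv F95601)
def n27031 : Q := act 3 n21336
theorem D27031 : act 3 n21336 = n27031 := rfl
def n27032 : Q := act 9 n21336
theorem D27032 : act 9 n21336 = n27032 := rfl
def n27033 : Q := act 8 n21337
theorem D27033 : act 8 n21337 = n27033 := rfl
def n27040 : Q := act 7 n21344
theorem D27040 : act 7 n21344 = n27040 := rfl
theorem F120449 : act 5 n27040 = n22868 := d36_1 D27040 F101990 (iv F95637)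
theorem F120451 : act 8 n27040 = n23327 := d42_2 F95639 D27040 F104283
def n27041 : Q := act 8 n21345
theorem D27041 : act 8 n21345 = n27041 := rfl
theorem F120458 : act 7 n27041 = n21346 := d42_1 D27041 (iv D21346) D21345
def n27042 : Q := act 9 n21346
theorem D27042 : act 9 n21346 = n27042 := rfl
theorem F120460 : act 2 n27042 = n22971 := d23_1 D27042 (iv D22971) (iv F95645)
def n27043 : Q := act 9 n21347
theorem D27043 : act 9 n21347 = n27043 := rfl
theorem F120470 : act 7 n27043 = n21348 := d43_1 D27043 (iv D21348) (iv F95655)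
def n27045 : Q := act 8 n21350
theorem D27045 : act 8 n21350 = n27045 := rfl
theorem F120480 : act 1 n27045 = n21356 := d15_1 D27045 (iv D21356) (iv F95668)
theorem F120484 : act 5 n27045 = n23278 := d37_1 D27045 (iv D23278) (iv F101817) (iv F120289) F120288
def n27046 : Q := act 9 n21351
theorem D27046 : act 9 n21351 = n27046 := rfl
theorem F120489 : act 2 n27046 = n23286 := d23_1 D27046 (iv D23286) (iv F95674)
def n27047 : Q := act 5 n21352
theorem D27047 : act 5 n21352 = n27047 := rfl
theorem F120495 : act 1 n27047 = n21359 := d12_1 D27047 (iv D21359) (iv F95679)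
theorem F120496 : act 2 n27047 = n22975 := d19_1 D27047 (iv D22975) (iv F95680)
def n27048 : Q := act 9 n21352
theorem D27048 : act 9 n21352 = n27048 := rfl
theorem F120505 : act 7 n27048 = n21354 := d43_1 D27048 (iv D21354) (iv F95683)
def n27049 : Q := act 9 n21353
theorem D27049 : act 9 n21353 = n27049 := rfl
theorem F120511 : act 5 n27049 = n21354 := d38_1 D27049 (iv D21354) D21353
def n27050 : Q := act 5 n21356
theorem D27050 : act 5 n21356 = n27050 := rfl
theorem F120513 : act 1 n27050 = n23278 := d12_1 D27050 (iv F120484) F120480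
theorem F120517 : act 8 n27050 = n23273 := d37_2 D21356 D27050 F120322 (iv D27007) F95523
def n27059 : Q := act 9 n21368
theorem D27059 : act 9 n21368 = n27059 := rfl
theorem F120561 : act 3 n27059 = n22987 := d29_1 D27059 (iv D22987) (iv F95763)
theorem F120564 : act 6 n27059 = n23286 := d41_1 D27059 (iv D23286) (iv F95766)
def n27060 : Q := act 5 n21371
theorem D27060 : act 5 n21371 = n27060 := rfl
theorem F120573 : act 8 n27060 = n23363 := d37_2 (iv F95788) D27060 (iv D23363) (iv D18409) (iv F82798)
def n27061 : Q := act 5 n21372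
theorem D27061 : act 5 n21372 = n27061 := rfl
theorem F120575 : act 0 n27061 = n21385 := d4_1 D27061 (iv D21385) (iv F95790)
theorem F120579 : act 4 n27061 = n23357 := d30_1 D27061 (iv D23357) F82862 (iv F82798) (iv F95794)
def n27062 : Q := act 9 n21372
theorem D27062 : act 9 n21372 = n27062 := rfl
theorem F120583 : act 1 n27062 = n23173 := d16_1 D27062 F103466 (iv F95791)
theorem F120586 : act 4 n27062 = n23172 := d34_1 D27062 F103460 (iv F95794)
def n27063 : Q := act 8 n21374
theorem D27063 : act 8 n21374 = n27063 := rfl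
theorem F120590 : act 0 n27063 = n21387 := d7_1 D27063 (iv D21387) (iv F95804)
theorem F120591 : act 1 n27063 = n23330 := d15_1 D27063 (iv F112746) F112740
theorem F120595 : act 5 n27063 = n23320 := d37_1 D27063 (iv D23320) F95817 (iv D21375) D21374
def n27064 : Q := act 9 n21375
theorem D27064 : act 9 n21375 = n27064 := rfl
theorem F120602 : act 4 n27064 = n21378 := d34_1 D27064 (iv D21378) (iv F95814)
theorem F120603 : act 5 n27064 = n23098 := d38_1 D27064 F103131 F95817
theorem F120604 : act 6 n27064 = n21376 := d41_1 D27064 (iv D21376) (iv F95815)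
def n27065 : Q := act 4 n21377
theorem D27065 : act 4 n21377 = n27065 := rfl
theorem F120610 : act 5 n27065 = n23316 := d30_2 D21377 D27065 F104237 F95817 F95814
def n27066 : Q := act 9 n21377
theorem D27066 : act 9 n21377 = n27066 := rfl
theorem F120614 : act 3 n27066 = n21380 := d29_1 D27066 (iv D21380) (iv F95827)
def n27070 : Q := act 5 n21381
theorem D27070 : act 5 n21381 = n27070 := rfl
theorem F120638 : act 8 n27070 = n23381 := d37_2 (iv F95850) D27070 (iv D23381) (iv D18441) (iv F82992)
def n27073 : Q := act 4 n21385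
theorem D27073 : act 4 n21385 = n27073 := rfl
theorem F120657 : act 0 n27073 = n23357 := d3_1 D27073 (iv F120579) F120575
theorem F120661 : act 5 n27073 = n23351 := d30_2 D21385 D27073 F104409 F95865 F95862
def n27075 : Q := act 5 n21387
theorem D27075 : act 5 n21387 = n27075 := rfl
theorem F120669 : act 0 n27075 = n23320 := d4_1 D27075 (iv F120595) F120590
theorem F120674 : act 8 n27075 = n21388 := d37_2 D21387 D27075 (iv D21388) (iv D16717) D16716
def n27077 : Q := act 4 n21388
theorem D27077 : act 4 n21388 = n27077 := rfl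
theorem F120682 : act 0 n27077 = n23316 := d3_1 D27077 F104237 (iv F95890)
theorem F120685 : act 5 n27077 = n21392 := d30_2 D21388 D27077 (iv D21392) (iv D16721) (iv F75574)
def n27078 : Q := act 9 n21388
theorem D27078 : act 9 n21388 = n27078 := rfl
theorem F120688 : act 0 n27078 = n23098 := d8_1 D27078 F103131 (iv F95890)
theorem F120692 : act 5 n27078 = n21389 := d38_1 D27078 (iv D21389) D21388
def n27080 : Q := act 3 n21392
theorem D27080 : act 3 n21392 = n27080 := rfl
theorem F120705 : act 4 n27080 = n21394 := d24_2 D21392 D27080 (iv D21394) (iv D16723) (iv F75596)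
def n27081 : Q := act 9 n21392
theorem D27081 : act 9 n21392 = n27081 := rfl
theorem F120709 : act 4 n27081 = n21393 := d34_1 D27081 (iv D21393) D21392
def n27083 : Q := act 9 n21394
theorem D27083 : act 9 n21394 = n27083 := rfl
theorem F120718 : act 3 n27083 = n21395 := d29_1 D27083 (iv D21395) D21394
def n27086 : Q := act 6 n21397
theorem D27086 : act 6 n21397 = n27086 := rfl
theorem F120730 : act 0 n27086 = n23274 := d5_1 D27086 F112845 F112839
theorem F120735 : act 8 n27086 = n21400 := d40_2 (iv F95941) D27086 (iv D21400)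
theorem F120736 : act 7 n23272 = n27086 := d42_3 F120735 (iv F95956) D23272
def n27088 : Q := act 3 n21399
theorem D27088 : act 3 n21399 = n27088 := rfl
theorem F120742 : act 5 n27088 = n21404 := d25_2 (iv F95949) D27088 (iv D21404)
def n27089 : Q := act 6 n21399
theorem D27089 : act 6 n21399 = n27089 := rfl
theorem F120744 : act 0 n27089 = n23273 := d5_1 D27089 (iv F112857) F112853
theorem F120748 : act 7 n27089 = n23271 := d45_5 (iv F46980) (iv F59398) D16732 (iv F95949) D27089 (iv F112667) F112664 F112665 F89566 (iv D19750) F70716 F55756 (iv D12038) F44256 F35422 (iv D7428) (iv D5891) (iv D4701) F17307 F12350 D2504 F12363 (iv F16926) (iv F22565) D5793 F27931 (iv F34767) F34763 F27910 F22559 F16888 (iv D3486) F20247 F9009 F6452 F4735 D948 F4873 F4874 (iv F6871) (iv F9665) F9663 D2789 (iv F18535) (iv F23777) D6149 D7755 (iv F42289) (iv F53204) F53205 (iv F54478) (iv F69087) D19297 F87449 D19730 F89472 F70656 F55658 D12020 F55668 F44406 F44407 F44403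
def n27091 : Q := act 9 n21400
theorem D27091 : act 9 n21400 = n27091 := rfl
theorem F120753 : act 0 n27091 = n23032 := d8_1 D27091 F102809 (iv F95951)
theorem F120757 : act 5 n27091 = n21402 := d38_1 D27091 (iv D21402) (iv F95955)
def n27093 : Q := act 8 n21402
theorem D27093 : act 8 n21402 = n27093 := rfl
theorem F120768 : act 6 n27093 = n21403 := d40_1 D27093 (iv D21403) (iv F95965)
def n27103 : Q := act 1 n21413
theorem D27103 : act 1 n21413 = n27103 := rfl
theorem F120810 : act 2 n27103 = n27103 := d9_2 D21413 D27103 (iv D27103) (iv D21413) F75681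
theorem F120811 : act 4 n27103 = n27103 := d11_2 F96011 D27103 (iv D27103)
theorem F120812 : act 8 n27103 = n21421 := d15_2 (iv F96012) D27103 (iv D21421)
def n27104 : Q := act 6 n21413
theorem D27104 : act 6 n21413 = n27104 := rfl
theorem F120813 : act 0 n27104 = n21437 := d5_1 D27104 (iv D21437) (iv F96010)
theorem F120814 : act 2 n27104 = n21414 := d20_1 D27104 (iv D21414) D21413
theorem F120815 : act 4 n27104 = n27104 := d31_1 D27104 (iv D27104) F96011
theorem F120816 : act 8 n27104 = n21422 := d40_2 (iv F96012) D27104 (iv D21422)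
def n27105 : Q := act 5 n21414
theorem D27105 : act 5 n21414 = n27105 := rfl
theorem F120817 : act 0 n27105 = n21438 := d4_1 D27105 (iv D21438) (iv F96013)
theorem F120818 : act 1 n27105 = n27105 := d12_1 D27105 (iv D27105) F96014
theorem F120819 : act 3 n27105 = n21415 := d25_1 D27105 (iv D21415) (iv F96015)
def n27106 : Q := act 7 n21414
theorem D27106 : act 7 n21414 = n27106 := rfl
theorem F120820 : act 0 n27106 = n21439 := d6_1 D27106 (iv D21439) (iv F96013)
theorem F120821 : act 1 n27106 = n27106 := d14_1 D27106 (iv D27106) F96014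
theorem F120822 : act 3 n27106 = n21416 := d27_1 D27106 (iv D21416) (iv F96015)
theorem F120823 : act 4 n27106 = n27106 := d32_1 D27106 (iv D27106) F96016
theorem F120824 : act 8 n27106 = n21424 := d42_2 (iv F96017) D27106 (iv D21424)
def n27107 : Q := act 7 n21415
theorem D27107 : act 7 n21415 = n27107 := rfl
theorem F120825 : act 0 n27107 = n21440 := d6_1 D27107 (iv D21440) (iv F96018)
theorem F120826 : act 1 n27107 = n27107 := d14_1 D27107 (iv D27107) F96019
theorem F120827 : act 4 n27107 = n21655 := d32_1 D27107 (iv D21655) (iv F96020)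
theorem F120828 : act 5 n27107 = n21416 := d36_1 D27107 (iv D21416) D21415
def n27108 : Q := act 8 n21415
theorem D27108 : act 8 n21415 = n27108 := rfl
theorem F120831 : act 4 n27108 = n21656 := d33_1 D27108 (iv D21656) (iv F96020)
def n27109 : Q := act 1 n21417
theorem D27109 : act 1 n21417 = n27109 := rfl
theorem F120833 : act 2 n27109 = n27109 := d9_2 D21417 D27109 (iv D27109) (iv D21417) F75694
theorem F120834 : act 4 n27109 = n27109 := d11_2 F96026 D27109 (iv D27109)
theorem F120835 : act 5 n27109 = n27109 := d12_2 F96027 D27109 (iv D27109)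
theorem F120836 : act 7 n27109 = n21421 := d14_2 (iv F96028) D27109 (iv D21421)
theorem F120837 : act 9 n27109 = n27109 := d16_2 F96029 D27109 (iv D27109)
def n27110 : Q := act 6 n21417
theorem D27110 : act 6 n21417 = n27110 := rfl
theorem F120838 : act 0 n27110 = n21443 := d5_1 D27110 (iv D21443) (iv F96025)
theorem F120839 : act 2 n27110 = n21418 := d20_1 D27110 (iv D21418) D21417
theorem F120840 : act 4 n27110 = n27110 := d31_1 D27110 (iv D27110) F96026
theorem F120841 : act 9 n27110 = n27110 := d41_2 F96029 D27110 (iv D27110)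
def n27111 : Q := act 5 n21418
theorem D27111 : act 5 n21418 = n27111 := rfl
theorem F120842 : act 0 n27111 = n21444 := d4_1 D27111 (iv D21444) (iv F96030)
theorem F120843 : act 1 n27111 = n27111 := d12_1 D27111 (iv D27111) F96031
theorem F120844 : act 3 n27111 = n21419 := d25_1 D27111 (iv D21419) (iv F96032)
theorem F120845 : act 6 n27111 = n27111 := d35_2 D21418 D27111 (iv D27111) (iv D21418) F75696
theorem F120846 : act 9 n27111 = n27111 := d38_2 F96034 D27111 (iv D27111)
def n27112 : Q := act 7 n21418
theorem D27112 : act 7 n21418 = n27112 := rfl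
theorem F120847 : act 0 n27112 = n21445 := d6_1 D27112 (iv D21445) (iv F96030)
theorem F120848 : act 1 n27112 = n27112 := d14_1 D27112 (iv D27112) F96031
theorem F120849 : act 3 n27112 = n21420 := d27_1 D27112 (iv D21420) (iv F96032)
theorem F120850 : act 4 n27112 = n27112 := d32_1 D27112 (iv D27112) F96033
theorem F120851 : act 6 n27112 = n21424 := d39_1 D27112 (iv D21424) (iv D16747) (iv F75697) D21418
theorem F120852 : act 9 n27112 = n27112 := d43_2 F96034 D27112 (iv D27112)
def n27113 : Q := act 7 n21419
theorem D27113 : act 7 n21419 = n27113 := rfl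
theorem F120853 : act 0 n27113 = n21446 := d6_1 D27113 (iv D21446) (iv F96035)
theorem F120854 : act 1 n27113 = n27113 := d14_1 D27113 (iv D27113) F96036
theorem F120855 : act 4 n27113 = n27113 := d32_1 D27113 (iv D27113) F96037
theorem F120856 : act 5 n27113 = n21420 := d36_1 D27113 (iv D21420) D21419
theorem F120857 : act 9 n27113 = n27113 := d43_2 F96039 D27113 (iv D27113)
def n27114 : Q := act 8 n21419
theorem D27114 : act 8 n21419 = n27114 := rfl
theorem F120858 : act 0 n27114 = n21447 := d7_1 D27114 (iv D21447) (iv F96035)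
theorem F120859 : act 1 n27114 = n27114 := d15_1 D27114 (iv D27114) F96036
theorem F120860 : act 4 n27114 = n27114 := d33_1 D27114 (iv D27114) F96037
theorem F120861 : act 6 n27114 = n27114 := d40_1 D27114 (iv D27114) F96038
def n27115 : Q := act 0 n21421
theorem D27115 : act 0 n21421 = n27115 := rfl
theorem F120862 : act 1 n27115 = n21448 := d0_2 D21421 D27115 (iv D21448) (iv D16764) (iv F75709)
theorem F120863 : act 2 n27115 = n27115 := d1_2 F96045 D27115 (iv D27115)
theorem F120864 : act 4 n27115 = n27115 := d3_2 F96046 D27115 (iv D27115)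
theorem F120865 : act 5 n27115 = n27115 := d4_2 F96047 D27115 (iv D27115)
theorem F120866 : act 9 n27115 = n27115 := d8_2 F96048 D27115 (iv D27115)
def n27116 : Q := act 6 n21421
theorem D27116 : act 6 n21421 = n27116 := rfl
theorem F120867 : act 1 n27116 = n21422 := d13_1 D27116 (iv D21422) D21421
theorem F120868 : act 2 n27116 = n27116 := d20_1 D27116 (iv D27116) F96045
theorem F120869 : act 4 n27116 = n27116 := d31_1 D27116 (iv D27116) F96046
theorem F120870 : act 9 n27116 = n27116 := d41_2 F96048 D27116 (iv D27116)
def n27117 : Q := act 5 n21422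
theorem D27117 : act 5 n21422 = n27117 := rfl
theorem F120871 : act 0 n27117 = n21450 := d4_1 D27117 (iv D21450) (iv F96049)
theorem F120872 : act 2 n27117 = n21423 := d19_1 D27117 (iv D21423) (iv F96050)
theorem F120873 : act 6 n27117 = n27117 := d35_2 D21422 D27117 (iv D27117) (iv D21422) F75711
theorem F120874 : act 9 n27117 = n27117 := d38_2 F96052 D27117 (iv D27117)
def n27118 : Q := act 7 n21422
theorem D27118 : act 7 n21422 = n27118 := rfl
theorem F120875 : act 0 n27118 = n21451 := d6_1 D27118 (iv D21451) (iv F96049)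
theorem F120876 : act 2 n27118 = n21424 := d21_1 D27118 (iv D21424) (iv F96050)
theorem F120877 : act 4 n27118 = n27118 := d32_1 D27118 (iv D27118) F96051
theorem F120878 : act 9 n27118 = n27118 := d43_2 F96052 D27118 (iv D27118)
def n27119 : Q := act 4 n21423
theorem D27119 : act 4 n21423 = n27119 := rfl
theorem F120881 : act 3 n27119 = n21430 := d24_1 D27119 (iv D21430) F75741 (iv F75720) (iv F96055)
def n27120 : Q := act 7 n21423
theorem D27120 : act 7 n21423 = n27120 := rfl
theorem F120885 : act 0 n27120 = n21453 := d6_1 D27120 (iv D21453) (iv F96053)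
theorem F120886 : act 1 n27120 = n27120 := d14_1 D27120 (iv D27120) F96054
theorem F120887 : act 3 n27120 = n21425 := d27_1 D27120 (iv D21425) (iv F96055)
theorem F120888 : act 5 n27120 = n21424 := d36_1 D27120 (iv D21424) D21423
theorem F120889 : act 9 n27120 = n27120 := d43_2 F96057 D27120 (iv D27120)
def n27121 : Q := act 8 n21423
theorem D27121 : act 8 n21423 = n27121 := rfl
theorem F120892 : act 3 n27121 = n21426 := d28_1 D27121 (iv D21426) (iv F96055)
def n27122 : Q := act 6 n21425
theorem D27122 : act 6 n21425 = n27122 := rfl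
theorem F120894 : act 0 n27122 = n21455 := d5_1 D27122 (iv D21455) (iv F96063)
theorem F120895 : act 1 n27122 = n27122 := d13_1 D27122 (iv D27122) F96064
theorem F120896 : act 4 n27122 = n21433 := d31_1 D27122 (iv D21433) (iv F96065)
theorem F120897 : act 7 n27122 = n27122 := d39_2 D21425 D27122 (iv D27122) (iv D21425) F75721
theorem F120898 : act 9 n27122 = n27122 := d41_2 F96067 D27122 (iv D27122)
def n27123 : Q := act 8 n21425
theorem D27123 : act 8 n21425 = n27123 := rfl
theorem F120902 : act 7 n27123 = n21426 := d42_1 D27123 (iv D21426) D21425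
def n27132 : Q := act 6 n21431
theorem D27132 : act 6 n21431 = n27132 := rfl
theorem F120944 : act 3 n27132 = n21433 := d26_1 D27132 (iv D21433) (iv F96095)
def n27135 : Q := act 8 n21433
theorem D27135 : act 8 n21433 = n27135 := rfl
theorem F120961 : act 6 n27135 = n21434 := d40_1 D27135 (iv D21434) D21433
def n27137 : Q := act 0 n21436
theorem D27137 : act 0 n21436 = n27137 := rfl
theorem F120968 : act 2 n27137 = n21486 := d1_2 (iv F96117) D27137 (iv D21486)
theorem F120969 : act 4 n27137 = n27137 := d3_2 F96118 D27137 (iv D27137)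
theorem F120970 : act 8 n27137 = n21448 := d7_2 (iv F96119) D27137 (iv D21448)
def n27138 : Q := act 6 n21436
theorem D27138 : act 6 n21436 = n27138 := rfl
theorem F120971 : act 1 n27138 = n21437 := d13_1 D27138 (iv D21437) D21436
theorem F120972 : act 2 n27138 = n21487 := d20_1 D27138 (iv D21487) (iv F96117)
theorem F120973 : act 4 n27138 = n27138 := d31_1 D27138 (iv D27138) F96118
theorem F120974 : act 8 n27138 = n21449 := d40_2 (iv F96119) D27138 (iv D21449)
def n27139 : Q := act 5 n21437
theorem D27139 : act 5 n21437 = n27139 := rfl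
theorem F120975 : act 2 n27139 = n21438 := d19_1 D27139 (iv D21438) (iv F96120)
def n27140 : Q := act 7 n21437
theorem D27140 : act 7 n21437 = n27140 := rfl
theorem F120976 : act 2 n27140 = n21439 := d21_1 D27140 (iv D21439) (iv F96120)
theorem F120977 : act 4 n27140 = n27140 := d32_1 D27140 (iv D27140) F96121
theorem F120978 : act 8 n27140 = n21451 := d42_2 (iv F96122) D27140 (iv D21451)
def n27141 : Q := act 4 n21438
theorem D27141 : act 4 n21438 = n27141 := rfl
theorem F120979 : act 1 n27141 = n21490 := d11_1 D27141 (iv D21490) (iv F96123)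
theorem F120980 : act 3 n27141 = n21707 := d24_1 D27141 (iv D21707) F76648 (iv F75766) (iv F96124)
def n27142 : Q := act 7 n21438
theorem D27142 : act 7 n21438 = n27142 := rfl
theorem F120982 : act 1 n27142 = n21491 := d14_1 D27142 (iv D21491) (iv F96123)
theorem F120983 : act 3 n27142 = n21440 := d27_1 D27142 (iv D21440) (iv F96124)
theorem F120984 : act 5 n27142 = n21439 := d36_1 D27142 (iv D21439) D21438
def n27143 : Q := act 8 n21438
theorem D27143 : act 8 n21438 = n27143 := rfl
theorem F120985 : act 1 n27143 = n21492 := d15_1 D27143 (iv D21492) (iv F96123)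
theorem F120986 : act 3 n27143 = n21441 := d28_1 D27143 (iv D21441) (iv F96124)
def n27144 : Q := act 6 n21440
theorem D27144 : act 6 n21440 = n27144 := rfl
theorem F120988 : act 1 n27144 = n21493 := d13_1 D27144 (iv D21493) (iv F96129)
theorem F120989 : act 4 n27144 = n21710 := d31_1 D27144 (iv D21710) (iv F96130)
def n27145 : Q := act 8 n21440
theorem D27145 : act 8 n21440 = n27145 := rfl
theorem F120990 : act 1 n27145 = n21494 := d15_1 D27145 (iv D21494) (iv F96129)
theorem F120991 : act 4 n27145 = n21711 := d33_1 D27145 (iv D21711) (iv F96130)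
def n27146 : Q := act 9 n21441
theorem D27146 : act 9 n21441 = n27146 := rfl
theorem F120994 : act 1 n27146 = n21495 := d16_1 D27146 (iv D21495) (iv F96132)
def n27147 : Q := act 0 n21442
theorem D27147 : act 0 n21442 = n27147 := rfl
theorem F120997 : act 2 n27147 = n21496 := d1_2 (iv F96135) D27147 (iv D21496)
theorem F120998 : act 4 n27147 = n27147 := d3_2 F96136 D27147 (iv D27147)
theorem F120999 : act 5 n27147 = n27147 := d4_2 F96137 D27147 (iv D27147)
theorem F121000 : act 7 n27147 = n21448 := d6_2 (iv F96138) D27147 (iv D21448)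
theorem F121001 : act 9 n27147 = n27147 := d8_2 F96139 D27147 (iv D27147)
def n27148 : Q := act 6 n21442
theorem D27148 : act 6 n21442 = n27148 := rfl
theorem F121002 : act 1 n27148 = n21443 := d13_1 D27148 (iv D21443) D21442
theorem F121003 : act 2 n27148 = n21497 := d20_1 D27148 (iv D21497) (iv F96135)
theorem F121004 : act 4 n27148 = n27148 := d31_1 D27148 (iv D27148) F96136
theorem F121005 : act 9 n27148 = n27148 := d41_2 F96139 D27148 (iv D27148)
def n27149 : Q := act 5 n21443
theorem D27149 : act 5 n21443 = n27149 := rfl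
theorem F121006 : act 2 n27149 = n21444 := d19_1 D27149 (iv D21444) (iv F96140)
theorem F121007 : act 6 n27149 = n27149 := d35_2 D21443 D27149 (iv D27149) (iv D21443) F75771
theorem F121008 : act 9 n27149 = n27149 := d38_2 F96142 D27149 (iv D27149)
def n27150 : Q := act 7 n21443
theorem D27150 : act 7 n21443 = n27150 := rfl
theorem F121009 : act 2 n27150 = n21445 := d21_1 D27150 (iv D21445) (iv F96140)
theorem F121010 : act 4 n27150 = n27150 := d32_1 D27150 (iv D27150) F96141
theorem F121011 : act 6 n27150 = n21451 := d39_1 D27150 (iv D21451) (iv D16765) (iv F75772) D21443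
theorem F121012 : act 9 n27150 = n27150 := d43_2 F96142 D27150 (iv D27150)
def n27151 : Q := act 4 n21444
theorem D27151 : act 4 n21444 = n27151 := rfl
theorem F121013 : act 1 n27151 = n21500 := d11_1 D27151 (iv D21500) (iv F96143)
theorem F121014 : act 3 n27151 = n27151 := d24_1 D27151 (iv D27151) F96144 F75779 (iv F96144)
theorem F121015 : act 5 n27151 = n27151 := d30_2 D21444 D27151 (iv D27151) (iv D21444) F75776
theorem F121016 : act 6 n27151 = n27151 := d31_2 F96145 D27151 (iv D27151)
theorem F121017 : act 9 n27151 = n27151 := d34_2 F96146 D27151 (iv D27151)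
theorem F121018 : act 8 n21632 = n27151 := d15_0 F121013 (iv F96399) (iv F96984)
def n27152 : Q := act 7 n21444
theorem D27152 : act 7 n21444 = n27152 := rfl
theorem F121019 : act 1 n27152 = n21501 := d14_1 D27152 (iv D21501) (iv F96143)
theorem F121020 : act 3 n27152 = n21446 := d27_1 D27152 (iv D21446) (iv F96144)
theorem F121021 : act 5 n27152 = n21445 := d36_1 D27152 (iv D21445) D21444
theorem F121022 : act 9 n27152 = n27152 := d43_2 F96146 D27152 (iv D27152)
def n27153 : Q := act 8 n21444
theorem D27153 : act 8 n21444 = n27153 := rfl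
theorem F121023 : act 1 n27153 = n21502 := d15_1 D27153 (iv D21502) (iv F96143)
theorem F121024 : act 3 n27153 = n21447 := d28_1 D27153 (iv D21447) (iv F96144)
theorem F121025 : act 4 n27153 = n21632 := d33_1 D27153 F121018 (iv D27151)
theorem F121026 : act 6 n27153 = n27153 := d40_1 D27153 (iv D27153) F96145
theorem F121027 : act 9 n21641 = n27153 := d34_0 F121025 F96987 D21641
def n27154 : Q := act 6 n21446
theorem D27154 : act 6 n21446 = n27154 := rfl
theorem F121028 : act 1 n27154 = n21503 := d13_1 D27154 (iv D21503) (iv F96152)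
theorem F121029 : act 4 n27154 = n27154 := d31_1 D27154 (iv D27154) F96153
theorem F121030 : act 5 n27154 = n21455 := d35_1 D27154 (iv D21455) F75803 (iv F75784) (iv F96154)
theorem F121031 : act 7 n27154 = n27154 := d39_2 D21446 D27154 (iv D27154) (iv D21446) F75780
theorem F121032 : act 9 n27154 = n27154 := d41_2 F96155 D27154 (iv D27154)
def n27155 : Q := act 8 n21446
theorem D27155 : act 8 n21446 = n27155 := rfl
theorem F121033 : act 1 n27155 = n21504 := d15_1 D27155 (iv D21504) (iv F96152)
theorem F121034 : act 4 n27155 = n27155 := d33_1 D27155 (iv D27155) F96153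
theorem F121035 : act 7 n27155 = n21447 := d42_1 D27155 (iv D21447) D21446
def n27156 : Q := act 9 n21447
theorem D27156 : act 9 n21447 = n27156 := rfl
theorem F121036 : act 1 n27156 = n21505 := d16_1 D27156 (iv D21505) (iv F96156)
theorem F121037 : act 3 n27156 = n21641 := d29_1 D27156 F121027 F121024
theorem F121038 : act 4 n27156 = n27156 := d34_1 D27156 (iv D27156) F96157
theorem F121039 : act 6 n27156 = n27156 := d41_1 D27156 (iv D27156) F96158
theorem F121040 : act 8 n27156 = n27156 := d44_1 D27156 (iv D27156) (iv D21447) F75781 D21447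
def n27157 : Q := act 6 n21448
theorem D27157 : act 6 n21448 = n27157 := rfl
theorem F121041 : act 0 n27157 = n21449 := d5_1 D27157 (iv D21449) D21448
theorem F121042 : act 2 n27157 = n21506 := d20_1 D27157 (iv D21506) (iv F96159)
theorem F121043 : act 4 n27157 = n27157 := d31_1 D27157 (iv D27157) F96160
theorem F121044 : act 9 n27157 = n27157 := d41_2 F96162 D27157 (iv D27157)
def n27158 : Q := act 5 n21449
theorem D27158 : act 5 n21449 = n27158 := rfl
theorem F121045 : act 1 n27158 = n21450 := d12_1 D27158 (iv D21450) (iv F96163)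
theorem F121046 : act 2 n27158 = n21507 := d19_1 D27158 (iv D21507) (iv F96164)
theorem F121047 : act 6 n27158 = n27158 := d35_2 D21449 D27158 (iv D27158) (iv D21449) F75788
theorem F121048 : act 9 n27158 = n27158 := d38_2 F96166 D27158 (iv D27158)
def n27159 : Q := act 7 n21449
theorem D27159 : act 7 n21449 = n27159 := rfl
theorem F121049 : act 1 n27159 = n21451 := d14_1 D27159 (iv D21451) (iv F96163)
theorem F121050 : act 2 n27159 = n21508 := d21_1 D27159 (iv D21508) (iv F96164)
theorem F121051 : act 4 n27159 = n27159 := d32_1 D27159 (iv D27159) F96165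
theorem F121052 : act 9 n27159 = n27159 := d43_2 F96166 D27159 (iv D27159)
def n27160 : Q := act 4 n21450
theorem D27160 : act 4 n21450 = n27160 := rfl
theorem F121053 : act 2 n27160 = n21452 := d18_1 D27160 (iv D21452) (iv F96167)
def n27161 : Q := act 7 n21450
theorem D27161 : act 7 n21450 = n27161 := rfl
theorem F121057 : act 2 n27161 = n21453 := d21_1 D27161 (iv D21453) (iv F96167)
theorem F121058 : act 5 n27161 = n21451 := d36_1 D27161 (iv D21451) D21450
theorem F121059 : act 9 n27161 = n27161 := d43_2 F96169 D27161 (iv D27161)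
def n27162 : Q := act 8 n21450
theorem D27162 : act 8 n21450 = n27162 := rfl
theorem F121060 : act 2 n27162 = n21454 := d22_1 D27162 (iv D21454) (iv F96167)
def n27163 : Q := act 7 n21452
theorem D27163 : act 7 n21452 = n27163 := rfl
theorem F121062 : act 1 n27163 = n21512 := d14_1 D27163 (iv D21512) (iv F96173)
theorem F121063 : act 3 n27163 = n21461 := d27_1 D27163 (iv D21461) (iv F96174)
theorem F121064 : act 4 n27163 = n21453 := d32_1 D27163 (iv D21453) D21452
def n27165 : Q := act 6 n21453
theorem D27165 : act 6 n21453 = n27165 := rfl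
theorem F121071 : act 1 n27165 = n21514 := d13_1 D27165 (iv D21514) (iv F96178)
theorem F121072 : act 3 n27165 = n21455 := d26_1 D27165 (iv D21455) (iv F96179)
theorem F121073 : act 7 n27165 = n27165 := d39_2 D21453 D27165 (iv D27165) (iv D21453) F75795
theorem F121074 : act 9 n27165 = n27165 := d41_2 F96181 D27165 (iv D27165)
def n27166 : Q := act 8 n21453
theorem D27166 : act 8 n21453 = n27166 := rfl
theorem F121075 : act 1 n27166 = n21515 := d15_1 D27166 (iv D21515) (iv F96178)
theorem F121077 : act 7 n27166 = n21454 := d42_1 D27166 (iv D21454) D21453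
def n27167 : Q := act 9 n21454
theorem D27167 : act 9 n21454 = n27167 := rfl
theorem F121078 : act 1 n27167 = n21516 := d16_1 D27167 (iv D21516) (iv F96182)
def n27168 : Q := act 8 n21455
theorem D27168 : act 8 n21455 = n27168 := rfl
theorem F121082 : act 1 n27168 = n21517 := d15_1 D27168 (iv D21517) (iv F96185)
theorem F121084 : act 6 n27168 = n21456 := d40_1 D27168 (iv D21456) D21455
def n27169 : Q := act 9 n21456
theorem D27169 : act 9 n21456 = n27169 := rfl
theorem F121086 : act 1 n27169 = n21518 := d16_1 D27169 (iv D21518) (iv F96189)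
def n27176 : Q := act 6 n21461
theorem D27176 : act 6 n21461 = n27176 := rfl
theorem F121117 : act 1 n27176 = n21519 := d13_1 D27176 (iv D21519) (iv F96209)
def n27183 : Q := act 9 n21466
theorem D27183 : act 9 n21466 = n27183 := rfl
theorem F121144 : act 1 n27183 = n21526 := d16_1 D27183 (iv D21526) (iv F96230)
def n27184 : Q := act 0 n21468
theorem D27184 : act 0 n21468 = n27184 := rfl
theorem F121148 : act 1 n27184 = n27184 := d0_2 D21468 D27184 (iv D27184) (iv D21468) F75841
theorem F121149 : act 3 n27184 = n21527 := d2_2 (iv F96237) D27184 (iv D21527)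
theorem F121150 : act 4 n27184 = n21613 := d3_2 (iv F96238) D27184 (iv D21613)
theorem F121151 : act 5 n27184 = n21486 := d4_2 (iv F96239) D27184 (iv D21486)
theorem F121152 : act 7 n27184 = n21553 := d6_2 (iv F96240) D27184 (iv D21553)
theorem F121153 : act 8 n27184 = n27184 := d7_2 F96241 D27184 (iv D27184)
theorem F121154 : act 9 n27184 = n21543 := d8_2 (iv F96242) D27184 (iv D21543)
def n27185 : Q := act 6 n21468
theorem D27185 : act 6 n21468 = n27185 := rfl
theorem F121155 : act 1 n27185 = n21469 := d13_1 D27185 (iv D21469) D21468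
theorem F121156 : act 3 n27185 = n21528 := d26_1 D27185 (iv D21528) (iv F96237)
theorem F121157 : act 4 n27185 = n21614 := d31_1 D27185 (iv D21614) (iv F96238)
theorem F121158 : act 8 n27185 = n27185 := d40_2 F96241 D27185 (iv D27185)
theorem F121159 : act 9 n27185 = n21544 := d41_2 (iv F96242) D27185 (iv D21544)
def n27186 : Q := act 5 n21469
theorem D27186 : act 5 n21469 = n27186 := rfl
theorem F121160 : act 0 n27186 = n27186 := d4_1 D27186 (iv D27186) F96243
theorem F121161 : act 2 n27186 = n21470 := d19_1 D27186 (iv D21470) (iv F96244)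
theorem F121162 : act 3 n27186 = n21529 := d25_1 D27186 (iv D21529) (iv F96245)
theorem F121163 : act 4 n27186 = n21925 := d30_1 D27186 F98130 F96901 (iv D21615) (iv F96246)
theorem F121164 : act 6 n27186 = n21488 := d35_2 D21469 D27186 (iv D21488) (iv D16791) (iv F75844)
theorem F121165 : act 9 n27186 = n21545 := d38_2 (iv F96248) D27186 (iv D21545)
theorem F121166 : act 8 n21940 = n27186 := d44_5 F121165 F96601 F77231 D17124 D21940
def n27187 : Q := act 7 n21469
theorem D27187 : act 7 n21469 = n27187 := rfl
theorem F121167 : act 0 n27187 = n27187 := d6_1 D27187 (iv D27187) F96243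
theorem F121168 : act 2 n27187 = n21471 := d21_1 D27187 (iv D21471) (iv F96244)
theorem F121169 : act 3 n27187 = n21530 := d27_1 D27187 (iv D21530) (iv F96245)
theorem F121170 : act 4 n27187 = n21616 := d32_1 D27187 (iv D21616) (iv F96246)
theorem F121171 : act 6 n27187 = n21556 := d39_1 D27187 (iv D21556) (iv D16836) (iv F75845) D21469
theorem F121172 : act 8 n27187 = n27187 := d42_2 F96247 D27187 (iv D27187)
theorem F121173 : act 9 n27187 = n21546 := d43_2 (iv F96248) D27187 (iv D21546)
def n27188 : Q := act 4 n21470
theorem D27188 : act 4 n21470 = n27188 := rfl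
theorem F121174 : act 0 n27188 = n27188 := d3_1 D27188 (iv D27188) F96249
theorem F121175 : act 2 n27188 = n21925 := d18_1 D27188 (iv F121163) F121161
theorem F121176 : act 3 n27188 = n21760 := d24_1 D27188 (iv D21760) F76786 (iv F75855) (iv F96250)
theorem F121177 : act 5 n27188 = n21617 := d30_2 D21470 D27188 (iv D21617) (iv D16885) (iv F75850)
theorem F121178 : act 6 n27188 = n21490 := d31_2 (iv F96251) D27188 (iv D21490)
theorem F121179 : act 9 n27188 = n21547 := d34_2 (iv F96252) D27188 (iv D21547)
theorem F121180 : act 8 n21937 = n27188 := d44_5 F121179 (iv F96610) F77223 D17122 D21937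
def n27189 : Q := act 7 n21470
theorem D27189 : act 7 n21470 = n27189 := rfl
theorem F121181 : act 0 n27189 = n27189 := d6_1 D27189 (iv D27189) F96249
theorem F121182 : act 3 n27189 = n21472 := d27_1 D27189 (iv D21472) (iv F96250)
theorem F121183 : act 5 n27189 = n21471 := d36_1 D27189 (iv D21471) D21470
theorem F121184 : act 9 n27189 = n21548 := d43_2 (iv F96252) D27189 (iv D21548)
def n27190 : Q := act 8 n21470
theorem D27190 : act 8 n21470 = n27190 := rfl
theorem F121185 : act 0 n27190 = n27190 := d7_1 D27190 (iv D27190) F96249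
theorem F121186 : act 2 n27190 = n21940 := d22_1 D27190 F121166 F121161
theorem F121187 : act 3 n27190 = n21473 := d28_1 D27190 (iv D21473) (iv F96250)
theorem F121188 : act 4 n27190 = n21937 := d33_1 D27190 F121180 (iv D27188)
theorem F121189 : act 5 n27190 = n27190 := d37_1 D27190 (iv D27190) (iv D21470) F75851 D21470
theorem F121190 : act 6 n27190 = n21492 := d40_1 D27190 (iv D21492) (iv F96251)
theorem F121191 : act 9 n27190 = n21934 := d44_2 (iv F96252) D27190 (iv D21934) F96619 (iv D21549)
def n27191 : Q := act 6 n21472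
theorem D27191 : act 6 n21472 = n27191 := rfl
theorem F121192 : act 0 n27191 = n27191 := d5_1 D27191 (iv D27191) F96259
theorem F121193 : act 2 n27191 = n21534 := d20_1 D27191 (iv D21534) (iv F96260)
theorem F121194 : act 4 n27191 = n21763 := d31_1 D27191 (iv D21763) (iv F96261)
theorem F121195 : act 5 n27191 = n21560 := d35_1 D27191 (iv D21560) F76120 (iv F75861) (iv F96262)
theorem F121196 : act 7 n27191 = n21493 := d39_2 D21472 D27191 (iv D21493) (iv D16794) (iv F75856)
theorem F121197 : act 9 n27191 = n21550 := d41_2 (iv F96263) D27191 (iv D21550)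
def n27192 : Q := act 8 n21472
theorem D27192 : act 8 n21472 = n27192 := rfl
theorem F121198 : act 0 n27192 = n27192 := d7_1 D27192 (iv D27192) F96259
theorem F121199 : act 2 n27192 = n21535 := d22_1 D27192 (iv D21535) (iv F96260)
theorem F121200 : act 4 n27192 = n21764 := d33_1 D27192 (iv D21764) (iv F96261)
theorem F121201 : act 5 n27192 = n27192 := d37_1 D27192 (iv D27192) F96262 F75862 (iv F96262)
theorem F121202 : act 7 n27192 = n21473 := d42_1 D27192 (iv D21473) D21472
def n27193 : Q := act 9 n21473
theorem D27193 : act 9 n21473 = n27193 := rfl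
theorem F121203 : act 0 n27193 = n27193 := d8_1 D27193 (iv D27193) F96264
theorem F121204 : act 2 n27193 = n21536 := d23_1 D27193 (iv D21536) (iv F96265)
theorem F121205 : act 3 n27193 = n21934 := d29_1 D27193 (iv F121191) F121187
theorem F121206 : act 4 n27193 = n21765 := d34_1 D27193 (iv D21765) (iv F96266)
theorem F121207 : act 5 n27193 = n27193 := d38_1 D27193 (iv D27193) F96267
theorem F121208 : act 6 n27193 = n21495 := d41_1 D27193 (iv D21495) (iv F96268)
theorem F121209 : act 8 n27193 = n21552 := d44_1 D27193 (iv D21552) (iv D16834) (iv F75857) D21473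
def n27194 : Q := act 0 n21474
theorem D27194 : act 0 n21474 = n27194 := rfl
theorem F121210 : act 1 n27194 = n27194 := d0_2 D21474 D27194 (iv D27194) (iv D21474) F75864
theorem F121211 : act 3 n27194 = n21543 := d2_2 (iv F96269) D27194 (iv D21543)
theorem F121212 : act 4 n27194 = n27194 := d3_2 F96270 D27194 (iv D27194)
theorem F121213 : act 5 n27194 = n21553 := d4_2 (iv F96271) D27194 (iv D21553)
theorem F121214 : act 7 n27194 = n21486 := d6_2 (iv F96272) D27194 (iv D21486)
theorem F121215 : act 8 n27194 = n21496 := d7_2 (iv F96273) D27194 (iv D21496)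
theorem F121216 : act 9 n27194 = n21527 := d8_2 (iv F96274) D27194 (iv D21527)
def n27195 : Q := act 6 n21474
theorem D27195 : act 6 n21474 = n27195 := rfl
theorem F121217 : act 1 n27195 = n21475 := d13_1 D27195 (iv D21475) D21474
theorem F121218 : act 3 n27195 = n21544 := d26_1 D27195 (iv D21544) (iv F96269)
theorem F121219 : act 4 n27195 = n27195 := d31_1 D27195 (iv D27195) F96270
theorem F121220 : act 8 n27195 = n21497 := d40_2 (iv F96273) D27195 (iv D21497)
theorem F121221 : act 9 n27195 = n21528 := d41_2 (iv F96274) D27195 (iv D21528)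
def n27196 : Q := act 5 n21475
theorem D27196 : act 5 n21475 = n27196 := rfl
theorem F121222 : act 0 n27196 = n27196 := d4_1 D27196 (iv D27196) F96275
theorem F121223 : act 2 n27196 = n21476 := d19_1 D27196 (iv D21476) (iv F96276)
theorem F121224 : act 3 n27196 = n21545 := d25_1 D27196 (iv D21545) (iv F96277)
theorem F121225 : act 6 n27196 = n21555 := d35_2 D21475 D27196 (iv D21555) (iv D16836) (iv F75867)
theorem F121226 : act 8 n27196 = n21557 := d37_2 (iv F96279) D27196 F96646 F96386 (iv D21498)
theorem F121227 : act 9 n27196 = n21529 := d38_2 (iv F96280) D27196 (iv D21529)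
theorem F121228 : act 4 n21559 = n27196 := d33_3 F121226 (iv D21557) D21559
def n27197 : Q := act 7 n21475
theorem D27197 : act 7 n21475 = n27197 := rfl
theorem F121229 : act 0 n27197 = n27197 := d6_1 D27197 (iv D27197) F96275
theorem F121230 : act 2 n27197 = n21477 := d21_1 D27197 (iv D21477) (iv F96276)
theorem F121231 : act 3 n27197 = n21546 := d27_1 D27197 (iv D21546) (iv F96277)
theorem F121232 : act 4 n27197 = n27197 := d32_1 D27197 (iv D27197) F96278
theorem F121233 : act 6 n27197 = n21489 := d39_1 D27197 (iv D21489) (iv D16791) (iv F75868) D21475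
theorem F121234 : act 8 n27197 = n21499 := d42_2 (iv F96279) D27197 (iv D21499)
theorem F121235 : act 9 n27197 = n21530 := d43_2 (iv F96280) D27197 (iv D21530)
def n27198 : Q := act 4 n21476
theorem D27198 : act 4 n21476 = n27198 := rfl
theorem F121236 : act 0 n27198 = n27198 := d3_1 D27198 (iv D27198) F96281
theorem F121237 : act 2 n27198 = n21559 := d18_1 D27198 F121228 F121223
theorem F121238 : act 3 n27198 = n21866 := d24_1 D27198 (iv D21866) F77097 (iv F75878) (iv F96282)
theorem F121239 : act 5 n27198 = n27198 := d30_2 D21476 D27198 (iv D27198) (iv D21476) F75873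
theorem F121240 : act 6 n27198 = n21557 := d31_2 (iv F96283) D27198 (iv D21557)
theorem F121241 : act 9 n27198 = n21531 := d34_2 (iv F96284) D27198 (iv D21531)
theorem F121242 : act 8 n21555 = n27198 := d40_0 F121240 (iv F121226) F121225
def n27199 : Q := act 7 n21476
theorem D27199 : act 7 n21476 = n27199 := rfl
theorem F121243 : act 0 n27199 = n27199 := d6_1 D27199 (iv D27199) F96281
theorem F121244 : act 3 n27199 = n21478 := d27_1 D27199 (iv D21478) (iv F96282)
theorem F121245 : act 5 n27199 = n21477 := d36_1 D27199 (iv D21477) D21476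
theorem F121246 : act 9 n27199 = n21532 := d43_2 (iv F96284) D27199 (iv D21532)
def n27200 : Q := act 8 n21476
theorem D27200 : act 8 n21476 = n27200 := rfl
theorem F121247 : act 0 n27200 = n27200 := d7_1 D27200 (iv D27200) F96281
theorem F121248 : act 2 n27200 = n21557 := d22_1 D27200 (iv F121226) F121223
theorem F121249 : act 3 n27200 = n21479 := d28_1 D27200 (iv D21479) (iv F96282)
theorem F121250 : act 4 n27200 = n21555 := d33_1 D27200 F121242 (iv D27198)
theorem F121251 : act 5 n27200 = n21502 := d37_1 D27200 (iv D21502) (iv D16798) (iv F75874) D21476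
theorem F121252 : act 6 n27200 = n21559 := d40_1 D27200 (iv D21559) (iv F96283)
theorem F121253 : act 9 n21566 = n27200 := d38_0 F121251 (iv F96409) (iv F96676)
def n27201 : Q := act 6 n21478
theorem D27201 : act 6 n21478 = n27201 := rfl
theorem F121254 : act 0 n27201 = n27201 := d5_1 D27201 (iv D27201) F96291
theorem F121255 : act 2 n27201 = n21550 := d20_1 D27201 (iv D21550) (iv F96292)
theorem F121256 : act 4 n27201 = n21869 := d31_1 D27201 (iv D21869) (iv F96293)
theorem F121257 : act 5 n27201 = n21493 := d35_1 D27201 (iv D21493) F75927 (iv F75884) (iv F96294)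
theorem F121258 : act 7 n27201 = n21560 := d39_2 D21478 D27201 (iv D21560) (iv D16839) (iv F75879)
theorem F121259 : act 9 n27201 = n21534 := d41_2 (iv F96295) D27201 (iv D21534)
def n27202 : Q := act 8 n21478
theorem D27202 : act 8 n21478 = n27202 := rfl
theorem F121260 : act 0 n27202 = n27202 := d7_1 D27202 (iv D27202) F96291
theorem F121261 : act 2 n27202 = n21551 := d22_1 D27202 (iv D21551) (iv F96292)
theorem F121262 : act 4 n27202 = n21870 := d33_1 D27202 (iv D21870) (iv F96293)
theorem F121263 : act 5 n27202 = n21504 := d37_1 D27202 (iv D21504) F75954 (iv F75885) (iv F96294)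
theorem F121264 : act 7 n27202 = n21479 := d42_1 D27202 (iv D21479) D21478
def n27203 : Q := act 9 n21479
theorem D27203 : act 9 n21479 = n27203 := rfl
theorem F121265 : act 0 n27203 = n27203 := d8_1 D27203 (iv D27203) F96296
theorem F121266 : act 2 n27203 = n21552 := d23_1 D27203 (iv D21552) (iv F96297)
theorem F121267 : act 3 n27203 = n21566 := d29_1 D27203 F121253 F121249
theorem F121268 : act 4 n27203 = n21871 := d34_1 D27203 (iv D21871) (iv F96298)
theorem F121269 : act 5 n27203 = n21505 := d38_1 D27203 (iv D21505) (iv F96299)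
theorem F121270 : act 6 n27203 = n21562 := d41_1 D27203 (iv D21562) (iv F96300)
theorem F121271 : act 8 n27203 = n21536 := d44_1 D27203 (iv D21536) (iv D16824) (iv F75880) D21479
def n27204 : Q := act 0 n21480
theorem D27204 : act 0 n21480 = n27204 := rfl
theorem F121272 : act 1 n27204 = n27204 := d0_2 D21480 D27204 (iv D27204) (iv D21480) F75887
theorem F121273 : act 3 n27204 = n21553 := d2_2 (iv F96301) D27204 (iv D21553)
theorem F121274 : act 4 n27204 = n27204 := d3_2 F96302 D27204 (iv D27204)
theorem F121275 : act 5 n27204 = n21543 := d4_2 (iv F96303) D27204 (iv D21543)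
theorem F121276 : act 7 n27204 = n21527 := d6_2 (iv F96304) D27204 (iv D21527)
theorem F121277 : act 8 n27204 = n27204 := d7_2 F96305 D27204 (iv D27204)
theorem F121278 : act 9 n27204 = n21486 := d8_2 (iv F96306) D27204 (iv D21486)
def n27205 : Q := act 6 n21480
theorem D27205 : act 6 n21480 = n27205 := rfl
theorem F121279 : act 1 n27205 = n21481 := d13_1 D27205 (iv D21481) D21480
theorem F121280 : act 3 n27205 = n21554 := d26_1 D27205 (iv D21554) (iv F96301)
theorem F121281 : act 4 n27205 = n27205 := d31_1 D27205 (iv D27205) F96302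
theorem F121282 : act 8 n27205 = n27205 := d40_2 F96305 D27205 (iv D27205)
theorem F121283 : act 9 n27205 = n21487 := d41_2 (iv F96306) D27205 (iv D21487)
def n27206 : Q := act 5 n21481
theorem D27206 : act 5 n21481 = n27206 := rfl
theorem F121284 : act 0 n27206 = n27206 := d4_1 D27206 (iv D27206) F96307
theorem F121285 : act 2 n27206 = n21482 := d19_1 D27206 (iv D21482) (iv F96308)
theorem F121286 : act 3 n27206 = n21555 := d25_1 D27206 (iv D21555) (iv F96309)
theorem F121287 : act 6 n27206 = n21545 := d35_2 D21481 D27206 (iv D21545) (iv D16830) (iv F75890)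
theorem F121288 : act 9 n27206 = n21488 := d38_2 (iv F96312) D27206 (iv D21488)
theorem F121289 : act 4 n21868 = n27206 := d31_3 F121287 F96600 (iv F97943)
theorem F121290 : act 8 n21866 = n27206 := d40_0 F121287 F96601 (iv F97934)
def n27207 : Q := act 7 n21481
theorem D27207 : act 7 n21481 = n27207 := rfl
theorem F121291 : act 0 n27207 = n27207 := d6_1 D27207 (iv D27207) F96307
theorem F121292 : act 2 n27207 = n21483 := d21_1 D27207 (iv D21483) (iv F96308)
theorem F121293 : act 3 n27207 = n21556 := d27_1 D27207 (iv D21556) (iv F96309)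
theorem F121294 : act 4 n27207 = n27207 := d32_1 D27207 (iv D27207) F96310
theorem F121295 : act 6 n27207 = n21530 := d39_1 D27207 (iv D21530) (iv D16820) (iv F75891) D21481
theorem F121296 : act 8 n27207 = n27207 := d42_2 F96311 D27207 (iv D27207)
theorem F121297 : act 9 n27207 = n21489 := d43_2 (iv F96312) D27207 (iv D21489)
def n27208 : Q := act 4 n21482
theorem D27208 : act 4 n21482 = n27208 := rfl
theorem F121298 : act 0 n27208 = n27208 := d3_1 D27208 (iv D27208) F96313
theorem F121299 : act 2 n27208 = n21868 := d18_1 D27208 F121289 F121285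
theorem F121300 : act 3 n27208 = n21792 := d24_1 D27208 (iv D21792) F76877 (iv F75901) (iv F96314)
theorem F121301 : act 5 n27208 = n27208 := d30_2 D21482 D27208 (iv D27208) (iv D21482) F75896
theorem F121302 : act 6 n27208 = n21547 := d31_2 (iv F96315) D27208 (iv D21547)
theorem F121303 : act 9 n27208 = n21490 := d34_2 (iv F96316) D27208 (iv D21490)
theorem F121304 : act 8 n21864 = n27208 := d40_0 F121302 (iv F96610) (iv F97925)
def n27209 : Q := act 7 n21482
theorem D27209 : act 7 n21482 = n27209 := rfl
theorem F121305 : act 0 n27209 = n27209 := d6_1 D27209 (iv D27209) F96313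
theorem F121306 : act 3 n27209 = n21484 := d27_1 D27209 (iv D21484) (iv F96314)
theorem F121307 : act 5 n27209 = n21483 := d36_1 D27209 (iv D21483) D21482
theorem F121308 : act 9 n27209 = n21491 := d43_2 (iv F96316) D27209 (iv D21491)
def n27210 : Q := act 8 n21482
theorem D27210 : act 8 n21482 = n27210 := rfl
theorem F121309 : act 0 n27210 = n27210 := d7_1 D27210 (iv D27210) F96313
theorem F121310 : act 2 n27210 = n21866 := d22_1 D27210 F121290 F121285
theorem F121311 : act 3 n27210 = n21485 := d28_1 D27210 (iv D21485) (iv F96314)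
theorem F121312 : act 4 n27210 = n21864 := d33_1 D27210 F121304 (iv D27208)
theorem F121313 : act 5 n27210 = n27210 := d37_1 D27210 (iv D27210) (iv D21482) F75897 D21482
theorem F121314 : act 6 n27210 = n21549 := d40_1 D27210 (iv D21549) (iv F96315)
theorem F121315 : act 9 n21875 = n27210 := d41_0 F121314 (iv F96619) (iv F97966)
def n27211 : Q := act 6 n21484
theorem D27211 : act 6 n21484 = n27211 := rfl
theorem F121316 : act 0 n27211 = n27211 := d5_1 D27211 (iv D27211) F96323
theorem F121317 : act 2 n27211 = n21560 := d20_1 D27211 (iv D21560) (iv F96324)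
theorem F121318 : act 4 n27211 = n21795 := d31_1 D27211 (iv D21795) (iv F96325)
theorem F121319 : act 5 n27211 = n21534 := d35_1 D27211 (iv D21534) F76056 (iv F75907) (iv F96326)
theorem F121320 : act 7 n27211 = n21550 := d39_2 D21484 D27211 (iv D21550) (iv D16833) (iv F75902)
theorem F121321 : act 9 n27211 = n21493 := d41_2 (iv F96327) D27211 (iv D21493)
def n27212 : Q := act 8 n21484
theorem D27212 : act 8 n21484 = n27212 := rfl
theorem F121322 : act 0 n27212 = n27212 := d7_1 D27212 (iv D27212) F96323
theorem F121323 : act 2 n27212 = n21561 := d22_1 D27212 (iv D21561) (iv F96324)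
theorem F121324 : act 4 n27212 = n21796 := d33_1 D27212 (iv D21796) (iv F96325)
theorem F121325 : act 5 n27212 = n27212 := d37_1 D27212 (iv D27212) F96326 F75908 (iv F96326)
theorem F121326 : act 7 n27212 = n21485 := d42_1 D27212 (iv D21485) D21484
def n27213 : Q := act 9 n21485
theorem D27213 : act 9 n21485 = n27213 := rfl
theorem F121327 : act 0 n27213 = n27213 := d8_1 D27213 (iv D27213) F96328
theorem F121328 : act 2 n27213 = n21562 := d23_1 D27213 (iv D21562) (iv F96329)
theorem F121329 : act 3 n27213 = n21875 := d29_1 D27213 F121315 F121311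
theorem F121330 : act 4 n27213 = n21797 := d34_1 D27213 (iv D21797) (iv F96330)
theorem F121331 : act 5 n27213 = n27213 := d38_1 D27213 (iv D27213) F96331
theorem F121332 : act 6 n27213 = n21552 := d41_1 D27213 (iv D21552) (iv F96332)
theorem F121333 : act 8 n27213 = n21495 := d44_1 D27213 (iv D21495) (iv D16795) (iv F75903) D21485
def n27214 : Q := act 6 n21486
theorem D27214 : act 6 n21486 = n27214 := rfl
theorem F121334 : act 0 n27214 = n21487 := d5_1 D27214 (iv D21487) D21486
theorem F121335 : act 1 n27214 = n27214 := d13_1 D27214 (iv D27214) F96333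
theorem F121336 : act 3 n27214 = n21563 := d26_1 D27214 (iv D21563) (iv F96334)
theorem F121337 : act 4 n27214 = n27214 := d31_1 D27214 (iv D27214) F96335
theorem F121338 : act 8 n27214 = n21506 := d40_2 (iv F96336) D27214 (iv D21506)
def n27215 : Q := act 5 n21487
theorem D27215 : act 5 n21487 = n27215 := rfl
theorem F121339 : act 1 n27215 = n21488 := d12_1 D27215 (iv D21488) (iv F96337)
theorem F121340 : act 3 n27215 = n21564 := d25_1 D27215 (iv D21564) (iv F96338)
def n27216 : Q := act 7 n21487
theorem D27216 : act 7 n21487 = n27216 := rfl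
theorem F121341 : act 1 n27216 = n21489 := d14_1 D27216 (iv D21489) (iv F96337)
theorem F121342 : act 3 n27216 = n21565 := d27_1 D27216 (iv D21565) (iv F96338)
theorem F121343 : act 4 n27216 = n27216 := d32_1 D27216 (iv D27216) F96339
theorem F121344 : act 8 n27216 = n21508 := d42_2 (iv F96340) D27216 (iv D21508)
def n27217 : Q := act 4 n21488
theorem D27217 : act 4 n21488 = n27217 := rfl
theorem F121345 : act 0 n27217 = n27217 := d3_1 D27217 (iv D27217) F96341
theorem F121346 : act 2 n27217 = n21490 := d18_1 D27217 (iv D21490) (iv F96342)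
theorem F121347 : act 3 n27217 = n21871 := d24_1 D27217 (iv F121268) F121267 (iv D21566) (iv F96343)
theorem F121348 : act 5 n27217 = n27217 := d30_2 D21488 D27217 (iv D27217) (iv D21488) F75916
theorem F121349 : act 6 n27217 = n21925 := d31_2 F121164 D27217 (iv F121163)
theorem F121350 : act 9 n27217 = n21868 := d34_2 F121288 D27217 F121289
theorem F121351 : act 8 n21882 = n27217 := d44_5 F121350 (iv D21868) F77099 D17081 D21882
def n27218 : Q := act 7 n21488
theorem D27218 : act 7 n21488 = n27218 := rfl
theorem F121352 : act 0 n27218 = n27218 := d6_1 D27218 (iv D27218) F96341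
theorem F121353 : act 2 n27218 = n21491 := d21_1 D27218 (iv D21491) (iv F96342)
theorem F121354 : act 3 n27218 = n21567 := d27_1 D27218 (iv D21567) (iv F96343)
theorem F121355 : act 5 n27218 = n21489 := d36_1 D27218 (iv D21489) D21488
def n27219 : Q := act 8 n21488
theorem D27219 : act 8 n21488 = n27219 := rfl
theorem F121356 : act 0 n27219 = n27219 := d7_1 D27219 (iv D27219) F96341
theorem F121357 : act 2 n27219 = n21492 := d22_1 D27219 (iv D21492) (iv F96342)
theorem F121358 : act 3 n27219 = n21568 := d28_1 D27219 (iv D21568) (iv F96343)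
theorem F121359 : act 4 n27219 = n21882 := d33_1 D27219 F121351 (iv D27217)
theorem F121360 : act 5 n27219 = n21511 := d37_1 D27219 (iv D21511) (iv D16804) (iv F75917) D21488
theorem F121361 : act 6 n27219 = n21940 := d40_1 D27219 F121166 F121164
theorem F121362 : act 9 n27219 = n21879 := d44_2 F121288 D27219 (iv D21879) (iv F97935) F121290
def n27220 : Q := act 7 n21490
theorem D27220 : act 7 n21490 = n27220 := rfl
theorem F121363 : act 0 n27220 = n27220 := d6_1 D27220 (iv D27220) F96349
theorem F121364 : act 3 n27220 = n21804 := d27_1 D27220 (iv D21804) (iv F96350)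
theorem F121365 : act 4 n27220 = n21491 := d32_1 D27220 (iv D21491) D21490
theorem F121366 : act 5 n27220 = n27220 := d36_1 D27220 (iv D27220) F96351
def n27221 : Q := act 8 n21490
theorem D27221 : act 8 n21490 = n27221 := rfl
theorem F121370 : act 4 n27221 = n21492 := d33_1 D27221 (iv D21492) D21490
theorem F121372 : act 9 n27221 = n21877 := d44_2 F121303 D27221 (iv D21877) (iv F97926) F121304
theorem F121373 : act 5 n22644 = n27221 := d38_3 F121372 F97972 D22644
def n27222 : Q := act 6 n21491
theorem D27222 : act 6 n21491 = n27222 := rfl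
theorem F121374 : act 0 n27222 = n27222 := d5_1 D27222 (iv D27222) F96352
theorem F121375 : act 3 n27222 = n21493 := d26_1 D27222 (iv D21493) (iv F96353)
def n27223 : Q := act 8 n21491
theorem D27223 : act 8 n21491 = n27223 := rfl
theorem F121376 : act 0 n27223 = n27223 := d7_1 D27223 (iv D27223) F96352
theorem F121377 : act 3 n27223 = n21494 := d28_1 D27223 (iv D21494) (iv F96353)
theorem F121378 : act 5 n27223 = n21515 := d37_1 D27223 (iv D21515) F75986 (iv F75923) (iv F96354)
theorem F121379 : act 7 n27223 = n21492 := d42_1 D27223 (iv D21492) D21491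
def n27224 : Q := act 9 n21492
theorem D27224 : act 9 n21492 = n27224 := rfl
theorem F121380 : act 0 n27224 = n27224 := d8_1 D27224 (iv D27224) F96355
theorem F121381 : act 2 n27224 = n21879 := d23_1 D27224 (iv F121362) F121357
theorem F121382 : act 3 n27224 = n21495 := d29_1 D27224 (iv D21495) (iv F96356)
theorem F121383 : act 4 n27224 = n21877 := d34_1 D27224 (iv F121372) F121370
theorem F121384 : act 5 n27224 = n21516 := d38_1 D27224 (iv D21516) (iv F96357)
theorem F121386 : act 8 n27224 = n21875 := d44_1 D27224 F121315 (iv D27210) F96316 D21492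
def n27225 : Q := act 8 n21493
theorem D27225 : act 8 n21493 = n27225 := rfl
theorem F121387 : act 0 n27225 = n27225 := d7_1 D27225 (iv D27225) F96358
theorem F121388 : act 2 n27225 = n21574 := d22_1 D27225 (iv D21574) (iv F96359)
theorem F121389 : act 4 n27225 = n21809 := d33_1 D27225 (iv D21809) (iv F96360)
theorem F121390 : act 6 n27225 = n21494 := d40_1 D27225 (iv D21494) D21493
def n27226 : Q := act 9 n21494
theorem D27226 : act 9 n21494 = n27226 := rfl
theorem F121391 : act 0 n27226 = n27226 := d8_1 D27226 (iv D27226) F96361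
theorem F121392 : act 2 n27226 = n21575 := d23_1 D27226 (iv D21575) (iv F96362)
theorem F121393 : act 4 n27226 = n21810 := d34_1 D27226 (iv D21810) (iv F96363)
theorem F121394 : act 5 n27226 = n21518 := d38_1 D27226 (iv D21518) (iv F96364)
theorem F121395 : act 7 n27226 = n21495 := d43_1 D27226 (iv D21495) (iv F96365)
def n27227 : Q := act 6 n21496
theorem D27227 : act 6 n21496 = n27227 := rfl
theorem F121396 : act 0 n27227 = n21497 := d5_1 D27227 (iv D21497) D21496
theorem F121397 : act 1 n27227 = n27227 := d13_1 D27227 (iv D27227) F96370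
theorem F121398 : act 3 n27227 = n21576 := d26_1 D27227 (iv D21576) (iv F96371)
theorem F121399 : act 4 n27227 = n27227 := d31_1 D27227 (iv D27227) F96372
theorem F121400 : act 9 n27227 = n27227 := d41_2 F96375 D27227 (iv D27227)
def n27228 : Q := act 7 n21497
theorem D27228 : act 7 n21497 = n27228 := rfl
theorem F121401 : act 1 n27228 = n21499 := d14_1 D27228 (iv D21499) (iv F96376)
theorem F121402 : act 3 n27228 = n21577 := d27_1 D27228 (iv D21577) (iv F96377)
theorem F121403 : act 4 n27228 = n27228 := d32_1 D27228 (iv D27228) F96378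
theorem F121404 : act 6 n27228 = n21508 := d39_1 D27228 (iv D21508) (iv D16803) (iv F75935) D21497
theorem F121405 : act 9 n27228 = n27228 := d43_2 F96379 D27228 (iv D27228)
def n27229 : Q := act 7 n21498
theorem D27229 : act 7 n21498 = n27229 := rfl
theorem F121406 : act 0 n27229 = n27229 := d6_1 D27229 (iv D27229) F96380
theorem F121407 : act 2 n27229 = n21501 := d21_1 D27229 (iv D21501) (iv F96381)
theorem F121408 : act 3 n27229 = n21578 := d27_1 D27229 (iv D21578) (iv F96382)
theorem F121409 : act 4 n27229 = n21637 := d32_1 D27229 F97008 F96385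
theorem F121410 : act 5 n27229 = n21499 := d36_1 D27229 (iv D21499) D21498
theorem F121411 : act 8 n27229 = n21635 := d42_2 F96386 D27229 (iv D21635)
theorem F121412 : act 9 n27229 = n27229 := d43_2 F96384 D27229 (iv D27229)
def n27230 : Q := act 7 n21500
theorem D27230 : act 7 n21500 = n27230 := rfl
theorem F121413 : act 0 n27230 = n27230 := d6_1 D27230 (iv D27230) F96393
theorem F121414 : act 2 n27230 = n21637 := d21_1 D27230 F97008 (iv F96394)
theorem F121415 : act 3 n27230 = n27230 := d27_1 D27230 (iv D27230) F96395
theorem F121416 : act 4 n27230 = n21501 := d32_1 D27230 (iv D21501) D21500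
theorem F121417 : act 5 n27230 = n27230 := d36_1 D27230 (iv D27230) F96396
theorem F121418 : act 8 n27230 = n21634 := d42_2 F96399 D27230 (iv D21634)
theorem F121419 : act 9 n27230 = n27230 := d43_2 F96398 D27230 (iv D27230)
def n27231 : Q := act 6 n21501
theorem D27231 : act 6 n21501 = n27231 := rfl
theorem F121420 : act 0 n27231 = n27231 := d5_1 D27231 (iv D27231) F96400
theorem F121421 : act 3 n27231 = n21503 := d26_1 D27231 (iv D21503) (iv F96401)
theorem F121422 : act 5 n27231 = n21514 := d35_1 D27231 (iv D21514) F75986 (iv F75949) (iv F96402)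
theorem F121423 : act 7 n27231 = n27231 := d39_2 D21501 D27231 (iv D27231) (iv D21501) F75944
theorem F121424 : act 9 n27231 = n27231 := d41_2 F96403 D27231 (iv D27231)
def n27232 : Q := act 8 n21501
theorem D27232 : act 8 n21501 = n27232 := rfl
theorem F121425 : act 0 n27232 = n27232 := d7_1 D27232 (iv D27232) F96400
theorem F121426 : act 2 n27232 = n21635 := d22_1 D27232 (iv F121411) F121407
theorem F121427 : act 3 n27232 = n21504 := d28_1 D27232 (iv D21504) (iv F96401)
theorem F121428 : act 4 n27232 = n21634 := d33_1 D27232 (iv F121418) F121416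
theorem F121429 : act 7 n27232 = n21502 := d42_1 D27232 (iv D21502) D21501
theorem F121430 : act 9 n21643 = n27232 := d43_0 F121429 (iv F96409) D21643
def n27233 : Q := act 8 n21503
theorem D27233 : act 8 n21503 = n27233 := rfl
theorem F121431 : act 0 n27233 = n27233 := d7_1 D27233 (iv D27233) F96410
theorem F121432 : act 2 n27233 = n21582 := d22_1 D27233 (iv D21582) (iv F96411)
theorem F121433 : act 4 n27233 = n27233 := d33_1 D27233 (iv D27233) F96412
theorem F121434 : act 6 n27233 = n21504 := d40_1 D27233 (iv D21504) D21503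
theorem F121435 : act 7 n27233 = n27233 := d42_1 D27233 (iv D27233) F96414
def n27234 : Q := act 9 n21504
theorem D27234 : act 9 n21504 = n27234 := rfl
theorem F121436 : act 0 n27234 = n27234 := d8_1 D27234 (iv D27234) F96416
theorem F121437 : act 2 n27234 = n21583 := d23_1 D27234 (iv D21583) (iv F96417)
theorem F121438 : act 3 n27234 = n21643 := d29_1 D27234 F121430 F121427
theorem F121439 : act 4 n27234 = n27234 := d34_1 D27234 (iv D27234) F96418
theorem F121440 : act 7 n27234 = n21505 := d43_1 D27234 (iv D21505) (iv F96419)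
theorem F121441 : act 8 n27234 = n27234 := d44_1 D27234 (iv D27234) (iv D21504) F75955 D21504
def n27235 : Q := act 5 n21506
theorem D27235 : act 5 n21506 = n27235 := rfl
theorem F121442 : act 0 n27235 = n21507 := d4_1 D27235 (iv D21507) (iv F96426)
theorem F121443 : act 1 n27235 = n27235 := d12_1 D27235 (iv D27235) F96427
theorem F121444 : act 3 n27235 = n21584 := d25_1 D27235 (iv D21584) (iv F96428)
theorem F121445 : act 6 n27235 = n27235 := d35_2 D21506 D27235 (iv D27235) (iv D21506) F75963
theorem F121446 : act 9 n27235 = n27235 := d38_2 F96430 D27235 (iv D27235)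
def n27236 : Q := act 7 n21506
theorem D27236 : act 7 n21506 = n27236 := rfl
theorem F121447 : act 0 n27236 = n21508 := d6_1 D27236 (iv D21508) (iv F96426)
theorem F121448 : act 1 n27236 = n27236 := d14_1 D27236 (iv D27236) F96427
theorem F121449 : act 3 n27236 = n21585 := d27_1 D27236 (iv D21585) (iv F96428)
theorem F121450 : act 4 n27236 = n27236 := d32_1 D27236 (iv D27236) F96429
theorem F121451 : act 9 n27236 = n27236 := d43_2 F96430 D27236 (iv D27236)
def n27237 : Q := act 4 n21507
theorem D27237 : act 4 n21507 = n27237 := rfl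
theorem F121452 : act 1 n27237 = n21509 := d11_1 D27237 (iv D21509) (iv F96431)
theorem F121453 : act 3 n27237 = n27237 := d24_1 D27237 (iv D27237) F96432 F76209 (iv F96432)
theorem F121454 : act 5 n27237 = n27237 := d30_2 D21507 D27237 (iv D27237) (iv D21507) F75967
theorem F121455 : act 6 n27237 = n27237 := d31_2 F96433 D27237 (iv D27237)
theorem F121456 : act 9 n27237 = n27237 := d34_2 F96434 D27237 (iv D27237)
def n27238 : Q := act 7 n21507
theorem D27238 : act 7 n21507 = n27238 := rfl
theorem F121457 : act 1 n27238 = n21510 := d14_1 D27238 (iv D21510) (iv F96431)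
theorem F121458 : act 3 n27238 = n21586 := d27_1 D27238 (iv D21586) (iv F96432)
theorem F121459 : act 5 n27238 = n21508 := d36_1 D27238 (iv D21508) D21507
theorem F121460 : act 9 n27238 = n27238 := d43_2 F96434 D27238 (iv D27238)
def n27239 : Q := act 8 n21507
theorem D27239 : act 8 n21507 = n27239 := rfl
theorem F121461 : act 1 n27239 = n21511 := d15_1 D27239 (iv D21511) (iv F96431)
theorem F121462 : act 3 n27239 = n21587 := d28_1 D27239 (iv D21587) (iv F96432)
theorem F121463 : act 6 n27239 = n27239 := d40_1 D27239 (iv D27239) F96433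
def n27240 : Q := act 7 n21509
theorem D27240 : act 7 n21509 = n27240 := rfl
theorem F121464 : act 0 n27240 = n27240 := d6_1 D27240 (iv D27240) F96439
theorem F121465 : act 2 n27240 = n21512 := d21_1 D27240 (iv D21512) (iv F96440)
theorem F121466 : act 3 n27240 = n27240 := d27_1 D27240 (iv D27240) F96441
theorem F121467 : act 4 n27240 = n21510 := d32_1 D27240 (iv D21510) D21509
theorem F121468 : act 5 n27240 = n27240 := d36_1 D27240 (iv D27240) F96442
theorem F121469 : act 9 n27240 = n27240 := d43_2 F96444 D27240 (iv D27240)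
def n27241 : Q := act 8 n21509
theorem D27241 : act 8 n21509 = n27241 := rfl
theorem F121471 : act 2 n27241 = n21513 := d22_1 D27241 (iv D21513) (iv F96440)
theorem F121473 : act 4 n27241 = n21511 := d33_1 D27241 (iv D21511) D21509
def n27242 : Q := act 6 n21510
theorem D27242 : act 6 n21510 = n27242 := rfl
theorem F121477 : act 0 n27242 = n27242 := d5_1 D27242 (iv D27242) F96445
theorem F121478 : act 2 n27242 = n21514 := d20_1 D27242 (iv D21514) (iv F96446)
theorem F121479 : act 3 n27242 = n21588 := d26_1 D27242 (iv D21588) (iv F96447)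
theorem F121480 : act 7 n27242 = n27242 := d39_2 D21510 D27242 (iv D27242) (iv D21510) F75972
theorem F121481 : act 9 n27242 = n27242 := d41_2 F96449 D27242 (iv D27242)
def n27243 : Q := act 8 n21510
theorem D27243 : act 8 n21510 = n27243 := rfl
theorem F121482 : act 0 n27243 = n27243 := d7_1 D27243 (iv D27243) F96445
theorem F121483 : act 2 n27243 = n21515 := d22_1 D27243 (iv D21515) (iv F96446)
theorem F121484 : act 3 n27243 = n21589 := d28_1 D27243 (iv D21589) (iv F96447)
theorem F121485 : act 7 n27243 = n21511 := d42_1 D27243 (iv D21511) D21510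
def n27244 : Q := act 9 n21511
theorem D27244 : act 9 n21511 = n27244 := rfl
theorem F121486 : act 0 n27244 = n27244 := d8_1 D27244 (iv D27244) F96450
theorem F121487 : act 2 n27244 = n21516 := d23_1 D27244 (iv D21516) (iv F96451)
theorem F121488 : act 3 n27244 = n21590 := d29_1 D27244 (iv D21590) (iv F96452)
theorem F121490 : act 5 n27244 = n21879 := d38_1 D27244 (iv F121362) F121360
theorem F121491 : act 6 n27244 = n27244 := d41_1 D27244 (iv D27244) F96453
theorem F121492 : act 8 n27244 = n27244 := d44_1 D27244 (iv D27244) (iv D21511) F75973 D21511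
def n27245 : Q := act 6 n21512
theorem D27245 : act 6 n21512 = n27245 := rfl
theorem F121493 : act 0 n27245 = n27245 := d5_1 D27245 (iv D27245) F96454
theorem F121494 : act 3 n27245 = n21519 := d26_1 D27245 (iv D21519) (iv F96455)
theorem F121495 : act 4 n27245 = n21514 := d31_1 D27245 (iv D21514) (iv F96456)
theorem F121496 : act 7 n27245 = n27245 := d39_2 D21512 D27245 (iv D27245) (iv D21512) F75982
theorem F121497 : act 9 n27245 = n27245 := d41_2 F96458 D27245 (iv D27245)
def n27246 : Q := act 8 n21512
theorem D27246 : act 8 n21512 = n27246 := rfl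
theorem F121500 : act 4 n27246 = n21515 := d33_1 D27246 (iv D21515) (iv F96456)
theorem F121501 : act 7 n27246 = n21513 := d42_1 D27246 (iv D21513) D21512
def n27247 : Q := act 5 n21513
theorem D27247 : act 5 n21513 = n27247 := rfl
theorem F121504 : act 3 n27247 = n21521 := d25_1 D27247 (iv D21521) (iv F96460)
theorem F121505 : act 4 n27247 = n22644 := d30_1 D27247 F121373 F121370 F96357 (iv F96461)
theorem F121507 : act 6 n22691 = n27247 := d31_0 F121505 F101073 (iv F101256)
theorem F121508 : act 9 n22641 = n27247 := d34_0 F121505 (iv D22644) (iv F101062)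
def n27248 : Q := act 9 n21513
theorem D27248 : act 9 n21513 = n27248 := rfl
theorem F121512 : act 4 n27248 = n21516 := d34_1 D27248 (iv D21516) (iv F96461)
theorem F121513 : act 5 n27248 = n22641 := d38_1 D27248 F121508 (iv D27247)
def n27249 : Q := act 8 n21514
theorem D27249 : act 8 n21514 = n27249 := rfl
theorem F121516 : act 0 n27249 = n27249 := d7_1 D27249 (iv D27249) F96463
theorem F121517 : act 3 n27249 = n21517 := d28_1 D27249 (iv D21517) (iv F96464)
theorem F121518 : act 6 n27249 = n21515 := d40_1 D27249 (iv D21515) D21514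
theorem F121519 : act 7 n27249 = n27249 := d42_1 D27249 (iv D27249) F96465
def n27250 : Q := act 9 n21515
theorem D27250 : act 9 n21515 = n27250 := rfl
theorem F121520 : act 0 n27250 = n27250 := d8_1 D27250 (iv D27250) F96467
theorem F121521 : act 3 n27250 = n21518 := d29_1 D27250 (iv D21518) (iv F96468)
theorem F121522 : act 7 n27250 = n21516 := d43_1 D27250 (iv D21516) (iv F96469)
theorem F121523 : act 8 n27250 = n27250 := d44_1 D27250 (iv D27250) (iv D21515) F75987 D21515
def n27251 : Q := act 5 n21517
theorem D27251 : act 5 n21517 = n27251 := rfl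
theorem F121524 : act 0 n27251 = n27251 := d4_1 D27251 (iv D27251) F96474
theorem F121525 : act 2 n27251 = n21593 := d19_1 D27251 (iv D21593) (iv F96475)
theorem F121526 : act 7 n27251 = n27251 := d36_2 F96478 D27251 (iv D27251)
def n27252 : Q := act 9 n21517
theorem D27252 : act 9 n21517 = n27252 := rfl
theorem F121527 : act 0 n27252 = n27252 := d8_1 D27252 (iv D27252) F96474
theorem F121528 : act 2 n27252 = n21594 := d23_1 D27252 (iv D21594) (iv F96475)
theorem F121529 : act 4 n27252 = n21526 := d34_1 D27252 (iv D21526) (iv F96476)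
theorem F121530 : act 6 n27252 = n21518 := d41_1 D27252 (iv D21518) (iv F96477)
theorem F121531 : act 7 n27252 = n27252 := d43_1 D27252 (iv D27252) F96478
theorem F121532 : act 8 n27252 = n27252 := d44_1 D27252 (iv D27252) (iv D21517) F75995 D21517
def n27253 : Q := act 5 n21519
theorem D27253 : act 5 n21519 = n27253 := rfl
theorem F121533 : act 0 n27253 = n27253 := d4_1 D27253 (iv D27253) F96484
theorem F121534 : act 2 n27253 = n27253 := d19_1 D27253 (iv D27253) F96485
theorem F121535 : act 4 n27253 = n27253 := d30_1 D27253 (iv D27253) F96486 F76017 (iv F96486)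
theorem F121536 : act 6 n27253 = n27253 := d35_2 D21519 D27253 (iv D27253) (iv D21519) F76008
theorem F121537 : act 7 n27253 = n27253 := d36_2 F96487 D27253 (iv D27253)
theorem F121538 : act 9 n27253 = n27253 := d38_2 F96488 D27253 (iv D27253)
def n27254 : Q := act 8 n21519
theorem D27254 : act 8 n21519 = n27254 := rfl
theorem F121542 : act 6 n27254 = n21520 := d40_1 D27254 (iv D21520) D21519
def n27257 : Q := act 6 n21521
theorem D27257 : act 6 n21521 = n27257 := rfl
theorem F121556 : act 3 n27257 = n22691 := d26_1 D27257 F121507 F121504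
theorem F121557 : act 4 n27257 = n21846 := d31_1 D27257 (iv D21846) (iv F96495)
theorem F121560 : act 9 n22688 = n27257 := d29_0 F121556 (iv D22691) (iv F101243)
def n27260 : Q := act 9 n21523
theorem D27260 : act 9 n21523 = n27260 := rfl
theorem F121576 : act 3 n27260 = n21526 := d29_1 D27260 (iv D21526) (iv F96504)
def n27261 : Q := act 4 n21525
theorem D27261 : act 4 n21525 = n27261 := rfl
theorem F121581 : act 2 n27261 = n21595 := d18_1 D27261 (iv D21595) (iv F96514)
theorem F121582 : act 6 n27261 = n21850 := d31_2 (iv F96515) D27261 (iv D21850)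
def n27262 : Q := act 9 n21525
theorem D27262 : act 9 n21525 = n27262 := rfl
theorem F121586 : act 2 n27262 = n21596 := d23_1 D27262 (iv D21596) (iv F96514)
theorem F121587 : act 5 n27262 = n21526 := d38_1 D27262 (iv D21526) D21525
def n27263 : Q := act 6 n21527
theorem D27263 : act 6 n21527 = n27263 := rfl
theorem F121590 : act 0 n27263 = n21528 := d5_1 D27263 (iv D21528) D21527
theorem F121591 : act 1 n27263 = n27263 := d13_1 D27263 (iv D27263) F96523
theorem F121592 : act 4 n27263 = n27263 := d31_1 D27263 (iv D27263) F96524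
theorem F121593 : act 8 n27263 = n27263 := d40_2 F96526 D27263 (iv D27263)
def n27264 : Q := act 5 n21528
theorem D27264 : act 5 n21528 = n27264 := rfl
theorem F121594 : act 1 n27264 = n21529 := d12_1 D27264 (iv D21529) (iv F96527)
theorem F121595 : act 6 n27264 = n21564 := d35_2 D21528 D27264 (iv D21564) (iv D16842) (iv F76041)
def n27265 : Q := act 7 n21528
theorem D27265 : act 7 n21528 = n27265 := rfl
theorem F121596 : act 1 n27265 = n21530 := d14_1 D27265 (iv D21530) (iv F96527)
theorem F121597 : act 4 n27265 = n27265 := d32_1 D27265 (iv D27265) F96528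
theorem F121598 : act 8 n27265 = n27265 := d42_2 F96529 D27265 (iv D27265)
def n27266 : Q := act 4 n21529
theorem D27266 : act 4 n21529 = n27266 := rfl
theorem F121599 : act 0 n27266 = n27266 := d3_1 D27266 (iv D27266) F96530
theorem F121600 : act 2 n27266 = n21531 := d18_1 D27266 (iv D21531) (iv F96531)
theorem F121601 : act 3 n27266 = n21562 := d24_1 D27266 F96663 (iv F98129) (iv F121163) F121162
theorem F121602 : act 5 n27266 = n27266 := d30_2 D21529 D27266 (iv D27266) (iv D21529) F76045
theorem F121603 : act 6 n27266 = n21566 := d31_2 (iv F96532) D27266 (iv D21566)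
theorem F121604 : act 9 n27266 = n21559 := d34_2 F121227 D27266 F121228
theorem F121605 : act 8 n21573 = n27266 := d44_5 F121604 (iv D21559) F76112 D16847 D21573
def n27267 : Q := act 7 n21529
theorem D27267 : act 7 n21529 = n27267 := rfl
theorem F121606 : act 0 n27267 = n27267 := d6_1 D27267 (iv D27267) F96530
theorem F121607 : act 2 n27267 = n21532 := d21_1 D27267 (iv D21532) (iv F96531)
theorem F121608 : act 5 n27267 = n21530 := d36_1 D27267 (iv D21530) D21529
def n27268 : Q := act 8 n21529
theorem D27268 : act 8 n21529 = n27268 := rfl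
theorem F121609 : act 0 n27268 = n27268 := d7_1 D27268 (iv D27268) F96530
theorem F121610 : act 2 n27268 = n21533 := d22_1 D27268 (iv D21533) (iv F96531)
theorem F121611 : act 3 n27268 = n21940 := d28_1 D27268 F121166 F121162
theorem F121612 : act 4 n27268 = n21573 := d33_1 D27268 F121605 (iv D27266)
theorem F121613 : act 5 n27268 = n27268 := d37_1 D27268 (iv D27268) (iv D21529) F76046 D21529
theorem F121614 : act 6 n27268 = n21568 := d40_1 D27268 (iv D21568) (iv F96532)
theorem F121615 : act 9 n27268 = n21570 := d44_2 F121227 D27268 (iv D21570) (iv F96647) (iv F121226)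
def n27269 : Q := act 7 n21531
theorem D27269 : act 7 n21531 = n27269 := rfl
theorem F121616 : act 0 n27269 = n27269 := d6_1 D27269 (iv D27269) F96537
theorem F121617 : act 3 n27269 = n21878 := d27_1 D27269 (iv D21878) (iv F96538)
theorem F121618 : act 4 n27269 = n21532 := d32_1 D27269 (iv D21532) D21531
theorem F121619 : act 5 n27269 = n27269 := d36_1 D27269 (iv D27269) F96539
def n27270 : Q := act 8 n21531
theorem D27270 : act 8 n21531 = n27270 := rfl
theorem F121620 : act 0 n27270 = n27270 := d7_1 D27270 (iv D27270) F96537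
theorem F121621 : act 2 n27270 = n21573 := d22_1 D27270 F121605 F121600
theorem F121622 : act 3 n27270 = n21879 := d28_1 D27270 (iv D21879) (iv F96538)
theorem F121623 : act 4 n27270 = n21533 := d33_1 D27270 (iv D21533) D21531
theorem F121624 : act 6 n27270 = n21570 := d40_1 D27270 (iv D21570) (iv F96540)
theorem F121625 : act 9 n27270 = n21568 := d44_2 F121241 D27270 (iv D21568) (iv F96638) F121242
theorem F121626 : act 5 n21590 = n27270 := d38_3 F121625 F96682 D21590
def n27271 : Q := act 6 n21532
theorem D27271 : act 6 n21532 = n27271 := rfl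
theorem F121627 : act 0 n27271 = n27271 := d5_1 D27271 (iv D27271) F96541
theorem F121628 : act 3 n27271 = n21534 := d26_1 D27271 (iv D21534) (iv F96542)
theorem F121629 : act 7 n27271 = n21571 := d39_2 D21532 D27271 (iv D21571) (iv D16846) (iv F76049)
def n27272 : Q := act 8 n21532
theorem D27272 : act 8 n21532 = n27272 := rfl
theorem F121630 : act 0 n27272 = n27272 := d7_1 D27272 (iv D27272) F96541
theorem F121631 : act 3 n27272 = n21535 := d28_1 D27272 (iv D21535) (iv F96542)
theorem F121632 : act 5 n27272 = n27272 := d37_1 D27272 (iv D27272) F96543 F76053 (iv F96543)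
theorem F121633 : act 7 n27272 = n21533 := d42_1 D27272 (iv D21533) D21532
def n27273 : Q := act 9 n21533
theorem D27273 : act 9 n21533 = n27273 := rfl
theorem F121634 : act 0 n27273 = n27273 := d8_1 D27273 (iv D27273) F96544
theorem F121635 : act 2 n27273 = n21570 := d23_1 D27273 (iv F121615) F121610
theorem F121636 : act 3 n27273 = n21536 := d29_1 D27273 (iv D21536) (iv F96545)
theorem F121637 : act 4 n27273 = n21568 := d34_1 D27273 (iv F121625) F121623
theorem F121638 : act 5 n27273 = n27273 := d38_1 D27273 (iv D27273) F96546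
theorem F121639 : act 6 n27273 = n21573 := d41_1 D27273 (iv D21573) (iv F96547)
theorem F121640 : act 8 n27273 = n21566 := d44_1 D27273 F121253 (iv D27200) F96284 D21533
def n27274 : Q := act 8 n21534
theorem D27274 : act 8 n21534 = n27274 := rfl
theorem F121641 : act 0 n27274 = n27274 := d7_1 D27274 (iv D27274) F96548
theorem F121642 : act 4 n27274 = n21883 := d33_1 D27274 (iv D21883) (iv F96549)
theorem F121643 : act 6 n27274 = n21535 := d40_1 D27274 (iv D21535) D21534
theorem F121644 : act 7 n27274 = n21574 := d42_1 D27274 (iv D21574) (iv F96550)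
def n27275 : Q := act 9 n21535
theorem D27275 : act 9 n21535 = n27275 := rfl
theorem F121645 : act 0 n27275 = n27275 := d8_1 D27275 (iv D27275) F96551
theorem F121646 : act 4 n27275 = n21884 := d34_1 D27275 (iv D21884) (iv F96552)
theorem F121647 : act 5 n27275 = n27275 := d38_1 D27275 (iv D27275) F96553
theorem F121648 : act 7 n27275 = n21536 := d43_1 D27275 (iv D21536) (iv F96554)
def n27278 : Q := act 5 n21538
theorem D27278 : act 5 n21538 = n27278 := rfl
theorem F121661 : act 0 n27278 = n27278 := d4_1 D27278 (iv D27278) F96565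
theorem F121662 : act 2 n27278 = n21539 := d19_1 D27278 (iv D21539) (iv F96566)
theorem F121663 : act 3 n27278 = n21864 := d25_1 D27278 (iv D21864) (iv F96567)
theorem F121664 : act 4 n27278 = n21794 := d30_1 D27278 F97638 (iv F96858) (iv D21605) (iv F96568)
theorem F121665 : act 6 n27278 = n21790 := d35_2 D21538 D27278 (iv D21790) (iv D17017) (iv F76064)
theorem F121666 : act 9 n27278 = n21758 := d38_2 (iv F96570) D27278 (iv D21758)
theorem F121667 : act 8 n21792 = n27278 := d33_0 F121664 (iv D21794) D21792
def n27279 : Q := act 7 n21538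
theorem D27279 : act 7 n21538 = n27279 := rfl
theorem F121668 : act 0 n27279 = n27279 := d6_1 D27279 (iv D27279) F96565
theorem F121669 : act 2 n27279 = n21540 := d21_1 D27279 (iv D21540) (iv F96566)
theorem F121670 : act 3 n27279 = n21865 := d27_1 D27279 (iv D21865) (iv F96567)
theorem F121671 : act 4 n27279 = n21606 := d32_1 D27279 (iv D21606) (iv F96568)
theorem F121672 : act 6 n27279 = n21888 := d39_1 D27279 (iv D21888) (iv D17086) (iv F76065) D21538
theorem F121673 : act 8 n27279 = n27279 := d42_2 F96569 D27279 (iv D27279)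
theorem F121674 : act 9 n27279 = n21759 := d43_2 (iv F96570) D27279 (iv D21759)
def n27280 : Q := act 4 n21539
theorem D27280 : act 4 n21539 = n27280 := rfl
theorem F121675 : act 0 n27280 = n27280 := d3_1 D27280 (iv D27280) F96571
theorem F121676 : act 2 n27280 = n21794 := d18_1 D27280 (iv F121664) F121662
theorem F121677 : act 3 n27280 = n21547 := d24_1 D27280 (iv D21547) F76092 (iv F76075) (iv F96572)
theorem F121678 : act 5 n27280 = n21607 := d30_2 D21539 D27280 (iv D21607) (iv D16879) (iv F76070)
theorem F121679 : act 6 n27280 = n21792 := d31_2 (iv F96573) D27280 (iv D21792)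
theorem F121680 : act 9 n27280 = n21760 := d34_2 (iv F96574) D27280 (iv D21760)
theorem F121681 : act 8 n21790 = n27280 := d40_0 F121679 F121667 F121665
def n27281 : Q := act 7 n21539
theorem D27281 : act 7 n21539 = n27281 := rfl
theorem F121682 : act 0 n27281 = n27281 := d6_1 D27281 (iv D27281) F96571
theorem F121683 : act 3 n27281 = n21541 := d27_1 D27281 (iv D21541) (iv F96572)
theorem F121684 : act 5 n27281 = n21540 := d36_1 D27281 (iv D21540) D21539
theorem F121685 : act 9 n27281 = n21761 := d43_2 (iv F96574) D27281 (iv D21761)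
def n27282 : Q := act 8 n21539
theorem D27282 : act 8 n21539 = n27282 := rfl
theorem F121686 : act 0 n27282 = n27282 := d7_1 D27282 (iv D27282) F96571
theorem F121687 : act 2 n27282 = n21792 := d22_1 D27282 F121667 F121662
theorem F121688 : act 3 n27282 = n21542 := d28_1 D27282 (iv D21542) (iv F96572)
theorem F121689 : act 4 n27282 = n21790 := d33_1 D27282 F121681 (iv D27280)
theorem F121690 : act 5 n27282 = n27282 := d37_1 D27282 (iv D27282) (iv D21539) F76071 D21539
theorem F121691 : act 6 n27282 = n21794 := d40_1 D27282 (iv D21794) (iv F96573)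
theorem F121692 : act 9 n21801 = n27282 := d34_0 F121689 F97622 D21801
def n27283 : Q := act 6 n21541
theorem D27283 : act 6 n21541 = n27283 := rfl
theorem F121693 : act 0 n27283 = n27283 := d5_1 D27283 (iv D27283) F96581
theorem F121694 : act 2 n27283 = n21869 := d20_1 D27283 (iv D21869) (iv F96582)
theorem F121695 : act 4 n27283 = n21550 := d31_1 D27283 (iv D21550) (iv F96583)
theorem F121696 : act 5 n27283 = n21892 := d35_1 D27283 (iv D21892) F77157 (iv F76081) (iv F96584)
theorem F121697 : act 7 n27283 = n21795 := d39_2 D21541 D27283 (iv D21795) (iv D17020) (iv F76076)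
theorem F121698 : act 9 n27283 = n21763 := d41_2 (iv F96585) D27283 (iv D21763)
def n27284 : Q := act 8 n21541
theorem D27284 : act 8 n21541 = n27284 := rfl
theorem F121699 : act 0 n27284 = n27284 := d7_1 D27284 (iv D27284) F96581
theorem F121700 : act 2 n27284 = n21870 := d22_1 D27284 (iv D21870) (iv F96582)
theorem F121701 : act 4 n27284 = n21551 := d33_1 D27284 (iv D21551) (iv F96583)
theorem F121702 : act 5 n27284 = n27284 := d37_1 D27284 (iv D27284) F96584 F76082 (iv F96584)
theorem F121703 : act 7 n27284 = n21542 := d42_1 D27284 (iv D21542) D21541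
def n27285 : Q := act 9 n21542
theorem D27285 : act 9 n21542 = n27285 := rfl
theorem F121704 : act 0 n27285 = n27285 := d8_1 D27285 (iv D27285) F96586
theorem F121705 : act 2 n27285 = n21871 := d23_1 D27285 (iv D21871) (iv F96587)
theorem F121707 : act 4 n27285 = n21552 := d34_1 D27285 (iv D21552) (iv F96588)
theorem F121708 : act 5 n27285 = n27285 := d38_1 D27285 (iv D27285) F96589
theorem F121709 : act 6 n27285 = n21797 := d41_1 D27285 (iv D21797) (iv F96590)
theorem F121710 : act 8 n27285 = n21765 := d44_1 D27285 (iv D21765) (iv D17001) (iv F76077) D21542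
def n27286 : Q := act 6 n21543
theorem D27286 : act 6 n21543 = n27286 := rfl
theorem F121711 : act 0 n27286 = n21544 := d5_1 D27286 (iv D21544) D21543
theorem F121712 : act 1 n27286 = n27286 := d13_1 D27286 (iv D27286) F96591
theorem F121713 : act 4 n27286 = n21623 := d31_1 D27286 (iv D21623) (iv F96592)
theorem F121714 : act 8 n27286 = n21576 := d40_2 (iv F96594) D27286 (iv D21576)
def n27287 : Q := act 7 n21544
theorem D27287 : act 7 n21544 = n27287 := rfl
theorem F121715 : act 1 n27287 = n21546 := d14_1 D27287 (iv D21546) (iv F96595)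
theorem F121716 : act 4 n27287 = n21624 := d32_1 D27287 (iv D21624) (iv F96596)
theorem F121717 : act 6 n27287 = n21565 := d39_1 D27287 (iv D21565) (iv D16842) (iv F76085) D21544
theorem F121718 : act 8 n27287 = n21577 := d42_2 (iv F96597) D27287 (iv D21577)
def n27288 : Q := act 7 n21545
theorem D27288 : act 7 n21545 = n27288 := rfl
theorem F121719 : act 0 n27288 = n27288 := d6_1 D27288 (iv D27288) F96598
theorem F121720 : act 2 n27288 = n21548 := d21_1 D27288 (iv D21548) (iv F96599)
theorem F121721 : act 4 n27288 = n21924 := d32_1 D27288 F98127 (iv F96600)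
theorem F121722 : act 5 n27288 = n21546 := d36_1 D27288 (iv D21546) D21545
theorem F121723 : act 8 n27288 = n21922 := d42_2 (iv F96601) D27288 (iv D21922)
def n27289 : Q := act 7 n21547
theorem D27289 : act 7 n21547 = n27289 := rfl
theorem F121724 : act 0 n27289 = n27289 := d6_1 D27289 (iv D27289) F96607
theorem F121725 : act 2 n27289 = n21924 := d21_1 D27289 F98127 (iv F96608)
theorem F121726 : act 4 n27289 = n21548 := d32_1 D27289 (iv D21548) D21547
theorem F121727 : act 5 n27289 = n21626 := d36_1 D27289 (iv D21626) (iv F96609)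
theorem F121728 : act 8 n27289 = n21921 := d42_2 F96610 D27289 (iv D21921)
def n27290 : Q := act 6 n21548
theorem D27290 : act 6 n21548 = n27290 := rfl
theorem F121729 : act 0 n27290 = n27290 := d5_1 D27290 (iv D27290) F96611
theorem F121730 : act 3 n27290 = n21550 := d26_1 D27290 (iv D21550) (iv F96612)
theorem F121731 : act 5 n27290 = n21571 := d35_1 D27290 (iv D21571) F76142 (iv F76096) (iv F96613)
def n27291 : Q := act 8 n21548
theorem D27291 : act 8 n21548 = n27291 := rfl
theorem F121732 : act 0 n27291 = n27291 := d7_1 D27291 (iv D27291) F96611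
theorem F121733 : act 2 n27291 = n21922 := d22_1 D27291 (iv F121723) F121720
theorem F121734 : act 3 n27291 = n21551 := d28_1 D27291 (iv D21551) (iv F96612)
theorem F121735 : act 4 n27291 = n21921 := d33_1 D27291 (iv F121728) F121726
theorem F121736 : act 5 n27291 = n21581 := d37_1 D27291 (iv D21581) F76183 (iv F76097) (iv F96613)
theorem F121737 : act 7 n27291 = n21549 := d42_1 D27291 (iv D21549) D21548
theorem F121738 : act 9 n21933 = n27291 := d43_0 F121737 (iv F96619) D21933
def n27292 : Q := act 8 n21550
theorem D27292 : act 8 n21550 = n27292 := rfl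
theorem F121739 : act 0 n27292 = n27292 := d7_1 D27292 (iv D27292) F96620
theorem F121740 : act 6 n27292 = n21551 := d40_1 D27292 (iv D21551) D21550
def n27293 : Q := act 9 n21551
theorem D27293 : act 9 n21551 = n27293 := rfl
theorem F121741 : act 0 n27293 = n27293 := d8_1 D27293 (iv D27293) F96622
theorem F121742 : act 3 n27293 = n21933 := d29_1 D27293 F121738 F121734
theorem F121743 : act 5 n27293 = n21583 := d38_1 D27293 (iv D21583) (iv F96623)
theorem F121744 : act 7 n27293 = n21552 := d43_1 D27293 (iv D21552) (iv F96624)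
def n27294 : Q := act 6 n21553
theorem D27294 : act 6 n21553 = n27294 := rfl
theorem F121745 : act 0 n27294 = n21554 := d5_1 D27294 (iv D21554) D21553
theorem F121746 : act 1 n27294 = n27294 := d13_1 D27294 (iv D27294) F96628
theorem F121747 : act 4 n27294 = n21631 := d31_1 D27294 (iv D21631) (iv F96629)
theorem F121748 : act 8 n27294 = n27294 := d40_2 F96630 D27294 (iv D27294)
theorem F121749 : act 9 n27294 = n21563 := d41_2 (iv F96631) D27294 (iv D21563)
def n27295 : Q := act 5 n21554
theorem D27295 : act 5 n21554 = n27295 := rfl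
theorem F121750 : act 1 n27295 = n21555 := d12_1 D27295 (iv D21555) (iv F96632)
theorem F121751 : act 9 n27295 = n21564 := d38_2 (iv F96635) D27295 (iv D21564)
def n27296 : Q := act 7 n21554
theorem D27296 : act 7 n21554 = n27296 := rfl
theorem F121752 : act 1 n27296 = n21556 := d14_1 D27296 (iv D21556) (iv F96632)
theorem F121753 : act 4 n27296 = n21633 := d32_1 D27296 (iv D21633) (iv F96633)
theorem F121754 : act 8 n27296 = n27296 := d42_2 F96634 D27296 (iv D27296)
theorem F121755 : act 9 n27296 = n21565 := d43_2 (iv F96635) D27296 (iv D21565)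
def n27297 : Q := act 7 n21555
theorem D27297 : act 7 n21555 = n27297 := rfl
theorem F121756 : act 0 n27297 = n27297 := d6_1 D27297 (iv D27297) F96636
theorem F121757 : act 2 n27297 = n21558 := d21_1 D27297 (iv D21558) (iv F96637)
theorem F121758 : act 5 n27297 = n21556 := d36_1 D27297 (iv D21556) D21555
theorem F121759 : act 9 n27297 = n21567 := d43_2 (iv F96638) D27297 (iv D21567)
def n27298 : Q := act 7 n21557
theorem D27298 : act 7 n21557 = n27298 := rfl
theorem F121760 : act 0 n27298 = n27298 := d6_1 D27298 (iv D27298) F96644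
theorem F121761 : act 3 n27298 = n21922 := d27_1 D27298 (iv D21922) (iv F96645)
theorem F121762 : act 4 n27298 = n21558 := d32_1 D27298 (iv D21558) D21557
theorem F121763 : act 5 n27298 = n21635 := d36_1 D27298 (iv D21635) (iv F96646)
theorem F121764 : act 9 n27298 = n21569 := d43_2 (iv F96647) D27298 (iv D21569)
def n27299 : Q := act 6 n21558
theorem D27299 : act 6 n21558 = n27299 := rfl
theorem F121765 : act 0 n27299 = n27299 := d5_1 D27299 (iv D27299) F96648
theorem F121766 : act 3 n27299 = n21560 := d26_1 D27299 (iv D21560) (iv F96649)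
theorem F121767 : act 9 n27299 = n21571 := d41_2 (iv F96651) D27299 (iv D21571)
def n27300 : Q := act 8 n21558
theorem D27300 : act 8 n21558 = n27300 := rfl
theorem F121768 : act 0 n27300 = n27300 := d7_1 D27300 (iv D27300) F96648
theorem F121769 : act 3 n27300 = n21561 := d28_1 D27300 (iv D21561) (iv F96649)
theorem F121770 : act 5 n27300 = n27300 := d37_1 D27300 (iv D27300) F96650 F76116 (iv F96650)
theorem F121771 : act 7 n27300 = n21559 := d42_1 D27300 (iv D21559) D21558
def n27301 : Q := act 8 n21560
theorem D27301 : act 8 n21560 = n27301 := rfl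
theorem F121772 : act 0 n27301 = n27301 := d7_1 D27301 (iv D27301) F96655
theorem F121773 : act 4 n27301 = n21926 := d33_1 D27301 (iv D21926) (iv F96656)
theorem F121774 : act 6 n27301 = n21561 := d40_1 D27301 (iv D21561) D21560
def n27302 : Q := act 9 n21561
theorem D27302 : act 9 n21561 = n27302 := rfl
theorem F121775 : act 0 n27302 = n27302 := d8_1 D27302 (iv D27302) F96658
theorem F121776 : act 4 n27302 = n21927 := d34_1 D27302 (iv D21927) (iv F96659)
theorem F121777 : act 5 n27302 = n27302 := d38_1 D27302 (iv D27302) F96660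
theorem F121778 : act 7 n27302 = n21562 := d43_1 D27302 (iv D21562) (iv F96661)
theorem F121779 : act 8 n27302 = n21575 := d44_1 D27302 (iv D21575) (iv D16849) (iv F76121) D21561
def n27303 : Q := act 5 n21563
theorem D27303 : act 5 n21563 = n27303 := rfl
theorem F121780 : act 0 n27303 = n21564 := d4_1 D27303 (iv D21564) (iv F96666)
theorem F121781 : act 1 n27303 = n27303 := d12_1 D27303 (iv D27303) F96667
def n27304 : Q := act 7 n21563
theorem D27304 : act 7 n21563 = n27304 := rfl
theorem F121782 : act 0 n27304 = n21565 := d6_1 D27304 (iv D21565) (iv F96666)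
theorem F121783 : act 1 n27304 = n27304 := d14_1 D27304 (iv D27304) F96667
theorem F121784 : act 4 n27304 = n21640 := d32_1 D27304 (iv D21640) (iv F96668)
theorem F121785 : act 8 n27304 = n21585 := d42_2 (iv F96669) D27304 (iv D21585)
def n27305 : Q := act 4 n21564
theorem D27305 : act 4 n21564 = n27305 := rfl
theorem F121786 : act 1 n27305 = n21566 := d11_1 D27305 (iv D21566) (iv F96670)
theorem F121787 : act 5 n27305 = n21641 := d30_2 D21564 D27305 (iv D21641) (iv D16909) (iv F76129)
def n27306 : Q := act 7 n21564
theorem D27306 : act 7 n21564 = n27306 := rfl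
theorem F121788 : act 1 n27306 = n21567 := d14_1 D27306 (iv D21567) (iv F96670)
theorem F121789 : act 5 n27306 = n21565 := d36_1 D27306 (iv D21565) D21564
def n27307 : Q := act 8 n21564
theorem D27307 : act 8 n21564 = n27307 := rfl
theorem F121790 : act 1 n27307 = n21568 := d15_1 D27307 (iv D21568) (iv F96670)
theorem F121791 : act 5 n27307 = n21587 := d37_1 D27307 (iv D21587) (iv D16862) (iv F76130) D21564
def n27308 : Q := act 7 n21566
theorem D27308 : act 7 n21566 = n27308 := rfl
theorem F121792 : act 0 n27308 = n27308 := d6_1 D27308 (iv D27308) F96674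
theorem F121793 : act 2 n27308 = n21569 := d21_1 D27308 (iv D21569) (iv F96675)
theorem F121794 : act 4 n27308 = n21567 := d32_1 D27308 (iv D21567) D21566
theorem F121795 : act 5 n27308 = n21643 := d36_1 D27308 (iv D21643) (iv F96676)
def n27309 : Q := act 6 n21567
theorem D27309 : act 6 n21567 = n27309 := rfl
theorem F121796 : act 0 n27309 = n27309 := d5_1 D27309 (iv D27309) F96677
theorem F121797 : act 2 n27309 = n21571 := d20_1 D27309 (iv D21571) (iv F96678)
def n27310 : Q := act 8 n21567
theorem D27310 : act 8 n21567 = n27310 := rfl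
theorem F121798 : act 0 n27310 = n27310 := d7_1 D27310 (iv D27310) F96677
theorem F121799 : act 2 n27310 = n21572 := d22_1 D27310 (iv D21572) (iv F96678)
theorem F121800 : act 5 n27310 = n21589 := d37_1 D27310 (iv D21589) F76218 (iv F76136) (iv F96679)
theorem F121801 : act 7 n27310 = n21568 := d42_1 D27310 (iv D21568) D21567
def n27311 : Q := act 6 n21569
theorem D27311 : act 6 n21569 = n27311 := rfl
theorem F121802 : act 0 n27311 = n27311 := d5_1 D27311 (iv D27311) F96683
theorem F121803 : act 3 n27311 = n21938 := d26_1 D27311 (iv D21938) (iv F96684)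
theorem F121804 : act 4 n27311 = n21571 := d31_1 D27311 (iv D21571) (iv F96685)
def n27312 : Q := act 8 n21569
theorem D27312 : act 8 n21569 = n27312 := rfl
theorem F121805 : act 0 n27312 = n27312 := d7_1 D27312 (iv D27312) F96683
theorem F121806 : act 3 n27312 = n21939 := d28_1 D27312 (iv D21939) (iv F96684)
theorem F121807 : act 4 n27312 = n21572 := d33_1 D27312 (iv D21572) (iv F96685)
theorem F121808 : act 5 n27312 = n27312 := d37_1 D27312 (iv D27312) F96686 F76442 (iv F96686)
theorem F121809 : act 7 n27312 = n21570 := d42_1 D27312 (iv D21570) D21569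
def n27313 : Q := act 8 n21571
theorem D27313 : act 8 n21571 = n27313 := rfl
theorem F121810 : act 0 n27313 = n27313 := d7_1 D27313 (iv D27313) F96691
theorem F121811 : act 3 n27313 = n21574 := d28_1 D27313 (iv D21574) (iv F96692)
theorem F121812 : act 6 n27313 = n21572 := d40_1 D27313 (iv D21572) D21571
def n27314 : Q := act 9 n21572
theorem D27314 : act 9 n21572 = n27314 := rfl
theorem F121813 : act 0 n27314 = n27314 := d8_1 D27314 (iv D27314) F96693
theorem F121814 : act 3 n27314 = n21575 := d29_1 D27314 (iv D21575) (iv F96694)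
theorem F121815 : act 5 n27314 = n21592 := d38_1 D27314 (iv D21592) (iv F96695)
theorem F121816 : act 7 n27314 = n21573 := d43_1 D27314 (iv D21573) (iv F96696)
def n27315 : Q := act 5 n21574
theorem D27315 : act 5 n21574 = n27315 := rfl
theorem F121817 : act 0 n27315 = n27315 := d4_1 D27315 (iv D27315) F96700
theorem F121818 : act 6 n27315 = n21593 := d35_2 (iv F96702) D27315 (iv D21593) F76240 (iv F76150)
def n27316 : Q := act 9 n21574
theorem D27316 : act 9 n21574 = n27316 := rfl
theorem F121819 : act 0 n27316 = n27316 := d8_1 D27316 (iv D27316) F96700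
theorem F121820 : act 4 n27316 = n21944 := d34_1 D27316 (iv D21944) (iv F96701)
theorem F121821 : act 6 n27316 = n21575 := d41_1 D27316 (iv D21575) (iv F96702)
def n27317 : Q := act 7 n21576
theorem D27317 : act 7 n21576 = n27317 := rfl
theorem F121822 : act 0 n27317 = n21577 := d6_1 D27317 (iv D21577) (iv F96707)
theorem F121823 : act 1 n27317 = n27317 := d14_1 D27317 (iv D27317) F96708
theorem F121824 : act 4 n27317 = n21646 := d32_1 D27317 (iv D21646) (iv F96709)
theorem F121825 : act 6 n27317 = n21585 := d39_1 D27317 (iv D21585) (iv D16861) (iv F76158) D21576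
theorem F121826 : act 9 n27317 = n27317 := d43_2 F96710 D27317 (iv D27317)
def n27318 : Q := act 6 n21578
theorem D27318 : act 6 n21578 = n27318 := rfl
theorem F121827 : act 0 n27318 = n27318 := d5_1 D27318 (iv D27318) F96715
theorem F121828 : act 2 n27318 = n21580 := d20_1 D27318 (iv D21580) (iv F96716)
theorem F121829 : act 4 n27318 = n22022 := d31_1 D27318 F98519 (iv F96717)
theorem F121830 : act 5 n27318 = n21588 := d35_1 D27318 (iv D21588) F76218 (iv F76172) (iv F96718)
theorem F121831 : act 7 n27318 = n27318 := d39_2 D21578 D27318 (iv D27318) (iv D21578) F76166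
theorem F121832 : act 8 n27318 = n22021 := d40_2 (iv F96719) D27318 (iv D22021)
theorem F121833 : act 9 n27318 = n27318 := d41_2 F96720 D27318 (iv D27318)
def n27319 : Q := act 6 n21579
theorem D27319 : act 6 n21579 = n27319 := rfl
theorem F121834 : act 0 n27319 = n27319 := d5_1 D27319 (iv D27319) F96721
theorem F121835 : act 2 n27319 = n22022 := d20_1 D27319 F98519 (iv F96722)
theorem F121836 : act 3 n27319 = n27319 := d26_1 D27319 (iv D27319) F96723
theorem F121837 : act 4 n27319 = n21580 := d31_1 D27319 (iv D21580) (iv F96724)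
theorem F121838 : act 5 n27319 = n27319 := d35_1 D27319 (iv D27319) F96725 F76467 (iv F96725)
theorem F121839 : act 7 n27319 = n27319 := d39_2 D21579 D27319 (iv D27319) (iv D21579) F76178
theorem F121840 : act 8 n27319 = n22020 := d40_2 (iv F96726) D27319 (iv D22020)
theorem F121841 : act 9 n27319 = n27319 := d41_2 F96727 D27319 (iv D27319)
def n27320 : Q := act 8 n21580
theorem D27320 : act 8 n21580 = n27320 := rfl
theorem F121842 : act 0 n27320 = n27320 := d7_1 D27320 (iv D27320) F96728
theorem F121843 : act 2 n27320 = n22021 := d22_1 D27320 (iv F121832) F121828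
theorem F121844 : act 3 n27320 = n21582 := d28_1 D27320 (iv D21582) (iv F96729)
theorem F121846 : act 6 n27320 = n21581 := d40_1 D27320 (iv D21581) D21580
theorem F121847 : act 7 n27320 = n27320 := d42_1 D27320 (iv D27320) F96731
theorem F121848 : act 9 n22027 = n27320 := d41_0 F121846 (iv F96738) D22027
def n27321 : Q := act 5 n21582
theorem D27321 : act 5 n21582 = n27321 := rfl
theorem F121849 : act 0 n27321 = n27321 := d4_1 D27321 (iv D27321) F96739
theorem F121850 : act 7 n27321 = n27321 := d36_2 F96742 D27321 (iv D27321)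
theorem F121851 : act 8 n27321 = n21593 := d37_2 D21582 D27321 (iv D21593) (iv D16869) (iv F76193)
def n27322 : Q := act 9 n21582
theorem D27322 : act 9 n21582 = n27322 := rfl
theorem F121852 : act 0 n27322 = n27322 := d8_1 D27322 (iv D27322) F96739
theorem F121854 : act 4 n27322 = n27322 := d34_1 D27322 (iv D27322) F96740
theorem F121855 : act 6 n27322 = n21583 := d41_1 D27322 (iv D21583) (iv F96741)
theorem F121856 : act 7 n27322 = n27322 := d43_1 D27322 (iv D27322) F96742
theorem F121857 : act 8 n27322 = n27322 := d44_1 D27322 (iv D27322) (iv D21582) F76195 D21582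
def n27323 : Q := act 7 n21584
theorem D27323 : act 7 n21584 = n27323 := rfl
theorem F121858 : act 0 n27323 = n21586 := d6_1 D27323 (iv D21586) (iv F96748)
theorem F121859 : act 1 n27323 = n27323 := d14_1 D27323 (iv D27323) F96749
theorem F121860 : act 4 n27323 = n27323 := d32_1 D27323 (iv D27323) F96750
theorem F121861 : act 5 n27323 = n21585 := d36_1 D27323 (iv D21585) D21584
theorem F121862 : act 9 n27323 = n27323 := d43_2 F96752 D27323 (iv D27323)
def n27324 : Q := act 8 n21584
theorem D27324 : act 8 n21584 = n27324 := rfl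
theorem F121863 : act 0 n27324 = n21587 := d7_1 D27324 (iv D21587) (iv F96748)
theorem F121864 : act 1 n27324 = n27324 := d15_1 D27324 (iv D27324) F96749
theorem F121865 : act 4 n27324 = n27324 := d33_1 D27324 (iv D27324) F96750
theorem F121866 : act 6 n27324 = n27324 := d40_1 D27324 (iv D27324) F96751
def n27325 : Q := act 6 n21586
theorem D27325 : act 6 n21586 = n27325 := rfl
theorem F121867 : act 1 n27325 = n21588 := d13_1 D27325 (iv D21588) (iv F96757)
theorem F121868 : act 4 n27325 = n27325 := d31_1 D27325 (iv D27325) F96758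
theorem F121869 : act 7 n27325 = n27325 := d39_2 D21586 D27325 (iv D27325) (iv D21586) F76210
theorem F121870 : act 9 n27325 = n27325 := d41_2 F96760 D27325 (iv D27325)
def n27326 : Q := act 8 n21586
theorem D27326 : act 8 n21586 = n27326 := rfl
theorem F121871 : act 1 n27326 = n21589 := d15_1 D27326 (iv D21589) (iv F96757)
theorem F121872 : act 4 n27326 = n27326 := d33_1 D27326 (iv D27326) F96758
theorem F121873 : act 7 n27326 = n21587 := d42_1 D27326 (iv D21587) D21586
def n27327 : Q := act 9 n21587
theorem D27327 : act 9 n21587 = n27327 := rfl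
theorem F121874 : act 1 n27327 = n21590 := d16_1 D27327 (iv D21590) (iv F96761)
theorem F121875 : act 4 n27327 = n27327 := d34_1 D27327 (iv D27327) F96762
theorem F121876 : act 6 n27327 = n27327 := d41_1 D27327 (iv D27327) F96763
theorem F121877 : act 8 n27327 = n27327 := d44_1 D27327 (iv D27327) (iv D21587) F76211 D21587
def n27328 : Q := act 8 n21588
theorem D27328 : act 8 n21588 = n27328 := rfl
theorem F121878 : act 0 n27328 = n27328 := d7_1 D27328 (iv D27328) F96764
theorem F121879 : act 2 n27328 = n21591 := d22_1 D27328 (iv D21591) (iv F96765)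
theorem F121880 : act 4 n27328 = n27328 := d33_1 D27328 (iv D27328) F96766
theorem F121881 : act 6 n27328 = n21589 := d40_1 D27328 (iv D21589) D21588
theorem F121882 : act 7 n27328 = n27328 := d42_1 D27328 (iv D27328) F96767
def n27329 : Q := act 9 n21589
theorem D27329 : act 9 n21589 = n27329 := rfl
theorem F121883 : act 0 n27329 = n27329 := d8_1 D27329 (iv D27329) F96769
theorem F121884 : act 2 n27329 = n21592 := d23_1 D27329 (iv D21592) (iv F96770)
theorem F121885 : act 4 n27329 = n27329 := d34_1 D27329 (iv D27329) F96771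
theorem F121886 : act 7 n27329 = n21590 := d43_1 D27329 (iv D21590) (iv F96772)
theorem F121887 : act 8 n27329 = n27329 := d44_1 D27329 (iv D27329) (iv D21589) F76219 D21589
def n27330 : Q := act 5 n21591
theorem D27330 : act 5 n21591 = n27330 := rfl
theorem F121888 : act 0 n27330 = n27330 := d4_1 D27330 (iv D27330) F96778
theorem F121889 : act 3 n27330 = n21593 := d25_1 D27330 (iv D21593) (iv F96779)
theorem F121890 : act 7 n27330 = n27330 := d36_2 F96782 D27330 (iv D27330)
def n27331 : Q := act 9 n21591
theorem D27331 : act 9 n21591 = n27331 := rfl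
theorem F121891 : act 0 n27331 = n27331 := d8_1 D27331 (iv D27331) F96778
theorem F121892 : act 3 n27331 = n21594 := d29_1 D27331 (iv D21594) (iv F96779)
theorem F121893 : act 4 n27331 = n27331 := d34_1 D27331 (iv D27331) F96780
theorem F121894 : act 6 n27331 = n21592 := d41_1 D27331 (iv D21592) (iv F96781)
theorem F121895 : act 7 n27331 = n27331 := d43_1 D27331 (iv D27331) F96782
theorem F121896 : act 8 n27331 = n27331 := d44_1 D27331 (iv D27331) (iv D21591) F76228 D21591
def n27332 : Q := act 4 n21593
theorem D27332 : act 4 n21593 = n27332 := rfl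
theorem F121897 : act 0 n27332 = n27332 := d3_1 D27332 (iv D27332) F96788
theorem F121898 : act 5 n27332 = n21595 := d30_2 D21593 D27332 (iv D21595) (iv D16871) (iv F76239)
theorem F121899 : act 7 n27332 = n27332 := d32_2 F96789 D27332 (iv D27332)
def n27333 : Q := act 9 n21593
theorem D27333 : act 9 n21593 = n27333 := rfl
theorem F121900 : act 0 n27333 = n27333 := d8_1 D27333 (iv D27333) F96788
theorem F121901 : act 5 n27333 = n21594 := d38_1 D27333 (iv D21594) D21593
theorem F121902 : act 7 n27333 = n27333 := d43_1 D27333 (iv D27333) F96789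
def n27334 : Q := act 3 n21595
theorem D27334 : act 3 n21595 = n27334 := rfl
theorem F121905 : act 6 n27334 = n21975 := d26_2 (iv F96796) D27334 (iv D21975)
def n27335 : Q := act 9 n21595
theorem D27335 : act 9 n21595 = n27335 := rfl
theorem F121909 : act 4 n27335 = n21596 := d34_1 D27335 (iv D21596) D21595
def n27336 : Q := act 8 n21596
theorem D27336 : act 8 n21596 = n27336 := rfl
def n27337 : Q := act 0 n21597
theorem D27337 : act 0 n21597 = n27337 := rfl
theorem F121920 : act 4 n27337 = n21756 := d3_2 (iv F96805) D27337 (iv D21756)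
theorem F121923 : act 8 n27337 = n22499 := d7_2 (iv F96808) D27337 (iv D22499)
theorem F121924 : act 9 n27337 = n21603 := d8_2 (iv F96809) D27337 (iv D21603)
def n27338 : Q := act 6 n21597
theorem D27338 : act 6 n21597 = n27338 := rfl
theorem F121928 : act 8 n27338 = n22500 := d40_2 (iv F96808) D27338 (iv D22500)
theorem F121929 : act 9 n27338 = n21604 := d41_2 (iv F96809) D27338 (iv D21604)
def n27340 : Q := act 7 n21598
theorem D27340 : act 7 n21598 = n27340 := rfl
theorem F121938 : act 2 n27340 = n21600 := d21_1 D27340 (iv D21600) (iv F96811)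
theorem F121940 : act 4 n27340 = n21759 := d32_1 D27340 (iv D21759) (iv F96813)
theorem F121941 : act 6 n27340 = n21981 := d39_1 D27340 (iv D21981) (iv D17157) (iv F76260) D21598
theorem F121943 : act 9 n27340 = n21606 := d43_2 (iv F96815) D27340 (iv D21606)
def n27341 : Q := act 4 n21599
theorem D27341 : act 4 n21599 = n27341 := rfl
theorem F121946 : act 3 n27341 = n21617 := d24_1 D27341 (iv D21617) F76314 (iv F76270) (iv F96817)
theorem F121947 : act 5 n27341 = n21760 := d30_2 D21599 D27341 (iv D21760) (iv D16998) (iv F76265)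
theorem F121949 : act 9 n27341 = n21607 := d34_2 (iv F96819) D27341 (iv D21607)
theorem F121950 : act 8 n22237 = n27341 := d44_5 F121949 (iv F96857) F78170 D17360 D22237
def n27342 : Q := act 7 n21599
theorem D27342 : act 7 n21599 = n27342 := rfl
theorem F121952 : act 3 n27342 = n21601 := d27_1 D27342 (iv D21601) (iv F96817)
theorem F121953 : act 5 n27342 = n21600 := d36_1 D27342 (iv D21600) D21599
theorem F121954 : act 9 n27342 = n21608 := d43_2 (iv F96819) D27342 (iv D21608)
def n27343 : Q := act 8 n21599
theorem D27343 : act 8 n21599 = n27343 := rfl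
theorem F121957 : act 3 n27343 = n21602 := d28_1 D27343 (iv D21602) (iv F96817)
theorem F121961 : act 9 n27343 = n22234 := d44_2 (iv F96819) D27343 (iv D22234) F96869 (iv D21609)
def n27344 : Q := act 6 n21601
theorem D27344 : act 6 n21601 = n27344 := rfl
theorem F121962 : act 0 n27344 = n27344 := d5_1 D27344 (iv D27344) F96826
theorem F121963 : act 2 n27344 = n27344 := d20_1 D27344 (iv D27344) F96827
theorem F121964 : act 4 n27344 = n21620 := d31_1 D27344 (iv D21620) (iv F96828)
theorem F121965 : act 5 n27344 = n21984 := d35_1 D27344 (iv D21984) F77408 (iv F76276) (iv F96829)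
theorem F121966 : act 7 n27344 = n27344 := d39_2 D21601 D27344 (iv D27344) (iv D21601) F76271
theorem F121967 : act 9 n27344 = n21610 := d41_2 (iv F96830) D27344 (iv D21610)
def n27345 : Q := act 8 n21601
theorem D27345 : act 8 n21601 = n27345 := rfl
theorem F121970 : act 4 n27345 = n21621 := d33_1 D27345 (iv D21621) (iv F96828)
theorem F121972 : act 7 n27345 = n21602 := d42_1 D27345 (iv D21602) D21601
def n27346 : Q := act 9 n21602
theorem D27346 : act 9 n21602 = n27346 := rfl
theorem F121975 : act 3 n27346 = n22234 := d29_1 D27346 (iv F121961) F121957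
def n27349 : Q := act 7 n21604
theorem D27349 : act 7 n21604 = n27349 := rfl
theorem F121989 : act 1 n27349 = n21606 := d14_1 D27349 (iv D21606) (iv F96841)
theorem F121991 : act 6 n27349 = n21987 := d39_1 D27349 (iv D21987) (iv D17162) (iv F76281) D21604
def n27350 : Q := act 7 n21605
theorem D27350 : act 7 n21605 = n27350 := rfl
theorem F121994 : act 2 n27350 = n21608 := d21_1 D27350 (iv D21608) (iv F96845)
theorem F121996 : act 4 n27350 = n22224 := d32_1 D27350 F99355 (iv F96858)
theorem F121997 : act 5 n27350 = n21606 := d36_1 D27350 (iv D21606) D21605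
theorem F121998 : act 8 n27350 = n22222 := d42_2 F96859 D27350 (iv D22222)
def n27351 : Q := act 7 n21607
theorem D27351 : act 7 n21607 = n27351 := rfl
theorem F121999 : act 0 n27351 = n27351 := d6_1 D27351 (iv D27351) F96853
theorem F122000 : act 2 n27351 = n22224 := d21_1 D27351 F99355 F96856
theorem F122001 : act 3 n27351 = n21626 := d27_1 D27351 (iv D21626) (iv F96854)
theorem F122002 : act 4 n27351 = n21608 := d32_1 D27351 (iv D21608) D21607
theorem F122003 : act 8 n27351 = n22221 := d42_2 F96857 D27351 (iv D22221)
def n27352 : Q := act 6 n21608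
theorem D27352 : act 6 n21608 = n27352 := rfl
theorem F122004 : act 0 n27352 = n27352 := d5_1 D27352 (iv D27352) F96860
theorem F122005 : act 3 n27352 = n21610 := d26_1 D27352 (iv D21610) (iv F96861)
theorem F122006 : act 5 n27352 = n21993 := d35_1 D27352 (iv D21993) F77431 (iv F76292) (iv F96862)
theorem F122007 : act 7 n27352 = n27352 := d39_2 D21608 D27352 (iv D27352) (iv D21608) F76289
def n27353 : Q := act 8 n21608
theorem D27353 : act 8 n21608 = n27353 := rfl
theorem F122010 : act 3 n27353 = n21611 := d28_1 D27353 (iv D21611) (iv F96861)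
theorem F122013 : act 7 n27353 = n21609 := d42_1 D27353 (iv D21609) D21608
def n27354 : Q := act 8 n21610
theorem D27354 : act 8 n21610 = n27354 := rfl
theorem F122015 : act 0 n27354 = n27354 := d7_1 D27354 (iv D27354) F96870
theorem F122016 : act 2 n27354 = n27354 := d22_1 D27354 (iv D27354) F96871
theorem F122017 : act 4 n27354 = n21629 := d33_1 D27354 (iv D21629) (iv F96872)
theorem F122018 : act 6 n27354 = n21611 := d40_1 D27354 (iv D21611) D21610
theorem F122019 : act 7 n27354 = n27354 := d42_1 D27354 (iv D27354) F96874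
def n27355 : Q := act 9 n21611
theorem D27355 : act 9 n21611 = n27355 := rfl
theorem F122023 : act 4 n27355 = n21630 := d34_1 D27355 (iv D21630) (iv F96877)
theorem F122025 : act 7 n27355 = n21612 := d43_1 D27355 (iv D21612) (iv F96879)
def n27356 : Q := act 6 n21613
theorem D27356 : act 6 n21613 = n27356 := rfl
theorem F122026 : act 0 n27356 = n21614 := d5_1 D27356 (iv D21614) D21613
theorem F122027 : act 1 n27356 = n27356 := d13_1 D27356 (iv D27356) F96886
theorem F122028 : act 3 n27356 = n27356 := d26_1 D27356 (iv D27356) F96887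
theorem F122029 : act 8 n27356 = n27356 := d40_2 F96890 D27356 (iv D27356)
theorem F122030 : act 9 n27356 = n21623 := d41_2 (iv F96891) D27356 (iv D21623)
def n27357 : Q := act 7 n21614
theorem D27357 : act 7 n21614 = n27357 := rfl
theorem F122031 : act 1 n27357 = n21616 := d14_1 D27357 (iv D21616) (iv F96892)
theorem F122032 : act 3 n27357 = n27357 := d27_1 D27357 (iv D27357) F96893
theorem F122033 : act 6 n27357 = n21633 := d39_1 D27357 (iv D21633) (iv D16900) (iv F76305) D21614
theorem F122034 : act 8 n27357 = n27357 := d42_2 F96894 D27357 (iv D27357)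
theorem F122035 : act 9 n27357 = n21624 := d43_2 (iv F96895) D27357 (iv D21624)
def n27358 : Q := act 7 n21615
theorem D27358 : act 7 n21615 = n27358 := rfl
theorem F122036 : act 0 n27358 = n27358 := d6_1 D27358 (iv D27358) F96896
theorem F122037 : act 2 n27358 = n21618 := d21_1 D27358 (iv D21618) (iv F96897)
theorem F122038 : act 3 n27358 = n27358 := d27_1 D27358 (iv D27358) F96898
theorem F122039 : act 4 n27358 = n22317 := d32_1 D27358 F99757 F96901
theorem F122040 : act 5 n27358 = n21616 := d36_1 D27358 (iv D21616) D21615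
theorem F122041 : act 8 n27358 = n22333 := d42_2 F96902 D27358 F99819
theorem F122042 : act 9 n27358 = n21625 := d43_2 (iv F96900) D27358 (iv D21625)
def n27359 : Q := act 7 n21617
theorem D27359 : act 7 n21617 = n27359 := rfl
theorem F122043 : act 0 n27359 = n27359 := d6_1 D27359 (iv D27359) F96909
theorem F122044 : act 2 n27359 = n22317 := d21_1 D27359 F99757 (iv F96910)
theorem F122045 : act 4 n27359 = n21618 := d32_1 D27359 (iv D21618) D21617
theorem F122046 : act 8 n27359 = n22331 := d42_2 F96913 D27359 F99809
theorem F122047 : act 9 n27359 = n21626 := d43_2 (iv F96912) D27359 (iv D21626)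
def n27360 : Q := act 6 n21618
theorem D27360 : act 6 n21618 = n27360 := rfl
theorem F122048 : act 0 n27360 = n27360 := d5_1 D27360 (iv D27360) F96914
theorem F122049 : act 3 n27360 = n21620 := d26_1 D27360 (iv D21620) (iv F96915)
theorem F122050 : act 5 n27360 = n21636 := d35_1 D27360 (iv D21636) F76401 (iv F76319) (iv F96916)
theorem F122051 : act 7 n27360 = n27360 := d39_2 D21618 D27360 (iv D27360) (iv D21618) F76315
theorem F122052 : act 9 n27360 = n21627 := d41_2 (iv F96917) D27360 (iv D21627)
def n27361 : Q := act 8 n21618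
theorem D27361 : act 8 n21618 = n27361 := rfl
theorem F122053 : act 0 n27361 = n27361 := d7_1 D27361 (iv D27361) F96914
theorem F122054 : act 2 n27361 = n22333 := d22_1 D27361 (iv F122041) F122037
theorem F122055 : act 3 n27361 = n21621 := d28_1 D27361 (iv D21621) (iv F96915)
theorem F122057 : act 5 n27361 = n27361 := d37_1 D27361 (iv D27361) F96916 F76320 (iv F96916)
theorem F122058 : act 7 n27361 = n21619 := d42_1 D27361 (iv D21619) D21618
def n27362 : Q := act 8 n21620
theorem D27362 : act 8 n21620 = n27362 := rfl
theorem F122060 : act 0 n27362 = n27362 := d7_1 D27362 (iv D27362) F96925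
theorem F122061 : act 2 n27362 = n27362 := d22_1 D27362 (iv D27362) F96926
theorem F122062 : act 6 n27362 = n21621 := d40_1 D27362 (iv D21621) D21620
theorem F122063 : act 7 n27362 = n27362 := d42_1 D27362 (iv D27362) F96928
def n27363 : Q := act 9 n21621
theorem D27363 : act 9 n21621 = n27363 := rfl
theorem F122068 : act 7 n27363 = n21622 := d43_1 D27363 (iv D21622) (iv F96933)
theorem F122069 : act 8 n27363 = n21630 := d44_1 D27363 (iv D21630) (iv D16897) (iv F76325) D21621
def n27364 : Q := act 7 n21623
theorem D27364 : act 7 n21623 = n27364 := rfl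
theorem F122070 : act 0 n27364 = n21624 := d6_1 D27364 (iv D21624) (iv F96940)
theorem F122071 : act 1 n27364 = n27364 := d14_1 D27364 (iv D27364) F96941
theorem F122072 : act 3 n27364 = n27364 := d27_1 D27364 (iv D27364) F96942
theorem F122073 : act 6 n27364 = n21640 := d39_1 D27364 (iv D21640) (iv D16908) (iv F76333) D21623
theorem F122074 : act 8 n27364 = n21646 := d42_2 (iv F96943) D27364 (iv D21646)
def n27365 : Q := act 6 n21625
theorem D27365 : act 6 n21625 = n27365 := rfl
theorem F122075 : act 0 n27365 = n27365 := d5_1 D27365 (iv D27365) F96948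
theorem F122076 : act 2 n27365 = n21627 := d20_1 D27365 (iv D21627) (iv F96949)
theorem F122077 : act 3 n27365 = n27365 := d26_1 D27365 (iv D27365) F96950
theorem F122078 : act 4 n27365 = n22316 := d31_1 D27365 F99753 (iv F96951)
theorem F122079 : act 5 n27365 = n21644 := d35_1 D27365 (iv D21644) F76437 (iv F76347) (iv F96952)
theorem F122080 : act 7 n27365 = n27365 := d39_2 D21625 D27365 (iv D27365) (iv D21625) F76341
theorem F122081 : act 8 n27365 = n22315 := d40_2 (iv F96953) D27365 (iv D22315)
def n27366 : Q := act 6 n21626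
theorem D27366 : act 6 n21626 = n27366 := rfl
theorem F122082 : act 0 n27366 = n27366 := d5_1 D27366 (iv D27366) F96954
theorem F122083 : act 2 n27366 = n22316 := d20_1 D27366 F99753 (iv F96955)
theorem F122084 : act 4 n27366 = n21627 := d31_1 D27366 (iv D21627) (iv F96956)
theorem F122085 : act 7 n27366 = n27366 := d39_2 D21626 D27366 (iv D27366) (iv D21626) F76351
theorem F122086 : act 8 n27366 = n22314 := d40_2 (iv F96957) D27366 (iv D22314)
def n27367 : Q := act 8 n21627
theorem D27367 : act 8 n21627 = n27367 := rfl
theorem F122087 : act 0 n27367 = n27367 := d7_1 D27367 (iv D27367) F96958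
theorem F122088 : act 2 n27367 = n22315 := d22_1 D27367 (iv F122081) F122076
theorem F122089 : act 3 n27367 = n21629 := d28_1 D27367 (iv D21629) (iv F96959)
theorem F122090 : act 4 n27367 = n22314 := d33_1 D27367 (iv F122086) F122084
theorem F122091 : act 5 n27367 = n27367 := d37_1 D27367 (iv D27367) F96960 F76446 (iv F96960)
theorem F122092 : act 6 n27367 = n21628 := d40_1 D27367 (iv D21628) D21627
theorem F122093 : act 7 n27367 = n27367 := d42_1 D27367 (iv D27367) F96961
theorem F122094 : act 9 n22328 = n27367 := d41_0 F122092 (iv F96968) D22328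
def n27368 : Q := act 9 n21629
theorem D27368 : act 9 n21629 = n27368 := rfl
theorem F122095 : act 0 n27368 = n27368 := d8_1 D27368 (iv D27368) F96969
theorem F122096 : act 2 n27368 = n27368 := d23_1 D27368 (iv D27368) F96970
theorem F122097 : act 3 n27368 = n22328 := d29_1 D27368 F122094 F122089
theorem F122098 : act 5 n27368 = n27368 := d38_1 D27368 (iv D27368) F96971
theorem F122099 : act 6 n27368 = n21630 := d41_1 D27368 (iv D21630) (iv F96972)
theorem F122100 : act 7 n27368 = n27368 := d43_1 D27368 (iv D27368) F96973
def n27369 : Q := act 5 n21631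
theorem D27369 : act 5 n21631 = n27369 := rfl
theorem F122101 : act 0 n27369 = n21632 := d4_1 D27369 (iv D21632) (iv F96979)
theorem F122102 : act 1 n27369 = n27369 := d12_1 D27369 (iv D27369) F96980
theorem F122103 : act 3 n27369 = n27369 := d25_1 D27369 (iv D27369) F96981
theorem F122104 : act 6 n27369 = n27369 := d35_2 D21631 D27369 (iv D27369) (iv D21631) F76378
theorem F122105 : act 9 n27369 = n21639 := d38_2 (iv F96983) D27369 (iv D21639)
def n27370 : Q := act 7 n21631
theorem D27370 : act 7 n21631 = n27370 := rfl
theorem F122106 : act 0 n27370 = n21633 := d6_1 D27370 (iv D21633) (iv F96979)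
theorem F122107 : act 1 n27370 = n27370 := d14_1 D27370 (iv D27370) F96980
theorem F122108 : act 3 n27370 = n27370 := d27_1 D27370 (iv D27370) F96981
theorem F122109 : act 8 n27370 = n27370 := d42_2 F96982 D27370 (iv D27370)
theorem F122110 : act 9 n27370 = n21640 := d43_2 (iv F96983) D27370 (iv D21640)
def n27371 : Q := act 7 n21632
theorem D27371 : act 7 n21632 = n27371 := rfl
theorem F122111 : act 1 n27371 = n21634 := d14_1 D27371 (iv D21634) (iv F96984)
theorem F122112 : act 3 n27371 = n27371 := d27_1 D27371 (iv D27371) F96985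
theorem F122113 : act 5 n27371 = n21633 := d36_1 D27371 (iv D21633) D21632
theorem F122114 : act 9 n27371 = n21642 := d43_2 (iv F96987) D27371 (iv D21642)
def n27372 : Q := act 6 n21634
theorem D27372 : act 6 n21634 = n27372 := rfl
theorem F122115 : act 0 n27372 = n27372 := d5_1 D27372 (iv D27372) F96992
theorem F122116 : act 2 n27372 = n21636 := d20_1 D27372 (iv D21636) (iv F96993)
theorem F122117 : act 3 n27372 = n27372 := d26_1 D27372 (iv D27372) F96994
theorem F122118 : act 7 n27372 = n27372 := d39_2 D21634 D27372 (iv D27372) (iv D21634) F76388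
theorem F122119 : act 9 n27372 = n21644 := d41_2 (iv F96996) D27372 (iv D21644)
def n27373 : Q := act 6 n21635
theorem D27373 : act 6 n21635 = n27373 := rfl
theorem F122120 : act 0 n27373 = n27373 := d5_1 D27373 (iv D27373) F96997
theorem F122121 : act 3 n27373 = n22021 := d26_1 D27373 (iv D22021) (iv F96998)
theorem F122122 : act 4 n27373 = n21636 := d31_1 D27373 (iv D21636) (iv F96999)
theorem F122123 : act 7 n27373 = n27373 := d39_2 D21635 D27373 (iv D27373) (iv D21635) F76397
theorem F122124 : act 9 n27373 = n21645 := d41_2 (iv F97000) D27373 (iv D21645)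
def n27374 : Q := act 8 n21636
theorem D27374 : act 8 n21636 = n27374 := rfl
theorem F122125 : act 0 n27374 = n27374 := d7_1 D27374 (iv D27374) F97001
theorem F122126 : act 3 n27374 = n21638 := d28_1 D27374 (iv D21638) (iv F97002)
theorem F122127 : act 6 n27374 = n21637 := d40_1 D27374 (iv D21637) D21636
theorem F122128 : act 7 n27374 = n27374 := d42_1 D27374 (iv D27374) F97003
theorem F122129 : act 9 n27374 = n27374 := d44_2 (iv F97004) D27374 (iv D27374) F97004 F76446
def n27375 : Q := act 5 n21638
theorem D27375 : act 5 n21638 = n27375 := rfl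
theorem F122130 : act 0 n27375 = n27375 := d4_1 D27375 (iv D27375) F97010
theorem F122131 : act 2 n27375 = n27375 := d19_1 D27375 (iv D27375) F97011
theorem F122132 : act 4 n27375 = n27375 := d30_1 D27375 (iv D27375) F97012 F77561 (iv F97012)
theorem F122133 : act 6 n27375 = n27375 := d35_2 (iv F97013) D27375 (iv D27375) F97013 F76416
theorem F122134 : act 7 n27375 = n27375 := d36_2 F97014 D27375 (iv D27375)
theorem F122135 : act 9 n27375 = n27375 := d38_2 F97015 D27375 (iv D27375)
def n27376 : Q := act 4 n21639
theorem D27376 : act 4 n21639 = n27376 := rfl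
theorem F122136 : act 0 n27376 = n21641 := d3_1 D27376 (iv D21641) (iv F97016)
theorem F122137 : act 1 n27376 = n27376 := d11_1 D27376 (iv D27376) F97017
theorem F122138 : act 6 n27376 = n27376 := d31_2 F97019 D27376 (iv D27376)
theorem F122139 : act 8 n27376 = n27376 := d33_2 F97020 D27376 (iv D27376)
def n27377 : Q := act 7 n21639
theorem D27377 : act 7 n21639 = n27377 := rfl
theorem F122140 : act 0 n27377 = n21642 := d6_1 D27377 (iv D21642) (iv F97016)
theorem F122141 : act 1 n27377 = n27377 := d14_1 D27377 (iv D27377) F97017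
theorem F122142 : act 3 n27377 = n27377 := d27_1 D27377 (iv D27377) F97018
theorem F122143 : act 5 n27377 = n21640 := d36_1 D27377 (iv D21640) D21639
theorem F122144 : act 8 n27377 = n27377 := d42_2 F97020 D27377 (iv D27377)
def n27378 : Q := act 7 n21641
theorem D27378 : act 7 n21641 = n27378 := rfl
theorem F122145 : act 1 n27378 = n21643 := d14_1 D27378 (iv D21643) (iv F97025)
theorem F122146 : act 4 n27378 = n21642 := d32_1 D27378 (iv D21642) D21641
theorem F122147 : act 8 n27378 = n27378 := d42_2 F97027 D27378 (iv D27378)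
def n27379 : Q := act 6 n21642
theorem D27379 : act 6 n21642 = n27379 := rfl
theorem F122148 : act 1 n27379 = n21644 := d13_1 D27379 (iv D21644) (iv F97028)
theorem F122149 : act 3 n27379 = n27379 := d26_1 D27379 (iv D27379) F97029
theorem F122150 : act 7 n27379 = n27379 := d39_2 D21642 D27379 (iv D27379) (iv D21642) F76425
theorem F122151 : act 8 n27379 = n27379 := d40_2 F97031 D27379 (iv D27379)
def n27380 : Q := act 6 n21643
theorem D27380 : act 6 n21643 = n27380 := rfl
theorem F122152 : act 0 n27380 = n27380 := d5_1 D27380 (iv D27380) F97032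
theorem F122153 : act 2 n27380 = n21645 := d20_1 D27380 (iv D21645) (iv F97033)
theorem F122154 : act 4 n27380 = n21644 := d31_1 D27380 (iv D21644) (iv F97034)
theorem F122155 : act 7 n27380 = n27380 := d39_2 D21643 D27380 (iv D27380) (iv D21643) F76432
theorem F122156 : act 8 n27380 = n27380 := d40_2 F97035 D27380 (iv D27380)
def n27381 : Q := act 5 n21645
theorem D27381 : act 5 n21645 = n27381 := rfl
theorem F122157 : act 0 n27381 = n27381 := d4_1 D27381 (iv D27381) F97041
theorem F122158 : act 3 n27381 = n22028 := d25_1 D27381 (iv D22028) (iv F97042)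
theorem F122159 : act 7 n27381 = n27381 := d36_2 F97044 D27381 (iv D27381)
def n27384 : Q := act 5 n21648
theorem D27384 : act 5 n21648 = n27384 := rfl
theorem F122171 : act 3 n27384 = n21649 := d25_1 D27384 (iv D21649) (iv F97057)
theorem F122172 : act 9 n27384 = n21653 := d38_2 (iv F97060) D27384 (iv D21653)
def n27385 : Q := act 7 n21648
theorem D27385 : act 7 n21648 = n27385 := rfl
theorem F122175 : act 3 n27385 = n21650 := d27_1 D27385 (iv D21650) (iv F97057)
theorem F122178 : act 9 n27385 = n21654 := d43_2 (iv F97060) D27385 (iv D21654)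
def n27386 : Q := act 7 n21649
theorem D27386 : act 7 n21649 = n27386 := rfl
theorem F122179 : act 0 n27386 = n21701 := d6_1 D27386 (iv D21701) (iv F97061)
theorem F122180 : act 1 n27386 = n27386 := d14_1 D27386 (iv D27386) F97062
theorem F122181 : act 5 n27386 = n21650 := d36_1 D27386 (iv D21650) D21649
theorem F122182 : act 9 n27386 = n21655 := d43_2 (iv F97063) D27386 (iv D21655)
def n27387 : Q := act 8 n21649
theorem D27387 : act 8 n21649 = n27387 := rfl
theorem F122183 : act 0 n27387 = n21702 := d7_1 D27387 (iv D21702) (iv F97061)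
theorem F122185 : act 5 n27387 = n22065 := d37_1 D27387 (iv D22065) (iv D17230) (iv F76497) D21649
def n27393 : Q := act 7 n21653
theorem D27393 : act 7 n21653 = n27393 := rfl
theorem F122205 : act 3 n27393 = n21655 := d27_1 D27393 (iv D21655) (iv F97078)
theorem F122206 : act 5 n27393 = n21654 := d36_1 D27393 (iv D21654) D21653
def n27395 : Q := act 6 n21655
theorem D27395 : act 6 n21655 = n27395 := rfl
theorem F122211 : act 0 n27395 = n21710 := d5_1 D27395 (iv D21710) (iv F97084)
theorem F122212 : act 1 n27395 = n27395 := d13_1 D27395 (iv D27395) F97085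
def n27396 : Q := act 8 n21655
theorem D27396 : act 8 n21655 = n27396 := rfl
theorem F122215 : act 5 n27396 = n21671 := d37_1 D27396 (iv D21671) F76559 (iv F76517) (iv F97086)
def n27401 : Q := act 6 n21661
theorem D27401 : act 6 n21661 = n27401 := rfl
theorem F122237 : act 5 n27401 = n21670 := d35_1 D27401 (iv D21670) F76559 (iv F76536) (iv F97113)
theorem F122238 : act 7 n27401 = n22387 := d39_2 D21661 D27401 (iv D22387) (iv D17513) (iv F76531)
def n27434 : Q := act 0 n21685
theorem D27434 : act 0 n21685 = n27434 := rfl
theorem F122388 : act 2 n27434 = n21756 := d1_2 (iv F97220) D27434 (iv D21756)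
theorem F122390 : act 8 n27434 = n22420 := d7_2 (iv F97222) D27434 (iv D22420)
def n27438 : Q := act 4 n21687
theorem D27438 : act 4 n21687 = n27438 := rfl
theorem F122398 : act 1 n27438 = n21760 := d11_1 D27438 (iv D21760) (iv F97225)
theorem F122399 : act 6 n27438 = n21707 := d31_2 (iv F97227) D27438 (iv D21707)
def n27439 : Q := act 7 n21687
theorem D27439 : act 7 n21687 = n27439 := rfl
theorem F122400 : act 1 n27439 = n21761 := d14_1 D27439 (iv D21761) (iv F97225)
theorem F122401 : act 3 n27439 = n21689 := d27_1 D27439 (iv D21689) (iv F97226)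
def n27441 : Q := act 6 n21689
theorem D27441 : act 6 n21689 = n27441 := rfl
theorem F122407 : act 1 n27441 = n21763 := d13_1 D27441 (iv D21763) (iv F97231)
theorem F122408 : act 7 n27441 = n21710 := d39_2 D21689 D27441 (iv D21710) (iv D16964) (iv F76611)
def n27442 : Q := act 8 n21689
theorem D27442 : act 8 n21689 = n27442 := rfl
theorem F122409 : act 1 n27442 = n21764 := d15_1 D27442 (iv D21764) (iv F97231)
theorem F122411 : act 7 n27442 = n21690 := d42_1 D27442 (iv D21690) D21689
def n27443 : Q := act 9 n21690
theorem D27443 : act 9 n21690 = n27443 := rfl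
theorem F122412 : act 1 n27443 = n21765 := d16_1 D27443 (iv D21765) (iv F97233)
def n27449 : Q := act 7 n21693
theorem D27449 : act 7 n21693 = n27449 := rfl
theorem F122431 : act 3 n27449 = n21695 := d27_1 D27449 (iv D21695) (iv F97244)
theorem F122432 : act 5 n27449 = n21694 := d36_1 D27449 (iv D21694) D21693
def n27451 : Q := act 6 n21695
theorem D27451 : act 6 n21695 = n27451 := rfl
theorem F122436 : act 1 n27451 = n21785 := d13_1 D27451 (iv D21785) (iv F97250)
theorem F122437 : act 5 n27451 = n21710 := d35_1 D27451 (iv D21710) F76654 (iv F76625) (iv F97251)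
def n27452 : Q := act 8 n21695
theorem D27452 : act 8 n21695 = n27452 := rfl
theorem F122439 : act 5 n27452 = n21721 := d37_1 D27452 (iv D21721) F76676 (iv F76626) (iv F97251)
def n27458 : Q := act 4 n21699
theorem D27458 : act 4 n21699 = n27458 := rfl
theorem F122458 : act 1 n27458 = n21792 := d11_1 D27458 (iv D21792) (iv F97262)
theorem F122460 : act 9 n27458 = n21707 := d34_2 (iv F97264) D27458 (iv D21707)
def n27459 : Q := act 7 n21699
theorem D27459 : act 7 n21699 = n27459 := rfl
theorem F122461 : act 1 n27459 = n21793 := d14_1 D27459 (iv D21793) (iv F97262)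
theorem F122462 : act 3 n27459 = n21701 := d27_1 D27459 (iv D21701) (iv F97263)
theorem F122464 : act 9 n27459 = n21708 := d43_2 (iv F97264) D27459 (iv D21708)
def n27460 : Q := act 8 n21699
theorem D27460 : act 8 n21699 = n27460 := rfl
theorem F122465 : act 1 n27460 = n21794 := d15_1 D27460 (iv D21794) (iv F97262)
theorem F122466 : act 3 n27460 = n21702 := d28_1 D27460 (iv D21702) (iv F97263)
def n27461 : Q := act 6 n21701
theorem D27461 : act 6 n21701 = n27461 := rfl
theorem F122468 : act 1 n27461 = n21795 := d13_1 D27461 (iv D21795) (iv F97270)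
theorem F122469 : act 9 n27461 = n21710 := d41_2 (iv F97272) D27461 (iv D21710)
def n27462 : Q := act 8 n21701
theorem D27462 : act 8 n21701 = n27462 := rfl
theorem F122470 : act 1 n27462 = n21796 := d15_1 D27462 (iv D21796) (iv F97270)
theorem F122471 : act 5 n27462 = n22135 := d37_1 D27462 (iv D22135) F77927 (iv F76639) (iv F97271)
theorem F122472 : act 7 n27462 = n21702 := d42_1 D27462 (iv D21702) D21701
def n27463 : Q := act 9 n21702
theorem D27463 : act 9 n21702 = n27463 := rfl
theorem F122473 : act 1 n27463 = n21797 := d16_1 D27463 (iv D21797) (iv F97273)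
theorem F122475 : act 8 n27463 = n21712 := d44_1 D27463 (iv D21712) (iv D16965) (iv F76636) D21702
def n27470 : Q := act 7 n21707
theorem D27470 : act 7 n21707 = n27470 := rfl
theorem F122492 : act 1 n27470 = n21804 := d14_1 D27470 (iv D21804) (iv F97286)
theorem F122493 : act 4 n27470 = n21708 := d32_1 D27470 (iv D21708) D21707
def n27472 : Q := act 6 n21708
theorem D27472 : act 6 n21708 = n27472 := rfl
theorem F122497 : act 1 n27472 = n21806 := d13_1 D27472 (iv D21806) (iv F97288)
theorem F122498 : act 3 n27472 = n21710 := d26_1 D27472 (iv D21710) (iv F97289)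
def n27475 : Q := act 8 n21710
theorem D27475 : act 8 n21710 = n27475 := rfl
theorem F122506 : act 1 n27475 = n21809 := d15_1 D27475 (iv D21809) (iv F97294)
theorem F122507 : act 6 n27475 = n21711 := d40_1 D27475 (iv D21711) D21710
def n27476 : Q := act 9 n21711
theorem D27476 : act 9 n21711 = n27476 := rfl
theorem F122508 : act 1 n27476 = n21810 := d16_1 D27476 (iv D21810) (iv F97295)
def n27487 : Q := act 5 n21723
theorem D27487 : act 5 n21723 = n27487 := rfl
theorem F122550 : act 0 n27487 = n21724 := d4_1 D27487 (iv D21724) (iv F97340)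
theorem F122552 : act 6 n27487 = n22462 := d35_2 D21723 D27487 (iv D22462) (iv D17569) (iv F76683)
def n27490 : Q := act 7 n21724
theorem D27490 : act 7 n21724 = n27490 := rfl
theorem F122565 : act 5 n27490 = n21725 := d36_1 D27490 (iv D21725) D21724
def n27524 : Q := act 0 n21750
theorem D27524 : act 0 n21750 = n27524 := rfl
theorem F122692 : act 5 n27524 = n21778 := d4_2 (iv F97444) D27524 (iv D21778)
theorem F122693 : act 7 n27524 = n21756 := d6_2 (iv F97445) D27524 (iv D21756)
theorem F122694 : act 8 n27524 = n22508 := d7_2 (iv F97446) D27524 (iv D22508)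
theorem F122695 : act 9 n27524 = n21885 := d8_2 (iv F97447) D27524 (iv D21885)
def n27525 : Q := act 6 n21750
theorem D27525 : act 6 n21750 = n27525 := rfl
theorem F122699 : act 8 n27525 = n22509 := d40_2 (iv F97446) D27525 (iv D22509)
theorem F122700 : act 9 n27525 = n21886 := d41_2 (iv F97447) D27525 (iv D21886)
def n27526 : Q := act 5 n21751
theorem D27526 : act 5 n21751 = n27526 := rfl
theorem F122704 : act 6 n27526 = n21780 := d35_2 D21751 D27526 (iv D21780) (iv D17011) (iv F76758)
theorem F122705 : act 9 n27526 = n21887 := d38_2 (iv F97453) D27526 (iv D21887)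
def n27527 : Q := act 7 n21751
theorem D27527 : act 7 n21751 = n27527 := rfl
theorem F122711 : act 8 n27527 = n22511 := d42_2 (iv F97452) D27527 (iv D22511)
theorem F122712 : act 9 n27527 = n21888 := d43_2 (iv F97453) D27527 (iv D21888)
def n27528 : Q := act 4 n21752
theorem D27528 : act 4 n21752 = n27528 := rfl
theorem F122716 : act 6 n27528 = n21782 := d31_2 (iv F97456) D27528 (iv D21782)
def n27529 : Q := act 7 n21752
theorem D27529 : act 7 n21752 = n27529 := rfl
theorem F122718 : act 0 n27529 = n27529 := d6_1 D27529 (iv D27529) F97454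
theorem F122719 : act 3 n27529 = n21754 := d27_1 D27529 (iv D21754) (iv F97455)
theorem F122720 : act 5 n27529 = n21753 := d36_1 D27529 (iv D21753) D21752
theorem F122721 : act 9 n27529 = n21890 := d43_2 (iv F97457) D27529 (iv D21890)
def n27531 : Q := act 6 n21754
theorem D27531 : act 6 n21754 = n27531 := rfl
theorem F122726 : act 0 n27531 = n27531 := d5_1 D27531 (iv D27531) F97464
theorem F122727 : act 2 n27531 = n21859 := d20_1 D27531 (iv D21859) (iv F97465)
theorem F122728 : act 4 n27531 = n21902 := d31_1 D27531 (iv D21902) (iv F97466)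
theorem F122729 : act 5 n27531 = n21763 := d35_1 D27531 (iv D21763) F76793 (iv F76775) (iv F97467)
theorem F122730 : act 7 n27531 = n21785 := d39_2 D21754 D27531 (iv D21785) (iv D17014) (iv F76770)
theorem F122731 : act 9 n27531 = n21892 := d41_2 (iv F97468) D27531 (iv D21892)
def n27532 : Q := act 8 n21754
theorem D27532 : act 8 n21754 = n27532 := rfl
theorem F122732 : act 0 n27532 = n27532 := d7_1 D27532 (iv D27532) F97464
theorem F122734 : act 4 n27532 = n21903 := d33_1 D27532 (iv D21903) (iv F97466)
theorem F122736 : act 7 n27532 = n21755 := d42_1 D27532 (iv D21755) D21754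
def n27533 : Q := act 9 n21755
theorem D27533 : act 9 n21755 = n27533 := rfl
theorem F122741 : act 6 n27533 = n21787 := d41_1 D27533 (iv D21787) (iv F97473)
def n27534 : Q := act 6 n21756
theorem D27534 : act 6 n21756 = n27534 := rfl
theorem F122746 : act 8 n27534 = n22517 := d40_2 (iv F97477) D27534 (iv D22517)
def n27537 : Q := act 4 n21758
theorem D27537 : act 4 n21758 = n27537 := rfl
theorem F122754 : act 2 n27537 = n21760 := d18_1 D27537 (iv D21760) (iv F97482)
theorem F122755 : act 3 n27537 = n21797 := d24_1 D27537 (iv F121330) F121329 (iv D21875) (iv F97483)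
theorem F122758 : act 9 n27537 = n21794 := d34_2 F121666 D27537 (iv F121664)
theorem F122759 : act 8 n21808 = n27537 := d44_5 F122758 (iv D21794) F76878 D17028 D21808
def n27538 : Q := act 7 n21758
theorem D27538 : act 7 n21758 = n27538 := rfl
theorem F122761 : act 2 n27538 = n21761 := d21_1 D27538 (iv D21761) (iv F97482)
theorem F122762 : act 3 n27538 = n21876 := d27_1 D27538 (iv D21876) (iv F97483)
theorem F122763 : act 5 n27538 = n21759 := d36_1 D27538 (iv D21759) D21758
def n27539 : Q := act 8 n21758
theorem D27539 : act 8 n21758 = n27539 := rfl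
theorem F122767 : act 4 n27539 = n21808 := d33_1 D27539 F122759 (iv D27537)
theorem F122768 : act 5 n27539 = n22522 := d37_1 D27539 (iv D22522) (iv D17610) (iv F76784) D21758
theorem F122770 : act 9 n27539 = n21805 := d44_2 F121666 D27539 (iv D21805) (iv F97631) F121667
def n27540 : Q := act 7 n21760
theorem D27540 : act 7 n21760 = n27540 := rfl
theorem F122771 : act 0 n27540 = n27540 := d6_1 D27540 (iv D27540) F97489
theorem F122772 : act 4 n27540 = n21761 := d32_1 D27540 (iv D21761) D21760
def n27541 : Q := act 8 n21760
theorem D27541 : act 8 n21760 = n27541 := rfl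
theorem F122776 : act 4 n27541 = n21762 := d33_1 D27541 (iv D21762) D21760
theorem F122777 : act 5 n27541 = n21833 := d37_1 D27541 F97798 (iv F99409) F121950 F121947
theorem F122778 : act 6 n27541 = n21805 := d40_1 D27541 (iv D21805) (iv F97490)
theorem F122779 : act 9 n27541 = n21803 := d44_2 F121680 D27541 (iv D21803) (iv F97622) F121681
def n27542 : Q := act 6 n21761
theorem D27542 : act 6 n21761 = n27542 := rfl
theorem F122780 : act 0 n27542 = n27542 := d5_1 D27542 (iv D27542) F97491
theorem F122781 : act 3 n27542 = n21763 := d26_1 D27542 (iv D21763) (iv F97492)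
theorem F122782 : act 7 n27542 = n21806 := d39_2 D21761 D27542 (iv D21806) (iv D17027) (iv F76787)
def n27543 : Q := act 8 n21761
theorem D27543 : act 8 n21761 = n27543 := rfl
theorem F122784 : act 3 n27543 = n21764 := d28_1 D27543 (iv D21764) (iv F97492)
theorem F122786 : act 7 n27543 = n21762 := d42_1 D27543 (iv D21762) D21761
def n27544 : Q := act 9 n21762
theorem D27544 : act 9 n21762 = n27544 := rfl
theorem F122789 : act 3 n27544 = n21765 := d29_1 D27544 (iv D21765) (iv F97495)
theorem F122790 : act 4 n27544 = n21803 := d34_1 D27544 (iv F122779) F122776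
theorem F122793 : act 8 n27544 = n21801 := d44_1 D27544 F121692 (iv D27282) F96574 D21762
def n27545 : Q := act 8 n21763
theorem D27545 : act 8 n21763 = n27545 := rfl
theorem F122794 : act 0 n27545 = n27545 := d7_1 D27545 (iv D27545) F97498
theorem F122795 : act 2 n27545 = n21883 := d22_1 D27545 (iv D21883) (iv F97499)
theorem F122796 : act 6 n27545 = n21764 := d40_1 D27545 (iv D21764) D21763
theorem F122797 : act 7 n27545 = n21809 := d42_1 D27545 (iv D21809) (iv F97500)
def n27546 : Q := act 9 n21764
theorem D27546 : act 9 n21764 = n27546 := rfl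
theorem F122798 : act 0 n27546 = n27546 := d8_1 D27546 (iv D27546) F97501
theorem F122799 : act 2 n27546 = n21884 := d23_1 D27546 (iv D21884) (iv F97502)
theorem F122801 : act 7 n27546 = n21765 := d43_1 D27546 (iv D21765) (iv F97504)
def n27551 : Q := act 4 n21768
theorem D27551 : act 4 n21768 = n27551 := rfl
theorem F122827 : act 3 n27551 = n21782 := d24_1 D27551 (iv D21782) F76854 (iv F76812) (iv F97522)
def n27552 : Q := act 7 n21768
theorem D27552 : act 7 n21768 = n27552 := rfl
theorem F122832 : act 3 n27552 = n21770 := d27_1 D27552 (iv D21770) (iv F97522)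
theorem F122833 : act 5 n27552 = n21769 := d36_1 D27552 (iv D21769) D21768
def n27553 : Q := act 8 n21768
theorem D27553 : act 8 n21768 = n27553 := rfl
theorem F122836 : act 3 n27553 = n21771 := d28_1 D27553 (iv D21771) (iv F97522)
def n27554 : Q := act 6 n21770
theorem D27554 : act 6 n21770 = n27554 := rfl
theorem F122839 : act 0 n27554 = n27554 := d5_1 D27554 (iv D27554) F97531
theorem F122840 : act 2 n27554 = n21892 := d20_1 D27554 (iv D21892) (iv F97532)
theorem F122841 : act 4 n27554 = n21785 := d31_1 D27554 (iv D21785) (iv F97533)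
theorem F122842 : act 5 n27554 = n21869 := d35_1 D27554 (iv D21869) F77106 (iv F76818) (iv F97534)
theorem F122843 : act 7 n27554 = n21902 := d39_2 D21770 D27554 (iv D21902) (iv D17095) (iv F76813)
theorem F122844 : act 9 n27554 = n21859 := d41_2 (iv F97535) D27554 (iv D21859)
def n27555 : Q := act 8 n21770
theorem D27555 : act 8 n21770 = n27555 := rfl
theorem F122845 : act 0 n27555 = n27555 := d7_1 D27555 (iv D27555) F97531
theorem F122847 : act 4 n27555 = n21786 := d33_1 D27555 (iv D21786) (iv F97533)
theorem F122848 : act 5 n27555 = n27555 := d37_1 D27555 (iv D27555) F97534 F76819 (iv F97534)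
theorem F122849 : act 7 n27555 = n21771 := d42_1 D27555 (iv D21771) D21770
def n27556 : Q := act 9 n21771
theorem D27556 : act 9 n21771 = n27556 := rfl
theorem F122852 : act 4 n27556 = n21787 := d34_1 D27556 (iv D21787) (iv F97538)
def n27559 : Q := act 5 n21773
theorem D27559 : act 5 n21773 = n27559 := rfl
theorem F122869 : act 2 n27559 = n21774 := d19_1 D27559 (iv D21774) (iv F97548)
theorem F122872 : act 9 n27559 = n21780 := d38_2 (iv F97552) D27559 (iv D21780)
def n27560 : Q := act 7 n21773
theorem D27560 : act 7 n21773 = n27560 := rfl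
theorem F122874 : act 2 n27560 = n21775 := d21_1 D27560 (iv D21775) (iv F97548)
theorem F122879 : act 9 n27560 = n21781 := d43_2 (iv F97552) D27560 (iv D21781)
def n27561 : Q := act 4 n21774
theorem D27561 : act 4 n21774 = n27561 := rfl
def n27562 : Q := act 7 n21774
theorem D27562 : act 7 n21774 = n27562 := rfl
theorem F122885 : act 0 n27562 = n27562 := d6_1 D27562 (iv D27562) F97553
theorem F122886 : act 3 n27562 = n21776 := d27_1 D27562 (iv D21776) (iv F97554)
theorem F122887 : act 5 n27562 = n21775 := d36_1 D27562 (iv D21775) D21774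
theorem F122888 : act 9 n27562 = n21783 := d43_2 (iv F97556) D27562 (iv D21783)
def n27563 : Q := act 8 n21774
theorem D27563 : act 8 n21774 = n27563 := rfl
theorem F122891 : act 5 n27563 = n22201 := d37_1 D27563 (iv D22201) (iv D17331) (iv F76831) D21774
def n27564 : Q := act 6 n21776
theorem D27564 : act 6 n21776 = n27564 := rfl
theorem F122893 : act 0 n27564 = n27564 := d5_1 D27564 (iv D27564) F97563
theorem F122894 : act 2 n27564 = n21902 := d20_1 D27564 (iv D21902) (iv F97564)
theorem F122895 : act 4 n27564 = n21859 := d31_1 D27564 (iv D21859) (iv F97565)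
theorem F122896 : act 5 n27564 = n21795 := d35_1 D27564 (iv D21795) F76886 (iv F76841) (iv F97566)
theorem F122897 : act 7 n27564 = n21892 := d39_2 D21776 D27564 (iv D21892) (iv D17089) (iv F76836)
theorem F122898 : act 9 n27564 = n21785 := d41_2 (iv F97567) D27564 (iv D21785)
def n27565 : Q := act 8 n21776
theorem D27565 : act 8 n21776 = n27565 := rfl
theorem F122900 : act 2 n27565 = n21903 := d22_1 D27565 (iv D21903) (iv F97564)
theorem F122902 : act 5 n27565 = n22203 := d37_1 D27565 (iv D22203) F78110 (iv F76842) (iv F97566)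
theorem F122903 : act 7 n27565 = n21777 := d42_1 D27565 (iv D21777) D21776
def n27566 : Q := act 9 n21777
theorem D27566 : act 9 n21777 = n27566 := rfl
theorem F122909 : act 8 n27566 = n21787 := d44_1 D27566 (iv D21787) (iv D17015) (iv F76837) D21777
def n27572 : Q := act 8 n21780
theorem D27572 : act 8 n21780 = n27572 := rfl
theorem F122932 : act 5 n27572 = n21816 := d37_1 D27572 (iv D21816) (iv D17034) (iv F76852) D21780
def n27573 : Q := act 7 n21782
theorem D27573 : act 7 n21782 = n27573 := rfl
theorem F122933 : act 0 n27573 = n27573 := d6_1 D27573 (iv D27573) F97591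
theorem F122934 : act 4 n27573 = n21783 := d32_1 D27573 (iv D21783) D21782
theorem F122935 : act 5 n27573 = n27573 := d36_1 D27573 (iv D27573) F97592
def n27575 : Q := act 6 n21783
theorem D27575 : act 6 n21783 = n27575 := rfl
theorem F122938 : act 0 n27575 = n27575 := d5_1 D27575 (iv D27575) F97593
theorem F122939 : act 3 n27575 = n21785 := d26_1 D27575 (iv D21785) (iv F97594)
theorem F122940 : act 5 n27575 = n21806 := d35_1 D27575 (iv D21806) F76911 (iv F76858) (iv F97595)
def n27578 : Q := act 8 n21785
theorem D27578 : act 8 n21785 = n27578 := rfl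
theorem F122948 : act 0 n27578 = n27578 := d7_1 D27578 (iv D27578) F97599
theorem F122950 : act 6 n27578 = n21786 := d40_1 D27578 (iv D21786) D21785
def n27579 : Q := act 9 n21786
theorem D27579 : act 9 n21786 = n27579 := rfl
theorem F122951 : act 0 n27579 = n27579 := d8_1 D27579 (iv D27579) F97602
theorem F122954 : act 7 n27579 = n21787 := d43_1 D27579 (iv D21787) (iv F97605)
def n27583 : Q := act 7 n21790
theorem D27583 : act 7 n21790 = n27583 := rfl
theorem F122970 : act 2 n27583 = n21793 := d21_1 D27583 (iv D21793) (iv F97620)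
theorem F122971 : act 3 n27583 = n21921 := d27_1 D27583 (iv D21921) (iv F97621)
theorem F122972 : act 5 n27583 = n21791 := d36_1 D27583 (iv D21791) D21790
theorem F122973 : act 9 n27583 = n21802 := d43_2 (iv F97622) D27583 (iv D21802)
def n27584 : Q := act 7 n21792
theorem D27584 : act 7 n21792 = n27584 := rfl
theorem F122974 : act 0 n27584 = n27584 := d6_1 D27584 (iv D27584) F97629
theorem F122975 : act 4 n27584 = n21793 := d32_1 D27584 (iv D21793) D21792
theorem F122976 : act 5 n27584 = n27584 := d36_1 D27584 (iv D27584) F97630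
theorem F122977 : act 9 n27584 = n21804 := d43_2 (iv F97631) D27584 (iv D21804)
def n27585 : Q := act 6 n21793
theorem D27585 : act 6 n21793 = n27585 := rfl
theorem F122978 : act 0 n27585 = n27585 := d5_1 D27585 (iv D27585) F97632
theorem F122979 : act 3 n27585 = n21795 := d26_1 D27585 (iv D21795) (iv F97633)
theorem F122980 : act 9 n27585 = n21806 := d41_2 (iv F97635) D27585 (iv D21806)
def n27586 : Q := act 8 n21793
theorem D27586 : act 8 n21793 = n27586 := rfl
theorem F122981 : act 0 n27586 = n27586 := d7_1 D27586 (iv D27586) F97632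
theorem F122982 : act 3 n27586 = n21796 := d28_1 D27586 (iv D21796) (iv F97633)
theorem F122983 : act 5 n27586 = n22224 := d37_1 D27586 (iv D22224) F78183 (iv F76882) (iv F97634)
theorem F122984 : act 7 n27586 = n21794 := d42_1 D27586 (iv D21794) D21793
def n27587 : Q := act 8 n21795
theorem D27587 : act 8 n21795 = n27587 := rfl
theorem F122985 : act 0 n27587 = n27587 := d7_1 D27587 (iv D27587) F97639
theorem F122986 : act 2 n27587 = n21926 := d22_1 D27587 (iv D21926) (iv F97640)
theorem F122987 : act 6 n27587 = n21796 := d40_1 D27587 (iv D21796) D21795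
def n27588 : Q := act 9 n21796
theorem D27588 : act 9 n21796 = n27588 := rfl
theorem F122988 : act 0 n27588 = n27588 := d8_1 D27588 (iv D27588) F97642
theorem F122989 : act 2 n27588 = n21927 := d23_1 D27588 (iv D21927) (iv F97643)
theorem F122990 : act 5 n27588 = n22227 := d38_1 D27588 (iv D22227) (iv F97644)
theorem F122991 : act 7 n27588 = n21797 := d43_1 D27588 (iv D21797) (iv F97645)
theorem F122992 : act 8 n27588 = n21810 := d44_1 D27588 (iv D21810) (iv D17030) (iv F76887) D21796
def n27594 : Q := act 7 n21801
theorem D27594 : act 7 n21801 = n27594 := rfl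
theorem F123010 : act 2 n27594 = n21804 := d21_1 D27594 (iv D21804) (iv F97662)
def n27595 : Q := act 6 n21802
theorem D27595 : act 6 n21802 = n27595 := rfl
theorem F123014 : act 2 n27595 = n21806 := d20_1 D27595 (iv D21806) (iv F97665)
theorem F123015 : act 3 n27595 = n21935 := d26_1 D27595 (iv D21935) (iv F97666)
def n27596 : Q := act 8 n21802
theorem D27596 : act 8 n21802 = n27596 := rfl
theorem F123020 : act 7 n27596 = n21803 := d42_1 D27596 (iv D21803) D21802
def n27597 : Q := act 6 n21804
theorem D27597 : act 6 n21804 = n27597 := rfl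
theorem F123021 : act 0 n27597 = n27597 := d5_1 D27597 (iv D27597) F97672
theorem F123022 : act 4 n27597 = n21806 := d31_1 D27597 (iv D21806) (iv F97673)
def n27598 : Q := act 8 n21804
theorem D27598 : act 8 n21804 = n27598 := rfl
theorem F123025 : act 7 n27598 = n21805 := d42_1 D27598 (iv D21805) D21804
def n27599 : Q := act 5 n21805
theorem D27599 : act 5 n21805 = n27599 := rfl
theorem F123029 : act 4 n27599 = n21836 := d30_1 D27599 (iv D21836) F77007 (iv F76914) (iv F97676)
theorem F123030 : act 6 n27599 = n22553 := d35_2 F122778 D27599 F100705 (iv F97797) (iv F122777)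
theorem F123032 : act 9 n27599 = n22522 := d38_2 F122770 D27599 (iv F122768)
def n27600 : Q := act 8 n21806
theorem D27600 : act 8 n21806 = n27600 := rfl
theorem F123034 : act 3 n27600 = n21809 := d28_1 D27600 (iv D21809) (iv F97678)
theorem F123035 : act 6 n27600 = n21807 := d40_1 D27600 (iv D21807) D21806
def n27601 : Q := act 9 n21807
theorem D27601 : act 9 n21807 = n27601 := rfl
theorem F123037 : act 3 n27601 = n21810 := d29_1 D27601 (iv D21810) (iv F97680)
theorem F123039 : act 7 n27601 = n21808 := d43_1 D27601 (iv D21808) (iv F97682)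
def n27602 : Q := act 5 n21809
theorem D27602 : act 5 n21809 = n27602 := rfl
theorem F123042 : act 6 n27602 = n21840 := d35_2 (iv F97688) D27602 (iv D21840) F77023 (iv F76919)
def n27603 : Q := act 9 n21809
theorem D27603 : act 9 n21809 = n27603 := rfl
theorem F123043 : act 0 n27603 = n27603 := d8_1 D27603 (iv D27603) F97686
theorem F123044 : act 2 n27603 = n21944 := d23_1 D27603 (iv D21944) (iv F97687)
theorem F123045 : act 6 n27603 = n21810 := d41_1 D27603 (iv D21810) (iv F97688)
def n27604 : Q := act 7 n21811
theorem D27604 : act 7 n21811 = n27604 := rfl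
theorem F123050 : act 6 n27604 = n21825 := d39_1 D27604 (iv D21825) (iv D17042) (iv F76928) D21811
def n27609 : Q := act 8 n21814
theorem D27609 : act 8 n21814 = n27609 := rfl
theorem F123072 : act 2 n27609 = n21818 := d22_1 D27609 (iv D21818) (iv F97708)
theorem F123074 : act 6 n27609 = n22567 := d40_1 D27609 (iv D22567) (iv F97710)
def n27610 : Q := act 6 n21815
theorem D27610 : act 6 n21815 = n27610 := rfl
theorem F123078 : act 5 n27610 = n21831 := d35_1 D27610 (iv D21831) F76994 (iv F76943) (iv F97715)
theorem F123079 : act 7 n27610 = n22568 := d39_2 D21815 D27610 (iv D22568) (iv D17646) (iv F76937)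
def n27613 : Q := act 6 n21817
theorem D27613 : act 6 n21817 = n27613 := rfl
theorem F123093 : act 7 n27613 = n22571 := d39_2 D21817 D27613 (iv D22571) (iv D17648) (iv F76948)
def n27614 : Q := act 8 n21817
theorem D27614 : act 8 n21817 = n27614 := rfl
theorem F123098 : act 7 n27614 = n21818 := d42_1 D27614 (iv D21818) D21817
def n27622 : Q := act 7 n21824
theorem D27622 : act 7 n21824 = n27622 := rfl
theorem F123135 : act 5 n27622 = n21825 := d36_1 D27622 (iv D21825) D21824
theorem F123136 : act 9 n27622 = n22260 := d43_2 (iv F97756) D27622 (iv D22260)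
def n27625 : Q := act 8 n21826
theorem D27625 : act 8 n21826 = n27625 := rfl
theorem F123148 : act 4 n27625 = n21828 := d33_1 D27625 (iv D21828) D21826
theorem F123149 : act 6 n27625 = n22582 := d40_1 D27625 (iv D22582) (iv F97765)
def n27639 : Q := act 6 n21836
theorem D27639 : act 6 n21836 = n27639 := rfl
theorem F123217 : act 3 n27639 = n21846 := d26_1 D27639 (iv D21846) (iv F97809)
theorem F123218 : act 4 n27639 = n22553 := d31_1 D27639 (iv F123030) F123029
theorem F123221 : act 9 n22550 = n27639 := d34_0 F123218 (iv D22553) (iv F100692)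
def n27640 : Q := act 9 n21836
theorem D27640 : act 9 n21836 = n27640 := rfl
theorem F123225 : act 4 n27640 = n22522 := d34_1 D27640 (iv F123032) F123029
theorem F123227 : act 6 n27640 = n22550 := d41_1 D27640 F123221 (iv D27639)
def n27651 : Q := act 9 n21846
theorem D27651 : act 9 n21846 = n27651 := rfl
theorem F123273 : act 3 n27651 = n22550 := d29_1 D27651 F123221 F123217
theorem F123274 : act 4 n27651 = n22688 := d34_1 D27651 F121560 F121557
def n27666 : Q := act 6 n21857
theorem D27666 : act 6 n21857 = n27666 := rfl
theorem F123334 : act 3 n27666 = n21859 := d26_1 D27666 (iv D21859) (iv F97899)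
theorem F123335 : act 5 n27666 = n21880 := d35_1 D27666 (iv D21880) F77130 (iv F77080) (iv F97900)
theorem F123336 : act 7 n27666 = n21913 := d39_2 D21857 D27666 (iv D21913) (iv D17102) (iv F77076)
def n27669 : Q := act 8 n21859
theorem D27669 : act 8 n21859 = n27669 := rfl
theorem F123346 : act 6 n27669 = n21860 := d40_1 D27669 (iv D21860) D21859
def n27674 : Q := act 7 n21864
theorem D27674 : act 7 n21864 = n27674 := rfl
theorem F123363 : act 0 n27674 = n27674 := d6_1 D27674 (iv D27674) F97923
theorem F123364 : act 2 n27674 = n21867 := d21_1 D27674 (iv D21867) (iv F97924)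
theorem F123365 : act 5 n27674 = n21865 := d36_1 D27674 (iv D21865) D21864
theorem F123366 : act 9 n27674 = n21876 := d43_2 (iv F97926) D27674 (iv D21876)
def n27675 : Q := act 7 n21866
theorem D27675 : act 7 n21866 = n27675 := rfl
theorem F123367 : act 0 n27675 = n27675 := d6_1 D27675 (iv D27675) F97932
theorem F123368 : act 4 n27675 = n21867 := d32_1 D27675 (iv D21867) D21866
theorem F123369 : act 5 n27675 = n27675 := d36_1 D27675 (iv D27675) F97933
theorem F123370 : act 9 n27675 = n21878 := d43_2 (iv F97935) D27675 (iv D21878)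
def n27676 : Q := act 6 n21867
theorem D27676 : act 6 n21867 = n27676 := rfl
theorem F123371 : act 0 n27676 = n27676 := d5_1 D27676 (iv D27676) F97936
theorem F123372 : act 3 n27676 = n21869 := d26_1 D27676 (iv D21869) (iv F97937)
theorem F123373 : act 7 n27676 = n21923 := d39_2 D21867 D27676 (iv D21923) (iv D17112) (iv F77098)
theorem F123374 : act 9 n27676 = n21880 := d41_2 (iv F97939) D27676 (iv D21880)
def n27677 : Q := act 8 n21867
theorem D27677 : act 8 n21867 = n27677 := rfl
theorem F123375 : act 0 n27677 = n27677 := d7_1 D27677 (iv D27677) F97936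
theorem F123376 : act 3 n27677 = n21870 := d28_1 D27677 (iv D21870) (iv F97937)
theorem F123377 : act 5 n27677 = n27677 := d37_1 D27677 (iv D27677) F97938 F77103 (iv F97938)
theorem F123378 : act 7 n27677 = n21868 := d42_1 D27677 (iv D21868) D21867
def n27678 : Q := act 8 n21869
theorem D27678 : act 8 n21869 = n27678 := rfl
theorem F123379 : act 0 n27678 = n27678 := d7_1 D27678 (iv D27678) F97944
theorem F123380 : act 6 n27678 = n21870 := d40_1 D27678 (iv D21870) D21869
theorem F123381 : act 7 n27678 = n21926 := d42_1 D27678 (iv D21926) (iv F97945)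
def n27679 : Q := act 9 n21870
theorem D27679 : act 9 n21870 = n27679 := rfl
theorem F123382 : act 0 n27679 = n27679 := d8_1 D27679 (iv D27679) F97947
theorem F123383 : act 5 n27679 = n27679 := d38_1 D27679 (iv D27679) F97948
theorem F123384 : act 7 n27679 = n21871 := d43_1 D27679 (iv D21871) (iv F97949)
theorem F123385 : act 8 n27679 = n21884 := d44_1 D27679 (iv D21884) (iv D17083) (iv F77107) D21870
def n27681 : Q := act 7 n21872
theorem D27681 : act 7 n21872 = n27681 := rfl
theorem F123392 : act 8 n27681 = n22635 := d42_2 (iv F97957) D27681 (iv D22635)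
def n27682 : Q := act 4 n21873
theorem D27682 : act 4 n21873 = n27682 := rfl
theorem F123393 : act 1 n27682 = n21875 := d11_1 D27682 (iv D21875) (iv F97958)
def n27685 : Q := act 7 n21875
theorem D27685 : act 7 n21875 = n27685 := rfl
theorem F123401 : act 0 n27685 = n27685 := d6_1 D27685 (iv D27685) F97963
theorem F123402 : act 2 n27685 = n21878 := d21_1 D27685 (iv D21878) (iv F97964)
theorem F123403 : act 4 n27685 = n21876 := d32_1 D27685 (iv D21876) D21875
theorem F123404 : act 5 n27685 = n27685 := d36_1 D27685 (iv D27685) F97965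
def n27686 : Q := act 6 n21876
theorem D27686 : act 6 n21876 = n27686 := rfl
theorem F123405 : act 0 n27686 = n27686 := d5_1 D27686 (iv D27686) F97967
theorem F123406 : act 2 n27686 = n21880 := d20_1 D27686 (iv D21880) (iv F97968)
theorem F123407 : act 7 n27686 = n21935 := d39_2 D21876 D27686 (iv D21935) (iv D17121) (iv F77120)
def n27687 : Q := act 8 n21876
theorem D27687 : act 8 n21876 = n27687 := rfl
theorem F123409 : act 2 n27687 = n21881 := d22_1 D27687 (iv D21881) (iv F97968)
theorem F123411 : act 7 n27687 = n21877 := d42_1 D27687 (iv D21877) D21876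
def n27688 : Q := act 6 n21878
theorem D27688 : act 6 n21878 = n27688 := rfl
theorem F123412 : act 0 n27688 = n27688 := d5_1 D27688 (iv D27688) F97974
theorem F123413 : act 4 n27688 = n21880 := d31_1 D27688 (iv D21880) (iv F97975)
theorem F123414 : act 7 n27688 = n21938 := d39_2 D21878 D27688 (iv D21938) (iv D17123) (iv F77127)
def n27689 : Q := act 8 n21878
theorem D27689 : act 8 n21878 = n27689 := rfl
theorem F123415 : act 0 n27689 = n27689 := d7_1 D27689 (iv D27689) F97974
theorem F123416 : act 4 n27689 = n21881 := d33_1 D27689 (iv D21881) (iv F97975)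
theorem F123417 : act 7 n27689 = n21879 := d42_1 D27689 (iv D21879) D21878
def n27690 : Q := act 8 n21880
theorem D27690 : act 8 n21880 = n27690 := rfl
theorem F123418 : act 0 n27690 = n27690 := d7_1 D27690 (iv D27690) F97980
theorem F123419 : act 3 n27690 = n21883 := d28_1 D27690 (iv D21883) (iv F97981)
theorem F123420 : act 6 n27690 = n21881 := d40_1 D27690 (iv D21881) D21880
theorem F123421 : act 7 n27690 = n21941 := d42_1 D27690 (iv D21941) (iv F97982)
def n27691 : Q := act 9 n21881
theorem D27691 : act 9 n21881 = n27691 := rfl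
theorem F123422 : act 0 n27691 = n27691 := d8_1 D27691 (iv D27691) F97983
theorem F123423 : act 3 n27691 = n21884 := d29_1 D27691 (iv D21884) (iv F97984)
theorem F123425 : act 7 n27691 = n21882 := d43_1 D27691 (iv D21882) (iv F97986)
def n27692 : Q := act 5 n21883
theorem D27692 : act 5 n21883 = n27692 := rfl
theorem F123427 : act 6 n27692 = n22651 := d35_2 (iv F97992) D27692 (iv D22651) F79633 (iv F77138)
def n27693 : Q := act 9 n21883
theorem D27693 : act 9 n21883 = n27693 := rfl
theorem F123429 : act 0 n27693 = n27693 := d8_1 D27693 (iv D27693) F97991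
theorem F123430 : act 6 n27693 = n21884 := d41_1 D27693 (iv D21884) (iv F97992)
theorem F123431 : act 7 n27693 = n21944 := d43_1 D27693 (iv D21944) (iv F97993)
def n27694 : Q := act 6 n21885
theorem D27694 : act 6 n21885 = n27694 := rfl
theorem F123434 : act 4 n27694 = n21985 := d31_1 D27694 (iv D21985) (iv F97998)
def n27696 : Q := act 7 n21886
theorem D27696 : act 7 n21886 = n27696 := rfl
theorem F123438 : act 4 n27696 = n21987 := d32_1 D27696 (iv D21987) (iv F98001)
def n27698 : Q := act 7 n21887
theorem D27698 : act 7 n21887 = n27698 := rfl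
theorem F123444 : act 2 n27698 = n21890 := d21_1 D27698 (iv D21890) (iv F98004)
theorem F123445 : act 5 n27698 = n21888 := d36_1 D27698 (iv D21888) D21887
def n27700 : Q := act 7 n21889
theorem D27700 : act 7 n21889 = n27700 := rfl
theorem F123450 : act 3 n27700 = n21911 := d27_1 D27700 (iv D21911) (iv F98010)
theorem F123451 : act 4 n27700 = n21890 := d32_1 D27700 (iv D21890) D21889
def n27702 : Q := act 6 n21890
theorem D27702 : act 6 n21890 = n27702 := rfl
theorem F123456 : act 0 n27702 = n27702 := d5_1 D27702 (iv D27702) F98012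
theorem F123457 : act 3 n27702 = n21892 := d26_1 D27702 (iv D21892) (iv F98013)
def n27703 : Q := act 8 n21890
theorem D27703 : act 8 n21890 = n27703 := rfl
theorem F123461 : act 7 n27703 = n21891 := d42_1 D27703 (iv D21891) D21890
def n27705 : Q := act 8 n21892
theorem D27705 : act 8 n21892 = n27705 := rfl
theorem F123467 : act 6 n27705 = n21893 := d40_1 D27705 (iv D21893) D21892
def n27715 : Q := act 6 n21900
theorem D27715 : act 6 n21900 = n27715 := rfl
theorem F123503 : act 3 n27715 = n21902 := d26_1 D27715 (iv D21902) (iv F98049)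
theorem F123504 : act 5 n27715 = n21923 := d35_1 D27715 (iv D21923) F77234 (iv F77176) (iv F98050)
theorem F123505 : act 9 n27715 = n21913 := d41_2 (iv F98051) D27715 (iv D21913)
def n27716 : Q := act 8 n21900
theorem D27716 : act 8 n21900 = n27716 := rfl
theorem F123507 : act 3 n27716 = n21903 := d28_1 D27716 (iv D21903) (iv F98049)
def n27718 : Q := act 8 n21902
theorem D27718 : act 8 n21902 = n27718 := rfl
theorem F123514 : act 0 n27718 = n27718 := d7_1 D27718 (iv D27718) F98055
theorem F123515 : act 6 n27718 = n21903 := d40_1 D27718 (iv D21903) D21902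
def n27719 : Q := act 9 n21903
theorem D27719 : act 9 n21903 = n27719 := rfl
theorem F123519 : act 8 n27719 = n21917 := d44_1 D27719 (iv D21917) (iv D17105) (iv F77181) D21903
def n27728 : Q := act 6 n21909
theorem D27728 : act 6 n21909 = n27728 := rfl
theorem F123544 : act 5 n27728 = n21935 := d35_1 D27728 (iv D21935) F77260 (iv F77196) (iv F98078)
def n27741 : Q := act 7 n21919
theorem D27741 : act 7 n21919 = n27741 := rfl
theorem F123582 : act 1 n27741 = n21921 := d14_1 D27741 (iv D21921) (iv F98107)
theorem F123584 : act 9 n27741 = n21931 := d43_2 (iv F98108) D27741 (iv D21931)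
def n27742 : Q := act 6 n21921
theorem D27742 : act 6 n21921 = n27742 := rfl
theorem F123585 : act 0 n27742 = n27742 := d5_1 D27742 (iv D27742) F98113
theorem F123586 : act 2 n27742 = n21923 := d20_1 D27742 (iv D21923) (iv F98114)
theorem F123587 : act 9 n27742 = n21935 := d41_2 (iv F98116) D27742 (iv D21935)
def n27743 : Q := act 6 n21922
theorem D27743 : act 6 n21922 = n27743 := rfl
theorem F123588 : act 0 n27743 = n27743 := d5_1 D27743 (iv D27743) F98117
theorem F123589 : act 4 n27743 = n21923 := d31_1 D27743 (iv D21923) (iv F98118)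
theorem F123590 : act 9 n27743 = n21938 := d41_2 (iv F98120) D27743 (iv D21938)
def n27744 : Q := act 8 n21923
theorem D27744 : act 8 n21923 = n27744 := rfl
theorem F123591 : act 0 n27744 = n27744 := d7_1 D27744 (iv D27744) F98121
theorem F123592 : act 3 n27744 = n21926 := d28_1 D27744 (iv D21926) (iv F98122)
theorem F123593 : act 6 n27744 = n21924 := d40_1 D27744 (iv D21924) D21923
def n27745 : Q := act 9 n21924
theorem D27745 : act 9 n21924 = n27745 := rfl
theorem F123594 : act 0 n27745 = n27745 := d8_1 D27745 (iv D27745) F98124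
theorem F123595 : act 3 n27745 = n21927 := d29_1 D27745 (iv D21927) (iv F98125)
theorem F123596 : act 5 n27745 = n22317 := d38_1 D27745 (iv D22317) (iv F98126)
theorem F123597 : act 7 n27745 = n21925 := d43_1 D27745 (iv D21925) (iv F98127)
theorem F123598 : act 8 n27745 = n21942 := d44_1 D27745 (iv D21942) (iv D17126) (iv F77235) D21924
def n27746 : Q := act 5 n21926
theorem D27746 : act 5 n21926 = n27746 := rfl
theorem F123599 : act 0 n27746 = n27746 := d4_1 D27746 (iv D27746) F98132
theorem F123600 : act 6 n27746 = n22318 := d35_2 (iv F98133) D27746 (iv D22318) F78540 (iv F77242)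
def n27747 : Q := act 9 n21926
theorem D27747 : act 9 n21926 = n27747 := rfl
theorem F123601 : act 0 n27747 = n27747 := d8_1 D27747 (iv D27747) F98132
theorem F123602 : act 6 n27747 = n21927 := d41_1 D27747 (iv D21927) (iv F98133)
theorem F123603 : act 8 n27747 = n21944 := d44_1 D27747 (iv D21944) (iv D17128) (iv F77240) D21926
def n27751 : Q := act 7 n21930
theorem D27751 : act 7 n21930 = n27751 := rfl
theorem F123613 : act 1 n27751 = n21933 := d14_1 D27751 (iv D21933) (iv F98144)
def n27753 : Q := act 6 n21931
theorem D27753 : act 6 n21931 = n27753 := rfl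
theorem F123619 : act 1 n27753 = n21935 := d13_1 D27753 (iv D21935) (iv F98146)
def n27755 : Q := act 9 n21932
theorem D27755 : act 9 n21932 = n27755 := rfl
theorem F123624 : act 5 n27755 = n21968 := d38_1 D27755 (iv D21968) (iv F98149)
def n27756 : Q := act 6 n21933
theorem D27756 : act 6 n21933 = n27756 := rfl
theorem F123625 : act 0 n27756 = n27756 := d5_1 D27756 (iv D27756) F98150
theorem F123626 : act 2 n27756 = n21938 := d20_1 D27756 (iv D21938) (iv F98151)
theorem F123627 : act 4 n27756 = n21935 := d31_1 D27756 (iv D21935) (iv F98152)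
def n27757 : Q := act 8 n21933
theorem D27757 : act 8 n21933 = n27757 := rfl
theorem F123629 : act 2 n27757 = n21939 := d22_1 D27757 (iv D21939) (iv F98151)
theorem F123632 : act 7 n27757 = n21934 := d42_1 D27757 (iv D21934) D21933
def n27758 : Q := act 8 n21935
theorem D27758 : act 8 n21935 = n27758 := rfl
theorem F123634 : act 2 n27758 = n21941 := d22_1 D27758 (iv D21941) (iv F98159)
theorem F123635 : act 6 n27758 = n21936 := d40_1 D27758 (iv D21936) D21935
def n27759 : Q := act 9 n21936
theorem D27759 : act 9 n21936 = n27759 := rfl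
theorem F123637 : act 2 n27759 = n21942 := d23_1 D27759 (iv D21942) (iv F98161)
theorem F123638 : act 5 n27759 = n21970 := d38_1 D27759 (iv D21970) (iv F98162)
def n27760 : Q := act 5 n21938
theorem D27760 : act 5 n21938 = n27760 := rfl
theorem F123640 : act 0 n27760 = n27760 := d4_1 D27760 (iv D27760) F98167
theorem F123641 : act 6 n27760 = n22028 := d35_2 D21938 D27760 (iv D22028) (iv D17202) (iv F77266)
def n27761 : Q := act 8 n21938
theorem D27761 : act 8 n21938 = n27761 := rfl
theorem F123642 : act 0 n27761 = n27761 := d7_1 D27761 (iv D27761) F98167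
theorem F123643 : act 4 n27761 = n21941 := d33_1 D27761 (iv D21941) (iv F98168)
theorem F123644 : act 6 n27761 = n21939 := d40_1 D27761 (iv D21939) D21938
def n27762 : Q := act 9 n21939
theorem D27762 : act 9 n21939 = n27762 := rfl
theorem F123645 : act 0 n27762 = n27762 := d8_1 D27762 (iv D27762) F98169
theorem F123646 : act 4 n27762 = n21942 := d34_1 D27762 (iv D21942) (iv F98170)
theorem F123647 : act 5 n27762 = n27762 := d38_1 D27762 (iv D27762) F98171
theorem F123648 : act 7 n27762 = n21940 := d43_1 D27762 (iv D21940) (iv F98172)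
def n27763 : Q := act 5 n21941
theorem D27763 : act 5 n21941 = n27763 := rfl
theorem F123651 : act 6 n27763 = n21971 := d35_2 (iv F98178) D27763 (iv D21971) F77369 (iv F77274)
def n27764 : Q := act 9 n21941
theorem D27764 : act 9 n21941 = n27764 := rfl
theorem F123652 : act 0 n27764 = n27764 := d8_1 D27764 (iv D27764) F98176
theorem F123653 : act 3 n27764 = n21944 := d29_1 D27764 (iv D21944) (iv F98177)
theorem F123654 : act 6 n27764 = n21942 := d41_1 D27764 (iv D21942) (iv F98178)
def n27766 : Q := act 9 n21943
theorem D27766 : act 9 n21943 = n27766 := rfl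
theorem F123658 : act 5 n27766 = n21944 := d38_1 D27766 (iv D21944) D21943
def n27789 : Q := act 5 n21960
theorem D27789 : act 5 n21960 = n27789 := rfl
theorem F123755 : act 7 n27789 = n22723 := d36_2 (iv F98252) D27789 (iv D22723)
theorem F123756 : act 8 n27789 = n21971 := d37_2 D21960 D27789 (iv D21971) (iv D17150) (iv F77318)
def n27796 : Q := act 8 n21966
theorem D27796 : act 8 n21966 = n27796 := rfl
theorem F123785 : act 6 n27796 = n21967 := d40_1 D27796 (iv D21967) D21966
def n27808 : Q := act 6 n21978
theorem D27808 : act 6 n21978 = n27808 := rfl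
theorem F123829 : act 0 n27808 = n21979 := d5_1 D27808 (iv D21979) D21978
theorem F123832 : act 9 n27808 = n21985 := d41_2 (iv F98325) D27808 (iv D21985)
def n27809 : Q := act 5 n21979
theorem D27809 : act 5 n21979 = n27809 := rfl
theorem F123837 : act 9 n27809 = n21986 := d38_2 (iv F98328) D27809 (iv D21986)
def n27810 : Q := act 7 n21979
theorem D27810 : act 7 n21979 = n27810 := rfl
theorem F123838 : act 1 n27810 = n21981 := d14_1 D27810 (iv D21981) (iv F98326)
theorem F123840 : act 9 n27810 = n21987 := d43_2 (iv F98328) D27810 (iv D21987)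
def n27811 : Q := act 4 n21980
theorem D27811 : act 4 n21980 = n27811 := rfl
theorem F123845 : act 9 n27811 = n21988 := d34_2 (iv F98334) D27811 (iv D21988)
def n27812 : Q := act 7 n21980
theorem D27812 : act 7 n21980 = n27812 := rfl
theorem F123846 : act 0 n27812 = n27812 := d6_1 D27812 (iv D27812) F98329
theorem F123847 : act 2 n27812 = n21983 := d21_1 D27812 (iv D21983) (iv F98330)
theorem F123848 : act 3 n27812 = n27812 := d27_1 D27812 (iv D27812) F98331
theorem F123849 : act 5 n27812 = n21981 := d36_1 D27812 (iv D21981) D21980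
theorem F123850 : act 8 n27812 = n27812 := d42_2 F98333 D27812 (iv D27812)
theorem F123851 : act 9 n27812 = n21989 := d43_2 (iv F98334) D27812 (iv D21989)
def n27813 : Q := act 7 n21982
theorem D27813 : act 7 n21982 = n27813 := rfl
theorem F123854 : act 4 n27813 = n21983 := d32_1 D27813 (iv D21983) D21982
theorem F123856 : act 9 n27813 = n21991 := d43_2 (iv F98343) D27813 (iv D21991)
def n27814 : Q := act 6 n21983
theorem D27814 : act 6 n21983 = n27814 := rfl
theorem F123857 : act 0 n27814 = n27814 := d5_1 D27814 (iv D27814) F98344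
theorem F123858 : act 3 n27814 = n21984 := d26_1 D27814 (iv D21984) (iv F98345)
theorem F123859 : act 7 n27814 = n27814 := d39_2 D21983 D27814 (iv D27814) (iv D21983) F77399
theorem F123860 : act 8 n27814 = n27814 := d40_2 F98347 D27814 (iv D27814)
theorem F123861 : act 9 n27814 = n21993 := d41_2 (iv F98348) D27814 (iv D21993)
def n27815 : Q := act 5 n21985
theorem D27815 : act 5 n21985 = n27815 := rfl
theorem F123862 : act 0 n27815 = n21986 := d4_1 D27815 (iv D21986) (iv F98355)
theorem F123863 : act 1 n27815 = n27815 := d12_1 D27815 (iv D27815) F98356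
theorem F123864 : act 3 n27815 = n27815 := d25_1 D27815 (iv D27815) F98357
theorem F123865 : act 6 n27815 = n27815 := d35_2 D21985 D27815 (iv D27815) (iv D21985) F77413
def n27816 : Q := act 7 n21985
theorem D27816 : act 7 n21985 = n27816 := rfl
theorem F123866 : act 0 n27816 = n21987 := d6_1 D27816 (iv D21987) (iv F98355)
def n27817 : Q := act 4 n21986
theorem D27817 : act 4 n21986 = n27817 := rfl
theorem F123870 : act 1 n27817 = n21988 := d11_1 D27817 (iv D21988) (iv F98359)
def n27818 : Q := act 7 n21986
theorem D27818 : act 7 n21986 = n27818 := rfl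
theorem F123872 : act 1 n27818 = n21989 := d14_1 D27818 (iv D21989) (iv F98359)
theorem F123873 : act 3 n27818 = n27818 := d27_1 D27818 (iv D27818) F98360
theorem F123874 : act 5 n27818 = n21987 := d36_1 D27818 (iv D21987) D21986
def n27819 : Q := act 8 n21986
theorem D27819 : act 8 n21986 = n27819 := rfl
theorem F123875 : act 1 n27819 = n21990 := d15_1 D27819 (iv D21990) (iv F98359)
def n27821 : Q := act 7 n21988
theorem D27821 : act 7 n21988 = n27821 := rfl
theorem F123886 : act 4 n27821 = n21989 := d32_1 D27821 (iv D21989) D21988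
def n27823 : Q := act 6 n21989
theorem D27823 : act 6 n21989 = n27823 := rfl
theorem F123892 : act 0 n27823 = n27823 := d5_1 D27823 (iv D27823) F98368
theorem F123893 : act 2 n27823 = n21993 := d20_1 D27823 (iv D21993) (iv F98369)
theorem F123894 : act 3 n27823 = n27823 := d26_1 D27823 (iv D27823) F98370
theorem F123895 : act 7 n27823 = n27823 := d39_2 D21989 D27823 (iv D27823) (iv D21989) F77421
def n27824 : Q := act 8 n21989
theorem D27824 : act 8 n21989 = n27824 := rfl
theorem F123897 : act 2 n27824 = n21994 := d22_1 D27824 (iv D21994) (iv F98369)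
def n27825 : Q := act 6 n21991
theorem D27825 : act 6 n21991 = n27825 := rfl
theorem F123904 : act 4 n27825 = n21993 := d31_1 D27825 (iv D21993) (iv F98380)
def n27828 : Q := act 8 n21993
theorem D27828 : act 8 n21993 = n27828 := rfl
theorem F123917 : act 6 n27828 = n21994 := d40_1 D27828 (iv D21994) D21993
def n27852 : Q := act 5 n22013
theorem D27852 : act 5 n22013 = n27852 := rfl
theorem F124029 : act 4 n27852 = n22028 := d30_1 D27852 (iv D22028) F77591 (iv F77516) (iv F98478)
def n27858 : Q := act 5 n22021
theorem D27858 : act 5 n22021 = n27858 := rfl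
theorem F124053 : act 0 n27858 = n27858 := d4_1 D27858 (iv D27858) F98512
theorem F124054 : act 7 n27858 = n27858 := d36_2 F98514 D27858 (iv D27858)
theorem F124055 : act 9 n27858 = n22028 := d38_2 (iv F98515) D27858 (iv D22028)
def n27862 : Q := act 5 n22027
theorem D27862 : act 5 n22027 = n27862 := rfl
theorem F124070 : act 2 n27862 = n22028 := d19_1 D27862 (iv D22028) (iv F98539)
def n27863 : Q := act 8 n22028
theorem D27863 : act 8 n22028 = n27863 := rfl
theorem F124072 : act 0 n27863 = n27863 := d7_1 D27863 (iv D27863) F98543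
theorem F124073 : act 5 n27863 = n27863 := d37_1 D27863 (iv D27863) (iv D22028) F77593 D22028
theorem F124074 : act 7 n27863 = n27863 := d42_1 D27863 (iv D27863) F98544
def n27890 : Q := act 5 n22051
theorem D27890 : act 5 n22051 = n27890 := rfl
theorem F124210 : act 3 n27890 = n22052 := d25_1 D27890 (iv D22052) (iv F98656)
def n27891 : Q := act 7 n22051
theorem D27891 : act 7 n22051 = n27891 := rfl
theorem F124215 : act 3 n27891 = n22053 := d27_1 D27891 (iv D22053) (iv F98656)
theorem F124218 : act 9 n27891 = n22057 := d43_2 (iv F98658) D27891 (iv D22057)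
def n27892 : Q := act 7 n22052
theorem D27892 : act 7 n22052 = n27892 := rfl
theorem F124219 : act 0 n27892 = n22115 := d6_1 D27892 (iv D22115) (iv F98659)
theorem F124220 : act 1 n27892 = n27892 := d14_1 D27892 (iv D27892) F98660
theorem F124221 : act 5 n27892 = n22053 := d36_1 D27892 (iv D22053) D22052
theorem F124222 : act 9 n27892 = n22058 := d43_2 (iv F98662) D27892 (iv D22058)
def n27893 : Q := act 8 n22052
theorem D27893 : act 8 n22052 = n27893 := rfl
theorem F124223 : act 0 n27893 = n22116 := d7_1 D27893 (iv D22116) (iv F98659)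
def n27895 : Q := act 7 n22056
theorem D27895 : act 7 n22056 = n27895 := rfl
theorem F124233 : act 3 n27895 = n22058 := d27_1 D27895 (iv D22058) (iv F98679)
def n27896 : Q := act 6 n22058
theorem D27896 : act 6 n22058 = n27896 := rfl
theorem F124235 : act 0 n27896 = n22124 := d5_1 D27896 (iv D22124) (iv F98687)
theorem F124237 : act 5 n27896 = n22073 := d35_1 D27896 (iv D22073) F77754 (iv F77714) (iv F98689)
def n27897 : Q := act 8 n22058
theorem D27897 : act 8 n22058 = n27897 := rfl
theorem F124241 : act 5 n27897 = n22079 := d37_1 D27897 (iv D22079) F77779 (iv F77715) (iv F98689)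
def n27906 : Q := act 6 n22064
theorem D27906 : act 6 n22064 = n27906 := rfl
theorem F124279 : act 0 n27906 = n22134 := d5_1 D27906 (iv D22134) (iv F98712)
theorem F124283 : act 9 n27906 = n22073 := d41_2 (iv F98716) D27906 (iv D22073)
def n27907 : Q := act 8 n22064
theorem D27907 : act 8 n22064 = n27907 := rfl
theorem F124284 : act 0 n27907 = n22135 := d7_1 D27907 (iv D22135) (iv F98712)
def n27923 : Q := act 8 n22078
theorem D27923 : act 8 n22078 = n27923 := rfl
theorem F124358 : act 6 n27923 = n22079 := d40_1 D27923 (iv D22079) D22078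
def n27925 : Q := act 5 n22081
theorem D27925 : act 5 n22081 = n27925 := rfl
theorem F124367 : act 6 n27925 = n22822 := d35_2 D22081 D27925 (iv D22822) (iv D17848) (iv F77787)
def n27959 : Q := act 7 n22113
theorem D27959 : act 7 n22113 = n27959 := rfl
theorem F124526 : act 1 n27959 = n22200 := d14_1 D27959 (iv D22200) (iv F98929)
theorem F124527 : act 3 n27959 = n22115 := d27_1 D27959 (iv D22115) (iv F98930)
theorem F124529 : act 9 n27959 = n22122 := d43_2 (iv F98932) D27959 (iv D22122)
def n27960 : Q := act 8 n22113
theorem D27960 : act 8 n22113 = n27960 := rfl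
theorem F124531 : act 3 n27960 = n22116 := d28_1 D27960 (iv D22116) (iv F98930)
def n27961 : Q := act 6 n22115
theorem D27961 : act 6 n22115 = n27961 := rfl
theorem F124533 : act 1 n27961 = n22202 := d13_1 D27961 (iv D22202) (iv F98938)
theorem F124534 : act 5 n27961 = n22134 := d35_1 D27961 (iv D22134) F77927 (iv F77887) (iv F98939)
theorem F124535 : act 7 n27961 = n27961 := d39_2 D22115 D27961 (iv D27961) (iv D22115) F77883
theorem F124536 : act 9 n27961 = n22124 := d41_2 (iv F98940) D27961 (iv D22124)
def n27962 : Q := act 8 n22115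
theorem D27962 : act 8 n22115 = n27962 := rfl
theorem F124537 : act 1 n27962 = n22203 := d15_1 D27962 (iv D22203) (iv F98938)
theorem F124538 : act 7 n27962 = n22116 := d42_1 D27962 (iv D22116) D22115
def n27963 : Q := act 9 n22116
theorem D27963 : act 9 n22116 = n27963 := rfl
theorem F124541 : act 8 n27963 = n22126 := d44_1 D27963 (iv D22126) (iv D17275) (iv F77884) D22116
def n27966 : Q := act 7 n22121
theorem D27966 : act 7 n22121 = n27966 := rfl
theorem F124549 : act 1 n27966 = n22211 := d14_1 D27966 (iv D22211) (iv F98958)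
theorem F124550 : act 4 n27966 = n22122 := d32_1 D27966 (iv D22122) D22121
def n27967 : Q := act 6 n22122
theorem D27967 : act 6 n22122 = n27967 := rfl
theorem F124552 : act 1 n27967 = n22213 := d13_1 D27967 (iv D22213) (iv F98961)
theorem F124553 : act 3 n27967 = n22124 := d26_1 D27967 (iv D22124) (iv F98962)
def n27970 : Q := act 8 n22124
theorem D27970 : act 8 n22124 = n27970 := rfl
theorem F124564 : act 1 n27970 = n22216 := d15_1 D27970 (iv D22216) (iv F98968)
theorem F124565 : act 6 n27970 = n22125 := d40_1 D27970 (iv D22125) D22124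
def n27971 : Q := act 9 n22125
theorem D27971 : act 9 n22125 = n27971 := rfl
theorem F124567 : act 1 n27971 = n22217 := d16_1 D27971 (iv D22217) (iv F98971)
def n27979 : Q := act 6 n22132
theorem D27979 : act 6 n22132 = n27979 := rfl
theorem F124596 : act 1 n27979 = n22223 := d13_1 D27979 (iv D22223) (iv F98996)
theorem F124597 : act 3 n27979 = n22134 := d26_1 D27979 (iv D22134) (iv F98997)
theorem F124599 : act 9 n27979 = n22145 := d41_2 (iv F98999) D27979 (iv D22145)
def n27980 : Q := act 8 n22132
theorem D27980 : act 8 n22132 = n27980 := rfl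
theorem F124600 : act 1 n27980 = n22224 := d15_1 D27980 (iv D22224) (iv F98996)
theorem F124601 : act 3 n27980 = n22135 := d28_1 D27980 (iv D22135) (iv F98997)
def n27982 : Q := act 8 n22134
theorem D27982 : act 8 n22134 = n27982 := rfl
theorem F124607 : act 1 n27982 = n22226 := d15_1 D27982 (iv D22226) (iv F99003)
theorem F124608 : act 4 n27982 = n27982 := d33_1 D27982 (iv D27982) F99004
theorem F124609 : act 6 n27982 = n22135 := d40_1 D27982 (iv D22135) D22134
theorem F124610 : act 7 n27982 = n27982 := d42_1 D27982 (iv D27982) F99005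
def n27983 : Q := act 9 n22135
theorem D27983 : act 9 n22135 = n27983 := rfl
theorem F124611 : act 1 n27983 = n22227 := d16_1 D27983 (iv D22227) (iv F99007)
theorem F124614 : act 8 n27983 = n22149 := d44_1 D27983 (iv D22149) (iv D17290) (iv F77928) D22135
def n27988 : Q := act 8 n22138
theorem D27988 : act 8 n22138 = n27988 := rfl
theorem F124631 : act 5 n27988 = n22162 := d37_1 D27988 (iv D22162) (iv D17303) (iv F77939) D22138
def n28002 : Q := act 9 n22148
theorem D28002 : act 9 n22148 = n28002 := rfl
theorem F124677 : act 1 n28002 = n22245 := d16_1 D28002 (iv D22245) (iv F99052)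
def n28003 : Q := act 6 n22151
theorem D28003 : act 6 n22151 = n28003 := rfl
theorem F124683 : act 7 n28003 = n22851 := d39_2 D22151 D28003 (iv D22851) (iv D17879) (iv F77975)
def n28004 : Q := act 6 n22152
theorem D28004 : act 6 n22152 = n28004 := rfl
theorem F124687 : act 7 n28004 = n22852 := d39_2 D22152 D28004 (iv D22852) (iv D17880) (iv F77982)
def n28009 : Q := act 4 n22158
theorem D28009 : act 4 n22158 = n28009 := rfl
theorem F124705 : act 6 n28009 = n22857 := d31_2 (iv F99089) D28009 (iv D22857)
def n28051 : Q := act 7 n22197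
theorem D28051 : act 7 n22197 = n28051 := rfl
theorem F124880 : act 2 n28051 = n22200 := d21_1 D28051 (iv D22200) (iv F99240)
theorem F124883 : act 9 n28051 = n22209 := d43_2 (iv F99243) D28051 (iv D22209)
def n28053 : Q := act 7 n22199
theorem D28053 : act 7 n22199 = n28053 := rfl
theorem F124889 : act 4 n28053 = n22200 := d32_1 D28053 (iv D22200) D22199
theorem F124891 : act 9 n28053 = n22211 := d43_2 (iv F99253) D28053 (iv D22211)
def n28055 : Q := act 6 n22200
theorem D28055 : act 6 n22200 = n28055 := rfl
theorem F124895 : act 0 n28055 = n28055 := d5_1 D28055 (iv D28055) F99254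
theorem F124896 : act 3 n28055 = n22202 := d26_1 D28055 (iv D22202) (iv F99255)
theorem F124897 : act 5 n28055 = n22223 := d35_1 D28055 (iv D22223) F78183 (iv F78106) (iv F99256)
theorem F124898 : act 7 n28055 = n28055 := d39_2 D22200 D28055 (iv D28055) (iv D22200) F78101
theorem F124899 : act 9 n28055 = n22213 := d41_2 (iv F99257) D28055 (iv D22213)
def n28056 : Q := act 8 n22200
theorem D28056 : act 8 n22200 = n28056 := rfl
theorem F124901 : act 3 n28056 = n22203 := d28_1 D28056 (iv D22203) (iv F99255)
def n28058 : Q := act 8 n22202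
theorem D28058 : act 8 n22202 = n28058 := rfl
theorem F124907 : act 0 n28058 = n28058 := d7_1 D28058 (iv D28058) F99261
theorem F124908 : act 2 n28058 = n22298 := d22_1 D28058 (iv D22298) (iv F99262)
theorem F124909 : act 6 n28058 = n22203 := d40_1 D28058 (iv D22203) D22202
theorem F124910 : act 7 n28058 = n28058 := d42_1 D28058 (iv D28058) F99264
def n28059 : Q := act 9 n22203
theorem D28059 : act 9 n22203 = n28059 := rfl
theorem F124914 : act 8 n28059 = n22217 := d44_1 D28059 (iv D22217) (iv D17343) (iv F78111) D22203
def n28060 : Q := act 7 n22205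
theorem D28060 : act 7 n22205 = n28060 := rfl
theorem F124919 : act 6 n28060 = n22229 := d39_1 D28060 (iv D22229) (iv D17355) (iv F78119) D22205
theorem F124920 : act 8 n28060 = n22246 := d42_2 (iv F99277) D28060 (iv D22246)
def n28062 : Q := act 7 n22208
theorem D28062 : act 7 n22208 = n28062 := rfl
theorem F124925 : act 2 n28062 = n22211 := d21_1 D28062 (iv D22211) (iv F99287)
def n28063 : Q := act 6 n22209
theorem D28063 : act 6 n22209 = n28063 := rfl
theorem F124930 : act 2 n28063 = n22213 := d20_1 D28063 (iv D22213) (iv F99292)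
def n28064 : Q := act 8 n22209
theorem D28064 : act 8 n22209 = n28064 := rfl
theorem F124938 : act 7 n28064 = n22210 := d42_1 D28064 (iv D22210) D22209
def n28065 : Q := act 9 n22210
theorem D28065 : act 9 n22210 = n28065 := rfl
theorem F124941 : act 3 n28065 = n22306 := d29_1 D28065 (iv D22306) (iv F99297)
theorem F124942 : act 5 n28065 = n22251 := d38_1 D28065 (iv D22251) (iv F99298)
def n28066 : Q := act 6 n22211
theorem D28066 : act 6 n22211 = n28066 := rfl
theorem F124944 : act 0 n28066 = n28066 := d5_1 D28066 (iv D28066) F99300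
theorem F124945 : act 4 n28066 = n22213 := d31_1 D28066 (iv D22213) (iv F99301)
theorem F124946 : act 7 n28066 = n28066 := d39_2 D22211 D28066 (iv D28066) (iv D22211) F78137
def n28067 : Q := act 8 n22211
theorem D28067 : act 8 n22211 = n28067 := rfl
theorem F124949 : act 7 n28067 = n22212 := d42_1 D28067 (iv D22212) D22211
def n28069 : Q := act 8 n22213
theorem D28069 : act 8 n22213 = n28069 := rfl
theorem F124954 : act 3 n28069 = n22216 := d28_1 D28069 (iv D22216) (iv F99307)
theorem F124955 : act 6 n28069 = n22214 := d40_1 D28069 (iv D22214) D22213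
def n28071 : Q := act 5 n22216
theorem D28071 : act 5 n22216 = n28071 := rfl
theorem F124963 : act 6 n28071 = n22257 := d35_2 (iv F99320) D28071 (iv D22257) F78300 (iv F78151)
def n28072 : Q := act 9 n22216
theorem D28072 : act 9 n22216 = n28072 := rfl
theorem F124966 : act 0 n28072 = n28072 := d8_1 D28072 (iv D28072) F99318
theorem F124967 : act 2 n28072 = n22310 := d23_1 D28072 (iv D22310) (iv F99319)
theorem F124968 : act 6 n28072 = n22217 := d41_1 D28072 (iv D22217) (iv F99320)
theorem F124969 : act 7 n28072 = n28072 := d43_1 D28072 (iv D28072) F99321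
def n28076 : Q := act 6 n22221
theorem D28076 : act 6 n22221 = n28076 := rfl
theorem F124986 : act 3 n28076 = n22314 := d26_1 D28076 (iv D22314) (iv F99341)
theorem F124988 : act 9 n28076 = n22235 := d41_2 (iv F99343) D28076 (iv D22235)
def n28077 : Q := act 6 n22222
theorem D28077 : act 6 n22222 = n28077 := rfl
theorem F124991 : act 4 n28077 = n22223 := d31_1 D28077 (iv D22223) (iv F99346)
theorem F124993 : act 9 n28077 = n22238 := d41_2 (iv F99348) D28077 (iv D22238)
def n28078 : Q := act 8 n22223
theorem D28078 : act 8 n22223 = n28078 := rfl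
theorem F124994 : act 0 n28078 = n28078 := d7_1 D28078 (iv D28078) F99349
theorem F124995 : act 3 n28078 = n22226 := d28_1 D28078 (iv D22226) (iv F99350)
theorem F124996 : act 6 n28078 = n22224 := d40_1 D28078 (iv D22224) D22223
theorem F124997 : act 7 n28078 = n28078 := d42_1 D28078 (iv D28078) F99351
def n28079 : Q := act 9 n22224
theorem D28079 : act 9 n22224 = n28079 := rfl
theorem F124999 : act 3 n28079 = n22227 := d29_1 D28079 (iv D22227) (iv F99354)
theorem F125001 : act 8 n28079 = n22243 := d44_1 D28079 (iv D22243) (iv D17364) (iv F78184) D22224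
def n28080 : Q := act 5 n22226
theorem D28080 : act 5 n22226 = n28080 := rfl
theorem F125002 : act 0 n28080 = n28080 := d4_1 D28080 (iv D28080) F99360
theorem F125003 : act 2 n28080 = n22318 := d19_1 D28080 (iv D22318) (iv F99361)
theorem F125004 : act 7 n28080 = n28080 := d36_2 F99364 D28080 (iv D28080)
def n28081 : Q := act 9 n22226
theorem D28081 : act 9 n22226 = n28081 := rfl
theorem F125005 : act 0 n28081 = n28081 := d8_1 D28081 (iv D28081) F99360
theorem F125006 : act 2 n28081 = n22319 := d23_1 D28081 (iv D22319) (iv F99361)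
theorem F125007 : act 4 n28081 = n28081 := d34_1 D28081 (iv D28081) F99362
theorem F125008 : act 6 n28081 = n22227 := d41_1 D28081 (iv D22227) (iv F99363)
theorem F125009 : act 7 n28081 = n28081 := d43_1 D28081 (iv D28081) F99364
theorem F125010 : act 8 n28081 = n22245 := d44_1 D28081 (iv D22245) (iv D17366) (iv F78192) D22226
def n28086 : Q := act 8 n22230
theorem D28086 : act 8 n22230 = n28086 := rfl
theorem F125027 : act 1 n28086 = n22234 := d15_1 D28086 (iv D22234) (iv F99379)
def n28092 : Q := act 5 n22234
theorem D28092 : act 5 n22234 = n28092 := rfl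
theorem F125052 : act 4 n28092 = n22269 := d30_1 D28092 (iv D22269) F78332 (iv F78225) (iv F99395)
def n28093 : Q := act 8 n22235
theorem D28093 : act 8 n22235 = n28093 := rfl
theorem F125059 : act 6 n28093 = n22236 := d40_1 D28093 (iv D22236) D22235
def n28101 : Q := act 5 n22242
theorem D28101 : act 5 n22242 = n28101 := rfl
theorem F125103 : act 3 n28101 = n22244 := d25_1 D28101 (iv D22244) (iv F99428)
theorem F125105 : act 6 n28101 = n22279 := d35_2 (iv F99429) D28101 (iv D22279) F78363 (iv F78240)
def n28102 : Q := act 9 n22242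
theorem D28102 : act 9 n22242 = n28102 := rfl
theorem F125108 : act 3 n28102 = n22245 := d29_1 D28102 (iv D22245) (iv F99428)
def n28104 : Q := act 9 n22244
theorem D28104 : act 9 n22244 = n28104 := rfl
theorem F125119 : act 5 n28104 = n22245 := d38_1 D28104 (iv D22245) D22244
theorem F125120 : act 6 n28104 = n22282 := d41_1 D28104 (iv D22282) (iv F99437)
def n28106 : Q := act 6 n22248
theorem D28106 : act 6 n22248 = n28106 := rfl
theorem F125127 : act 2 n28106 = n22252 := d20_1 D28106 (iv D22252) (iv F99453)
theorem F125129 : act 7 n28106 = n22896 := d39_2 D22248 D28106 (iv D22896) (iv D17925) (iv F78270)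
def n28110 : Q := act 8 n22252
theorem D28110 : act 8 n22252 = n28110 := rfl
theorem F125150 : act 7 n28110 = n22900 := d42_1 D28110 (iv D22900) (iv F99472)
def n28117 : Q := act 8 n22259
theorem D28117 : act 8 n22259 = n28117 := rfl
theorem F125182 : act 4 n28117 = n22261 := d33_1 D28117 (iv D22261) D22259
theorem F125183 : act 6 n28117 = n22907 := d40_1 D28117 (iv D22907) (iv F99501)
def n28118 : Q := act 6 n22260
theorem D28118 : act 6 n22260 = n28118 := rfl
theorem F125187 : act 7 n28118 = n22908 := d39_2 D22260 D28118 (iv D22908) (iv D17937) (iv F78309)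
def n28131 : Q := act 6 n22269
theorem D28131 : act 6 n22269 = n28131 := rfl
theorem F125246 : act 5 n28131 = n22921 := d35_1 D28131 (iv D22921) (iv D17946) (iv F78333) D22269
def n28133 : Q := act 5 n22271
theorem D28133 : act 5 n22271 = n28133 := rfl
theorem F125261 : act 7 n28133 = n22923 := d36_2 (iv F99550) D28133 (iv D22923)
def n28153 : Q := act 8 n22295
theorem D28153 : act 8 n22295 = n28153 := rfl
theorem F125368 : act 3 n28153 = n22298 := d28_1 D28153 (iv D22298) (iv F99662)
def n28155 : Q := act 5 n22298
theorem D28155 : act 5 n22298 = n28155 := rfl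
theorem F125377 : act 0 n28155 = n28155 := d4_1 D28155 (iv D28155) F99676
theorem F125378 : act 7 n28155 = n28155 := d36_2 F99678 D28155 (iv D28155)
theorem F125379 : act 8 n28155 = n22318 := d37_2 D22298 D28155 (iv D22318) (iv D17436) (iv F78459)
def n28156 : Q := act 9 n22298
theorem D28156 : act 9 n22298 = n28156 := rfl
theorem F125383 : act 8 n28156 = n22310 := d44_1 D28156 (iv D22310) (iv D17426) (iv F78461) D22298
def n28161 : Q := act 8 n22304
theorem D28161 : act 8 n22304 = n28161 := rfl
theorem F125401 : act 2 n28161 = n22307 := d22_1 D28161 (iv D22307) (iv F99699)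
theorem F125403 : act 6 n28161 = n22305 := d40_1 D28161 (iv D22305) D22304
def n28163 : Q := act 5 n22307
theorem D28163 : act 5 n22307 = n28163 := rfl
theorem F125412 : act 6 n28163 = n22351 := d35_2 (iv F99716) D28163 (iv D22351) F78665 (iv F78495)
theorem F125414 : act 8 n28163 = n22334 := d37_2 D22307 D28163 (iv D22334) (iv D17451) (iv F78490)
def n28168 : Q := act 6 n22313
theorem D28168 : act 6 n22313 = n28168 := rfl
theorem F125432 : act 1 n28168 = n22314 := d13_1 D28168 (iv D22314) (iv F99738)
def n28169 : Q := act 5 n22316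
theorem D28169 : act 5 n22316 = n28169 := rfl
theorem F125435 : act 0 n28169 = n28169 := d4_1 D28169 (iv D28169) F99751
theorem F125436 : act 3 n28169 = n22318 := d25_1 D28169 (iv D22318) (iv F99752)
theorem F125437 : act 7 n28169 = n28169 := d36_2 F99754 D28169 (iv D28169)
def n28170 : Q := act 9 n22316
theorem D28170 : act 9 n22316 = n28170 := rfl
theorem F125438 : act 0 n28170 = n28170 := d8_1 D28170 (iv D28170) F99751
theorem F125439 : act 3 n28170 = n22319 := d29_1 D28170 (iv D22319) (iv F99752)
theorem F125440 : act 6 n28170 = n22317 := d41_1 D28170 (iv D22317) (iv F99753)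
theorem F125441 : act 7 n28170 = n28170 := d43_1 D28170 (iv D28170) F99754
theorem F125442 : act 8 n28170 = n22335 := d44_1 D28170 (iv D22335) (iv D17451) (iv F78530) D22316
def n28171 : Q := act 4 n22318
theorem D28171 : act 4 n22318 = n28171 := rfl
theorem F125443 : act 0 n28171 = n28171 := d3_1 D28171 (iv D28171) F99759
theorem F125444 : act 5 n28171 = n28171 := d30_2 D22318 D28171 (iv D28171) (iv D22318) F78539
theorem F125445 : act 7 n28171 = n28171 := d32_2 F99760 D28171 (iv D28171)
def n28172 : Q := act 9 n22318
theorem D28172 : act 9 n22318 = n28172 := rfl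
theorem F125446 : act 0 n28172 = n28172 := d8_1 D28172 (iv D28172) F99759
theorem F125447 : act 5 n28172 = n22319 := d38_1 D28172 (iv D22319) D22318
theorem F125448 : act 7 n28172 = n28172 := d43_1 D28172 (iv D28172) F99760
def n28177 : Q := act 9 n22322
theorem D28177 : act 9 n22322 = n28177 := rfl
theorem F125467 : act 5 n28177 = n22357 := d38_1 D28177 (iv D22357) (iv F99775)
def n28182 : Q := act 8 n22328
theorem D28182 : act 8 n22328 = n28182 := rfl
theorem F125484 : act 2 n28182 = n22332 := d22_1 D28182 (iv D22332) (iv F99793)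
theorem F125486 : act 6 n28182 = n22329 := d40_1 D28182 (iv D22329) D22328
def n28184 : Q := act 9 n22330
theorem D28184 : act 9 n22330 = n28184 := rfl
theorem F125493 : act 2 n28184 = n22335 := d23_1 D28184 (iv D22335) (iv F99803)
theorem F125494 : act 6 n28184 = n22331 := d41_1 D28184 (iv D22331) (iv F99804)
def n28185 : Q := act 5 n22332
theorem D28185 : act 5 n22332 = n28185 := rfl
theorem F125496 : act 0 n28185 = n28185 := d4_1 D28185 (iv D28185) F99810
theorem F125497 : act 3 n28185 = n28185 := d25_1 D28185 (iv D28185) F99811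
theorem F125498 : act 6 n28185 = n28185 := d35_2 (iv F99813) D28185 (iv D28185) F99813 F78589
theorem F125499 : act 7 n28185 = n28185 := d36_2 F99814 D28185 (iv D28185)
theorem F125500 : act 8 n28185 = n28185 := d37_2 D22332 D28185 (iv D28185) (iv D22332) F78584
def n28186 : Q := act 9 n22332
theorem D28186 : act 9 n22332 = n28186 := rfl
theorem F125501 : act 0 n28186 = n28186 := d8_1 D28186 (iv D28186) F99810
theorem F125502 : act 3 n28186 = n28186 := d29_1 D28186 (iv D28186) F99811
theorem F125503 : act 4 n28186 = n22335 := d34_1 D28186 (iv D22335) (iv F99812)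
theorem F125504 : act 6 n28186 = n22333 := d41_1 D28186 (iv D22333) (iv F99813)
theorem F125505 : act 7 n28186 = n28186 := d43_1 D28186 (iv D28186) F99814
def n28188 : Q := act 9 n22334
theorem D28188 : act 9 n22334 = n28188 := rfl
theorem F125511 : act 5 n28188 = n22335 := d38_1 D28188 (iv D22335) D22334
def n28221 : Q := act 6 n22374
theorem D28221 : act 6 n22374 = n28221 := rfl
theorem F125650 : act 8 n28221 = n22390 := d40_2 (iv F99985) D28221 (iv D22390)
def n28255 : Q := act 8 n22403
theorem D28255 : act 8 n22403 = n28255 := rfl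
theorem F125796 : act 4 n28255 = n22405 := d33_1 D28255 (iv D22405) D22403
theorem F125797 : act 9 n28255 = n22711 := d44_2 (iv F100112) D28255 (iv D22711) F79799 F80266
def n28258 : Q := act 9 n22405
theorem D28258 : act 9 n22405 = n28258 := rfl
theorem F125811 : act 3 n28258 = n22567 := d29_1 D28258 (iv F118141) F118138
theorem F125812 : act 4 n28258 = n22711 := d34_1 D28258 (iv F125797) F125796
def n28278 : Q := act 5 n22421
theorem D28278 : act 5 n22421 = n28278 := rfl
theorem F125902 : act 6 n28278 = n22440 := d35_2 D22421 D28278 (iv D22440) (iv D17550) (iv F78959)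
def n28291 : Q := act 7 n22431
theorem D28291 : act 7 n22431 = n28291 := rfl
theorem F125948 : act 4 n28291 = n23075 := d32_1 D28291 (iv D23075) (iv F100221)
theorem F125949 : act 6 n28291 = n22441 := d39_1 D28291 (iv D22441) (iv D17550) (iv F78979) D22431
def n28292 : Q := act 7 n22432
theorem D28292 : act 7 n22432 = n28292 := rfl
theorem F125954 : act 5 n28292 = n22433 := d36_1 D28292 (iv D22433) D22432
def n28297 : Q := act 8 n22436
theorem D28297 : act 8 n22436 = n28297 := rfl
theorem F125975 : act 6 n28297 = n22437 := d40_1 D28297 (iv D22437) D22436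
def n28301 : Q := act 4 n22440
theorem D28301 : act 4 n22440 = n28301 := rfl
theorem F125990 : act 5 n28301 = n23078 := d30_2 D22440 D28301 (iv D23078) (iv D18118) (iv F79007)
def n28326 : Q := act 4 n22462
theorem D28326 : act 4 n22462 = n28326 := rfl
theorem F126076 : act 5 n28326 = n23092 := d30_2 D22462 D28326 (iv D23092) (iv D18132) (iv F79074)
def n28327 : Q := act 7 n22462
theorem D28327 : act 7 n22462 = n28327 := rfl
theorem F126078 : act 0 n28327 = n22465 := d6_1 D28327 (iv D22465) (iv F100333)
theorem F126081 : act 9 n28327 = n22858 := d43_2 (iv F100335) D28327 (iv D22858)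
def n28330 : Q := act 7 n22464
theorem D28330 : act 7 n22464 = n28330 := rfl
theorem F126090 : act 4 n28330 = n22465 := d32_1 D28330 (iv D22465) D22464
theorem F126091 : act 5 n28330 = n23096 := d36_1 D28330 (iv D23096) (iv F100342)
def n28345 : Q := act 5 n22474
theorem D28345 : act 5 n22474 = n28345 := rfl
theorem F126138 : act 8 n28345 = n23111 := d37_2 D22474 D28345 (iv D23111) (iv D18144) (iv F79093)
def n28377 : Q := act 8 n22498
theorem D28377 : act 8 n22498 = n28377 := rfl
theorem F126249 : act 5 n28377 = n22894 := d37_1 D28377 (iv D22894) F80486 (iv F79162) (iv F100455)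
def n28386 : Q := act 5 n22509
theorem D28386 : act 5 n22509 = n28386 := rfl
theorem F126294 : act 6 n28386 = n22534 := d35_2 D22509 D28386 (iv D22534) (iv D17621) (iv F79191)
def n28388 : Q := act 7 n22510
theorem D28388 : act 7 n22510 = n28388 := rfl
theorem F126304 : act 5 n28388 = n22511 := d36_1 D28388 (iv D22511) D22510
def n28389 : Q := act 8 n22510
theorem D28389 : act 8 n22510 = n28389 := rfl
theorem F126307 : act 2 n28389 = n22513 := d22_1 D28389 (iv D22513) (iv F100508)
theorem F126310 : act 6 n28389 = n22537 := d40_1 D28389 (iv D22537) (iv F100511)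
def n28415 : Q := act 6 n22536
theorem D28415 : act 6 n22536 = n28415 := rfl
theorem F126430 : act 5 n28415 = n22551 := d35_1 D28415 (iv D22551) F79331 (iv F79286) (iv F100630)
def n28416 : Q := act 8 n22536
theorem D28416 : act 8 n22536 = n28416 := rfl
theorem F126436 : act 5 n28416 = n22569 := d37_1 D28416 (iv D22569) F79386 (iv F79287) (iv F100630)
theorem F126437 : act 7 n28416 = n22537 := d42_1 D28416 (iv D22537) D22536
def n28417 : Q := act 9 n22537
theorem D28417 : act 9 n22537 = n28417 := rfl
theorem F126439 : act 2 n28417 = n22540 := d23_1 D28417 (iv D22540) (iv F100633)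
def n28418 : Q := act 8 n22538
theorem D28418 : act 8 n22538 = n28418 := rfl
theorem F126445 : act 3 n28418 = n22541 := d28_1 D28418 (iv D22541) (iv F100638)
def n28426 : Q := act 7 n22545
theorem D28426 : act 7 n22545 = n28426 := rfl
theorem F126480 : act 4 n28426 = n22546 := d32_1 D28426 (iv D22546) D22545
theorem F126481 : act 5 n28426 = n23158 := d36_1 D28426 (iv D23158) (iv F100671)
def n28431 : Q := act 7 n22548
theorem D28431 : act 7 n22548 = n28431 := rfl
theorem F126499 : act 4 n28431 = n22687 := d32_1 D28431 (iv D22687) (iv F100682)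
theorem F126500 : act 5 n28431 = n23162 := d36_1 D28431 (iv D23162) (iv F100683)
def n28434 : Q := act 5 n22550
theorem D28434 : act 5 n22550 = n28434 := rfl
theorem F126516 : act 8 n28434 = n23165 := d37_2 D22550 D28434 (iv D23165) (iv D18189) (iv F79326)
def n28438 : Q := act 5 n22555
theorem D28438 : act 5 n22555 = n28438 := rfl
theorem F126536 : act 8 n28438 = n23168 := d37_2 D22555 D28438 (iv D23168) (iv D18192) (iv F79340)
def n28448 : Q := act 7 n22565
theorem D28448 : act 7 n22565 = n28448 := rfl
theorem F126581 : act 3 n28448 = n22566 := d27_1 D28448 (iv D22566) D22565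
theorem F126582 : act 4 n28448 = n22710 := d32_1 D28448 (iv D22710) (iv F100755)
def n28450 : Q := act 8 n22566
theorem D28450 : act 8 n22566 = n28450 := rfl
theorem F126593 : act 7 n28450 = n22567 := d42_1 D28450 (iv D22567) D22566
def n28451 : Q := act 8 n22568
theorem D28451 : act 8 n22568 = n28451 := rfl
theorem F126597 : act 6 n28451 = n22569 := d40_1 D28451 (iv D22569) D22568
def n28453 : Q := act 5 n22571
theorem D28453 : act 5 n22571 = n28453 := rfl
theorem F126606 : act 6 n28453 = n23174 := d35_2 D22571 D28453 (iv D23174) (iv D18200) (iv F79394)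
def n28460 : Q := act 7 n22578
theorem D28460 : act 7 n22578 = n28460 := rfl
theorem F126632 : act 0 n28460 = n22581 := d6_1 D28460 (iv D22581) (iv F100809)
theorem F126636 : act 5 n28460 = n23175 := d36_1 D28460 (iv D23175) (iv F100812)
def n28461 : Q := act 8 n22578
theorem D28461 : act 8 n22578 = n28461 := rfl
theorem F126638 : act 0 n28461 = n22582 := d7_1 D28461 (iv D22582) (iv F100809)
def n28465 : Q := act 6 n22581
theorem D28465 : act 6 n22581 = n28465 := rfl
theorem F126656 : act 4 n28465 = n22583 := d31_1 D28465 (iv D22583) (iv F100824)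
def n28466 : Q := act 8 n22581
theorem D28466 : act 8 n22581 = n28466 := rfl
theorem F126660 : act 4 n28466 = n22584 := d33_1 D28466 (iv D22584) (iv F100824)
def n28467 : Q := act 5 n22582
theorem D28467 : act 5 n22582 = n28467 := rfl
theorem F126664 : act 8 n28467 = n23182 := d37_2 D22582 D28467 (iv D23182) (iv D18205) (iv F79430)
def n28473 : Q := act 5 n22587
theorem D28473 : act 5 n22587 = n28473 := rfl
theorem F126690 : act 8 n28473 = n23188 := d37_2 D22587 D28473 (iv D23188) (iv D18210) (iv F79442)
def n28544 : Q := act 8 n22645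
theorem D28544 : act 8 n22645 = n28544 := rfl
theorem F126976 : act 4 n28544 = n22649 := d33_1 D28544 (iv D22649) (iv F101077)
theorem F126978 : act 7 n28544 = n22695 := d42_1 D28544 (iv D22695) (iv F101078)
def n28552 : Q := act 8 n22653
theorem D28552 : act 8 n22653 = n28552 := rfl
theorem F127009 : act 3 n28552 = n22671 := d28_1 D28552 (iv D22671) (iv F101110)
theorem F127010 : act 4 n28552 = n22656 := d33_1 D28552 (iv D22656) (iv F101111)
def n28569 : Q := act 5 n22666
theorem D28569 : act 5 n22666 = n28569 := rfl
theorem F127082 : act 8 n28569 = n22760 := d37_2 D22666 D28569 (iv D22760) (iv D17793) (iv F79680)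
def n28574 : Q := act 8 n22670
theorem D28574 : act 8 n22670 = n28574 := rfl
theorem F127101 : act 4 n28574 = n22674 := d33_1 D28574 (iv D22674) (iv F101182)
theorem F127102 : act 6 n28574 = n22671 := d40_1 D28574 (iv D22671) D22670
def n28575 : Q := act 5 n22671
theorem D28575 : act 5 n22671 = n28575 := rfl
theorem F127106 : act 8 n28575 = n22766 := d37_2 D22671 D28575 (iv D22766) (iv D17798) (iv F79691)
def n28590 : Q := act 7 n22681
theorem D28590 : act 7 n22681 = n28590 := rfl
theorem F127158 : act 1 n28590 = n22687 := d14_1 D28590 (iv D22687) (iv F101218)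
theorem F127160 : act 5 n28590 = n22775 := d36_1 D28590 (iv D22775) (iv F101219)
def n28597 : Q := act 6 n22687
theorem D28597 : act 6 n22687 = n28597 := rfl
theorem F127184 : act 3 n28597 = n22689 := d26_1 D28597 (iv D22689) (iv F101238)
def n28606 : Q := act 9 n22695
theorem D28606 : act 9 n22695 = n28606 := rfl
theorem F127221 : act 6 n28606 = n22696 := d41_1 D28606 (iv D22696) (iv F101274)
def n28615 : Q := act 7 n22704
theorem D28615 : act 7 n22704 = n28615 := rfl
theorem F127256 : act 4 n28615 = n22842 := d32_1 D28615 F101896 (iv F101307)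
theorem F127257 : act 5 n28615 = n22786 := d36_1 D28615 (iv D22786) (iv F101308)
def n28618 : Q := act 5 n22706
theorem D28618 : act 5 n22706 = n28618 := rfl
theorem F127267 : act 8 n28618 = n22789 := d37_2 D22706 D28618 (iv D22789) (iv D17817) (iv F79790)
def n28623 : Q := act 5 n22711
theorem D28623 : act 5 n22711 = n28623 := rfl
theorem F127286 : act 8 n28623 = n22793 := d37_2 D22711 D28623 (iv D22793) (iv D17821) (iv F79798)
def n28625 : Q := act 5 n22713
theorem D28625 : act 5 n22713 = n28625 := rfl
theorem F127294 : act 8 n28625 = n22795 := d37_2 D22713 D28625 (iv D22795) (iv D17822) (iv F79803)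
def n28662 : Q := act 9 n22743
theorem D28662 : act 9 n22743 = n28662 := rfl
theorem F127422 : act 3 n28662 = n22767 := d29_1 D28662 (iv D22767) (iv F101444)
def n28672 : Q := act 9 n22752
theorem D28672 : act 9 n22752 = n28672 := rfl
theorem F127478 : act 5 n28672 = n22784 := d38_1 D28672 (iv D22784) (iv F101493)
def n28676 : Q := act 9 n22754
theorem D28676 : act 9 n22754 = n28676 := rfl
theorem F127495 : act 4 n28676 = n22757 := d34_1 D28676 (iv D22757) (iv F101501)
def n28677 : Q := act 8 n22755
theorem D28677 : act 8 n22755 = n28677 := rfl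
theorem F127501 : act 6 n28677 = n22756 := d40_1 D28677 (iv D22756) D22755
def n28678 : Q := act 9 n22756
theorem D28678 : act 9 n22756 = n28678 := rfl
theorem F127506 : act 7 n28678 = n22757 := d43_1 D28678 (iv D22757) (iv F101511)
def n28684 : Q := act 9 n22760
theorem D28684 : act 9 n22760 = n28684 := rfl
theorem F127539 : act 4 n28684 = n22798 := d34_1 D28684 (iv D22798) (iv F101531)
def n28685 : Q := act 9 n22762
theorem D28685 : act 9 n22762 = n28685 := rfl
theorem F127545 : act 6 n28685 = n22763 := d41_1 D28685 (iv D22763) (iv F101542)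
def n28688 : Q := act 9 n22765
theorem D28688 : act 9 n22765 = n28688 := rfl
theorem F127556 : act 6 n28688 = n22767 := d41_1 D28688 (iv D22767) (iv F101556)
def n28690 : Q := act 9 n22766
theorem D28690 : act 9 n22766 = n28690 := rfl
theorem F127562 : act 4 n28690 = n22800 := d34_1 D28690 (iv D22800) (iv F101559)
def n28698 : Q := act 6 n22775
theorem D28698 : act 6 n22775 = n28698 := rfl
theorem F127598 : act 3 n28698 = n22776 := d26_1 D28698 (iv D22776) (iv F101600)
def n28707 : Q := act 9 n22782
theorem D28707 : act 9 n22782 = n28707 := rfl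
theorem F127648 : act 8 n28707 = n22971 := d44_1 D28707 (iv D22971) (iv D18002) (iv F80057) D22782
def n28710 : Q := act 8 n22785
theorem D28710 : act 8 n22785 = n28710 := rfl
theorem F127667 : act 9 n28710 = n23302 := d44_2 (iv F101655) D28710 (iv D23302) (iv D18340) (iv F80313)
def n28711 : Q := act 8 n22786
theorem D28711 : act 8 n22786 = n28711 := rfl
theorem F127672 : act 7 n28711 = n22787 := d42_1 D28711 (iv D22787) D22786
def n28713 : Q := act 9 n22787
theorem D28713 : act 9 n22787 = n28713 := rfl
theorem F127681 : act 6 n28713 = n22810 := d41_1 D28713 (iv D22810) (iv F101664)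
def n28715 : Q := act 9 n22788
theorem D28715 : act 9 n22788 = n28715 := rfl
theorem F127688 : act 7 n28715 = n22790 := d43_1 D28715 (iv D22790) (iv F101668)
def n28717 : Q := act 9 n22789
theorem D28717 : act 9 n22789 = n28717 := rfl
theorem F127693 : act 5 n28717 = n22790 := d38_1 D28717 (iv D22790) D22789
def n28719 : Q := act 9 n22792
theorem D28719 : act 9 n22792 = n28719 := rfl
theorem F127704 : act 7 n28719 = n22794 := d43_1 D28719 (iv D22794) (iv F101684)
def n28721 : Q := act 9 n22793
theorem D28721 : act 9 n22793 = n28721 := rfl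
theorem F127715 : act 5 n28721 = n22794 := d38_1 D28721 (iv D22794) D22793
def n28723 : Q := act 9 n22795
theorem D28723 : act 9 n22795 = n28723 := rfl
theorem F127722 : act 7 n28723 = n22798 := d43_1 D28723 (iv D22798) (iv F101697)
def n28762 : Q := act 8 n22836
theorem D28762 : act 8 n22836 = n28762 := rfl
theorem F127897 : act 3 n28762 = n22896 := d28_1 D28762 (iv F119891) F119888
theorem F127899 : act 6 n28762 = n22837 := d40_1 D28762 (iv D22837) D22836
def n28772 : Q := act 5 n22852
theorem D28772 : act 5 n22852 = n28772 := rfl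
theorem F127948 : act 6 n28772 = n23306 := d35_2 D22852 D28772 (iv D23306) (iv D18346) (iv F80344)
def n28777 : Q := act 7 n22857
theorem D28777 : act 7 n22857 = n28777 := rfl
theorem F127968 : act 4 n28777 = n22858 := d32_1 D28777 (iv D22858) D22857
theorem F127969 : act 5 n28777 = n23310 := d36_1 D28777 (iv D23310) (iv F101957)
def n28796 : Q := act 9 n22879
theorem D28796 : act 9 n22879 = n28796 := rfl
theorem F128037 : act 4 n28796 = n22880 := d34_1 D28796 (iv D22880) D22879
def n28802 : Q := act 8 n22890
theorem D28802 : act 8 n22890 = n28802 := rfl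
theorem F128066 : act 9 n28802 = n23345 := d44_2 D22890 D28802 (iv D23345) (iv D18387) (iv F80460)
def n28805 : Q := act 5 n22896
theorem D28805 : act 5 n22896 = n28805 := rfl
theorem F128080 : act 6 n28805 = n23349 := d35_2 D22896 D28805 (iv D23349) (iv D18394) (iv F80500)
def n28806 : Q := act 5 n22897
theorem D28806 : act 5 n22897 = n28806 := rfl
theorem F128087 : act 8 n28806 = n22923 := d37_2 D22897 D28806 (iv D22923) (iv D17948) (iv F80504)
def n28813 : Q := act 8 n22906
theorem D28813 : act 8 n22906 = n28813 := rfl
theorem F128116 : act 0 n28813 = n22912 := d7_1 D28813 (iv D22912) (iv F102144)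
def n28818 : Q := act 8 n22911
theorem D28818 : act 8 n22911 = n28818 := rfl
theorem F128140 : act 4 n28818 = n22915 := d33_1 D28818 (iv D22915) (iv F102167)
theorem F128142 : act 6 n28818 = n22912 := d40_1 D28818 (iv D22912) D22911
def n28819 : Q := act 5 n22912
theorem D28819 : act 5 n22912 = n28819 := rfl
theorem F128148 : act 8 n28819 = n23359 := d37_2 D22912 D28819 (iv D23359) (iv D18406) (iv F80554)
def n28820 : Q := act 9 n22912
theorem D28820 : act 9 n22912 = n28820 := rfl
theorem F128151 : act 4 n28820 = n22916 := d34_1 D28820 (iv D22916) (iv F102170)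
def n28827 : Q := act 8 n22922
theorem D28827 : act 8 n22922 = n28827 := rfl
theorem F128191 : act 9 n28827 = n23368 := d44_2 D22922 D28827 (iv D23368) (iv D18416) (iv F80580)
def n28828 : Q := act 9 n22923
theorem D28828 : act 9 n22923 = n28828 := rfl
theorem F128196 : act 5 n28828 = n22924 := d38_1 D28828 (iv D22924) D22923
def n28829 : Q := act 8 n22926
theorem D28829 : act 8 n22926 = n28829 := rfl
theorem F128203 : act 9 n28829 = n23370 := d44_2 D22926 D28829 (iv D23370) (iv D18420) (iv F80608)
def n28841 : Q := act 8 n22944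
theorem D28841 : act 8 n22944 = n28841 := rfl
theorem F128265 : act 9 n28841 = n22983 := d44_2 D22944 D28841 (iv D22983) (iv D18016) (iv F80704)
def n28844 : Q := act 4 n22947
theorem D28844 : act 4 n22947 = n28844 := rfl
theorem F128276 : act 5 n28844 = n22952 := d30_2 D22947 D28844 (iv D22952) (iv D17983) (iv F80717)
def n28845 : Q := act 6 n22947
theorem D28845 : act 6 n22947 = n28845 := rfl
theorem F128280 : act 5 n28845 = n22949 := d35_1 D28845 (iv D22949) (iv D17980) (iv F80718) D22947
def n28848 : Q := act 8 n22950
theorem D28848 : act 8 n22950 = n28848 := rfl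
theorem F128295 : act 9 n28848 = n22985 := d44_2 D22950 D28848 (iv D22985) (iv D18018) (iv F80723)
def n28866 : Q := act 9 n22970
theorem D28866 : act 9 n22970 = n28866 := rfl
theorem F128368 : act 7 n28866 = n22971 := d43_1 D28866 (iv D22971) (iv F102429)
def n28867 : Q := act 9 n22973
theorem D28867 : act 9 n22973 = n28867 := rfl
theorem F128376 : act 7 n28867 = n22974 := d43_1 D28867 (iv D22974) (iv F102449)
def n28869 : Q := act 9 n22975
theorem D28869 : act 9 n22975 = n28869 := rfl
theorem F128386 : act 3 n28869 = n23297 := d29_1 D28869 (iv D23297) (iv F102459)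
def n28871 : Q := act 6 n22978
theorem D28871 : act 6 n22978 = n28871 := rfl
theorem F128399 : act 3 n28871 = n22981 := d26_1 D28871 (iv D22981) (iv F102476)
theorem F128400 : act 4 n28871 = n23292 := d31_1 D28871 F104111 (iv F102477)
def n28872 : Q := act 9 n22978
theorem D28872 : act 9 n22978 = n28872 := rfl
theorem F128407 : act 3 n28872 = n22982 := d29_1 D28872 (iv D22982) (iv F102476)
theorem F128408 : act 4 n28872 = n23293 := d34_1 D28872 (iv D23293) (iv F102477)
def n28873 : Q := act 8 n22980
theorem D28873 : act 8 n22980 = n28873 := rfl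
theorem F128417 : act 9 n28873 = n23048 := d44_2 D22980 D28873 (iv D23048) F81307 (iv F80861)
def n28879 : Q := act 9 n22989
theorem D28879 : act 9 n22989 = n28879 := rfl
theorem F128454 : act 6 n28879 = n22990 := d41_1 D28879 (iv D22990) (iv F102545)
def n28888 : Q := act 8 n23007
theorem D28888 : act 8 n23007 = n28888 := rfl
theorem F128523 : act 9 n28888 = n23422 := d44_2 D23007 D28888 (iv D23422) (iv D18511) (iv F81078)
def n28904 : Q := act 8 n23022
theorem D28904 : act 8 n23022 = n28904 := rfl
theorem F128608 : act 5 n28904 = n23038 := d37_1 D28904 (iv D23038) F81260 (iv F81191) (iv F102752)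
def n28909 : Q := act 9 n23026
theorem D28909 : act 9 n23026 = n28909 := rfl
theorem F128634 : act 5 n28909 = n23045 := d38_1 D28909 (iv D23045) (iv F102772)
def n28914 : Q := act 8 n23032
theorem D28914 : act 8 n23032 = n28914 := rfl
theorem F128656 : act 1 n28914 = n23038 := d15_1 D28914 (iv D23038) (iv F102805)
def n28922 : Q := act 8 n23037
theorem D28922 : act 8 n23037 = n28922 := rfl
theorem F128692 : act 2 n28922 = n23044 := d22_1 D28922 (iv D23044) (iv F102828)
def n28923 : Q := act 9 n23038
theorem D28923 : act 9 n23038 = n28923 := rfl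
theorem F128698 : act 2 n28923 = n23045 := d23_1 D28923 (iv D23045) (iv F102833)
def n28927 : Q := act 9 n23041
theorem D28927 : act 9 n23041 = n28927 := rfl
theorem F128722 : act 8 n28927 = n23285 := d44_1 D28927 (iv D23285) (iv D18319) (iv F81270) D23041
def n28930 : Q := act 9 n23044
theorem D28930 : act 9 n23044 = n28930 := rfl
theorem F128733 : act 3 n28930 = n23046 := d29_1 D28930 (iv D23046) (iv F102863)
theorem F128735 : act 6 n28930 = n23045 := d41_1 D28930 (iv D23045) (iv F102865)
def n28957 : Q := act 8 n23068
theorem D28957 : act 8 n23068 = n28957 := rfl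
theorem F128867 : act 5 n28957 = n23305 := d37_1 D28957 (iv D23305) F82580 (iv F81389) (iv F102989)
def n28960 : Q := act 8 n23070
theorem D28960 : act 8 n23070 = n28960 := rfl
theorem F128886 : act 6 n28960 = n23080 := d40_1 D28960 (iv D23080) (iv F103001)
def n28967 : Q := act 7 n23076
theorem D28967 : act 7 n23076 = n28967 := rfl
theorem F128916 : act 0 n28967 = n23079 := d6_1 D28967 (iv D23079) (iv F103031)
theorem F128919 : act 5 n28967 = n23077 := d36_1 D28967 (iv D23077) D23076
def n28968 : Q := act 8 n23076
theorem D28968 : act 8 n23076 = n28968 := rfl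
theorem F128925 : act 5 n28968 = n23094 := d37_1 D28968 (iv D23094) (iv D18132) (iv F81443) D23076
def n28971 : Q := act 8 n23078
theorem D28971 : act 8 n23078 = n28971 := rfl
theorem F128936 : act 4 n28971 = n23080 := d33_1 D28971 (iv D23080) D23078
def n28972 : Q := act 8 n23079
theorem D28972 : act 8 n23079 = n28972 := rfl
theorem F128940 : act 5 n28972 = n23099 := d37_1 D28972 (iv D23099) F81525 (iv F81452) (iv F103046)
def n28973 : Q := act 9 n23080
theorem D28973 : act 9 n23080 = n28973 := rfl
theorem F128946 : act 5 n28973 = n23100 := d38_1 D28973 (iv D23100) (iv F103052)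
def n28979 : Q := act 9 n23084
theorem D28979 : act 9 n23084 = n28979 := rfl
theorem F128967 : act 5 n28979 = n23108 := d38_1 D28979 (iv D23108) (iv F103064)
def n28981 : Q := act 9 n23086
theorem D28981 : act 9 n23086 = n28981 := rfl
theorem F128977 : act 4 n28981 = n23089 := d34_1 D28981 (iv D23089) (iv F103073)
def n28987 : Q := act 8 n23092
theorem D28987 : act 8 n23092 = n28987 := rfl
theorem F129002 : act 0 n28987 = n23097 := d7_1 D28987 (iv D23097) (iv F103101)
def n28988 : Q := act 8 n23093
theorem D28988 : act 8 n23093 = n28988 := rfl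
theorem F129006 : act 0 n28988 = n23099 := d7_1 D28988 (iv D23099) (iv F103105)
def n28989 : Q := act 9 n23094
theorem D28989 : act 9 n23094 = n28989 := rfl
theorem F129010 : act 0 n28989 = n23100 := d8_1 D28989 (iv D23100) (iv F103110)
def n28993 : Q := act 8 n23096
theorem D28993 : act 8 n23096 = n28993 := rfl
theorem F129030 : act 1 n28993 = n23104 := d15_1 D28993 (iv D23104) (iv F103119)
theorem F129033 : act 7 n28993 = n23097 := d42_1 D28993 (iv D23097) D23096
def n28996 : Q := act 8 n23098
theorem D28996 : act 8 n23098 = n28996 := rfl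
theorem F129041 : act 1 n28996 = n23107 := d15_1 D28996 (iv D23107) (iv F103127)
def n28997 : Q := act 9 n23099
theorem D28997 : act 9 n23099 = n28997 := rfl
theorem F129047 : act 1 n28997 = n23108 := d16_1 D28997 (iv D23108) (iv F103132)
theorem F129050 : act 7 n28997 = n23100 := d43_1 D28997 (iv D23100) (iv F103135)
def n29005 : Q := act 9 n23104
theorem D29005 : act 9 n23104 = n29005 := rfl
theorem F129077 : act 2 n29005 = n23112 := d23_1 D29005 (iv D23112) (iv F103153)
def n29008 : Q := act 9 n23107
theorem D29008 : act 9 n23107 = n29008 := rfl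
theorem F129085 : act 2 n29008 = n23115 := d23_1 D29008 (iv D23115) (iv F103161)
theorem F129088 : act 6 n29008 = n23108 := d41_1 D29008 (iv D23108) (iv F103164)
def n29011 : Q := act 9 n23110
theorem D29011 : act 9 n23110 = n29011 := rfl
theorem F129100 : act 3 n29011 = n23130 := d29_1 D29011 (iv D23130) (iv F103175)
theorem F129102 : act 6 n29011 = n23112 := d41_1 D29011 (iv D23112) (iv F103177)
def n29013 : Q := act 9 n23111
theorem D29013 : act 9 n23111 = n29013 := rfl
theorem F129109 : act 5 n29013 = n23112 := d38_1 D29013 (iv D23112) D23111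
def n29044 : Q := act 8 n23137
theorem D29044 : act 8 n23137 = n29044 := rfl
theorem F129231 : act 5 n29044 = n23347 := d37_1 D29044 (iv D23347) F82782 (iv F81650) (iv F103288)
def n29049 : Q := act 8 n23145
theorem D29049 : act 8 n23145 = n29049 := rfl
theorem F129257 : act 6 n29049 = n23156 := d40_1 D29049 (iv D23156) (iv F103331)
def n29053 : Q := act 9 n23149
theorem D29053 : act 9 n23149 = n29053 := rfl
theorem F129279 : act 6 n29053 = n23166 := d41_1 D29053 (iv D23166) (iv F103352)
def n29056 : Q := act 7 n23154
theorem D29056 : act 7 n23154 = n29056 := rfl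
theorem F129294 : act 0 n29056 = n23158 := d6_1 D29056 (iv D23158) (iv F103378)
theorem F129296 : act 4 n29056 = n23155 := d32_1 D29056 (iv D23155) D23154
def n29058 : Q := act 8 n23155
theorem D29058 : act 8 n23155 = n29058 := rfl
theorem F129305 : act 5 n29058 = n23178 := d37_1 D29058 (iv D23178) F81836 (iv F81747) (iv F103384)
def n29059 : Q := act 9 n23156
theorem D29059 : act 9 n23156 = n29059 := rfl
theorem F129311 : act 5 n29059 = n23179 := d38_1 D29059 (iv D23179) (iv F103390)
def n29063 : Q := act 8 n23158
theorem D29063 : act 8 n23158 = n29063 := rfl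
theorem F129325 : act 4 n29063 = n23160 := d33_1 D29063 (iv D23160) (iv F103395)
def n29066 : Q := act 9 n23160
theorem D29066 : act 9 n23160 = n29066 := rfl
theorem F129335 : act 5 n29066 = n23185 := d38_1 D29066 (iv D23185) (iv F103402)
theorem F129337 : act 7 n29066 = n23161 := d43_1 D29066 (iv D23161) (iv F103404)
def n29067 : Q := act 8 n23162
theorem D29067 : act 8 n23162 = n29067 := rfl
theorem F129341 : act 3 n29067 = n23164 := d28_1 D29067 (iv D23164) (iv F103411)
def n29068 : Q := act 9 n23163
theorem D29068 : act 9 n23163 = n29068 := rfl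
theorem F129347 : act 3 n29068 = n23166 := d29_1 D29068 (iv D23166) (iv F103417)
def n29070 : Q := act 9 n23164
theorem D29070 : act 9 n23164 = n29070 := rfl
theorem F129358 : act 4 n29070 = n23167 := d34_1 D29070 (iv D23167) (iv F103421)
theorem F129360 : act 7 n29070 = n23166 := d43_1 D29070 (iv D23166) (iv F103423)
def n29071 : Q := act 9 n23165
theorem D29071 : act 9 n23165 = n29071 := rfl
theorem F129365 : act 4 n29071 = n23191 := d34_1 D29071 (iv D23191) (iv F103426)
def n29073 : Q := act 9 n23168
theorem D29073 : act 9 n23168 = n29073 := rfl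
theorem F129375 : act 4 n29073 = n23197 := d34_1 D29073 (iv D23197) (iv F103440)
def n29079 : Q := act 6 n23175
theorem D29079 : act 6 n23175 = n29079 := rfl
theorem F129406 : act 0 n29079 = n23180 := d5_1 D29079 (iv D23180) (iv F103472)
theorem F129411 : act 9 n29079 = n23351 := d41_2 (iv F103476) D29079 (iv D23351)
def n29080 : Q := act 8 n23175
theorem D29080 : act 8 n23175 = n29080 := rfl
theorem F129412 : act 0 n29080 = n23181 := d7_1 D29080 (iv D23181) (iv F103472)
def n29082 : Q := act 9 n23176
theorem D29082 : act 9 n23176 = n29082 := rfl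
theorem F129420 : act 0 n29082 = n23183 := d8_1 D29082 (iv D23183) (iv F103477)
def n29083 : Q := act 8 n23177
theorem D29083 : act 8 n23177 = n29083 := rfl
theorem F129426 : act 0 n29083 = n23184 := d7_1 D29083 (iv D23184) (iv F103482)
def n29084 : Q := act 9 n23178
theorem D29084 : act 9 n23178 = n29084 := rfl
theorem F129432 : act 0 n29084 = n23185 := d8_1 D29084 (iv D23185) (iv F103487)
theorem F129435 : act 7 n29084 = n23179 := d43_1 D29084 (iv D23179) (iv F103490)
def n29086 : Q := act 8 n23180
theorem D29086 : act 8 n23180 = n29086 := rfl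
theorem F129441 : act 1 n29086 = n23187 := d15_1 D29086 (iv D23187) (iv F103496)
def n29088 : Q := act 9 n23181
theorem D29088 : act 9 n23181 = n29088 := rfl
theorem F129449 : act 1 n29088 = n23189 := d16_1 D29088 (iv D23189) (iv F103501)
theorem F129452 : act 7 n29088 = n23183 := d43_1 D29088 (iv D23183) (iv F103504)
def n29090 : Q := act 9 n23182
theorem D29090 : act 9 n23182 = n29090 := rfl
theorem F129459 : act 5 n29090 = n23183 := d38_1 D29090 (iv D23183) D23182
def n29091 : Q := act 9 n23184
theorem D29091 : act 9 n23184 = n29091 := rfl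
theorem F129460 : act 1 n29091 = n23192 := d16_1 D29091 (iv D23192) (iv F103512)
theorem F129463 : act 6 n29091 = n23185 := d41_1 D29091 (iv D23185) (iv F103515)
def n29094 : Q := act 9 n23187
theorem D29094 : act 9 n23187 = n29094 := rfl
theorem F129477 : act 2 n29094 = n23195 := d23_1 D29094 (iv D23195) (iv F103527)
theorem F129480 : act 6 n29094 = n23189 := d41_1 D29094 (iv D23189) (iv F103530)
def n29096 : Q := act 9 n23188
theorem D29096 : act 9 n23188 = n29096 := rfl
theorem F129489 : act 5 n29096 = n23189 := d38_1 D29096 (iv D23189) D23188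
theorem F129490 : act 7 n29096 = n23191 := d43_1 D29096 (iv D23191) (iv F103535)
def n29130 : Q := act 9 n23224
theorem D29130 : act 9 n23224 = n29130 := rfl
theorem F129675 : act 5 n29130 = n23239 := d38_1 D29130 (iv D23239) (iv F103712)
theorem F129677 : act 7 n29130 = n23225 := d43_1 D29130 (iv D23225) (iv F103714)
def n29133 : Q := act 8 n23227
theorem D29133 : act 8 n23227 = n29133 := rfl
theorem F129690 : act 3 n29133 = n23229 := d28_1 D29133 (iv D23229) (iv F103725)
def n29135 : Q := act 9 n23229
theorem D29135 : act 9 n23229 = n29135 := rfl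
theorem F129700 : act 4 n29135 = n23231 := d34_1 D29135 (iv D23231) (iv F103734)
def n29136 : Q := act 9 n23232
theorem D29136 : act 9 n23232 = n29136 := rfl
theorem F129707 : act 3 n29136 = n23234 := d29_1 D29136 (iv D23234) (iv F103751)
def n29137 : Q := act 9 n23238
theorem D29137 : act 9 n23238 = n29137 := rfl
theorem F129712 : act 0 n29137 = n23240 := d8_1 D29137 (iv D23240) (iv F103788)
theorem F129717 : act 6 n29137 = n23239 := d41_1 D29137 (iv D23239) (iv F103793)
def n29140 : Q := act 9 n23243
theorem D29140 : act 9 n23243 = n29140 := rfl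
theorem F129740 : act 7 n29140 = n23244 := d43_1 D29140 (iv D23244) (iv F103827)
def n29146 : Q := act 9 n23253
theorem D29146 : act 9 n23253 = n29146 := rfl
theorem F129781 : act 7 n29146 = n23254 := d43_1 D29146 (iv D23254) (iv F103889)
def n29147 : Q := act 9 n23256
theorem D29147 : act 9 n23256 = n29147 := rfl
theorem F129789 : act 7 n29147 = n23257 := d43_1 D29147 (iv D23257) (iv F103908)
def n29150 : Q := act 8 n23262
theorem D29150 : act 8 n23262 = n29150 := rfl
theorem F129810 : act 5 n29150 = n23397 := d37_1 D29150 (iv D23397) F83258 (iv F82354) (iv F103947)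
def n29154 : Q := act 8 n23266
theorem D29154 : act 8 n23266 = n29154 := rfl
theorem F129836 : act 5 n29154 = n23398 := d37_1 D29154 (iv D23398) F83273 (iv F82367) (iv F103970)
def n29158 : Q := act 9 n23274
theorem D29158 : act 9 n23274 = n29158 := rfl
theorem F129863 : act 1 n29158 = n23281 := d16_1 D29158 (iv D23281) (iv F104013)
def n29160 : Q := act 8 n23277
theorem D29160 : act 8 n23277 = n29160 := rfl
theorem F129874 : act 2 n29160 = n23283 := d22_1 D29160 (iv D23283) (iv F104028)
def n29161 : Q := act 9 n23278
theorem D29161 : act 9 n23278 = n29161 := rfl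
theorem F129880 : act 2 n29161 = n23285 := d23_1 D29161 (iv D23285) (iv F104032)
def n29162 : Q := act 9 n23280
theorem D29162 : act 9 n23280 = n29162 := rfl
theorem F129884 : act 2 n29162 = n23288 := d23_1 D29162 (iv D23288) (iv F104040)
theorem F129886 : act 6 n29162 = n23281 := d41_1 D29162 (iv D23281) (iv F104042)
def n29163 : Q := act 9 n23283
theorem D29163 : act 9 n23283 = n29163 := rfl
theorem F129890 : act 3 n29163 = n23300 := d29_1 D29163 (iv D23300) (iv F104056)
theorem F129893 : act 6 n29163 = n23285 := d41_1 D29163 (iv D23285) (iv F104059)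
def n29166 : Q := act 9 n23287
theorem D29166 : act 9 n23287 = n29166 := rfl
theorem F129908 : act 3 n29166 = n23290 := d29_1 D29166 (iv D23290) (iv F104079)
def n29167 : Q := act 9 n23289
theorem D29167 : act 9 n23289 = n29167 := rfl
theorem F129918 : act 4 n29167 = n23290 := d34_1 D29167 (iv D23290) D23289
theorem F129919 : act 5 n29167 = n23304 := d38_1 D29167 (iv D23304) (iv F104092)
def n29170 : Q := act 9 n23292
theorem D29170 : act 9 n23292 = n29170 := rfl
theorem F129938 : act 1 n29170 = n23299 := d16_1 D29170 (iv D23299) (iv F104108)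
theorem F129941 : act 6 n29170 = n23293 := d41_1 D29170 (iv D23293) (iv F104111)
def n29172 : Q := act 9 n23296
theorem D29172 : act 9 n23296 = n29172 := rfl
theorem F129949 : act 4 n29172 = n23299 := d34_1 D29172 (iv D23299) (iv F104130)
theorem F129951 : act 6 n29172 = n23297 := d41_1 D29172 (iv D23297) (iv F104132)
def n29173 : Q := act 9 n23298
theorem D29173 : act 9 n23298 = n29173 := rfl
theorem F129954 : act 2 n29173 = n23303 := d23_1 D29173 (iv D23303) (iv F104139)
theorem F129957 : act 5 n29173 = n23299 := d38_1 D29173 (iv D23299) D23298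
def n29175 : Q := act 8 n23303
theorem D29175 : act 8 n23303 = n29175 := rfl
theorem F129969 : act 6 n29175 = n23418 := d40_1 D29175 (iv D23418) (iv F104170)
def n29176 : Q := act 8 n23304
theorem D29176 : act 8 n23304 = n29176 := rfl
theorem F129978 : act 6 n29176 = n23419 := d40_1 D29176 (iv D23419) (iv F104177)
def n29178 : Q := act 8 n23310
theorem D29178 : act 8 n23310 = n29178 := rfl
theorem F129985 : act 0 n29178 = n23317 := d7_1 D29178 (iv D23317) (iv F104209)
def n29179 : Q := act 9 n23311
theorem D29179 : act 9 n23311 = n29179 := rfl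
theorem F129989 : act 0 n29179 = n23319 := d8_1 D29179 (iv D23319) (iv F104212)
def n29180 : Q := act 9 n23312
theorem D29180 : act 9 n23312 = n29180 := rfl
theorem F129993 : act 0 n29180 = n23321 := d8_1 D29180 (iv D23321) (iv F104216)
theorem F129997 : act 7 n29180 = n23313 := d43_1 D29180 (iv D23313) (iv F104220)
def n29184 : Q := act 8 n23316
theorem D29184 : act 8 n23316 = n29184 := rfl
theorem F130013 : act 1 n29184 = n23326 := d15_1 D29184 (iv D23326) (iv F104235)
def n29186 : Q := act 9 n23317
theorem D29186 : act 9 n23317 = n29186 := rfl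
theorem F130024 : act 1 n29186 = n23328 := d16_1 D29186 (iv D23328) (iv F104239)
theorem F130027 : act 7 n29186 = n23319 := d43_1 D29186 (iv D23319) (iv F104242)
def n29188 : Q := act 9 n23320
theorem D29188 : act 9 n23320 = n29188 := rfl
theorem F130032 : act 1 n29188 = n23331 := d16_1 D29188 (iv D23331) (iv F104250)
theorem F130035 : act 6 n29188 = n23321 := d41_1 D29188 (iv D23321) (iv F104253)
def n29191 : Q := act 9 n23323
theorem D29191 : act 9 n23323 = n29191 := rfl
theorem F130047 : act 2 n29191 = n23340 := d23_1 D29191 (iv D23340) (iv F104264)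
def n29192 : Q := act 9 n23326
theorem D29192 : act 9 n23326 = n29192 := rfl
theorem F130051 : act 2 n29192 = n23332 := d23_1 D29192 (iv D23332) (iv F104275)
theorem F130054 : act 6 n29192 = n23328 := d41_1 D29192 (iv D23328) (iv F104278)
def n29193 : Q := act 9 n23327
theorem D29193 : act 9 n23327 = n29193 := rfl
theorem F130058 : act 5 n29193 = n23328 := d38_1 D29193 (iv D23328) D23327
def n29195 : Q := act 9 n23330
theorem D29195 : act 9 n23330 = n29195 := rfl
theorem F130063 : act 2 n29195 = n23336 := d23_1 D29195 (iv D23336) (iv F104290)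
def n29199 : Q := act 9 n23339
theorem D29199 : act 9 n23339 = n29199 := rfl
theorem F130086 : act 3 n29199 = n23341 := d29_1 D29199 (iv D23341) (iv F104340)
theorem F130089 : act 6 n29199 = n23340 := d41_1 D29199 (iv D23340) (iv F104343)
def n29201 : Q := act 8 n23344
theorem D29201 : act 8 n23344 = n29201 := rfl
theorem F130097 : act 2 n29201 = n23347 := d22_1 D29201 (iv D23347) (iv F104365)
theorem F130100 : act 6 n29201 = n23423 := d40_1 D29201 (iv D23423) (iv F104369)
theorem E1200 : n23419 = n23405 := ((c45_40 F104747 F104748 F104749 F83701 (iv F83696) (iv F104869) F104870 F104864 F104865 F83515 (iv F83532) (iv F104369) F104370 D29201 F130097 F104380 (iv F104388) F104389 F104390 F83553 (iv D14557) F52442 F52443 F52444 F41673 F33311 F26767 F21664 F21661 (iv F26756) (iv F33294) (iv F41655) (iv F52429) F52430 D14555 (iv F83717) (iv F104693) F104694 F83355 (iv F104758) F104854 (iv D18537) F66275 F66276 F66277 F52351 F41587 F33250 F26725 F26722 (iv F33237) (iv F41566) (iv F52329) (iv F66259) F66260 D18535 (iv F104700) F104701 F83293 F65764 (iv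 F83367) (iv F104764) (iv D23406) (iv F104745))).symm
theorem E1201 : n18517 = n18486 := (((F104753).symm.trans (sb E1200 F104849))).symm
theorem E1202 : n18541 = n18506 := ((F104757).symm.trans (sb E1200 F104853))
theorem E1203 : n29176 = n18484 := (((F104758).symm.trans (sb E1200 (iv F129978)))).symm
theorem E1205 : n14518 = n14469 := (((F83364).symm.trans (sb E1201 F83549))).symm
theorem E1206 : n23400 = n14514 := (((iv F104718)).symm.trans (sb E1201 F83552))
theorem E1208 : n23348 = n14467 := (((F83367).symm.trans (sb E1201 (iv F104390)))).symm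
theorem E1211 : n23418 = n14552 := (((iv F104844)).symm.trans (sb E1202 F83706))
theorem E1212 : n23397 = n23305 := ((((iv F104182)).symm.trans (sb E1202 (iv F104695)))).symm
theorem E1214 : n14548 = n14497 := ((((iv D18506)).symm.trans (sb E1202 (iv D18541)))).symm
theorem E1215 : n23304 = n14464 := ((((iv D18484)).symm.trans (sb E1203 (iv D29176)))).symm
theorem E1218 : n11325 = n11279 := (((F65774).symm.trans (sb E1205 F66137))).symm
theorem E1219 : n18480 = n11323 := (((iv F83324)).symm.trans (sb E1205 F66139))
theorem E1221 : n18428 = n11277 := (((F65776).symm.trans (sb E1205 (iv F82986)))).symm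
theorem E1224 : n18532 = n18516 := ((((iv F83544)).symm.trans (sb E1206 F104717))).symm
theorem E1225 : n18475 = n18392 := ((((iv F82793)).symm.trans (sb E1206 F104720))).symm
theorem E1226 : n18474 = n11316 := ((((iv D14514)).symm.trans (sb E1206 (iv D23400)))).symm
theorem E1227 : n18391 = n11274 := ((((iv D14467)).symm.trans (sb E1208 (iv D23348)))).symm
theorem E1230 : n29175 = n18543 := ((((iv F83719)).symm.trans (sb E1211 (iv F129969)))).symm
theorem E1232 : n18504 = n11359 := ((((iv D14552)).symm.trans (sb E1211 (iv D23418)))).symm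
theorem E1233 : n29150 = n28957 := ((((iv F128867)).symm.trans (sb E1212 (iv F129810)))).symm
theorem E1234 : n18470 = n18344 := ((((iv D23305)).symm.trans (sb E1212 (iv D23397)))).symm
theorem E1236 : n11353 = n11298 := (((F65930).symm.trans (sb E1214 F66313))).symm
theorem E1238 : n29167 = n11272 := (((F65748).symm.trans (sb E1215 (iv F129919)))).symm
theorem E1241 : n14519 = n8835 := (((F51985).symm.trans (sb E1218 (iv F66145)))).symm
theorem E1242 : n14462 = n8874 := (((iv F65734)).symm.trans (sb E1218 F52221))
theorem E1244 : n14423 = n8833 := (((F51986).symm.trans (sb E1218 (iv F65553)))).symm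
theorem E1247 : n23402 = n14517 := ((((iv F66131)).symm.trans (sb E1219 (iv F104733)))).symm
theorem E1248 : n14460 = n14391 := ((((iv F65378)).symm.trans (sb E1219 F83326))).symm
theorem E1250 : n14459 = n8871 := ((((iv D11323)).symm.trans (sb E1219 (iv D18480)))).symm
theorem E1252 : n14390 = n8830 := ((((iv D11277)).symm.trans (sb E1221 (iv D18428)))).symm
theorem E1255 : n23423 = n14540 := (((iv F104877)).symm.trans (sb E1224 F83645))
theorem E1256 : n23398 = n23347 := ((((iv F104382)).symm.trans (sb E1224 (iv F104703)))).symm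
theorem E1258 : n14534 = n14512 := ((((iv D18516)).symm.trans (sb E1224 (iv D18532)))).symm
theorem E1259 : n23267 = n23138 := ((((iv F103294)).symm.trans (sb E1225 (iv F103976)))).symm
theorem E1260 : n14455 = n14345 := ((((iv D18392)).symm.trans (sb E1225 (iv D18475)))).symm
theorem E1261 : n14529 = n8861 := (((F52169).symm.trans (sb E1226 F83289))).symm
theorem E1264 : n23337 = n8828 := (((F51958).symm.trans (sb E1227 (iv F104331)))).symm
theorem E1267 : n23303 = n14551 := ((((iv D18543)).symm.trans (sb E1230 (iv D29175)))).symm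
theorem E1270 : n23416 = n8905 := (((F52400).symm.trans (sb E1232 (iv F104831)))).symm
theorem E1271 : n14495 = n8897 := (((F52402).symm.trans (sb E1232 F83479))).symm
theorem E1273 : n23262 = n23068 := ((((iv D28957)).symm.trans (sb E1233 (iv D29150)))).symm
theorem E1274 : n14450 = n14297 := (((F82580).symm.trans (sb E1234 F83258))).symm
theorem E1278 : n14500 = n8847 := (((F52084).symm.trans (sb E1236 (iv F66044)))).symm
theorem E1280 : n23290 = n8826 := (((F51946).symm.trans (sb E1238 F129918))).symm
theorem E1283 : n18450 = n6973 := (((F41304).symm.trans (sb E1241 (iv F83124)))).symm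
theorem E1286 : n11270 = n11238 := ((((iv F51787)).symm.trans (sb E1242 F65736))).symm
theorem E1287 : n18481 = n7041 := (((F41502).symm.trans (sb E1242 (iv F83334)))).symm
theorem E1288 : n11269 = n7002 := ((((iv D8874)).symm.trans (sb E1242 (iv D14462)))).symm
theorem E1290 : n11237 = n6970 := ((((iv D8833)).symm.trans (sb E1244 (iv D14423)))).symm
theorem E1293 : n18478 = n18427 := ((((iv F82978)).symm.trans (sb E1247 F104736))).symm
theorem E1294 : n18477 = n11321 := ((((iv D14517)).symm.trans (sb E1247 (iv D23402)))).symm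
theorem E1295 : n18305 = n18232 := ((((iv F81971)).symm.trans (sb E1248 (iv F82389)))).symm
theorem E1296 : n11267 = n11209 := ((((iv D14391)).symm.trans (sb E1248 (iv D14460)))).symm
theorem E1298 : n18465 = n7000 := (((F41484).symm.trans (sb E1250 (iv F83223)))).symm
theorem E1300 : n18424 = n6968 := (((F41274).symm.trans (sb E1252 (iv F82960)))).symm
theorem E1303 : n29201 = n18535 := ((((iv F83667)).symm.trans (sb E1255 (iv F130100)))).symm
theorem E1305 : n18513 = n11345 := ((((iv D14540)).symm.trans (sb E1255 (iv D23423)))).symm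
theorem E1306 : n29154 = n29044 := ((((iv F129231)).symm.trans (sb E1256 (iv F129836)))).symm
theorem E1307 : n18472 = n18390 := ((((iv D23347)).symm.trans (sb E1256 (iv D23398)))).symm
theorem E1309 : n11337 = n11314 := (((F66105).symm.trans (sb E1258 F66229))).symm
theorem E1311 : n18302 = n18166 := ((((iv D23138)).symm.trans (sb E1259 (iv D23267)))).symm
theorem E1312 : n11263 = n11170 := (((F65164).symm.trans (sb E1260 F65698))).symm
theorem E1314 : n18458 = n6992 := (((F41427).symm.trans (sb E1261 (iv F83179)))).symm
theorem E1318 : n18375 = n6966 := (((F41262).symm.trans (sb E1264 F104330))).symm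
theorem E1320 : n29173 = n11364 := (((F66327).symm.trans (sb E1267 (iv F129954)))).symm
theorem E1321 : n18469 = n18342 := (((iv F83250)).symm.trans (sb E1267 F104169))
theorem E1326 : n18500 = n7024 := (((F41655).symm.trans (sb E1270 F104834))).symm
theorem E1328 : n18501 = n7020 := (((F41613).symm.trans (sb E1271 (iv F83460)))).symm
theorem E1329 : n11304 = n11296 := (((iv F52111)).symm.trans (sb E1271 F65917))
theorem E1332 : n18298 = n18107 := (((F102989).symm.trans (sb E1273 F103947))).symm
theorem E1334 : n18325 = n11259 := (((iv F82484)).symm.trans (sb E1274 F65677))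
theorem E1335 : n18452 = n11134 := (((F64972).symm.trans (sb E1274 (iv F83141)))).symm
theorem E1339 : n18509 = n6982 := (((F41366).symm.trans (sb E1278 (iv F83511)))).symm
theorem E1340 : n11300 = n6981 := ((((iv D8847)).symm.trans (sb E1278 (iv D14500)))).symm
theorem E1342 : n29166 = n10877 := ((((iv F50042)).symm.trans (sb E1280 (iv F129908)))).symm
theorem E1347 : n14422 = n5536 := ((((iv D6973)).symm.trans (sb E1283 (iv D18450)))).symm
theorem E1350 : n14258 = n14214 := ((((iv F64547)).symm.trans (sb E1286 (iv F64788)))).symm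
theorem E1351 : n8824 = n8800 := ((((iv D11238)).symm.trans (sb E1286 (iv D11270)))).symm
theorem E1352 : n14461 = n5588 := ((((iv D7041)).symm.trans (sb E1287 (iv D18481)))).symm
theorem E1353 : n14446 = n5559 := (((F33187).symm.trans (sb E1288 (iv F65657)))).symm
theorem E1356 : n14421 = n5534 := (((F33027).symm.trans (sb E1290 (iv F65538)))).symm
theorem E1359 : n23269 = n23211 := ((((iv F103636)).symm.trans (sb E1293 (iv F103989)))).symm
theorem E1360 : n14457 = n14389 := ((((iv D18427)).symm.trans (sb E1293 (iv D18478)))).symm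
theorem E1361 : n14524 = n8869 := (((F52199).symm.trans (sb E1294 F83309))).symm
theorem E1364 : n14257 = n14175 := ((((iv D18232)).symm.trans (sb E1295 (iv D18305)))).symm
theorem E1365 : n8822 = n8776 := (((F51638).symm.trans (sb E1296 F51917))).symm
theorem E1369 : n14442 = n5557 := (((F33176).symm.trans (sb E1298 F83224))).symm
theorem E1371 : n14384 = n5532 := (((F33015).symm.trans (sb E1300 F82959))).symm
theorem E1373 : n23344 = n14539 := ((((iv D18535)).symm.trans (sb E1303 (iv D29201)))).symm
theorem E1375 : n14507 = n8887 := (((F52329).symm.trans (sb E1305 F83532))).symm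
theorem E1377 : n23266 = n23137 := ((((iv D29044)).symm.trans (sb E1306 (iv D29154)))).symm
theorem E1378 : n14453 = n14343 := (((F82782).symm.trans (sb E1307 F83273))).symm
theorem E1382 : n14508 = n8883 := (((iv F66084)).symm.trans (sb E1309 F52281))
theorem E1383 : n14485 = n8859 := (((F52158).symm.trans (sb E1309 (iv F65862)))).symm
theorem E1385 : n14254 = n14117 := (((F81654).symm.trans (sb E1311 F82371))).symm
theorem E1387 : n14327 = n8819 := (((iv F65088)).symm.trans (sb E1312 F51898))
theorem E1388 : n14434 = n8746 := (((F51467).symm.trans (sb E1312 (iv F65600)))).symm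
theorem E1390 : n23390 = n5550 := (((F33137).symm.trans (sb E1314 (iv F104642)))).symm
theorem E1391 : n14433 = n5549 := ((((iv D6992)).symm.trans (sb E1314 (iv D18458)))).symm
theorem E1395 : n23336 = n8517 := ((((iv F39796)).symm.trans (sb E1318 (iv F104321)))).symm
theorem E1398 : n23299 = n14510 := ((((iv F66096)).symm.trans (sb E1320 F129957))).symm
theorem E1400 : n23300 = n22986 := (((iv F104152)).symm.trans (sb E1321 (iv F102521)))
theorem E1401 : n14505 = n14295 := (((F82568).symm.trans (sb E1321 F83251))).symm
theorem E1410 : n23413 = n5582 := (((F33292).symm.trans (sb E1326 (iv F104811)))).symm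
theorem E1412 : n14487 = n8857 := ((((iv F41410)).symm.trans (sb E1326 F83454))).symm
theorem E1415 : n14491 = n8853 := ((((iv F41394)).symm.trans (sb E1328 F83462))).symm
theorem E1417 : n14504 = n8845 := (((F52073).symm.trans (sb E1329 (iv F66065)))).symm
theorem E1418 : n8850 = n8844 := ((((iv D11296)).symm.trans (sb E1329 (iv D11304)))).symm
theorem E1421 : n23046 = n14250 := (((iv F102875)).symm.trans (sb E1332 F82352))
theorem E1422 : n23254 = n14067 := (((F81387).symm.trans (sb E1332 (iv F103896)))).symm
theorem E1424 : n23288 = n13986 := ((((iv F63414)).symm.trans (sb E1334 (iv F104085)))).symm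
theorem E1425 : n14428 = n14280 := (((iv F65579)).symm.trans (sb E1334 F82485))
theorem E1427 : n23387 = n8720 := (((F51328).symm.trans (sb E1335 (iv F104620)))).symm
theorem E1428 : n14426 = n8719 := ((((iv D11134)).symm.trans (sb E1335 (iv D18452)))).symm
theorem E1433 : n14499 = n5542 := ((((iv D6982)).symm.trans (sb E1339 (iv D18509)))).symm
theorem E1434 : n8848 = n5541 := ((((iv D6981)).symm.trans (sb E1340 (iv D11300)))).symm
theorem E1435 : n23287 = n8516 := ((((iv D10877)).symm.trans (sb E1342 (iv D29166)))).symm
theorem E1439 : n18449 = n4430 := (((F26560).symm.trans (sb E1347 (iv F83114)))).symm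
theorem E1442 : n11106 = n11063 := ((((iv D14214)).symm.trans (sb E1350 (iv D14258)))).symm
theorem E1443 : n6962 = n6942 := (((F41132).symm.trans (sb E1351 F41239))).symm
theorem E1445 : n18468 = n4470 := (((F26816).symm.trans (sb E1352 (iv F83243)))).symm
theorem E1447 : n11256 = n4447 := (((F26673).symm.trans (sb E1353 F65658))).symm
theorem E1449 : n11235 = n4428 := (((F26546).symm.trans (sb E1356 F65537))).symm
theorem E1452 : n18304 = n18231 := ((((iv D23211)).symm.trans (sb E1359 (iv D23269)))).symm
theorem E1453 : n11265 = n11207 := (((F65367).symm.trans (sb E1360 F65709))).symm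
theorem E1455 : n11331 = n11317 := ((((iv F52174)).symm.trans (sb E1361 F66175))).symm
theorem E1456 : n18461 = n6998 := (((F41473).symm.trans (sb E1361 (iv F83199)))).symm
theorem E1460 : n11105 = n11024 := (((F64324).symm.trans (sb E1364 F64781))).symm
theorem E1462 : n11199 = n6960 := (((iv F51586)).symm.trans (sb E1365 F41228))
theorem E1463 : n11251 = n6921 := (((F41015).symm.trans (sb E1365 (iv F51842)))).symm
theorem E1466 : n18463 = n4445 := (((F26662).symm.trans (sb E1369 (iv F83209)))).symm
theorem E1467 : n11250 = n4444 := ((((iv D5557)).symm.trans (sb E1369 (iv D14442)))).symm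
theorem E1469 : n18423 = n6723 := ((((iv F31852)).symm.trans (sb E1371 (iv F82950)))).symm
theorem E1472 : n18471 = n18385 := (((iv F83265)).symm.trans (sb E1373 F104368))
theorem E1477 : n11306 = n11294 := ((((iv F52063)).symm.trans (sb E1375 F66079))).symm
theorem E1481 : n18301 = n18165 := (((F103288).symm.trans (sb E1377 F103970))).symm
theorem E1483 : n18386 = n18023 := (((iv F82763)).symm.trans (sb E1378 (iv F80917)))
theorem E1484 : n18455 = n11168 := (((F65154).symm.trans (sb E1378 (iv F83160)))).symm
theorem E1489 : n11310 = n11290 := ((((iv F52043)).symm.trans (sb E1382 F66086))).symm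
theorem E1491 : n18498 = n6990 := (((F41418).symm.trans (sb E1383 (iv F83443)))).symm
theorem E1492 : n11287 = n6989 := ((((iv D8859)).symm.trans (sb E1383 (iv D14485)))).symm
theorem E1494 : n18149 = n11102 := (((iv F81579)).symm.trans (sb E1385 F64764))
theorem E1495 : n18291 = n10976 := (((F64043).symm.trans (sb E1385 (iv F82312)))).symm
theorem E1497 : n18373 = n10874 := ((((iv F50026)).symm.trans (sb E1387 (iv F82699)))).symm
theorem E1498 : n11246 = n11156 := (((iv F51822)).symm.trans (sb E1387 F65089))
theorem E1500 : n18457 = n6898 := (((F40892).symm.trans (sb E1388 (iv F83172)))).symm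
theorem E1501 : n11244 = n6897 := ((((iv D8746)).symm.trans (sb E1388 (iv D14434)))).symm
theorem E1503 : n18456 = n4439 := ((((iv D5550)).symm.trans (sb E1390 (iv D23390)))).symm
theorem E1504 : n11285 = n4438 := ((((iv D5549)).symm.trans (sb E1391 F65987))).symm
theorem E1507 : n29195 = n10100 := ((((iv F46861)).symm.trans (sb E1395 (iv F130063)))).symm
theorem E1508 : n18372 = n6722 := ((((iv D8517)).symm.trans (sb E1395 (iv D23336)))).symm
theorem E1510 : n29170 = n11319 := (((F66094).symm.trans (sb E1398 (iv F129938)))).symm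
theorem E1511 : n29172 = n18388 := ((((iv F82773)).symm.trans (sb E1398 (iv F129949)))).symm
theorem E1516 : n29163 = n18021 := (((F102520).symm.trans (sb E1400 (iv F129890)))).symm
theorem E1517 : n18383 = n18339 := ((F102523).symm.trans (sb E1400 F104154))
theorem E1520 : n18511 = n11132 := (((F64962).symm.trans (sb E1401 (iv F83524)))).symm
theorem E1521 : n18512 = n18105 := ((((iv F81376)).symm.trans (sb E1401 D18512))).symm
theorem E1522 : n11303 = n11131 := ((((iv D14295)).symm.trans (sb E1401 (iv D14505)))).symm
theorem E1531 : n18494 = n6996 := ((((iv F33157)).symm.trans (sb E1410 F104814))).symm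
theorem E1534 : n11289 = n6987 := ((((iv D8857)).symm.trans (sb E1412 (iv D14487)))).symm
theorem E1537 : n11292 = n6985 := ((((iv D8853)).symm.trans (sb E1415 (iv D14491)))).symm
theorem E1539 : n11302 = n6979 := ((((iv D8845)).symm.trans (sb E1417 (iv D14504)))).symm
theorem E1540 : n6983 = n6978 := ((((iv D8844)).symm.trans (sb E1418 (iv D8850)))).symm
theorem E1543 : n28930 = n17832 := ((((iv F80142)).symm.trans (sb E1421 (iv F128733)))).symm
theorem E1544 : n18287 = n18090 := (((iv F82292)).symm.trans (sb E1421 F102877))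
theorem E1546 : n29146 = n10939 := (((F63819).symm.trans (sb E1422 (iv F129781)))).symm
theorem E1547 : n18285 = n10938 := ((((iv D14067)).symm.trans (sb E1422 (iv D23254)))).symm
theorem E1549 : n29162 = n16693 := ((((iv F75432)).symm.trans (sb E1424 (iv F129884)))).symm
theorem E1550 : n18323 = n18004 := ((((iv F80819)).symm.trans (sb E1424 F104086))).symm
theorem E1552 : n18453 = n11122 := (((F64897).symm.trans (sb E1425 (iv F83147)))).symm
theorem E1553 : n11241 = n11121 := ((((iv D14280)).symm.trans (sb E1425 (iv D14428)))).symm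
theorem E1555 : n18451 = n6880 := ((((iv D8720)).symm.trans (sb E1427 (iv D23387)))).symm
theorem E1556 : n11239 = n6879 := ((((iv D8719)).symm.trans (sb E1428 (iv D14426)))).symm
theorem E1559 : n11299 = n4433 := ((((iv D5542)).symm.trans (sb E1433 (iv D14499)))).symm
theorem E1560 : n10890 = n4434 := (((F26586).symm.trans (sb E1434 (iv F50108)))).symm
theorem E1561 : n25037 = n10099 := ((((iv F46855)).symm.trans (sb E1435 (iv F112800)))).symm
theorem E1562 : n25034 = n6721 := ((((iv D8516)).symm.trans (sb E1435 (iv F112781)))).symm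
theorem E1565 : n23386 = n3174 := (((F21506).symm.trans (sb E1439 (iv F104608)))).symm
theorem E1567 : n8701 = n8663 := (((F50965).symm.trans (sb E1442 F51194))).symm
theorem E1569 : n8798 = n5527 := (((iv F41121)).symm.trans (sb E1443 F32981))
theorem E1570 : n8813 = n5510 := (((F32892).symm.trans (sb E1443 (iv F41189)))).symm
theorem E1572 : n23396 = n3205 := (((F21709).symm.trans (sb E1445 (iv F104687)))).symm
theorem E1574 : n14444 = n3188 := (((F21591).symm.trans (sb E1447 (iv F65646)))).symm
theorem E1575 : n8812 = n3187 := ((((iv D4447)).symm.trans (sb E1447 (iv D11256)))).symm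
theorem E1577 : n14419 = n3168 := (((F21493).symm.trans (sb E1449 (iv F65524)))).symm
theorem E1578 : n8797 = n3167 := ((((iv D4428)).symm.trans (sb E1449 (iv D11235)))).symm
theorem E1581 : n14256 = n14174 := (((F81965).symm.trans (sb E1452 F82383))).symm
theorem E1583 : n14385 = n13990 := (((iv F65344)).symm.trans (sb E1453 (iv F63432)))
theorem E1584 : n14438 = n8774 := (((F51628).symm.trans (sb E1453 (iv F65617)))).symm
theorem E1586 : n14479 = n8865 := (((F52176).symm.trans (sb E1455 (iv F65836)))).symm
theorem E1589 : n23392 = n5555 := (((F33167).symm.trans (sb E1456 (iv F104658)))).symm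
theorem E1590 : n14437 = n5554 := ((((iv D6998)).symm.trans (sb E1456 (iv D18461)))).symm
theorem E1594 : n14166 = n8699 := (((iv F64277)).symm.trans (sb E1460 F51187))
theorem E1595 : n14245 = n8627 := (((F50745).symm.trans (sb E1460 (iv F64717)))).symm
theorem E1597 : n14382 = n8514 := ((((iv F39781)).symm.trans (sb E1462 (iv F65327)))).symm
theorem E1598 : n8810 = n8768 := (((iv F41174)).symm.trans (sb E1462 F51587))
theorem E1600 : n14440 = n5493 := (((F32789).symm.trans (sb E1463 (iv F65626)))).symm
theorem E1601 : n8808 = n5492 := ((((iv D6921)).symm.trans (sb E1463 (iv D11251)))).symm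
theorem E1606 : n14439 = n3185 := ((((iv D4445)).symm.trans (sb E1466 (iv D18463)))).symm
theorem E1607 : n14404 = n3184 := ((((iv D4444)).symm.trans (sb E1467 (iv F65439)))).symm
theorem E1608 : n23369 = n5348 := (((F31851).symm.trans (sb E1469 (iv F104498)))).symm
theorem E1609 : n14381 = n5347 := ((((iv D6723)).symm.trans (sb E1469 (iv D18423)))).symm
theorem E1611 : n23341 = n22987 := (((iv F104351)).symm.trans (sb E1472 (iv F102528)))
theorem E1612 : n14493 = n14335 := (((F82760).symm.trans (sb E1472 F83266))).symm
theorem E1617 : n8852 = n8842 := ((((iv D11294)).symm.trans (sb E1477 (iv D11306)))).symm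
theorem E1621 : n23130 = n22810 := (((iv F103261)).symm.trans (sb E1481 (iv F101756)))
theorem E1622 : n23257 = n14115 := (((F81648).symm.trans (sb E1481 (iv F103914)))).symm
theorem E1624 : n23332 = n13989 := (((F80916).symm.trans (sb E1483 (iv F104300)))).symm
theorem E1625 : n22974 = n14339 := (((iv F102456)).symm.trans (sb E1483 F82765))
theorem E1627 : n23388 = n8744 := (((F51459).symm.trans (sb E1484 (iv F104627)))).symm
theorem E1628 : n14431 = n8743 := ((((iv D11168)).symm.trans (sb E1484 (iv D18455)))).symm
theorem E1633 : n14509 = n14289 := ((((iv F64936)).symm.trans (sb E1489 (iv F66091)))).symm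
theorem E1634 : n8855 = n8840 := ((((iv D11290)).symm.trans (sb E1489 (iv D11310)))).symm
theorem E1636 : n14483 = n5547 := ((((iv D6990)).symm.trans (sb E1491 (iv D18498)))).symm
theorem E1637 : n8838 = n5546 := ((((iv D6989)).symm.trans (sb E1492 (iv D11287)))).symm
theorem E1638 : n23115 = n13822 := ((((iv F62806)).symm.trans (sb E1494 (iv F103194)))).symm
theorem E1639 : n14241 = n14103 := (((iv F64695)).symm.trans (sb E1494 F81581))
theorem E1641 : n23258 = n8589 := (((F50517).symm.trans (sb E1495 (iv F103921)))).symm
theorem E1642 : n14239 = n8588 := ((((iv D10976)).symm.trans (sb E1495 (iv D18291)))).symm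
theorem E1644 : n23331 = n12959 := ((((iv F59229)).symm.trans (sb E1497 (iv F104295)))).symm
theorem E1645 : n14325 = n13974 := ((((iv F63359)).symm.trans (sb E1497 F82700))).symm
theorem E1646 : n14324 = n8511 := ((((iv D10874)).symm.trans (sb E1497 (iv D18373)))).symm
theorem E1647 : n14435 = n8736 := (((F51415).symm.trans (sb E1498 (iv F65605)))).symm
theorem E1648 : n8805 = n8735 := ((((iv D11156)).symm.trans (sb E1498 (iv D11246)))).symm
theorem E1650 : n14432 = n5477 := ((((iv D6898)).symm.trans (sb E1500 (iv D18457)))).symm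
theorem E1651 : n8803 = n5476 := ((((iv D6897)).symm.trans (sb E1501 (iv D11244)))).symm
theorem E1653 : n14480 = n3180 := ((((iv D4439)).symm.trans (sb E1503 F83167))).symm
theorem E1654 : n13994 = n3181 := (((F21546).symm.trans (sb E1504 (iv F63452)))).symm
theorem E1656 : n23330 = n7942 := ((((iv D10100)).symm.trans (sb E1507 (iv D29195)))).symm
theorem E1657 : n23307 = n5346 := ((((iv D6722)).symm.trans (sb E1508 (iv F104195)))).symm
theorem E1659 : n23293 = n8867 := (((F52189).symm.trans (sb E1510 F129941))).symm
theorem E1660 : n23292 = n8866 := ((((iv D11319)).symm.trans (sb E1510 (iv D29170)))).symm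
theorem E1661 : n23297 = n14341 := (((F82775).symm.trans (sb E1511 F129951))).symm
theorem E1667 : n23285 = n22971 := ((((iv F102435)).symm.trans (sb E1516 F129893))).symm
theorem E1668 : n23283 = n13985 := ((((iv D18021)).symm.trans (sb E1516 (iv D29163)))).symm
theorem E1670 : n23342 = n14293 := (((F82553).symm.trans (sb E1517 (iv F104360)))).symm
theorem E1672 : n14332 = n14291 := ((((iv D18339)).symm.trans (sb E1517 (iv D18383)))).symm
theorem E1675 : n23422 = n14065 := ((((iv F63809)).symm.trans (sb E1520 D23422))).symm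
theorem E1676 : n14503 = n8717 := ((((iv D11132)).symm.trans (sb E1520 (iv D18511)))).symm
theorem E1677 : n23008 = n14064 := ((((iv D18105)).symm.trans (sb E1521 (iv F102677)))).symm
theorem E1678 : n14012 = n8716 := ((((iv D11131)).symm.trans (sb E1522 (iv F63537)))).symm
theorem E1684 : n14478 = n5552 := ((((iv D6996)).symm.trans (sb E1531 (iv D18494)))).symm
theorem E1688 : n8839 = n5545 := ((((iv D6987)).symm.trans (sb E1534 (iv D11289)))).symm
theorem E1691 : n8841 = n5543 := ((((iv D6985)).symm.trans (sb E1537 (iv D11292)))).symm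
theorem E1693 : n8849 = n5539 := ((((iv D6979)).symm.trans (sb E1539 (iv D11302)))).symm
theorem E1694 : n8527 = n5540 := (((F33072).symm.trans (sb E1540 (iv F39847)))).symm
theorem E1695 : n23045 = n22784 := ((((iv F101648)).symm.trans (sb E1543 F128735))).symm
theorem E1696 : n23044 = n13819 := ((((iv D17832)).symm.trans (sb E1543 (iv D28930)))).symm
theorem E1697 : n23244 = n23028 := ((((iv F102784)).symm.trans (sb E1544 (iv F103832)))).symm
theorem E1699 : n14236 = n14054 := ((((iv D18090)).symm.trans (sb E1544 (iv D18287)))).symm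
theorem E1701 : n23253 = n8562 := ((((iv D10939)).symm.trans (sb E1546 (iv D29146)))).symm
theorem E1702 : n14234 = n8561 := ((((iv D10938)).symm.trans (sb E1547 (iv D18285)))).symm
theorem E1703 : n23281 = n21348 := ((((iv F95660)).symm.trans (sb E1549 F129886))).symm
theorem E1704 : n23280 = n12956 := ((((iv D16693)).symm.trans (sb E1549 (iv D29162)))).symm
theorem E1705 : n22972 = n14278 := (((iv F102441)).symm.trans (sb E1550 F82475))
theorem E1706 : n14277 = n13969 := ((((iv D18004)).symm.trans (sb E1550 (iv D18323)))).symm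
theorem E1708 : n14427 = n8711 := ((((iv D11122)).symm.trans (sb E1552 (iv D18453)))).symm
theorem E1709 : n8801 = n8710 := ((((iv D11121)).symm.trans (sb E1553 (iv D11241)))).symm
theorem E1711 : n14425 = n5464 := ((((iv D6880)).symm.trans (sb E1555 (iv D18451)))).symm
theorem E1712 : n14009 = n5465 := (((F32622).symm.trans (sb E1556 (iv F66015)))).symm
theorem E1715 : n14008 = n3176 := ((((iv D4433)).symm.trans (sb E1559 (iv F63520)))).symm
theorem E1716 : n12975 = n3177 := (((F21528).symm.trans (sb E1560 (iv F59307)))).symm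
theorem E1717 : n19779 = n12041 := ((((iv F55769)).symm.trans (sb E1561 F112799))).symm
theorem E1718 : n19772 = n7941 := ((((iv D10099)).symm.trans (sb E1561 (iv D25037)))).symm
theorem E1719 : n19769 = n5345 := ((((iv D6721)).symm.trans (sb E1562 (iv D25034)))).symm
theorem E1721 : n18448 = n2230 := (((F15360).symm.trans (sb E1565 F104607))).symm
theorem E1724 : n11062 = n6867 := (((iv F50956)).symm.trans (sb E1567 F40702))
theorem E1725 : n11096 = n6835 := (((F40510).symm.trans (sb E1567 (iv F51143)))).symm
theorem E1727 : n11233 = n4422 := (((F26507).symm.trans (sb E1569 (iv F51757)))).symm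
theorem E1728 : n6952 = n6940 := (((iv F32936)).symm.trans (sb E1569 F41122))
theorem E1729 : n6939 = n4421 := ((((iv D5527)).symm.trans (sb E1569 (iv D8798)))).symm
theorem E1730 : n11254 = n4407 := (((F26433).symm.trans (sb E1570 (iv F51858)))).symm
theorem E1731 : n6950 = n4406 := ((((iv D5510)).symm.trans (sb E1570 (iv D8813)))).symm
theorem E1733 : n18467 = n2254 := (((F15523).symm.trans (sb E1572 F104688))).symm
theorem E1736 : n11253 = n2240 := ((((iv D3188)).symm.trans (sb E1574 (iv D14444)))).symm
theorem E1737 : n11222 = n2239 := ((((iv D3187)).symm.trans (sb E1575 (iv F51701)))).symm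
theorem E1738 : n18446 = n4285 := ((((iv F20808)).symm.trans (sb E1577 (iv F83091)))).symm
theorem E1739 : n11232 = n2223 := ((((iv D3168)).symm.trans (sb E1577 (iv D14419)))).symm
theorem E1740 : n11224 = n2222 := ((((iv D3167)).symm.trans (sb E1578 (iv F51713)))).symm
theorem E1743 : n18224 = n17838 := (((iv F81931)).symm.trans (sb E1581 (iv F80168)))
theorem E1744 : n18294 = n11022 := (((F64318).symm.trans (sb E1581 (iv F82329)))).symm
theorem E1746 : n18419 = n10876 := (((F63431).symm.trans (sb E1583 (iv F82929)))).symm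
theorem E1747 : n18013 = n11203 := (((iv F80866)).symm.trans (sb E1583 F65346))
theorem E1749 : n18460 = n6919 := (((F41007).symm.trans (sb E1584 (iv F83192)))).symm
theorem E1750 : n11248 = n6918 := ((((iv D8774)).symm.trans (sb E1584 (iv D14438)))).symm
theorem E1752 : n18329 = n11318 := ((((iv F52182)).symm.trans (sb E1586 (iv F82507)))).symm
theorem E1753 : n11284 = n6994 := ((((iv D8865)).symm.trans (sb E1586 (iv D14479)))).symm
theorem E1756 : n18459 = n4442 := ((((iv D5555)).symm.trans (sb E1589 (iv D23392)))).symm
theorem E1757 : n11282 = n4441 := ((((iv D5554)).symm.trans (sb E1590 F65983))).symm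
theorem E1760 : n18221 = n10751 := ((((iv F49580)).symm.trans (sb E1594 (iv F81916)))).symm
theorem E1761 : n11094 = n11016 := (((iv F51129)).symm.trans (sb E1594 F64279))
theorem E1763 : n18295 = n6805 := (((F40314).symm.trans (sb E1595 (iv F82336)))).symm
theorem E1764 : n11092 = n6804 := ((((iv D8627)).symm.trans (sb E1595 (iv D14245)))).symm
theorem E1766 : n18418 = n6720 := (((F39780).symm.trans (sb E1597 (iv F82924)))).symm
theorem E1767 : n11197 = n10865 := ((((iv F49991)).symm.trans (sb E1597 F65328))).symm
theorem E1768 : n11196 = n6718 := ((((iv D8514)).symm.trans (sb E1597 (iv D14382)))).symm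
theorem E1769 : n11252 = n6914 := (((F40982).symm.trans (sb E1598 (iv F51847)))).symm
theorem E1770 : n6948 = n6913 := ((((iv D8768)).symm.trans (sb E1598 (iv D8810)))).symm
theorem E1772 : n11249 = n4394 := ((((iv D5493)).symm.trans (sb E1600 (iv D14440)))).symm
theorem E1773 : n6946 = n4393 := ((((iv D5492)).symm.trans (sb E1601 (iv D8808)))).symm
theorem E1776 : n18434 = n2237 := ((((iv D3185)).symm.trans (sb E1606 (iv F83021)))).symm
theorem E1777 : n11217 = n2238 := (((F15412).symm.trans (sb E1607 (iv D14404)))).symm
theorem E1778 : n18417 = n4284 := ((((iv D5348)).symm.trans (sb E1608 (iv D23369)))).symm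
theorem E1779 : n18398 = n4283 := ((((iv D5347)).symm.trans (sb E1609 (iv F82827)))).symm
theorem E1781 : n29199 = n27059 := ((((iv F120561)).symm.trans (sb E1611 (iv F130086)))).symm
theorem E1782 : n18382 = n18340 := (((F102530).symm.trans (sb E1611 F104353))).symm
theorem E1785 : n18503 = n18157 := ((((iv F81619)).symm.trans (sb E1612 D18503))).symm
theorem E1786 : n11293 = n11161 := ((((iv D14335)).symm.trans (sb E1612 (iv D14493)))).symm
theorem E1791 : n6984 = n6977 := ((((iv D8842)).symm.trans (sb E1617 (iv D8852)))).symm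
theorem E1794 : n29011 = n17836 := (((F101755).symm.trans (sb E1621 (iv F129100)))).symm
theorem E1796 : n28713 = n18161 := (((iv F127681)).symm.trans (sb E1621 F103262))
theorem E1798 : n29147 = n10974 := (((F64033).symm.trans (sb E1622 (iv F129789)))).symm
theorem E1799 : n18289 = n10973 := ((((iv D14115)).symm.trans (sb E1622 (iv D23257)))).symm
theorem E1801 : n29192 = n16696 := ((((iv F75446)).symm.trans (sb E1624 (iv F130051)))).symm
theorem E1802 : n18369 = n18009 := ((((iv F80843)).symm.trans (sb E1624 F104303))).symm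
theorem E1803 : n18367 = n10873 := ((((iv D13989)).symm.trans (sb E1624 (iv D23332)))).symm
theorem E1804 : n18387 = n18333 := (((iv F82769)).symm.trans (sb E1625 F102455))
theorem E1805 : n28867 = n11166 := (((F65138).symm.trans (sb E1625 (iv F128376)))).symm
theorem E1806 : n18006 = n11164 := ((((iv D14339)).symm.trans (sb E1625 (iv D22974)))).symm
theorem E1808 : n18454 = n6895 := ((((iv D8744)).symm.trans (sb E1627 (iv D23388)))).symm
theorem E1809 : n11242 = n6894 := ((((iv D8743)).symm.trans (sb E1628 (iv D14431)))).symm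
theorem E1812 : n18514 = n18099 := ((((iv F81348)).symm.trans (sb E1633 D18514))).symm
theorem E1813 : n11309 = n11127 := ((((iv D14289)).symm.trans (sb E1633 (iv D14509)))).symm
theorem E1814 : n6986 = n6975 := ((((iv D8840)).symm.trans (sb E1634 (iv D8855)))).symm
theorem E1816 : n11286 = n4436 := ((((iv D5547)).symm.trans (sb E1636 (iv D14483)))).symm
theorem E1817 : n10880 = n4437 := (((F26609).symm.trans (sb E1637 (iv F50060)))).symm
theorem E1818 : n29008 = n16529 := ((((iv F74838)).symm.trans (sb E1638 (iv F129085)))).symm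
theorem E1819 : n18148 = n17819 := ((((iv F80085)).symm.trans (sb E1638 F103196))).symm
theorem E1821 : n18273 = n18127 := ((((iv F81484)).symm.trans (sb E1639 (iv F82209)))).symm
theorem E1823 : n11089 = n10965 := ((((iv D14103)).symm.trans (sb E1639 (iv D14241)))).symm
theorem E1825 : n18290 = n6776 := ((((iv D8589)).symm.trans (sb E1641 (iv D23258)))).symm
theorem E1826 : n11087 = n6775 := ((((iv D8588)).symm.trans (sb E1642 (iv D14239)))).symm
theorem E1827 : n29188 = n10097 := (((F59228).symm.trans (sb E1644 (iv F130032)))).symm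
theorem E1828 : n18365 = n16681 := ((((iv F75385)).symm.trans (sb E1644 F104297))).symm
theorem E1829 : n18364 = n10094 := ((((iv D12959)).symm.trans (sb E1644 (iv D23331)))).symm
theorem E1830 : n18010 = n11154 := (((iv F80848)).symm.trans (sb E1645 F65081))
theorem E1831 : n11153 = n10860 := ((((iv D13974)).symm.trans (sb E1645 (iv D14325)))).symm
theorem E1832 : n11152 = n6716 := ((((iv D8511)).symm.trans (sb E1646 (iv D14324)))).symm
theorem E1833 : n11245 = n6890 := ((((iv D8736)).symm.trans (sb E1647 (iv D14435)))).symm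
theorem E1834 : n6944 = n6889 := ((((iv D8735)).symm.trans (sb E1648 (iv D8805)))).symm
theorem E1836 : n11243 = n4382 := ((((iv D5477)).symm.trans (sb E1650 (iv D14432)))).symm
theorem E1837 : n11212 = n4383 := (((F26285).symm.trans (sb E1651 (iv F51653)))).symm
theorem E1839 : n18028 = n2234 := ((((iv D3180)).symm.trans (sb E1653 (iv F80952)))).symm
theorem E1840 : n11214 = n2235 := (((F15396).symm.trans (sb E1654 F66011))).symm
theorem E1842 : n27063 = n6294 := (((F37424).symm.trans (sb E1656 (iv F120591)))).symm
theorem E1843 : n25029 = n6293 := ((((iv D7942)).symm.trans (sb E1656 (iv F112746)))).symm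
theorem E1844 : n18347 = n4282 := ((((iv D5346)).symm.trans (sb E1657 (iv D23307)))).symm
theorem E1846 : n28872 = n11205 := ((((iv F51616)).symm.trans (sb E1659 (iv F128408)))).symm
theorem E1849 : n28871 = n11204 := ((((iv F51611)).symm.trans (sb E1660 (iv F128400)))).symm
theorem E1851 : n28869 = n18371 := ((((iv F82690)).symm.trans (sb E1661 (iv F128386)))).symm
theorem E1861 : n29161 = n27042 := ((((iv F120460)).symm.trans (sb E1667 (iv F129880)))).symm
theorem E1863 : n28866 = n18321 := (((iv F128368)).symm.trans (sb E1667 F104071))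
theorem E1864 : n28927 = n28707 := ((((iv F127648)).symm.trans (sb E1667 (iv F128722)))).symm
theorem E1865 : n18319 = n18002 := ((((iv D22971)).symm.trans (sb E1667 (iv D23285)))).symm
theorem E1866 : n29160 = n16692 := ((((iv F75427)).symm.trans (sb E1668 (iv F129874)))).symm
theorem E1871 : n18381 = n11129 := ((((iv D14293)).symm.trans (sb E1670 (iv D23342)))).symm
theorem E1874 : n17909 = n11128 := ((((iv D14291)).symm.trans (sb E1672 (iv F80436)))).symm
theorem E1879 : n28888 = n10936 := ((((iv D14065)).symm.trans (sb E1675 (iv F128523)))).symm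
theorem E1880 : n18048 = n6877 := ((((iv D8717)).symm.trans (sb E1676 (iv F81078)))).symm
theorem E1881 : n18050 = n10935 := ((((iv D14064)).symm.trans (sb E1677 (iv D23008)))).symm
theorem E1882 : n10892 = n6878 := (((F40772).symm.trans (sb E1678 (iv D14012)))).symm
theorem E1886 : n11283 = n4440 := ((((iv D5552)).symm.trans (sb E1684 (iv D14478)))).symm
theorem E1889 : n6976 = n6732 := ((((iv F31898)).symm.trans (sb E1688 F41325))).symm
theorem E1892 : n10883 = n4435 := ((((iv D5543)).symm.trans (sb E1691 (iv F50074)))).symm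
theorem E1894 : n10891 = n4432 := ((((iv D5539)).symm.trans (sb E1693 (iv F50114)))).symm
theorem E1895 : n6730 = n6727 := ((((iv F31875)).symm.trans (sb E1694 (iv D8527)))).symm
theorem E1896 : n28923 = n26847 := ((((iv F119676)).symm.trans (sb E1695 (iv F128698)))).symm
theorem E1897 : n28909 = n28672 := ((((iv F127478)).symm.trans (sb E1695 (iv F128634)))).symm
theorem E1899 : n18087 = n17814 := ((((iv D22784)).symm.trans (sb E1695 (iv D23045)))).symm
theorem E1900 : n28922 = n16526 := ((((iv F74825)).symm.trans (sb E1696 (iv F128692)))).symm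
theorem E1902 : n29140 = n18074 := (((F102786).symm.trans (sb E1697 (iv F129740)))).symm
theorem E1903 : n18270 = n18073 := ((((iv D23028)).symm.trans (sb E1697 (iv D23244)))).symm
theorem E1905 : n11085 = n10929 := ((((iv D14054)).symm.trans (sb E1699 (iv D14236)))).symm
theorem E1907 : n18284 = n6756 := ((((iv D8562)).symm.trans (sb E1701 (iv D23253)))).symm
theorem E1908 : n18045 = n6757 := (((F40012).symm.trans (sb E1702 (iv F81056)))).symm
theorem E1909 : n29158 = n25007 := ((((iv F112611)).symm.trans (sb E1703 (iv F129863)))).symm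
theorem E1910 : n27043 = n18317 := (((iv F120470)).symm.trans (sb E1703 F104048))
theorem E1911 : n18316 = n16676 := ((((iv D21348)).symm.trans (sb E1703 (iv D23281)))).symm
theorem E1912 : n25044 = n15461 := ((((iv F70755)).symm.trans (sb E1704 (iv F112840)))).symm
theorem E1913 : n18315 = n10092 := ((((iv D12956)).symm.trans (sb E1704 (iv D23280)))).symm
theorem E1914 : n18003 = n11119 := ((((iv D14278)).symm.trans (sb E1705 (iv D22972)))).symm
theorem E1915 : n11118 = n10856 := ((((iv D13969)).symm.trans (sb E1706 (iv D14277)))).symm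
theorem E1917 : n11240 = n6873 := ((((iv D8711)).symm.trans (sb E1708 (iv D14427)))).symm
theorem E1918 : n6943 = n6874 := (((F40745).symm.trans (sb E1709 (iv D8801)))).symm
theorem E1920 : n18044 = n4373 := ((((iv D5464)).symm.trans (sb E1711 F81050))).symm
theorem E1921 : n11210 = n4374 := (((F26242).symm.trans (sb E1712 F66014))).symm
theorem E1924 : n16710 = n2232 := (((F15373).symm.trans (sb E1715 (iv F75532)))).symm
theorem E1926 : n10110 = n4288 := ((((iv F20825)).symm.trans (sb E1716 (iv D12975)))).symm
theorem E1927 : n16725 = n9421 := (((F55768).symm.trans (sb E1717 F89736))).symm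
theorem E1928 : n15487 = n9420 := ((((iv D12041)).symm.trans (sb E1717 (iv D19779)))).symm
theorem E1930 : n15480 = n6292 := ((((iv D7941)).symm.trans (sb E1718 (iv D19772)))).symm
theorem E1931 : n15477 = n6553 := ((((iv F31152)).symm.trans (sb E1719 F89678))).symm
theorem E1935 : n14418 = n1563 := ((((iv D2230)).symm.trans (sb E1721 (iv D18448)))).symm
theorem E1937 : n14213 = n5456 := (((F32562).symm.trans (sb E1724 (iv F64537)))).symm
theorem E1938 : n8691 = n8661 := (((iv F40651)).symm.trans (sb E1724 F50958))
theorem E1940 : n14247 = n5430 := (((F32405).symm.trans (sb E1725 (iv F64730)))).symm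
theorem E1943 : n14417 = n5344 := ((((iv F25642)).symm.trans (sb E1727 (iv F65513)))).symm
theorem E1944 : n8796 = n5519 := ((((iv F26473)).symm.trans (sb E1727 F51759))).symm
theorem E1945 : n8795 = n3161 := ((((iv D4422)).symm.trans (sb E1727 (iv D11233)))).symm
theorem E1946 : n8814 = n5508 := (((F32882).symm.trans (sb E1728 (iv F41195)))).symm
theorem E1947 : n5517 = n5507 := ((((iv D6940)).symm.trans (sb E1728 (iv D6952)))).symm
theorem E1948 : n5506 = n3160 := ((((iv D4421)).symm.trans (sb E1729 (iv D6939)))).symm
theorem E1949 : n8811 = n3150 := ((((iv D4407)).symm.trans (sb E1730 (iv D11254)))).symm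
theorem E1950 : n5515 = n3149 := ((((iv D4406)).symm.trans (sb E1731 (iv D6950)))).symm
theorem E1951 : n14443 = n1582 := ((((iv D2254)).symm.trans (sb E1733 (iv D18467)))).symm
theorem E1953 : n14407 = n1571 := ((((iv D2240)).symm.trans (sb E1736 (iv F65458)))).symm
theorem E1954 : n8784 = n1572 := (((F11032).symm.trans (sb E1737 (iv D11222)))).symm
theorem E1955 : n23384 = n5020 := ((((iv F24248)).symm.trans (sb E1738 (iv F104590)))).symm
theorem E1956 : n14416 = n3045 := ((((iv D4285)).symm.trans (sb E1738 (iv D18446)))).symm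
theorem E1957 : n14409 = n1558 := ((((iv D2223)).symm.trans (sb E1739 (iv F65472)))).symm
theorem E1958 : n8787 = n1557 := ((((iv D2222)).symm.trans (sb E1740 (iv D11224)))).symm
theorem E1961 : n23195 = n13825 := (((F80167).symm.trans (sb E1743 (iv F103566)))).symm
theorem E1962 : n22794 = n14170 := (((iv F101693)).symm.trans (sb E1743 F81932))
theorem E1964 : n23259 = n8625 := (((F50735).symm.trans (sb E1744 (iv F103928)))).symm
theorem E1965 : n14243 = n8624 := ((((iv D11022)).symm.trans (sb E1744 (iv D18294)))).symm
theorem E1967 : n23365 = n8515 := (((F50036).symm.trans (sb E1746 (iv F104473)))).symm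
theorem E1968 : n14378 = n13979 := ((((iv F63382)).symm.trans (sb E1746 F82932))).symm
theorem E1969 : n14376 = n8513 := ((((iv D10876)).symm.trans (sb E1746 (iv D18419)))).symm
theorem E1970 : n22980 = n14386 := ((((iv F65351)).symm.trans (sb E1747 (iv F102491)))).symm
theorem E1971 : n22979 = n8772 := (((F51608).symm.trans (sb E1747 (iv F102485)))).symm
theorem E1972 : n13976 = n8770 := ((((iv D11203)).symm.trans (sb E1747 (iv D18013)))).symm
theorem E1974 : n14436 = n5490 := ((((iv D6919)).symm.trans (sb E1749 (iv D18460)))).symm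
theorem E1975 : n8806 = n5489 := ((((iv D6918)).symm.trans (sb E1750 (iv D11248)))).symm
theorem E1976 : n23051 = n14515 := (((D14515).symm.trans (sb E1752 (iv F102909)))).symm
theorem E1977 : n14283 = n8864 := ((((iv D11318)).symm.trans (sb E1752 (iv D18329)))).symm
theorem E1978 : n8836 = n5551 := ((((iv D6994)).symm.trans (sb E1753 (iv D11284)))).symm
theorem E1981 : n14475 = n3182 := ((((iv D4442)).symm.trans (sb E1756 F83186))).symm
theorem E1982 : n13991 = n3183 := (((F21560).symm.trans (sb E1757 (iv F63438)))).symm
theorem E1984 : n23192 = n8420 := (((F49579).symm.trans (sb E1760 (iv F103551)))).symm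
theorem E1985 : n14165 = n13813 := ((((iv F62770)).symm.trans (sb E1760 F81918))).symm
theorem E1986 : n14164 = n8418 := ((((iv D10751)).symm.trans (sb E1760 (iv D18221)))).symm
theorem E1987 : n14223 = n14142 := ((((iv F64167)).symm.trans (sb E1761 (iv F64600)))).symm
theorem E1988 : n14246 = n8620 := (((F50707).symm.trans (sb E1761 (iv F64722)))).symm
theorem E1989 : n8687 = n8619 := ((((iv D11016)).symm.trans (sb E1761 (iv D11094)))).symm
theorem E1991 : n14244 = n5406 := ((((iv D6805)).symm.trans (sb E1763 (iv D18295)))).symm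
theorem E1992 : n8685 = n5405 := ((((iv D6804)).symm.trans (sb E1764 (iv D11092)))).symm
theorem E1993 : n23364 = n7940 := ((((iv F37413)).symm.trans (sb E1766 (iv F104468)))).symm
theorem E1994 : n14374 = n8506 := ((((iv F39748)).symm.trans (sb E1766 F82926))).symm
theorem E1995 : n14373 = n5343 := ((((iv D6720)).symm.trans (sb E1766 (iv D18418)))).symm
theorem E1996 : n13980 = n8766 := (((iv F63388)).symm.trans (sb E1767 F51579))
theorem E1997 : n8765 = n8502 := ((((iv D10865)).symm.trans (sb E1767 (iv D11197)))).symm
theorem E1998 : n8764 = n5341 := ((((iv D6718)).symm.trans (sb E1768 (iv D11196)))).symm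
theorem E1999 : n8809 = n5487 := ((((iv D6914)).symm.trans (sb E1769 (iv D11252)))).symm
theorem E2000 : n5513 = n5486 := ((((iv D6913)).symm.trans (sb E1770 (iv D6948)))).symm
theorem E2002 : n8807 = n3140 := ((((iv D4394)).symm.trans (sb E1772 (iv D11249)))).symm
theorem E2003 : n8780 = n3141 := (((F21331).symm.trans (sb E1773 (iv F41032)))).symm
theorem E2006 : n14403 = n1569 := ((((iv D2237)).symm.trans (sb E1776 (iv D18434)))).symm
theorem E2007 : n8782 = n1570 := (((F11025).symm.trans (sb E1777 F51673))).symm
theorem E2008 : n23363 = n5019 := ((((iv F24243)).symm.trans (sb E1778 (iv F104463)))).symm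
theorem E2009 : n23350 = n3044 := ((((iv D4284)).symm.trans (sb E1778 (iv F104404)))).symm
theorem E2010 : n14359 = n3043 := ((((iv D4283)).symm.trans (sb E1779 (iv D18398)))).symm
theorem E2012 : n23340 = n23286 := (((F120564).symm.trans (sb E1781 F130089))).symm
theorem E2014 : n23302 = n23123 := ((D23302).symm.trans (sb E1782 (iv F103233)))
theorem E2015 : n14331 = n14292 := ((((iv D18340)).symm.trans (sb E1782 (iv D18382)))).symm
theorem E2018 : n22999 = n14108 := ((((iv D18157)).symm.trans (sb E1785 (iv F102616)))).symm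
theorem E2019 : n14002 = n8738 := ((((iv D11161)).symm.trans (sb E1786 (iv F63490)))).symm
theorem E2022 : n8521 = n5544 := (((iv F39818)).symm.trans (sb E1791 F33103))
theorem E2024 : n23112 = n22790 := ((((iv F101672)).symm.trans (sb E1794 F129102))).symm
theorem E2026 : n22787 = n14111 := ((((iv D18161)).symm.trans (sb E1796 (iv D28713)))).symm
theorem E2028 : n23256 = n8586 := ((((iv D10974)).symm.trans (sb E1798 (iv D29147)))).symm
theorem E2029 : n14237 = n8585 := ((((iv D10973)).symm.trans (sb E1799 (iv D18289)))).symm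
theorem E2030 : n23328 = n21354 := ((((iv F95694)).symm.trans (sb E1801 F130054))).symm
theorem E2031 : n23326 = n12958 := ((((iv D16696)).symm.trans (sb E1801 (iv D29192)))).symm
theorem E2032 : n23333 = n22977 := ((((iv F102471)).symm.trans (sb E1802 (iv F104308)))).symm
theorem E2033 : n22976 = n14323 := (((iv F102466)).symm.trans (sb E1802 F82683))
theorem E2034 : n14321 = n13972 := ((((iv D18009)).symm.trans (sb E1802 (iv D18369)))).symm
theorem E2035 : n14320 = n8510 := ((((iv D10873)).symm.trans (sb E1803 (iv D18367)))).symm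
theorem E2036 : n23345 = n23057 := ((((iv F102934)).symm.trans (sb E1804 D23345))).symm
theorem E2037 : n14338 = n14286 := ((((iv D18333)).symm.trans (sb E1804 (iv D18387)))).symm
theorem E2038 : n22973 = n8741 := ((((iv D11166)).symm.trans (sb E1805 (iv D28867)))).symm
theorem E2039 : n13970 = n8740 := ((((iv D11164)).symm.trans (sb E1806 (iv D18006)))).symm
theorem E2041 : n14430 = n5474 := ((((iv D6895)).symm.trans (sb E1808 (iv D18454)))).symm
theorem E2042 : n13996 = n5475 := (((F32679).symm.trans (sb E1809 (iv F65971)))).symm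
theorem E2045 : n23010 = n14060 := ((((iv D18099)).symm.trans (sb E1812 (iv F102688)))).symm
theorem E2046 : n14018 = n8713 := ((((iv D11127)).symm.trans (sb E1813 (iv F63568)))).symm
theorem E2047 : n8530 = n5538 := ((((iv D6975)).symm.trans (sb E1814 (iv F39860)))).symm
theorem E2049 : n13995 = n3179 := ((((iv D4436)).symm.trans (sb E1816 (iv F63458)))).symm
theorem E2050 : n8519 = n5355 := ((((iv F25699)).symm.trans (sb E1817 (iv D10880)))).symm
theorem E2051 : n23108 = n21159 := ((((iv F94919)).symm.trans (sb E1818 F129088))).symm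
theorem E2052 : n23107 = n12833 := ((((iv D16529)).symm.trans (sb E1818 (iv D29008)))).symm
theorem E2053 : n23089 = n22757 := ((((iv F101514)).symm.trans (sb E1819 (iv F103085)))).symm
theorem E2054 : n22791 = n14101 := (((iv F101677)).symm.trans (sb E1819 F81575))
theorem E2055 : n14100 = n13808 := ((((iv D17819)).symm.trans (sb E1819 (iv D18148)))).symm
theorem E2057 : n23246 = n14083 := (((F81486).symm.trans (sb E1821 (iv F103845)))).symm
theorem E2058 : n14220 = n14082 := ((((iv D18127)).symm.trans (sb E1821 (iv D18273)))).symm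
theorem E2060 : n8683 = n8580 := ((((iv D10965)).symm.trans (sb E1823 (iv D11089)))).symm
theorem E2062 : n14238 = n5384 := ((((iv D6776)).symm.trans (sb E1825 (iv D18290)))).symm
theorem E2063 : n14200 = n5385 := (((F32102).symm.trans (sb E1826 (iv F64464)))).symm
theorem E2064 : n23321 = n12950 := ((((iv F59193)).symm.trans (sb E1827 F130035))).symm
theorem E2065 : n23320 = n7938 := ((((iv D10097)).symm.trans (sb E1827 (iv D29188)))).symm
theorem E2066 : n21355 = n14319 := (((iv F95700)).symm.trans (sb E1828 F82664))
theorem E2067 : n14318 = n12945 := ((((iv D16681)).symm.trans (sb E1828 (iv D18365)))).symm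
theorem E2068 : n14317 = n7936 := ((((iv D10094)).symm.trans (sb E1829 (iv D18364)))).symm
theorem E2069 : n13973 = n8733 := ((((iv D11154)).symm.trans (sb E1830 (iv D18010)))).symm
theorem E2070 : n8732 = n8498 := ((((iv D10860)).symm.trans (sb E1831 (iv D11153)))).symm
theorem E2071 : n14306 = n5340 := ((((iv D6716)).symm.trans (sb E1832 (iv F65007)))).symm
theorem E2072 : n8804 = n5471 := ((((iv D6890)).symm.trans (sb E1833 (iv D11245)))).symm
theorem E2073 : n5512 = n5472 := (((F32660).symm.trans (sb E1834 (iv D6944)))).symm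
theorem E2075 : n14396 = n3132 := ((((iv D4382)).symm.trans (sb E1836 (iv F65402)))).symm
theorem E2076 : n8778 = n3133 := (((F21289).symm.trans (sb E1837 (iv D11212)))).symm
theorem E2078 : n14399 = n1567 := (((F11007).symm.trans (sb E1839 F80951))).symm
theorem E2080 : n12965 = n3057 := ((((iv F14792)).symm.trans (sb E1840 (iv F65962)))).symm
theorem E2082 : n21387 = n7433 := ((((iv F35448)).symm.trans (sb E1842 F120590))).symm
theorem E2083 : n21374 = n5018 := ((((iv D6294)).symm.trans (sb E1842 (iv D27063)))).symm
theorem E2084 : n19764 = n5017 := ((((iv D6293)).symm.trans (sb E1843 (iv D25029)))).symm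
theorem E2085 : n19763 = n5221 := ((((iv F25128)).symm.trans (sb E1844 (iv F89635)))).symm
theorem E2088 : n22982 = n14380 := ((((iv F65318)).symm.trans (sb E1846 F128407))).symm
theorem E2092 : n22981 = n14379 := ((((iv F65313)).symm.trans (sb E1849 F128399))).symm
theorem E2095 : n22975 = n14322 := ((((iv D18371)).symm.trans (sb E1851 (iv D28869)))).symm
theorem E2103 : n23278 = n21346 := ((((iv D27042)).symm.trans (sb E1861 (iv D29161)))).symm
theorem E2105 : n22970 = n14275 := ((((iv D18321)).symm.trans (sb E1863 (iv D28866)))).symm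
theorem E2106 : n23041 = n22782 := ((((iv D28707)).symm.trans (sb E1864 (iv D28927)))).symm
theorem E2107 : n14274 = n13967 := ((((iv D18002)).symm.trans (sb E1865 (iv D18319)))).symm
theorem E2108 : n23277 = n12955 := ((((iv D16692)).symm.trans (sb E1866 (iv D29160)))).symm
theorem E2112 : n22885 = n8715 := ((((iv D11129)).symm.trans (sb E1871 (iv F102060)))).symm
theorem E2114 : n13881 = n13849 := ((((iv F62917)).symm.trans (sb E1874 (iv D17909)))).symm
theorem E2117 : n23007 = n8559 := ((((iv D10936)).symm.trans (sb E1879 (iv D28888)))).symm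
theorem E2118 : n14011 = n5463 := ((((iv D6877)).symm.trans (sb E1880 (iv D18048)))).symm
theorem E2119 : n14013 = n8560 := (((F50333).symm.trans (sb E1881 F81088))).symm
theorem E2120 : n8529 = n8431 := ((((iv F39482)).symm.trans (sb E1882 F50118))).symm
theorem E2121 : n8837 = n5358 := ((((iv F25712)).symm.trans (sb E1886 F52010))).symm
theorem E2124 : n8520 = n5354 := ((((iv D6732)).symm.trans (sb E1889 (iv F39812)))).symm
theorem E2127 : n8522 = n5353 := ((((iv F25691)).symm.trans (sb E1892 F50073))).symm
theorem E2129 : n8528 = n5350 := ((((iv F25677)).symm.trans (sb E1894 F50113))).symm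
theorem E2131 : n7950 = n5352 := (((F31874).symm.trans (sb E1895 (iv F37467)))).symm
theorem E2132 : n23038 = n21154 := ((((iv D26847)).symm.trans (sb E1896 (iv D28923)))).symm
theorem E2133 : n23026 = n22752 := ((((iv D28672)).symm.trans (sb E1897 (iv D28909)))).symm
theorem E2135 : n14051 = n13804 := ((((iv D17814)).symm.trans (sb E1899 (iv D18087)))).symm
theorem E2136 : n23037 = n12831 := ((((iv D16526)).symm.trans (sb E1900 (iv D28922)))).symm
theorem E2138 : n23243 = n14040 := ((((iv D18074)).symm.trans (sb E1902 (iv D29140)))).symm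
theorem E2139 : n14217 = n14039 := ((((iv D18073)).symm.trans (sb E1903 (iv D18270)))).symm
theorem E2141 : n8682 = n8556 := (((F50302).symm.trans (sb E1905 (iv D11085)))).symm
theorem E2143 : n23005 = n5371 := ((((iv D6756)).symm.trans (sb E1907 (iv F102654)))).symm
theorem E2144 : n14198 = n5372 := (((F32021).symm.trans (sb E1908 F81055))).symm
theorem E2145 : n23274 = n19741 := ((((iv D25007)).symm.trans (sb E1909 (iv D29158)))).symm
theorem E2146 : n21347 = n14273 := ((((iv D18317)).symm.trans (sb E1910 (iv D27043)))).symm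
theorem E2147 : n14272 = n12941 := ((((iv D16676)).symm.trans (sb E1911 (iv D18316)))).symm
theorem E2148 : n21397 = n12036 := (((F70754).symm.trans (sb E1912 F112839))).symm
theorem E2149 : n19780 = n12034 := ((((iv D15461)).symm.trans (sb E1912 F112844))).symm
theorem E2150 : n19773 = n7935 := ((((iv D10092)).symm.trans (sb E1913 F89709))).symm
theorem E2151 : n13968 = n8708 := ((((iv D11119)).symm.trans (sb E1914 (iv D18003)))).symm
theorem E2152 : n8709 = n8497 := ((((iv D10856)).symm.trans (sb E1915 F51251))).symm
theorem E2155 : n8802 = n5460 := ((((iv D6873)).symm.trans (sb E1917 F51797))).symm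
theorem E2156 : n8777 = n5461 := (((F32598).symm.trans (sb E1918 (iv F41020)))).symm
theorem E2159 : n14393 = n3127 := (((F21249).symm.trans (sb E1920 F81048))).symm
theorem E2161 : n12977 = n5296 := ((((iv F25464)).symm.trans (sb E1921 (iv F65965)))).symm
theorem E2164 : n12976 = n3054 := ((((iv F14780)).symm.trans (sb E1924 F75531))).symm
theorem E2165 : n21381 = n1565 := ((((iv D2232)).symm.trans (sb E1924 D21381))).symm
theorem E2166 : n7952 = n5023 := ((((iv F24264)).symm.trans (sb E1926 F46911))).symm
theorem E2167 : n12989 = n7432 := ((((iv D9421)).symm.trans (sb E1927 (iv D16725)))).symm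
theorem E2169 : n12062 = n7431 := ((((iv D9420)).symm.trans (sb E1928 (iv D15487)))).symm
theorem E2170 : n12057 = n7773 := ((((iv F36756)).symm.trans (sb E1930 F70876))).symm
theorem E2172 : n12053 = n5220 := ((((iv D6553)).symm.trans (sb E1931 (iv D15477)))).symm
theorem E2175 : n18439 = n1095 := ((((iv D1563)).symm.trans (sb E1935 (iv F83053)))).symm
theorem E2176 : n18266 = n6649 := ((((iv F31567)).symm.trans (sb E1937 (iv F82163)))).symm
theorem E2177 : n11061 = n6859 := ((((iv F32524)).symm.trans (sb E1937 F64540))).symm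
theorem E2178 : n11060 = n4367 := ((((iv D5456)).symm.trans (sb E1937 (iv D14213)))).symm
theorem E2179 : n11074 = n11045 := ((((iv F50863)).symm.trans (sb E1938 (iv F51030)))).symm
theorem E2180 : n11097 = n6833 := (((F40498).symm.trans (sb E1938 (iv F51149)))).symm
theorem E2181 : n6857 = n6832 := ((((iv D8661)).symm.trans (sb E1938 (iv D8691)))).symm
theorem E2183 : n11095 = n4347 := ((((iv D5430)).symm.trans (sb E1940 (iv D14247)))).symm
theorem E2185 : n18444 = n6291 := ((((iv F30021)).symm.trans (sb E1943 (iv F83079)))).symm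
theorem E2186 : n11231 = n6712 := ((((iv F31803)).symm.trans (sb E1943 F65515))).symm
theorem E2187 : n11230 = n4279 := ((((iv D5344)).symm.trans (sb E1943 (iv D14417)))).symm
theorem E2188 : n6953 = n6938 := (((iv F32942)).symm.trans (sb E1944 F41114))
theorem E2189 : n6937 = n4413 := ((((iv D5519)).symm.trans (sb E1944 (iv D8796)))).symm
theorem E2190 : n6936 = n2218 := ((((iv D3161)).symm.trans (sb E1945 (iv D8795)))).symm
theorem E2191 : n6951 = n4404 := ((((iv D5508)).symm.trans (sb E1946 (iv D8814)))).symm
theorem E2192 : n4410 = n4403 := ((((iv D5507)).symm.trans (sb E1947 (iv D5517)))).symm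
theorem E2193 : n6929 = n2217 := ((((iv D3160)).symm.trans (sb E1948 (iv F32826)))).symm
theorem E2194 : n6949 = n2208 := ((((iv D3150)).symm.trans (sb E1949 (iv D8811)))).symm
theorem E2195 : n6926 = n2209 := (((F15238).symm.trans (sb E1950 (iv F32811)))).symm
theorem E2196 : n18437 = n1109 := ((((iv D1582)).symm.trans (sb E1951 (iv F83039)))).symm
theorem E2197 : n11221 = n1101 := ((((iv D1571)).symm.trans (sb E1953 (iv D14407)))).symm
theorem E2198 : n6928 = n1102 := (((F7884).symm.trans (sb E1954 F41050))).symm
theorem E2199 : n18443 = n3990 := ((((iv D5020)).symm.trans (sb E1955 (iv D23384)))).symm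
theorem E2200 : n18435 = n2132 := ((((iv D3045)).symm.trans (sb E1956 (iv F83027)))).symm
theorem E2201 : n11223 = n1091 := ((((iv D1558)).symm.trans (sb E1957 (iv D14409)))).symm
theorem E2202 : n6930 = n1090 := ((((iv D1557)).symm.trans (sb E1958 F41067))).symm
theorem E2208 : n29094 = n10753 := (((F62820).symm.trans (sb E1961 (iv F129477)))).symm
theorem E2209 : n18218 = n17824 := ((((iv F80108)).symm.trans (sb E1961 F103568))).symm
theorem E2210 : n18216 = n10750 := ((((iv D13825)).symm.trans (sb E1961 (iv D23195)))).symm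
theorem E2211 : n28721 = n18226 := ((((iv F81941)).symm.trans (sb E1962 (iv F127715)))).symm
theorem E2212 : n28719 = n11020 := (((F64299).symm.trans (sb E1962 (iv F127704)))).symm
theorem E2213 : n17821 = n11018 := ((((iv D14170)).symm.trans (sb E1962 (iv D22794)))).symm
theorem E2215 : n18293 = n6802 := ((((iv D8625)).symm.trans (sb E1964 (iv D23259)))).symm
theorem E2216 : n11090 = n6801 := ((((iv D8624)).symm.trans (sb E1965 (iv D14243)))).symm
theorem E2217 : n18414 = n10868 := ((((iv F50004)).symm.trans (sb E1967 F104477))).symm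
theorem E2218 : n18412 = n6719 := ((((iv D8515)).symm.trans (sb E1967 (iv D23365)))).symm
theorem E2219 : n18420 = n18016 := ((((iv F80879)).symm.trans (sb E1968 (iv F82937)))).symm
theorem E2220 : n18015 = n11195 := (((iv F80875)).symm.trans (sb E1968 F65311))
theorem E2221 : n11193 = n10863 := ((((iv D13979)).symm.trans (sb E1968 (iv D14378)))).symm
theorem E2222 : n11192 = n6717 := ((((iv D8513)).symm.trans (sb E1969 (iv D14376)))).symm
theorem E2223 : n28873 = n18425 := (((D18425).symm.trans (sb E1970 D28873))).symm
theorem E2224 : n18012 = n11202 := ((((iv D14386)).symm.trans (sb E1970 (iv D22980)))).symm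
theorem E2225 : n18011 = n6916 := ((((iv D8772)).symm.trans (sb E1971 (iv D22979)))).symm
theorem E2226 : n10861 = n6915 := ((((iv D8770)).symm.trans (sb E1972 (iv D13976)))).symm
theorem E2228 : n11247 = n4391 := ((((iv D5490)).symm.trans (sb E1974 (iv D14436)))).symm
theorem E2229 : n11215 = n4392 := (((F26335).symm.trans (sb E1975 (iv F51665)))).symm
theorem E2230 : n18093 = n18060 := ((((iv F81143)).symm.trans (sb E1976 (iv D23051)))).symm
theorem E2231 : n11123 = n10906 := ((((iv F50185)).symm.trans (sb E1977 (iv D14283)))).symm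
theorem E2232 : n6974 = n6738 := ((((iv F31924)).symm.trans (sb E1978 (iv D8836)))).symm
theorem E2235 : n18024 = n2236 := ((((iv D3182)).symm.trans (sb E1981 (iv F80925)))).symm
theorem E2236 : n10878 = n4294 := ((((iv F20854)).symm.trans (sb E1982 (iv D13991)))).symm
theorem E2238 : n29091 = n10003 := ((((iv F46511)).symm.trans (sb E1984 (iv F129460)))).symm
theorem E2239 : n18214 = n10743 := ((((iv F49544)).symm.trans (sb E1984 F103554))).symm
theorem E2240 : n18213 = n6648 := ((((iv D8420)).symm.trans (sb E1984 (iv D23192)))).symm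
theorem E2241 : n18195 = n17796 := ((((iv F79981)).symm.trans (sb E1985 (iv F81796)))).symm
theorem E2242 : n17825 = n11014 := (((iv F80114)).symm.trans (sb E1985 F64273))
theorem E2243 : n11013 = n10739 := ((((iv D13813)).symm.trans (sb E1985 (iv D14165)))).symm
theorem E2244 : n11012 = n6646 := ((((iv D8418)).symm.trans (sb E1986 (iv D14164)))).symm
theorem E2245 : n18275 = n10996 := (((F64169).symm.trans (sb E1987 (iv F82222)))).symm
theorem E2246 : n11071 = n10995 := ((((iv D14142)).symm.trans (sb E1987 (iv D14223)))).symm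
theorem E2247 : n11093 = n6799 := ((((iv D8620)).symm.trans (sb E1988 (iv D14246)))).symm
theorem E2248 : n6853 = n6798 := ((((iv D8619)).symm.trans (sb E1989 (iv D8687)))).symm
theorem E2250 : n11091 = n4327 := ((((iv D5406)).symm.trans (sb E1991 (iv D14244)))).symm
theorem E2251 : n11049 = n4328 := (((F25937).symm.trans (sb E1992 (iv F50884)))).symm
theorem E2252 : n18410 = n10089 := ((((iv F46814)).symm.trans (sb E1993 F104470))).symm
theorem E2253 : n18409 = n6290 := ((((iv D7940)).symm.trans (sb E1993 (iv D23364)))).symm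
theorem E2254 : n11191 = n10869 := ((((iv F50009)).symm.trans (sb E1994 F65292))).symm
theorem E2255 : n11190 = n6710 := ((((iv D8506)).symm.trans (sb E1994 (iv D14374)))).symm
theorem E2256 : n11189 = n4278 := ((((iv D5343)).symm.trans (sb E1995 (iv D14373)))).symm
theorem E2257 : n10864 = n6911 := ((((iv D8766)).symm.trans (sb E1996 (iv D13980)))).symm
theorem E2258 : n6910 = n6706 := ((((iv D8502)).symm.trans (sb E1997 (iv D8765)))).symm
theorem E2259 : n11179 = n4277 := ((((iv D5341)).symm.trans (sb E1998 (iv F51503)))).symm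
theorem E2260 : n6947 = n4389 := ((((iv D5487)).symm.trans (sb E1999 (iv D8809)))).symm
theorem E2261 : n4409 = n4390 := (((F26323).symm.trans (sb E2000 (iv D5513)))).symm
theorem E2263 : n11216 = n2201 := ((((iv D3140)).symm.trans (sb E2002 (iv F51670)))).symm
theorem E2264 : n6924 = n2202 := (((F15199).symm.trans (sb E2003 (iv D8780)))).symm
theorem E2265 : n11219 = n1100 := (((F7868).symm.trans (sb E2006 F65433))).symm
theorem E2267 : n11176 = n2144 := ((((iv F10559)).symm.trans (sb E2007 (iv F51489)))).symm
theorem E2269 : n27060 = n3989 := ((((iv D5019)).symm.trans (sb E2008 (iv F120573)))).symm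
theorem E2270 : n18395 = n2131 := ((((iv D3044)).symm.trans (sb E2009 (iv D23350)))).symm
theorem E2271 : n18397 = n4184 := ((((iv F19972)).symm.trans (sb E2010 (iv F82817)))).symm
theorem E2272 : n11180 = n2130 := ((((iv D3043)).symm.trans (sb E2010 F65224))).symm
theorem E2274 : n29191 = n27046 := ((((iv F120489)).symm.trans (sb E2012 (iv F130047)))).symm
theorem E2276 : n18377 = n18320 := ((((iv D23286)).symm.trans (sb E2012 (iv D23340)))).symm
theorem E2280 : n28710 = n18153 := ((((iv D23123)).symm.trans (sb E2014 (iv F127667)))).symm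
theorem E2281 : n17872 = n11158 := (((iv F80313)).symm.trans (sb E2015 (iv D14331)))
theorem E2286 : n18038 = n10968 := ((((iv D14108)).symm.trans (sb E2018 (iv D22999)))).symm
theorem E2287 : n10884 = n6892 := (((F40862).symm.trans (sb E2019 (iv D14002)))).symm
theorem E2289 : n6731 = n6726 := (((iv F31893)).symm.trans (sb E2022 (iv D8521)))
theorem E2293 : n29005 = n26853 := ((((iv F119704)).symm.trans (sb E2024 (iv F129077)))).symm
theorem E2294 : n29013 = n28717 := ((((iv F127693)).symm.trans (sb E2024 (iv F129109)))).symm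
theorem E2295 : n28715 = n18146 := (((iv F127688)).symm.trans (sb E2024 F103185))
theorem E2296 : n18144 = n17817 := ((((iv D22790)).symm.trans (sb E2024 (iv D23112)))).symm
theorem E2300 : n28711 = n10971 := (((F64019).symm.trans (sb E2026 (iv F127672)))).symm
theorem E2301 : n17815 = n10970 := ((((iv D14111)).symm.trans (sb E2026 (iv D22787)))).symm
theorem E2303 : n18288 = n6773 := ((((iv D8586)).symm.trans (sb E2028 (iv D23256)))).symm
theorem E2304 : n18031 = n6774 := (((F40117).symm.trans (sb E2029 (iv F80972)))).symm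
theorem E2305 : n29186 = n16686 := (((F95691).symm.trans (sb E2030 (iv F130024)))).symm
theorem E2306 : n29193 = n27049 := ((((iv F120511)).symm.trans (sb E2030 (iv F130058)))).symm
theorem E2307 : n27048 = n18363 := (((iv F120505)).symm.trans (sb E2030 F104286))
theorem E2308 : n18361 = n16679 := ((((iv D21354)).symm.trans (sb E2030 (iv D23328)))).symm
theorem E2309 : n29184 = n10096 := (((F59223).symm.trans (sb E2031 (iv F130013)))).symm
theorem E2310 : n18360 = n10093 := ((((iv D12958)).symm.trans (sb E2031 (iv D23326)))).symm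
theorem E2312 : n18368 = n18008 := ((((iv D22977)).symm.trans (sb E2032 (iv D23333)))).symm
theorem E2313 : n18007 = n11151 := ((((iv D14323)).symm.trans (sb E2033 (iv D22976)))).symm
theorem E2314 : n11150 = n10858 := ((((iv D13972)).symm.trans (sb E2034 (iv D14321)))).symm
theorem E2315 : n18366 = n10559 := ((((iv F48765)).symm.trans (sb E2035 D18366))).symm
theorem E2317 : n28802 = n18096 := ((((iv D23057)).symm.trans (sb E2036 (iv F128066)))).symm
theorem E2318 : n17915 = n11125 := ((((iv D14286)).symm.trans (sb E2037 (iv F80460)))).symm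
theorem E2319 : n18005 = n6893 := ((((iv D8741)).symm.trans (sb E2038 (iv D22973)))).symm
theorem E2320 : n17866 = n10792 := ((((iv F49726)).symm.trans (sb E2039 F80291))).symm
theorem E2322 : n18030 = n4381 := ((((iv D5474)).symm.trans (sb E2041 F80966))).symm
theorem E2323 : n10882 = n6668 := ((((iv F31641)).symm.trans (sb E2042 F63462))).symm
theorem E2324 : n18054 = n10932 := ((((iv D14060)).symm.trans (sb E2045 (iv D23010)))).symm
theorem E2325 : n10897 = n6876 := ((((iv D8713)).symm.trans (sb E2046 (iv D14018)))).symm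
theorem E2326 : n6733 = n6725 := ((((iv F31865)).symm.trans (sb E2047 F39859))).symm
theorem E2328 : n10881 = n4290 := ((((iv F20836)).symm.trans (sb E2049 F63457))).symm
theorem E2330 : n10102 = n4292 := (((F25698).symm.trans (sb E2050 (iv F46874)))).symm
theorem E2331 : n28997 = n16520 := (((F94916).symm.trans (sb E2051 (iv F129047)))).symm
theorem E2332 : n28979 = n26818 := ((((iv F119550)).symm.trans (sb E2051 (iv F128967)))).symm
theorem E2333 : n26854 = n18142 := (((iv F119712)).symm.trans (sb E2051 F103168))
theorem E2334 : n18141 = n16515 := ((((iv D21159)).symm.trans (sb E2051 (iv D23108)))).symm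
theorem E2335 : n28996 = n10001 := (((F58788).symm.trans (sb E2052 (iv F129041)))).symm
theorem E2336 : n18140 = n9999 := ((((iv D12833)).symm.trans (sb E2052 (iv D23107)))).symm
theorem E2337 : n28981 = n28676 := ((((iv F127495)).symm.trans (sb E2053 (iv F128977)))).symm
theorem E2338 : n28678 = n18126 := (((iv F127506)).symm.trans (sb E2053 F103087))
theorem E2339 : n18125 = n17791 := ((((iv D22757)).symm.trans (sb E2053 (iv D23089)))).symm
theorem E2340 : n17818 = n10963 := ((((iv D14101)).symm.trans (sb E2054 (iv D22791)))).symm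
theorem E2341 : n10962 = n10735 := ((((iv D13808)).symm.trans (sb E2055 (iv D14100)))).symm
theorem E2344 : n18272 = n10951 := ((((iv D14083)).symm.trans (sb E2057 (iv D23246)))).symm
theorem E2345 : n11068 = n10950 := ((((iv D14082)).symm.trans (sb E2058 (iv D14220)))).symm
theorem E2347 : n6852 = n6771 := (((F40095).symm.trans (sb E2060 (iv D8683)))).symm
theorem E2349 : n18257 = n4312 := ((((iv D5384)).symm.trans (sb E2062 (iv F82112)))).symm
theorem E2350 : n11047 = n4313 := (((F25841).symm.trans (sb E2063 (iv D14200)))).symm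
theorem E2351 : n29180 = n15455 := ((((iv F70723)).symm.trans (sb E2064 (iv F129993)))).symm
theorem E2352 : n18357 = n16687 := ((((iv F75408)).symm.trans (sb E2064 F104259))).symm
theorem E2353 : n18356 = n10085 := ((((iv D12950)).symm.trans (sb E2064 (iv D23321)))).symm
theorem E2354 : n27075 = n9417 := ((((iv F44258)).symm.trans (sb E2065 (iv F120669)))).symm
theorem E2355 : n18355 = n6288 := ((((iv D7938)).symm.trans (sb E2065 (iv D23320)))).symm
theorem E2356 : n16680 = n11149 := ((((iv D14319)).symm.trans (sb E2066 (iv D21355)))).symm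
theorem E2357 : n11148 = n10081 := ((((iv D12945)).symm.trans (sb E2067 (iv D14318)))).symm
theorem E2358 : n18345 = n6287 := ((((iv D7936)).symm.trans (sb E2068 (iv F82585)))).symm
theorem E2359 : n10859 = n6887 := ((((iv D8733)).symm.trans (sb E2069 (iv D13973)))).symm
theorem E2360 : n6888 = n6705 := ((((iv D8498)).symm.trans (sb E2070 F40837))).symm
theorem E2361 : n18346 = n6538 := ((((iv F31070)).symm.trans (sb E2071 (iv F82589)))).symm
theorem E2363 : n6945 = n4378 := ((((iv D5471)).symm.trans (sb E2072 F41149))).symm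
theorem E2364 : n6923 = n4379 := (((F26270).symm.trans (sb E2073 (iv F32798)))).symm
theorem E2367 : n11213 = n2196 := (((F15164).symm.trans (sb E2075 F65401))).symm
theorem E2369 : n11172 = n4251 := ((((iv F20671)).symm.trans (sb E2076 (iv F51474)))).symm
theorem E2371 : n16699 = n2141 := ((((iv F10544)).symm.trans (sb E2078 (iv F75466)))).symm
theorem E2372 : n18431 = n1098 := ((((iv D1567)).symm.trans (sb E2078 (iv F83001)))).symm
theorem E2373 : n10104 = n4002 := ((((iv F19140)).symm.trans (sb E2080 F59261))).symm
theorem E2374 : n16716 = n5896 := ((((iv D7433)).symm.trans (sb E2082 (iv D21387)))).symm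
theorem E2376 : n16703 = n3988 := ((((iv D5018)).symm.trans (sb E2083 (iv D21374)))).symm
theorem E2377 : n15471 = n6168 := ((((iv F29524)).symm.trans (sb E2084 F89644))).symm
theorem E2378 : n15470 = n3987 := ((((iv D5017)).symm.trans (sb E2084 (iv D19764)))).symm
theorem E2379 : n15469 = n4183 := ((((iv D5221)).symm.trans (sb E2085 (iv D19763)))).symm
theorem E2381 : n18416 = n18018 := (((iv F82913)).symm.trans (sb E2088 F102499))
theorem E2384 : n18014 = n11194 := ((((iv D14380)).symm.trans (sb E2088 (iv D22982)))).symm
theorem E2389 : n18415 = n18017 := (((iv F82907)).symm.trans (sb E2092 F102494))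
theorem E2393 : n27047 = n18362 := ((((iv F82652)).symm.trans (sb E2095 (iv F120496)))).symm
theorem E2406 : n27050 = n25005 := ((((iv F112597)).symm.trans (sb E2103 (iv F120513)))).symm
theorem E2408 : n27041 = n18314 := (((iv F120458)).symm.trans (sb E2103 F104034))
theorem E2409 : n18313 = n16674 := ((((iv D21346)).symm.trans (sb E2103 (iv D23278)))).symm
theorem E2411 : n18001 = n11117 := ((((iv D14275)).symm.trans (sb E2105 (iv D22970)))).symm
theorem E2415 : n18084 = n17812 := ((((iv D22782)).symm.trans (sb E2106 (iv D23041)))).symm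
theorem E2416 : n17906 = n17854 := ((F80423).symm.trans (sb E2107 (iv F80235)))
theorem E2417 : n25046 = n15460 := ((((iv F70751)).symm.trans (sb E2108 (iv F112854)))).symm
theorem E2418 : n25039 = n16274 := ((((iv F73843)).symm.trans (sb E2108 (iv F112818)))).symm
theorem E2425 : n17908 = n10767 := ((((iv F49647)).symm.trans (sb E2112 (iv D22885)))).symm
theorem E2428 : n10791 = n10768 := (((F62916).symm.trans (sb E2114 F63020))).symm
theorem E2433 : n18049 = n6755 := ((((iv D8559)).symm.trans (sb E2117 F102668))).symm
theorem E2434 : n10894 = n6656 := ((((iv F31601)).symm.trans (sb E2118 F63533))).symm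
theorem E2436 : n10895 = n10583 := ((((iv F48888)).symm.trans (sb E2119 F63540))).symm
theorem E2437 : n10112 = n6658 := (((F39481).symm.trans (sb E2120 (iv F46922)))).symm
theorem E2438 : n10879 = n4293 := ((((iv D5358)).symm.trans (sb E2121 (iv F50055)))).symm
theorem E2440 : n10103 = n4291 := (((F25694).symm.trans (sb E2124 (iv F46879)))).symm
theorem E2444 : n6728 = n6300 := ((((iv F30071)).symm.trans (sb E2127 F39823))).symm
theorem E2446 : n10111 = n4287 := (((F25676).symm.trans (sb E2129 (iv F46917)))).symm
theorem E2448 : n6301 = n6299 := ((((iv F30065)).symm.trans (sb E2131 F37466))).symm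
theorem E2449 : n28914 = n24826 := ((((iv F111741)).symm.trans (sb E2132 (iv F128656)))).symm
theorem E2450 : n28904 = n26812 := ((((iv F119521)).symm.trans (sb E2132 (iv F128608)))).symm
theorem E2451 : n26846 = n18083 := (((iv F119674)).symm.trans (sb E2132 F102835))
theorem E2452 : n18082 = n16511 := ((((iv D21154)).symm.trans (sb E2132 (iv D23038)))).symm
theorem E2455 : n18071 = n17787 := ((((iv D22752)).symm.trans (sb E2133 (iv D23026)))).symm
theorem E2457 : n10928 = n10734 := ((((iv D13804)).symm.trans (sb E2135 F63735))).symm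
theorem E2458 : n25047 = n15336 := ((((iv F70218)).symm.trans (sb E2136 (iv F112860)))).symm
theorem E2459 : n25038 = n9998 := ((((iv D12831)).symm.trans (sb E2136 (iv F112811)))).symm
theorem E2463 : n18269 = n10919 := ((((iv D14040)).symm.trans (sb E2138 (iv D23243)))).symm
theorem E2464 : n11067 = n10920 := (((F63674).symm.trans (sb E2139 (iv D14217)))).symm
theorem E2466 : n11046 = n6753 := (((F39984).symm.trans (sb E2141 (iv F50870)))).symm
theorem E2469 : n18256 = n4304 := (((F25778).symm.trans (sb E2143 F102653))).symm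
theorem E2471 : n16713 = n6560 := ((((iv F31187)).symm.trans (sb E2144 (iv F75551)))).symm
theorem E2472 : n27086 = n15450 := (((F89521).symm.trans (sb E2145 (iv F120730)))).symm
theorem E2473 : n25006 = n18311 := (((iv F112609)).symm.trans (sb E2145 F104017))
theorem E2474 : n18310 = n15446 := ((((iv D19741)).symm.trans (sb E2145 (iv D23274)))).symm
theorem E2475 : n16675 = n11115 := ((((iv D14273)).symm.trans (sb E2146 (iv D21347)))).symm
theorem E2476 : n11116 = n10080 := ((((iv D12941)).symm.trans (sb E2147 F64857))).symm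
theorem E2478 : n16726 = n9415 := ((((iv D12036)).symm.trans (sb E2148 F95941))).symm
theorem E2480 : n15488 = n9414 := ((((iv D12034)).symm.trans (sb E2149 (iv D19780)))).symm
theorem E2481 : n15483 = n9858 := ((((iv F45919)).symm.trans (sb E2150 F89706))).symm
theorem E2483 : n10857 = n6872 := ((((iv D8708)).symm.trans (sb E2151 F63335))).symm
theorem E2484 : n10830 = n10761 := (((iv F49864)).symm.trans (sb E2152 (iv F49623)))
theorem E2488 : n11211 = n4371 := (((F26219).symm.trans (sb E2155 (iv F51648)))).symm
theorem E2490 : n11171 = n6654 := ((((iv F31591)).symm.trans (sb E2156 (iv F51471)))).symm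
theorem E2493 : n16712 = n4245 := ((((iv F20651)).symm.trans (sb E2159 (iv F75544)))).symm
theorem E2495 : n10114 = n6243 := ((((iv F29848)).symm.trans (sb E2161 F59317))).symm
theorem E2497 : n10113 = n3999 := ((((iv F19126)).symm.trans (sb E2164 F59312))).symm
theorem E2499 : n27070 = n1097 := ((((iv D1565)).symm.trans (sb E2165 D27070))).symm
theorem E2500 : n6305 = n5901 := ((((iv F28485)).symm.trans (sb E2166 F37476))).symm
theorem E2501 : n10120 = n5895 := ((((iv D7432)).symm.trans (sb E2167 (iv D12989)))).symm
theorem E2502 : n9439 = n9247 := ((((iv F43443)).symm.trans (sb E2169 F55880))).symm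
theorem E2503 : n9437 = n5894 := ((((iv D7431)).symm.trans (sb E2169 (iv D12062)))).symm
theorem E2504 : n9434 = n9246 := ((((iv F43434)).symm.trans (sb E2170 F55856))).symm
theorem E2505 : n9432 = n6167 := ((((iv D7773)).symm.trans (sb E2170 (iv D12057)))).symm
theorem E2507 : n9430 = n6551 := ((((iv F31138)).symm.trans (sb E2172 F55840))).symm
theorem E2511 : n23377 = n764 := ((((iv D1095)).symm.trans (sb E2175 (iv F104547)))).symm
theorem E2512 : n23240 = n7869 := ((((iv F37155)).symm.trans (sb E2176 (iv F103801)))).symm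
theorem E2513 : n14212 = n8412 := ((((iv F39398)).symm.trans (sb E2176 F82166))).symm
theorem E2514 : n14211 = n5289 := ((((iv D6649)).symm.trans (sb E2176 (iv D18266)))).symm
theorem E2515 : n14197 = n8674 := ((((iv F40568)).symm.trans (sb E2177 (iv F64446)))).symm
theorem E2516 : n8692 = n8659 := (((iv F40657)).symm.trans (sb E2177 F50952))
theorem E2517 : n8658 = n5447 := ((((iv D6859)).symm.trans (sb E2177 (iv D11061)))).symm
theorem E2518 : n8657 = n3122 := ((((iv D4367)).symm.trans (sb E2178 (iv D11060)))).symm
theorem E2519 : n14225 = n8644 := (((F50865).symm.trans (sb E2179 (iv F64615)))).symm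
theorem E2520 : n8671 = n8643 := ((((iv D11045)).symm.trans (sb E2179 (iv D11074)))).symm
theorem E2521 : n8690 = n5427 := ((((iv D6833)).symm.trans (sb E2180 (iv D11097)))).symm
theorem E2522 : n5444 = n5426 := ((((iv D6832)).symm.trans (sb E2181 (iv D6857)))).symm
theorem E2524 : n8688 = n3106 := ((((iv D4347)).symm.trans (sb E2183 (iv D11095)))).symm
theorem E2526 : n23382 = n7430 := ((((iv F35429)).symm.trans (sb E2185 (iv F104578)))).symm
theorem E2527 : n14415 = n7932 := ((((iv F37382)).symm.trans (sb E2185 F83082))).symm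
theorem E2528 : n14414 = n5014 := ((((iv D6291)).symm.trans (sb E2185 (iv D18444)))).symm
theorem E2529 : n8794 = n8507 := ((((iv F39754)).symm.trans (sb E2186 F51749))).symm
theorem E2530 : n8793 = n5335 := ((((iv D6712)).symm.trans (sb E2186 (iv D11231)))).symm
theorem E2531 : n8792 = n3040 := ((((iv D4279)).symm.trans (sb E2187 (iv D11230)))).symm
theorem E2532 : n5518 = n5505 := ((((iv D6938)).symm.trans (sb E2188 (iv D6953)))).symm
theorem E2533 : n5504 = n3153 := ((((iv D4413)).symm.trans (sb E2189 (iv D6937)))).symm
theorem E2534 : n8785 = n1554 := ((((iv D2218)).symm.trans (sb E2190 (iv F41056)))).symm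
theorem E2535 : n5516 = n3147 := ((((iv D4404)).symm.trans (sb E2191 (iv D6951)))).symm
theorem E2536 : n3152 = n3148 := (((F21376).symm.trans (sb E2192 (iv D4410)))).symm
theorem E2537 : n5498 = n1553 := ((((iv D2217)).symm.trans (sb E2193 (iv D6929)))).symm
theorem E2538 : n8783 = n1546 := ((((iv D2208)).symm.trans (sb E2194 (iv F41046)))).symm
theorem E2539 : n5496 = n1547 := (((F10879).symm.trans (sb E2195 (iv D6926)))).symm
theorem E2540 : n23378 = n776 := ((((iv D1109)).symm.trans (sb E2196 (iv F104554)))).symm
theorem E2541 : n8786 = n770 := (((F5623).symm.trans (sb E2197 F51694))).symm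
theorem E2542 : n14406 = n769 := ((((iv D1101)).symm.trans (sb E2197 (iv F65450)))).symm
theorem E2543 : n5499 = n771 := (((F5627).symm.trans (sb E2198 F32819))).symm
theorem E2544 : n23381 = n4707 := ((((iv F22979)).symm.trans (sb E2199 (iv F104573)))).symm
theorem E2545 : n23373 = n2794 := ((((iv D3990)).symm.trans (sb E2199 (iv F104523)))).symm
theorem E2546 : n14405 = n1490 := ((((iv D2132)).symm.trans (sb E2200 (iv D18435)))).symm
theorem E2547 : n769 = n761 := (((F5568).symm.trans (sb E2201 (tr (iv F65449) E2542)))).symm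
theorem E2548 : n770 = n760 := ((((iv D1091)).symm.trans (sb E2201 (tr F51706 E2541)))).symm
theorem E2550 : n771 = n762 := (((F5564).symm.trans (sb E2202 (tr F32832 E2543)))).symm
theorem E2554 : n23189 = n13816 := ((((iv F62782)).symm.trans (sb E2208 F129480))).symm
theorem E2555 : n23187 = n8419 := ((((iv D10753)).symm.trans (sb E2208 (iv D29094)))).symm
theorem E2556 : n23197 = n22798 := ((((iv F101709)).symm.trans (sb E2209 (iv F103575)))).symm
theorem E2557 : n22796 = n14163 := (((iv F101702)).symm.trans (sb E2209 F81907))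
theorem E2558 : n14161 = n13811 := ((((iv D17824)).symm.trans (sb E2209 (iv D18218)))).symm
theorem E2559 : n14160 = n8417 := ((((iv D10750)).symm.trans (sb E2210 (iv D18216)))).symm
theorem E2560 : n22793 = n14169 := ((((iv D18226)).symm.trans (sb E2211 (iv D28721)))).symm
theorem E2561 : n22792 = n8622 := ((((iv D11020)).symm.trans (sb E2212 (iv D28719)))).symm
theorem E2562 : n13809 = n8621 := ((((iv D11018)).symm.trans (sb E2213 (iv D17821)))).symm
theorem E2564 : n14242 = n5403 := ((((iv D6802)).symm.trans (sb E2215 (iv D18293)))).symm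
theorem E2565 : n14202 = n5404 := (((F32223).symm.trans (sb E2216 (iv F64475)))).symm
theorem E2566 : n23360 = n12953 := ((((iv F59203)).symm.trans (sb E2217 (iv F104450)))).symm
theorem E2567 : n23366 = n13983 := ((((iv F63401)).symm.trans (sb E2217 (iv F104483)))).symm
theorem E2568 : n14372 = n13982 := ((((iv F63397)).symm.trans (sb E2217 F82905))).symm
theorem E2569 : n14370 = n8504 := ((((iv D10868)).symm.trans (sb E2217 (iv D18414)))).symm
theorem E2570 : n23358 = n7939 := ((((iv F37408)).symm.trans (sb E2218 (iv F104439)))).symm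
theorem E2571 : n14369 = n5342 := ((((iv D6719)).symm.trans (sb E2218 (iv D18412)))).symm
theorem E2572 : n23370 = n22983 := (((D22983).symm.trans (sb E2219 D23370))).symm
theorem E2573 : n14377 = n13978 := ((((iv D18016)).symm.trans (sb E2219 (iv D18420)))).symm
theorem E2574 : n13977 = n8763 := ((((iv D11195)).symm.trans (sb E2220 (iv D18015)))).symm
theorem E2575 : n8762 = n8500 := ((((iv D10863)).symm.trans (sb E2221 (iv D11193)))).symm
theorem E2576 : n14375 = n8276 := ((((iv F38811)).symm.trans (sb E2222 D14375))).symm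
theorem E2577 : n23048 = n22932 := ((((iv F102268)).symm.trans (sb E2223 F128417))).symm
theorem E2578 : n14281 = n13926 := ((((iv F63183)).symm.trans (sb E2224 F80861))).symm
theorem E2579 : n13975 = n5488 := ((((iv D6916)).symm.trans (sb E2225 (iv D18011)))).symm
theorem E2580 : n13939 = n8468 := ((((iv F39608)).symm.trans (sb E2226 (iv F63231)))).symm
theorem E2582 : n14400 = n3139 := ((((iv D4391)).symm.trans (sb E2228 (iv F65420)))).symm
theorem E2583 : n13993 = n5314 := ((((iv F25532)).symm.trans (sb E2229 (iv F66005)))).symm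
theorem E2584 : n14056 = n14027 := ((((iv D18060)).symm.trans (sb E2230 (iv D18093)))).symm
theorem E2585 : n8712 = n8538 := ((((iv D10906)).symm.trans (sb E2231 (iv D11123)))).symm
theorem E2586 : n8518 = n5359 := (((F31923).symm.trans (sb E2232 (iv F39804)))).symm
theorem E2588 : n13992 = n3058 := ((((iv F14799)).symm.trans (sb E2235 F80924))).symm
theorem E2590 : n12963 = n3060 := (((F20853).symm.trans (sb E2236 (iv F59251)))).symm
theorem E2591 : n23185 = n12828 := ((((iv F58766)).symm.trans (sb E2238 F129463))).symm
theorem E2592 : n23184 = n7868 := ((((iv D10003)).symm.trans (sb E2238 (iv D29091)))).symm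
theorem E2593 : n23167 = n13793 := ((((iv F62671)).symm.trans (sb E2239 (iv F103434)))).symm
theorem E2594 : n14159 = n13817 := ((((iv F62787)).symm.trans (sb E2239 F81890))).symm
theorem E2595 : n14158 = n8410 := ((((iv D10743)).symm.trans (sb E2239 (iv D18214)))).symm
theorem E2596 : n14157 = n5288 := ((((iv D6648)).symm.trans (sb E2240 (iv D18213)))).symm
theorem E2597 : n23169 = n22761 := ((((iv F101535)).symm.trans (sb E2241 (iv F103444)))).symm
theorem E2598 : n22763 = n14141 := (((iv F101548)).symm.trans (sb E2241 F81798))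
theorem E2599 : n14140 = n13788 := ((((iv D17796)).symm.trans (sb E2241 (iv D18195)))).symm
theorem E2600 : n13812 = n8617 := ((((iv D11014)).symm.trans (sb E2242 (iv D17825)))).symm
theorem E2601 : n8616 = n8406 := ((((iv D10739)).symm.trans (sb E2243 (iv D11013)))).symm
theorem E2602 : n14149 = n5287 := ((((iv D6646)).symm.trans (sb E2244 (iv F64202)))).symm
theorem E2603 : n23247 = n14128 := ((((iv F64102)).symm.trans (sb E2245 (iv F103851)))).symm
theorem E2604 : n14222 = n8605 := ((((iv D10996)).symm.trans (sb E2245 (iv D18275)))).symm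
theorem E2605 : n8668 = n8604 := ((((iv D10995)).symm.trans (sb E2246 (iv D11071)))).symm
theorem E2606 : n8686 = n5401 := ((((iv D6799)).symm.trans (sb E2247 (iv D11093)))).symm
theorem E2607 : n5443 = n5402 := (((F32210).symm.trans (sb E2248 (iv D6853)))).symm
theorem E2609 : n14203 = n3091 := ((((iv D4327)).symm.trans (sb E2250 (iv F64482)))).symm
theorem E2610 : n8647 = n3092 := (((F21013).symm.trans (sb E2251 (iv D11049)))).symm
theorem E2611 : n23356 = n12031 := ((((iv F55717)).symm.trans (sb E2252 (iv F104430)))).symm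
theorem E2612 : n14368 = n12954 := ((((iv F59211)).symm.trans (sb E2252 F82882))).symm
theorem E2613 : n14367 = n7930 := ((((iv D10089)).symm.trans (sb E2252 (iv D18410)))).symm
theorem E2614 : n23355 = n7429 := ((((iv F35424)).symm.trans (sb E2253 (iv F104425)))).symm
theorem E2615 : n14366 = n5013 := ((((iv D6290)).symm.trans (sb E2253 (iv D18409)))).symm
theorem E2616 : n8761 = n8505 := ((((iv D10869)).symm.trans (sb E2254 (iv D11191)))).symm
theorem E2617 : n8760 = n5332 := ((((iv D6710)).symm.trans (sb E2255 (iv D11190)))).symm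
theorem E2618 : n14354 = n3039 := ((((iv D4278)).symm.trans (sb E2256 (iv F65201)))).symm
theorem E2619 : n8501 = n5484 := ((((iv D6911)).symm.trans (sb E2257 (iv D10864)))).symm
theorem E2620 : n5485 = n5331 := ((((iv D6706)).symm.trans (sb E2258 F32741))).symm
theorem E2621 : n14356 = n5206 := ((((iv F25051)).symm.trans (sb E2259 (iv F65211)))).symm
theorem E2622 : n8752 = n3038 := ((((iv D4277)).symm.trans (sb E2259 (iv D11179)))).symm
theorem E2623 : n5514 = n3137 := ((((iv D4389)).symm.trans (sb E2260 F32910))).symm
theorem E2624 : n5495 = n3138 := (((F21318).symm.trans (sb E2261 (iv F26360)))).symm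
theorem E2627 : n8781 = n1542 := (((F10842).symm.trans (sb E2263 F51669))).symm
theorem E2629 : n8749 = n3024 := ((((iv F14649)).symm.trans (sb E2264 (iv F40903)))).symm
theorem E2630 : n14355 = n1499 := ((((iv F7517)).symm.trans (sb E2265 (iv F65205)))).symm
theorem E2631 : n1490 = n768 := ((((iv D1100)).symm.trans (sb E2265 (tr (iv F65443) E2546)))).symm
theorem E2633 : n14405 = n768 := (E2546).trans E2631
theorem E2635 : n8753 = n1501 := (((F10558).symm.trans (sb E2267 F51488))).symm
theorem E2637 : n21371 = n2793 := ((((iv D3989)).symm.trans (sb E2269 (iv D27060)))).symm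
theorem E2638 : n21370 = n2936 := ((((iv F14241)).symm.trans (sb E2270 (iv F95777)))).symm
theorem E2639 : n1499 = n1489 := ((((iv D2131)).symm.trans (sb E2270 (tr F82807 E2630)))).symm
theorem E2640 : n14357 = n2935 := ((((iv D4184)).symm.trans (sb E2271 F82819))).symm
theorem E2641 : n14355 = n1489 := (E2630).trans E2639
theorem E2642 : n1501 = n1491 := (((F10491).symm.trans (sb E2272 (tr F51508 E2635)))).symm
theorem E2644 : n8753 = n1491 := (E2635).trans E2642
theorem E2645 : n23323 = n21351 := ((((iv D27046)).symm.trans (sb E2274 (iv D29191)))).symm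
theorem E2646 : n21349 = n14328 := ((F95667).symm.trans (sb E2276 (iv D18377)))
theorem E2650 : n22785 = n14105 := ((((iv D18153)).symm.trans (sb E2280 (iv D28710)))).symm
theorem E2651 : n13880 = n13850 := (((iv F63017)).symm.trans (sb E2281 (iv D17872)))
theorem E2654 : n14003 = n8583 := (((F50483).symm.trans (sb E2286 F81015))).symm
theorem E2655 : n8523 = n8445 := ((((iv F39526)).symm.trans (sb E2287 F50079))).symm
theorem E2656 : n7951 = n5351 := (((F31869).symm.trans (sb E2289 (iv F37472)))).symm
theorem E2658 : n23104 = n21157 := ((((iv D26853)).symm.trans (sb E2293 (iv D29005)))).symm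
theorem E2659 : n23111 = n22789 := ((((iv D28717)).symm.trans (sb E2294 (iv D29013)))).symm
theorem E2660 : n22788 = n14098 := ((((iv D18146)).symm.trans (sb E2295 (iv D28715)))).symm
theorem E2661 : n14097 = n13806 := ((((iv D17817)).symm.trans (sb E2296 (iv D18144)))).symm
theorem E2664 : n22786 = n8584 := ((((iv D10971)).symm.trans (sb E2300 (iv D28711)))).symm
theorem E2665 : n22704 = n13635 := ((((iv F62031)).symm.trans (sb E2301 (iv F101308)))).symm
theorem E2667 : n22994 = n5383 := ((((iv D6773)).symm.trans (sb E2303 (iv F102582)))).symm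
theorem E2668 : n13999 = n8314 := ((((iv F38980)).symm.trans (sb E2304 F80971))).symm
theorem E2669 : n23319 = n21360 := ((((iv F95722)).symm.trans (sb E2305 F130027))).symm
theorem E2670 : n23317 = n12948 := ((((iv D16686)).symm.trans (sb E2305 (iv D29186)))).symm
theorem E2671 : n23327 = n21353 := ((((iv D27049)).symm.trans (sb E2306 (iv D29193)))).symm
theorem E2672 : n21352 = n14316 := ((((iv D18363)).symm.trans (sb E2307 (iv D27048)))).symm
theorem E2673 : n14315 = n12943 := ((((iv D16679)).symm.trans (sb E2308 (iv D18361)))).symm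
theorem E2674 : n23316 = n7937 := ((((iv D10096)).symm.trans (sb E2309 (iv D29184)))).symm
theorem E2675 : n23325 = n12642 := ((((iv F58024)).symm.trans (sb E2310 D23325))).symm
theorem E2676 : n22874 = n14284 := (((F80840).symm.trans (sb E2312 (iv F102012)))).symm
theorem E2677 : n13971 = n8731 := ((((iv D11151)).symm.trans (sb E2313 (iv D18007)))).symm
theorem E2678 : n13936 = n13872 := (((iv F63224)).symm.trans (sb E2314 (iv F62992)))
theorem E2679 : n23306 = n8275 := ((((iv D10559)).symm.trans (sb E2315 (iv F104187)))).symm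
theorem E2681 : n22890 = n14058 := ((((iv D18096)).symm.trans (sb E2317 (iv D28802)))).symm
theorem E2682 : n13886 = n13846 := ((((iv F62907)).symm.trans (sb E2318 (iv D17915)))).symm
theorem E2683 : n22840 = n8446 := ((((iv F39530)).symm.trans (sb E2319 F101889))).symm
theorem E2684 : n13848 = n8447 := (((F49725).symm.trans (sb E2320 F80290))).symm
theorem E2687 : n13998 = n5303 := ((((iv F25490)).symm.trans (sb E2322 F80964))).symm
theorem E2689 : n12967 = n5305 := (((F31640).symm.trans (sb E2323 (iv F59272)))).symm
theorem E2690 : n14019 = n8558 := ((((iv D10932)).symm.trans (sb E2324 F81109))).symm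
theorem E2691 : n8533 = n8429 := ((((iv F39474)).symm.trans (sb E2325 F50139))).symm
theorem E2693 : n7945 = n5356 := (((iv F37444)).symm.trans (sb E2326 F31902))
theorem E2695 : n12966 = n3056 := (((F20835).symm.trans (sb E2328 (iv F59267)))).symm
theorem E2697 : n7946 = n5027 := ((((iv F24285)).symm.trans (sb E2330 F46873))).symm
theorem E2698 : n23100 = n21165 := ((((iv F94942)).symm.trans (sb E2331 F129050))).symm
theorem E2699 : n23099 = n12824 := ((((iv D16520)).symm.trans (sb E2331 (iv D28997)))).symm
theorem E2700 : n23084 = n21130 := ((((iv D26818)).symm.trans (sb E2332 (iv D28979)))).symm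
theorem E2701 : n21158 = n14096 := ((((iv D18142)).symm.trans (sb E2333 (iv D26854)))).symm
theorem E2702 : n14095 = n12820 := ((((iv D16515)).symm.trans (sb E2334 (iv D18141)))).symm
theorem E2703 : n23098 = n7866 := ((((iv D10001)).symm.trans (sb E2335 (iv D28996)))).symm
theorem E2704 : n23090 = n7865 := ((((iv D9999)).symm.trans (sb E2336 (iv F103091)))).symm
theorem E2705 : n23086 = n22754 := ((((iv D28676)).symm.trans (sb E2337 (iv D28981)))).symm
theorem E2706 : n22756 = n14081 := ((((iv D18126)).symm.trans (sb E2338 (iv D28678)))).symm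
theorem E2707 : n14080 = n13784 := ((((iv D17791)).symm.trans (sb E2339 (iv D18125)))).symm
theorem E2708 : n13807 = n8578 := ((((iv D10963)).symm.trans (sb E2340 (iv D17818)))).symm
theorem E2709 : n8579 = n8405 := ((((iv D10735)).symm.trans (sb E2341 F50457))).symm
theorem E2713 : n14219 = n8570 := ((((iv D10951)).symm.trans (sb E2344 (iv D18272)))).symm
theorem E2714 : n8667 = n8571 := (((F50406).symm.trans (sb E2345 (iv D11068)))).symm
theorem E2716 : n8646 = n5381 := (((F32084).symm.trans (sb E2347 (iv F40417)))).symm
theorem E2719 : n14201 = n3078 := (((F20941).symm.trans (sb E2349 F82111))).symm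
theorem E2721 : n14144 = n5235 := ((((iv F25189)).symm.trans (sb E2350 (iv F64176)))).symm
theorem E2722 : n23313 = n19752 := ((((iv F89577)).symm.trans (sb E2351 F129997))).symm
theorem E2723 : n23312 = n12027 := ((((iv D15455)).symm.trans (sb E2351 (iv D29180)))).symm
theorem E2724 : n14313 = n12949 := ((((iv D16687)).symm.trans (sb E2352 (iv D18357)))).symm
theorem E2725 : n14312 = n7926 := ((((iv D10085)).symm.trans (sb E2353 (iv D18356)))).symm
theorem E2726 : n21388 = n7427 := ((((iv D9417)).symm.trans (sb E2354 F120674))).symm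
theorem E2727 : n21375 = n5012 := ((((iv D6288)).symm.trans (sb E2355 F95817))).symm
theorem E2728 : n12944 = n8729 := ((((iv D11149)).symm.trans (sb E2356 (iv D16680)))).symm
theorem E2729 : n8730 = n7925 := ((((iv D10081)).symm.trans (sb E2357 F51383))).symm
theorem E2730 : n19765 = n7761 := ((((iv F36703)).symm.trans (sb E2358 (iv F89652)))).symm
theorem E2731 : n14302 = n5011 := ((((iv D6287)).symm.trans (sb E2358 (iv D18345)))).symm
theorem E2732 : n8499 = n5470 := ((((iv D6887)).symm.trans (sb E2359 F49963))).symm
theorem E2733 : n8476 = n8441 := (((iv F39637)).symm.trans (sb E2360 (iv F39514)))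
theorem E2735 : n14304 = n5205 := ((((iv D6538)).symm.trans (sb E2361 (iv D18346)))).symm
theorem E2737 : n8779 = n3130 := (((F21270).symm.trans (sb E2363 (iv F41027)))).symm
theorem E2739 : n8748 = n5301 := ((((iv F25481)).symm.trans (sb E2364 (iv F40899)))).symm
theorem E2742 : n14349 = n3018 := ((((iv F14623)).symm.trans (sb E2367 (iv F65179)))).symm
theorem E2743 : n14398 = n1538 := ((((iv D2196)).symm.trans (sb E2367 D14398))).symm
theorem E2744 : n12969 = n4986 := ((((iv F24121)).symm.trans (sb E2369 (iv F65957)))).symm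
theorem E2745 : n12968 = n2803 := ((((iv F13644)).symm.trans (sb E2371 F75465))).symm
theorem E2746 : n2793 = n1497 := ((((iv D2141)).symm.trans (sb E2371 (tr D21371 E2637)))).symm
theorem E2747 : n21371 = n1497 := (E2637).trans E2746
theorem E2748 : n2794 = n767 := ((((iv D1098)).symm.trans (sb E2372 (tr D23373 E2545)))).symm
theorem E2749 : n12046 = n2806 := (((F19139).symm.trans (sb E2373 (iv F55800)))).symm
theorem E2750 : n12981 = n4705 := ((((iv D5896)).symm.trans (sb E2374 (iv D16716)))).symm
theorem E2751 : n12970 = n4922 := ((((iv F23841)).symm.trans (sb E2376 F75492))).symm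
theorem E2752 : n2803 = n2792 := ((((iv D3988)).symm.trans (sb E2376 (tr (iv D16703) E2745)))).symm
theorem E2753 : n12049 = n7300 := ((((iv F34782)).symm.trans (sb E2377 F70818))).symm
theorem E2754 : n12047 = n4921 := ((((iv D6168)).symm.trans (sb E2377 (iv D15471)))).symm
theorem E2755 : n12968 = n2792 := (E2745).trans E2752
theorem E2756 : n2806 = n2795 := (((F19067).symm.trans (sb E2378 (tr (iv D15470) E2749)))).symm
theorem E2757 : n12045 = n5217 := ((((iv F25106)).symm.trans (sb E2379 F70805))).symm
theorem E2759 : n12046 = n2795 := (E2749).trans E2756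
theorem E2760 : n23362 = n21363 := ((((iv F95732)).symm.trans (sb E2381 (iv F104459)))).symm
theorem E2762 : n23368 = n22985 := (((D22985).symm.trans (sb E2381 D23368))).symm
theorem E2763 : n14371 = n13981 := ((((iv D18018)).symm.trans (sb E2381 (iv D18416)))).symm
theorem E2764 : n22942 = n13918 := ((((iv F63150)).symm.trans (sb E2384 (iv F102312)))).symm
theorem E2770 : n22949 = n22921 := (((iv F102342)).symm.trans (sb E2389 (iv F102214)))
theorem E2771 : n23318 = n21359 := (((iv F104243)).symm.trans (sb E2393 F120495))
theorem E2780 : n23315 = n21356 := ((F112601).symm.trans (sb E2406 (iv D27050)))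
theorem E2781 : n23273 = n19739 := ((((iv D25005)).symm.trans (sb E2406 F120517))).symm
theorem E2783 : n21345 = n14271 := ((((iv D18314)).symm.trans (sb E2408 (iv D27041)))).symm
theorem E2784 : n22824 = n21305 := ((((iv F95490)).symm.trans (sb E2409 (iv F101817)))).symm
theorem E2787 : n22882 = n13838 := ((((iv F62875)).symm.trans (sb E2411 F102042))).symm
theorem E2789 : n22701 = n22396 := (((iv F101297)).symm.trans (sb E2415 (iv F100080)))
theorem E2790 : n13934 = n13839 := (((F80234).symm.trans (sb E2416 F80422))).symm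
theorem E2792 : n21399 = n12035 := (((F70750).symm.trans (sb E2417 F112853))).symm
theorem E2793 : n19784 = n19327 := ((((iv F87604)).symm.trans (sb E2417 F112856))).symm
theorem E2794 : n19775 = n12641 := ((((iv D16274)).symm.trans (sb E2418 (iv D25039)))).symm
theorem E2798 : n13883 = n8430 := ((((iv D10767)).symm.trans (sb E2425 F80429))).symm
theorem E2804 : n12876 = n8432 := (((F49650).symm.trans (sb E2428 (iv F58954)))).symm
theorem E2807 : n14015 = n8295 := ((((iv F38907)).symm.trans (sb E2433 F81081))).symm
theorem E2809 : n12979 = n5295 := (((F31600).symm.trans (sb E2434 (iv F59328)))).symm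
theorem E2811 : n12980 = n8297 := (((F48887).symm.trans (sb E2436 (iv F59332)))).symm
theorem E2812 : n7954 = n7878 := ((((iv F37194)).symm.trans (sb E2437 F46921))).symm
theorem E2813 : n12964 = n3059 := (((F20848).symm.trans (sb E2438 (iv F59256)))).symm
theorem E2814 : n7947 = n5026 := ((((iv F24280)).symm.trans (sb E2440 F46878))).symm
theorem E2819 : n7948 = n5025 := (((F30070).symm.trans (sb E2444 (iv F37457)))).symm
theorem E2821 : n7953 = n5022 := ((((iv F24260)).symm.trans (sb E2446 F46916))).symm
theorem E2823 : n7438 = n5028 := (((iv F35479)).symm.trans (sb E2448 F30074))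
theorem E2824 : n23032 = n19584 := ((((iv D24826)).symm.trans (sb E2449 (iv D28914)))).symm
theorem E2825 : n23022 = n21126 := ((((iv D26812)).symm.trans (sb E2450 (iv D28904)))).symm
theorem E2826 : n21153 = n14048 := ((((iv D18083)).symm.trans (sb E2451 (iv D26846)))).symm
theorem E2827 : n14049 = n12819 := ((((iv D16511)).symm.trans (sb E2452 F81260))).symm
theorem E2830 : n14038 = n13783 := ((((iv D17787)).symm.trans (sb E2455 F81200))).symm
theorem E2832 : n13751 = n13590 := (((iv F62503)).symm.trans (sb E2457 (iv F61865)))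
theorem E2834 : n21401 = n11941 := (((F70217).symm.trans (sb E2458 F112859))).symm
theorem E2835 : n19781 = n11940 := ((((iv D15336)).symm.trans (sb E2458 F112863))).symm
theorem E2836 : n19776 = n12501 := ((((iv F57548)).symm.trans (sb E2459 F112810))).symm
theorem E2841 : n14218 = n8548 := ((((iv D10919)).symm.trans (sb E2463 F82187))).symm
theorem E2842 : n14183 = n8549 := (((F50256).symm.trans (sb E2464 (iv F64374)))).symm
theorem E2846 : n14143 = n8293 := ((((iv F38896)).symm.trans (sb E2466 (iv F64173)))).symm
theorem E2849 : n21384 = n5226 := ((((iv F25154)).symm.trans (sb E2469 (iv F95869)))).symm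
theorem E2850 : n23235 = n3068 := ((((iv D4304)).symm.trans (sb E2469 D23235))).symm
theorem E2851 : n12984 = n7780 := ((((iv F36789)).symm.trans (sb E2471 F75550))).symm
theorem E2852 : n23272 = n19745 := ((((iv F89543)).symm.trans (sb E2472 (iv F120736)))).symm
theorem E2853 : n21400 = n12023 := ((((iv D15450)).symm.trans (sb E2472 F120735))).symm
theorem E2854 : n19740 = n14269 := ((((iv D18311)).symm.trans (sb E2473 (iv D25006)))).symm
theorem E2855 : n14270 = n12022 := ((((iv D15446)).symm.trans (sb E2474 F82416))).symm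
theorem E2856 : n12942 = n8707 := ((((iv D11115)).symm.trans (sb E2475 F75357))).symm
theorem E2857 : n13837 = n12915 := ((((iv F59070)).symm.trans (sb E2476 (iv F62870)))).symm
theorem E2859 : n12990 = n7426 := ((((iv D9415)).symm.trans (sb E2478 (iv D16726)))).symm
theorem E2860 : n12066 = n11795 := ((((iv F54616)).symm.trans (sb E2480 F70922))).symm
theorem E2861 : n12063 = n7425 := ((((iv D9414)).symm.trans (sb E2480 F70923))).symm
theorem E2862 : n12060 = n11803 := ((((iv F54663)).symm.trans (sb E2481 F70895))).symm
theorem E2865 : n13935 = n8425 := ((((iv F39458)).symm.trans (sb E2483 (iv F63220)))).symm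
theorem E2867 : n13893 = n8427 := (((F49622).symm.trans (sb E2484 (iv F63055)))).symm
theorem E2872 : n14347 = n5293 := ((((iv F25450)).symm.trans (sb E2488 (iv F65173)))).symm
theorem E2875 : n12983 = n7874 := ((((iv F37178)).symm.trans (sb E2490 (iv F66033)))).symm
theorem E2878 : n12982 = n4980 := ((((iv F24096)).symm.trans (sb E2493 F75543))).symm
theorem E2879 : n21383 = n3014 := ((((iv D4245)).symm.trans (sb E2493 (iv F95863)))).symm
theorem E2881 : n7959 = n7382 := ((((iv F35221)).symm.trans (sb E2495 F46929))).symm
theorem E2882 : n7958 = n4711 := ((((iv F23006)).symm.trans (sb E2497 F46924))).symm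
theorem E2883 : n4705 = n2801 := ((((iv D3999)).symm.trans (sb E2497 (tr D12981 E2750)))).symm
theorem E2884 : n12981 = n2801 := (E2750).trans E2883
theorem E2888 : n4707 = n766 := ((((iv D1097)).symm.trans (sb E2499 (tr F120638 E2544)))).symm
theorem E2889 : n7444 = n4714 := (((F28484).symm.trans (sb E2500 (iv F35507)))).symm
theorem E2890 : n7960 = n7302 := ((((iv F34797)).symm.trans (sb E2501 F46957))).symm
theorem E2891 : n4711 = n4704 := ((((iv D5895)).symm.trans (sb E2501 (tr (iv D10120) E2882)))).symm
theorem E2892 : n7772 = n7447 := ((F43442).symm.trans (sb E2502 F44380))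
theorem E2893 : n7445 = n7301 := ((((iv D9247)).symm.trans (sb E2502 (iv D9439)))).symm
theorem E2894 : n7958 = n4704 := (E2882).trans E2891
theorem E2895 : n4714 = n4708 := (((F28446).symm.trans (sb E2503 (tr (iv D9437) E2889)))).symm
theorem E2896 : n7442 = n7299 := ((((iv D9246)).symm.trans (sb E2504 (iv D9434)))).symm
theorem E2897 : n7441 = n7123 := ((((iv F33866)).symm.trans (sb E2505 F44347))).symm
theorem E2899 : n7444 = n4708 := (E2889).trans E2895
theorem E2900 : n7439 = n5218 := (((F31140).symm.trans (sb E2507 (iv D9430)))).symm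
theorem E2902 : n18436 = n532 := (((F3971).symm.trans (sb E2511 (iv D23377)))).symm
theorem E2903 : n29137 = n9348 := ((((iv F43959)).symm.trans (sb E2512 (iv F129712)))).symm
theorem E2904 : n18265 = n9995 := ((((iv F46477)).symm.trans (sb E2512 F103805))).symm
theorem E2905 : n18264 = n6236 := ((((iv D7869)).symm.trans (sb E2512 (iv D23240)))).symm
theorem E2906 : n18254 = n10726 := ((((iv F49465)).symm.trans (sb E2513 (iv F82091)))).symm
theorem E2907 : n11059 = n10744 := ((((iv F49550)).symm.trans (sb E2513 F64533))).symm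
theorem E2908 : n11058 = n6640 := ((((iv D8412)).symm.trans (sb E2513 (iv D14212)))).symm
theorem E2909 : n11057 = n4240 := ((((iv D5289)).symm.trans (sb E2514 (iv D14211)))).symm
theorem E2910 : n18255 = n11066 := ((((iv F50984)).symm.trans (sb E2515 (iv F82098)))).symm
theorem E2911 : n11076 = n11044 := (((iv F51041)).symm.trans (sb E2515 F64448))
theorem E2912 : n11043 = n6843 := ((((iv D8674)).symm.trans (sb E2515 (iv D14197)))).symm
theorem E2913 : n6858 = n6830 := ((((iv D8659)).symm.trans (sb E2516 (iv D8692)))).symm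
theorem E2914 : n6829 = n4359 := ((((iv D5447)).symm.trans (sb E2517 (iv D8658)))).symm
theorem E2915 : n11052 = n2188 := ((((iv D3122)).symm.trans (sb E2518 (iv F50903)))).symm
theorem E2916 : n18276 = n11031 := ((((iv F50789)).symm.trans (sb E2519 (iv F82229)))).symm
theorem E2918 : n6840 = n6818 := ((((iv D8643)).symm.trans (sb E2520 (iv D8671)))).symm
theorem E2919 : n6856 = n4344 := ((((iv D5427)).symm.trans (sb E2521 (iv D8690)))).symm
theorem E2920 : n4358 = n4345 := (((F26049).symm.trans (sb E2522 (iv D5444)))).symm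
theorem E2922 : n11051 = n2176 := ((((iv D3106)).symm.trans (sb E2524 (iv F50897)))).symm
theorem E2924 : n18442 = n9411 := ((((iv F44233)).symm.trans (sb E2526 F104582))).symm
theorem E2925 : n18441 = n5892 := ((((iv D7430)).symm.trans (sb E2526 (iv D23382)))).symm
theorem E2927 : n11228 = n6282 := ((((iv D7932)).symm.trans (sb E2527 (iv D14415)))).symm
theorem E2928 : n11227 = n3985 := ((((iv D5014)).symm.trans (sb E2528 (iv D14414)))).symm
theorem E2929 : n6935 = n6711 := ((((iv D8507)).symm.trans (sb E2529 (iv D8794)))).symm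
theorem E2930 : n6934 = n4271 := ((((iv D5335)).symm.trans (sb E2530 (iv D8793)))).symm
theorem E2931 : n11218 = n2128 := ((((iv D3040)).symm.trans (sb E2531 (iv F51678)))).symm
theorem E2932 : n4412 = n4401 := ((((iv D5505)).symm.trans (sb E2532 (iv D5518)))).symm
theorem E2933 : n4402 = n2211 := ((((iv D3153)).symm.trans (sb E2533 F26403))).symm
theorem E2934 : n11220 = n1088 := (((F7788).symm.trans (sb E2534 (iv F51688)))).symm
theorem E2935 : n6927 = n1087 := ((((iv D1554)).symm.trans (sb E2534 (iv D8785)))).symm
theorem E2936 : n4411 = n2206 := ((((iv D3147)).symm.trans (sb E2535 F26456))).symm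
theorem E2937 : n4396 = n2207 := (((F15233).symm.trans (sb E2536 (iv F21344)))).symm
theorem E2938 : n4398 = n2210 := (((iv F21353)).symm.trans (sb E2536 (iv D3152)))
theorem E2939 : n4397 = n1089 := (((F7784).symm.trans (sb E2537 (iv D5498)))).symm
theorem E2940 : n1087 = n1082 := (((F7752).symm.trans (sb E2538 (tr F41045 E2935)))).symm
theorem E2941 : n1088 = n1081 := ((((iv D1546)).symm.trans (sb E2538 (tr D11220 E2934)))).symm
theorem E2942 : n1089 = n1086 := (((F7756).symm.trans (sb E2539 (tr F26364 E2939)))).symm
theorem E2943 : n6927 = n1082 := (E2935).trans E2940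
theorem E2944 : n542 = n532 := (((iv D776)).symm.trans (sb E2540 (tr (iv D23378) E2902)))
theorem E2947 : n23381 = n766 := (E2544).trans E2888
theorem E2948 : n5892 = n1072 := ((((iv F5478)).symm.trans (sb E2947 (tr (iv D23381) E2925)))).symm
theorem E2949 : n2128 = n1078 := ((((iv F5507)).symm.trans (sb E2633 (tr (iv D14405) E2931)))).symm
theorem E2950 : n1099 = n1039 := ((((iv F5304)).symm.trans (sb E2547 (iv F5612)))).symm
theorem E2951 : n1091 = n537 := (((iv F5568)).symm.trans (sb E2547 (iv D769)))
theorem E2953 : n1100 = n1038 := ((((iv F5299)).symm.trans (sb E2548 (iv F5617)))).symm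
theorem E2954 : n1090 = n538 := ((D1090).symm.trans (sb E2548 F4005))
theorem E2956 : n1092 = n1049 := ((D1092).symm.trans (sb E2550 (iv F5356)))
theorem E2964 : n29088 = n16523 := ((((iv F74810)).symm.trans (sb E2554 (iv F129449)))).symm
theorem E2965 : n29096 = n17829 := ((((iv F80130)).symm.trans (sb E2554 (iv F129489)))).symm
theorem E2966 : n18212 = n17827 := ((((iv F80123)).symm.trans (sb E2554 F103540))).symm
theorem E2967 : n18210 = n10741 := ((((iv D13816)).symm.trans (sb E2554 (iv D23189)))).symm
theorem E2968 : n29086 = n10002 := ((((iv F46507)).symm.trans (sb E2555 (iv F129441)))).symm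
theorem E2970 : n29073 = n28684 := ((((iv F127539)).symm.trans (sb E2556 (iv F129375)))).symm
theorem E2972 : n28723 = n18220 := (((iv F127722)).symm.trans (sb E2556 F103576))
theorem E2974 : n18217 = n17823 := ((((iv D22798)).symm.trans (sb E2556 (iv D23197)))).symm
theorem E2975 : n17822 = n11011 := ((((iv D14163)).symm.trans (sb E2557 (iv D22796)))).symm
theorem E2976 : n11010 = n10737 := ((((iv D13811)).symm.trans (sb E2558 (iv D14161)))).symm
theorem E2977 : n18215 = n10389 := ((((iv F48097)).symm.trans (sb E2559 D18215))).symm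
theorem E2979 : n28623 = n17675 := ((((iv F79502)).symm.trans (sb E2560 (iv F127286)))).symm
theorem E2980 : n17820 = n6800 := ((((iv D8622)).symm.trans (sb E2561 (iv D22792)))).symm
theorem E2981 : n17752 = n10652 := ((((iv F49166)).symm.trans (sb E2562 (iv F79798)))).symm
theorem E2983 : n18259 = n4326 := ((((iv D5403)).symm.trans (sb E2564 (iv F82124)))).symm
theorem E2984 : n18027 = n6592 := ((((iv F31324)).symm.trans (sb E2565 (iv F80944)))).symm
theorem E2985 : n18408 = n16689 := ((((iv F75417)).symm.trans (sb E2566 F104453))).symm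
theorem E2986 : n18406 = n10087 := ((((iv D12953)).symm.trans (sb E2566 (iv D23360)))).symm
theorem E2987 : n18413 = n10867 := ((((iv D13983)).symm.trans (sb E2567 (iv D23366)))).symm
theorem E2988 : n11188 = n10866 := ((((iv D13982)).symm.trans (sb E2568 (iv D14372)))).symm
theorem E2989 : n11187 = n6708 := ((((iv D8504)).symm.trans (sb E2569 (iv D14370)))).symm
theorem E2990 : n18405 = n6289 := ((((iv D7939)).symm.trans (sb E2570 (iv D23358)))).symm
theorem E2991 : n18411 = n6540 := ((((iv F31080)).symm.trans (sb E2571 D18411))).symm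
theorem E2992 : n28841 = n28829 := (((iv F128265)).symm.trans (sb E2572 (iv F128203)))
theorem E2993 : n17975 = n17952 := (((iv F80704)).symm.trans (sb E2573 (iv F80608)))
theorem E2994 : n10862 = n6909 := ((((iv D8763)).symm.trans (sb E2574 (iv D13977)))).symm
theorem E2995 : n10833 = n10815 := (((iv F49873)).symm.trans (sb E2575 (iv F49810)))
theorem E2996 : n18396 = n6539 := ((((iv D8276)).symm.trans (sb E2576 (iv F82812)))).symm
theorem E2999 : n18091 = n17961 := ((((iv D22932)).symm.trans (sb E2577 (iv D23048)))).symm
theorem E3000 : n17861 = n10823 := ((((iv D13926)).symm.trans (sb E2578 (iv F80265)))).symm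
theorem E3001 : n17972 = n6681 := ((((iv F31689)).symm.trans (sb E2579 (iv F80689)))).symm
theorem E3002 : n17863 = n6682 := (((F39607).symm.trans (sb E2580 (iv F80275)))).symm
theorem E3005 : n18026 = n4257 := ((((iv F20698)).symm.trans (sb E2582 (iv F80938)))).symm
theorem E3007 : n11174 = n4259 := (((F25531).symm.trans (sb E2583 F66004))).symm
theorem E3008 : n10931 = n10907 := (((F63611).symm.trans (sb E2584 (iv D14056)))).symm
theorem E3009 : n10764 = n6741 := (((F39895).symm.trans (sb E2585 (iv F49636)))).symm
theorem E3011 : n10101 = n4295 := (((F25717).symm.trans (sb E2586 (iv F46869)))).symm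
theorem E3013 : n16698 = n2143 := (((F14798).symm.trans (sb E2588 (iv F75458)))).symm
theorem E3014 : n18025 = n2142 := ((((iv D3058)).symm.trans (sb E2588 D18025))).symm
theorem E3015 : n11178 = n2146 := (((F14807).symm.trans (sb E2590 F66006))).symm
theorem E3016 : n29084 = n15333 := ((((iv F70199)).symm.trans (sb E2591 (iv F129432)))).symm
theorem E3017 : n29066 = n16500 := ((((iv F74705)).symm.trans (sb E2591 (iv F129335)))).symm
theorem E3018 : n18208 = n16524 := ((((iv F74818)).symm.trans (sb E2591 F103519))).symm
theorem E3019 : n18207 = n9993 := ((((iv D12828)).symm.trans (sb E2591 (iv D23185)))).symm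
theorem E3020 : n29083 = n9347 := ((((iv F43954)).symm.trans (sb E2592 (iv F129426)))).symm
theorem E3021 : n18206 = n6235 := ((((iv D7868)).symm.trans (sb E2592 (iv D23184)))).symm
theorem E3022 : n29070 = n17800 := ((((iv F79994)).symm.trans (sb E2593 (iv F129358)))).symm
theorem E3023 : n18191 = n17802 := ((((iv F80005)).symm.trans (sb E2593 F103436))).symm
theorem E3024 : n18190 = n10723 := ((((iv D13793)).symm.trans (sb E2593 (iv D23167)))).symm
theorem E3025 : n11009 = n10742 := ((((iv D13817)).symm.trans (sb E2594 (iv D14159)))).symm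
theorem E3026 : n11008 = n6637 := ((((iv D8410)).symm.trans (sb E2595 (iv D14158)))).symm
theorem E3027 : n18199 = n4239 := ((((iv D5288)).symm.trans (sb E2596 (iv F81818)))).symm
theorem E3029 : n18192 = n17793 := ((((iv D22761)).symm.trans (sb E2597 (iv D23169)))).symm
theorem E3030 : n28685 = n18179 := ((((iv F81725)).symm.trans (sb E2598 (iv F127545)))).symm
theorem E3031 : n17795 = n10994 := ((((iv D14141)).symm.trans (sb E2598 (iv D22763)))).symm
theorem E3032 : n10993 = n10719 := ((((iv D13788)).symm.trans (sb E2599 (iv D14140)))).symm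
theorem E3033 : n10738 = n6796 := ((((iv D8617)).symm.trans (sb E2600 (iv D13812)))).symm
theorem E3034 : n6797 = n6636 := ((((iv D8406)).symm.trans (sb E2601 F40263))).symm
theorem E3036 : n11002 = n4238 := ((((iv D5287)).symm.trans (sb E2602 (iv D14149)))).symm
theorem E3037 : n18274 = n10984 := ((((iv D14128)).symm.trans (sb E2603 (iv D23247)))).symm
theorem E3038 : n11070 = n6788 := ((((iv D8605)).symm.trans (sb E2604 (iv D14222)))).symm
theorem E3039 : n6839 = n6789 := (((F40211).symm.trans (sb E2605 (iv D8668)))).symm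
theorem E3040 : n6854 = n4324 := ((((iv D5401)).symm.trans (sb E2606 F40625))).symm
theorem E3041 : n6821 = n4325 := (((F25922).symm.trans (sb E2607 (iv F32333)))).symm
theorem E3044 : n11050 = n2166 := (((F14958).symm.trans (sb E2609 F64481))).symm
theorem E3046 : n10999 = n4211 := ((((iv F20501)).symm.trans (sb E2610 (iv F50628)))).symm
theorem E3047 : n18404 = n15459 := ((((iv F70749)).symm.trans (sb E2611 F104434))).symm
theorem E3048 : n18403 = n9409 := ((((iv D12031)).symm.trans (sb E2611 (iv D23356)))).symm
theorem E3049 : n11186 = n10088 := ((((iv D12954)).symm.trans (sb E2612 (iv D14368)))).symm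
theorem E3050 : n11185 = n6279 := ((((iv D7930)).symm.trans (sb E2613 (iv D14367)))).symm
theorem E3051 : n18441 = n1072 := (E2925).trans E2948
theorem E3052 : n18402 = n5891 := ((((iv D7429)).symm.trans (sb E2614 (iv D23355)))).symm
theorem E3053 : n18393 = n3984 := ((((iv D5013)).symm.trans (sb E2615 (iv F82798)))).symm
theorem E3054 : n6907 = n6709 := ((((iv D8505)).symm.trans (sb E2616 (iv D8761)))).symm
theorem E3055 : n6908 = n4270 := ((((iv D5332)).symm.trans (sb E2617 F40949))).symm
theorem E3056 : n11218 = n1078 := (E2931).trans E2949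
theorem E3057 : n18394 = n4155 := ((((iv F19833)).symm.trans (sb E2618 (iv F82802)))).symm
theorem E3058 : n11175 = n2127 := ((((iv D3039)).symm.trans (sb E2618 (iv D14354)))).symm
theorem E3059 : n6707 = n4388 := ((((iv D5484)).symm.trans (sb E2619 F39725))).symm
theorem E3060 : n6688 = n6678 := (((iv F31713)).symm.trans (sb E2620 (iv F31677)))
theorem E3061 : n6902 = n4269 := ((((iv D5331)).symm.trans (sb E2620 (iv F32709)))).symm
theorem E3062 : n11177 = n4154 := ((((iv D5206)).symm.trans (sb E2621 (iv D14356)))).symm
theorem E3063 : n6901 = n2129 := (((F14704).symm.trans (sb E2622 (iv D8752)))).symm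
theorem E3064 : n6925 = n2199 := (((F15184).symm.trans (sb E2623 (iv F32805)))).symm
theorem E3065 : n4416 = n2198 := ((((iv D3137)).symm.trans (sb E2623 F26447))).symm
theorem E3066 : n6900 = n4256 := ((((iv F20692)).symm.trans (sb E2624 (iv F32702)))).symm
theorem E3067 : n4395 = n4386 := ((((iv F21303)).symm.trans (sb E2624 (iv D5495)))).symm
theorem E3069 : n2127 = n2116 := ((((iv F10435)).symm.trans (sb E2627 (tr (iv F51485) E3058)))).symm
theorem E3070 : n2129 = n2121 := (((F14648).symm.trans (sb E2629 (tr F40902 E3063)))).symm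
theorem E3071 : n11175 = n2116 := (E3058).trans E3069
theorem E3072 : n2143 = n2051 := ((((iv F10130)).symm.trans (sb E2641 (tr (iv F75459) E3013)))).symm
theorem E3074 : n2131 = n1046 := ((((iv F5343)).symm.trans (sb E2631 (iv F10494)))).symm
theorem E3076 : n2146 = n2053 := ((((iv F10140)).symm.trans (sb E2644 (tr (iv F51498) E3015)))).symm
theorem E3077 : n6901 = n2121 := (E3063).trans E3070
theorem E3078 : n16700 = n2140 := (((D2140).symm.trans (sb E2747 F95786))).symm
theorem E3079 : n3984 = n2112 := ((((iv F10419)).symm.trans (sb E2747 (tr F95788 E3053)))).symm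
theorem E3080 : n3881 = n2140 := (((iv F18620)).symm.trans (sb E2638 (tr F95774 E3078)))
theorem E3081 : n2142 = n2052 := (((F14240).symm.trans (sb E2638 (tr F95776 E3014)))).symm
theorem E3082 : n16698 = n2051 := (E3013).trans E3072
theorem E3083 : n2141 = n1952 := ((((iv F9674)).symm.trans (sb E2639 (iv F10543)))).symm
theorem E3084 : n2130 = n1048 := ((D2130).symm.trans (sb E2639 F7516))
theorem E3086 : n15468 = n4176 := ((((iv F19933)).symm.trans (sb E2640 (iv F70797)))).symm
theorem E3087 : n11178 = n2053 := (E3015).trans E3076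
theorem E3088 : n2133 = n1964 := ((D2133).symm.trans (sb E2642 (iv F9732)))
theorem E3090 : n18358 = n16677 := ((((iv D21351)).symm.trans (sb E2645 (iv D23323)))).symm
theorem E3091 : n17905 = n17855 := (((iv F80418)).symm.trans (sb E2646 F95665))
theorem E3099 : n17873 = n17583 := ((((iv F79120)).symm.trans (sb E2650 F101653))).symm
theorem E3100 : n10790 = n10769 := (((F62920).symm.trans (sb E2651 F63016))).symm
theorem E3105 : n10887 = n10607 := ((((iv F48975)).symm.trans (sb E2654 F63494))).symm
theorem E3106 : n10028 = n6729 := (((iv F46611)).symm.trans (sb E2655 F39828))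
theorem E3107 : n6302 = n6298 := ((((iv F30060)).symm.trans (sb E2656 F37471))).symm
theorem E3110 : n28993 = n16518 := (((F94907).symm.trans (sb E2658 (iv F129030)))).symm
theorem E3113 : n26851 = n18139 := (((iv F119700)).symm.trans (sb E2658 F103155))
theorem E3114 : n18138 = n16513 := ((((iv D21157)).symm.trans (sb E2658 (iv D23104)))).symm
theorem E3118 : n28618 = n28345 := (((iv F127267)).symm.trans (sb E2659 (iv F126138)))
theorem E3119 : n17816 = n10961 := ((((iv D14098)).symm.trans (sb E2660 (iv D22788)))).symm
theorem E3120 : n17749 = n17575 := (((iv F79790)).symm.trans (sb E2661 (iv F79093)))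
theorem E3125 : n28615 = n10608 := ((((iv F48980)).symm.trans (sb E2664 (iv F127257)))).symm
theorem E3126 : n17869 = n10609 := (((F62030).symm.trans (sb E2665 F101307))).symm
theorem E3130 : n18033 = n6571 := ((((iv F31230)).symm.trans (sb E2667 F102581))).symm
theorem E3132 : n16702 = n6573 := (((F38979).symm.trans (sb E2668 (iv F75486)))).symm
theorem E3133 : n29179 = n25019 := ((((iv F112678)).symm.trans (sb E2669 (iv F129989)))).symm
theorem E3137 : n18354 = n16684 := ((((iv D21360)).symm.trans (sb E2669 (iv D23319)))).symm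
theorem E3138 : n29178 = n15453 := ((((iv F70713)).symm.trans (sb E2670 (iv F129985)))).symm
theorem E3140 : n18353 = n10083 := ((((iv D12948)).symm.trans (sb E2670 (iv D23317)))).symm
theorem E3141 : n27040 = n18312 := (((F95690).symm.trans (sb E2671 (iv F120451)))).symm
theorem E3142 : n16678 = n11147 := ((((iv D14316)).symm.trans (sb E2672 (iv D21352)))).symm
theorem E3143 : n17892 = n16643 := ((((iv F75250)).symm.trans (sb E2673 (iv F80381)))).symm
theorem E3144 : n27077 = n9416 := ((((iv F44255)).symm.trans (sb E2674 (iv F120682)))).symm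
theorem E3145 : n27065 = n9860 := ((((iv F45927)).symm.trans (sb E2674 (iv F120610)))).symm
theorem E3146 : n25030 = n9859 := ((((iv D12642)).symm.trans (sb E2675 (iv F112752)))).symm
theorem E3148 : n17898 = n17864 := ((((iv F80280)).symm.trans (sb E2676 (iv D22874)))).symm
theorem E3150 : n17968 = n10783 := ((((iv F49699)).symm.trans (sb E2677 (iv F80678)))).symm
theorem E3151 : n10831 = n10784 := (((F62991).symm.trans (sb E2678 (iv D13936)))).symm
theorem E3153 : n28772 = n10552 := ((((iv F48735)).symm.trans (sb E2679 (iv F127948)))).symm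
theorem E3155 : n17916 = n17527 := ((((iv F78918)).symm.trans (sb E2681 F102079))).symm
theorem E3156 : n10795 = n10765 := ((((iv D13846)).symm.trans (sb E2682 F63034))).symm
theorem E3158 : n17868 = n6667 := ((((iv D8446)).symm.trans (sb E2683 F101887))).symm
theorem E3160 : n16555 = n6669 := (((F39532).symm.trans (sb E2684 (iv F74949)))).symm
theorem E3163 : n16701 = n4250 := (((F25489).symm.trans (sb E2687 (iv F75480)))).symm
theorem E3165 : n10106 = n6252 := ((((iv F29885)).symm.trans (sb E2689 F59271))).symm
theorem E3166 : n10901 = n10581 := ((((iv F48878)).symm.trans (sb E2690 F63571))).symm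
theorem E3168 : n10012 = n6736 := (((iv F46552)).symm.trans (sb E2691 F39872))
theorem E3170 : n6303 = n6297 := (((iv F30084)).symm.trans (sb E2693 F37443))
theorem E3172 : n10105 = n4001 := ((((iv F19136)).symm.trans (sb E2695 F59266))).symm
theorem E3173 : n18025 = n2052 := (E3014).trans E3081
theorem E3174 : n9425 = n4005 := (((F24284).symm.trans (sb E2697 (iv F44308)))).symm
theorem E3175 : n28989 = n24837 := ((((iv F111791)).symm.trans (sb E2698 (iv F129010)))).symm
theorem E3176 : n28973 = n26826 := ((((iv F119579)).symm.trans (sb E2698 (iv F128946)))).symm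
theorem E3177 : n18136 = n16519 := ((((iv D21165)).symm.trans (sb E2698 (iv D23100)))).symm
theorem E3178 : n28988 = n15329 := ((((iv F70179)).symm.trans (sb E2699 (iv F129006)))).symm
theorem E3179 : n28972 = n16495 := ((((iv F74686)).symm.trans (sb E2699 (iv F128940)))).symm
theorem E3180 : n18135 = n9989 := ((((iv D12824)).symm.trans (sb E2699 (iv D23099)))).symm
theorem E3182 : n26817 = n18122 := (((iv F119546)).symm.trans (sb E2700 F103066))
theorem E3183 : n18121 = n16491 := ((((iv D21130)).symm.trans (sb E2700 (iv D23084)))).symm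
theorem E3184 : n16514 = n10959 := ((((iv D14096)).symm.trans (sb E2701 (iv D21158)))).symm
theorem E3185 : n10960 = n9988 := ((((iv D12820)).symm.trans (sb E2702 F63949))).symm
theorem E3186 : n27078 = n9345 := ((((iv F43944)).symm.trans (sb E2703 (iv F120688)))).symm
theorem E3187 : n27064 = n6234 := ((((iv D7866)).symm.trans (sb E2703 (iv F120603)))).symm
theorem E3188 : n25031 = n9755 := ((((iv F45584)).symm.trans (sb E2704 (iv F112759)))).symm
theorem E3189 : n18129 = n6233 := ((((iv D7865)).symm.trans (sb E2704 (iv D23090)))).symm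
theorem E3191 : n18123 = n17789 := ((((iv D22754)).symm.trans (sb E2705 (iv D23086)))).symm
theorem E3192 : n28677 = n18112 := ((((iv F81414)).symm.trans (sb E2706 (iv F127501)))).symm
theorem E3193 : n17790 = n10948 := ((((iv D14081)).symm.trans (sb E2706 (iv D22756)))).symm
theorem E3194 : n10949 = n10718 := ((((iv D13784)).symm.trans (sb E2707 F63879))).symm
theorem E3195 : n10736 = n6769 := ((((iv D8578)).symm.trans (sb E2708 F62742))).symm
theorem E3196 : n10692 = n10603 := (((iv F49326)).symm.trans (sb E2709 (iv F48962)))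
theorem E3201 : n11069 = n6763 := ((((iv D8570)).symm.trans (sb E2713 F64579))).symm
theorem E3202 : n11033 = n6764 := (((F40057).symm.trans (sb E2714 (iv F50800)))).symm
theorem E3206 : n10998 = n6569 := ((((iv F31220)).symm.trans (sb E2716 (iv F50624)))).symm
theorem E3209 : n18197 = n4199 := ((((iv F20442)).symm.trans (sb E2719 (iv F81806)))).symm
theorem E3211 : n16705 = n6182 := ((((iv F29592)).symm.trans (sb E2721 (iv F75504)))).symm
theorem E3213 : n18351 = n15454 := ((((iv D19752)).symm.trans (sb E2722 (iv D23313)))).symm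
theorem E3214 : n18350 = n9405 := ((((iv D12027)).symm.trans (sb E2723 (iv D23312)))).symm
theorem E3215 : n11145 = n10084 := ((((iv D12949)).symm.trans (sb E2724 (iv D14313)))).symm
theorem E3216 : n11146 = n6278 := ((((iv D7926)).symm.trans (sb E2725 F65034))).symm
theorem E3217 : n16717 = n5890 := ((((iv D7427)).symm.trans (sb E2726 (iv D21388)))).symm
theorem E3218 : n18393 = n2112 := (E3053).trans E3079
theorem E3219 : n16706 = n6156 := ((((iv F29473)).symm.trans (sb E2727 F95814))).symm
theorem E3220 : n16704 = n3983 := ((((iv D5012)).symm.trans (sb E2727 F95815))).symm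
theorem E3221 : n10082 = n6886 := ((((iv D8729)).symm.trans (sb E2728 F59169))).symm
theorem E3222 : n10782 = n10059 := ((((iv F46706)).symm.trans (sb E2729 (iv F49695)))).symm
theorem E3223 : n11138 = n6277 := ((((iv D7925)).symm.trans (sb E2729 (iv F51343)))).symm
theorem E3224 : n15474 = n9243 := ((((iv F43416)).symm.trans (sb E2730 F89651))).symm
theorem E3225 : n15472 = n6155 := ((((iv D7761)).symm.trans (sb E2730 F89653))).symm
theorem E3226 : n11137 = n3986 := (((F24209).symm.trans (sb E2731 (iv D14302)))).symm
theorem E3227 : n10832 = n6663 := ((((iv F31626)).symm.trans (sb E2732 (iv F49868)))).symm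
theorem E3229 : n10800 = n6665 := (((F39513).symm.trans (sb E2733 (iv F49750)))).symm
theorem E3230 : n10776 = n6687 := (((iv F49678)).symm.trans (sb E2733 (iv D8476)))
theorem E3232 : n17880 = n6529 := ((((iv F31035)).symm.trans (sb E2735 (iv F80344)))).symm
theorem E3234 : n11173 = n4248 := ((((iv F20660)).symm.trans (sb E2737 (iv F51477)))).symm
theorem E3237 : n11136 = n6248 := ((((iv F29869)).symm.trans (sb E2739 (iv F51335)))).symm
theorem E3240 : n3983 = n3963 := ((((iv F18976)).symm.trans (sb E2742 (tr (iv F75497) E3220)))).symm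
theorem E3241 : n3985 = n1075 := ((((iv D1538)).symm.trans (sb E2743 (tr F65410 E2928)))).symm
theorem E3242 : n3986 = n3969 := (((F24120).symm.trans (sb E2744 (tr F65956 E3226)))).symm
theorem E3243 : n16704 = n3963 := (E3220).trans E3240
theorem E3244 : n4001 = n3880 := ((((iv F18617)).symm.trans (sb E2755 (tr F59276 E3172)))).symm
theorem E3246 : n3988 = n1960 := ((((iv F9716)).symm.trans (sb E2746 (iv F19069)))).symm
theorem E3248 : n3573 = n1097 := ((((iv F5600)).symm.trans (sb E2748 (iv F17329)))).symm
theorem E3249 : n1957 = n540 := (((F3989).symm.trans (sb E2748 F13597))).symm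
theorem E3251 : n4005 = n3883 := ((((iv F18630)).symm.trans (sb E2759 (tr (iv D12046) E3174)))).symm
theorem E3252 : n11137 = n3969 := (E3226).trans E3242
theorem E3253 : n10115 = n3998 := (((D3998).symm.trans (sb E2884 F59337))).symm
theorem E3254 : n5890 = n3959 := ((((iv F18961)).symm.trans (sb E2884 (tr D16717 E3217)))).symm
theorem E3255 : n5795 = n3998 := (((iv F27939)).symm.trans (sb E2751 (tr F59283 E3253)))
theorem E3256 : n10107 = n5793 := ((((iv F27928)).symm.trans (sb E2751 F59284))).symm
theorem E3257 : n10105 = n3880 := (E3172).trans E3244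
theorem E3258 : n3999 = n3571 := ((((iv F17319)).symm.trans (sb E2752 (iv F19125)))).symm
theorem E3259 : n3987 = n1962 := ((D3987).symm.trans (sb E2752 F13643))
theorem E3261 : n9427 = n5792 := ((((iv D7300)).symm.trans (sb E2753 (iv D12049)))).symm
theorem E3262 : n9426 = n5657 := ((((iv F27234)).symm.trans (sb E2754 F55808))).symm
theorem E3263 : n9425 = n3883 := (E3174).trans E3251
theorem E3264 : n3991 = n3585 := ((D3991).symm.trans (sb E2756 (iv F17398)))
theorem E3265 : n9424 = n4180 := (((F25108).symm.trans (sb E2757 (iv D12045)))).symm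
theorem E3266 : n15356 = n6542 := ((((iv F31094)).symm.trans (sb E2757 (iv F70323)))).symm
theorem E3267 : n18407 = n16688 := ((((iv D21363)).symm.trans (sb E2760 (iv D23362)))).symm
theorem E3270 : n28848 = n28827 := (((iv F128295)).symm.trans (sb E2762 (iv F128191)))
theorem E3271 : n17980 = n17946 := (((iv F80723)).symm.trans (sb E2763 (iv F80580)))
theorem E3272 : n17974 = n10816 := ((((iv D13918)).symm.trans (sb E2764 (iv D22942)))).symm
theorem E3282 : n28845 = n28131 := ((((iv F125246)).symm.trans (sb E2770 (iv F128280)))).symm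
theorem E3285 : n27010 = n25003 := (((iv F120336)).symm.trans (sb E2771 F112590))
theorem E3300 : n18352 = n16682 := ((((iv D21356)).symm.trans (sb E2780 (iv D23315)))).symm
theorem E3301 : n27089 = n15448 := (((F89511).symm.trans (sb E2781 (iv F120744)))).symm
theorem E3302 : n27007 = n24963 := ((((iv F112405)).symm.trans (sb E2781 F120322))).symm
theorem E3307 : n26998 = n17851 := ((((iv F80224)).symm.trans (sb E2783 (iv F120278)))).symm
theorem E3309 : n17852 = n16641 := ((((iv D21305)).symm.trans (sb E2784 F101816))).symm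
theorem E3315 : n17967 = n10760 := ((((iv D13838)).symm.trans (sb E2787 F102040))).symm
theorem E3318 : n17747 = n17520 := (((F100079).symm.trans (sb E2789 (iv D22701)))).symm
theorem E3321 : n16588 = n10762 := (((F62878).symm.trans (sb E2790 (iv F75074)))).symm
theorem E3324 : n27088 = n15462 := (((D15462).symm.trans (sb E2792 D27088))).symm
theorem E3325 : n16732 = n15136 := ((((iv F69244)).symm.trans (sb E2792 F95949))).symm
theorem E3327 : n25049 = n24476 := (((D24476).symm.trans (sb E2793 D25049))).symm
theorem E3328 : n15492 = n15135 := ((((iv D19327)).symm.trans (sb E2793 (iv D19784)))).symm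
theorem E3331 : n15485 = n15143 := ((((iv F69287)).symm.trans (sb E2794 F89719))).symm
theorem E3332 : n24912 = n16268 := ((((iv F73820)).symm.trans (sb E2794 (iv F112185)))).symm
theorem E3340 : n16590 = n6657 := (((F39478).symm.trans (sb E2798 (iv F75083)))).symm
theorem E3352 : n10031 = n10015 := ((((iv F46563)).symm.trans (sb E2804 F58953))).symm
theorem E3355 : n16715 = n6559 := (((F38906).symm.trans (sb E2807 (iv F75563)))).symm
theorem E3357 : n10116 = n6242 := ((((iv F29844)).symm.trans (sb E2809 F59327))).symm
theorem E3360 : n10117 = n9879 := ((((iv F46012)).symm.trans (sb E2811 F59331))).symm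
theorem E3361 : n9357 = n6307 := (((iv F44006)).symm.trans (sb E2812 F37485))
theorem E3362 : n4176 = n2145 := (((F14802).symm.trans (sb E2813 (tr (iv F70794) E3086)))).symm
theorem E3363 : n5657 = n4004 := (((F24279).symm.trans (sb E2814 (tr (iv F44313) E3262)))).symm
theorem E3369 : n5792 = n4003 := (((F24275).symm.trans (sb E2819 (tr (iv F44319) E3261)))).symm
theorem E3370 : n5793 = n4000 := ((((iv D5025)).symm.trans (sb E2819 (tr D10107 E3256)))).symm
theorem E3371 : n10107 = n4000 := (E3256).trans E3370
theorem E3372 : n6306 = n5900 := ((((iv F28480)).symm.trans (sb E2821 F37481))).symm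
theorem E3373 : n5906 = n5905 := (((iv F28511)).symm.trans (sb E2823 F35478))
theorem E3374 : n9426 = n4004 := (E3262).trans E3363
theorem E3375 : n9427 = n4003 := (E3261).trans E3369
theorem E3376 : n27091 = n15325 := (((F88821).symm.trans (sb E2824 (iv F120753)))).symm
theorem E3377 : n18080 = n15324 := ((((iv D19584)).symm.trans (sb E2824 F102808))).symm
theorem E3381 : n18069 = n16490 := ((((iv D21126)).symm.trans (sb E2825 F102752))).symm
theorem E3383 : n16512 = n10926 := ((((iv D14048)).symm.trans (sb E2826 F94891))).symm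
theorem E3384 : n17518 = n16456 := ((((iv F74533)).symm.trans (sb E2827 (iv F78878)))).symm
theorem E3390 : n17716 = n17506 := (((iv F79667)).symm.trans (sb E2830 (iv F78827)))
theorem E3394 : n17642 = n10579 := (((F61864).symm.trans (sb E2832 (iv F79368)))).symm
theorem E3397 : n16727 = n9344 := ((((iv D11941)).symm.trans (sb E2834 F95959))).symm
theorem E3399 : n15493 = n14995 := ((((iv F68597)).symm.trans (sb E2835 F89751))).symm
theorem E3400 : n15490 = n9343 := ((((iv D11940)).symm.trans (sb E2835 F89752))).symm
theorem E3401 : n15486 = n15138 := ((((iv F69256)).symm.trans (sb E2836 F89723))).symm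
theorem E3407 : n18241 = n6748 := (((F39942).symm.trans (sb E2841 (iv F82026)))).symm
theorem E3409 : n18180 = n10572 := ((((iv F48835)).symm.trans (sb E2842 (iv F81730)))).symm
theorem E3415 : n16720 = n9875 := ((((iv F45993)).symm.trans (sb E2846 (iv F75591)))).symm
theorem E3418 : n16719 = n6173 := ((((iv F29549)).symm.trans (sb E2849 F95868))).symm
theorem E3420 : n18261 = n2150 := ((((iv D3068)).symm.trans (sb E2850 F103770))).symm
theorem E3421 : n10123 = n9256 := ((((iv F43498)).symm.trans (sb E2851 F59347))).symm
theorem E3423 : n18308 = n15449 := ((((iv D19745)).symm.trans (sb E2852 (iv D23272)))).symm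
theorem E3424 : n16728 = n9404 := ((((iv D12023)).symm.trans (sb E2853 F95955))).symm
theorem E3425 : n15447 = n11114 := ((((iv D14269)).symm.trans (sb E2854 F89519))).symm
theorem E3426 : n17850 = n15420 := ((((iv F70576)).symm.trans (sb E2855 (iv F80220)))).symm
theorem E3427 : n15489 = n9403 := ((((iv D12022)).symm.trans (sb E2855 F70931))).symm
theorem E3428 : n16642 = n10759 := ((((iv F49615)).symm.trans (sb E2856 (iv F75245)))).symm
theorem E3430 : n16600 = n16544 := (((iv F75118)).symm.trans (sb E2857 (iv F74900)))
theorem E3431 : n17843 = n10058 := ((((iv D12915)).symm.trans (sb E2857 (iv F80192)))).symm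
theorem E3433 : n16717 = n3959 := (E3217).trans E3254
theorem E3435 : n10121 = n5889 := ((((iv D7426)).symm.trans (sb E2859 F59379))).symm
theorem E3436 : n9866 = n9442 := ((F54615).symm.trans (sb E2860 F55900))
theorem E3437 : n9440 = n9234 := ((((iv D11795)).symm.trans (sb E2860 F55901))).symm
theorem E3438 : n9438 = n5893 := (((F35409).symm.trans (sb E2861 F55887))).symm
theorem E3439 : n9435 = n9242 := ((((iv D11803)).symm.trans (sb E2862 F55870))).symm
theorem E3442 : n17923 = n6653 := (((F39457).symm.trans (sb E2865 (iv F80490)))).symm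
theorem E3443 : n10844 = n6652 := ((((iv D8425)).symm.trans (sb E2865 F63221))).symm
theorem E3445 : n16594 = n10010 := ((((iv F46542)).symm.trans (sb E2867 (iv F75097)))).symm
theorem E3446 : n10799 = n10757 := ((((iv F49608)).symm.trans (sb E2867 (iv D13893)))).symm
theorem E3452 : n16718 = n6240 := ((((iv F29835)).symm.trans (sb E2872 (iv F75579)))).symm
theorem E3456 : n10122 = n9353 := ((((iv F43987)).symm.trans (sb E2875 F59344))).symm
theorem E3459 : n5889 = n5858 := ((((iv F28283)).symm.trans (sb E2878 (tr F59340 E3435)))).symm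
theorem E3460 : n5891 = n2109 := ((((iv D3014)).symm.trans (sb E2879 (tr (iv F95865) E3052)))).symm
theorem E3461 : n11227 = n1075 := (E2928).trans E3241
theorem E3462 : n18402 = n2109 := (E3052).trans E3460
theorem E3463 : n5893 = n5864 := (((F35220).symm.trans (sb E2881 (tr (iv F44373) E3438)))).symm
theorem E3464 : n10121 = n5858 := (E3435).trans E3459
theorem E3465 : n5900 = n5794 := ((((iv F27935)).symm.trans (sb E2894 (tr F37505 E3372)))).symm
theorem E3466 : n5895 = n3580 := ((((iv F17373)).symm.trans (sb E2883 (iv F28448)))).symm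
theorem E3471 : n5905 = n5796 := ((((iv F27948)).symm.trans (sb E2899 (tr (iv D7444) E3373)))).symm
theorem E3472 : n9438 = n5864 := (E3438).trans E3463
theorem E3473 : n6308 = n6166 := (((F34796).symm.trans (sb E2890 F37513))).symm
theorem E3474 : n6306 = n5794 := (E3372).trans E3465
theorem E3475 : n5894 = n3582 := ((D5894).symm.trans (sb E2891 F23005))
theorem E3477 : n6552 = n5910 := (((F35523).symm.trans (sb E2892 F36749))).symm
theorem E3478 : n6165 = n5908 := ((((iv D7447)).symm.trans (sb E2892 (iv D7772)))).symm
theorem E3479 : n5992 = n5907 := ((F34791).symm.trans (sb E2893 F35516))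
theorem E3480 : n5906 = n5796 := (E3373).trans E3471
theorem E3481 : n5907 = n5904 := ((E3479).symm.trans ((F34778).symm.trans (sb E2896 (iv D7442))))
theorem E3483 : n5908 = n5903 := ((E3478).symm.trans ((F33868).symm.trans (sb E2897 (iv D7441))))
theorem E3485 : n6165 = n5903 := (E3478).trans E3483
theorem E3486 : n5910 = n5902 := ((E3477).symm.trans ((D6552).symm.trans (sb E2900 (iv D7439))))
theorem E3489 : n23239 = n11937 := ((((iv F55319)).symm.trans (sb E2903 F129717))).symm
theorem E3490 : n23238 = n7375 := ((((iv D9348)).symm.trans (sb E2903 (iv D29137)))).symm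
theorem E3491 : n23231 = n12811 := ((((iv F58688)).symm.trans (sb E2904 (iv F103745)))).symm
theorem E3492 : n14210 = n12829 := ((((iv F58772)).symm.trans (sb E2904 F82160))).symm
theorem E3493 : n14209 = n7860 := ((((iv D9995)).symm.trans (sb E2904 (iv D18265)))).symm
theorem E3494 : n14208 = n4975 := ((((iv D6236)).symm.trans (sb E2905 (iv D18264)))).symm
theorem E3495 : n23234 = n13782 := ((((iv F62621)).symm.trans (sb E2906 (iv F103762)))).symm
theorem E3496 : n14194 = n13795 := ((((iv F62682)).symm.trans (sb E2906 F82093))).symm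
theorem E3497 : n14193 = n8396 := ((((iv D10726)).symm.trans (sb E2906 (iv D18254)))).symm
theorem E3498 : n8656 = n8411 := ((((iv D10744)).symm.trans (sb E2907 (iv D11059)))).symm
theorem E3499 : n8655 = n5281 := ((((iv D6640)).symm.trans (sb E2908 (iv D11058)))).symm
theorem E3500 : n14204 = n3010 := ((((iv D4240)).symm.trans (sb E2909 (iv F64487)))).symm
theorem E3501 : n14216 = n14196 := (((iv F64562)).symm.trans (sb E2910 F82101))
theorem E3502 : n14195 = n8665 := ((((iv D11066)).symm.trans (sb E2910 (iv D18255)))).symm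
theorem E3504 : n8673 = n8642 := ((((iv D11044)).symm.trans (sb E2911 (iv D11076)))).symm
theorem E3505 : n8641 = n5435 := ((((iv D6843)).symm.trans (sb E2912 (iv D11043)))).symm
theorem E3506 : n5446 = n5424 := ((((iv D6830)).symm.trans (sb E2913 (iv D6858)))).symm
theorem E3507 : n5425 = n3115 := ((((iv D4359)).symm.trans (sb E2914 F32375))).symm
theorem E3508 : n14205 = n1531 := (((F10781).symm.trans (sb E2915 (iv F64494)))).symm
theorem E3509 : n8650 = n1530 := ((((iv D2188)).symm.trans (sb E2915 (iv D11052)))).symm
theorem E3510 : n14224 = n8632 := ((((iv D11031)).symm.trans (sb E2916 (iv D18276)))).symm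
theorem E3512 : n5434 = n5417 := (((F32319).symm.trans (sb E2918 (iv D6840)))).symm
theorem E3513 : n5445 = n3104 := ((((iv D4344)).symm.trans (sb E2919 F32509))).symm
theorem E3514 : n5419 = n3105 := (((F21109).symm.trans (sb E2920 (iv F26014)))).symm
theorem E3515 : n5421 = n3114 := (((iv F26025)).symm.trans (sb E2920 (iv D4358)))
theorem E3517 : n1530 = n1522 := (((F10721).symm.trans (sb E2922 (tr F50896 E3509)))).symm
theorem E3518 : n1531 = n1521 := ((((iv D2176)).symm.trans (sb E2922 (tr D14205 E3508)))).symm
theorem E3520 : n8650 = n1522 := (E3509).trans E3517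
theorem E3522 : n14412 = n7421 := ((((iv D9411)).symm.trans (sb E2924 (iv D18442)))).symm
theorem E3523 : n7421 = n1534 := ((((iv F7699)).symm.trans (sb E3051 (tr F83067 E3522)))).symm
theorem E3526 : n8790 = n5006 := ((((iv D6282)).symm.trans (sb E2927 (iv D11228)))).symm
theorem E3527 : n5006 = n1537 := ((((iv F7714)).symm.trans (sb E3461 (tr (iv D11227) E3526)))).symm
theorem E3528 : n4975 = n1507 := ((((iv F7557)).symm.trans (sb E3461 (tr (iv F64514) E3494)))).symm
theorem E3529 : n5502 = n5334 := ((((iv D6711)).symm.trans (sb E2929 (iv D6935)))).symm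
theorem E3531 : n5503 = n3033 := ((((iv D4271)).symm.trans (sb E2930 F32850))).symm
theorem E3532 : n3010 = n1513 := ((((iv F7585)).symm.trans (sb E3056 (tr (iv F64490) E3500)))).symm
theorem E3533 : n3154 = n3146 := ((((iv D4401)).symm.trans (sb E2932 F21416))).symm
theorem E3534 : n3157 = n1549 := (((F10889).symm.trans (sb E2933 F21371))).symm
theorem E3535 : n5497 = n1548 := ((((iv D2211)).symm.trans (sb E2933 (iv F26370)))).symm
theorem E3537 : n1548 = n1545 := ((((iv F7747)).symm.trans (sb E2943 (tr F32816 E3535)))).symm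
theorem E3539 : n1549 = n1544 := ((((iv D2206)).symm.trans (sb E2936 (tr F21411 E3534)))).symm
theorem E3540 : n3143 = n1552 := (((F10869).symm.trans (sb E2937 F21343))).symm
theorem E3541 : n3144 = n3142 := (((iv F15216)).symm.trans (sb E2937 (iv D4396)))
theorem E3542 : n1552 = n1550 := (((F10885).symm.trans (sb E2938 (tr (iv D4398) E3540)))).symm
theorem E3545 : n1542 = n1486 := (((iv F7733)).symm.trans (sb E2940 (iv F7453)))
theorem E3547 : n1546 = n758 := (((iv F7752)).symm.trans (sb E2940 (iv D1087)))
theorem E3549 : n1547 = n759 := ((D1547).symm.trans (sb E2940 F5547))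
theorem F130697 : act 8 n1082 = n760 := (sb E2940 F5548)
theorem E3550 : n1541 = n1487 := (((iv F7728)).symm.trans (sb E2941 (iv F7457)))
theorem F130698 : act 8 n1081 = n761 := (sb E2941 F5554)
theorem F130699 : act 8 n1086 = n762 := (sb E2942 F5559)
theorem E3552 : n774 = n725 := ((((iv F3769)).symm.trans (sb E2944 (iv F4028)))).symm
theorem E3553 : n764 = n378 := (((iv F3971)).symm.trans (sb E2944 (iv D542)))
theorem E3560 : n3039 = n1477 := ((((iv F7418)).symm.trans (sb E2949 (iv F14707)))).symm
theorem E3562 : n1566 = n1362 := ((((iv F6873)).symm.trans (sb E2950 (iv F7852)))).symm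
theorem F130700 : act 4 n1039 = n768 := (sb E2950 (iv D1099))
theorem F130701 : act 4 n537 = n761 := (sb E2951 F5568)
theorem F130702 : act 6 n537 = n760 := (sb E2951 (iv D1091))
theorem E3569 : n1567 = n1361 := ((((iv F6868)).symm.trans (sb E2953 (iv F7857)))).symm
theorem F130703 : act 6 n1038 = n768 := (sb E2953 (iv D1100))
theorem F130704 : act 3 n538 = n760 := (sb E2954 (iv D1090))
theorem F130705 : act 7 n538 = n762 := (sb E2954 F5564)
theorem F130706 : act 2 n1049 = n762 := (sb E2956 (iv D1092))
theorem F130707 : act 3 n1049 = n1491 := (sb E2956 (iv F7474))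
theorem E3576 : n23183 = n21167 := ((((iv F94951)).symm.trans (sb E2964 F129452))).symm
theorem E3577 : n23181 = n12826 := ((((iv D16523)).symm.trans (sb E2964 (iv D29088)))).symm
theorem E3578 : n23191 = n22800 := ((((iv F101716)).symm.trans (sb E2965 F129490))).symm
theorem E3579 : n23188 = n13815 := ((((iv D17829)).symm.trans (sb E2965 (iv D29096)))).symm
theorem E3580 : n14156 = n13814 := ((((iv D17827)).symm.trans (sb E2966 (iv D18212)))).symm
theorem E3581 : n14155 = n8408 := ((((iv D10741)).symm.trans (sb E2967 (iv D18210)))).symm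
theorem E3582 : n23180 = n7867 := ((((iv D10002)).symm.trans (sb E2968 (iv D29086)))).symm
theorem E3584 : n23168 = n22760 := ((((iv D28684)).symm.trans (sb E2970 (iv D29073)))).symm
theorem E3585 : n22795 = n14162 := ((((iv D18220)).symm.trans (sb E2972 (iv D28723)))).symm
theorem E3586 : n22714 = n22594 := (((iv F101343)).symm.trans (sb E2974 (iv F100878)))
theorem E3587 : n13810 = n8615 := ((((iv D11011)).symm.trans (sb E2975 (iv D17822)))).symm
theorem E3588 : n13754 = n13690 := (((iv F62513)).symm.trans (sb E2976 (iv F62266)))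
theorem E3589 : n23174 = n8149 := ((((iv D10389)).symm.trans (sb E2977 (iv F103469)))).symm
theorem E3591 : n22711 = n13698 := ((((iv D17675)).symm.trans (sb E2979 (iv D28623)))).symm
theorem E3592 : n22710 = n8343 := ((((iv F39107)).symm.trans (sb E2980 (iv F101327)))).symm
theorem E3593 : n22565 = n8344 := (((F49165).symm.trans (sb E2981 (iv F100755)))).symm
theorem E3596 : n22990 = n5248 := ((((iv F25253)).symm.trans (sb E2983 (iv F102551)))).symm
theorem E3598 : n14146 = n5250 := (((F31323).symm.trans (sb E2984 F80943))).symm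
theorem E3599 : n23354 = n19754 := ((((iv F89583)).symm.trans (sb E2985 (iv F104420)))).symm
theorem E3600 : n14365 = n12951 := ((((iv D16689)).symm.trans (sb E2985 (iv D18408)))).symm
theorem E3601 : n23352 = n12029 := ((((iv F55706)).symm.trans (sb E2986 (iv F104411)))).symm
theorem E3602 : n23359 = n12952 := (((D12952).symm.trans (sb E2986 D23359))).symm
theorem E3603 : n14364 = n7928 := ((((iv D10087)).symm.trans (sb E2986 (iv D18406)))).symm
theorem E3604 : n22919 = n13947 := ((((iv F63261)).symm.trans (sb E2987 (iv F102203)))).symm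
theorem E3605 : n8759 = n8503 := ((((iv D10866)).symm.trans (sb E2988 (iv D11188)))).symm
theorem E3606 : n13911 = n8479 := ((((iv F39648)).symm.trans (sb E2989 (iv F63123)))).symm
theorem E3607 : n23351 = n7428 := ((((iv F35420)).symm.trans (sb E2990 (iv F104406)))).symm
theorem E3608 : n23357 = n7763 := ((((iv F36711)).symm.trans (sb E2990 D23357))).symm
theorem E3609 : n23349 = n5207 := ((((iv D6540)).symm.trans (sb E2991 (iv F104395)))).symm
theorem E3611 : n22944 = n22926 := ((((iv D28829)).symm.trans (sb E2992 (iv D28841)))).symm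
theorem E3612 : n13941 = n13917 := ((((iv D17952)).symm.trans (sb E2993 (iv D17975)))).symm
theorem E3613 : n13940 = n8462 := ((((iv F39586)).symm.trans (sb E2994 (iv F63235)))).symm
theorem E3614 : n8477 = n8463 := (((F49809).symm.trans (sb E2995 (iv D10833)))).symm
theorem E3616 : n22899 = n8268 := ((((iv F38777)).symm.trans (sb E2996 (iv F102115)))).symm
theorem E3618 : n22403 = n13927 := (((F80646).symm.trans (sb E2999 (iv F100111)))).symm
theorem E3619 : n13844 = n8471 := (((F49837).symm.trans (sb E3000 (iv D17861)))).symm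
theorem E3621 : n22837 = n5313 := ((((iv D6681)).symm.trans (sb E3001 (iv F101871)))).symm
theorem E3623 : n13896 = n5315 := (((F31692).symm.trans (sb E3002 F80274))).symm
theorem E3626 : n14352 = n3023 := (((F20697).symm.trans (sb E3005 F80937))).symm
theorem E3627 : n22989 = n3022 := ((((iv D4257)).symm.trans (sb E3005 (iv F102545)))).symm
theorem E3628 : n8751 = n3031 := (((F20703).symm.trans (sb E3007 F51481))).symm
theorem E3629 : n13593 = n8542 := (((F50189).symm.trans (sb E3008 (iv F61878)))).symm
theorem E3631 : n12849 = n5362 := (((F31939).symm.trans (sb E3009 (iv F58855)))).symm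
theorem E3633 : n12043 = n3061 := (((F20858).symm.trans (sb E3011 (iv F55784)))).symm
theorem E3634 : n7944 = n5361 := (((D5361).symm.trans (sb E3011 (iv D10101)))).symm
theorem E3635 : n3023 = n2914 := ((((iv F14135)).symm.trans (sb E3082 (tr F75461 E3626)))).symm
theorem E3636 : n3022 = n2915 := ((((iv F14140)).symm.trans (sb E3173 (tr D22989 E3627)))).symm
theorem E3637 : n3061 = n2932 := ((((iv F14222)).symm.trans (sb E3087 (tr (iv F66009) E3633)))).symm
theorem E3638 : n3031 = n2916 := ((((iv F14145)).symm.trans (sb E3087 (tr (iv D11178) E3628)))).symm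
theorem E3639 : n23179 = n19597 := ((((iv F88890)).symm.trans (sb E3016 F129435))).symm
theorem E3640 : n23178 = n11935 := ((((iv D15333)).symm.trans (sb E3016 (iv D29084)))).symm
theorem E3641 : n23161 = n21142 := ((((iv F94835)).symm.trans (sb E3017 F129337))).symm
theorem E3642 : n23160 = n12808 := ((((iv D16500)).symm.trans (sb E3017 (iv D29066)))).symm
theorem E3643 : n14154 = n12827 := ((((iv D16524)).symm.trans (sb E3018 (iv D18208)))).symm
theorem E3644 : n14153 = n7857 := ((((iv D9993)).symm.trans (sb E3019 (iv D18207)))).symm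
theorem E3645 : n23177 = n7374 := ((((iv D9347)).symm.trans (sb E3020 (iv D29083)))).symm
theorem E3646 : n14208 = n1507 := (E3494).trans E3528
theorem E3647 : n23172 = n4974 := ((((iv D6235)).symm.trans (sb E3021 (iv F103457)))).symm
theorem E3648 : n23166 = n22767 := ((((iv F101563)).symm.trans (sb E3022 F129360))).symm
theorem E3649 : n23164 = n13790 := ((((iv D17800)).symm.trans (sb E3022 (iv D29070)))).symm
theorem E3650 : n23150 = n22770 := ((((iv F101574)).symm.trans (sb E3023 (iv F103358)))).symm
theorem E3651 : n14137 = n13792 := ((((iv D17802)).symm.trans (sb E3023 (iv D18191)))).symm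
theorem E3652 : n14136 = n8393 := ((((iv D10723)).symm.trans (sb E3024 (iv D18190)))).symm
theorem E3653 : n8613 = n8409 := ((((iv D10742)).symm.trans (sb E3025 (iv D11009)))).symm
theorem E3654 : n8614 = n5280 := ((((iv D6637)).symm.trans (sb E3026 F50673))).symm
theorem E3656 : n23173 = n5135 := ((((iv F24771)).symm.trans (sb E3027 (iv F103463)))).symm
theorem E3657 : n14147 = n3009 := ((((iv D4239)).symm.trans (sb E3027 (iv D18199)))).symm
theorem E3659 : n14138 = n13786 := ((((iv D17793)).symm.trans (sb E3029 (iv D18192)))).symm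
theorem E3660 : n22762 = n14127 := ((((iv D18179)).symm.trans (sb E3030 (iv D28685)))).symm
theorem E3661 : n13787 = n8602 := ((((iv D10994)).symm.trans (sb E3031 (iv D17795)))).symm
theorem E3662 : n8603 = n8392 := ((((iv D10719)).symm.trans (sb E3032 F50601))).symm
theorem E3663 : n8407 = n5400 := ((((iv D6796)).symm.trans (sb E3033 F49522))).symm
theorem E3664 : n8372 = n8340 := (((iv F39226)).symm.trans (sb E3034 (iv F39095)))
theorem E3665 : n8609 = n5279 := ((((iv D6636)).symm.trans (sb E3034 (iv F40233)))).symm
theorem E3667 : n8608 = n3011 := (((F20619).symm.trans (sb E3036 (iv D11002)))).symm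
theorem E3668 : n14221 = n8595 := ((((iv D10984)).symm.trans (sb E3037 (iv D18274)))).symm
theorem E3669 : n8669 = n5394 := ((((iv D6788)).symm.trans (sb E3038 F51006))).symm
theorem E3670 : n8634 = n5395 := (((F32171).symm.trans (sb E3039 (iv F40353)))).symm
theorem E3673 : n5450 = n3088 := ((((iv D4324)).symm.trans (sb E3040 F32499))).symm
theorem E3674 : n8607 = n5247 := ((((iv F25247)).symm.trans (sb E3041 (iv F40224)))).symm
theorem E3675 : n5418 = n5398 := ((((iv F25906)).symm.trans (sb E3041 (iv D6821)))).symm
theorem E3677 : n3009 = n2988 := ((((iv F14490)).symm.trans (sb E3044 (tr (iv F64191) E3657)))).symm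
theorem E3678 : n3011 = n2999 := (((F20500).symm.trans (sb E3046 (tr F50627 E3667)))).symm
theorem E3679 : n14147 = n2988 := (E3657).trans E3677
theorem E3680 : n14363 = n12030 := ((((iv D15459)).symm.trans (sb E3047 (iv D18404)))).symm
theorem E3681 : n14362 = n7418 := ((((iv D9409)).symm.trans (sb E3048 (iv D18403)))).symm
theorem E3682 : n8757 = n7929 := ((((iv D10088)).symm.trans (sb E3049 (iv D11186)))).symm
theorem E3683 : n8758 = n5005 := ((((iv D6279)).symm.trans (sb E3050 F51529))).symm
theorem E3684 : n7428 = n2874 := ((((iv F13966)).symm.trans (sb E3462 (tr (iv F104409) E3607)))).symm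
theorem E3685 : n7418 = n3013 := ((((iv F14606)).symm.trans (sb E3462 (tr (iv D18402) E3681)))).symm
theorem E3686 : n7374 = n2972 := ((((iv F14419)).symm.trans (sb E3462 (tr (iv F103486) E3645)))).symm
theorem E3687 : n21372 = n3017 := (((D3017).symm.trans (sb E3218 (iv F95794)))).symm
theorem E3688 : n4974 = n2978 := ((((iv F14443)).symm.trans (sb E3218 (tr (iv F103460) E3647)))).symm
theorem E3689 : n5483 = n5333 := (((F31787).symm.trans (sb E3054 (iv D6907)))).symm
theorem E3690 : n8461 = n5318 := ((((iv F25547)).symm.trans (sb E3055 (iv F39582)))).symm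
theorem E3691 : n8750 = n3032 := ((((iv D4270)).symm.trans (sb E3055 (iv F40908)))).symm
theorem E3692 : n4911 = n3017 := (((iv F23794)).symm.trans (sb E3057 (tr (iv F95791) E3687)))
theorem E3693 : n22989 = n2915 := (E3627).trans E3636
theorem E3694 : n14352 = n2914 := (E3626).trans E3635
theorem E3695 : n3032 = n3021 := ((((iv F14636)).symm.trans (sb E3071 (tr F51486 E3691)))).symm
theorem E3696 : n8478 = n5310 := ((((iv F25517)).symm.trans (sb E3059 (iv F39643)))).symm
theorem E3697 : n5338 = n3136 := ((((iv D4388)).symm.trans (sb E3059 F31780))).symm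
theorem E3698 : n8453 = n5312 := (((F31676).symm.trans (sb E3060 (iv F39550)))).symm
theorem E3699 : n8455 = n5317 := (((iv F39558)).symm.trans (sb E3060 (iv D6688)))
theorem E3700 : n8750 = n3021 := (E3691).trans E3695
theorem E3701 : n5479 = n3035 := (((F20740).symm.trans (sb E3061 (iv D6902)))).symm
theorem E3702 : n13899 = n5198 := ((((iv F25022)).symm.trans (sb E3062 (iv F63079)))).symm
theorem E3703 : n8751 = n2916 := (E3628).trans E3638
theorem E3704 : n3035 = n3029 := ((((iv F14667)).symm.trans (sb E3077 (tr (iv D6901) E3701)))).symm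
theorem E3705 : n8608 = n2999 := (E3667).trans E3678
theorem E3706 : n3033 = n1540 := ((((iv D2199)).symm.trans (sb E3064 (tr F32806 E3531)))).symm
theorem E3707 : n3157 = n1544 := (E3534).trans E3539
theorem E3708 : n5503 = n1540 := (E3531).trans E3706
theorem E3709 : n3156 = n3134 := ((((iv F15173)).symm.trans (sb E3065 (iv D4416)))).symm
theorem E3710 : n5479 = n3029 := (E3701).trans E3704
theorem E3711 : n5478 = n5308 := ((((iv F25509)).symm.trans (sb E3066 (iv D6900)))).symm
theorem E3712 : n3145 = n3135 := ((((iv D4386)).symm.trans (sb E3067 F21339))).symm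
theorem E3713 : n3018 = n2789 := (((iv F14622)).symm.trans (sb E3069 (iv F13576)))
theorem E3715 : n3024 = n1488 := ((D3024).symm.trans (sb E3069 F10477))
theorem F130748 : act 8 n2116 = n1489 := (sb E3069 F10478)
theorem F130749 : act 8 n2121 = n1491 := (sb E3070 F10487)
theorem E3717 : n3056 = n2713 := ((((iv F13254)).symm.trans (sb E3072 (iv F14788)))).symm
theorem E3718 : n2935 = n1500 := ((D2935).symm.trans (sb E3072 F10554))
theorem E3720 : n3059 = n2929 := ((((iv F14206)).symm.trans (sb E3072 D3059))).symm
theorem E3721 : n2936 = n1498 := ((D2936).symm.trans (sb E3072 (iv D2143)))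
theorem F130750 : act 6 n1046 = n1489 := (sb E3074 (iv D2131))
theorem E3728 : n2938 = n2808 := ((D2938).symm.trans (sb E3076 (iv F13666)))
theorem E3732 : n4629 = n3053 := ((((iv F14773)).symm.trans (sb E3080 (iv F22581)))).symm
theorem E3733 : n4922 = n2802 := ((((iv F13639)).symm.trans (sb E3080 (iv F23840)))).symm
theorem E3734 : n3055 = n2714 := ((D3055).symm.trans (sb E3080 F18621))
theorem E3735 : n3054 = n2502 := ((((iv F12351)).symm.trans (sb E3083 (iv F14778)))).symm
theorem F130751 : act 6 n1952 = n1497 := (sb E3083 (iv D2141))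
theorem F130752 : act 2 n1048 = n1489 := (sb E3084 (iv D2130))
theorem F130753 : act 7 n1048 = n1491 := (sb E3084 F10491)
theorem E3738 : n15468 = n2145 := (E3086).trans E3362
theorem E3739 : n12043 = n2932 := (E3633).trans E3637
theorem E3740 : n19624 = n3062 := (((D3062).symm.trans (sb E3738 (iv F89031)))).symm
theorem F130754 : act 1 n1964 = n1491 := (sb E3088 (iv D2133))
theorem F130755 : act 2 n1964 = n2795 := (sb E3088 (iv F13601))
theorem E3743 : n22866 = n21307 := ((((iv F95499)).symm.trans (sb E3090 (iv F101985)))).symm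
theorem E3745 : n21241 = n13840 := (((F80239).symm.trans (sb E3091 (iv F95266)))).symm
theorem E3748 : n13853 = n13633 := (((F79119).symm.trans (sb E3099 F80317))).symm
theorem E3751 : n12875 = n8433 := (((F49654).symm.trans (sb E3100 (iv F58950)))).symm
theorem E3754 : n12689 = n8526 := (((iv F58231)).symm.trans (sb E3105 F50093))
theorem E3755 : n7949 = n7888 := (((iv F37462)).symm.trans (sb E3106 F46610))
theorem E3756 : n7437 = n5029 := (((iv F35473)).symm.trans (sb E3107 F30078))
theorem E3757 : n23097 = n21162 := ((((iv F94933)).symm.trans (sb E3110 F129033))).symm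
theorem E3758 : n23096 = n12822 := ((((iv D16518)).symm.trans (sb E3110 (iv D28993)))).symm
theorem E3759 : n21156 = n14094 := ((((iv D18139)).symm.trans (sb E3113 (iv D26851)))).symm
theorem E3760 : n22468 = n21085 := ((((iv F94616)).symm.trans (sb E3114 (iv F100355)))).symm
theorem E3761 : n22706 = n22474 := ((((iv D28345)).symm.trans (sb E3118 (iv D28618)))).symm
theorem E3762 : n22705 = n13626 := ((((iv F62001)).symm.trans (sb E3119 (iv F101313)))).symm
theorem E3763 : n13752 = n13627 := (((F79092).symm.trans (sb E3120 (iv D17749)))).symm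
theorem E3765 : n22842 = n8313 := ((((iv D10608)).symm.trans (sb E3125 F127256))).symm
theorem E3766 : n21206 = n8315 := (((F48983).symm.trans (sb E3126 (iv F95129)))).symm
theorem E3770 : n21373 = n5234 := (((F31229).symm.trans (sb E3130 (iv F95800)))).symm
theorem E3772 : n12972 = n7793 := ((((iv F36849)).symm.trans (sb E3132 F75485))).symm
theorem E3773 : n23311 = n19749 := ((((iv D25019)).symm.trans (sb E3133 (iv D29179)))).symm
theorem E3774 : n14311 = n12947 := ((((iv D16684)).symm.trans (sb E3137 (iv D18354)))).symm
theorem E3775 : n23310 = n12025 := ((((iv D15453)).symm.trans (sb E3138 (iv D29178)))).symm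
theorem E3776 : n22861 = n12918 := ((((iv F59080)).symm.trans (sb E3140 (iv F101970)))).symm
theorem E3777 : n22868 = n21309 := (((F95510).symm.trans (sb E3141 F120449))).symm
theorem E3778 : n21308 = n13869 := ((((iv F62984)).symm.trans (sb E3142 (iv F95504)))).symm
theorem E3779 : n13870 = n12916 := ((((iv D16643)).symm.trans (sb E3143 F80380))).symm
theorem E3781 : n23351 = n2874 := (E3607).trans E3684
theorem E3782 : n21392 = n11797 := ((((iv F54626)).symm.trans (sb E3144 F120685))).symm
theorem E3783 : n21377 = n7762 := ((((iv D9860)).symm.trans (sb E3145 (iv D27065)))).symm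
theorem E3784 : n19767 = n11804 := ((((iv F54669)).symm.trans (sb E3146 F112751))).symm
theorem E3785 : n13938 = n13875 := ((F80279).symm.trans (sb E3148 F80395))
theorem E3788 : n13937 = n8440 := ((((iv D10783)).symm.trans (sb E3150 F80677))).symm
theorem E3790 : n13894 = n8442 := (((F49701).symm.trans (sb E3151 (iv F63059)))).symm
theorem E3793 : n22852 = n8267 := ((((iv D10552)).symm.trans (sb E3153 (iv D28772)))).symm
theorem E3794 : n13890 = n13594 := ((((iv D17527)).symm.trans (sb E3155 F80462))).symm
theorem E3796 : n12850 = n8450 := (((iv F58860)).symm.trans (sb E3156 F49733))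
theorem E3799 : n21205 = n5304 := (((F31638).symm.trans (sb E3158 (iv F95122)))).symm
theorem E3801 : n12854 = n7889 := ((((iv F37239)).symm.trans (sb E3160 F74948))).symm
theorem E3804 : n12971 = n4985 := ((((iv F24117)).symm.trans (sb E3163 F75479))).symm
theorem E3806 : n12048 = n4994 := (((F29884).symm.trans (sb E3165 (iv F55811)))).symm
theorem E3807 : n12663 = n8536 := (((iv F58120)).symm.trans (sb E3166 F50154))
theorem E3809 : n7956 = n7876 := (((iv F37495)).symm.trans (sb E3168 F46551))
theorem E3812 : n7436 = n5030 := (((iv F35468)).symm.trans (sb E3170 F30083))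
theorem E3813 : n7955 = n5021 := ((((iv D6297)).symm.trans (sb E3170 D7955))).symm
theorem E3814 : n4985 = n4910 := ((((iv F23793)).symm.trans (sb E3257 (tr D12971 E3804)))).symm
theorem E3815 : n5029 = n4783 := ((((iv F23334)).symm.trans (sb E3263 (tr F44309 E3756)))).symm
theorem E3816 : n5030 = n4919 := ((((iv F23829)).symm.trans (sb E3263 (tr (iv D9425) E3812)))).symm
theorem E3817 : n4994 = n4913 := ((((iv F23806)).symm.trans (sb E3263 (tr D12048 E3806)))).symm
theorem E3818 : n23094 = n19592 := ((((iv D24837)).symm.trans (sb E3175 (iv D28989)))).symm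
theorem E3819 : n23080 = n21135 := ((((iv D26826)).symm.trans (sb E3176 (iv D28973)))).symm
theorem E3820 : n14092 = n12823 := ((((iv D16519)).symm.trans (sb E3177 (iv D18136)))).symm
theorem E3821 : n23093 = n11931 := ((((iv D15329)).symm.trans (sb E3178 (iv D28988)))).symm
theorem E3822 : n23079 = n12804 := ((((iv D16495)).symm.trans (sb E3179 (iv D28972)))).symm
theorem E3823 : n14093 = n7856 := ((((iv D9989)).symm.trans (sb E3180 F81525))).symm
theorem E3825 : n21129 = n14077 := ((((iv D18122)).symm.trans (sb E3182 (iv D26817)))).symm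
theorem E3826 : n14078 = n12803 := ((((iv D16491)).symm.trans (sb E3183 F81458))).symm
theorem E3827 : n12821 = n8577 := ((((iv D10959)).symm.trans (sb E3184 F74777))).symm
theorem E3828 : n13625 = n12776 := ((((iv F58549)).symm.trans (sb E3185 (iv F61997)))).symm
theorem E3829 : n14087 = n7855 := ((((iv D9988)).symm.trans (sb E3185 (iv F63912)))).symm
theorem E3830 : n23177 = n2972 := (E3645).trans E3686
theorem E3831 : n21389 = n7373 := ((((iv D9345)).symm.trans (sb E3186 F120692))).symm
theorem E3832 : n23172 = n2978 := (E3647).trans E3688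
theorem E3833 : n21378 = n7683 := ((((iv F36449)).symm.trans (sb E3187 F120602))).symm
theorem E3834 : n21376 = n4973 := ((((iv D6234)).symm.trans (sb E3187 F120604))).symm
theorem E3835 : n19768 = n11799 := ((((iv F54638)).symm.trans (sb E3188 F112758))).symm
theorem E3836 : n19766 = n7682 := ((((iv D9755)).symm.trans (sb E3188 F112760))).symm
theorem E3837 : n14086 = n4976 := (((F29804).symm.trans (sb E3189 (iv D18129)))).symm
theorem E3839 : n22662 = n22445 := (((iv F101152)).symm.trans (sb E3191 (iv F100274)))
theorem E3840 : n22755 = n14070 := ((((iv D18112)).symm.trans (sb E3192 (iv D28677)))).symm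
theorem E3841 : n13785 = n8569 := ((((iv D10948)).symm.trans (sb E3193 F79951))).symm
theorem E3842 : n13729 = n13613 := (((iv F62420)).symm.trans (sb E3194 (iv F61956)))
theorem E3844 : n13753 = n8309 := ((((iv F38962)).symm.trans (sb E3195 (iv F62508)))).symm
theorem E3845 : n8414 = n5379 := ((((iv D6769)).symm.trans (sb E3195 F49513))).symm
theorem E3846 : n13675 = n8311 := (((F48961).symm.trans (sb E3196 (iv F62202)))).symm
theorem E3847 : n13619 = n8371 := (((iv F61979)).symm.trans (sb E3196 (iv D10692)))
theorem E3852 : n14184 = n5376 := (((F32050).symm.trans (sb E3201 (iv F64380)))).symm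
theorem E3854 : n14130 = n8304 := ((((iv F38942)).symm.trans (sb E3202 (iv F64111)))).symm
theorem E3860 : n14085 = n7789 := ((((iv F36830)).symm.trans (sb E3206 (iv F63902)))).symm
theorem E3863 : n4973 = n4934 := ((((iv F23900)).symm.trans (sb E3209 (tr (iv F95820) E3834)))).symm
theorem E3864 : n4976 = n4946 := (((F29591).symm.trans (sb E3211 (tr F75503 E3837)))).symm
theorem E3865 : n21376 = n4934 := (E3834).trans E3863
theorem E3866 : n14309 = n12026 := ((((iv D15454)).symm.trans (sb E3213 (iv D18351)))).symm
theorem E3867 : n14362 = n3013 := (E3681).trans E3685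
theorem E3868 : n14310 = n7417 := ((((iv D9405)).symm.trans (sb E3214 F82608))).symm
theorem E3869 : n8728 = n7927 := (((F46792).symm.trans (sb E3215 (iv D11145)))).symm
theorem E3870 : n13868 = n7908 := ((((iv F37294)).symm.trans (sb E3216 (iv F62981)))).symm
theorem E3871 : n14300 = n5004 := ((((iv D6278)).symm.trans (sb E3216 (iv F64985)))).symm
theorem E3872 : n12985 = n4979 := (((D4979).symm.trans (sb E3433 F75574))).symm
theorem E3873 : n7373 = n4927 := ((((iv F23869)).symm.trans (sb E3433 (tr D21389 E3831)))).symm
theorem E3874 : n7290 = n4979 := (((iv F34722)).symm.trans (sb E3219 (tr F75510 E3872)))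
theorem E3875 : n12973 = n7297 := ((((iv F34764)).symm.trans (sb E3219 F75511))).symm
theorem E3876 : n12971 = n4910 := (E3804).trans E3814
theorem E3877 : n5004 = n4983 := ((((iv F24110)).symm.trans (sb E3243 (tr (iv F75501) E3871)))).symm
theorem E3878 : n12917 = n8439 := ((((iv F39508)).symm.trans (sb E3221 (iv F59076)))).symm
theorem E3879 : n7934 = n5469 := ((((iv D6886)).symm.trans (sb E3221 F46786))).symm
theorem E3880 : n12885 = n12867 := (((iv F58983)).symm.trans (sb E3222 (iv F58921)))
theorem E3881 : n13859 = n7907 := ((((iv D10059)).symm.trans (sb E3222 (iv F62952)))).symm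
theorem E3882 : n14300 = n4983 := (E3871).trans E3877
theorem E3883 : n8722 = n5008 := (((F29967).symm.trans (sb E3223 (iv D11138)))).symm
theorem E3884 : n12050 = n7296 := ((((iv D9243)).symm.trans (sb E3224 F70839))).symm
theorem E3885 : n19628 = n7752 := ((((iv F36675)).symm.trans (sb E3225 (iv F89054)))).symm
theorem E3886 : n12048 = n4913 := (E3806).trans E3817
theorem E3887 : n5008 = n4991 := ((((iv F24139)).symm.trans (sb E3252 (tr (iv D11137) E3883)))).symm
theorem E3888 : n14086 = n4946 := (E3837).trans E3864
theorem E3890 : n8487 = n5299 := ((((iv D6663)).symm.trans (sb E3227 F49869))).symm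
theorem E3892 : n13857 = n7885 := ((((iv F37223)).symm.trans (sb E3229 (iv F62946)))).symm
theorem E3893 : n8452 = n8437 := ((((iv F39502)).symm.trans (sb E3229 (iv D10800)))).symm
theorem E3894 : n13861 = n8231 := ((((iv F38634)).symm.trans (sb E3230 (iv F62959)))).symm
theorem E3896 : n8722 = n4991 := (E3883).trans E3887
theorem E3897 : n13860 = n5202 := (((F31036).symm.trans (sb E3232 (iv D17880)))).symm
theorem E3898 : n19625 = n8251 := ((((iv F38707)).symm.trans (sb E3232 (iv F89038)))).symm
theorem E3899 : n5005 = n3016 := ((((iv D4248)).symm.trans (sb E3234 (tr F51478 E3683)))).symm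
theorem E3900 : n8758 = n3016 := (E3683).trans E3899
theorem E3902 : n8721 = n7881 := ((((iv F37210)).symm.trans (sb E3237 (iv D11136)))).symm
theorem E3904 : n4980 = n4700 := (((iv F24095)).symm.trans (sb E3240 (iv F22944)))
theorem E3906 : n4986 = n2791 := ((D4986).symm.trans (sb E3240 F19050))
theorem F130832 : act 8 n3963 = n2792 := (sb E3240 F19051)
theorem F130833 : act 8 n3969 = n2795 := (sb E3242 F19063)
theorem E3908 : n5022 = n4628 := ((((iv F22575)).symm.trans (sb E3244 (iv F24259)))).symm
theorem E3909 : n4921 = n2805 := ((D4921).symm.trans (sb E3244 F19135))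
theorem E3910 : n5025 = n4626 := ((((iv F22563)).symm.trans (sb E3244 (iv F24276)))).symm
theorem E3911 : n5026 = n4529 := ((((iv F22067)).symm.trans (sb E3244 D5026))).symm
theorem F130834 : act 6 n1960 = n2792 := (sb E3246 (iv D3988))
theorem E3916 : n2507 = n772 := (((F5603).symm.trans (sb E3248 F17332))).symm
theorem E3917 : n1365 = n773 := (((D773).symm.trans (sb E3249 (iv D1957)))).symm
theorem E3920 : n4923 = n4717 := ((D4923).symm.trans (sb E3251 (iv F23036)))
theorem E3923 : n7302 = n4710 := ((((iv F23000)).symm.trans (sb E3255 (iv F34794)))).symm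
theorem E3924 : n5021 = n4920 := ((D5021).symm.trans (sb E3255 F27941))
theorem E3925 : n7955 = n4920 := (E3813).trans E3924
theorem E3926 : n7297 = n4984 := ((((iv F24115)).symm.trans (sb E3371 (tr D12973 E3875)))).symm
theorem F130835 : act 6 n3571 = n2801 := (sb E3258 (iv D3999))
theorem F130836 : act 1 n1962 = n2792 := (sb E3259 (iv D3987))
theorem F130837 : act 7 n1962 = n2795 := (sb E3259 F19067)
theorem E3929 : n7437 = n4783 := (E3756).trans E3815
theorem E3930 : n7296 = n4992 := ((((iv F24144)).symm.trans (sb E3375 (tr D12050 E3884)))).symm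
theorem E3931 : n7436 = n4919 := (E3812).trans E3816
theorem E3932 : n11956 = n5031 := (((D5031).symm.trans (sb E3374 (iv F55418)))).symm
theorem F130838 : act 0 n3585 = n2795 := (sb E3264 (iv D3991))
theorem F130839 : act 1 n3585 = n4708 := (sb E3264 (iv F22985))
theorem E3933 : n7435 = n5219 := (((D5219).symm.trans (sb E3265 (iv D9424)))).symm
theorem E3934 : n11954 = n5214 := ((((iv F25093)).symm.trans (sb E3265 (iv F55409)))).symm
theorem E3936 : n7122 = n5031 := (((iv F33856)).symm.trans (sb E3266 (tr F70319 E3932)))
theorem E3938 : n23353 = n19753 := ((((iv F89578)).symm.trans (sb E3267 (iv F104416)))).symm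
theorem E3939 : n22913 = n21322 := ((((iv F95556)).symm.trans (sb E3267 (iv F102175)))).symm
theorem E3940 : n22950 = n22922 := ((((iv D28827)).symm.trans (sb E3270 (iv D28848)))).symm
theorem E3941 : n13946 = n13912 := ((((iv D17946)).symm.trans (sb E3271 (iv D17980)))).symm
theorem E3942 : n13943 = n8464 := (((F49813).symm.trans (sb E3272 F80696))).symm
theorem E3949 : n22947 = n22269 := ((((iv D28131)).symm.trans (sb E3282 (iv D28845)))).symm
theorem E3950 : n22862 = n21316 := ((F112587).symm.trans (sb E3285 (iv D27010)))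
theorem E3963 : n22860 = n21313 := ((((iv F95523)).symm.trans (sb E3300 (iv F101966)))).symm
theorem E3965 : n23271 = n19743 := (((D19743).symm.trans (sb E3301 F120748))).symm
theorem E3966 : n22823 = n19706 := ((((iv D24963)).symm.trans (sb E3302 F120320))).symm
theorem E3968 : n21306 = n13836 := ((((iv D17851)).symm.trans (sb E3307 F120277))).symm
theorem E3969 : n21230 = n21193 := (((iv F95227)).symm.trans (sb E3309 (iv F95065)))
theorem E3970 : n22825 = n20780 := ((((iv F93470)).symm.trans (sb E3309 D22825))).symm
theorem E3975 : n21243 = n8426 := (((F49619).symm.trans (sb E3315 (iv F95275)))).symm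
theorem E3978 : n21244 = n13591 := (((F78887).symm.trans (sb E3318 (iv F95282)))).symm
theorem E3981 : n12878 = n12847 := ((((iv F58846)).symm.trans (sb E3321 F75073))).symm
theorem E3982 : n20673 = n13841 := (((D13841).symm.trans (sb E3321 (iv F93108)))).symm
theorem E3985 : n21404 = n19328 := ((((iv F87609)).symm.trans (sb E3324 F120742))).symm
theorem E3986 : n12995 = n11796 := ((((iv D15136)).symm.trans (sb E3325 (iv D16732)))).symm
theorem E3989 : n20831 = n19786 := ((F110104).symm.trans (sb E3327 F112875))
theorem E3990 : n12649 = n12068 := ((F69239).symm.trans (sb E3328 F70946))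
theorem E3991 : n19702 = n19321 := ((((iv F87573)).symm.trans (sb E3328 (iv F89360)))).symm
theorem E3994 : n19664 = n19315 := ((((iv F87541)).symm.trans (sb E3331 (iv F89210)))).symm
theorem E3996 : n19662 = n12634 := ((((iv D16268)).symm.trans (sb E3332 (iv D24912)))).symm
theorem E4004 : n12880 = n7877 := ((((iv F37192)).symm.trans (sb E3340 F75082))).symm
theorem E4016 : n11957 = n7903 := (((iv F55420)).symm.trans (sb E3352 F46620))
theorem E4019 : n12986 = n7779 := ((((iv F36784)).symm.trans (sb E3355 F75562))).symm
theorem E4022 : n7961 = n7381 := ((((iv F35216)).symm.trans (sb E3357 F46938))).symm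
theorem E4024 : n11818 = n7962 := (((iv F54745)).symm.trans (sb E3360 F46941))
theorem E4025 : n7446 = n7391 := (((iv F35518)).symm.trans (sb E3361 F44005))
theorem E4027 : n7123 = n4716 := ((((iv F23031)).symm.trans (sb E3363 D7123))).symm
theorem E4028 : n5028 = n4630 := (((iv F24290)).symm.trans (sb E3363 F27232))
theorem E4032 : n12050 = n4992 := (E3884).trans E3930
theorem E4033 : n12973 = n4984 := (E3875).trans E3926
theorem E4035 : n7299 = n4715 := ((((iv F23026)).symm.trans (sb E3369 D7299))).symm
theorem E4037 : n5024 = n4627 := ((D5024).symm.trans (sb E3370 F27927))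
theorem E4038 : n7381 = n7289 := ((((iv F34721)).symm.trans (sb E3474 (tr D7961 E4022)))).symm
theorem E4039 : n7391 = n7292 := ((((iv F34737)).symm.trans (sb E3480 (tr D7446 E4025)))).symm
theorem E4040 : n21402 = n11930 := ((((iv D15325)).symm.trans (sb E3376 F120757))).symm
theorem E4042 : n22392 = n19528 := ((((iv F88544)).symm.trans (sb E3377 (iv F100064)))).symm
theorem E4043 : n19782 = n11929 := ((((iv D15324)).symm.trans (sb E3377 (iv F89760)))).symm
theorem E4044 : n19585 = n14047 := ((D19585).symm.trans (sb E3377 (iv D18080)))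
theorem E4046 : n22377 = n21052 := ((((iv F94497)).symm.trans (sb E3381 (iv F99997)))).symm
theorem E4047 : n19814 = n12802 := ((((iv D16490)).symm.trans (sb E3381 (iv F89929)))).symm
theorem E4049 : n21084 = n13588 := ((((iv F61856)).symm.trans (sb E3383 (iv F94611)))).symm
theorem E4051 : n20975 = n20847 := (((iv F94228)).symm.trans (sb E3384 (iv F93737)))
theorem E4052 : n22384 = n12775 := ((((iv D16456)).symm.trans (sb E3384 (iv F100031)))).symm
theorem E4058 : n22533 = n13582 := (((F78826).symm.trans (sb E3390 (iv F100612)))).symm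
theorem E4059 : n19807 = n13728 := (((iv F89890)).symm.trans (sb E3390 (iv D17716)))
theorem E4065 : n13674 = n13586 := ((((iv F61849)).symm.trans (sb E3394 (iv D17642)))).symm
theorem E4068 : n21389 = n4927 := (E3831).trans E3873
theorem E4070 : n12992 = n7372 := ((((iv D9344)).symm.trans (sb E3397 F75624))).symm
theorem E4071 : n12644 = n12069 := ((F68596).symm.trans (sb E3399 F70951))
theorem E4072 : n12067 = n11691 := ((((iv D14995)).symm.trans (sb E3399 F70952))).symm
theorem E4073 : n12065 = n7376 := (((F43935).symm.trans (sb E3400 F70936))).symm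
theorem E4074 : n12061 = n11798 := ((((iv D15138)).symm.trans (sb E3401 F70909))).symm
theorem E4080 : n23153 = n8288 := ((((iv F38873)).symm.trans (sb E3407 (iv F103373)))).symm
theorem E4083 : n21391 = n12654 := ((((iv F58077)).symm.trans (sb E3409 (iv F95911)))).symm
theorem E4091 : n12994 = n11814 := ((((iv F54723)).symm.trans (sb E3415 F75590))).symm
theorem E4094 : n7372 = n7309 := ((((iv F34841)).symm.trans (sb E3418 (tr F75584 E4070)))).symm
theorem E4095 : n7375 = n1503 := ((((iv D2150)).symm.trans (sb E3420 (tr D23238 E3490)))).symm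
theorem E4096 : n7376 = n7321 := (((F43497).symm.trans (sb E3421 (tr (iv F55892) E4073)))).symm
theorem E4097 : n12992 = n7309 := (E4070).trans E4094
theorem E4098 : n14268 = n12024 := (((F70698).symm.trans (sb E3423 (iv D18308)))).symm
theorem E4099 : n21296 = n12001 := ((((iv F55587)).symm.trans (sb E3424 (iv F95456)))).symm
theorem E4100 : n12991 = n7416 := ((((iv D9404)).symm.trans (sb E3424 (iv D16728)))).symm
theorem E4101 : n19707 = n13835 := ((((iv F62864)).symm.trans (sb E3425 (iv F89380)))).symm
theorem E4102 : n12033 = n8706 := ((((iv D11114)).symm.trans (sb E3425 F70690))).symm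
theorem E4103 : n21191 = n19666 := ((((iv F89217)).symm.trans (sb E3426 (iv F95054)))).symm
theorem E4104 : n19699 = n12000 := ((((iv D15420)).symm.trans (sb E3426 F89346))).symm
theorem E4105 : n12064 = n7422 := (((F44192).symm.trans (sb E3427 F70929))).symm
theorem E4106 : n21256 = n12844 := ((((iv F58836)).symm.trans (sb E3428 (iv F95332)))).symm
theorem E4107 : n12929 = n8424 := ((((iv D10759)).symm.trans (sb E3428 F75246))).symm
theorem E4109 : n21214 = n12846 := (((F74899).symm.trans (sb E3430 (iv F95161)))).symm
theorem E4110 : n21184 = n12884 := (((iv F95025)).symm.trans (sb E3430 (iv D16600)))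
theorem E4111 : n19660 = n12598 := ((((iv F57869)).symm.trans (sb E3431 F89195))).symm
theorem E4114 : n7961 = n7289 := (E4022).trans E4038
theorem E4115 : n7416 = n7379 := ((((iv F35208)).symm.trans (sb E3464 (tr D12991 E4100)))).symm
theorem E4116 : n8284 = n7450 := (((F44394).symm.trans (sb E3436 F45954))).symm
theorem E4117 : n7768 = n7448 := (((F44396).symm.trans (sb E3436 (iv D9866)))).symm
theorem E4118 : n11996 = n11787 := ((((iv F54577)).symm.trans (sb E3437 (iv F55567)))).symm
theorem E4119 : n7446 = n7292 := (E4025).trans E4039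
theorem E4120 : n7422 = n7387 := ((((iv F35245)).symm.trans (sb E3472 (tr D12064 E4105)))).symm
theorem E4121 : n12065 = n7321 := (E4073).trans E4096
theorem E4122 : n11975 = n11781 := ((((iv F54546)).symm.trans (sb E3439 (iv F55487)))).symm
theorem E4123 : n7548 = n7443 := ((F43412).symm.trans (sb E3439 F44361))
theorem E4127 : n13907 = n5292 := ((((iv D6653)).symm.trans (sb E3442 F80492))).symm
theorem E4128 : n13953 = n8159 := ((((iv F38363)).symm.trans (sb E3443 (iv F63281)))).symm
theorem E4131 : n13856 = n12842 := ((((iv F58829)).symm.trans (sb E3445 (iv F75100)))).symm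
theorem E4132 : n13832 = n13458 := (((iv F62853)).symm.trans (sb E3446 (iv F61335)))
theorem E4140 : n12991 = n7379 := (E4100).trans E4115
theorem E4141 : n7417 = n4978 := ((((iv D6240)).symm.trans (sb E3452 (tr (iv F75583) E3868)))).symm
theorem E4142 : n14310 = n4978 := (E3868).trans E4141
theorem E4145 : n12064 = n7387 := (E4105).trans E4120
theorem E4146 : n12993 = n11948 := ((((iv F55379)).symm.trans (sb E3456 D12993))).symm
theorem E4149 : n7382 = n4703 := ((D7382).symm.trans (sb E3459 F28420))
theorem F130922 : act 8 n5858 = n4704 := (sb E3459 F28421)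
theorem F130923 : act 8 n5864 = n4708 := (sb E3463 F28441)
theorem E4150 : n7301 = n4713 := ((D7301).symm.trans (sb E3465 F28479))
theorem F130924 : act 6 n3580 = n4704 := (sb E3466 (iv D5895))
theorem E4156 : n5219 = n5032 := ((F29513).symm.trans (sb E3473 F30104))
theorem F130926 : act 0 n3582 = n4704 := (sb E3475 (iv D5894))
theorem F130927 : act 7 n3582 = n4708 := (sb E3475 F28446)
theorem E4157 : n6552 = n5902 := (E3477).trans E3486
theorem E4158 : n7435 = n5032 := (E3933).trans E4156
theorem F130928 : act 6 n5902 = n5218 := (sb E4157 (iv D6552))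
theorem E4159 : n7450 = n7388 := ((((iv F35251)).symm.trans (sb E4157 (tr (iv F38857) E4116)))).symm
theorem F130929 : act 2 n5903 = n5218 := (sb E3485 F29508)
theorem E4160 : n7448 = n7389 := ((((iv F35255)).symm.trans (sb E3485 (tr (iv F36734) E4117)))).symm
theorem F130930 : act 3 n5904 = n4717 := (sb E3481 F28518)
theorem F130931 : act 7 n5904 = n4715 := (sb E3481 (iv D5907))
theorem E4161 : n7443 = n7400 := ((D7443).symm.trans (sb E3481 (iv F35300)))
theorem E4162 : n5218 = n4718 := ((F130929).symm.trans (sb E3483 F28523))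
theorem F130932 : act 5 n5903 = n4717 := (sb E3483 F28525)
theorem F130933 : act 7 n5903 = n4716 := (sb E3483 (iv D5908))
theorem E4164 : n7548 = n7400 := (E4123).trans E4161
theorem E4165 : n7768 = n7389 := (E4117).trans E4160
theorem E4167 : n8284 = n7388 := (E4116).trans E4159
theorem E4169 : n29130 = n15316 := ((((iv F70111)).symm.trans (sb E3489 (iv F129675)))).symm
theorem E4170 : n18263 = n15334 := ((((iv F70209)).symm.trans (sb E3489 F103799))).symm
theorem E4171 : n18262 = n9339 := ((((iv D11937)).symm.trans (sb E3489 (iv D23239)))).symm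
theorem E4172 : n23238 = n1503 := (E3490).trans E4095
theorem E4173 : n9339 = n2149 := ((((iv F10588)).symm.trans (sb E4172 (tr F103793 E4171)))).symm
theorem E4174 : n29135 = n16489 := ((((iv F74657)).symm.trans (sb E3491 (iv F129700)))).symm
theorem E4175 : n18249 = n16502 := ((((iv F74716)).symm.trans (sb E3491 F103747))).symm
theorem E4176 : n18248 = n9979 := ((((iv D12811)).symm.trans (sb E3491 (iv D23231)))).symm
theorem E4177 : n11056 = n9994 := ((((iv D12829)).symm.trans (sb E3492 (iv D14210)))).symm
theorem E4178 : n18262 = n2149 := (E4171).trans E4173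
theorem E4179 : n11055 = n6228 := ((((iv D7860)).symm.trans (sb E3493 (iv D14209)))).symm
theorem E4180 : n6228 = n2155 := ((((iv F10616)).symm.trans (sb E3646 (tr (iv D14208) E4179)))).symm
theorem E4181 : n29136 = n17784 := ((((iv F79919)).symm.trans (sb E3495 (iv F129707)))).symm
theorem E4182 : n18253 = n17786 := ((((iv F79932)).symm.trans (sb E3495 F103765))).symm
theorem E4183 : n18252 = n10716 := ((((iv D13782)).symm.trans (sb E3495 (iv D23234)))).symm
theorem E4184 : n18238 = n17803 := ((((iv F80010)).symm.trans (sb E3496 (iv F82006)))).symm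
theorem E4185 : n11040 = n10725 := ((((iv D13795)).symm.trans (sb E3496 (iv D14194)))).symm
theorem E4186 : n11039 = n6628 := ((((iv D8396)).symm.trans (sb E3497 (iv D14193)))).symm
theorem E4187 : n6827 = n6639 := ((((iv D8411)).symm.trans (sb E3498 (iv D8656)))).symm
theorem E4188 : n11055 = n2155 := (E4179).trans E4180
theorem E4189 : n6828 = n4233 := ((((iv D5281)).symm.trans (sb E3499 F40466))).symm
theorem E4191 : n11065 = n11042 := ((((iv D14196)).symm.trans (sb E3501 (iv D14216)))).symm
theorem E4192 : n11041 = n6836 := ((((iv D8665)).symm.trans (sb E3502 (iv D14195)))).symm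
theorem E4194 : n6842 = n6816 := ((((iv D8642)).symm.trans (sb E3504 (iv D8673)))).symm
theorem E4195 : n6817 = n4351 := ((((iv D5435)).symm.trans (sb E3505 F40391))).symm
theorem E4196 : n4360 = n4343 := ((((iv D5424)).symm.trans (sb E3506 F26149))).symm
theorem E4197 : n4363 = n2183 := (((F15084).symm.trans (sb E3507 F26044))).symm
theorem E4198 : n6823 = n2182 := ((((iv D3115)).symm.trans (sb E3507 (iv F32345)))).symm
theorem E4199 : n2182 = n2175 := ((((iv F10716)).symm.trans (sb E3520 (tr F40439 E4198)))).symm
theorem E4200 : n11072 = n6809 := ((((iv D8632)).symm.trans (sb E3510 (iv D14224)))).symm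
theorem E4202 : n6812 = n4338 := (((F26003).symm.trans (sb E3512 (iv F32286)))).symm
theorem E4203 : n6813 = n4350 := (((iv F32294)).symm.trans (sb E3512 (iv D5434)))
theorem E4204 : n6823 = n2175 := (E4198).trans E4199
theorem E4205 : n2183 = n2174 := ((((iv D3104)).symm.trans (sb E3513 (tr F26144 E4197)))).symm
theorem E4206 : n4340 = n2186 := (((F15032).symm.trans (sb E3514 F26013))).symm
theorem E4207 : n4341 = n4339 := (((iv F21091)).symm.trans (sb E3514 (iv D5419)))
theorem E4208 : n2186 = n2184 := (((F15080).symm.trans (sb E3515 (tr (iv D5421) E4206)))).symm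
theorem E4210 : n2166 = n2104 := (((iv F10667)).symm.trans (sb E3517 (iv F10380)))
theorem E4212 : n2176 = n1069 := (((iv F10721)).symm.trans (sb E3517 (iv D1530)))
theorem E4214 : n2177 = n1070 := ((D2177).symm.trans (sb E3517 F7672))
theorem E4215 : n2165 = n2105 := (((iv F10661)).symm.trans (sb E3518 (iv F10385)))
theorem E4221 : n5884 = n2191 := (((D2191).symm.trans (sb E3523 (iv D7421)))).symm
theorem E4228 : n3978 = n2194 := (((D2194).symm.trans (sb E3527 (iv D5006)))).symm
theorem E4235 : n4400 = n4272 := (((F25602).symm.trans (sb E3529 (iv D5502)))).symm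
theorem E4236 : n4272 = n2197 := ((((iv F10825)).symm.trans (sb E3708 (tr (iv D5503) E4235)))).symm
theorem E4237 : n4233 = n2164 := ((((iv F10659)).symm.trans (sb E3708 (tr (iv F32370) E4189)))).symm
theorem E4238 : n4239 = n2087 := ((((iv F10304)).symm.trans (sb E3532 (iv F20623)))).symm
theorem E4240 : n2214 = n2212 := ((F15225).symm.trans (sb E3533 F15258))
theorem E4241 : n2215 = n2205 := ((((iv D3146)).symm.trans (sb E3533 F15259))).symm
theorem E4242 : n2212 = n2203 := ((((iv F10851)).symm.trans (sb E3707 (tr (iv D3157) E4240)))).symm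
theorem E4243 : n4363 = n2174 := (E4197).trans E4205
theorem E4244 : n2199 = n2122 := (((iv F10832)).symm.trans (sb E3537 (iv F10456)))
theorem E4245 : n2210 = n1085 := (((F7746).symm.trans (sb E3537 D2210))).symm
theorem E4246 : n2206 = n1083 := (((iv F10865)).symm.trans (sb E3537 (iv D1548)))
theorem E4248 : n2207 = n1084 := ((D2207).symm.trans (sb E3537 F7762))
theorem E4249 : n2198 = n2123 := (((iv F10828)).symm.trans (sb E3539 (iv F10461)))
theorem E4250 : n2205 = n2204 := ((D2205).symm.trans (sb E3539 (iv F10855)))
theorem E4251 : n2214 = n2203 := (E4240).trans E4242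
theorem E4252 : n3142 = n1551 := (((D1551).symm.trans (iv (sb E3541 (tr F15216 E4248))))).symm
theorem E4253 : n3144 = n1551 := (E3541).trans E4252
theorem E4254 : n2215 = n2204 := (E4241).trans E4250
theorem E4255 : n4339 = n2185 := ((((iv F10768)).symm.trans (sb E4253 (tr (iv F21092) E4207)))).symm
theorem E4256 : n2213 = n2126 := ((D2213).symm.trans (sb E3542 (iv F10473)))
theorem F130945 : act 5 n1550 = n1086 := (sb E3542 F7779)
theorem E4257 : n2196 = n1949 := ((((iv F9662)).symm.trans (sb E3545 (iv F10820)))).symm
theorem F130946 : act 2 n1486 = n1082 := (sb E3545 F7733)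
theorem F130947 : act 3 n1486 = n2116 := (sb E3545 (iv F10435))
theorem F130948 : act 6 n1486 = n1078 := (sb E3545 (iv D1542))
theorem F130949 : act 4 n758 = n1082 := (sb E3547 F7752)
theorem F130950 : act 6 n758 = n1081 := (sb E3547 (iv D1546))
theorem F130951 : act 3 n759 = n1086 := (sb E3549 F7756)
theorem F130952 : act 7 n759 = n1082 := (sb E3549 (iv D1547))
theorem E4265 : n2195 = n1950 := ((((iv F9666)).symm.trans (sb E3550 (iv F10815)))).symm
theorem F130953 : act 2 n1487 = n1081 := (sb E3550 F7728)
theorem F130954 : act 4 n1487 = n1078 := (sb E3550 (iv D1541))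
theorem E4268 : n1104 = n950 := ((((iv F4882)).symm.trans (sb E3552 (iv F5638)))).symm
theorem E4270 : n1042 = n541 := (((iv F5319)).symm.trans (sb E3552 (iv D774)))
theorem E4272 : n1094 = n264 := (((F2049).symm.trans (sb E3553 (iv F5584)))).symm
theorem F130955 : act 4 n378 = n532 := (sb E3553 F3971)
theorem E4274 : n543 = n531 := ((D543).symm.trans (sb E3553 (iv D764)))
theorem E4286 : n4155 = n2115 := (((D2115).symm.trans (sb E3560 (iv F19833)))).symm
theorem E4288 : n2231 = n1750 := ((((iv F8796)).symm.trans (sb E3562 (iv F10990)))).symm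
theorem F130956 : act 4 n1362 = n1098 := (sb E3562 (iv D1566))
theorem E4299 : n2232 = n1749 := ((((iv F8790)).symm.trans (sb E3569 (iv F10996)))).symm
theorem F130957 : act 6 n1361 = n1098 := (sb E3569 (iv D1567))
theorem E4312 : n29082 = n24839 := ((((iv F111801)).symm.trans (sb E3576 (iv F129420)))).symm
theorem E4313 : n29090 = n26863 := ((((iv F119742)).symm.trans (sb E3576 (iv F129459)))).symm
theorem E4314 : n18205 = n16521 := ((((iv D21167)).symm.trans (sb E3576 (iv D23183)))).symm
theorem E4315 : n29080 = n15331 := ((((iv F70189)).symm.trans (sb E3577 (iv F129412)))).symm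
theorem E4317 : n18204 = n9991 := ((((iv D12826)).symm.trans (sb E3577 (iv D23181)))).symm
theorem E4318 : n29071 = n28690 := ((((iv F127562)).symm.trans (sb E3578 (iv F129365)))).symm
theorem E4320 : n18211 = n17826 := ((((iv D22800)).symm.trans (sb E3578 (iv D23191)))).symm
theorem E4322 : n28473 = n17760 := ((((iv F79829)).symm.trans (sb E3579 (iv F126690)))).symm
theorem E4323 : n11007 = n10740 := ((((iv D13814)).symm.trans (sb E3580 (iv D14156)))).symm
theorem E4324 : n17660 = n10695 := ((((iv F49338)).symm.trans (sb E3581 (iv F79442)))).symm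
theorem E4325 : n29079 = n9346 := ((((iv F43949)).symm.trans (sb E3582 (iv F129406)))).symm
theorem E4330 : n28569 = n28438 := (((iv F127082)).symm.trans (sb E3584 (iv F126536)))
theorem E4332 : n28625 = n17667 := ((((iv F79470)).symm.trans (sb E3585 (iv F127294)))).symm
theorem E4333 : n17754 = n17666 := ((((iv D22594)).symm.trans (sb E3586 (iv D22714)))).symm
theorem E4335 : n17753 = n10646 := ((((iv F49143)).symm.trans (sb E3587 (iv F79803)))).symm
theorem E4336 : n10693 = n10647 := (((F62265).symm.trans (sb E3588 (iv D13754)))).symm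
theorem E4338 : n28453 = n10379 := ((((iv F48049)).symm.trans (sb E3589 (iv F126606)))).symm
theorem E4340 : n28258 = n10655 := (((F62295).symm.trans (sb E3591 (iv F125812)))).symm
theorem E4344 : n28448 = n6591 := ((((iv D8343)).symm.trans (sb E3592 (iv F126582)))).symm
theorem E4346 : n17645 = n6593 := (((F39111).symm.trans (sb E3593 (iv D22565)))).symm
theorem E4349 : n18198 = n4210 := (((F25252).symm.trans (sb E3596 F102550))).symm
theorem E4350 : n28879 = n4209 := ((((iv D5248)).symm.trans (sb E3596 (iv F128454)))).symm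
theorem E4351 : n11001 = n4225 := (((F25260).symm.trans (sb E3598 F64185))).symm
theorem E4352 : n18401 = n15456 := ((((iv D19754)).symm.trans (sb E3599 (iv D23354)))).symm
theorem E4353 : n11184 = n10086 := ((((iv D12951)).symm.trans (sb E3600 (iv D14365)))).symm
theorem E4354 : n18400 = n9407 := ((((iv D12029)).symm.trans (sb E3601 (iv D23352)))).symm
theorem E4355 : n28819 = n16654 := ((((iv F75283)).symm.trans (sb E3602 (iv F128148)))).symm
theorem E4356 : n17939 = n10062 := ((((iv F46715)).symm.trans (sb E3603 (iv F80554)))).symm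
theorem E4357 : n17945 = n10837 := ((((iv D13947)).symm.trans (sb E3604 (iv D22919)))).symm
theorem E4359 : n10836 = n10812 := (((iv F49883)).symm.trans (sb E3605 (iv F49798)))
theorem E4360 : n10813 = n6689 := ((((iv D8479)).symm.trans (sb E3606 F63122))).symm
theorem E4362 : n27073 = n4099 := (((D4099).symm.trans (sb E3781 (iv F120661)))).symm
theorem E4363 : n9407 = n4098 := ((((iv F19594)).symm.trans (sb E3781 (tr (iv D23351) E4354)))).symm
theorem E4364 : n9346 = n4046 := ((((iv F19364)).symm.trans (sb E3781 (tr (iv F129411) E4325)))).symm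
theorem E4365 : n9237 = n4099 := (((iv F43377)).symm.trans (sb E3608 (tr (iv F120657) E4362)))
theorem E4369 : n28805 = n6531 := ((((iv F31042)).symm.trans (sb E3609 (iv F128080)))).symm
theorem E4371 : n17976 = n17953 := (((F102237).symm.trans (sb E3611 F102322))).symm
theorem E4372 : n10835 = n10818 := (((F63145).symm.trans (sb E3612 F63238))).symm
theorem E4374 : n10834 = n6677 := ((((iv D8462)).symm.trans (sb E3613 F63234))).symm
theorem E4376 : n10801 = n6679 := (((F39588).symm.trans (sb E3614 (iv F49755)))).symm
theorem E4377 : n10817 = n10511 := ((D10817).symm.trans (sb E3614 (iv F48571)))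
theorem E4379 : n17929 = n6530 := ((((iv D8268)).symm.trans (sb E3616 (iv D22899)))).symm
theorem E4381 : n17525 = n10827 := (((F63186).symm.trans (sb E3618 (iv D22403)))).symm
theorem E4383 : n16551 = n6685 := (((F39618).symm.trans (sb E3619 (iv F74927)))).symm
theorem E4386 : n17925 = n4258 := (((F25528).symm.trans (sb E3621 F101870))).symm
theorem E4387 : n28762 = n6485 := ((((iv F30869)).symm.trans (sb E3621 (iv F127899)))).symm
theorem E4389 : n10803 = n4267 := (((F25536).symm.trans (sb E3623 F63066))).symm
theorem E4390 : n17371 = n6684 := (((D6684).symm.trans (sb E3623 (iv F78270)))).symm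
theorem E4392 : n4258 = n4148 := ((((iv F19807)).symm.trans (sb E3694 (tr (iv F80500) E4386)))).symm
theorem E4393 : n4210 = n4091 := ((((iv F19555)).symm.trans (sb E3694 (tr (iv F81814) E4349)))).symm
theorem E4394 : n4209 = n4092 := ((((iv F19561)).symm.trans (sb E3693 (tr D28879 E4350)))).symm
theorem E4395 : n4267 = n4151 := ((((iv F19818)).symm.trans (sb E3703 (tr (iv F49764) E4389)))).symm
theorem E4396 : n4225 = n4093 := ((((iv F19567)).symm.trans (sb E3703 (tr (iv F50641) E4351)))).symm
theorem E4397 : n16294 = n6744 := (((F39914).symm.trans (sb E3629 (iv F73929)))).symm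
theorem E4399 : n15354 = n4298 := (((F25731).symm.trans (sb E3631 (iv F70307)))).symm
theorem E4400 : n10011 = n6743 := ((((iv F31949)).symm.trans (sb E3631 (iv D12849)))).symm
theorem E4402 : n9423 = n4181 := (((D4181).symm.trans (sb E3739 (iv D12043)))).symm
theorem E4403 : n4298 = n4172 := ((((iv F19917)).symm.trans (sb E3739 (tr (iv F70310) E4399)))).symm
theorem E4404 : n4297 = n4181 := ((F25725).symm.trans (sb E3634 (tr (iv F44296) E4402)))
theorem E4405 : n4250 = n3859 := ((((iv F18534)).symm.trans (sb E3635 (iv F20667)))).symm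
theorem E4406 : n4154 = n2120 := ((D4154).symm.trans (sb E3635 F14644))
theorem F130984 : act 4 n2914 = n2116 := (sb E3635 F14645)
theorem E4409 : n4249 = n3860 := ((((iv F18538)).symm.trans (sb E3636 (iv F20663)))).symm
theorem E4410 : n4156 = n4118 := ((D4156).symm.trans (sb E3636 (iv F19684)))
theorem E4411 : n4180 = n4006 := ((D4180).symm.trans (sb E3637 (iv F19157)))
theorem F130985 : act 7 n2932 = n2145 := (sb E3637 (iv D3061))
theorem E4413 : n4157 = n3976 := ((D4157).symm.trans (sb E3638 (iv F19019)))
theorem F130986 : act 4 n2916 = n2121 := (sb E3638 F14673)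
theorem E4414 : n29059 = n24814 := ((((iv F111672)).symm.trans (sb E3639 (iv F129311)))).symm
theorem E4415 : n18203 = n15332 := ((((iv D19597)).symm.trans (sb E3639 (iv D23179)))).symm
theorem E4416 : n29058 = n15313 := ((((iv F70095)).symm.trans (sb E3640 (iv F129305)))).symm
theorem E4417 : n18202 = n9336 := ((((iv D11935)).symm.trans (sb E3640 (iv D23178)))).symm
theorem E4420 : n18186 = n16499 := ((((iv D21142)).symm.trans (sb E3641 (iv D23161)))).symm
theorem E4421 : n29063 = n16497 := ((((iv F74692)).symm.trans (sb E3642 (iv F129325)))).symm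
theorem E4422 : n18185 = n9976 := ((((iv D12808)).symm.trans (sb E3642 (iv D23160)))).symm
theorem E4423 : n11005 = n9992 := ((((iv D12827)).symm.trans (sb E3643 (iv D14154)))).symm
theorem E4424 : n11006 = n6227 := ((((iv D7857)).symm.trans (sb E3644 F64221))).symm
theorem E4425 : n29079 = n4046 := (E4325).trans E4364
theorem E4426 : n9336 = n4191 := ((((iv F20410)).symm.trans (sb E3830 (tr (iv D23177) E4417)))).symm
theorem E4427 : n27062 = n4198 := (((D4198).symm.trans (sb E3832 (iv F120586)))).symm
theorem E4428 : n29068 = n28662 := ((((iv F127422)).symm.trans (sb E3648 (iv F129347)))).symm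
theorem E4429 : n29053 = n28688 := ((((iv F127556)).symm.trans (sb E3648 (iv F129279)))).symm
theorem E4430 : n18189 = n17798 := ((((iv D22767)).symm.trans (sb E3648 (iv D23166)))).symm
theorem E4431 : n29067 = n17781 := ((((iv F79903)).symm.trans (sb E3649 (iv F129341)))).symm
theorem E4432 : n18188 = n10721 := ((((iv D13790)).symm.trans (sb E3649 (iv D23164)))).symm
theorem E4433 : n18177 = n17801 := ((((iv D22770)).symm.trans (sb E3650 (iv D23150)))).symm
theorem E4434 : n10990 = n10722 := ((((iv D13792)).symm.trans (sb E3651 (iv D14137)))).symm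
theorem E4435 : n10991 = n6627 := ((((iv D8393)).symm.trans (sb E3652 F64140))).symm
theorem E4436 : n6795 = n6638 := (((F39384).symm.trans (sb E3653 (iv D8613)))).symm
theorem E4437 : n6828 = n2164 := (E4189).trans E4237
theorem E4438 : n10645 = n6611 := ((((iv F31402)).symm.trans (sb E3654 (iv F49139)))).symm
theorem E4439 : n11000 = n4232 := ((((iv D5280)).symm.trans (sb E3654 (iv F50635)))).symm
theorem E4440 : n6099 = n4198 := (((iv F29290)).symm.trans (sb E3656 (tr (iv F120583) E4427)))
theorem E4442 : n18198 = n4091 := (E4349).trans E4393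
theorem E4443 : n4232 = n4208 := ((((iv F20486)).symm.trans (sb E3679 (tr F64192 E4439)))).symm
theorem E4446 : n17719 = n17635 := (((iv F79680)).symm.trans (sb E3659 (iv F79340)))
theorem E4447 : n17794 = n10983 := ((((iv D14127)).symm.trans (sb E3660 (iv D22762)))).symm
theorem E4448 : n10720 = n6787 := ((((iv D8602)).symm.trans (sb E3661 F62647))).symm
theorem E4449 : n10676 = n10633 := (((iv F49266)).symm.trans (sb E3662 (iv F49087)))
theorem E4450 : n10987 = n6626 := ((((iv D8392)).symm.trans (sb E3662 (iv F50576)))).symm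
theorem E4451 : n10694 = n6588 := ((((iv F31307)).symm.trans (sb E3663 (iv F49333)))).symm
theorem E4453 : n10637 = n6590 := (((F39094).symm.trans (sb E3664 (iv F49105)))).symm
theorem E4454 : n10639 = n6610 := (((iv F49114)).symm.trans (sb E3664 (iv D8372)))
theorem E4455 : n11000 = n4208 := (E4439).trans E4443
theorem E4456 : n6791 = n4235 := (((F25389).symm.trans (sb E3665 (iv D8609)))).symm
theorem E4458 : n11001 = n4093 := (E4351).trans E4396
theorem E4459 : n4235 = n4223 := ((((iv F20551)).symm.trans (sb E3705 (tr (iv D8608) E4456)))).symm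
theorem E4460 : n11083 = n6781 := ((((iv D8595)).symm.trans (sb E3668 F64589))).symm
theorem E4462 : n6847 = n4319 := ((((iv D5394)).symm.trans (sb E3669 F40542))).symm
theorem E4463 : n10986 = n6583 := ((((iv F31283)).symm.trans (sb E3670 (iv F50569)))).symm
theorem E4464 : n6811 = n6785 := ((((iv F32154)).symm.trans (sb E3670 (iv D8634)))).symm
theorem E4466 : n4362 = n4321 := ((((iv F20985)).symm.trans (sb E3673 (iv D5450)))).symm
theorem E4467 : n6791 = n4223 := (E4456).trans E4459
theorem E4468 : n6790 = n6586 := ((((iv F31299)).symm.trans (sb E3674 (iv D8607)))).symm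
theorem E4469 : n4341 = n2185 := (E4207).trans E4255
theorem E4470 : n4342 = n4322 := ((((iv D5398)).symm.trans (sb E3675 F26009))).symm
theorem E4471 : n4199 = n3954 := (((iv F20441)).symm.trans (sb E3677 (iv F18933)))
theorem E4473 : n4211 = n2106 := ((D4211).symm.trans (sb E3677 F14583))
theorem E4475 : n11182 = n9408 := ((((iv D12030)).symm.trans (sb E3680 (iv D14363)))).symm
theorem E4476 : n18400 = n4098 := (E4354).trans E4363
theorem E4477 : n9408 = n4242 := ((((iv F20640)).symm.trans (sb E3867 (tr (iv D14362) E4475)))).symm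
theorem E4478 : n18202 = n4191 := (E4417).trans E4426
theorem E4480 : n6906 = n6280 := (((F37366).symm.trans (sb E3682 (iv D8757)))).symm
theorem E4481 : n10811 = n4247 := (((D4247).symm.trans (sb E3900 (iv F49793)))).symm
theorem E4482 : n6280 = n4246 := ((((iv F20655)).symm.trans (sb E3900 (tr (iv D8758) E4480)))).symm
theorem E4483 : n6227 = n4197 := ((((iv F20436)).symm.trans (sb E3900 (tr (iv F50664) E4424)))).symm
theorem E4487 : n5883 = n4243 := (((D4243).symm.trans (sb E3685 (iv D7418)))).symm
theorem E4494 : n6690 = n6676 := (((iv F31719)).symm.trans (sb E3689 (iv F31671)))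
theorem E4495 : n4387 = n4275 := (((F25597).symm.trans (sb E3689 (iv D5483)))).symm
theorem E4496 : n6265 = n4247 := (((iv F29925)).symm.trans (sb E3690 (tr (iv F49791) E4481)))
theorem E4497 : n6696 = n4261 := (((F25546).symm.trans (sb E3690 F39581))).symm
theorem E4498 : n10802 = n4260 := ((((iv D5318)).symm.trans (sb E3690 (iv F49760)))).symm
theorem E4499 : n4260 = n4255 := ((((iv F20688)).symm.trans (sb E3700 (tr (iv F49759) E4498)))).symm
theorem E4501 : n6156 = n3962 := ((((iv F18972)).symm.trans (sb E3692 (iv F29472)))).symm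
theorem E4502 : n4248 = n3977 := (((iv F20659)).symm.trans (sb E3695 (iv F19024)))
theorem E4505 : n4256 = n2124 := ((D4256).symm.trans (sb E3695 F14678))
theorem E4507 : n4261 = n4254 := ((((iv D5310)).symm.trans (sb E3696 (tr F39644 E4497)))).symm
theorem E4508 : n6696 = n4254 := (E4497).trans E4507
theorem E4509 : n4384 = n4274 := (((iv F21294)).symm.trans (sb E3697 (iv D5338)))
theorem E4510 : n6672 = n4266 := (((F25523).symm.trans (sb E3698 F39549))).symm
theorem E4511 : n6674 = n6671 := (((iv F31663)).symm.trans (sb E3698 (iv D8453)))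
theorem E4512 : n10804 = n6501 := ((((iv F30929)).symm.trans (sb E3699 (iv F49767)))).symm
theorem E4513 : n4266 = n4263 := (((F25543).symm.trans (sb E3699 (tr (iv D8455) E4510)))).symm
theorem E4515 : n4274 = n4262 := ((((iv F20717)).symm.trans (sb E3710 (tr (iv D5479) E4509)))).symm
theorem E4516 : n17925 = n4148 := (E4386).trans E4392
theorem E4517 : n10803 = n4151 := (E4389).trans E4395
theorem E4518 : n17930 = n6517 := ((((iv F30987)).symm.trans (sb E3702 D17930))).symm
theorem E4521 : n3134 = n3034 := ((((iv F14687)).symm.trans (iv (sb E3709 (tr (iv D3156) E4256))))).symm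
theorem E4522 : n3156 = n3034 := (E3709).trans E4521
theorem E4523 : n4321 = n4234 := ((((iv F20603)).symm.trans (sb E4522 (tr (iv F21193) E4466)))).symm
theorem E4524 : n4275 = n4253 := ((((iv D5308)).symm.trans (sb E3711 (tr F26293 E4495)))).symm
theorem E4525 : n4387 = n4253 := (E4495).trans E4524
theorem E4526 : n3135 = n3037 := ((((iv F14699)).symm.trans (iv (sb E3712 (tr F15219 E4256))))).symm
theorem E4527 : n3145 = n3037 := (E3712).trans E4526
theorem E4528 : n4322 = n4237 := ((((iv F20616)).symm.trans (sb E4527 (tr (iv F21096) E4470)))).symm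
theorem E4529 : n4245 = n3568 := ((((iv F17305)).symm.trans (sb E3713 (iv F20649)))).symm
theorem F131001 : act 1 n2789 = n2116 := (sb E3713 F14622)
theorem F131002 : act 2 n2789 = n3963 := (sb E3713 (iv F18976))
theorem F131003 : act 6 n2789 = n2112 := (sb E3713 (iv D3018))
theorem F131004 : act 2 n1488 = n2121 := (sb E3715 F14648)
theorem F131005 : act 7 n1488 = n2116 := (sb E3715 (iv D3024))
theorem E4533 : n4287 = n3492 := ((((iv F16915)).symm.trans (sb E3717 (iv F20819)))).symm
theorem F131006 : act 6 n2713 = n2140 := (sb E3717 (iv D3056))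
theorem F131007 : act 2 n1500 = n2051 := (sb E3718 (iv D2935))
theorem F131008 : act 7 n1500 = n2053 := (sb E3718 F14237)
theorem F131009 : act 2 n2929 = n2145 := (sb E3720 F14802)
theorem E4541 : n4296 = n4166 := ((((iv F19889)).symm.trans (sb E3720 D4296))).symm
theorem F131010 : act 3 n1498 = n2052 := (sb E3721 F14240)
theorem F131011 : act 6 n1498 = n2051 := (sb E3721 (iv D2936))
theorem F131012 : act 1 n2808 = n2053 := (sb E3728 (iv D2938))
theorem F131013 : act 2 n2808 = n3883 := (sb E3728 (iv F18629))
theorem E4550 : n4286 = n3493 := ((D4286).symm.trans (sb E3732 F22583))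
theorem F131014 : act 6 n2802 = n3880 := (sb E3733 (iv D4922))
theorem F131015 : act 3 n2714 = n2140 := (sb E3734 (iv D3055))
theorem F131016 : act 6 n2502 = n2139 := (sb E3735 (iv D3054))
theorem E4555 : n6517 = n4268 := ((((iv F20736)).symm.trans (sb E3740 (tr F89029 E4518)))).symm
theorem E4556 : n15354 = n4172 := (E4399).trans E4403
theorem E4561 : n26919 = n17853 := (((F95498).symm.trans (sb E3743 (iv F119993)))).symm
theorem E4564 : n16587 = n10763 := (((F62882).symm.trans (sb E3745 F95265))).symm
theorem E4570 : n16334 = n10772 := (((iv F74096)).symm.trans (sb E3748 F62932))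
theorem E4576 : n10030 = n10016 := ((((iv F46566)).symm.trans (sb E3751 F58949))).symm
theorem E4579 : n10109 = n9896 := (((iv F46906)).symm.trans (sb E3754 F58230))
theorem E4580 : n9428 = n6261 := (((F37233).symm.trans (sb E3755 (iv F44325)))).symm
theorem F131039 : act 0 n4783 = n5904 := (sb E3929 F35472)
theorem E4582 : n6261 = n5991 := ((((iv F28887)).symm.trans (sb E3929 (tr D9428 E4580)))).symm
theorem E4583 : n28987 = n24834 := ((((iv F111779)).symm.trans (sb E3757 (iv F129002)))).symm
theorem E4586 : n18134 = n16517 := ((((iv D21162)).symm.trans (sb E3757 (iv D23097)))).symm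
theorem E4588 : n28330 = n16459 := ((((iv F74544)).symm.trans (sb E3758 (iv F126091)))).symm
theorem E4589 : n26759 = n17572 := ((((iv F79084)).symm.trans (sb E3759 (iv F119323)))).symm
theorem E4590 : n17573 = n16457 := ((((iv D21085)).symm.trans (sb E3760 F100354))).symm
theorem E4593 : n17751 = n17578 := (((F100371).symm.trans (sb E3761 F101316))).symm
theorem E4597 : n17750 = n10602 := ((((iv D13626)).symm.trans (sb E3762 F101312))).symm
theorem E4599 : n17643 = n10604 := (((F62004).symm.trans (sb E3763 (iv F79372)))).symm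
theorem E4602 : n26899 = n6572 := (((F38976).symm.trans (sb E3765 (iv F119907)))).symm
theorem E4605 : n16560 = n9897 := ((((iv F46095)).symm.trans (sb E3766 F95128))).symm
theorem E4613 : n16707 = n6181 := ((((iv F29587)).symm.trans (sb E3770 F95799))).symm
theorem E4615 : n15473 = n6197 := (((F36848).symm.trans (sb E3772 (iv F70829)))).symm
theorem E4616 : n18349 = n15452 := ((((iv D19749)).symm.trans (sb E3773 (iv D23311)))).symm
theorem E4617 : n17888 = n16647 := ((((iv F75261)).symm.trans (sb E3774 (iv F80370)))).symm
theorem E4618 : n28777 = n15423 := ((((iv F70587)).symm.trans (sb E3775 (iv F127969)))).symm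
theorem E4619 : n17889 = n10060 := ((((iv D12918)).symm.trans (sb E3776 F101969))).symm
theorem E4622 : n17895 = n16645 := (((F95509).symm.trans (sb E3777 F101989))).symm
theorem E4625 : n16644 = n10781 := ((((iv D13869)).symm.trans (sb E3778 F95503))).symm
theorem E4627 : n16601 = n16577 := (((iv F75122)).symm.trans (sb E3779 (iv F75032)))
theorem E4628 : n17894 = n16228 := ((((iv F73673)).symm.trans (sb E3779 D17894))).symm
theorem E4630 : n27080 = n15137 := (((D15137).symm.trans (sb E3782 D27080))).symm
theorem E4631 : n16721 = n9236 := ((((iv D11797)).symm.trans (sb E3782 (iv D21392)))).symm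
theorem E4632 : n26942 = n15131 := ((((iv F69218)).symm.trans (sb E3782 (iv F120092)))).symm
theorem E4633 : n27081 = n14997 := ((((iv F68610)).symm.trans (sb E3782 D27081))).symm
theorem E4635 : n16708 = n9244 := ((((iv F43422)).symm.trans (sb E3783 F95827))).symm
theorem E4636 : n26903 = n9852 := ((((iv F45898)).symm.trans (sb E3783 (iv F119928)))).symm
theorem E4637 : n27066 = n9756 := ((((iv F45590)).symm.trans (sb E3783 D27066))).symm
theorem E4638 : n25032 = n15144 := (((D15144).symm.trans (sb E3784 D25032))).symm
theorem E4639 : n24878 = n15123 := ((((iv F69178)).symm.trans (sb E3784 (iv F112022)))).symm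
theorem E4641 : n16553 = n10787 := (((F62999).symm.trans (sb E3785 F74940))).symm
theorem E4646 : n17924 = n6664 := (((F39511).symm.trans (sb E3788 (iv F80495)))).symm
theorem E4647 : n17969 = n10431 := ((((iv F48264)).symm.trans (sb E3788 D17969))).symm
theorem E4649 : n16557 = n10025 := ((((iv F46599)).symm.trans (sb E3790 (iv F74957)))).symm
theorem E4650 : n17369 = n10786 := (((D10786).symm.trans (sb E3790 (iv F78262)))).symm
theorem E4653 : n24876 = n9851 := ((((iv F45896)).symm.trans (sb E3793 (iv F112008)))).symm
theorem E4654 : n28004 = n10553 := (((D10553).symm.trans (sb E3793 (iv F124687)))).symm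
theorem E4657 : n16295 = n10798 := (((iv F73935)).symm.trans (sb E3794 F63045))
theorem E4660 : n10033 = n10013 := (((iv F46627)).symm.trans (sb E3796 F58859))
theorem E4664 : n16559 = n6251 := ((((iv F29883)).symm.trans (sb E3799 F95121))).symm
theorem E4665 : n26898 = n6468 := ((((iv F30799)).symm.trans (sb E3799 (iv F119903)))).symm
theorem E4668 : n15359 = n6262 := (((F37238).symm.trans (sb E3801 (iv F70334)))).symm
theorem E4669 : n16117 = n10032 := (((D10032).symm.trans (sb E3801 (iv F73310)))).symm
theorem E4671 : n6251 = n6148 := ((((iv F29450)).symm.trans (sb E3876 (tr (iv F74965) E4664)))).symm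
theorem E4672 : n6181 = n6098 := ((((iv F29289)).symm.trans (sb E3876 (tr D16707 E4613)))).symm
theorem E4674 : n9428 = n5991 := (E4580).trans E4582
theorem E4675 : n6262 = n6152 := ((((iv F29462)).symm.trans (sb E3886 (tr (iv F70338) E4668)))).symm
theorem E4676 : n6197 = n6101 := ((((iv F29304)).symm.trans (sb E3886 (tr D15473 E4615)))).symm
theorem E4677 : n10119 = n9877 := (((iv F46951)).symm.trans (sb E3807 F58119))
theorem E4680 : n9355 = n6309 := (((iv F43998)).symm.trans (sb E3809 F37494))
theorem E4681 : n10118 = n6241 := ((((iv D7876)).symm.trans (sb E3809 (iv F46948)))).symm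
theorem F131071 : act 0 n4919 = n5903 := (sb E3931 F35467)
theorem E4684 : n6166 = n5899 := ((D6166).symm.trans (sb E3931 (iv D7436)))
theorem E4685 : n6309 = n6162 := ((((iv F29499)).symm.trans (sb E3931 (tr (iv F44001) E4680)))).symm
theorem E4686 : n6241 = n6163 := ((((iv F29503)).symm.trans (sb E3925 (tr D10118 E4681)))).symm
theorem E4687 : n6242 = n5783 := ((((iv F27869)).symm.trans (sb E3814 (iv F29843)))).symm
theorem E4688 : n6155 = n3968 := ((D6155).symm.trans (sb E3814 F24116))
theorem E4689 : n6250 = n5789 := ((((iv F27904)).symm.trans (sb E3814 (iv F29879)))).symm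
theorem F131072 : act 4 n4910 = n3963 := (sb E3814 F24118)
theorem F131073 : act 7 n4783 = n4003 := (sb E3815 (iv D5029))
theorem F131074 : act 7 n4919 = n4004 := (sb E3816 (iv D5030))
theorem E4691 : n6158 = n5872 := ((D6158).symm.trans (sb E3817 (iv F28341)))
theorem F131075 : act 4 n4913 = n3969 := (sb E3817 F24147)
theorem E4693 : n28968 = n24807 := ((((iv F111638)).symm.trans (sb E3818 (iv F128925)))).symm
theorem E4694 : n18132 = n15328 := ((((iv D19592)).symm.trans (sb E3818 (iv D23094)))).symm
theorem E4695 : n28971 = n26822 := ((((iv F119564)).symm.trans (sb E3819 (iv F128936)))).symm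
theorem E4696 : n28960 = n26825 := ((((iv F119575)).symm.trans (sb E3819 (iv F128886)))).symm
theorem E4697 : n18118 = n16494 := ((((iv D21135)).symm.trans (sb E3819 (iv D23080)))).symm
theorem E4698 : n10958 = n9990 := (((F58745).symm.trans (sb E3820 (iv D14092)))).symm
theorem E4699 : n18133 = n9335 := ((((iv D11931)).symm.trans (sb E3821 F103108))).symm
theorem E4700 : n28967 = n15309 := ((((iv F70072)).symm.trans (sb E3822 (iv F128916)))).symm
theorem E4702 : n18119 = n9975 := ((((iv D12804)).symm.trans (sb E3822 F103046))).symm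
theorem E4703 : n11006 = n4197 := (E4424).trans E4483
theorem E4704 : n17571 = n9954 := ((((iv F46303)).symm.trans (sb E3823 (iv F79081)))).symm
theorem E4705 : n18128 = n6226 := ((((iv D7856)).symm.trans (sb E3823 (iv F81491)))).symm
theorem E4709 : n16492 = n10947 := ((((iv D14077)).symm.trans (sb E3825 F94784))).symm
theorem E4711 : n17552 = n16434 := ((((iv F74453)).symm.trans (sb E3826 (iv F79013)))).symm
theorem E4712 : n18116 = n9974 := ((((iv D12803)).symm.trans (sb E3826 (iv F81437)))).symm
theorem E4713 : n16458 = n10601 := ((((iv F48955)).symm.trans (sb E3827 (iv F74540)))).symm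
theorem E4714 : n9997 = n6768 := ((((iv D8577)).symm.trans (sb E3827 F58738))).symm
theorem E4715 : n16378 = n16326 := (((iv F74255)).symm.trans (sb E3828 (iv F74065)))
theorem E4717 : n10953 = n6230 := (((F37096).symm.trans (sb E3829 (iv D14087)))).symm
theorem E4718 : n16722 = n6172 := (((D6172).symm.trans (sb E4068 F95898))).symm
theorem E4719 : n9157 = n6172 := (((iv F43001)).symm.trans (sb E3833 (tr F95830 E4718)))
theorem E4720 : n16709 = n9239 := ((((iv F43391)).symm.trans (sb E3833 F95831))).symm
theorem E4721 : n16707 = n6098 := (E4613).trans E4672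
theorem E4722 : n6226 = n6179 := ((((iv F29579)).symm.trans (sb E3865 (tr F95823 E4705)))).symm
theorem E4723 : n15475 = n9238 := ((((iv D11799)).symm.trans (sb E3835 F89671))).symm
theorem E4724 : n24877 = n9745 := ((((iv F45545)).symm.trans (sb E3836 (iv F112017)))).symm
theorem E4725 : n15473 = n6101 := (E4615).trans E4676
theorem E4726 : n6230 = n6194 := ((((iv F29640)).symm.trans (sb E3888 (tr (iv D14086) E4717)))).symm
theorem E4729 : n17717 = n17554 := (((F100273).symm.trans (sb E3839 (iv D22662)))).symm
theorem E4732 : n17808 = n10941 := ((((iv D14070)).symm.trans (sb E3840 F101505))).symm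
theorem E4733 : n17718 = n10593 := ((((iv F48927)).symm.trans (sb E3841 (iv F79673)))).symm
theorem E4734 : n10729 = n6762 := ((((iv D8569)).symm.trans (sb E3841 F62636))).symm
theorem E4735 : n17621 = n10595 := (((F61955).symm.trans (sb E3842 (iv F79273)))).symm
theorem E4736 : n17546 = n10675 := (((iv F78993)).symm.trans (sb E3842 (iv D13729)))
theorem E4739 : n10703 = n6567 := ((((iv D8309)).symm.trans (sb E3844 F62509))).symm
theorem E4740 : n6765 = n6642 := (((iv F32060)).symm.trans (sb E3845 (iv D8414)))
theorem E4741 : n17560 = n9893 := ((((iv F46076)).symm.trans (sb E3846 (iv F79043)))).symm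
theorem E4742 : n10636 = n10599 := ((((iv F48949)).symm.trans (sb E3846 (iv D13675)))).symm
theorem E4743 : n17564 = n10330 := ((((iv F47848)).symm.trans (sb E3847 (iv F79058)))).symm
theorem E4745 : n10953 = n6194 := (E4717).trans E4726
theorem E4751 : n11037 = n4307 := ((((iv D5376)).symm.trans (sb E3852 F64382))).symm
theorem E4753 : n18115 = n9886 := ((((iv F46045)).symm.trans (sb E3854 (iv F81429)))).symm
theorem E4754 : n10985 = n10591 := ((((iv F48919)).symm.trans (sb E3854 (iv D14130)))).symm
theorem E4757 : n18128 = n6179 := (E4705).trans E4722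
theorem E4759 : n4362 = n4234 := (E4466).trans E4523
theorem E4760 : n10952 = n9889 := ((((iv F46062)).symm.trans (sb E3860 (iv D14085)))).symm
theorem E4762 : n4342 = n4237 := (E4470).trans E4528
theorem E4763 : n6173 = n5851 := (((iv F29548)).symm.trans (sb E3863 (iv F28244)))
theorem E4765 : n6182 = n3956 := ((D6182).symm.trans (sb E3863 F24064))
theorem E4767 : n11144 = n9406 := (((F55694).symm.trans (sb E3866 (iv D14309)))).symm
theorem E4768 : n17887 = n6239 := (((D6239).symm.trans (sb E4142 (iv F80366)))).symm
theorem E4769 : n9406 = n6238 := ((((iv F29829)).symm.trans (sb E4142 (tr (iv D14310) E4767)))).symm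
theorem E4770 : n9335 = n6171 := ((((iv F29542)).symm.trans (sb E4142 (tr (iv F81517) E4699)))).symm
theorem E4772 : n10780 = n10061 := ((((iv F46710)).symm.trans (sb E3869 (iv F49691)))).symm
theorem E4773 : n6885 = n6285 := (((F37359).symm.trans (sb E3869 (iv D8728)))).symm
theorem E4774 : n9387 = n6239 := (((iv F44121)).symm.trans (sb E3870 (tr (iv F80364) E4768)))
theorem E4775 : n16575 = n10036 := ((((iv F46638)).symm.trans (sb E3870 (iv F75026)))).symm
theorem E4776 : n17878 = n6264 := ((((iv D7908)).symm.trans (sb E3870 (iv F80337)))).symm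
theorem E4777 : n6264 = n6247 := ((((iv F29866)).symm.trans (sb E3882 (tr (iv F80336) E4776)))).symm
theorem E4778 : n10118 = n6163 := (E4681).trans E4686
theorem E4779 : n9236 = n6106 := ((((iv F29322)).symm.trans (sb E3872 (tr D16721 E4631)))).symm
theorem E4781 : n9235 = n5857 := ((((iv F28278)).symm.trans (sb E3874 (iv F43366)))).symm
theorem E4782 : n9244 = n6113 := ((((iv F29346)).symm.trans (sb E4033 (tr D16708 E4635)))).symm
theorem E4783 : n9239 = n6180 := ((((iv F29585)).symm.trans (sb E4033 (tr D16709 E4720)))).symm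
theorem E4784 : n6240 = n5882 := (((iv F29834)).symm.trans (sb E3877 (iv F28384)))
theorem E4787 : n6248 = n3980 := ((D6248).symm.trans (sb E3877 F24181))
theorem E4788 : n16602 = n10022 := ((((iv F46589)).symm.trans (sb E3878 (iv F75124)))).symm
theorem E4789 : n10070 = n6662 := ((((iv D8439)).symm.trans (sb E3878 F59077))).symm
theorem E4790 : n6881 = n6284 := (((iv F32630)).symm.trans (sb E3879 (iv D7934)))
theorem E4791 : n16564 = n10024 := (((F58920).symm.trans (sb E3880 (iv F74983)))).symm
theorem E4792 : n16566 = n10035 := (((iv F74992)).symm.trans (sb E3880 (iv D12885)))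
theorem E4793 : n17878 = n6247 := (E4776).trans E4777
theorem E4794 : n17879 = n9821 := ((((iv F45798)).symm.trans (sb E3881 (iv F80340)))).symm
theorem E4797 : n6284 = n6255 := ((((iv F29898)).symm.trans (sb E3896 (tr (iv D8722) E4790)))).symm
theorem E4798 : n15361 = n6260 := (((D6260).symm.trans (sb E4032 (iv F70346)))).symm
theorem E4799 : n9238 = n6195 := ((((iv F29646)).symm.trans (sb E4032 (tr D15475 E4723)))).symm
theorem E4800 : n16559 = n6148 := (E4664).trans E4671
theorem E4801 : n9221 = n6260 := (((iv F43300)).symm.trans (sb E3885 (tr F89052 E4798)))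
theorem E4802 : n15359 = n6152 := (E4668).trans E4675
theorem E4803 : n15358 = n9016 := ((((iv F42278)).symm.trans (sb E3885 (iv D19628)))).symm
theorem E4805 : n10845 = n6463 := ((((iv F30783)).symm.trans (sb E3890 (iv F49913)))).symm
theorem E4806 : n6694 = n6659 := ((((iv F31612)).symm.trans (sb E3890 (iv D8487)))).symm
theorem E4807 : n6881 = n6255 := (E4790).trans E4797
theorem E4809 : n10773 = n10020 := ((((iv F46582)).symm.trans (sb E3892 (iv D13857)))).symm
theorem E4810 : n10777 = n10460 := (((iv F49682)).symm.trans (sb E3893 (iv F48378)))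
theorem E4811 : n6675 = n6660 := ((((iv D8437)).symm.trans (sb E3893 F39546))).symm
theorem E4812 : n10775 = n6505 := (((F38635).symm.trans (sb E3894 (iv D13861)))).symm
theorem E4814 : n17296 = n6535 := (((D6535).symm.trans (sb E3897 (iv F77982)))).symm
theorem E4816 : n17930 = n4268 := (E4518).trans E4555
theorem E4817 : n24513 = n10531 := ((((iv F48643)).symm.trans (sb E3898 (iv F110316)))).symm
theorem E4818 : n6285 = n6245 := ((((iv D7881)).symm.trans (sb E3902 (tr F40796 E4773)))).symm
theorem E4819 : n6885 = n6245 := (E4773).trans E4818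
theorem F131095 : act 0 n4700 = n3963 := (sb E3904 F24095)
theorem F131096 : act 1 n4700 = n5858 := (sb E3904 (iv F28283))
theorem F131097 : act 6 n4700 = n3959 := (sb E3904 (iv D4980))
theorem F131098 : act 1 n2791 = n3969 := (sb E3906 F24120)
theorem F131099 : act 7 n2791 = n3963 := (sb E3906 (iv D4986))
theorem F131100 : act 6 n4628 = n3998 := (sb E3908 (iv D5022))
theorem F131101 : act 1 n2805 = n3880 := (sb E3909 (iv D4921))
theorem F131102 : act 7 n2805 = n3883 := (sb E3909 F23838)
theorem F131103 : act 1 n4626 = n4003 := (sb E3910 F24275)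
theorem F131104 : act 6 n4626 = n4000 := (sb E3910 (iv D5025))
theorem F131105 : act 1 n4529 = n4004 := (sb E3911 F24279)
theorem E4825 : n6304 = n5656 := ((((iv F27230)).symm.trans (sb E3911 D6304))).symm
theorem E4830 : n1753 = n1103 := (((D1103).symm.trans (sb E3916 (iv D2507)))).symm
theorem E4831 : n1105 = n949 := ((D1105).symm.trans (sb E3917 (iv D1365)))
theorem F131106 : act 0 n4717 = n3883 := (sb E3920 (iv D4923))
theorem F131107 : act 1 n4717 = n5796 := (sb E3920 (iv F27946))
theorem F131108 : act 6 n4710 = n5794 := (sb E3923 (iv D7302))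
theorem F131109 : act 0 n4920 = n4000 := (sb E3924 F24254)
theorem F131110 : act 3 n4920 = n3998 := (sb E3924 (iv D5021))
theorem E4838 : n6249 = n5790 := ((D6249).symm.trans (sb E3926 F34763))
theorem E4840 : n9016 = n6263 := ((((iv F29921)).symm.trans (sb E3932 (tr (iv F70332) E4803)))).symm
theorem E4841 : n9355 = n6162 := (E4680).trans E4685
theorem F131111 : act 0 n5032 = n5902 := (sb E4158 F35461)
theorem F131112 : act 2 n5032 = n5899 := (sb E4158 (iv D7435))
theorem E4843 : n9354 = n6311 := (((D6311).symm.trans (sb E4158 (iv F43996)))).symm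
theorem E4844 : n6548 = n6311 := ((D6548).symm.trans (sb E3934 (tr (iv D11954) E4843)))
theorem E4848 : n9019 = n5909 := ((((iv F28527)).symm.trans (sb E3936 D9019))).symm
theorem E4849 : n6307 = n5786 := (((iv F30102)).symm.trans (sb E3936 F33857))
theorem E4851 : n25008 = n24981 := ((((iv F112488)).symm.trans (sb E3938 F112622))).symm
theorem E4852 : n17940 = n16653 := ((((iv D21322)).symm.trans (sb E3939 (iv D22913)))).symm
theorem E4854 : n17981 = n17947 := (((F102219).symm.trans (sb E3940 F102346))).symm
theorem E4855 : n10839 = n10814 := (((F63127).symm.trans (sb E3941 F63255))).symm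
theorem E4857 : n17927 = n6680 := (((F39591).symm.trans (sb E3942 (iv F80507)))).symm
theorem E4870 : n28844 = n28092 := ((((iv F125052)).symm.trans (sb E3949 D28844))).symm
theorem E4873 : n24975 = n24966 := (((iv F112457)).symm.trans (sb E3950 (iv F112417)))
theorem E4874 : n17890 = n16650 := (((F95533).symm.trans (sb E3950 F101973))).symm
theorem E4892 : n15358 = n6263 := (E4803).trans E4840
theorem E4898 : n26948 = n24965 := (((iv F120116)).symm.trans (sb E3963 (iv F112415)))
theorem E4901 : n24973 = n24967 := ((((iv F112426)).symm.trans (sb E3965 F112452))).symm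
theorem E4903 : n26988 = n15421 := (((F89374).symm.trans (sb E3966 (iv F120237)))).symm
theorem E4904 : n26886 = n24916 := ((((iv F112201)).symm.trans (sb E3966 (iv F119840)))).symm
theorem E4905 : n24954 = n24424 := ((((iv F109844)).symm.trans (sb E3966 (iv F112363)))).symm
theorem E4911 : n26921 = n16543 := ((((iv F74897)).symm.trans (sb E3968 (iv F120000)))).symm
theorem E4912 : n26999 = n17246 := ((((iv F77793)).symm.trans (sb E3968 D26999))).symm
theorem E4914 : n16580 = n16546 := (((F95064).symm.trans (sb E3969 F95226))).symm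
theorem E4917 : n24910 = n16227 := ((((iv D20780)).symm.trans (sb E3970 F112176))).symm
theorem E4928 : n16593 = n10009 := ((((iv F46539)).symm.trans (sb E3975 F95274))).symm
theorem E4929 : n26933 = n10405 := ((((iv F48171)).symm.trans (sb E3975 (iv F120050)))).symm
theorem E4935 : n16595 = n16292 := ((((iv F73920)).symm.trans (sb E3978 F95281))).symm
theorem E4936 : n26231 = n17522 := (((D17522).symm.trans (sb E3978 (iv F117346)))).symm
theorem E4942 : n15352 = n10052 := (((iv F70296)).symm.trans (sb E3981 F58959))
theorem E4943 : n16548 = n16151 := ((D16548).symm.trans (sb E3981 (iv F73428)))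
theorem E4944 : n17845 = n17368 := (((iv F80201)).symm.trans (sb E3982 (iv F93109)))
theorem E4949 : n16734 = n16279 := (((F87608).symm.trans (sb E3985 F95972))).symm
theorem E4952 : n16721 = n6106 := (E4631).trans E4779
theorem E4953 : n10126 = n9867 := (((F54621).symm.trans (sb E3986 F59398))).symm
theorem E4954 : n16637 = n15129 := ((((iv F69209)).symm.trans (sb E3986 (iv F75230)))).symm
theorem E4961 : n25052 = n23567 := ((D25052).symm.trans (sb E3989 (iv F105707)))
theorem E4962 : n16278 = n15494 := ((((iv D19786)).symm.trans (sb E3989 (iv D20831)))).symm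
theorem E4965 : n10567 = n9444 := (((F55909).symm.trans (sb E3990 F58055))).symm
theorem E4966 : n16262 = n15418 := ((((iv F70568)).symm.trans (sb E3990 (iv F73797)))).symm
theorem E4967 : n16276 = n15495 := (((D15495).symm.trans (sb E3990 (iv F73853)))).symm
theorem E4968 : n15416 = n15128 := ((((iv D19321)).symm.trans (sb E3991 (iv D19702)))).symm
theorem E4974 : n15387 = n15122 := ((((iv D19315)).symm.trans (sb E3994 (iv D19664)))).symm
theorem E4978 : n24326 = n16269 := (((D16269).symm.trans (sb E3996 (iv F109406)))).symm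
theorem E4979 : n15384 = n14731 := ((((iv F67305)).symm.trans (sb E3996 (iv D19662)))).symm
theorem E4991 : n10054 = n9356 := ((((iv F44003)).symm.trans (sb E4004 F58964))).symm
theorem E4992 : n16596 = n9769 := ((((iv F45637)).symm.trans (sb E4004 (iv F75105)))).symm
theorem E4993 : n16597 = n9878 := ((((iv F46010)).symm.trans (sb E4004 D16597))).symm
theorem E5009 : n9382 = n9368 := (((iv F44103)).symm.trans (sb E4016 F55419))
theorem E5012 : n10125 = n9255 := ((((iv F43492)).symm.trans (sb E4019 F59356))).symm
theorem E5015 : n9356 = n9226 := ((((iv F43327)).symm.trans (sb E4114 (tr (iv F46690) E4991)))).symm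
theorem E5016 : n9255 = n9156 := ((((iv F43000)).symm.trans (sb E4114 (tr D10125 E5012)))).symm
theorem E5017 : n9441 = n9272 := (((iv F44388)).symm.trans (sb E4024 F54744))
theorem E5019 : n9368 = n9231 := ((((iv F43353)).symm.trans (sb E4119 (tr (iv F44106) E5009)))).symm
theorem E5020 : n9272 = n9160 := ((((iv F43025)).symm.trans (sb E4119 (tr D9441 E5017)))).symm
theorem F131151 : act 3 n4716 = n5796 := (sb E4027 F33864)
theorem F131152 : act 3 n4630 = n4004 := (sb E4028 F24290)
theorem F131153 : act 5 n4630 = n4003 := (sb E4028 (iv D5028))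
theorem E5022 : n15475 = n6195 := (E4723).trans E4799
theorem E5026 : n16708 = n6113 := (E4635).trans E4782
theorem F131154 : act 5 n4715 = n5796 := (sb E4035 F34777)
theorem F131155 : act 2 n4627 = n4000 := (sb E4037 (iv D5024))
theorem E5029 : n9234 = n5863 := ((D9234).symm.trans (sb E4038 F35215))
theorem F131156 : act 4 n7289 = n5858 := (sb E4038 F35218)
theorem F131157 : act 4 n7292 = n5864 := (sb E4039 F35260)
theorem E5030 : n18133 = n6171 := (E4699).trans E4770
theorem E5031 : n26990 = n15280 := ((((iv F69934)).symm.trans (sb E4040 (iv F120247)))).symm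
theorem E5032 : n16729 = n9334 := ((((iv D11930)).symm.trans (sb E4040 F95965))).symm
theorem E5033 : n18078 = n15326 := (((D15326).symm.trans (sb E4040 F95966))).symm
theorem E5034 : n27093 = n15308 := ((((iv F70070)).symm.trans (sb E4040 D27093))).symm
theorem E5036 : n24956 = n15279 := ((((iv D19528)).symm.trans (sb E4042 (iv F112373)))).symm
theorem E5037 : n24754 = n17516 := ((D24754).symm.trans (sb E4042 (iv D22392)))
theorem E5039 : n15491 = n9340 := (((F55278).symm.trans (sb E4043 F89761))).symm
theorem E5040 : n25048 = n15307 := ((((iv F70065)).symm.trans (sb E4043 D25048))).symm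
theorem E5041 : n15335 = n10925 := ((((iv D14047)).symm.trans (sb E4044 F88831))).symm
theorem E5045 : n25078 = n16433 := ((((iv D21052)).symm.trans (sb E4046 (iv F113020)))).symm
theorem E5046 : n26714 = n17504 := ((D26714).symm.trans (sb E4046 (iv D22377)))
theorem E5047 : n15515 = n9980 := (((F58649).symm.trans (sb E4047 (iv D19814)))).symm
theorem E5049 : n26608 = n16289 := ((((iv F73909)).symm.trans (sb E4049 (iv F118790)))).symm
theorem E5050 : n16470 = n10576 := ((((iv D13588)).symm.trans (sb E4049 F94612))).symm
theorem E5052 : n26485 = n16291 := (((F93736).symm.trans (sb E4051 (iv F118342)))).symm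
theorem E5053 : n26418 = n16377 := (((iv F118053)).symm.trans (sb E4051 (iv D20975)))
theorem E5054 : n24911 = n16026 := ((((iv F72970)).symm.trans (sb E4052 (iv F112181)))).symm
theorem E5065 : n26941 = n16283 := ((((iv F73882)).symm.trans (sb E4058 (iv F120087)))).symm
theorem E5066 : n17620 = n15511 := ((((iv F71049)).symm.trans (sb E4058 (iv D22533)))).symm
theorem E5067 : n25079 = n17687 := ((((iv F79554)).symm.trans (sb E4059 (iv F113027)))).symm
theorem E5075 : n17513 = n17032 := (((iv F78860)).symm.trans (sb E4065 (iv F76927)))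
theorem E5080 : n9334 = n9253 := ((((iv F43483)).symm.trans (sb E4097 (tr (iv F75635) E5032)))).symm
theorem E5081 : n10562 = n9445 := (((F55913).symm.trans (sb E4071 F58032))).symm
theorem E5082 : n9861 = n9443 := (((F55915).symm.trans (sb E4071 (iv D12644)))).symm
theorem E5083 : n15417 = n14985 := ((((iv F68544)).symm.trans (sb E4072 (iv F70564)))).symm
theorem E5085 : n9340 = n9268 := ((((iv F43566)).symm.trans (sb E4121 (tr (iv F70942) E5039)))).symm
theorem E5086 : n15388 = n15114 := ((((iv F69130)).symm.trans (sb E4074 (iv F70451)))).symm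
theorem E5087 : n9539 = n9436 := ((F54633).symm.trans (sb E4074 F55875))
theorem E5096 : n18183 = n6554 := ((((iv D8288)).symm.trans (sb E4080 F103375))).symm
theorem E5099 : n16731 = n15152 := ((((iv F69339)).symm.trans (sb E4083 F95910))).symm
theorem E5100 : n18114 = n15504 := ((((iv F71013)).symm.trans (sb E4083 F95914))).symm
theorem E5104 : n16729 = n9253 := (E5032).trans E5080
theorem E5107 : n15491 = n9268 := (E5039).trans E5085
theorem E5108 : n16730 = n15155 := ((((iv F69360)).symm.trans (sb E4091 (iv F75642)))).symm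
theorem E5111 : n9256 = n5854 := ((D9256).symm.trans (sb E4094 F35168))
theorem E5112 : n17848 = n15422 := ((((iv F70582)).symm.trans (sb E4098 (iv F80214)))).symm
theorem E5113 : n11113 = n9413 := (((F55686).symm.trans (sb E4098 (iv D14268)))).symm
theorem E5114 : n26885 = n15390 := ((((iv F70459)).symm.trans (sb E4099 (iv F119834)))).symm
theorem E5115 : n16633 = n9386 := ((((iv D12001)).symm.trans (sb E4099 (iv D21296)))).symm
theorem E5116 : n9386 = n9352 := ((((iv F43984)).symm.trans (sb E4140 (tr (iv F75213) E5115)))).symm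
theorem E5117 : n24917 = n16542 := ((((iv F74892)).symm.trans (sb E4101 (iv F112206)))).symm
theorem E5118 : n15434 = n10758 := ((((iv D13835)).symm.trans (sb E4101 F89381))).symm
theorem E5119 : n11107 = n9412 := (((iv F51200)).symm.trans (sb E4102 (iv D12033)))
theorem E5120 : n24880 = n24866 := (((iv F112030)).symm.trans (sb E4103 (iv F111948)))
theorem E5121 : n24946 = n15389 := ((((iv D19666)).symm.trans (sb E4103 F112331))).symm
theorem E5122 : n16633 = n9352 := (E5115).trans E5116
theorem E5123 : n15413 = n15092 := ((((iv F69029)).symm.trans (sb E4104 (iv D19699)))).symm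
theorem E5124 : n15414 = n9392 := (((F55583).symm.trans (sb E4104 F89344))).symm
theorem E5125 : n9392 = n9364 := ((((iv F44037)).symm.trans (sb E4145 (tr (iv F70551) E5124)))).symm
theorem E5126 : n9412 = n9360 := ((((iv F44023)).symm.trans (sb E4145 (tr F66039 E5119)))).symm
theorem E5128 : n16614 = n10007 := ((((iv D12844)).symm.trans (sb E4106 F95334))).symm
theorem E5129 : n16660 = n10403 := ((((iv F48163)).symm.trans (sb E4107 (iv F75303)))).symm
theorem E5131 : n11107 = n9360 := (E5119).trans E5126
theorem E5132 : n16625 = n15351 := ((((iv F70291)).symm.trans (sb E4109 F95160))).symm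
theorem E5133 : n16563 = n16538 := ((((iv F74877)).symm.trans (sb E4109 (iv D21214)))).symm
theorem E5134 : n24900 = n16173 := ((((iv F73498)).symm.trans (sb E4110 F112128))).symm
theorem E5136 : n15383 = n9827 := (((F57870).symm.trans (sb E4111 F89194))).symm
theorem E5138 : n15414 = n9364 := (E5124).trans E5125
theorem E5141 : n9353 = n5886 := ((D9353).symm.trans (sb E4115 F35364))
theorem E5142 : n9444 = n9177 := ((((iv F43104)).symm.trans (sb E4167 (tr D10567 E4965)))).symm
theorem F131178 : act 6 n7388 = n6547 := (sb E4167 (iv D8284))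
theorem E5143 : n9445 = n9269 := ((((iv F43573)).symm.trans (sb E4167 (tr (iv F48787) E5081)))).symm
theorem F131179 : act 2 n7389 = n6547 := (sb E4165 F36732)
theorem E5144 : n9844 = n9366 := (((D9366).symm.trans (sb E4165 (iv F45873)))).symm
theorem E5145 : n9443 = n9270 := ((((iv F43578)).symm.trans (sb E4165 (tr (iv F45933) E5082)))).symm
theorem E5146 : n10054 = n9226 := (E4991).trans E5015
theorem E5147 : n9384 = n9366 := (((E5144).symm.trans ((F54576).symm.trans (sb E4118 F55566)))).symm
theorem E5148 : n9382 = n9231 := (E5009).trans E5019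
theorem E5149 : n9569 = n9381 := ((F54579).symm.trans (sb E4118 (iv D11996)))
theorem E5151 : n9381 = n9369 := ((E5149).symm.trans ((F54547).symm.trans (sb E4122 F55488)))
theorem E5152 : n9569 = n9369 := (E5149).trans E5151
theorem E5153 : n9436 = n9291 := ((((iv F43675)).symm.trans (sb E4164 (tr (iv F44811) E5087)))).symm
theorem E5156 : n17937 = n6451 := ((((iv F30736)).symm.trans (sb E4127 (iv F80546)))).symm
theorem E5158 : n10843 = n10400 := ((((iv F48152)).symm.trans (sb E4128 (iv D13953)))).symm
theorem E5161 : n17292 = n16539 := ((((iv F74882)).symm.trans (sb E4131 (iv F77969)))).symm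
theorem E5163 : n10756 = n10466 := (((F61336).symm.trans (sb E4132 (iv D13832)))).symm
theorem E5174 : n9413 = n9350 := ((((iv D11948)).symm.trans (sb E4146 (tr F66037 E5113)))).symm
theorem E5175 : n11113 = n9350 := (E5113).trans E5174
theorem F131184 : act 0 n4703 = n5864 := (sb E4149 F35220)
theorem F131185 : act 7 n4703 = n5858 := (sb E4149 (iv D7382))
theorem F131186 : act 0 n4713 = n5794 := (sb E4150 (iv D7301))
theorem F131187 : act 7 n4713 = n5796 := (sb E4150 F34792)
theorem E5180 : n6547 = n5911 := ((F131178).symm.trans (sb E4159 F35541))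
theorem F131188 : act 7 n7389 = n5909 := (sb E4160 F35531)
theorem F131189 : act 1 n7400 = n5909 := (sb E4161 F35503)
theorem F131190 : act 8 n7400 = n5904 := (sb E4161 (iv D7443))
theorem F131191 : act 2 n4718 = n5903 := (sb E4162 (iv F130929))
theorem F131192 : act 6 n4718 = n5902 := (sb E4162 (iv F130928))
theorem E5181 : n9539 = n9291 := (E5087).trans E5153
theorem E5182 : n9861 = n9270 := (E5082).trans E5145
theorem E5183 : n10562 = n9269 := (E5081).trans E5143
theorem E5184 : n23225 = n19575 := ((((iv F88771)).symm.trans (sb E4169 F129677))).symm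
theorem E5185 : n23224 = n11921 := ((((iv D15316)).symm.trans (sb E4169 (iv D29130)))).symm
theorem E5186 : n14207 = n11936 := ((((iv D15334)).symm.trans (sb E4170 (iv D18263)))).symm
theorem E5187 : n11921 = n3065 := ((((iv F14834)).symm.trans (sb E4178 (tr (iv F103712) E5185)))).symm
theorem E5188 : n11936 = n3066 := ((((iv F14841)).symm.trans (sb E4178 (tr F82144 E5186)))).symm
theorem E5191 : n7367 = n3067 := (((D3067).symm.trans (sb E4173 (iv D9339)))).symm
theorem E5194 : n23229 = n12801 := ((((iv D16489)).symm.trans (sb E4174 (iv D29135)))).symm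
theorem E5196 : n14189 = n12810 := ((((iv D16502)).symm.trans (sb E4175 (iv D18249)))).symm
theorem E5197 : n23224 = n3065 := (E5185).trans E5187
theorem E5198 : n14188 = n7848 := ((((iv D9979)).symm.trans (sb E4176 (iv D18248)))).symm
theorem E5200 : n8653 = n7859 := ((((iv D9994)).symm.trans (sb E4177 (iv D11056)))).symm
theorem E5201 : n7859 = n3075 := ((((iv F14885)).symm.trans (sb E4188 (tr (iv D11055) E5200)))).symm
theorem E5204 : n4968 = n3076 := (((D3076).symm.trans (sb E4180 (iv D6228)))).symm
theorem E5206 : n23232 = n13779 := ((((iv D17784)).symm.trans (sb E4181 (iv D29136)))).symm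
theorem E5208 : n14192 = n13781 := ((((iv D17786)).symm.trans (sb E4182 (iv D18253)))).symm
theorem E5209 : n14191 = n8389 := ((((iv D10716)).symm.trans (sb E4183 (iv D18252)))).symm
theorem E5210 : n14180 = n13794 := ((((iv D17803)).symm.trans (sb E4184 (iv D18238)))).symm
theorem E5211 : n8638 = n8395 := ((((iv D10725)).symm.trans (sb E4185 (iv D11040)))).symm
theorem E5212 : n8639 = n5273 := ((((iv D6628)).symm.trans (sb E4186 F50831))).symm
theorem E5214 : n5423 = n5282 := (((F31523).symm.trans (sb E4187 (iv D6827)))).symm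
theorem E5215 : n5282 = n3087 := ((((iv F14940)).symm.trans (sb E4437 (tr (iv D6828) E5214)))).symm
theorem E5216 : n5273 = n3086 := ((((iv F14936)).symm.trans (sb E4437 (tr (iv F40381) E5212)))).symm
theorem E5219 : n8664 = n8640 := ((((iv D11042)).symm.trans (sb E4191 (iv D11065)))).symm
theorem E5220 : n8680 = n5431 := ((((iv D6836)).symm.trans (sb E4192 F50841))).symm
theorem E5222 : n5436 = n5415 := ((((iv D6816)).symm.trans (sb E4194 F32443))).symm
theorem E5223 : n8639 = n3086 := (E5212).trans E5216
theorem E5224 : n5440 = n3110 := (((F21141).symm.trans (sb E4195 F32313))).symm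
theorem E5225 : n8635 = n3109 := ((((iv D4351)).symm.trans (sb E4195 (iv F40362)))).symm
theorem E5227 : n3118 = n3116 := ((F21100).symm.trans (sb E4196 F21184))
theorem E5228 : n3119 = n3103 := ((((iv D4343)).symm.trans (sb E4196 F21185))).symm
theorem E5229 : n3116 = n3101 := ((((iv F15014)).symm.trans (sb E4243 (tr (iv D4363) E5227)))).symm
theorem E5230 : n3110 = n3099 := ((((iv F15003)).symm.trans (sb E4243 (tr (iv F26121) E5224)))).symm
theorem E5231 : n3109 = n3100 := ((((iv F15009)).symm.trans (sb E4204 (tr (iv F40363) E5225)))).symm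
theorem E5232 : n3089 = n3004 := (((iv F14947)).symm.trans (sb E4199 (iv F14562)))
theorem E5233 : n3114 = n1528 := (((F10715).symm.trans (sb E4199 D3114))).symm
theorem E5234 : n3104 = n1526 := (((iv F15028)).symm.trans (sb E4199 (iv D2182)))
theorem E5236 : n3105 = n1527 := ((D3105).symm.trans (sb E4199 F10754))
theorem E5237 : n8681 = n5409 := ((((iv D6809)).symm.trans (sb E4200 F51017))).symm
theorem E5239 : n5440 = n3099 := (E5224).trans E5230
theorem E5240 : n5412 = n3113 := (((F21073).symm.trans (sb E4202 F32285))).symm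
theorem E5241 : n5413 = n5411 := (((iv F25984)).symm.trans (sb E4202 (iv D6812)))
theorem E5242 : n3113 = n3111 := (((F21136).symm.trans (sb E4203 (tr (iv D6813) E5240)))).symm
theorem E5243 : n3088 = n3005 := (((iv F14943)).symm.trans (sb E4205 (iv F14567)))
theorem E5244 : n3103 = n3102 := ((D3103).symm.trans (sb E4205 (iv F15018)))
theorem E5245 : n3118 = n3101 := (E5227).trans E5229
theorem E5247 : n5398 = n3007 := ((((iv F14574)).symm.trans (sb E4469 (iv F25904)))).symm
theorem E5248 : n3119 = n3102 := (E5228).trans E5244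
theorem E5249 : n5411 = n3112 := ((((iv F15070)).symm.trans (sb E4469 (tr (iv F25985) E5241)))).symm
theorem E5250 : n3117 = n3008 := ((D3117).symm.trans (sb E4208 (iv F14579)))
theorem F131202 : act 5 n2184 = n1529 := (sb E4208 F10771)
theorem E5251 : n3078 = n2766 := ((((iv F13480)).symm.trans (sb E4210 (iv F14896)))).symm
theorem F131203 : act 2 n2104 = n1522 := (sb E4210 F10667)
theorem F131204 : act 3 n2104 = n2988 := (sb E4210 (iv F14490))
theorem F131205 : act 6 n2104 = n1513 := (sb E4210 (iv D2166))
theorem F131206 : act 4 n1069 = n1522 := (sb E4212 F10721)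
theorem F131207 : act 6 n1069 = n1521 := (sb E4212 (iv D2176))
theorem F131208 : act 3 n1070 = n1529 := (sb E4214 F10726)
theorem F131209 : act 7 n1070 = n1522 := (sb E4214 (iv D2177))
theorem E5259 : n3077 = n2767 := ((((iv F13485)).symm.trans (sb E4215 (iv F14890)))).symm
theorem F131210 : act 2 n2105 = n1521 := (sb E4215 F10661)
theorem F131211 : act 4 n2105 = n1513 := (sb E4215 (iv D2165))
theorem E5272 : n4695 = n3125 := (((D3125).symm.trans (sb E4221 (iv D5884)))).symm
theorem E5280 : n3129 = n2785 := ((D3129).symm.trans (sb E4228 F19030))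
theorem E5281 : n3130 = n2784 := ((D3130).symm.trans (sb E4228 (iv D3978)))
theorem E5290 : n5333 = n3019 := ((((iv F14627)).symm.trans (sb E4236 (iv F25596)))).symm
theorem E5293 : n5135 = n2987 := (((D2987).symm.trans (sb E4238 (iv F24771)))).symm
theorem F131212 : act 6 n2203 = n1550 := (sb E4251 (iv D2214))
theorem F131213 : act 7 n2204 = n1551 := (sb E4254 (iv D2215))
theorem F131214 : act 2 n2122 = n1545 := (sb E4244 F10832)
theorem F131215 : act 3 n2122 = n3021 := (sb E4244 (iv F14635))
theorem F131216 : act 6 n2122 = n1540 := (sb E4244 (iv D2199))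
theorem F131217 : act 7 n1085 = n1550 := (sb E4245 F10885)
theorem F131218 : act 4 n1083 = n1545 := (sb E4246 F10865)
theorem F131219 : act 6 n1083 = n1544 := (sb E4246 (iv D2206))
theorem F131220 : act 7 n1084 = n1545 := (sb E4248 (iv D2207))
theorem F131221 : act 2 n2123 = n1544 := (sb E4249 F10828)
theorem E5299 : n3136 = n3026 := ((((iv F14656)).symm.trans (sb E4249 D3136))).symm
theorem F131222 : act 4 n2123 = n1540 := (sb E4249 (iv D2198))
theorem F131223 : act 3 n2204 = n1544 := (sb E4250 (iv D2205))
theorem F131224 : act 4 n2204 = n1550 := (sb E4250 F10860)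
theorem F131225 : act 3 n1551 = n2203 := (sb E4252 (iv D3142))
theorem F131226 : act 2 n2126 = n1550 := (sb E4256 (iv D2213))
theorem E5302 : n3127 = n2499 := ((((iv F12336)).symm.trans (sb E4257 (iv F15142)))).symm
theorem F131227 : act 6 n1949 = n1538 := (sb E4257 (iv D2196))
theorem E5314 : n3126 = n2500 := ((((iv F12341)).symm.trans (sb E4265 (iv F15136)))).symm
theorem F131228 : act 4 n1950 = n1538 := (sb E4265 (iv D2195))
theorem E5317 : n1573 = n1224 := ((((iv F6262)).symm.trans (sb E4268 (iv F7887)))).symm
theorem F131229 : act 4 n950 = n773 := (sb E4268 (iv D1104))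
theorem F131230 : act 4 n541 = n725 := (sb E4270 F5319)
theorem E5321 : n775 = n724 := ((D775).symm.trans (sb E4270 (iv D1042)))
theorem E5325 : n763 = n379 := (((D379).symm.trans (sb E4272 (iv D1094)))).symm
theorem F131231 : act 6 n531 = n378 := (sb E4274 (iv D543))
theorem F131232 : act 3 n2115 = n2915 := (sb E4286 F19832)
theorem F131233 : act 6 n2115 = n2914 := (sb E4286 (iv D4155))
theorem F131234 : act 4 n1750 = n1565 := (sb E4288 (iv D2231))
theorem F131235 : act 6 n1749 = n1565 := (sb E4299 (iv D2232))
theorem E5365 : n23176 = n19594 := ((((iv D24839)).symm.trans (sb E4312 (iv D29082)))).symm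
theorem E5366 : n23182 = n21166 := ((((iv D26863)).symm.trans (sb E4313 (iv D29090)))).symm
theorem E5367 : n14152 = n12825 := ((((iv D16521)).symm.trans (sb E4314 (iv D18205)))).symm
theorem E5368 : n23175 = n11933 := ((((iv D15331)).symm.trans (sb E4315 (iv D29080)))).symm
theorem E5369 : n22581 = n12779 := ((((iv F58559)).symm.trans (sb E4317 (iv F100825)))).symm
theorem E5370 : n23165 = n22766 := ((((iv D28690)).symm.trans (sb E4318 (iv D29071)))).symm
theorem E5372 : n22719 = n22588 := (((iv F101362)).symm.trans (sb E4320 (iv F100852)))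
theorem E5373 : n22587 = n13758 := ((((iv D17760)).symm.trans (sb E4322 (iv D28473)))).symm
theorem E5374 : n13757 = n13687 := (((iv F62524)).symm.trans (sb E4323 (iv F62253)))
theorem E5375 : n13688 = n8373 := ((((iv D10695)).symm.trans (sb E4324 F79441))).symm
theorem E5377 : n11933 = n5079 := ((((iv F24538)).symm.trans (sb E4425 (tr (iv D29079) E5368)))).symm
theorem E5378 : n22666 = n22555 := ((((iv D28438)).symm.trans (sb E4330 (iv D28569)))).symm
theorem E5379 : n22713 = n13691 := ((((iv D17667)).symm.trans (sb E4332 (iv D28625)))).symm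
theorem E5380 : n13756 = n13693 := (((F79466).symm.trans (sb E4333 F79807))).symm
theorem E5383 : n13755 = n8339 := ((((iv D10646)).symm.trans (sb E4335 F79802))).symm
theorem E5385 : n13676 = n8341 := (((F49146).symm.trans (sb E4336 (iv F62207)))).symm
theorem E5386 : n13692 = n13282 := ((D13692).symm.trans (sb E4336 (iv F60616)))
theorem E5388 : n22571 = n8139 := ((((iv D10379)).symm.trans (sb E4338 (iv D28453)))).symm
theorem E5389 : n22567 = n8347 := (((F49178).symm.trans (sb E4340 F125811))).symm
theorem E5391 : n22566 = n5249 := (((F31319).symm.trans (sb E4344 F126581))).symm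

end Cfsg.Agent.Helper17.SP6TC
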