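import Cfsg.Agent.Helper17.SP6TC.Facts8

set_option autoImplicit false
set_option linter.all false

noncomputable section

namespace Cfsg.Agent.Helper17.SP6TC

theorem E5392 : n13678 = n5268 := (((F31329).symm.trans (sb E4346 F79380))).symm
theorem E5393 : n21814 = n8346 := (((D8346).symm.trans (sb E4346 (iv F97710)))).symm
theorem E5394 : n5249 = n5128 := ((((iv F24738)).symm.trans (sb E4442 (tr (iv F100761) E5391)))).symm
theorem E5395 : n5268 = n5131 := ((((iv F24752)).symm.trans (sb E4458 (tr (iv F62217) E5392)))).symm
theorem E5396 : n14361 = n12028 := ((((iv D15456)).symm.trans (sb E4352 (iv D18401)))).symm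
theorem E5397 : n13908 = n12921 := ((((iv F59088)).symm.trans (sb E4353 (iv F63112)))).symm
theorem E5398 : n22906 = n5143 := (((D5143).symm.trans (sb E4476 (iv F102148)))).symm
theorem E5399 : n12028 = n5142 := ((((iv F24811)).symm.trans (sb E4476 (tr (iv D18400) E5396)))).symm
theorem E5400 : n23175 = n5079 := (E5368).trans E5377
theorem E5401 : n22912 = n12922 := ((((iv D16654)).symm.trans (sb E4355 (iv D28819)))).symm
theorem E5402 : n12004 = n5143 := (((iv F55596)).symm.trans (sb E4356 (tr (iv F102144) E5398)))
theorem E5403 : n13909 = n7909 := ((((iv D10062)).symm.trans (sb E4356 F80553))).symm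
theorem E5404 : n22911 = n12602 := ((((iv F57882)).symm.trans (sb E4356 D22911))).symm
theorem E5405 : n13914 = n8481 := (((F49886).symm.trans (sb E4357 F80574))).symm
theorem E5408 : n8480 = n8460 := ((((iv D10812)).symm.trans (sb E4359 F49882))).symm
theorem E5409 : n13945 = n13471 := ((((iv F61386)).symm.trans (sb E4359 D13945))).symm
theorem E5410 : n8488 = n5319 := (((F31716).symm.trans (sb E4360 F49801))).symm
theorem E5411 : n13913 = n8233 := ((((iv F38641)).symm.trans (sb E4360 D13913))).symm
theorem E5414 : n11942 = n4824 := ((((iv F23505)).symm.trans (sb E4364 (iv F55345)))).symm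
theorem E5415 : n11694 = n5080 := (((D5080).symm.trans (sb E4364 (iv F54156)))).symm
theorem E5419 : n7291 = n5144 := (((D5144).symm.trans (sb E4365 (iv D9237)))).symm
theorem E5421 : n22896 = n5199 := ((((iv D6531)).symm.trans (sb E4369 (iv D28805)))).symm
theorem E5422 : n13944 = n13921 := (((F80611).symm.trans (sb E4371 F80707))).symm
theorem E5424 : n13898 = n8466 := (((F49817).symm.trans (sb E4372 (iv F63074)))).symm
theorem E5425 : n13920 = n13532 := (((iv F63156)).symm.trans (sb E4372 (iv F61617)))
theorem E5427 : n13897 = n5311 := (((F31674).symm.trans (sb E4374 (iv F63070)))).symm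
theorem E5430 : n8454 = n5325 := (((F31680).symm.trans (sb E4376 F49754))).symm
theorem E5431 : n13460 = n8465 := (((D8465).symm.trans (sb E4376 (iv F61343)))).symm
theorem E5432 : n13901 = n8232 := ((((iv D10511)).symm.trans (sb E4377 (iv F63085)))).symm
theorem E5434 : n22252 = n8269 := (((D8269).symm.trans (sb E4379 (iv F99472)))).symm
theorem E5435 : n22900 = n8252 := ((((iv F38712)).symm.trans (sb E4379 D22900))).symm
theorem E5436 : n20854 = n8474 := (((F49852).symm.trans (sb E4381 (iv F93765)))).symm
theorem E5438 : n13900 = n5328 := (((F31702).symm.trans (sb E4383 F74926))).symm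
theorem E5439 : n20620 = n8473 := ((((iv F39627)).symm.trans (sb E4383 (iv F92903)))).symm
theorem E5442 : n5311 = n5177 := ((((iv F24945)).symm.trans (sb E4516 (tr F80499 E5427)))).symm
theorem E5443 : n22566 = n5128 := (E5391).trans E5394
theorem E5444 : n5199 = n5167 := (((F30868).symm.trans (sb E4387 (tr F127897 E5421)))).symm
theorem E5445 : n5325 = n5180 := ((((iv F24955)).symm.trans (sb E4517 (tr (iv D10803) E5430)))).symm
theorem E5446 : n13462 = n5203 := (((D5203).symm.trans (sb E4517 (iv F61352)))).symm
theorem E5447 : n5328 = n5194 := ((((iv F25007)).symm.trans (sb E4517 (tr D13900 E5438)))).symm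
theorem E5448 : n13678 = n5131 := (E5392).trans E5395
theorem E5449 : n5327 = n5203 := ((F31699).symm.trans (sb E4390 (tr F78268 E5446)))
theorem E5452 : n5198 = n3030 := ((D5198).symm.trans (sb E4392 F20701))
theorem E5455 : n5316 = n5188 := ((((iv F24983)).symm.trans (sb E4392 D5316))).symm
theorem E5456 : n5234 = n4867 := ((((iv F23648)).symm.trans (sb E4393 (iv F25184)))).symm
theorem E5457 : n5134 = n2998 := ((D5134).symm.trans (sb E4393 F20495))
theorem F131279 : act 4 n4091 = n2988 := (sb E4393 F20496)
theorem E5460 : n5233 = n4868 := ((((iv F23653)).symm.trans (sb E4394 (iv F25179)))).symm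
theorem E5461 : n5136 = n5099 := ((D5136).symm.trans (sb E4394 (iv F24626)))
theorem E5462 : n5202 = n5002 := ((D5202).symm.trans (sb E4395 (iv F24173)))
theorem E5463 : n5137 = n4960 := ((D5137).symm.trans (sb E4396 (iv F24003)))
theorem F131280 : act 4 n4093 = n2999 := (sb E4396 F20558)
theorem E5464 : n19356 = n5365 := (((F31952).symm.trans (sb E4397 (iv F87764)))).symm
theorem E5465 : n12662 = n8544 := ((((iv F39924)).symm.trans (sb E4397 (iv D16294)))).symm
theorem E5467 : n13900 = n5194 := (E5438).trans E5447
theorem E5468 : n11953 = n5215 := (((D5215).symm.trans (sb E4556 (iv D15354)))).symm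
theorem E5469 : n5365 = n5211 := ((((iv F25079)).symm.trans (sb E4556 (tr (iv F87768) E5464)))).symm
theorem E5470 : n5364 = n5215 := ((F31947).symm.trans (sb E4400 (tr (iv F55400) E5468)))
theorem E5472 : n5214 = n5033 := ((D5214).symm.trans (sb E4403 (iv F24311)))
theorem F131284 : act 7 n4172 = n3062 := (sb E4403 F20875)
theorem F131285 : act 1 n4181 = n5032 := (sb E4404 (iv F24305))
theorem E5475 : n5295 = n4619 := ((((iv F22522)).symm.trans (sb E4405 (iv F25458)))).symm
theorem F131286 : act 6 n3859 = n3017 := (sb E4405 (iv D4250))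
theorem F131287 : act 2 n2120 = n2914 := (sb E4406 (iv D4154))
theorem F131288 : act 7 n2120 = n2916 := (sb E4406 F19829)
theorem E5480 : n5294 = n4620 := ((((iv F22527)).symm.trans (sb E4409 (iv F25453)))).symm
theorem F131289 : act 3 n3860 = n3017 := (sb E4409 (iv D4249))
theorem E5482 : n5153 = n4912 := (((D4912).symm.trans (sb E4409 (iv F24850)))).symm
theorem F131290 : act 5 n4118 = n2915 := (sb E4410 (iv D4156))
theorem F131291 : act 1 n4006 = n2932 := (sb E4411 (iv D4180))
theorem F131292 : act 2 n4006 = n4919 := (sb E4411 (iv F23827))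
theorem F131293 : act 1 n3976 = n2916 := (sb E4413 (iv D4157))
theorem F131294 : act 2 n3976 = n4913 := (sb E4413 (iv F23803))
theorem E5487 : n23156 = n19572 := ((((iv D24814)).symm.trans (sb E4414 (iv D29059)))).symm
theorem E5488 : n14150 = n11934 := ((((iv D15332)).symm.trans (sb E4415 (iv D18203)))).symm
theorem E5489 : n23155 = n11918 := ((((iv D15313)).symm.trans (sb E4416 (iv D29058)))).symm
theorem E5490 : n11934 = n5223 := ((((iv F25141)).symm.trans (sb E4478 (tr (iv D18202) E5488)))).symm
theorem E5493 : n14133 = n12807 := ((((iv D16499)).symm.trans (sb E4420 (iv D18186)))).symm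
theorem E5494 : n23158 = n12806 := ((((iv D16497)).symm.trans (sb E4421 (iv D29063)))).symm
theorem E5495 : n14134 = n7847 := ((((iv D9976)).symm.trans (sb E4422 F81753))).symm
theorem E5497 : n8612 = n7858 := (((F46463).symm.trans (sb E4423 (iv D11005)))).symm
theorem E5498 : n13686 = n5231 := (((D5231).symm.trans (sb E4703 (iv F62248)))).symm
theorem E5499 : n7858 = n5230 := ((((iv F25171)).symm.trans (sb E4703 (tr (iv D11006) E5497)))).symm
theorem E5500 : n7847 = n5229 := ((((iv F25167)).symm.trans (sb E4703 (tr (iv F64132) E5495)))).symm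
theorem E5502 : n7366 = n5224 := (((D5224).symm.trans (sb E4426 (iv D9336)))).symm
theorem E5503 : n23163 = n22743 := ((((iv D28662)).symm.trans (sb E4428 (iv D29068)))).symm
theorem E5504 : n23149 = n22765 := ((((iv D28688)).symm.trans (sb E4429 (iv D29053)))).symm
theorem E5505 : n14135 = n13789 := ((((iv D17798)).symm.trans (sb E4430 (iv D18189)))).symm
theorem E5506 : n23162 = n13777 := ((((iv D17781)).symm.trans (sb E4431 (iv D29067)))).symm
theorem E5507 : n22549 = n13732 := ((((iv F62433)).symm.trans (sb E4432 (iv F100688)))).symm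
theorem E5508 : n14125 = n13791 := ((((iv D17801)).symm.trans (sb E4433 (iv D18177)))).symm
theorem E5509 : n8601 = n8394 := (((F49448).symm.trans (sb E4434 (iv D10990)))).symm
theorem E5510 : n14134 = n5229 := (E5495).trans E5500
theorem E5511 : n13667 = n8362 := ((((iv F39188)).symm.trans (sb E4435 (iv F62168)))).symm
theorem E5512 : n14131 = n5272 := ((((iv D6627)).symm.trans (sb E4435 (iv F64119)))).symm
theorem E5514 : n8374 = n8338 := (((iv F39233)).symm.trans (sb E4436 (iv F39088)))
theorem E5515 : n5399 = n5285 := (((F31518).symm.trans (sb E4436 (iv D6795)))).symm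
theorem E5516 : n7831 = n5231 := (((iv F36991)).symm.trans (sb E4438 (tr (iv F62246) E5498)))
theorem E5517 : n8380 = n5262 := (((F31401).symm.trans (sb E4438 F49138))).symm
theorem E5518 : n13677 = n5261 := ((((iv D6611)).symm.trans (sb E4438 (iv F62213)))).symm
theorem E5519 : n5261 = n5246 := ((((iv F25243)).symm.trans (sb E4455 (tr (iv F62212) E5518)))).symm
theorem E5520 : n5272 = n5242 := ((((iv F25227)).symm.trans (sb E4455 (tr (iv F64120) E5512)))).symm
theorem E5522 : n7683 = n4933 := ((((iv F23895)).symm.trans (sb E4440 (iv F36448)))).symm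
theorem E5524 : n5232 = n4967 := (((iv F25175)).symm.trans (sb E4443 (iv F24038)))
theorem E5526 : n5247 = n3006 := ((D5247).symm.trans (sb E4443 F20593))
theorem E5529 : n13730 = n13669 := (((F79339).symm.trans (sb E4446 (iv D17719)))).symm
theorem E5531 : n13802 = n8594 := ((((iv D10983)).symm.trans (sb E4447 F79970))).symm
theorem E5533 : n8400 = n5393 := ((((iv D6787)).symm.trans (sb E4448 F49440))).symm
theorem E5534 : n13659 = n8332 := (((F49086).symm.trans (sb E4449 (iv F62130)))).symm
theorem E5535 : n13661 = n8361 := (((iv F62141)).symm.trans (sb E4449 (iv D10676)))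
theorem E5536 : n14131 = n5242 := (E5512).trans E5520
theorem E5537 : n8598 = n5275 := (((F31463).symm.trans (sb E4450 (iv D10987)))).symm
theorem E5539 : n5262 = n5245 := ((((iv D6588)).symm.trans (sb E4451 (tr F49334 E5517)))).symm
theorem E5540 : n8380 = n5245 := (E5517).trans E5539
theorem E5542 : n8334 = n5267 := (((F31314).symm.trans (sb E4453 F49104))).symm
theorem E5543 : n8336 = n8333 := (((iv F39080)).symm.trans (sb E4453 (iv D10637)))
theorem E5544 : n13679 = n8104 := ((((iv F38125)).symm.trans (sb E4454 (iv F62221)))).symm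
theorem E5545 : n5267 = n5264 := (((F31398).symm.trans (sb E4454 (tr (iv D10639) E5542)))).symm
theorem E5548 : n5275 = n5260 := ((((iv F25306)).symm.trans (sb E4467 (tr (iv F40184) E5537)))).symm
theorem E5551 : n14233 = n5389 := (((F32132).symm.trans (sb E4460 (iv F64656)))).symm
theorem E5552 : n8679 = n5388 := ((((iv D6781)).symm.trans (sb E4460 (iv D11083)))).symm
theorem E5553 : n5438 = n5391 := ((((iv F25875)).symm.trans (sb E4462 (iv D6847)))).symm
theorem E5554 : n8598 = n5260 := (E5537).trans E5548
theorem E5555 : n8597 = n8328 := ((((iv F39042)).symm.trans (sb E4463 (iv D10986)))).symm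
theorem E5556 : n5413 = n3112 := (E5241).trans E5249
theorem E5557 : n8628 = n8596 := ((((iv F40172)).symm.trans (sb E4464 (iv F40318)))).symm
theorem E5558 : n5414 = n5392 := ((((iv D6785)).symm.trans (sb E4464 F32280))).symm
theorem E5559 : n5391 = n5274 := ((((iv F25364)).symm.trans (sb E4759 (tr (iv F26110) E5553)))).symm
theorem E5561 : n5285 = n5244 := ((((iv D6586)).symm.trans (sb E4468 (tr F32177 E5515)))).symm
theorem E5562 : n5399 = n5244 := (E5515).trans E5561
theorem E5563 : n5392 = n5278 := ((((iv F25384)).symm.trans (sb E4762 (tr (iv F25989) E5558)))).symm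
theorem E5564 : n5226 = n4671 := ((((iv F22803)).symm.trans (sb E4471 (iv F25152)))).symm
theorem F131311 : act 1 n3954 = n2988 := (sb E4471 F20441)
theorem F131312 : act 2 n3954 = n4934 := (sb E4471 (iv F23900))
theorem F131313 : act 6 n3954 = n2978 := (sb E4471 (iv D4199))
theorem F131314 : act 2 n2106 = n2999 := (sb E4473 F20500)
theorem F131315 : act 7 n2106 = n2988 := (sb E4473 (iv D4211))
theorem E5568 : n14361 = n5142 := (E5396).trans E5399
theorem E5570 : n7419 = n5291 := (((D5291).symm.trans (sb E4477 F44214))).symm
theorem E5572 : n7909 = n5151 := ((((iv F24844)).symm.trans (sb E4481 (tr (iv F63115) E5403)))).symm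
theorem E5573 : n7927 = n4981 := ((((iv F24100)).symm.trans (sb E4482 (iv F37357)))).symm
theorem E5575 : n5298 = n5010 := ((D5298).symm.trans (sb E4482 F29977))
theorem E5581 : n7404 = n5292 := (((D5292).symm.trans (sb E4487 (iv F35314)))).symm
theorem E5582 : n5293 = n4694 := ((D5293).symm.trans (sb E4487 (iv D5883)))
theorem E5588 : n5322 = n5320 := ((F31670).symm.trans (sb E4494 F31718))
theorem E5589 : n6676 = n4252 := (((D4252).symm.trans (iv (sb E4494 (tr F31719 E5290))))).symm
theorem E5590 : n6690 = n4252 := (E4494).trans E5589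
theorem E5591 : n8460 = n5161 := ((((iv F24886)).symm.trans (sb E5590 (tr (iv F39651) E5408)))).symm
theorem E5592 : n5324 = n5307 := (((D5307).symm.trans (sb E5590 F31720))).symm
theorem E5594 : n8338 = n5243 := ((((iv F25232)).symm.trans (sb E5590 (tr (iv F39235) E5514)))).symm
theorem E5595 : n5309 = n5307 := ((((iv F25503)).symm.trans (sb E4525 (iv F25513)))).symm
theorem E5597 : n5299 = n4996 := ((D5299).symm.trans (sb E4496 F29926))
theorem E5598 : n5300 = n4995 := ((D5300).symm.trans (sb E4496 (iv D6265)))
theorem E5599 : n5319 = n5163 := ((((iv F24894)).symm.trans (sb E4508 (tr (iv F39677) E5410)))).symm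
theorem E5600 : n5320 = n5306 := ((((iv F25499)).symm.trans (sb E4508 (tr (iv D6696) E5588)))).symm
theorem E5602 : n5317 = n3028 := (((F20687).symm.trans (sb E4499 D5317))).symm
theorem E5603 : n5310 = n3025 := (((iv F25516)).symm.trans (sb E4499 (iv D4260)))
theorem E5604 : n5312 = n3027 := ((D5312).symm.trans (sb E4499 F20709))
theorem F131316 : act 6 n3962 = n4910 := (sb E4501 (iv D6156))
theorem F131317 : act 1 n3977 = n3021 := (sb E4502 F20659)
theorem F131318 : act 2 n3977 = n4983 := (sb E4502 (iv F24108))
theorem F131319 : act 6 n3977 = n3016 := (sb E4502 (iv D4248))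
theorem F131320 : act 2 n2124 = n3029 := (sb E4505 F20691)
theorem E5609 : n5308 = n3036 := (((D3036).symm.trans (sb E4505 (iv F25509)))).symm
theorem F131321 : act 7 n2124 = n3021 := (sb E4505 (iv D4256))
theorem E5610 : n8454 = n5180 := (E5430).trans E5445
theorem E5611 : n5322 = n5306 := (E5588).trans E5600
theorem E5612 : n6671 = n4264 := ((((iv F20724)).symm.trans (iv (sb E4511 (tr F31662 E5609))))).symm
theorem E5613 : n6674 = n4264 := (E4511).trans E5612
theorem E5614 : n8456 = n5323 := (((D5323).symm.trans (sb E5613 (iv F39563)))).symm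
theorem E5615 : n8333 = n5265 := ((((iv F25326)).symm.trans (sb E5613 (tr (iv F39081) E5543)))).symm
theorem E5616 : n8198 = n5323 := (((iv F38509)).symm.trans (sb E4512 (tr F49766 E5614)))
theorem E5618 : n5321 = n5001 := ((D5321).symm.trans (sb E4513 (iv F24170)))
theorem F131323 : act 4 n4263 = n3029 := (sb E4513 F20729)
theorem E5619 : n5337 = n4997 := ((((iv F24157)).symm.trans (sb E4515 (iv F25613)))).symm
theorem E5621 : n8252 = n5185 := ((((iv F24971)).symm.trans (sb E4816 (tr (iv F102121) E5435)))).symm
theorem E5624 : n4375 = n3979 := ((((iv F19032)).symm.trans (sb E4521 (iv F21256)))).symm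
theorem F131324 : act 2 n3034 = n2203 := (sb E4521 F15171)
theorem F131325 : act 4 n3034 = n2197 := (sb E4521 (iv D3134))
theorem E5625 : n5377 = n4969 := ((((iv F24046)).symm.trans (sb E4523 (iv F25805)))).symm
theorem E5626 : n4376 = n3982 := ((((iv F19044)).symm.trans (sb E4526 (iv F21261)))).symm
theorem F131326 : act 2 n3037 = n2204 := (sb E4526 F15176)
theorem F131327 : act 3 n3037 = n4253 := (sb E4526 (iv F20680))
theorem F131328 : act 6 n3037 = n2197 := (sb E4526 (iv D3135))
theorem F131329 : act 6 n3568 = n3014 := (sb E4529 (iv D4245))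
theorem F131330 : act 6 n3492 = n3053 := (sb E4533 (iv D4287))
theorem F131331 : act 2 n4166 = n3062 := (sb E4541 F20863)
theorem E5641 : n5363 = n5209 := ((((iv F25068)).symm.trans (sb E4541 D5363))).symm
theorem F131332 : act 3 n3493 = n3053 := (sb E4550 (iv D4286))
theorem E5653 : n19356 = n5211 := (E5464).trans E5469
theorem E5654 : n21229 = n21194 := ((((iv F95070)).symm.trans (sb E4561 F119992))).symm
theorem E5655 : n12877 = n12848 := ((((iv F58850)).symm.trans (sb E4564 F75068))).symm
theorem E5658 : n12857 = n12691 := (((iv F58883)).symm.trans (sb E4570 F74095))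
theorem E5663 : n11958 = n7902 := (((iv F55424)).symm.trans (sb E4576 F46617))
theorem E5664 : n12879 = n12523 := ((((iv F57632)).symm.trans (sb E4576 D12879))).symm
theorem E5666 : n12051 = n7812 := (((F46088).symm.trans (sb E4579 (iv F55827)))).symm
theorem E5667 : n7902 = n7545 := ((((iv F35946)).symm.trans (sb E4674 (tr (iv F55426) E5663)))).symm
theorem E5668 : n7812 = n7524 := ((((iv F35876)).symm.trans (sb E4674 (tr D12051 E5666)))).symm
theorem F131364 : act 0 n5991 = n7400 := (sb E4582 (iv F35295))
theorem F131365 : act 7 n5991 = n4992 := (sb E4582 (iv D6261))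
theorem E5670 : n23092 = n19590 := ((((iv D24834)).symm.trans (sb E4583 (iv D28987)))).symm
theorem E5671 : n22464 = n21089 := ((((iv F94629)).symm.trans (sb E4586 (iv F100342)))).symm
theorem E5672 : n22465 = n12777 := ((((iv D16459)).symm.trans (sb E4588 F126090))).symm
theorem E5673 : n21086 = n13624 := ((((iv D17572)).symm.trans (sb E4589 F119322))).symm
theorem E5674 : n20976 = n20902 := (((iv F94232)).symm.trans (sb E4590 (iv F93969)))
theorem E5677 : n22564 = n13630 := (((F79102).symm.trans (sb E4593 (iv F100751)))).symm
theorem E5682 : n22563 = n8310 := (((F48958).symm.trans (sb E4597 (iv F100747)))).symm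
theorem E5683 : n22707 = n13174 := ((((iv F60192)).symm.trans (sb E4597 D22707))).symm
theorem E5684 : n21209 = n12686 := ((((iv F58218)).symm.trans (sb E4599 (iv F95142)))).symm
theorem E5685 : n21812 = n13629 := (((D13629).symm.trans (sb E4599 (iv F97700)))).symm
theorem E5688 : n21211 = n7792 := ((((iv F36846)).symm.trans (sb E4602 F119906))).symm
theorem E5689 : n19629 = n7813 := (((F46094).symm.trans (sb E4605 (iv F89057)))).symm
theorem E5690 : n20629 = n12693 := (((D12693).symm.trans (sb E4605 (iv F92947)))).symm
theorem E5691 : n20863 = n12694 := (((D12694).symm.trans (sb E4605 (iv F93807)))).symm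
theorem E5694 : n7792 = n7675 := ((((iv F36419)).symm.trans (sb E4721 (tr (iv F95150) E5688)))).symm
theorem E5696 : n7813 = n7679 := ((((iv F36434)).symm.trans (sb E4725 (tr (iv F89061) E5689)))).symm
theorem E5697 : n22857 = n19712 := ((((iv F89398)).symm.trans (sb E4616 (iv F101957)))).symm
theorem E5698 : n13867 = n12919 := (((F75260).symm.trans (sb E4617 (iv D17888)))).symm
theorem E5700 : n22858 = n12002 := ((((iv D15423)).symm.trans (sb E4618 F127968))).symm
theorem E5701 : n13909 = n5151 := (E5403).trans E5572
theorem E5702 : n21226 = n12886 := ((((iv F58987)).symm.trans (sb E4619 (iv F95211)))).symm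
theorem E5703 : n22863 = n12600 := ((((iv F57875)).symm.trans (sb E4619 D22863))).symm
theorem E5705 : n21232 = n21192 := (((F95061).symm.trans (sb E4622 (iv F95233)))).symm
theorem E5708 : n21257 = n12866 := ((((iv F58919)).symm.trans (sb E4625 (iv F95337)))).symm
theorem E5709 : n21310 = n13414 := ((((iv F61162)).symm.trans (sb E4625 D21310))).symm
theorem E5710 : n21196 = n12869 := (((F75031).symm.trans (sb E4627 (iv F95079)))).symm
theorem E5712 : n22851 = n12599 := ((((iv D16228)).symm.trans (sb E4628 (iv F101938)))).symm
theorem E5714 : n21394 = n12651 := (((F69249).symm.trans (sb E4630 F120705))).symm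
theorem E5715 : n12987 = n7692 := (((D7692).symm.trans (sb E4952 F75596))).symm
theorem E5716 : n21252 = n7693 := (((D7693).symm.trans (sb E4952 (iv F95318)))).symm
theorem E5717 : n21393 = n7611 := ((((iv F36212)).symm.trans (sb E4952 D21393))).symm
theorem E5718 : n11789 = n7693 := (((iv D15131)).symm.trans (sb E4632 (tr (iv D26942) E5716)))
theorem E5719 : n11693 = n7611 := (((iv D14997)).symm.trans (sb E4633 (tr F120709 E5717)))
theorem E5720 : n21379 = n7530 := ((((iv F35897)).symm.trans (sb E5026 D21379))).symm
theorem E5721 : n21212 = n7704 := (((D7704).symm.trans (sb E5026 (iv F95154)))).symm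
theorem E5722 : n21380 = n7620 := ((((iv F36243)).symm.trans (sb E5026 D21380))).symm
theorem E5723 : n11783 = n7704 := (((iv F54555)).symm.trans (sb E4636 (tr F119927 E5721)))
theorem E5724 : n21210 = n7753 := ((((iv D9852)).symm.trans (sb E4636 (iv D26903)))).symm
theorem E5725 : n11800 = n7620 := (((iv F54645)).symm.trans (sb E4637 (tr F120614 E5722)))
theorem E5726 : n11805 = n7530 := ((F69290).symm.trans (sb E4638 (tr F112764 E5720)))
theorem E5727 : n19630 = n11782 := ((((iv D15123)).symm.trans (sb E4639 (iv D24878)))).symm
theorem E5728 : n12872 = n12852 := (((iv F58937)).symm.trans (sb E4641 F74938))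
theorem E5729 : n20622 = n13877 := ((((iv F63007)).symm.trans (sb E4641 (iv F92914)))).symm
theorem E5734 : n21208 = n7884 := ((((iv F37220)).symm.trans (sb E4646 (iv F95136)))).symm
theorem E5736 : n13955 = n8178 := ((((iv D10431)).symm.trans (sb E4647 F80680))).symm
theorem E5738 : n13858 = n7899 := (((F46598).symm.trans (sb E4649 F74956))).symm
theorem E5739 : n20626 = n12871 := (((D12871).symm.trans (sb E4649 (iv F92934)))).symm
theorem E5740 : n13863 = n13459 := (((iv F62965)).symm.trans (sb E4650 (iv D17369)))
theorem E5744 : n19627 = n11504 := ((((iv F53202)).symm.trans (sb E4653 (iv D24876)))).symm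
theorem E5745 : n22152 = n8273 := (((F48739).symm.trans (sb E4654 (iv D28004)))).symm
theorem E5746 : n22900 = n5185 := (E5435).trans E5621
theorem E5747 : n12883 = n12664 := (((iv F58975)).symm.trans (sb E4657 F73934))
theorem E5748 : n20316 = n13892 := ((((iv F63052)).symm.trans (sb E4657 (iv F91860)))).symm
theorem E5751 : n11955 = n7905 := (((iv F55411)).symm.trans (sb E4660 F46626))
theorem E5756 : n7884 = n7730 := ((((iv F36603)).symm.trans (sb E4800 (tr (iv F95137) E5734)))).symm
theorem E5757 : n21211 = n7675 := (E5688).trans E5694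
theorem E5758 : n22896 = n5167 := (E5421).trans E5444
theorem E5759 : n7753 = n7705 := ((((iv F36531)).symm.trans (sb E4665 (tr F119900 E5724)))).symm
theorem E5760 : n11958 = n7545 := (E5663).trans E5667
theorem E5761 : n7899 = n7734 := ((((iv F36616)).symm.trans (sb E4802 (tr F70337 E5738)))).symm
theorem E5762 : n19170 = n7758 := (((D7758).symm.trans (sb E4802 (iv F86893)))).symm
theorem E5763 : n7905 = n7747 := ((((iv F36659)).symm.trans (sb E4802 (tr (iv D15359) E5751)))).symm
theorem E5764 : n19629 = n7679 := (E5689).trans E5696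
theorem E5765 : n7904 = n7758 := ((F46623).symm.trans (sb E4669 (tr (iv F86888) E5762)))
theorem E5768 : n7752 = n4993 := ((D7752).symm.trans (sb E4671 F29882))
theorem E5769 : n7887 = n7278 := ((((iv F34667)).symm.trans (sb E4671 (iv F37232)))).symm
theorem E5771 : n7890 = n7119 := ((((iv F33843)).symm.trans (sb E4671 D7890))).symm
theorem E5772 : n7779 = n7232 := ((((iv F34447)).symm.trans (sb E4672 (iv F36783)))).symm
theorem E5773 : n7682 = n4945 := ((D7682).symm.trans (sb E4672 F29586))
theorem E5774 : n7791 = n7293 := ((((iv F34739)).symm.trans (sb E4672 (iv F36841)))).symm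
theorem F131416 : act 4 n6098 = n4934 := (sb E4672 F29588)
theorem E5776 : n7757 = n7401 := ((D7757).symm.trans (sb E4675 (iv F35301)))
theorem E5777 : n7686 = n7336 := ((D7686).symm.trans (sb E4676 (iv F34978)))
theorem F131417 : act 4 n6101 = n4946 := (sb E4676 F29650)
theorem E5778 : n11816 = n7964 := (((iv F54735)).symm.trans (sb E4677 F46950))
theorem E5779 : n12988 = n7778 := ((((iv D9877)).symm.trans (sb E4677 (iv F59367)))).symm
theorem F131421 : act 0 n6162 = n7389 := (sb E4841 F43997)
theorem E5783 : n11955 = n7747 := (E5751).trans E5763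
theorem E5784 : n7769 = n7380 := ((D7769).symm.trans (sb E4841 (iv D9355)))
theorem E5785 : n7964 = n7764 := ((((iv F36717)).symm.trans (sb E4841 (tr (iv F54739) E5778)))).symm
theorem E5786 : n7770 = n7692 := ((D7770).symm.trans (sb E4778 (tr D12987 E5715)))
theorem E5787 : n7778 = n7765 := ((((iv F36722)).symm.trans (sb E4778 (tr D12988 E5779)))).symm
theorem F131422 : act 1 n5899 = n4920 := (sb E4684 F29512)
theorem F131423 : act 6 n5899 = n4919 := (sb E4684 (iv D6166))
theorem F131424 : act 7 n6162 = n5031 := (sb E4685 F30111)
theorem F131425 : act 0 n6163 = n4984 := (sb E4686 F29839)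
theorem F131426 : act 3 n6163 = n4979 := (sb E4686 (iv D6241))
theorem F131427 : act 6 n5783 = n4979 := (sb E4687 (iv D6242))
theorem F131428 : act 1 n3968 = n4910 := (sb E4688 (iv D6155))
theorem F131429 : act 7 n3968 = n4913 := (sb E4688 F29470)
theorem F131430 : act 1 n5789 = n4992 := (sb E4689 F29878)
theorem F131431 : act 6 n5789 = n4984 := (sb E4689 (iv D6250))
theorem F131432 : act 0 n5872 = n4913 := (sb E4691 (iv D6158))
theorem F131433 : act 1 n5872 = n7292 := (sb E4691 (iv F34733))
theorem E5793 : n23076 = n19567 := ((((iv D24807)).symm.trans (sb E4693 (iv D28968)))).symm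
theorem E5794 : n14091 = n11932 := (((F70176).symm.trans (sb E4694 (iv D18132)))).symm
theorem E5795 : n23078 = n21132 := ((((iv D26822)).symm.trans (sb E4695 (iv D28971)))).symm
theorem E5796 : n23070 = n21134 := ((((iv D26825)).symm.trans (sb E4696 (iv D28960)))).symm
theorem E5797 : n14076 = n12805 := (((F74682).symm.trans (sb E4697 (iv D18118)))).symm
theorem E5798 : n13623 = n12778 := ((((iv F58554)).symm.trans (sb E4698 (iv F61992)))).symm
theorem E5799 : n8576 = n7863 := (((F46455).symm.trans (sb E4698 (iv D10958)))).symm
theorem E5800 : n22463 = n7776 := (((D7776).symm.trans (sb E5030 (iv F100338)))).symm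
theorem E5801 : n11932 = n7775 := ((((iv F36768)).symm.trans (sb E5030 (tr (iv D18133) E5794)))).symm
theorem E5802 : n23077 = n7774 := ((((iv F36763)).symm.trans (sb E5030 (iv F103038)))).symm
theorem E5803 : n11917 = n7774 := (((iv D15309)).symm.trans (sb E4700 (tr F128919 E5802)))
theorem E5804 : n22441 = n12760 := ((((iv F58489)).symm.trans (sb E4702 (iv F100260)))).symm
theorem E5805 : n23075 = n7846 := ((((iv D9975)).symm.trans (sb E4702 (iv F103028)))).symm
theorem E5806 : n11896 = n7776 := (((iv F55107)).symm.trans (sb E4704 (tr (iv F100336) E5800)))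
theorem E5807 : n20900 = n12720 := ((((iv F58346)).symm.trans (sb E4704 (iv F93962)))).symm
theorem E5808 : n22452 = n7830 := ((((iv D9954)).symm.trans (sb E4704 (iv F100301)))).symm
theorem E5809 : n7830 = n7788 := ((((iv F36827)).symm.trans (sb E4757 (tr (iv F100300) E5808)))).symm
theorem E5810 : n7846 = n7784 := ((((iv F36811)).symm.trans (sb E4757 (tr (iv F103029) E5805)))).symm
theorem E5812 : n21054 = n13611 := ((((iv F61948)).symm.trans (sb E4709 (iv F94505)))).symm
theorem E5813 : n12814 = n8568 := ((((iv D10947)).symm.trans (sb E4709 F74674))).symm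
theorem E5815 : n20953 = n20881 := (((iv F94153)).symm.trans (sb E4711 (iv F93881)))
theorem E5816 : n22433 = n12759 := ((((iv D16434)).symm.trans (sb E4711 (iv F100229)))).symm
theorem E5817 : n23075 = n7784 := (E5805).trans E5810
theorem E5818 : n14073 = n7850 := (((F46381).symm.trans (sb E4712 (iv D18116)))).symm
theorem E5819 : n20977 = n12683 := ((((iv F58207)).symm.trans (sb E4713 (iv F94235)))).symm
theorem E5820 : n12787 = n8308 := ((((iv D10601)).symm.trans (sb E4713 F74541))).symm
theorem E5821 : n8572 = n7862 := (((iv F40062)).symm.trans (sb E4714 (iv D9997)))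
theorem E5822 : n20889 = n12685 := (((F74064).symm.trans (sb E4715 (iv F93916)))).symm
theorem E5823 : n20891 = n12719 := (((iv F93926)).symm.trans (sb E4715 (iv D16378)))
theorem E5824 : n22452 = n7788 := (E5808).trans E5809
theorem E5828 : n7862 = n7806 := ((((iv F36900)).symm.trans (sb E4745 (tr (iv D10953) E5821)))).symm
theorem E5829 : n7850 = n7803 := ((((iv F36889)).symm.trans (sb E4745 (tr (iv F63850) E5818)))).symm
theorem E5831 : n11692 = n7308 := ((((iv F34835)).symm.trans (sb E4719 (iv F54141)))).symm
theorem E5832 : n7777 = n7365 := (((iv F36773)).symm.trans (sb E4722 (iv F35131)))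
theorem E5834 : n7789 = n4970 := ((D7789).symm.trans (sb E4722 F29775))
theorem E5835 : n19631 = n7811 := (((D7811).symm.trans (sb E5022 (iv F89069)))).symm
theorem E5836 : n11775 = n7811 := (((iv F54512)).symm.trans (sb E4724 (tr F112015 E5835)))
theorem E5839 : n22534 = n13614 := (((F79021).symm.trans (sb E4729 (iv F100617)))).symm
theorem E5841 : n22776 = n11432 := ((((iv F52836)).symm.trans (sb E4732 (iv F101605)))).symm
theorem E5844 : n13740 = n8302 := ((((iv D10593)).symm.trans (sb E4733 F79674))).symm
theorem E5845 : n8565 = n8398 := (((iv F40030)).symm.trans (sb E4734 (iv D10729)))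
theorem E5846 : n22431 = n12677 := ((((iv F58181)).symm.trans (sb E4735 (iv F100220)))).symm
theorem E5847 : n13658 = n13609 := ((((iv F61940)).symm.trans (sb E4735 (iv D17621)))).symm
theorem E5848 : n22434 = n13708 := ((((iv F62337)).symm.trans (sb E4736 (iv F100235)))).symm
theorem E5850 : n14073 = n7803 := (E5818).trans E5829
theorem E5851 : n13766 = n8053 := ((((iv F37921)).symm.trans (sb E4739 (iv F62556)))).symm
theorem E5852 : n8378 = n8305 := ((((iv F38948)).symm.trans (sb E4739 (iv D10703)))).symm
theorem E5853 : n8572 = n7806 := (E5821).trans E5828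
theorem E5854 : n6642 = n6210 := ((((iv F29705)).symm.trans (iv (sb E4740 (tr (iv D6765) E5625))))).symm
theorem E5855 : n6765 = n6210 := (E4740).trans E5854
theorem E5856 : n8305 = n7833 := ((((iv F36999)).symm.trans (sb E5855 (iv F38947)))).symm
theorem E5858 : n8398 = n7825 := ((((iv F36971)).symm.trans (sb E5855 (tr (iv F40031) E5845)))).symm
theorem E5860 : n13616 = n12681 := ((((iv F58200)).symm.trans (sb E4741 (iv D17560)))).symm
theorem E5861 : n8336 = n5265 := (E5543).trans E5615
theorem E5862 : n13620 = n13213 := (((iv F61983)).symm.trans (sb E4742 (iv F60358)))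
theorem E5863 : n8337 = n8306 := ((((iv D10599)).symm.trans (sb E4742 F49101))).symm
theorem E5865 : n22458 = n13258 := ((((iv F60543)).symm.trans (sb E4743 D22458))).symm
theorem E5866 : n8378 = n7833 := (E5852).trans E5856
theorem E5872 : n7848 = n3074 := ((((iv D4307)).symm.trans (sb E4751 (tr (iv F64401) E5198)))).symm
theorem E5874 : n5438 = n5274 := (E5553).trans E5559
theorem E5875 : n8565 = n7825 := (E5845).trans E5858
theorem E5876 : n14072 = n12673 := ((((iv F58164)).symm.trans (sb E4753 (iv D18115)))).symm
theorem E5877 : n14122 = n11402 := ((((iv F52661)).symm.trans (sb E4754 (iv F64067)))).symm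
theorem E5880 : n5414 = n5278 := (E5558).trans E5563
theorem E5881 : n7863 = n7786 := ((((iv D9889)).symm.trans (sb E4760 (tr F50416 E5799)))).symm
theorem E5882 : n8576 = n7786 := (E5799).trans E5881
theorem F131451 : act 0 n5851 = n4934 := (sb E4763 F29548)
theorem F131452 : act 1 n5851 = n7309 := (sb E4763 (iv F34841))
theorem F131453 : act 6 n5851 = n4927 := (sb E4763 (iv D6173))
theorem F131454 : act 1 n3956 = n4946 := (sb E4765 F29591)
theorem F131455 : act 7 n3956 = n4934 := (sb E4765 (iv D6182))
theorem E5886 : n14091 = n7775 := (E5794).trans E5801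
theorem E5888 : n12002 = n7690 := ((((iv F36480)).symm.trans (sb E4768 (tr (iv F101960) E5700)))).symm
theorem E5889 : n12024 = n7377 := ((((iv F35195)).symm.trans (sb E4769 (iv F55683)))).symm
theorem E5890 : n12003 = n7870 := (((D7870).symm.trans (sb E4769 (iv F55593)))).symm
theorem E5891 : n7871 = n7424 := ((D7871).symm.trans (sb E4769 F44205))
theorem E5893 : n12887 = n12865 := (((iv F58989)).symm.trans (sb E4772 (iv F58915)))
theorem E5894 : n8438 = n7916 := (((F46711).symm.trans (sb E4772 (iv D10780)))).symm
theorem E5896 : n7916 = n7880 := ((((iv F37204)).symm.trans (sb E4819 (tr (iv F39505) E5894)))).symm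
theorem E5897 : n12001 = n7378 := ((((iv F35201)).symm.trans (sb E4774 (iv F55585)))).symm
theorem E5898 : n11978 = n7872 := (((D7872).symm.trans (sb E4774 (iv F55498)))).symm
theorem E5899 : n7873 = n7403 := ((D7873).symm.trans (sb E4774 (iv D9387)))
theorem E5900 : n12896 = n7892 := (((F46637).symm.trans (sb E4775 F75025))).symm
theorem E5901 : n21215 = n7891 := ((((iv D10036)).symm.trans (sb E4775 (iv F95170)))).symm
theorem E5902 : n7891 = n7883 := ((((iv F37216)).symm.trans (sb E4793 (tr (iv F95168) E5901)))).symm
theorem E5903 : n21208 = n7730 := (E5734).trans E5756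
theorem E5905 : n7885 = n4998 := ((D7885).symm.trans (sb E4777 F29923))
theorem F131458 : act 6 n5857 = n7289 := (sb E4781 (iv D9235))
theorem E5910 : n7703 = n7298 := ((D7703).symm.trans (sb E4782 F43421))
theorem E5912 : n7790 = n7294 := ((D7790).symm.trans (sb E4783 F43390))
theorem F131459 : act 0 n5882 = n4983 := (sb E4784 F29834)
theorem F131460 : act 1 n5882 = n7379 := (sb E4784 (iv F35205))
theorem F131461 : act 6 n5882 = n4978 := (sb E4784 (iv D6240))
theorem F131462 : act 1 n3980 = n4991 := (sb E4787 F29868)
theorem E5916 : n7881 = n5009 := (((D5009).symm.trans (sb E4787 (iv F37210)))).symm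
theorem F131463 : act 7 n3980 = n4983 := (sb E4787 (iv D6248))
theorem E5918 : n7892 = n7882 := ((((iv D10022)).symm.trans (sb E4788 (tr F75126 E5900)))).symm
theorem E5919 : n8438 = n7880 := (E5894).trans E5896
theorem E5920 : n12896 = n7882 := (E5900).trans E5918
theorem E5921 : n12930 = n8177 := ((((iv F38429)).symm.trans (sb E4789 (iv F59119)))).symm
theorem E5922 : n8434 = n7914 := (((iv F39492)).symm.trans (sb E4789 (iv D10070)))
theorem E5923 : n7914 = n7894 := ((((iv F37254)).symm.trans (sb E4807 (tr (iv F39491) E5922)))).symm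
theorem E5924 : n12859 = n7898 := (((F46594).symm.trans (sb E4791 F74982))).symm
theorem E5925 : n12861 = n12858 := (((iv F58899)).symm.trans (sb E4791 (iv D16564)))
theorem E5926 : n21216 = n12559 := ((((iv F57749)).symm.trans (sb E4792 (iv F95174)))).symm
theorem E5927 : n7898 = n7895 := (((F46635).symm.trans (sb E4792 (tr (iv D16566) E5924)))).symm
theorem E5928 : n13858 = n7734 := (E5738).trans E5761
theorem E5929 : n19626 = n11494 := ((((iv F53155)).symm.trans (sb E4794 (iv F89044)))).symm
theorem E5931 : n8434 = n7894 := (E5922).trans E5923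
theorem E5934 : n19622 = n7901 := (((D7901).symm.trans (sb E4798 (iv F89016)))).symm
theorem E5935 : n11782 = n7719 := ((((iv F36569)).symm.trans (sb E4798 (tr (iv F89065) E5727)))).symm
theorem E5937 : n11781 = n7399 := ((((iv F35292)).symm.trans (sb E4801 D11781))).symm
theorem E5938 : n11752 = n7901 := (((D7901).symm.trans (sb E4801 (iv F54410)))).symm
theorem E5939 : n7903 = n7286 := ((D7903).symm.trans (sb E4801 F43303))
theorem E5940 : n11494 = n7900 := ((((iv F37272)).symm.trans (sb E4892 (tr (iv F89042) E5929)))).symm
theorem E5941 : n11504 = n7722 := ((((iv F36578)).symm.trans (sb E4892 (tr D19627 E5744)))).symm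
theorem E5942 : n19360 = n7906 := (((D7906).symm.trans (sb E4892 (iv F87792)))).symm
theorem E5943 : n8488 = n5163 := (E5410).trans E5599
theorem E5944 : n8486 = n8174 := ((((iv F38421)).symm.trans (sb E4805 (iv D10845)))).symm
theorem E5945 : n13956 = n8171 := ((((iv F38410)).symm.trans (sb E4805 D13956))).symm
theorem E5946 : n6659 = n6267 := ((((iv F29932)).symm.trans (iv (sb E4806 (tr F31732 E5619))))).symm
theorem E5947 : n6694 = n6267 := (E4806).trans E5946
theorem E5948 : n8174 = n7911 := ((((iv F37305)).symm.trans (sb E5947 (tr D8486 E5944)))).symm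
theorem E5949 : n13406 = n12862 := ((((iv F58904)).symm.trans (sb E4809 (iv F61138)))).symm
theorem E5950 : n8436 = n8202 := (((F48379).symm.trans (sb E4810 (iv D10777)))).symm
theorem E5951 : n13864 = n13436 := ((((iv F61242)).symm.trans (sb E4810 D13864))).symm
theorem E5952 : n6660 = n6271 := ((((iv F29945)).symm.trans (iv (sb E4811 (tr F31665 E5618))))).symm
theorem E5953 : n6675 = n6271 := (E4811).trans E5952
theorem E5954 : n8202 = n7917 := ((((iv F37324)).symm.trans (sb E5953 (iv F38526)))).symm
theorem E5955 : n8306 = n7837 := ((((iv F37015)).symm.trans (sb E5953 (tr (iv F39084) E5863)))).symm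
theorem E5956 : n8436 = n7917 := (E5950).trans E5954
theorem E5957 : n13408 = n8238 := (((D8238).symm.trans (sb E4812 (iv F61144)))).symm
theorem E5960 : n19626 = n7900 := (E5929).trans E5940
theorem E5962 : n19166 = n8261 := ((((iv F38749)).symm.trans (sb E4814 F86872))).symm
theorem E5964 : n11470 = n7906 := (((iv F53034)).symm.trans (sb E4817 (tr F110312 E5942)))
theorem F131466 : act 1 n5656 = n5031 := (sb E4825 F30088)
theorem E5965 : n7957 = n7103 := ((((iv F33765)).symm.trans (sb E4825 D7957))).symm
theorem E5969 : n1574 = n1223 := ((D1574).symm.trans (sb E4830 (iv D1753)))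
theorem F131467 : act 6 n949 = n773 := (sb E4831 (iv D1105))
theorem F131468 : act 2 n5790 = n4984 := (sb E4838 (iv D6249))
theorem E5973 : n11503 = n7402 := ((((iv F35304)).symm.trans (sb E4840 D11503))).symm
theorem E5974 : n11816 = n7764 := (E5778).trans E5785
theorem F131469 : act 0 n6311 = n7388 := (sb E4843 F43992)
theorem F131470 : act 2 n6311 = n7380 := (sb E4843 (iv D9354))
theorem E5975 : n11704 = n7965 := (((D7965).symm.trans (sb E4843 (iv F54208)))).symm
theorem E5976 : n11815 = n7966 := (((D7966).symm.trans (sb E4843 (iv F54733)))).symm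
theorem E5977 : n8285 = n7965 := (((D7965).symm.trans (sb E4844 D8285))).symm
theorem F131471 : act 3 n5909 = n7292 := (sb E4848 F42292)
theorem E5981 : n11473 = n7449 := (((D7449).symm.trans (sb E4848 (iv F53057)))).symm
theorem F131472 : act 3 n5786 = n5031 := (sb E4849 F30102)
theorem E5982 : n7962 = n7235 := ((((iv F34470)).symm.trans (sb E4849 D7962))).symm
theorem E5983 : n22907 = n19718 := ((((iv D24981)).symm.trans (sb E4851 F112620))).symm
theorem E5984 : n13910 = n12924 := (((F75277).symm.trans (sb E4852 F80557))).symm
theorem E5987 : n13950 = n13915 := (((F80584).symm.trans (sb E4854 F80726))).symm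
theorem E5990 : n8489 = n8483 := ((F49805).symm.trans (sb E4855 F49891))
theorem E5991 : n13949 = n13473 := ((((iv F61394)).symm.trans (sb E4855 (iv F63267)))).symm
theorem E5992 : n8480 = n5161 := (E5408).trans E5591
theorem E5994 : n22897 = n8207 := ((((iv F38544)).symm.trans (sb E4857 (iv F102106)))).symm
theorem E6000 : n22952 = n22234 := ((((iv D28092)).symm.trans (sb E4870 F128276))).symm
theorem E6001 : n22859 = n19715 := ((F112419).symm.trans (sb E4873 F112459))
theorem E6002 : n21261 = n21227 := (((iv F95351)).symm.trans (sb E4874 (iv F95215)))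
theorem E6003 : n22162 = n21319 := ((((iv F95544)).symm.trans (sb E4874 (iv F99102)))).symm
theorem E6011 : n19627 = n7722 := (E5744).trans E5941
theorem E6013 : n21210 = n7705 := (E5724).trans E5759
theorem E6014 : n21259 = n21225 := (((F112414).symm.trans (sb E4898 F120115))).symm
theorem E6015 : n22822 = n19709 := (((F112425).symm.trans (sb E4901 F112451))).symm
theorem E6016 : n22858 = n7690 := (E5700).trans E5888
theorem E6017 : n21294 = n19281 := ((((iv F87376)).symm.trans (sb E4903 (iv D26988)))).symm
theorem E6018 : n21274 = n21264 := ((F112200).symm.trans (sb E4904 F119839))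
theorem E6019 : n19698 = n19280 := ((((iv D24424)).symm.trans (sb E4905 (iv D24954)))).symm
theorem E6021 : n21235 = n12845 := (((F74896).symm.trans (sb E4911 F119999))).symm
theorem E6022 : n21329 = n13375 := ((((iv D17246)).symm.trans (sb E4912 F120282))).symm
theorem E6023 : n19619 = n12901 := (((iv F89000)).symm.trans (sb E4914 F75041))
theorem E6026 : n19659 = n18762 := ((((iv F84888)).symm.trans (sb E4917 (iv D24910)))).symm
theorem E6033 : n12908 = n11951 := ((((iv F55391)).symm.trans (sb E4928 F75092))).symm
theorem E6034 : n21248 = n12516 := ((((iv F57606)).symm.trans (sb E4928 (iv F95299)))).symm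
theorem E6035 : n21250 = n12660 := ((((iv F58107)).symm.trans (sb E4928 D21250))).symm
theorem E6036 : n22908 = n8160 := ((((iv D10405)).symm.trans (sb E4929 (iv F120051)))).symm
theorem E6040 : n19354 = n12910 := (((iv F87753)).symm.trans (sb E4935 F75101))
theorem E6043 : n22387 = n21811 := (((iv F100044)).symm.trans (sb E4936 F117345))
theorem E6044 : n11994 = n11967 := (((iv F55557)).symm.trans (sb E4942 F70295))
theorem E6045 : n19621 = n12576 := ((((iv F57791)).symm.trans (sb E4942 D19621))).symm
theorem E6046 : n21186 = n20679 := (((D20679).symm.trans (sb E4943 (iv F95033)))).symm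
theorem E6048 : n22246 = n22078 := ((D22246).symm.trans (sb E4944 (iv F98777)))
theorem E6052 : n12997 = n12650 := ((((iv D16279)).symm.trans (sb E4949 (iv D16734)))).symm
theorem E6055 : n12913 = n12629 := ((((iv F57977)).symm.trans (sb E4953 (iv F59064)))).symm
theorem E6057 : n12911 = n11788 := ((((iv D15129)).symm.trans (sb E4954 (iv D16637)))).symm
theorem E6058 : n20745 = n19324 := (((D19324).symm.trans (sb E4954 (iv F93338)))).symm
theorem E6059 : n21301 = n19133 := ((((iv F86696)).symm.trans (sb E4954 D21301))).symm
theorem E6061 : n19789 = n18648 := (((F105708).symm.trans (sb E4961 F112889))).symm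
theorem E6062 : n13578 = n12070 := (((F70956).symm.trans (sb E4962 F73859))).symm
theorem E6063 : n20819 = n19704 := ((((iv F89368)).symm.trans (sb E4962 (iv F93618)))).symm
theorem E6065 : n10567 = n9177 := (E4965).trans E5142
theorem E6066 : n12070 = n11482 := ((((iv F53101)).symm.trans (sb E6065 (tr D13578 E6062)))).symm
theorem E6067 : n13564 = n11720 := (((D11720).symm.trans (sb E6065 (iv F61748)))).symm
theorem E6068 : n13577 = n11605 := ((((iv F53730)).symm.trans (sb E6065 (iv F61808)))).symm
theorem E6069 : n12020 = n11720 := ((F70567).symm.trans (sb E4966 (tr F73796 E6067)))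
theorem E6070 : n12628 = n11998 := ((((iv D15418)).symm.trans (sb E4966 (iv D16262)))).symm
theorem E6071 : n20820 = n19255 := ((((iv F87254)).symm.trans (sb E4966 D20820))).symm
theorem E6072 : n20812 = n19705 := (((D19705).symm.trans (sb E4966 (iv F93589)))).symm
theorem E6073 : n12071 = n11605 := ((F70961).symm.trans (sb E4967 (tr F73851 E6068)))
theorem E6074 : n19788 = n18924 := ((D19788).symm.trans (sb E4967 F85711))
theorem E6075 : n19322 = n19253 := ((D19322).symm.trans (sb E4968 (iv F87245)))
theorem E6076 : n12239 = n11995 := ((F69205).symm.trans (sb E4968 (iv D15416)))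
theorem E6077 : n19703 = n19132 := ((((iv F86691)).symm.trans (sb E4968 D19703))).symm
theorem E6079 : n19653 = n19267 := ((((iv F87312)).symm.trans (sb E4974 (iv F89157)))).symm
theorem E6080 : n19316 = n19208 := ((D19316).symm.trans (sb E4974 (iv F87054)))
theorem E6081 : n11974 = n11793 := (((F69174).symm.trans (sb E4974 (iv D15387)))).symm
theorem E6084 : n19205 = n18774 := ((((iv F84950)).symm.trans (sb E4978 (iv D24326)))).symm
theorem E6085 : n19409 = n18719 := ((((iv F84697)).symm.trans (sb E4979 (iv F88017)))).symm
theorem E6094 : n11951 = n11758 := ((((iv F54438)).symm.trans (sb E5146 (tr (iv F59049) E6033)))).symm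
theorem E6095 : n12912 = n11682 := ((((iv F54094)).symm.trans (sb E5146 D12912))).symm
theorem E6096 : n11788 = n11706 := ((((iv F54216)).symm.trans (sb E4992 (tr F75103 E6057)))).symm
theorem E6099 : n11817 = n11682 := (((iv F54741)).symm.trans (sb E4993 (tr F75106 E6095)))
theorem E6106 : n11967 = n11764 := ((((iv F54467)).symm.trans (sb E5148 (tr (iv F55559) E6044)))).symm
theorem E6107 : n11793 = n11744 := ((D11793).symm.trans (sb E5148 (iv F54376)))
theorem E6109 : n11974 = n11744 := (E6081).trans E6107
theorem E6111 : n11787 = n7390 := ((D11787).symm.trans (sb E5015 F44002))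
theorem E6112 : n11691 = n7320 := ((D11691).symm.trans (sb E5016 F43491))
theorem F131558 : act 4 n9156 = n7309 := (sb E5016 F43494)
theorem F131559 : act 4 n9160 = n7321 := (sb E5020 F43584)
theorem F131560 : act 0 n5863 = n7289 := (sb E5029 (iv D9234))
theorem F131561 : act 7 n5863 = n7292 := (sb E5029 F43364)
theorem E6116 : n21297 = n11895 := ((((iv D15280)).symm.trans (sb E5031 F120248))).symm
theorem E6117 : n22390 = n19530 := (((D19530).symm.trans (sb E5031 F120249))).symm
theorem E6118 : n11895 = n11813 := ((((iv F54720)).symm.trans (sb E5104 (tr (iv F95460) E6116)))).symm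
theorem E6119 : n21403 = n11809 := ((((iv F54700)).symm.trans (sb E5104 D21403))).symm
theorem E6120 : n14046 = n11939 := (((F70167).symm.trans (sb E5033 (iv D18078)))).symm
theorem E6121 : n23018 = n19565 := ((((iv F88720)).symm.trans (sb E5033 (iv F102735)))).symm
theorem E6122 : n11916 = n11809 := (((iv D15308)).symm.trans (sb E5034 (tr F120768 E6119)))
theorem E6124 : n19700 = n19079 := ((((iv F86419)).symm.trans (sb E5036 F112372))).symm
theorem E6125 : n19701 = n11901 := (((F69930).symm.trans (sb E5036 F112374))).symm
theorem E6126 : n19542 = n13587 := ((((iv D17516)).symm.trans (sb E5037 F111391))).symm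
theorem E6127 : n11901 = n11835 := ((((iv F54830)).symm.trans (sb E5107 (tr (iv F89354) E6125)))).symm
theorem E6128 : n14041 = n11831 := ((((iv F54815)).symm.trans (sb E5107 F70943))).symm
theorem E6129 : n19783 = n11828 := ((((iv F54801)).symm.trans (sb E5107 D19783))).symm
theorem E6130 : n11922 = n11828 := ((F70064).symm.trans (sb E5040 (tr F112872 E6129)))
theorem E6131 : n11938 = n11831 := (((E6128).symm.trans (((iv F63685)).symm.trans (sb E5041 (iv D15335))))).symm
theorem E6133 : n19805 = n12765 := (((F74448).symm.trans (sb E5045 (iv D25078)))).symm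
theorem E6134 : n21066 = n13579 := ((((iv D17504)).symm.trans (sb E5046 F119161))).symm
theorem E6135 : n12812 = n12084 := ((D12812).symm.trans (sb E5047 (iv D15515)))
theorem E6137 : n20989 = n12658 := ((((iv D16289)).symm.trans (sb E5049 F118792))).symm
theorem E6138 : n21102 = n13145 := ((((iv F60082)).symm.trans (sb E5050 (iv F94672)))).symm
theorem E6139 : n13583 = n12785 := (((iv F61835)).symm.trans (sb E5050 (iv D16470)))
theorem E6141 : n20888 = n20841 := ((((iv F93713)).symm.trans (sb E5052 (iv D26485)))).symm
theorem E6142 : n20839 = n12725 := (((F74252).symm.trans (sb E5053 (iv D26418)))).symm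
theorem E6143 : n19661 = n12457 := (((F72971).symm.trans (sb E5054 F112182))).symm
theorem E6144 : n19701 = n11835 := (E6125).trans E6127
theorem E6151 : n22430 = n19799 := ((((iv F89850)).symm.trans (sb E5065 F120089))).symm
theorem E6152 : n22508 = n19808 := ((((iv F89896)).symm.trans (sb E5066 (iv F100501)))).symm
theorem E6154 : n19806 = n13714 := (((F79555).symm.trans (sb E5067 (iv D25079)))).symm
theorem E6162 : n13585 = n13219 := (((F76928).symm.trans (sb E5075 (iv D17513)))).symm
theorem E6163 : n22388 = n21778 := ((((iv F97577)).symm.trans (sb E5075 D22388))).symm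
theorem E6164 : n8337 = n7837 := (E5863).trans E5955
theorem E6168 : n11814 = n7369 := ((D11814).symm.trans (sb E5080 F43889))
theorem F131584 : act 6 n9269 = n8279 := (sb E5183 (iv D10562))
theorem F131585 : act 2 n9270 = n8279 := (sb E5182 F45930)
theorem E6169 : n12620 = n11837 := (((D11837).symm.trans (sb E5182 (iv F57944)))).symm
theorem E6170 : n11999 = n11837 := (((E6169).symm.trans ((F68543).symm.trans (sb E5083 F70563)))).symm
theorem E6171 : n19476 = n19107 := ((((iv F86564)).symm.trans (sb E5083 (iv F88303)))).symm
theorem E6172 : n19654 = n19257 := ((((iv F87262)).symm.trans (sb E5086 (iv F89161)))).symm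
theorem E6173 : n12197 = n11976 := ((F69131).symm.trans (sb E5086 F70452))
theorem E6174 : n19413 = n19116 := ((((iv F86614)).symm.trans (sb E5086 (iv F88033)))).symm
theorem E6175 : n11976 = n11868 := ((((iv F54976)).symm.trans (sb E5181 (tr (iv F56458) E6173)))).symm
theorem E6176 : n12197 = n11868 := (E6173).trans E6175
theorem E6184 : n11918 = n5222 := ((((iv D6554)).symm.trans (sb E5096 (tr (iv F103384) E5489)))).symm
theorem E6186 : n14188 = n3074 := (E5198).trans E5872
theorem E6187 : n23155 = n5222 := (E5489).trans E6184
theorem E6189 : n19813 = n19341 := ((((iv F87688)).symm.trans (sb E5099 (iv F89921)))).symm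
theorem E6190 : n18593 = n12078 := (((F71012).symm.trans (sb E5100 (iv F84018)))).symm
theorem E6195 : n11939 = n11811 := ((((iv D15155)).symm.trans (sb E5108 (tr F75643 E6120)))).symm
theorem E6196 : n14046 = n11811 := (E6120).trans E6195
theorem F131586 : act 0 n5854 = n7321 := (sb E5111 F43497)
theorem F131587 : act 7 n5854 = n7309 := (sb E5111 (iv D9256))
theorem E6197 : n21189 = n19668 := ((((iv F89223)).symm.trans (sb E5112 (iv F95045)))).symm
theorem E6198 : n13834 = n12012 := (((F70583).symm.trans (sb E5112 (iv D17848)))).symm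
theorem E6200 : n12012 = n11947 := ((((iv F55372)).symm.trans (sb E5175 (tr (iv F62860) E6198)))).symm
theorem E6201 : n21286 = n11977 := ((((iv D15390)).symm.trans (sb E5114 F119836))).symm
theorem E6202 : n11977 = n11950 := ((((iv F55387)).symm.trans (sb E5122 (tr (iv F95426) E6201)))).symm
theorem E6203 : n12908 = n11758 := (E6033).trans E6094
theorem E6205 : n11952 = n7407 := ((D11952).symm.trans (sb E5116 F44119))
theorem E6206 : n19680 = n12843 := ((((iv D16542)).symm.trans (sb E5117 F112208))).symm
theorem E6207 : n13834 = n11947 := (E6198).trans E6200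
theorem E6208 : n19725 = n13374 := ((((iv F61017)).symm.trans (sb E5118 (iv F89453)))).symm
theorem E6209 : n13828 = n12010 := (((iv F62835)).symm.trans (sb E5118 (iv D15434)))
theorem E6210 : n12010 = n11962 := ((((iv F55440)).symm.trans (sb E5131 (tr (iv F62834) E6209)))).symm
theorem E6211 : n21280 = n19617 := (((F111947).symm.trans (sb E5120 F112029))).symm
theorem E6213 : n19690 = n19226 := ((((iv F87136)).symm.trans (sb E5121 (iv D24946)))).symm
theorem E6214 : n19691 = n11983 := (((F70456).symm.trans (sb E5121 F112329))).symm
theorem E6215 : n11994 = n11764 := (E6044).trans E6106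
theorem E6216 : n12228 = n11993 := ((F69031).symm.trans (sb E5123 (iv D15413)))
theorem E6217 : n11983 = n11966 := ((((iv F55454)).symm.trans (sb E5138 (tr (iv F89311) E6214)))).symm
theorem E6218 : n13828 = n11962 := (E6209).trans E6210
theorem E6219 : n11948 = n7423 := (((iv F55374)).symm.trans (sb E5126 F44234))
theorem E6220 : n21271 = n12514 := ((((iv F57600)).symm.trans (sb E5128 (iv F95380)))).symm
theorem E6221 : n12894 = n12839 := ((((iv F58817)).symm.trans (sb E5128 (iv D16614)))).symm
theorem E6222 : n13370 = n12928 := (((iv F61002)).symm.trans (sb E5129 (iv D16660)))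
theorem E6225 : n21183 = n19611 := ((((iv F88959)).symm.trans (sb E5132 (iv F95018)))).symm
theorem E6226 : n21185 = n20648 := (((iv F95029)).symm.trans (sb E5133 (iv F93019)))
theorem E6227 : n12864 = n12840 := ((((iv D16538)).symm.trans (sb E5133 F74980))).symm
theorem E6229 : n19649 = n12565 := (((F73499).symm.trans (sb E5134 F112127))).symm
theorem E6232 : n12588 = n11971 := (((iv F57835)).symm.trans (sb E5136 (iv D15383)))
theorem F131596 : act 0 n5886 = n7387 := (sb E5141 F43986)
theorem F131597 : act 7 n5886 = n7379 := (sb E5141 (iv D9353))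
theorem E6237 : n8279 = n7451 := ((F131584).symm.trans (sb E5143 F44412))
theorem F131598 : act 2 n9366 = n8260 := (sb E5144 F45872)
theorem E6238 : n11998 = n11721 := ((((iv F54282)).symm.trans (sb E5144 (tr D12628 E6070)))).symm
theorem F131599 : act 7 n9270 = n7449 := (sb E5145 F44401)
theorem E6239 : n8260 = n7414 := ((F131598).symm.trans (sb E5147 F44111))
theorem E6240 : n11991 = n11971 := (((D11971).symm.trans (sb E5147 (iv F55546)))).symm
theorem F131600 : act 7 n9366 = n7402 := (sb E5147 F44113)
theorem F131601 : act 8 n9366 = n7401 := (sb E5147 (iv D9384))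
theorem E6241 : n11993 = n11968 := ((((iv F55463)).symm.trans (sb E5152 (tr (iv F56566) E6216)))).symm
theorem E6242 : n11995 = n11724 := ((((iv F54293)).symm.trans (sb E5152 (tr D12239 E6076)))).symm
theorem E6243 : n12228 = n11968 := (E6216).trans E6241
theorem F131602 : act 3 n9369 = n7401 := (sb E5151 F44101)
theorem F131603 : act 5 n9369 = n7400 := (sb E5151 F44102)
theorem F131604 : act 7 n9369 = n7399 := (sb E5151 (iv D9381))
theorem F131605 : act 1 n9291 = n7449 := (sb E5153 F44362)
theorem E6244 : n12239 = n11724 := (E6076).trans E6242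
theorem E6245 : n12628 = n11721 := (E6070).trans E6238
theorem E6246 : n13906 = n8157 := ((((iv F38355)).symm.trans (sb E5156 (iv D17937)))).symm
theorem E6248 : n8486 = n7911 := (E5944).trans E5948
theorem E6249 : n13540 = n13371 := (((D13371).symm.trans (sb E5158 (iv F61647)))).symm
theorem E6253 : n13412 = n12841 := ((((iv D16539)).symm.trans (sb E5161 F77970))).symm
theorem E6254 : n22117 = n21187 := (((D21187).symm.trans (sb E5161 (iv F98947)))).symm
theorem E6255 : n13468 = n13372 := ((D13468).symm.trans (sb E5163 (iv F61010)))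
theorem E6256 : n13833 = n13448 := ((((iv F61293)).symm.trans (sb E5163 D13833))).symm
theorem F131608 : act 2 n5911 = n7389 := (sb E5180 (iv F131179))
theorem F131609 : act 6 n5911 = n7388 := (sb E5180 (iv F131178))
theorem E6266 : n18244 = n15315 := ((((iv D19575)).symm.trans (sb E5184 (iv D23225)))).symm
theorem E6268 : n15315 = n3593 := ((((iv F20368)).symm.trans (sb E5197 (tr F103714 E6266)))).symm
theorem E6272 : n15306 = n3595 := (((F20370).symm.trans (sb E5187 (iv F70057)))).symm
theorem E6273 : n9327 = n4300 := (((D4300).symm.trans (sb E5187 (iv D11921)))).symm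
theorem E6277 : n9338 = n4301 := (((D4301).symm.trans (sb E5188 (iv D11936)))).symm
theorem E6285 : n5846 = n4302 := (((D4302).symm.trans (sb E5191 (iv D7367)))).symm
theorem E6289 : n29133 = n16486 := ((((iv F74641)).symm.trans (sb E5194 (iv F129690)))).symm
theorem E6290 : n18246 = n9972 := ((((iv D12801)).symm.trans (sb E5194 (iv D23229)))).symm
theorem E6292 : n11036 = n9978 := ((((iv D12810)).symm.trans (sb E5196 (iv D14189)))).symm
theorem E6293 : n9972 = n4305 := ((((iv F20911)).symm.trans (sb E6186 (tr (iv F82051) E6290)))).symm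
theorem E6294 : n9978 = n4306 := ((((iv F20916)).symm.trans (sb E6186 (tr (iv D14188) E6292)))).symm
theorem E6297 : n6229 = n4308 := (((D4308).symm.trans (sb E5201 F37112))).symm
theorem E6302 : n4309 = n3950 := ((D4309).symm.trans (sb E5204 F24044))
theorem E6303 : n4310 = n3949 := ((D4310).symm.trans (sb E5204 (iv D4968)))
theorem E6307 : n18250 = n10713 := ((((iv D13779)).symm.trans (sb E5206 (iv D23232)))).symm
theorem E6310 : n11038 = n10715 := ((((iv D13781)).symm.trans (sb E5208 (iv D14192)))).symm
theorem E6311 : n18246 = n4305 := (E6290).trans E6293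
theorem E6312 : n11082 = n6624 := ((((iv D8389)).symm.trans (sb E5209 F64414))).symm
theorem E6313 : n11028 = n10724 := ((((iv D13794)).symm.trans (sb E5210 (iv D14180)))).symm
theorem E6315 : n6815 = n6629 := (((F39318).symm.trans (sb E5211 (iv D8638)))).symm
theorem E6316 : n6629 = n4318 := ((((iv F20970)).symm.trans (sb E5223 (tr (iv D8639) E6315)))).symm
theorem F131614 : act 4 n3087 = n4234 := (sb E5215 F25401)
theorem F131615 : act 6 n3087 = n4237 := (sb E5215 F25402)
theorem E6322 : n4319 = n4228 := ((D4319).symm.trans (sb E5216 F25358))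
theorem E6324 : n4320 = n4227 := ((D4320).symm.trans (sb E5216 (iv D5273)))
theorem E6328 : n6848 = n6837 := ((F40386).symm.trans (sb E5219 F40517))
theorem E6329 : n6849 = n4349 := (((F26075).symm.trans (sb E5220 F40598))).symm
theorem E6330 : n11084 = n4348 := ((((iv D5431)).symm.trans (sb E5220 D11084))).symm
theorem E6332 : n4354 = n4352 := ((F25994).symm.trans (sb E5222 F26100))
theorem E6333 : n4356 = n4336 := ((((iv D5415)).symm.trans (sb E5222 F26101))).symm
theorem E6336 : n4349 = n4331 := ((((iv F21034)).symm.trans (sb E5239 (tr (iv F32476) E6329)))).symm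
theorem E6337 : n4352 = n4334 := ((((iv F21053)).symm.trans (sb E5239 (tr (iv D5440) E6332)))).symm
theorem F131617 : act 3 n3101 = n2185 := (sb E5245 F15096)
theorem F131618 : act 6 n3101 = n2184 := (sb E5245 (iv D3118))
theorem E6338 : n4354 = n4334 := (E6332).trans E6337
theorem F131619 : act 2 n3102 = n4237 := (sb E5248 (iv F20613))
theorem F131620 : act 7 n3102 = n2185 := (sb E5248 (iv D3119))
theorem E6339 : n4336 = n4335 := ((((iv F21059)).symm.trans (sb E5248 (tr (iv F21167) E6333)))).symm
theorem F131621 : act 2 n3101 = n4234 := (sb E5229 (iv F20600))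
theorem E6340 : n4337 = n2179 := ((D4337).symm.trans (sb E5230 (iv D3110)))
theorem E6341 : n4350 = n2181 := (((F15007).symm.trans (sb E5231 D4350))).symm
theorem E6342 : n4338 = n2180 := ((D4338).symm.trans (sb E5231 F15055))
theorem F131622 : act 2 n3004 = n2175 := (sb E5232 F14947)
theorem F131623 : act 3 n3004 = n4208 := (sb E5232 (iv F20485))
theorem F131624 : act 6 n3004 = n2164 := (sb E5232 (iv D3089))
theorem F131625 : act 7 n1528 = n2184 := (sb E5233 F15080)
theorem F131626 : act 4 n1526 = n2175 := (sb E5234 F15028)
theorem F131627 : act 6 n1526 = n2174 := (sb E5234 (iv D3104))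
theorem F131628 : act 7 n1527 = n2175 := (sb E5236 (iv D3105))
theorem E6348 : n4348 = n4332 := (((F25958).symm.trans (sb E5237 (tr (iv F51082) E6330)))).symm
theorem E6349 : n6849 = n4331 := (E6329).trans E6336
theorem E6350 : n6785 = n4230 := ((((iv F20582)).symm.trans (sb E5556 (iv F32153)))).symm
theorem E6352 : n4356 = n4335 := (E6333).trans E6339
theorem E6353 : n4353 = n4231 := ((D4353).symm.trans (sb E5242 (iv F20587)))
theorem F131629 : act 2 n3005 = n2174 := (sb E5243 F14943)
theorem E6354 : n4323 = n4220 := ((((iv F20540)).symm.trans (sb E5243 D4323))).symm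
theorem F131630 : act 4 n3005 = n2164 := (sb E5243 (iv D3088))
theorem F131631 : act 3 n3102 = n2174 := (sb E5244 (iv D3103))
theorem F131632 : act 4 n3102 = n2184 := (sb E5244 F15023)
theorem E6356 : n6586 = n4236 := ((((iv F20609)).symm.trans (sb E5247 (iv F31297)))).symm
theorem F131633 : act 2 n3008 = n2184 := (sb E5250 (iv D3117))
theorem E6359 : n4304 = n3545 := ((((iv F17189)).symm.trans (sb E5251 (iv F20904)))).symm
theorem F131634 : act 6 n2766 = n2156 := (sb E5251 (iv D3078))
theorem E6371 : n4303 = n3546 := ((((iv F17195)).symm.trans (sb E5259 (iv F20897)))).symm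
theorem F131635 : act 4 n2767 = n2156 := (sb E5259 (iv D3077))
theorem E6392 : n4370 = n3564 := ((D4370).symm.trans (sb E5272 F22921))
theorem E6393 : n4371 = n3563 := ((D4371).symm.trans (sb E5272 (iv D4695)))
theorem F131636 : act 4 n2785 = n2194 := (sb E5280 (iv D3129))
theorem F131637 : act 6 n2784 = n2194 := (sb E5281 (iv D3130))
theorem F131638 : act 3 n2987 = n4092 := (sb E5293 F24770)
theorem F131639 : act 6 n2987 = n4091 := (sb E5293 (iv D5135))
theorem F131640 : act 4 n3026 = n4254 := (sb E5299 (iv F20684))
theorem F131641 : act 6 n2499 = n2192 := (sb E5302 (iv D3127))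
theorem F131642 : act 4 n2500 = n2192 := (sb E5314 (iv D3126))
theorem F131643 : act 4 n1224 = n1103 := (sb E5317 (iv D1573))
theorem F131644 : act 6 n724 = n541 := (sb E5321 (iv D775))
theorem F131645 : act 3 n379 = n531 := (sb E5325 (iv D763))
theorem E6461 : n544 = n533 := ((D544).symm.trans (sb E5325 F3966))
theorem E6511 : n18201 = n15330 := ((((iv D19594)).symm.trans (sb E5365 (iv D23176)))).symm
theorem E6514 : n28467 = n26773 := ((((iv F119368)).symm.trans (sb E5366 (iv F126664)))).symm
theorem E6515 : n17657 = n16462 := ((((iv F74553)).symm.trans (sb E5367 (iv F79430)))).symm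
theorem E6516 : n28460 = n6368 := (((D6368).symm.trans (sb E5400 (iv F126636)))).symm
theorem E6517 : n15330 = n6367 := ((((iv F30385)).symm.trans (sb E5400 (tr (iv D23175) E6511)))).symm
theorem E6518 : n15283 = n6368 := (((iv F69944)).symm.trans (sb E5369 (tr (iv F126632) E6516)))
theorem E6519 : n17658 = n9955 := ((((iv D12779)).symm.trans (sb E5369 F100824))).symm
theorem E6520 : n28465 = n16030 := ((((iv F72987)).symm.trans (sb E5369 D28465))).symm
theorem E6521 : n28466 = n16463 := (((D16463).symm.trans (sb E5369 D28466))).symm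
theorem E6524 : n28575 = n28434 := (((iv F127106)).symm.trans (sb E5370 (iv F126516)))
theorem E6527 : n17759 = n17661 := ((((iv D22588)).symm.trans (sb E5372 (iv D22719)))).symm
theorem E6529 : n17663 = n10697 := (((F62528).symm.trans (sb E5373 F100847))).symm
theorem E6532 : n10696 = n10644 := ((((iv D13687)).symm.trans (sb E5374 F62523))).symm
theorem E6533 : n17758 = n17045 := ((((iv F76989)).symm.trans (sb E5374 D17758))).symm
theorem E6534 : n10704 = n6612 := (((F39229).symm.trans (sb E5375 F62257))).symm
theorem E6535 : n17662 = n10332 := ((((iv F47857)).symm.trans (sb E5375 D17662))).symm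
theorem E6539 : n17721 = n17638 := (((F100714).symm.trans (sb E5378 F101168))).symm
theorem E6543 : n17756 = n10648 := (((F62270).symm.trans (sb E5379 F101339))).symm
theorem E6545 : n17647 = n10650 := (((F62275).symm.trans (sb E5380 (iv F79390)))).symm
theorem E6551 : n17646 = n6589 := (((F39091).symm.trans (sb E5383 (iv F79385)))).symm
theorem E6552 : n17755 = n10290 := ((((iv F47700)).symm.trans (sb E5383 D17755))).symm
theorem E6554 : n10638 = n6618 := (((F39098).symm.trans (sb E5385 F62206))).symm
theorem E6555 : n17034 = n10649 := (((D10649).symm.trans (sb E5385 (iv F76937)))).symm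
theorem E6556 : n17650 = n10331 := ((((iv D13282)).symm.trans (sb E5386 (iv F79402)))).symm
theorem E6559 : n27613 = n10380 := (((D10380).symm.trans (sb E5388 (iv F123093)))).symm
theorem E6561 : n17649 = n6621 := (((F39123).symm.trans (sb E5389 F100764))).symm
theorem E6562 : n27609 = n10657 := ((((iv F49188)).symm.trans (sb E5389 (iv F123074)))).symm
theorem E6563 : n28450 = n6594 := (((F39125).symm.trans (sb E5389 (iv F126593)))).symm
theorem E6564 : n26438 = n10658 := (((D10658).symm.trans (sb E5389 (iv F118141)))).symm
theorem E6566 : n6589 = n6410 := ((((iv F30557)).symm.trans (sb E5443 (tr F100760 E6551)))).symm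
theorem E6567 : n6594 = n6424 := ((((iv F30615)).symm.trans (sb E5443 (tr D28450 E6563)))).symm
theorem E6568 : n6618 = n6413 := ((((iv F30570)).symm.trans (sb E5448 (tr (iv D13678) E6554)))).symm
theorem E6569 : n17036 = n6439 := (((D6439).symm.trans (sb E5448 (iv F76948)))).symm
theorem E6570 : n6621 = n6430 := ((((iv F30640)).symm.trans (sb E5448 (tr D17649 E6561)))).symm
theorem E6571 : n6620 = n6439 := ((F39119).symm.trans (sb E5393 (tr F97708 E6569)))
theorem E6573 : n6572 = n6092 := ((((iv F29265)).symm.trans (sb E5394 (iv F31233)))).symm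
theorem E6574 : n6434 = n4224 := ((D6434).symm.trans (sb E5394 F25257))
theorem E6575 : n6591 = n4086 := ((((iv D5128)).symm.trans (sb E5394 (iv F31319)))).symm
theorem E6576 : n6435 = n6395 := ((D6435).symm.trans (sb E5394 (iv F30505)))
theorem E6578 : n6438 = n6215 := ((D6438).symm.trans (sb E5395 (iv F29721)))
theorem E6579 : n17936 = n6450 := (((D6450).symm.trans (sb E5568 (iv F80542)))).symm
theorem E6580 : n18201 = n6367 := (E6511).trans E6517
theorem E6581 : n15426 = n6450 := (((iv F70594)).symm.trans (sb E5397 (tr (iv F80539) E6579)))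
theorem E6582 : n10810 = n10063 := (((F59087).symm.trans (sb E5397 (iv D13908)))).symm
theorem E6583 : n17383 = n16652 := (((D16652).symm.trans (sb E5397 (iv F78317)))).symm
theorem E6585 : n28813 = n6449 := ((((iv F30729)).symm.trans (sb E5398 D28813))).symm
theorem E6587 : n15427 = n6449 := (((iv F70599)).symm.trans (sb E5401 (tr (iv F128116) E6585)))
theorem E6588 : n17942 = n10064 := (((F59091).symm.trans (sb E5401 F102170))).symm
theorem E6589 : n28818 = n16234 := ((((iv F73693)).symm.trans (sb E5401 (iv F128142)))).symm
theorem E6590 : n28820 = n16655 := (((D16655).symm.trans (sb E5401 D28820))).symm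
theorem E6592 : n9388 = n6451 := (((D6451).symm.trans (sb E5402 (iv D12004)))).symm
theorem E6594 : n17941 = n6464 := (((D6464).symm.trans (sb E5701 D17941))).symm
theorem E6595 : n10063 = n6461 := ((((iv F30777)).symm.trans (sb E5701 (tr (iv D13909) E6582)))).symm
theorem E6596 : n10064 = n6459 := ((((iv F30770)).symm.trans (sb E5701 (tr D17942 E6588)))).symm
theorem E6597 : n9955 = n6376 := ((((iv F30417)).symm.trans (sb E5701 (tr (iv F79435) E6519)))).symm
theorem E6598 : n9823 = n6464 := (((iv D12602)).symm.trans (sb E5404 (tr F102167 E6594)))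
theorem E6600 : n17942 = n6459 := (E6588).trans E6596
theorem E6601 : n10848 = n6692 := (((F39653).symm.trans (sb E5405 F63133))).symm
theorem E6602 : n17948 = n10515 := ((((iv F48585)).symm.trans (sb E5405 (iv F80588)))).symm
theorem E6606 : n6691 = n6478 := (((D6478).symm.trans (sb E5992 F39650))).symm
theorem E6607 : n10838 = n6479 := (((D6479).symm.trans (sb E5992 D10838))).symm
theorem E6609 : n10644 = n6389 := ((((iv F30479)).symm.trans (sb E5992 (tr (iv F49343) E6532)))).symm
theorem E6610 : n10468 = n6479 := (((iv D13471)).symm.trans (sb E5409 (tr F63251 E6607)))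
theorem E6612 : n6697 = n6481 := (((D6481).symm.trans (sb E5943 F39675))).symm
theorem E6614 : n6695 = n6478 := ((((iv F30843)).symm.trans (sb E5943 (iv D8488)))).symm
theorem E6615 : n6692 = n6475 := ((((iv F30830)).symm.trans (sb E5943 (tr D10848 E6601)))).symm
theorem E6616 : n6612 = n6391 := ((((iv F30488)).symm.trans (sb E5943 (tr (iv F49370) E6534)))).symm
theorem E6618 : n17926 = n6502 := ((((iv D8233)).symm.trans (sb E5411 (iv F80504)))).symm
theorem E6619 : n17388 = n10514 := (((D10514).symm.trans (sb E5411 (iv F78337)))).symm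
theorem E6622 : n15337 = n5697 := ((((iv F27452)).symm.trans (sb E5414 (iv F70223)))).symm
theorem E6623 : n15339 = n5950 := ((((iv F28734)).symm.trans (sb E5414 D15339))).symm
theorem E6626 : n9158 = n6369 := (((D6369).symm.trans (sb E5415 (iv D11694)))).symm
theorem E6635 : n6453 = n5785 := ((D6453).symm.trans (sb E5419 F34730))
theorem E6636 : n9228 = n6454 := (((D6454).symm.trans (sb E5419 (iv F43337)))).symm
theorem E6638 : n6502 = n6483 := ((((iv F30861)).symm.trans (sb E5758 (tr F102102 E6618)))).symm
theorem E6639 : n28106 = n6487 := (((D6487).symm.trans (sb E5758 (iv F125129)))).symm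
theorem E6641 : n17928 = n10821 := (((F63158).symm.trans (sb E5422 (iv F80512)))).symm
theorem E6644 : n10805 = n6700 := (((F39597).symm.trans (sb E5424 F63073))).symm
theorem E6645 : n17373 = n10820 := ((((iv F49826)).symm.trans (sb E5424 (iv F78278)))).symm
theorem E6646 : n17956 = n17422 := ((((iv F78485)).symm.trans (sb E5425 D17956))).symm
theorem E6648 : n17926 = n6483 := (E6618).trans E6638
theorem E6649 : n17646 = n6410 := (E6551).trans E6566
theorem E6651 : n6673 = n6481 := ((((iv F30853)).symm.trans (sb E5610 F39554))).symm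
theorem E6652 : n10462 = n6506 := (((D6506).symm.trans (sb E5610 (iv F48386)))).symm
theorem E6653 : n6700 = n6497 := ((((iv F30916)).symm.trans (sb E5610 (tr D10805 E6644)))).symm
theorem E6654 : n10638 = n6413 := (E6554).trans E6568
theorem E6655 : n6699 = n6506 := ((F39594).symm.trans (sb E5431 (tr F61341 E6652)))
theorem E6656 : n10806 = n10461 := (((iv F49774)).symm.trans (sb E5431 (iv D13460)))
theorem E6657 : n17372 = n10473 := ((((iv F48427)).symm.trans (sb E5431 D17372))).symm
theorem E6659 : n17932 = n10488 := ((((iv F48490)).symm.trans (sb E5432 D17932))).symm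
theorem E6660 : n6532 = n6487 := ((F38780).symm.trans (sb E5434 (tr (iv F125127) E6639)))
theorem E6662 : n28110 = n10536 := ((((iv F48668)).symm.trans (sb E5434 D28110))).symm
theorem E6663 : n10488 = n6510 := ((((iv F30956)).symm.trans (sb E5746 (tr F102119 E6659)))).symm
theorem E6664 : n10536 = n6512 := ((((iv F30965)).symm.trans (sb E5746 (tr (iv F125150) E6662)))).symm
theorem E6666 : n17931 = n6703 := (((F39629).symm.trans (sb E5436 F93764))).symm
theorem E6667 : n25752 = n10829 := ((((iv F49861)).symm.trans (sb E5436 (iv F115634)))).symm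
theorem E6670 : n10805 = n6497 := (E6644).trans E6653
theorem E6671 : n17375 = n6525 := (((D6525).symm.trans (sb E5467 (iv F78286)))).symm
theorem E6672 : n6703 = n6520 := ((((iv F31001)).symm.trans (sb E5467 (tr D17931 E6666)))).symm
theorem E6673 : n6702 = n6525 := ((F39626).symm.trans (sb E5439 (tr F92901 E6671)))
theorem E6678 : n6501 = n4265 := ((D6501).symm.trans (sb E5442 F25520))
theorem F131677 : act 5 n5177 = n4255 := (sb E5442 (iv D5311))
theorem E6681 : n6680 = n6491 := ((((iv F30894)).symm.trans (sb E5442 D6680))).symm
theorem E6682 : n6468 = n6149 := (((iv F30798)).symm.trans (sb E5444 (iv F29452)))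
theorem E6684 : n6485 = n4149 := (((iv F30868)).symm.trans (sb E5444 F25025))
theorem F131678 : act 6 n5167 = n4148 := (sb E5444 (iv D5199))
theorem E6685 : n6518 = n6488 := (((D6488).symm.trans (sb E5444 (iv F30991)))).symm
theorem E6686 : n6505 = n6272 := ((D6505).symm.trans (sb E5445 (iv F29948)))
theorem E6687 : n6524 = n6275 := ((D6524).symm.trans (sb E5447 (iv F29957)))
theorem F131679 : act 7 n5194 = n4268 := (sb E5447 F25580)
theorem E6689 : n6535 = n6274 := (((iv F31056)).symm.trans (sb E5449 (iv F29954)))
theorem E6691 : n6536 = n6511 := ((D6536).symm.trans (sb E5449 (iv F30961)))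
theorem F131680 : act 2 n3030 = n4148 := (sb E5452 (iv D5198))
theorem F131681 : act 7 n3030 = n4151 := (sb E5452 F25023)
theorem F131682 : act 2 n5188 = n4268 := (sb E5455 F25539)
theorem E6701 : n6686 = n6514 := ((((iv F30973)).symm.trans (sb E5455 D6686))).symm
theorem E6702 : n6559 = n5740 := ((((iv F27655)).symm.trans (sb E5456 (iv F31180)))).symm
theorem F131683 : act 6 n4867 = n4198 := (sb E5456 (iv D5234))
theorem F131684 : act 2 n2998 = n4091 := (sb E5457 (iv D5134))
theorem F131685 : act 7 n2998 = n4093 := (sb E5457 F24766)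
theorem E6707 : n6558 = n5741 := ((((iv F27661)).symm.trans (sb E5460 (iv F31174)))).symm
theorem F131686 : act 3 n4868 = n4198 := (sb E5460 (iv D5233))
theorem E6709 : n6378 = n6100 := (((D6100).symm.trans (sb E5460 (iv F30424)))).symm
theorem F131687 : act 5 n5099 = n4092 := (sb E5461 (iv D5136))
theorem E6710 : n6436 = n6394 := (((D6394).symm.trans (sb E5461 (iv F30663)))).symm
theorem F131688 : act 1 n5002 = n4151 := (sb E5462 (iv D5202))
theorem F131689 : act 2 n5002 = n6152 := (sb E5462 (iv F29461))
theorem F131690 : act 1 n4960 = n4093 := (sb E5463 (iv D5137))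
theorem F131691 : act 2 n4960 = n6101 := (sb E5463 (iv F29300))
theorem E6714 : n17931 = n6520 := (E6666).trans E6672
theorem E6715 : n15160 = n6544 := (((D6544).symm.trans (sb E5653 (iv D19356)))).symm
theorem E6716 : n6746 = n6544 := ((F39922).symm.trans (sb E5465 (tr (iv F69382) E6715)))
theorem E6720 : n6543 = n6312 := ((D6543).symm.trans (sb E5469 (iv F30121)))
theorem F131694 : act 7 n5211 = n4299 := (sb E5469 F25747)
theorem F131695 : act 1 n5215 = n6311 := (sb E5470 (iv F30116))
theorem E6723 : n6745 = n6549 := (((D6549).symm.trans (sb E5470 D6745))).symm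
theorem F131698 : act 1 n5033 = n4172 := (sb E5472 (iv D5214))
theorem F131699 : act 2 n5033 = n6162 := (sb E5472 (iv F29497))
theorem F131700 : act 6 n4619 = n4244 := (sb E5475 (iv D5295))
theorem F131701 : act 3 n4620 = n4244 := (sb E5480 (iv D5294))
theorem F131702 : act 1 n4912 = n4118 := (sb E5482 F24848)
theorem F131703 : act 3 n4912 = n4107 := (sb E5482 (iv D5153))
theorem E6735 : n6467 = n6150 := ((((iv F29456)).symm.trans (sb E5482 D6467))).symm
theorem E6740 : n29049 = n24813 := ((((iv F111667)).symm.trans (sb E5487 (iv F129257)))).symm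
theorem E6741 : n18182 = n15312 := ((((iv D19572)).symm.trans (sb E5487 (iv D23156)))).symm
theorem E6742 : n29056 = n5935 := ((((iv F28668)).symm.trans (sb E6187 (iv F129296)))).symm
theorem E6743 : n15312 = n5916 := ((((iv F28572)).symm.trans (sb E6187 (tr (iv D23155) E6741)))).symm
theorem E6745 : n9337 = n6555 := (((D6555).symm.trans (sb E5490 F55302))).symm
theorem E6750 : n18182 = n5916 := (E6741).trans E6743
theorem E6751 : n10989 = n9977 := (((F58671).symm.trans (sb E5493 (iv D14133)))).symm
theorem E6752 : n15311 = n5935 := (((iv F70083)).symm.trans (sb E5494 (tr (iv F129294) E6742)))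
theorem E6754 : n28426 = n16437 := ((((iv F74464)).symm.trans (sb E5494 (iv F126481)))).symm
theorem E6755 : n17631 = n6563 := (((D6563).symm.trans (sb E5510 (iv F79321)))).symm
theorem E6756 : n9977 = n6562 := ((((iv F31195)).symm.trans (sb E5510 (tr (iv D14134) E6751)))).symm
theorem E6759 : n17658 = n6376 := (E6519).trans E6597
theorem E6761 : n9956 = n6565 := (((D6565).symm.trans (sb E5499 (iv F46310)))).symm
theorem E6762 : n6566 = n6232 := ((D6566).symm.trans (sb E5499 F37107))
theorem E6763 : n9326 = n6554 := ((((iv F31156)).symm.trans (sb E5500 (iv F43841)))).symm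
theorem E6765 : n9944 = n6563 := (((D6563).symm.trans (sb E5500 (iv F46265)))).symm
theorem E6767 : n6564 = n6219 := ((D6564).symm.trans (sb E5500 (iv D7847)))
theorem E6769 : n9310 = n6556 := (((D6556).symm.trans (sb E5502 (iv F43765)))).symm
theorem E6770 : n6557 = n5845 := ((D6557).symm.trans (sb E5502 (iv D7366)))
theorem E6772 : n18187 = n17780 := ((((iv D22743)).symm.trans (sb E5503 (iv D23163)))).symm
theorem E6774 : n18176 = n17797 := ((((iv D22765)).symm.trans (sb E5504 (iv D23149)))).symm
theorem E6775 : n17722 = n17632 := (((iv F79691)).symm.trans (sb E5505 (iv F79326)))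
theorem E6776 : n28431 = n17710 := ((((iv F79642)).symm.trans (sb E5506 (iv F126500)))).symm
theorem E6777 : n17633 = n10677 := ((((iv D13732)).symm.trans (sb E5507 F100687))).symm
theorem E6779 : n10982 = n10733 := (((F62662).symm.trans (sb E5508 (iv D14125)))).symm
theorem E6780 : n10678 = n10631 := (((iv F49274)).symm.trans (sb E5509 (iv F49079)))
theorem E6781 : n6786 = n6633 := (((F39313).symm.trans (sb E5509 (iv D8601)))).symm
theorem E6782 : n10684 = n6604 := (((F39187).symm.trans (sb E5511 F62167))).symm
theorem E6783 : n17623 = n6603 := ((((iv D8362)).symm.trans (sb E5511 (iv F79286)))).symm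
theorem E6784 : n6603 = n6582 := ((((iv F31278)).symm.trans (sb E5536 (tr (iv F79285) E6783)))).symm
theorem E6785 : n8374 = n5243 := (E5514).trans E5594
theorem E6786 : n6613 = n6584 := (((D6584).symm.trans (sb E6785 F39232))).symm
theorem E6787 : n10696 = n6389 := (E6532).trans E6609
theorem E6788 : n6617 = n6585 := (((D6585).symm.trans (sb E6785 F39234))).symm
theorem E6789 : n10631 = n6579 := ((((iv F31265)).symm.trans (sb E6785 (tr (iv F49276) E6780)))).symm
theorem E6790 : n6587 = n6585 := ((((iv F31293)).symm.trans (sb E5562 (iv F31303)))).symm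
theorem E6791 : n6633 = n6580 := ((((iv F31270)).symm.trans (sb E5562 (tr (iv F32159) E6781)))).symm
theorem E6793 : n6567 = n6209 := ((D6567).symm.trans (sb E5516 F36992))
theorem E6794 : n6568 = n6208 := ((D6568).symm.trans (sb E5516 (iv D7831)))
theorem E6795 : n10704 = n6391 := (E6534).trans E6616
theorem E6796 : n6615 = n6584 := ((((iv F31289)).symm.trans (sb E5540 (iv D8380)))).symm
theorem E6797 : n6604 = n6581 := ((((iv F31274)).symm.trans (sb E5540 (tr (iv F49297) E6782)))).symm
theorem E6798 : n17623 = n6582 := (E6783).trans E6784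
theorem E6799 : n6610 = n4222 := (((F25242).symm.trans (sb E5519 D6610))).symm
theorem E6800 : n6588 = n4219 := (((iv F31306)).symm.trans (sb E5519 (iv D5261)))
theorem E6801 : n6590 = n4221 := ((D6590).symm.trans (sb E5519 F25310))
theorem E6803 : n6583 = n4229 := ((D6583).symm.trans (sb E5520 F25353))
theorem F131710 : act 6 n4933 = n6098 := (sb E5522 (iv D7683))
theorem F131711 : act 1 n4967 = n4208 := (sb E5524 F25175)
theorem F131712 : act 2 n4967 = n6179 := (sb E5524 (iv F29577))
theorem F131713 : act 6 n4967 = n4197 := (sb E5524 (iv D5232))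
theorem F131714 : act 2 n3006 = n4223 := (sb E5526 F25246)
theorem F131715 : act 7 n3006 = n4208 := (sb E5526 (iv D5247))
theorem E6813 : n17622 = n10634 := (((F62176).symm.trans (sb E5529 (iv F79279)))).symm
theorem E6814 : n17689 = n17637 := (((D17637).symm.trans (sb E5529 (iv F79562)))).symm
theorem E6817 : n10731 = n6780 := ((((iv D8594)).symm.trans (sb E5531 (iv D13802)))).symm
theorem E6818 : n10678 = n6579 := (E6780).trans E6789
theorem E6819 : n10684 = n6581 := (E6782).trans E6797
theorem E6820 : n6786 = n6580 := (E6781).trans E6791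
theorem E6821 : n6783 = n6631 := (((iv F32143)).symm.trans (sb E5533 (iv D8400)))
theorem E6822 : n10627 = n6609 := (((F39060).symm.trans (sb E5534 F62129))).symm
theorem E6823 : n10629 = n10626 := (((iv F49069)).symm.trans (sb E5534 (iv D13659)))
theorem E6824 : n17624 = n10662 := ((((iv F49210)).symm.trans (sb E5535 (iv F79292)))).symm
theorem E6825 : n6609 = n6606 := (((F39183).symm.trans (sb E5535 (tr (iv D13661) E6822)))).symm
theorem E6826 : n10627 = n6606 := (E6822).trans E6825
theorem E6827 : n6631 = n6605 := ((((iv F31377)).symm.trans (sb E5554 (tr (iv D8598) E6821)))).symm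
theorem E6828 : n6783 = n6605 := (E6821).trans E6827
theorem E6829 : n10599 = n6212 := ((((iv F29711)).symm.trans (sb E5861 (iv F48947)))).symm
theorem E6830 : n10640 = n6616 := (((D6616).symm.trans (sb E5861 (iv F49119)))).symm
theorem E6831 : n10626 = n6607 := ((((iv F31387)).symm.trans (sb E5861 (tr (iv F49070) E6823)))).symm
theorem E6832 : n10284 = n6616 := (((iv F47670)).symm.trans (sb E5544 (tr F62220 E6830)))
theorem E6834 : n6614 = n6214 := ((D6614).symm.trans (sb E5545 (iv F29718)))
theorem F131717 : act 4 n5264 = n4223 := (sb E5545 F25331)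
theorem E6837 : n17649 = n6430 := (E6561).trans E6570
theorem E6842 : n6624 = n4316 := ((((iv D5389)).symm.trans (sb E5551 (tr (iv D14233) E6312)))).symm
theorem E6843 : n11082 = n4316 := (E6312).trans E6842
theorem E6844 : n6846 = n6779 := ((((iv F32123)).symm.trans (sb E5552 (iv D8679)))).symm
theorem E6845 : n6779 = n6625 := ((((iv F31456)).symm.trans (sb E5874 (tr D6846 E6844)))).symm
theorem E6846 : n10629 = n6607 := (E6823).trans E6831
theorem E6847 : n10980 = n10625 := ((((iv F49048)).symm.trans (sb E5555 (iv F50537)))).symm
theorem E6848 : n6807 = n6782 := ((((iv D8596)).symm.trans (sb E5557 F40320))).symm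
theorem E6849 : n6782 = n6634 := ((((iv F31501)).symm.trans (sb E5880 (tr (iv F32254) E6848)))).symm
theorem F131718 : act 3 n5244 = n4237 := (sb E5561 F25413)
theorem F131719 : act 6 n4671 = n4192 := (sb E5564 (iv D5226))
theorem E6856 : n6651 = n5888 := ((D6651).symm.trans (sb E5570 F35377))
theorem E6857 : n10810 = n6461 := (E6582).trans E6595
theorem E6859 : n6463 = n6266 := ((D6463).symm.trans (sb E5572 F37297))
theorem E6861 : n10061 = n6244 := (((D6244).symm.trans (sb E5573 (iv F46710)))).symm
theorem F131720 : act 1 n5010 = n4253 := (sb E5575 F25470)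
theorem F131721 : act 2 n5010 = n6245 := (sb E5575 (iv F29857))
theorem F131722 : act 6 n5010 = n4246 := (sb E5575 (iv D5298))
theorem E6869 : n6652 = n5874 := ((D6652).symm.trans (sb E5581 F35313))
theorem E6870 : n6653 = n5873 := ((D6653).symm.trans (sb E5581 (iv D7404)))
theorem F131723 : act 6 n4694 = n4243 := (sb E5582 (iv D5293))
theorem F131724 : act 6 n5306 = n4263 := (sb E5611 (iv D5322))
theorem E6879 : n10814 = n6471 := ((((iv F30813)).symm.trans (sb E5591 D10814))).symm
theorem F131725 : act 7 n5307 = n4264 := (sb E5592 (iv D5324))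
theorem F131726 : act 2 n5307 = n4254 := (sb E5595 (iv D5309))
theorem F131727 : act 3 n5307 = n4263 := (sb E5595 F25512)
theorem F131728 : act 1 n4996 = n4254 := (sb E5597 F25474)
theorem E6883 : n6662 = n6254 := ((((iv F29892)).symm.trans (sb E5597 D6662))).symm
theorem F131729 : act 3 n4996 = n4247 := (sb E5597 (iv D5299))
theorem F131730 : act 1 n4995 = n4255 := (sb E5598 F25477)
theorem F131731 : act 2 n4995 = n6247 := (sb E5598 (iv F29865))
theorem F131732 : act 6 n4995 = n4247 := (sb E5598 (iv D5300))
theorem F131733 : act 4 n5306 = n4262 := (sb E5600 F25552)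
theorem F131734 : act 7 n3028 = n4263 := (sb E5602 F25543)
theorem F131735 : act 3 n3025 = n4255 := (sb E5603 F25516)
theorem F131736 : act 6 n3025 = n4254 := (sb E5603 (iv D5310))
theorem F131737 : act 7 n3027 = n4255 := (sb E5604 (iv D5312))
theorem F131738 : act 2 n3036 = n4262 := (sb E5609 F25506)
theorem F131739 : act 7 n3036 = n4253 := (sb E5609 (iv D5308))
theorem F131740 : act 2 n4264 = n5306 := (sb E5612 (iv D6671))
theorem E6891 : n10461 = n6507 := ((((iv F30948)).symm.trans (sb E5614 (tr D10806 E6656)))).symm
theorem E6893 : n10460 = n6270 := ((((iv F29941)).symm.trans (sb E5616 D10460))).symm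
theorem E6894 : n10446 = n6698 := (((D6698).symm.trans (sb E5616 (iv F48320)))).symm
theorem E6895 : n17932 = n6510 := (E6659).trans E6663
theorem F131741 : act 1 n5001 = n4263 := (sb E5618 (iv D5321))
theorem E6904 : n5457 = n4696 := ((((iv F22923)).symm.trans (sb E5624 (iv F26201)))).symm
theorem F131742 : act 4 n3979 = n3128 := (sb E5624 (iv D4375))
theorem E6906 : n5458 = n4699 := ((((iv F22938)).symm.trans (sb E5626 (iv F26207)))).symm
theorem F131743 : act 6 n3982 = n3128 := (sb E5626 (iv D4376))
theorem F131744 : act 2 n5209 = n4299 := (sb E5641 F25735)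
theorem E6923 : n26915 = n16603 := (((F95068).symm.trans (sb E5654 (iv F119974)))).symm
theorem E6924 : n16579 = n16547 := (((F95069).symm.trans (sb E5654 F95222))).symm
theorem E6927 : n15353 = n10051 := (((iv F70301)).symm.trans (sb E5655 F58956))
theorem E6928 : n16592 = n16111 := ((((iv F73288)).symm.trans (sb E5655 D16592))).symm
theorem E6929 : n16550 = n16336 := ((D16550).symm.trans (sb E5655 (iv F74106)))
theorem E6934 : n15362 = n9926 := (((F58239).symm.trans (sb E5658 (iv F70349)))).symm
theorem E6935 : n16338 = n16120 := ((D16338).symm.trans (sb E5658 (iv F73322)))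
theorem E6936 : n16339 = n16302 := ((D16339).symm.trans (sb E5658 (iv F73965)))
theorem F131757 : act 0 n7545 = n9369 := (sb E5760 F55423)
theorem E6942 : n10051 = n9560 := ((((iv F44885)).symm.trans (sb E5760 (tr (iv F70303) E6927)))).symm
theorem E6943 : n15017 = n9570 := (((D9570).symm.trans (sb E5760 (iv F68713)))).symm
theorem E6944 : n9926 = n9536 := ((((iv F44797)).symm.trans (sb E5760 (tr D15362 E6934)))).symm
theorem E6945 : n10053 = n9570 := (((E6943).symm.trans (((iv F68710)).symm.trans (sb E5664 F58961)))).symm
theorem E6947 : n15362 = n9536 := (E6934).trans E6944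
theorem F131760 : act 7 n7545 = n6260 := (sb E5667 (iv D7902))
theorem F131761 : act 0 n7524 = n9291 := (sb E5668 (iv F43669))
theorem F131762 : act 7 n7524 = n6195 := (sb E5668 (iv D7812))
theorem E6949 : n28326 = n24759 := ((((iv F111410)).symm.trans (sb E5670 (iv F126076)))).symm
theorem E6950 : n17570 = n16460 := (((F94628).symm.trans (sb E5671 (iv D22464)))).symm
theorem E6953 : n28327 = n15281 := ((((iv F69936)).symm.trans (sb E5672 (iv F126078)))).symm
theorem E6954 : n26500 = n16379 := ((((iv F74259)).symm.trans (sb E5672 (iv F118407)))).symm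
theorem E6958 : n26761 = n16974 := ((((iv F76690)).symm.trans (sb E5673 D26761))).symm
theorem E6960 : n26486 = n16328 := (((F93968).symm.trans (sb E5674 (iv F118349)))).symm
theorem E6968 : n26447 = n16331 := ((((iv F74083)).symm.trans (sb E5677 (iv F118183)))).symm
theorem E6980 : n26902 = n9892 := ((((iv F46072)).symm.trans (sb E5682 (iv F119922)))).symm
theorem E6982 : n17768 = n10257 := ((((iv D13174)).symm.trans (sb E5683 F101318))).symm
theorem E6984 : n17561 = n9923 := (((F58217).symm.trans (sb E5684 F95141))).symm
theorem E6985 : n26173 = n16330 := (((D16330).symm.trans (sb E5684 (iv F117116)))).symm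
theorem E6986 : n17566 = n17033 := (((iv F79064)).symm.trans (sb E5685 (iv D21812)))
theorem E6990 : n9892 = n9716 := ((((iv F45443)).symm.trans (sb E5757 (tr (iv F119923) E6980)))).symm
theorem E6992 : n26449 = n9732 := ((((iv F45505)).symm.trans (sb E5757 (iv F118193)))).symm
theorem E6993 : n9923 = n9720 := ((((iv F45460)).symm.trans (sb E5764 (tr F89060 E6984)))).symm
theorem E6994 : n24277 = n9752 := (((D9752).symm.trans (sb E5764 (iv F109183)))).symm
theorem E6995 : n24519 = n9740 := ((((iv F45531)).symm.trans (sb E5764 (iv F110351)))).symm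
theorem E6996 : n9928 = n9752 := ((F58246).symm.trans (sb E5690 (tr (iv F109178) E6994)))
theorem E6998 : n25761 = n16341 := (((D16341).symm.trans (sb E5690 (iv F115674)))).symm
theorem E6999 : n9929 = n9740 := ((F58250).symm.trans (sb E5691 (tr (iv F110346) E6995)))
theorem E7000 : n9898 = n9732 := ((F58253).symm.trans (sb E5691 (tr (iv F118192) E6992)))
theorem E7005 : n9878 = n9149 := ((((iv F42962)).symm.trans (sb E5694 (iv F46008)))).symm
theorem E7006 : n9745 = n6196 := ((D9745).symm.trans (sb E5694 F36845))
theorem E7007 : n9895 = n9217 := ((((iv F43279)).symm.trans (sb E5694 (iv F46086)))).symm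
theorem E7008 : n9746 = n9669 := ((D9746).symm.trans (sb E5694 (iv F45296)))
theorem E7010 : n9751 = n9292 := ((D9751).symm.trans (sb E5696 (iv F43676)))
theorem E7011 : n17886 = n15424 := (((F89397).symm.trans (sb E5697 (iv D22857)))).symm
theorem E7012 : n28009 = n24974 := (((D24974).symm.trans (sb E5697 (iv F124705)))).symm
theorem E7013 : n16604 = n16574 := (((iv F75131)).symm.trans (sb E5698 (iv F75023)))
theorem E7014 : n17303 = n16649 := (((D16649).symm.trans (sb E5698 (iv F78004)))).symm
theorem E7016 : n26914 = n9764 := (((D9764).symm.trans (sb E6016 (iv F119972)))).symm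
theorem E7017 : n26938 = n9765 := (((D9765).symm.trans (sb E6016 (iv F120074)))).symm
theorem E7018 : n15424 = n9762 := ((((iv F45615)).symm.trans (sb E6016 (tr (iv D22858) E7011)))).symm
theorem E7020 : n15281 = n9652 := ((((iv F45232)).symm.trans (sb E6016 (tr (iv F126081) E6953)))).symm
theorem E7021 : n15391 = n9764 := (((iv F70462)).symm.trans (sb E5702 (tr (iv F119970) E7016)))
theorem E7022 : n16616 = n10037 := (((F58986).symm.trans (sb E5702 F95210))).symm
theorem E7023 : n26916 = n16175 := ((((iv F73504)).symm.trans (sb E5702 D26916))).symm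
theorem E7024 : n26917 = n16605 := (((D16605).symm.trans (sb E5702 D26917))).symm
theorem E7025 : n15094 = n9765 := (((iv F69036)).symm.trans (sb E5703 (tr (iv F120071) E7017)))
theorem E7026 : n26901 = n9822 := ((((iv D12600)).symm.trans (sb E5703 F119919))).symm
theorem E7031 : n16582 = n16545 := (((F95059).symm.trans (sb E5705 F95232))).symm
theorem E7037 : n26891 = n10023 := (((F58918).symm.trans (sb E5708 (iv F119866)))).symm
theorem E7039 : n16662 = n10430 := ((((iv D13414)).symm.trans (sb E5709 F95513))).symm
theorem E7041 : n16565 = n10046 := (((F58927).symm.trans (sb E5710 F95078))).symm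
theorem E7042 : n26160 = n16581 := (((D16581).symm.trans (sb E5710 (iv F117050)))).symm
theorem E7045 : n28003 = n16229 := (((D16229).symm.trans (sb E5712 (iv F124683)))).symm
theorem E7046 : n24875 = n14721 := ((((iv F67256)).symm.trans (sb E5712 (iv F112005)))).symm
theorem E7048 : n16723 = n9868 := ((((iv D12651)).symm.trans (sb E5714 (iv D21394)))).symm
theorem E7049 : n26944 = n16266 := ((((iv F73812)).symm.trans (sb E5714 (iv F120100)))).symm
theorem E7050 : n27083 = n16277 := ((((iv F73857)).symm.trans (sb E5714 D27083))).symm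
theorem E7051 : n9868 = n9542 := ((((iv F44820)).symm.trans (sb E5715 (tr D16723 E7048)))).symm
theorem E7057 : n15129 = n9167 := ((((iv F43060)).symm.trans (sb E5718 (iv F69206)))).symm
theorem E7058 : n9846 = n9768 := ((((iv F45633)).symm.trans (sb E5718 F54586))).symm
theorem E7059 : n9769 = n9227 := ((D9769).symm.trans (sb E5718 (iv D11789)))
theorem E7063 : n9863 = n9654 := (((D9654).symm.trans (sb E5719 F54150))).symm
theorem E7065 : n16723 = n9542 := (E7048).trans E7051
theorem E7073 : n9783 = n9223 := (((iv F45684)).symm.trans (sb E5723 F54554))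
theorem E7074 : n15125 = n9549 := ((((iv F44851)).symm.trans (sb E5723 D15125))).symm
theorem E7075 : n9784 = n9222 := ((D9784).symm.trans (sb E5723 (iv D11783)))
theorem E7078 : n9822 = n9781 := ((((iv F45678)).symm.trans (sb E6013 (tr (iv F119917) E7026)))).symm
theorem E7081 : n15139 = n6065 := (((F36240).symm.trans (sb E5725 (iv F69261)))).symm
theorem E7082 : n9667 = n9240 := ((D9667).symm.trans (sb E5725 F54644))
theorem E7083 : n15140 = n9508 := ((((iv F44700)).symm.trans (sb E5725 D15140))).symm
theorem E7086 : n9548 = n9245 := ((D9548).symm.trans (sb E5726 F54673))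
theorem E7090 : n15357 = n10049 := (((iv F70325)).symm.trans (sb E5728 F58936))
theorem E7091 : n16584 = n16115 := ((((iv F73303)).symm.trans (sb E5728 (iv F75056)))).symm
theorem E7092 : n16585 = n16297 := ((((iv F73946)).symm.trans (sb E5728 D16585))).symm
theorem E7093 : n25372 = n17903 := (((D17903).symm.trans (sb E5729 (iv F114159)))).symm
theorem E7100 : n10023 = n9795 := ((((iv F45720)).symm.trans (sb E5903 (tr (iv F119867) E7037)))).symm
theorem E7104 : n17475 = n10432 := (((D10432).symm.trans (sb E5736 (iv F78687)))).symm
theorem E7106 : n10046 = n9799 := ((((iv F45730)).symm.trans (sb E5928 (tr (iv F74988) E7041)))).symm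
theorem E7107 : n17294 = n9828 := (((D9828).symm.trans (sb E5928 (iv F77975)))).symm
theorem E7108 : n10049 = n9815 := ((((iv F45778)).symm.trans (sb E5928 (tr F70328 E7090)))).symm
theorem E7109 : n17561 = n9720 := (E6984).trans E6993
theorem E7110 : n10048 = n9828 := ((F58933).symm.trans (sb E5739 (tr F92931 E7107)))
theorem E7111 : n17293 = n16570 := ((((iv F75006)).symm.trans (sb E5739 (iv F92935)))).symm
theorem E7113 : n10806 = n6507 := (E6656).trans E6891
theorem E7114 : n17370 = n17299 := ((D17370).symm.trans (sb E5740 (iv F77992)))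
theorem E7115 : n17884 = n17336 := ((((iv F78124)).symm.trans (sb E5740 D17884))).symm
theorem E7119 : n14721 = n9804 := ((((iv F45741)).symm.trans (sb E6011 (tr (iv F112004) E7046)))).symm
theorem E7120 : n24275 = n9809 := ((((iv F45757)).symm.trans (sb E6011 (iv F109169)))).symm
theorem E7123 : n24273 = n10547 := ((((iv F48714)).symm.trans (sb E5745 (iv F109159)))).symm
theorem E7125 : n15162 = n10057 := (((iv F69395)).symm.trans (sb E5747 F58974))
theorem E7127 : n17922 = n15892 := (((iv F80486)).symm.trans (sb E5748 (iv D20316)))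
theorem F131805 : act 0 n7747 = n9366 := (sb E5783 F55410)
theorem E7132 : n15357 = n9815 := (E7090).trans E7108
theorem E7133 : n15014 = n9845 := (((D9845).symm.trans (sb E5783 (iv F68699)))).symm
theorem E7134 : n10057 = n9838 := ((((iv F45853)).symm.trans (sb E5783 (tr (iv F69397) E7125)))).symm
theorem E7140 : n9821 = n6258 := ((D9821).symm.trans (sb E5756 F37219))
theorem F131811 : act 5 n7730 = n6247 := (sb E5756 (iv D7884))
theorem E7142 : n10026 = n9010 := ((((iv F42252)).symm.trans (sb E5756 D10026))).symm
theorem F131812 : act 6 n7705 = n6148 := (sb E5759 (iv D7753))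
theorem E7144 : n9853 = n9786 := (((D9786).symm.trans (sb E5759 D9853))).symm
theorem E7145 : n9787 = n9017 := ((D9787).symm.trans (sb E5759 (iv F42283)))
theorem E7146 : n9827 = n9378 := ((D9827).symm.trans (sb E5761 (iv F44088)))
theorem F131813 : act 5 n7734 = n6259 := (sb E5761 F37270)
theorem F131814 : act 7 n7747 = n6263 := (sb E5763 F37286)
theorem E7147 : n9856 = n9383 := (((iv F45911)).symm.trans (sb E5765 (iv F44107)))
theorem E7149 : n9857 = n9808 := ((D9857).symm.trans (sb E5765 (iv F45754)))
theorem F131815 : act 1 n4993 = n6148 := (sb E5768 (iv D7752))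
theorem F131816 : act 7 n4993 = n6152 := (sb E5768 F36676)
theorem F131817 : act 1 n7278 = n6260 := (sb E5769 F37231)
theorem E7154 : n10029 = n9200 := ((((iv F43203)).symm.trans (sb E5769 D10029))).symm
theorem F131818 : act 1 n7119 = n6263 := (sb E5771 F37241)
theorem E7155 : n10034 = n8992 := ((((iv F42163)).symm.trans (sb E5771 D10034))).symm
theorem F131819 : act 6 n7232 = n6172 := (sb E5772 (iv D7779))
theorem F131820 : act 1 n4945 = n6098 := (sb E5773 (iv D7682))
theorem F131821 : act 7 n4945 = n6101 := (sb E5773 F36445)
theorem F131822 : act 1 n7293 = n6195 := (sb E5774 F36840)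
theorem F131823 : act 6 n7293 = n6180 := (sb E5774 (iv D7791))
theorem F131824 : act 0 n7401 = n6152 := (sb E5776 (iv D7757))
theorem F131825 : act 1 n7401 = n9231 := (sb E5776 (iv F43351))
theorem F131826 : act 0 n7336 = n6101 := (sb E5777 (iv D7686))
theorem F131827 : act 1 n7336 = n9160 := (sb E5777 (iv F43020))
theorem F131828 : act 0 n7764 = n9270 := (sb E5974 F54734)
theorem E7160 : n15162 = n9838 := (E7125).trans E7134
theorem E7161 : n9862 = n9254 := ((D9862).symm.trans (sb E5974 (iv D11816)))
theorem F131829 : act 1 n7380 = n6163 := (sb E5784 F36735)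
theorem F131830 : act 6 n7380 = n6162 := (sb E5784 (iv D7769))
theorem F131831 : act 7 n7764 = n6310 := (sb E5785 F37530)
theorem E7165 : n9767 = n6164 := ((D9767).symm.trans (sb E5786 F36740))
theorem F131832 : act 5 n7692 = n6163 := (sb E5786 (iv D7770))
theorem F131833 : act 0 n7765 = n6180 := (sb E5787 F36778)
theorem F131834 : act 3 n7765 = n6172 := (sb E5787 (iv D7778))
theorem E7169 : n18117 = n15310 := (((F88729).symm.trans (sb E5793 (iv D23076)))).symm
theorem E7171 : n17569 = n9871 := (((D9871).symm.trans (sb E5886 (iv F79074)))).symm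
theorem E7172 : n15310 = n9447 := ((((iv F44425)).symm.trans (sb E5886 (tr (iv F81443) E7169)))).symm
theorem E7174 : n28301 = n26719 := ((((iv F119179)).symm.trans (sb E5795 (iv F125990)))).symm
theorem E7176 : n18109 = n16509 := (((F94802).symm.trans (sb E5796 (iv D23070)))).symm
theorem E7178 : n17550 = n16436 := ((((iv F74459)).symm.trans (sb E5797 (iv F79007)))).symm
theorem E7179 : n10946 = n9983 := (((F58663).symm.trans (sb E5797 (iv D14076)))).symm
theorem E7180 : n15282 = n9871 := (((iv F69939)).symm.trans (sb E5798 (tr (iv F79072) E7171)))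
theorem E7181 : n16380 = n16324 := (((iv F74262)).symm.trans (sb E5798 (iv F74058)))
theorem E7182 : n10600 = n9962 := (((F58555).symm.trans (sb E5798 (iv D13623)))).symm
theorem E7184 : n9962 = n9888 := ((((iv F46056)).symm.trans (sb E5882 (tr (iv F48952) E7182)))).symm
theorem E7185 : n9983 = n9883 := ((((iv F46033)).symm.trans (sb E5882 (tr (iv F50390) E7179)))).symm
theorem E7187 : n28327 = n9652 := (E6953).trans E7020
theorem E7190 : n9872 = n9342 := ((D9872).symm.trans (sb E5801 F55292))
theorem E7192 : n15264 = n9869 := (((D9869).symm.trans (sb E5803 (iv F69860)))).symm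
theorem E7194 : n9870 = n9325 := ((D9870).symm.trans (sb E5803 (iv D11917)))
theorem E7195 : n26474 = n16362 := ((((iv F74198)).symm.trans (sb E5804 (iv F118297)))).symm
theorem E7197 : n28291 = n9943 := ((((iv D12760)).symm.trans (sb E5804 (iv F125949)))).symm
theorem E7198 : n9943 = n9885 := ((((iv F46041)).symm.trans (sb E5817 (tr (iv F125948) E7197)))).symm
theorem E7199 : n15280 = n9252 := ((((iv F43476)).symm.trans (sb E5806 (iv F69932)))).symm
theorem E7200 : n15224 = n9873 := (((D9873).symm.trans (sb E5806 (iv F69681)))).symm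
theorem E7201 : n9874 = n9309 := ((D9874).symm.trans (sb E5806 (iv D11896)))
theorem E7202 : n16389 = n9916 := (((F58345).symm.trans (sb E5807 F93961))).symm
theorem E7203 : n26487 = n9915 := ((((iv D12720)).symm.trans (sb E5807 (iv F118357)))).symm
theorem E7204 : n9915 = n9891 := ((((iv F46068)).symm.trans (sb E5824 (tr (iv F118355) E7203)))).symm
theorem E7207 : n9893 = n6211 := ((D9893).symm.trans (sb E5809 F36989))
theorem E7209 : n9886 = n6222 := ((D9886).symm.trans (sb E5810 F37052))
theorem E7214 : n16445 = n10592 := ((((iv D13611)).symm.trans (sb E5812 F94506))).symm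
theorem E7215 : n10946 = n9883 := (E7179).trans E7185
theorem E7216 : n16506 = n10940 := ((((iv F50358)).symm.trans (sb E5813 (iv F74737)))).symm
theorem E7217 : n10943 = n9981 := (((iv F50373)).symm.trans (sb E5813 (iv D12814)))
theorem E7219 : n26463 = n16314 := (((F93880).symm.trans (sb E5815 (iv F118249)))).symm
theorem E7220 : n26465 = n16361 := (((iv F118260)).symm.trans (sb E5815 (iv D20953)))
theorem E7221 : n28292 = n16412 := ((((iv F74368)).symm.trans (sb E5816 (iv F125954)))).symm
theorem E7222 : n17544 = n9947 := (((F58485).symm.trans (sb E5816 (iv D22433)))).symm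
theorem E7223 : n9947 = n9914 := ((((iv F46156)).symm.trans (sb E5850 (tr (iv F78983) E7222)))).symm
theorem E7224 : n9981 = n9910 := ((((iv F46141)).symm.trans (sb E5850 (tr (iv D14073) E7217)))).symm
theorem E7226 : n9916 = n9890 := ((((iv D12683)).symm.trans (sb E5819 (tr F94237 E7202)))).symm
theorem E7227 : n10600 = n9888 := (E7182).trans E7184
theorem E7228 : n16389 = n9890 := (E7202).trans E7226
theorem E7229 : n16471 = n10256 := ((((iv F47551)).symm.trans (sb E5820 (iv F74586)))).symm
theorem E7230 : n10596 = n9960 := (((iv F48938)).symm.trans (sb E5820 (iv D12787)))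
theorem E7231 : n9960 = n9918 := ((((iv F46170)).symm.trans (sb E5853 (tr (iv F48937) E7230)))).symm
theorem E7232 : n10943 = n9910 := (E7217).trans E7224
theorem E7233 : n16318 = n9922 := (((F58213).symm.trans (sb E5822 F93915))).symm
theorem E7234 : n16320 = n16317 := (((iv F74042)).symm.trans (sb E5822 (iv D20889)))
theorem E7235 : n26488 = n15960 := ((((iv F72753)).symm.trans (sb E5823 (iv F118361)))).symm
theorem E7236 : n9922 = n9919 := (((F58343).symm.trans (sb E5823 (tr (iv D20891) E7233)))).symm
theorem E7239 : n10596 = n9918 := (E7230).trans E7231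
theorem E7240 : n17544 = n9914 := (E7222).trans E7223
theorem E7243 : n9889 = n6231 := (((iv F46058)).symm.trans (sb E5828 F37123))
theorem E7244 : n9980 = n9282 := ((((iv F43629)).symm.trans (sb E5829 D9980))).symm
theorem F131844 : act 6 n7308 = n9156 := (sb E5831 (iv D11692))
theorem F131845 : act 0 n7365 = n6179 := (sb E5832 F36773)
theorem F131846 : act 1 n7365 = n9253 := (sb E5832 (iv F43480))
theorem F131847 : act 6 n7365 = n6171 := (sb E5832 (iv D7777))
theorem F131848 : act 1 n4970 = n6194 := (sb E5834 F36829)
theorem F131849 : act 7 n4970 = n6179 := (sb E5834 (iv D7789))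
theorem E7250 : n15114 = n9290 := ((((iv F43665)).symm.trans (sb E5836 D15114))).symm
theorem E7251 : n15076 = n9925 := (((D9925).symm.trans (sb E5836 (iv F68951)))).symm
theorem E7252 : n15115 = n9692 := ((((iv F45363)).symm.trans (sb E5836 D15115))).symm
theorem E7253 : n14972 = n9927 := (((D9927).symm.trans (sb E5836 (iv F68485)))).symm
theorem E7257 : n28386 = n17556 := (((D17556).symm.trans (sb E5839 (iv F126294)))).symm
theorem E7260 : n28698 = n8964 := (((F52835).symm.trans (sb E5841 (iv F127598)))).symm
theorem E7264 : n17732 = n10586 := ((((iv F48900)).symm.trans (sb E5844 (iv F79725)))).symm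
theorem E7265 : n10682 = n10589 := ((((iv F48910)).symm.trans (sb E5844 (iv D13740)))).symm
theorem E7266 : n9454 = n9304 := ((((iv F43733)).symm.trans (sb E5875 (iv F44458)))).symm
theorem E7267 : n10589 = n9946 := ((((iv F46271)).symm.trans (sb E5875 (iv F48909)))).symm
theorem E7268 : n9942 = n8943 := (((iv F46255)).symm.trans (sb E5875 (iv F41884)))
theorem E7270 : n17543 = n16310 := ((((iv F73997)).symm.trans (sb E5846 (iv D22431)))).symm
theorem E7271 : n17602 = n17547 := ((((iv F78997)).symm.trans (sb E5847 (iv F79191)))).symm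
theorem E7272 : n10630 = n10590 := ((((iv D13609)).symm.trans (sb E5847 F62125))).symm
theorem E7273 : n17545 = n10666 := (((F62338).symm.trans (sb E5848 (iv D22434)))).symm
theorem E7275 : n10682 = n9946 := (E7265).trans E7267
theorem E7276 : n10702 = n10253 := ((((iv F47540)).symm.trans (sb E5851 (iv D13766)))).symm
theorem E7277 : n17769 = n10250 := ((((iv F47530)).symm.trans (sb E5851 D17769))).symm
theorem E7278 : n10253 = n9957 := ((((iv F46315)).symm.trans (sb E5866 (tr D10702 E7276)))).symm
theorem E7280 : n10573 = n9312 := ((((iv F43771)).symm.trans (sb E5856 (iv F48839)))).symm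
theorem E7283 : n16966 = n16321 := ((((iv F74047)).symm.trans (sb E5860 (iv F76659)))).symm
theorem E7284 : n13213 = n7836 := (((D7836).symm.trans (iv (sb E5862 (tr F61983 E6829))))).symm
theorem E7285 : n13620 = n7836 := (E5862).trans E7284
theorem E7286 : n17033 = n9722 := ((((iv F45469)).symm.trans (sb E7285 (tr D17566 E6986)))).symm
theorem E7287 : n10598 = n9963 := (((D9963).symm.trans (sb E7285 (iv D13620)))).symm
theorem E7288 : n17567 = n9964 := (((D9964).symm.trans (sb E7285 D17567))).symm
theorem E7290 : n10590 = n9950 := ((((iv F46289)).symm.trans (sb E6164 (tr (iv F49074) E7272)))).symm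
theorem E7293 : n17010 = n9964 := (((iv F76844)).symm.trans (sb E5865 (tr F100321 E7288)))
theorem E7301 : n14597 = n14594 := ((((iv F66588)).symm.trans (sb E5876 (iv F66608)))).symm
theorem E7302 : n14596 = n14567 := (((iv F66601)).symm.trans (sb E5877 (iv F66431)))
theorem E7304 : n10630 = n9950 := (E7272).trans E7290
theorem E7308 : n17886 = n9762 := (E7011).trans E7018
theorem E7311 : n15422 = n9349 := (((D9349).symm.trans (sb E5889 (iv F70582)))).symm
theorem E7313 : n10005 = n9395 := ((D10005).symm.trans (sb E5890 F55594))
theorem F131851 : act 0 n7424 = n6245 := (sb E5891 F37165)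
theorem F131852 : act 1 n7424 = n9350 := (sb E5891 (iv F43972))
theorem F131853 : act 6 n7424 = n6238 := (sb E5891 (iv D7871))
theorem E7316 : n10042 = n10038 := ((F58914).symm.trans (sb E5893 F58988))
theorem E7317 : n12865 = n7879 := (((D7879).symm.trans (iv (sb E5893 (tr F58989 E6861))))).symm
theorem E7318 : n12887 = n7879 := (E5893).trans E7317
theorem E7319 : n16574 = n9776 := ((((iv F45663)).symm.trans (sb E7318 (tr (iv F75132) E7013)))).symm
theorem E7320 : n10044 = n10018 := (((D10018).symm.trans (sb E7318 F58991))).symm
theorem E7321 : n16324 = n9887 := ((((iv F46053)).symm.trans (sb E7318 (tr (iv F74265) E7181)))).symm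
theorem E7322 : n10021 = n10018 := ((((iv F46573)).symm.trans (sb E5919 (iv F46585)))).symm
theorem E7323 : n10429 = n10019 := (((D10019).symm.trans (sb E5919 (iv F48259)))).symm
theorem E7325 : n10071 = n10019 := (((D10019).symm.trans (sb E5896 (iv F46745)))).symm
theorem E7326 : n10020 = n6269 := ((D10020).symm.trans (sb E5896 (iv D7916)))
theorem E7328 : n15390 = n9351 := (((D9351).symm.trans (sb E5897 (iv F70459)))).symm
theorem E7329 : n10007 = n9371 := ((D10007).symm.trans (sb E5898 F55497))
theorem E7330 : n10008 = n9370 := ((D10008).symm.trans (sb E5898 (iv D11978)))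
theorem F131854 : act 0 n7403 = n6247 := (sb E5899 F37173)
theorem F131855 : act 1 n7403 = n9352 := (sb E5899 (iv F43982))
theorem F131856 : act 6 n7403 = n6239 := (sb E5899 (iv D7873))
theorem E7332 : n10037 = n9779 := ((((iv F45673)).symm.trans (sb E5920 (tr (iv F75166) E7022)))).symm
theorem E7333 : n10038 = n10017 := ((((iv F46570)).symm.trans (sb E5920 (tr (iv D12896) E7316)))).symm
theorem E7335 : n10035 = n6257 := (((F37215).symm.trans (sb E5902 D10035))).symm
theorem E7336 : n10022 = n6253 := (((iv F46588)).symm.trans (sb E5902 (iv D7891)))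
theorem E7337 : n10024 = n6256 := ((D10024).symm.trans (sb E5902 F37246))
theorem F131857 : act 1 n4998 = n6259 := (sb E5905 F37222)
theorem F131858 : act 7 n4998 = n6247 := (sb E5905 (iv D7885))
theorem F131859 : act 2 n7298 = n6113 := (sb E5910 (iv D7703))
theorem F131860 : act 2 n7294 = n6180 := (sb E5912 (iv D7790))
theorem F131861 : act 1 n5009 = n6255 := (sb E5916 F37206)
theorem F131862 : act 7 n5009 = n6245 := (sb E5916 (iv D7881))
theorem E7343 : n16616 = n9779 := (E7022).trans E7332
theorem E7344 : n10425 = n10069 := (((iv F48247)).symm.trans (sb E5921 (iv D12930)))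
theorem E7345 : n16663 = n10421 := ((((iv F48234)).symm.trans (sb E5921 D16663))).symm
theorem E7346 : n10069 = n10039 := ((((iv F46648)).symm.trans (sb E5931 (tr (iv F48246) E7344)))).symm
theorem E7347 : n10068 = n9373 := ((((iv F44069)).symm.trans (sb E5923 (iv F46732)))).symm
theorem E7348 : n10042 = n10017 := (E7316).trans E7333
theorem E7349 : n16565 = n9799 := (E7041).trans E7106
theorem E7350 : n12858 = n7896 := ((((iv F37261)).symm.trans (iv (sb E5925 (tr F58897 E7326))))).symm
theorem E7351 : n12861 = n7896 := (E5925).trans E7350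
theorem E7352 : n16568 = n10043 := (((D10043).symm.trans (sb E7351 (iv F74999)))).symm
theorem E7353 : n16317 = n9920 := ((((iv F46179)).symm.trans (sb E7351 (tr (iv F74043) E7234)))).symm
theorem E7354 : n16131 = n10043 := (((iv F73360)).symm.trans (sb E5926 (tr F95172 E7352)))
theorem E7355 : n24870 = n15047 := ((((iv F68834)).symm.trans (sb E5926 (iv F111974)))).symm
theorem E7356 : n24868 = n14708 := ((((iv F67199)).symm.trans (sb E5926 (iv F111966)))).symm
theorem E7357 : n10041 = n9377 := ((D10041).symm.trans (sb E5927 (iv F44084)))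
theorem F131864 : act 3 n7895 = n6259 := (sb E5927 F37265)
theorem E7358 : n14708 = n10047 := ((((iv F46669)).symm.trans (sb E5960 (tr (iv F111963) E7356)))).symm
theorem E7361 : n15047 = n10045 := ((((iv F46665)).symm.trans (sb E5934 (tr (iv F111973) E7355)))).symm
theorem E7362 : n15353 = n9560 := (E6927).trans E6942
theorem E7363 : n15122 = n9193 := ((((iv F43170)).symm.trans (sb E5935 (iv F69170)))).symm
theorem E7364 : n15083 = n9805 := (((D9805).symm.trans (sb E5935 (iv F68987)))).symm
theorem E7365 : n15124 = n9806 := (((D9806).symm.trans (sb E5935 D15124))).symm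
theorem E7366 : n9807 = n9232 := ((D9807).symm.trans (sb E5935 F54552))
theorem E7367 : n15082 = n9380 := (((D9380).symm.trans (sb E5937 (iv F68981)))).symm
theorem F131865 : act 8 n7399 = n9231 := (sb E5937 F54548)
theorem E7368 : n10052 = n9208 := ((D10052).symm.trans (sb E5938 F54413))
theorem F131866 : act 3 n7286 = n6263 := (sb E5939 F37280)
theorem F131867 : act 8 n7286 = n6260 := (sb E5939 (iv D7903))
theorem E7369 : n10055 = n9153 := ((((iv F42985)).symm.trans (sb E5939 D10055))).symm
theorem E7372 : n14731 = n9196 := ((((iv F43182)).symm.trans (sb E5941 (iv F67300)))).symm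
theorem E7376 : n10520 = n10065 := (((D10065).symm.trans (sb E6248 (iv F48601)))).symm
theorem E7377 : n10846 = n10066 := (((D10066).symm.trans (sb E6248 D10846))).symm
theorem E7378 : n10702 = n9957 := (E7276).trans E7278
theorem E7379 : n10848 = n6475 := (E6601).trans E6615
theorem E7380 : n10415 = n10066 := (((iv F48212)).symm.trans (sb E5945 (tr F63291 E7377)))
theorem E7382 : n8421 = n7406 := ((((iv F35319)).symm.trans (sb E5946 (iv F39437)))).symm
theorem F131868 : act 1 n6267 = n5306 := (sb E5946 F31610)
theorem F131869 : act 3 n6267 = n5297 := (sb E5946 (iv D6659))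
theorem E7383 : n10400 = n9390 := ((((iv F44134)).symm.trans (sb E5948 (iv F48148)))).symm
theorem E7384 : n10425 = n10039 := (E7344).trans E7346
theorem E7386 : n12862 = n7915 := ((((iv F37316)).symm.trans (iv (sb E5949 (tr F61136 E6893))))).symm
theorem E7387 : n13406 = n7915 := (E5949).trans E7386
theorem E7388 : n16570 = n9829 := ((((iv F45823)).symm.trans (sb E7387 (tr D17293 E7111)))).symm
theorem E7389 : n17270 = n10072 := (((D10072).symm.trans (sb E7387 (iv F77893)))).symm
theorem E7390 : n16321 = n9961 := ((((iv F46328)).symm.trans (sb E7387 (tr (iv F76661) E7283)))).symm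
theorem E7391 : n10427 = n10073 := (((D10073).symm.trans (sb E5956 (iv F48253)))).symm
theorem E7392 : n10778 = n10074 := (((D10074).symm.trans (sb E5956 D10778))).symm
theorem E7393 : n16571 = n10072 := (((E7389).symm.trans (((iv F77889)).symm.trans (sb E5951 (iv F75008))))).symm
theorem E7394 : n10454 = n10074 := ((F61241).symm.trans (sb E5951 (tr F62969 E7392)))
theorem E7396 : n8422 = n7410 := ((((iv F35335)).symm.trans (sb E5952 (iv F39442)))).symm
theorem F131870 : act 1 n6271 = n5307 := (sb E5952 F31614)
theorem F131871 : act 2 n6271 = n7880 := (sb E5952 (iv F37203))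
theorem F131872 : act 6 n6271 = n5297 := (sb E5952 (iv D6660))
theorem E7397 : n10466 = n9396 := ((((iv F44157)).symm.trans (sb E5954 D10466))).symm
theorem E7399 : n10574 = n9316 := ((((iv F43788)).symm.trans (sb E5955 (iv F48844)))).symm
theorem E7400 : n17298 = n10500 := ((((iv F48533)).symm.trans (sb E5957 D17298))).symm
theorem E7402 : n15013 = n10546 := (((D10546).symm.trans (sb E5962 (iv D19166)))).symm
theorem E7403 : n23966 = n10538 := ((((iv F48675)).symm.trans (sb E5962 (iv F107725)))).symm
theorem E7404 : n14689 = n9385 := ((((iv F44114)).symm.trans (sb E5964 D14689))).symm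
theorem F131873 : act 1 n7103 = n6310 := (sb E5965 F37498)
theorem F131874 : act 6 n1223 = n1103 := (sb E5969 (iv D1574))
theorem F131875 : act 3 n7402 = n9231 := (sb E5973 F53194)
theorem F131876 : act 0 n7965 = n9177 := (sb E5975 F54206)
theorem F131877 : act 2 n7965 = n9166 := (sb E5975 (iv D11704))
theorem E7409 : n14695 = n10128 := (((D10128).symm.trans (sb E5975 (iv F67143)))).symm
theorem E7410 : n10546 = n10078 := ((((iv F46770)).symm.trans (sb E5975 (tr D15013 E7402)))).symm
theorem E7411 : n14852 = n10129 := (((D10129).symm.trans (sb E5975 (iv F67929)))).symm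
theorem F131878 : act 0 n7966 = n9269 := (sb E5976 F54728)
theorem F131879 : act 2 n7966 = n9254 := (sb E5976 (iv D11815))
theorem E7412 : n10568 = n10128 := (((D10128).symm.trans (sb E5977 D10568))).symm
theorem E7413 : n10563 = n10129 := (((D10129).symm.trans (sb E5977 (iv F48791)))).symm
theorem F131880 : act 3 n7449 = n9160 := (sb E5981 F53052)
theorem F131881 : act 3 n7235 = n6310 := (sb E5982 F37521)
theorem E7415 : n17938 = n15429 := (((F89420).symm.trans (sb E5983 F102152))).symm
theorem E7416 : n28117 = n24980 := ((((iv F112482)).symm.trans (sb E5983 (iv F125183)))).symm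
theorem E7418 : n12924 = n8167 := ((((iv F38393)).symm.trans (iv (sb E5984 (tr F63116 E6879))))).symm
theorem E7427 : n10849 = n10842 := ((F63138).symm.trans (sb E5987 F63269))
theorem E7432 : n8483 = n8188 := (((D8188).symm.trans (iv (sb E5990 (tr (iv F49805) E6879))))).symm
theorem E7433 : n8489 = n8188 := (E5990).trans E7432
theorem E7434 : n10523 = n10447 := (((D10447).symm.trans (sb E7433 (iv F48611)))).symm
theorem E7435 : n10842 = n10443 := ((((iv F48305)).symm.trans (sb E7433 (tr D10849 E7427)))).symm
theorem E7437 : n17983 = n17360 := ((((iv F78225)).symm.trans (sb E5991 D17983))).symm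
theorem E7439 : n28806 = n10459 := ((((iv F48374)).symm.trans (sb E5994 D28806))).symm
theorem E7450 : n28086 = n27020 := (((iv F125027)).symm.trans (sb E6000 (iv F120373)))
theorem E7456 : n24925 = n24918 := (((iv F112247)).symm.trans (sb E6001 F112214))
theorem E7459 : n16617 = n16609 := ((F95214).symm.trans (sb E6002 F95350))
theorem E7460 : n26950 = n26214 := ((((iv F117274)).symm.trans (sb E6002 (iv F120123)))).symm
theorem E7461 : n16604 = n9776 := (E7013).trans E7319
theorem E7462 : n26951 = n26918 := (((D26918).symm.trans (sb E6002 D26951))).symm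
theorem E7463 : n27988 = n27013 := (((D27013).symm.trans (sb E6003 (iv F124631)))).symm
theorem E7482 : n24922 = n24920 := ((((iv F112219)).symm.trans (sb E6014 (iv F112231)))).symm
theorem E7483 : n16615 = n16606 := ((F95207).symm.trans (sb E6014 F95344))
theorem E7484 : n26949 = n26212 := ((((iv F117266)).symm.trans (sb E6014 D26949))).symm
theorem E7485 : n26613 = n26499 := ((((iv F118404)).symm.trans (sb E6014 (iv F118814)))).symm
theorem E7486 : n24923 = n24919 := ((((iv F112217)).symm.trans (sb E6015 (iv F112238)))).symm
theorem E7487 : n27925 = n24969 := (((D24969).symm.trans (sb E6015 (iv F124367)))).symm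
theorem E7489 : n26976 = n24354 := ((((iv F109530)).symm.trans (sb E6017 (iv F120207)))).symm
theorem E7490 : n16632 = n15093 := ((((iv D19281)).symm.trans (sb E6017 (iv D21294)))).symm
theorem E7491 : n26313 = n24427 := (((D24427).symm.trans (sb E6017 (iv F117616)))).symm
theorem E7493 : n26989 = n24165 := ((((iv F108591)).symm.trans (sb E6017 D26989))).symm
theorem E7495 : n24867 = n16619 := (((iv F111954)).symm.trans (sb E6018 F95388))
theorem E7499 : n24945 = n24353 := ((((iv F109526)).symm.trans (sb E6019 (iv F112322)))).symm
theorem E7500 : n24425 = n24385 := ((D24425).symm.trans (sb E6019 (iv F109656)))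
theorem E7501 : n15714 = n15412 := ((F87373).symm.trans (sb E6019 (iv D19698)))
theorem E7506 : n16624 = n15350 := ((((iv F70288)).symm.trans (sb E6021 F95242))).symm
theorem E7508 : n26926 = n16290 := ((((iv F73914)).symm.trans (sb E6021 D26926))).symm
theorem E7511 : n26382 = n17247 := (((D17247).symm.trans (sb E6022 (iv F117895)))).symm
theorem E7514 : n15406 = n15374 := (((iv F70520)).symm.trans (sb E6023 F88999))
theorem E7515 : n24869 = n16190 := ((((iv F73544)).symm.trans (sb E6023 D24869))).symm
theorem E7516 : n24507 = n16626 := (((D16626).symm.trans (sb E6023 (iv F110282)))).symm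
theorem E7523 : n24323 = n23722 := (((D23722).symm.trans (sb E6026 (iv F109390)))).symm
theorem E7524 : n24584 = n23645 := ((((iv F106097)).symm.trans (sb E6026 (iv F110652)))).symm
theorem E7536 : n15350 = n15053 := ((((iv F68860)).symm.trans (sb E6203 (tr (iv F75188) E7506)))).symm
theorem E7537 : n16634 = n14945 := ((((iv F68348)).symm.trans (sb E6203 D16634))).symm
theorem E7538 : n15093 = n15010 := ((((iv F68678)).symm.trans (sb E6034 (tr F95297 E7490)))).symm
theorem E7541 : n15158 = n14945 := (((iv F69372)).symm.trans (sb E6035 (tr F95307 E7537)))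
theorem E7543 : n28118 = n10406 := (((D10406).symm.trans (sb E6036 (iv F125187)))).symm
theorem E7551 : n15415 = n15190 := (((iv F70554)).symm.trans (sb E6040 F87752))
theorem E7552 : n24509 = n16199 := ((((iv F73568)).symm.trans (sb E6040 D24509))).symm
theorem E7553 : n24510 = n16403 := ((((iv F74334)).symm.trans (sb E6040 D24510))).symm
theorem E7558 : n17566 = n9722 := (E6986).trans E7286
theorem E7559 : n27604 = n27401 := ((D27604).symm.trans (sb E6043 (iv F122238)))
theorem E7561 : n15374 = n15059 := ((((iv F68888)).symm.trans (sb E6215 (tr (iv F70521) E7514)))).symm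
theorem E7562 : n15102 = n15070 := ((D15102).symm.trans (sb E6215 (iv F68926)))
theorem E7563 : n15190 = n14951 := ((((iv F68377)).symm.trans (sb E6215 (tr D15415 E7551)))).symm
theorem E7564 : n15376 = n15070 := ((((iv F68923)).symm.trans (sb E6045 F89009))).symm
theorem E7567 : n17293 = n9829 := (E7111).trans E7388
theorem E7568 : n26236 = n26150 := (((iv F117368)).symm.trans (sb E6046 (iv F117006)))
theorem E7569 : n26883 = n25403 := ((((iv F114292)).symm.trans (sb E6046 D26883))).symm
theorem E7570 : n17382 = n17242 := ((((iv D22078)).symm.trans (sb E6048 F99448))).symm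
theorem E7571 : n28060 = n27923 := (((D27923).symm.trans (sb E6048 (iv F124920)))).symm
theorem E7579 : n16639 = n16264 := ((((iv F73804)).symm.trans (sb E6052 (iv F75236)))).symm
theorem E7585 : n16265 = n16202 := ((D16265).symm.trans (sb E6055 (iv F73579)))
theorem E7588 : n12911 = n11706 := (E6057).trans E6096
theorem E7589 : n16632 = n15010 := (E7490).trans E7538
theorem E7590 : n16200 = n15016 := (((D15016).symm.trans (sb E7588 (iv F73572)))).symm
theorem E7591 : n16638 = n14854 := ((((iv F67938)).symm.trans (sb E7588 D16638))).symm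
theorem E7592 : n15130 = n15016 := ((F87588).symm.trans (sb E6058 (tr (iv D20745) E7590)))
theorem E7594 : n14986 = n14854 := (((iv D19133)).symm.trans (sb E6059 (tr F95477 E7591)))
theorem E7597 : n15496 = n14841 := (((F84327).symm.trans (sb E6061 (iv D19789)))).symm
theorem E7598 : n25000 = n23559 := ((((iv F105665)).symm.trans (sb E6061 (iv F112572)))).symm
theorem E7599 : n25056 = n14637 := ((((iv D18648)).symm.trans (sb E6061 D25056))).symm
theorem E7600 : n13578 = n11482 := (E6062).trans E6066
theorem E7601 : n14841 = n14581 := ((((iv F66515)).symm.trans (sb E7600 (iv F67865)))).symm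
theorem E7602 : n17493 = n14703 := (((D14703).symm.trans (sb E7600 (iv F78764)))).symm
theorem E7603 : n14840 = n14650 := ((((iv F66911)).symm.trans (sb E7600 F67862))).symm
theorem E7604 : n15444 = n14703 := ((F89367).symm.trans (sb E6063 (tr F93617 E7602)))
theorem E7605 : n26339 = n24951 := ((((iv F112350)).symm.trans (sb E6063 (iv F117721)))).symm
theorem E7607 : n24961 = n23933 := ((D24961).symm.trans (sb E6063 F107529))
theorem E7611 : n15496 = n14581 := (E7597).trans E7601
theorem E7612 : n15013 = n10078 := (E7402).trans E7410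
theorem F131917 : act 5 n11720 = n10545 := (sb E6067 (iv D13564))
theorem E7613 : n17494 = n15036 := (((D15036).symm.trans (sb E6067 D17494))).symm
theorem E7614 : n17490 = n14874 := ((((iv F68028)).symm.trans (sb E6067 (iv F78752)))).symm
theorem E7616 : n15418 = n9178 := (((F54277).symm.trans (sb E6069 (iv F70567)))).symm
theorem E7617 : n10545 = n9401 := ((F131917).symm.trans (sb E6069 (iv D12020)))
theorem E7620 : n15128 = n9179 := (((F54281).symm.trans (sb E6245 (iv F69204)))).symm
theorem E7621 : n16214 = n15037 := (((D15037).symm.trans (sb E6245 (iv F73623)))).symm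
theorem E7622 : n16263 = n15038 := (((D15038).symm.trans (sb E6245 D16263))).symm
theorem E7623 : n16253 = n14875 := ((((iv F68032)).symm.trans (sb E6245 (iv F73761)))).symm
theorem E7624 : n15074 = n15038 := (((iv D19255)).symm.trans (sb E6071 (tr F93622 E7622)))
theorem E7626 : n15419 = n14875 := ((F89372).symm.trans (sb E6072 (tr (iv D20812) E7623)))
theorem E7627 : n24962 = n23931 := ((D24962).symm.trans (sb E6072 F107519))
theorem E7628 : n15495 = n9095 := ((((iv D11605)).symm.trans (sb E6073 (iv F70961)))).symm
theorem E7630 : n18924 = n11514 := ((((iv F53261)).symm.trans (iv (sb E6074 (tr (iv D19788) E7628))))).symm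
theorem E7632 : n15134 = n15072 := (((F87244).symm.trans (sb E6075 F87579))).symm
theorem E7633 : n19253 = n11723 := (((D11723).symm.trans (iv (sb E6075 (tr (iv D19322) E7620))))).symm
theorem E7634 : n19322 = n11723 := (E6075).trans E7633
theorem E7635 : n15726 = n15041 := (((D15041).symm.trans (sb E7634 F87580))).symm
theorem E7636 : n24230 = n14877 := ((((iv F68040)).symm.trans (sb E7634 (iv F108924)))).symm
theorem E7637 : n15412 = n15034 := ((((iv F68781)).symm.trans (sb E6244 (tr (iv F71845) E7501)))).symm
theorem E7638 : n15671 = n15042 := (((D15042).symm.trans (sb E6244 (iv F71692)))).symm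
theorem E7639 : n24390 = n14877 := (((E7636).symm.trans ((D24230).symm.trans (sb E6077 (iv F109683))))).symm
theorem E7640 : n24681 = n24199 := ((((iv F108763)).symm.trans (sb E6077 (iv F111058)))).symm
theorem E7641 : n15410 = n15037 := (((E7621).symm.trans ((F87310).symm.trans (sb E6079 F89155)))).symm
theorem E7644 : n24407 = n24317 := ((D24407).symm.trans (sb E6079 (iv F109358)))
theorem E7646 : n19208 = n11743 := (((D11743).symm.trans (iv (sb E6080 (tr (iv D19316) E7363))))).symm
theorem E7647 : n19316 = n11743 := (E6080).trans E7646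
theorem E7648 : n24457 = n14911 := ((((iv F68186)).symm.trans (sb E7647 (iv F110002)))).symm
theorem F131922 : act 1 n11744 = n9383 := (sb E6109 F55482)
theorem E7649 : n15072 = n15040 := (((iv F68936)).symm.trans (sb E6109 (iv F68804)))
theorem E7650 : n15197 = n15073 := (((D15073).symm.trans (sb E6109 (iv F69561)))).symm
theorem E7653 : n15134 = n15040 := (E7632).trans E7649
theorem E7655 : n15071 = n15041 := (((E7635).symm.trans ((F84945).symm.trans (sb E6084 F87039)))).symm
theorem E7657 : n15241 = n15042 := (((E7638).symm.trans ((F84693).symm.trans (sb E6085 F88014)))).symm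
theorem E7658 : n15073 = n14993 := (((F84695).symm.trans (sb E6085 (tr F88015 E7650)))).symm
theorem E7668 : n15092 = n9363 := ((D15092).symm.trans (sb E6094 F55390))
theorem F131926 : act 5 n11758 = n9352 := (sb E6094 (iv D11951))
theorem F131927 : act 6 n11706 = n9226 := (sb E6096 (iv D11788))
theorem E7672 : n14985 = n9271 := ((D14985).symm.trans (sb E6099 F54740))
theorem E7674 : n15415 = n14951 := (E7551).trans E7563
theorem E7676 : n15197 = n14993 := (E7650).trans E7658
theorem F131932 : act 5 n11764 = n9364 := (sb E6106 F55460)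
theorem F131933 : act 6 n11744 = n9231 := (sb E6107 (iv D11793))
theorem F131935 : act 0 n7390 = n9226 := (sb E6111 (iv D11787))
theorem F131936 : act 7 n7390 = n9231 := (sb E6111 F54578)
theorem F131937 : act 0 n7320 = n9156 := (sb E6112 (iv D11691))
theorem F131938 : act 7 n7320 = n9160 := (sb E6112 F54138)
theorem E7685 : n26424 = n24645 := ((((iv F110909)).symm.trans (sb E6117 (iv F118076)))).symm
theorem E7686 : n17515 = n15291 := (((F88552).symm.trans (sb E6117 (iv D22390)))).symm
theorem E7687 : n28221 = n24724 := ((((iv F111259)).symm.trans (sb E6117 (iv F125650)))).symm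
theorem E7688 : n15279 = n9267 := (((F54717).symm.trans (sb E6118 D15279))).symm
theorem E7689 : n15223 = n15157 := ((((iv F69368)).symm.trans (sb E6118 (iv F69675)))).symm
theorem E7690 : n15159 = n9313 := ((D15159).symm.trans (sb E6118 F55105))
theorem E7692 : n10925 = n9265 := (((F54707).symm.trans (sb E6196 (iv D14046)))).symm
theorem E7693 : n15291 = n15154 := ((((iv F69353)).symm.trans (sb E6196 (tr (iv F78867) E7686)))).symm
theorem E7694 : n18066 = n15149 := ((((iv F69325)).symm.trans (sb E6196 (iv F81177)))).symm
theorem E7695 : n15319 = n15149 := ((F88719).symm.trans (sb E6121 (tr (iv D23018) E7694)))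
theorem E7697 : n15152 = n9329 := ((D15152).symm.trans (sb E6122 F55204))
theorem E7698 : n24947 = n24068 := ((((iv F108157)).symm.trans (sb E6124 (iv F112333)))).symm
theorem E7699 : n24677 = n24131 := ((((iv F108450)).symm.trans (sb E6124 (iv F111040)))).symm
theorem E7700 : n24948 = n15189 := ((((iv F69526)).symm.trans (sb E6144 (iv F112338)))).symm
theorem E7701 : n17509 = n15185 := ((((iv F69512)).symm.trans (sb E6144 F89356))).symm
theorem E7703 : n17515 = n15154 := (E7686).trans E7693
theorem E7704 : n24657 = n16288 := ((((iv F73904)).symm.trans (sb E6126 (iv F110958)))).symm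
theorem E7705 : n24772 = n16933 := ((((iv F76540)).symm.trans (sb E6126 (iv F111466)))).symm
theorem E7708 : n15229 = n15189 := ((((iv F69526)).symm.trans (sb E6127 (iv F69701)))).symm
theorem E7709 : n15269 = n15181 := ((((iv F69495)).symm.trans (sb E6127 (iv F69884)))).symm
theorem E7710 : n15514 = n15177 := ((((iv F69477)).symm.trans (sb E6128 (iv F71064)))).symm
theorem E7711 : n15317 = n15177 := ((((iv F69476)).symm.trans (sb E6130 D15317))).symm
theorem E7712 : n15155 = n9341 := (((iv F69355)).symm.trans (sb E6131 F55321))
theorem E7714 : n25065 = n16367 := ((((iv F74214)).symm.trans (sb E6133 (iv F112957)))).symm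
theorem E7715 : n25077 = n16418 := ((((iv F74390)).symm.trans (sb E6133 D25077))).symm
theorem E7716 : n16443 = n15508 := ((D16443).symm.trans (sb E6133 (iv D19805)))
theorem E7718 : n26733 = n15562 := ((((iv F71280)).symm.trans (sb E6134 (iv F119224)))).symm
theorem E7720 : n12084 = n11852 := ((((iv F54906)).symm.trans (iv (sb E6135 (tr (iv D12812) E7244))))).symm
theorem E7723 : n26627 = n15887 := ((((iv F72513)).symm.trans (sb E6137 (iv F118855)))).symm
theorem E7724 : n16387 = n16284 := ((((iv F73889)).symm.trans (sb E6137 (iv D20989)))).symm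
theorem E7725 : n16929 = n16469 := (((iv F76521)).symm.trans (sb E6138 (iv D21102)))
theorem E7727 : n12785 = n11860 := ((((iv F54942)).symm.trans (iv (sb E6139 (tr (iv D13583) E7280))))).symm
theorem E7728 : n13583 = n11860 := (E6139).trans E7727
theorem E7729 : n16284 = n15226 := ((((iv F69688)).symm.trans (sb E7728 (iv F73887)))).symm
theorem E7730 : n16469 = n15227 := ((((iv F69695)).symm.trans (sb E7728 (tr (iv F76520) E7725)))).symm
theorem E7732 : n15508 = n15216 := ((((iv F69646)).symm.trans (sb E7728 (iv F71033)))).symm
theorem E7736 : n16320 = n9920 := (E7234).trans E7353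
theorem E7737 : n26419 = n25792 := (((iv F118057)).symm.trans (sb E6141 (iv F115774)))
theorem E7738 : n16323 = n16285 := ((((iv D20841)).symm.trans (sb E6141 F93913))).symm
theorem E7740 : n24901 = n15966 := ((((iv F72773)).symm.trans (sb E6142 (iv F112134)))).symm
theorem E7741 : n16387 = n15226 := (E7724).trans E7729
theorem E7743 : n24587 = n16016 := ((((iv F72945)).symm.trans (sb E6143 (iv F110663)))).symm
theorem E7750 : n16443 = n15216 := (E7716).trans E7732
theorem E7755 : n25068 = n23527 := (((iv F112974)).symm.trans (sb E6151 (iv F105487)))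
theorem E7757 : n23446 = n15512 := (((F89895).symm.trans (sb E6152 (iv F105036)))).symm
theorem E7759 : n17608 = n15510 := ((((iv D19808)).symm.trans (sb E6152 F100502))).symm
theorem E7760 : n27524 = n25082 := (((D25082).symm.trans (sb E6152 (iv F122694)))).symm
theorem E7761 : n17697 = n15568 := ((D17697).symm.trans (sb E6154 F89884))
theorem E7765 : n16929 = n15227 := (E7725).trans E7730
theorem E7770 : n16966 = n9961 := (E7283).trans E7390
theorem E7773 : n13219 = n11905 := ((((iv F55149)).symm.trans (iv (sb E6162 (tr (iv D13585) E7399))))).symm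
theorem E7774 : n13585 = n11905 := (E6162).trans E7773
theorem E7775 : n16931 = n15294 := (((D15294).symm.trans (sb E7774 (iv F76531)))).symm
theorem E7776 : n17514 = n15295 := (((D15295).symm.trans (sb E7774 D17514))).symm
theorem E7777 : n17022 = n15295 := ((F97576).symm.trans (sb E6163 (tr F100049 E7776)))
theorem F131946 : act 0 n7369 = n9268 := (sb E6168 F54722)
theorem F131947 : act 7 n7369 = n9253 := (sb E6168 (iv D11814))
theorem F131948 : act 2 n11837 = n10537 := (sb E6169 F57943)
theorem E7782 : n16204 = n15194 := (((D15194).symm.trans (sb E6169 (iv F73585)))).symm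
theorem E7783 : n16063 = n15196 := (((D15196).symm.trans (sb E6169 (iv F73109)))).symm
theorem E7784 : n10537 = n9402 := ((F131948).symm.trans (sb E6170 F55577))
theorem E7785 : n15411 = n15194 := (((D15194).symm.trans (sb E6170 (iv F70538)))).symm
theorem F131949 : act 7 n11837 = n9385 := (sb E6170 F55579)
theorem E7786 : n15245 = n15196 := (((D15196).symm.trans (sb E6170 (iv F69769)))).symm
theorem E7787 : n15664 = n15242 := ((F86565).symm.trans (sb E6171 (iv D19476)))
theorem E7789 : n15653 = n15378 := ((F87264).symm.trans (sb E6172 F89163))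
theorem E7791 : n15378 = n15239 := ((((iv F69741)).symm.trans (sb E6176 (tr (iv F71620) E7789)))).symm
theorem E7792 : n15242 = n15199 := ((E7787).symm.trans ((F86613).symm.trans (sb E6174 F88032)))
theorem F131950 : act 1 n11868 = n9385 := (sb E6175 F55489)
theorem F131951 : act 9 n11868 = n9369 := (sb E6175 (iv D11976))
theorem E7794 : n15664 = n15199 := (E7787).trans E7792
theorem E7802 : n15521 = n15501 := (((F87687).symm.trans (sb E6189 F89920))).symm
theorem E7803 : n15507 = n14638 := (((iv F71025)).symm.trans (sb E6190 F84017))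
theorem E7807 : n24882 = n24865 := (((iv F112042)).symm.trans (sb E6197 (iv F111942)))
theorem E7808 : n16541 = n15401 := (((F89225).symm.trans (sb E6197 (iv D21189)))).symm
theorem E7810 : n15401 = n15345 := ((((iv F70265)).symm.trans (sb E6207 (tr (iv F74888) E7808)))).symm
theorem E7811 : n17244 = n15346 := (((D15346).symm.trans (sb E6207 (iv F77787)))).symm
theorem E7812 : n15435 = n15346 := (((D15346).symm.trans (sb E6200 (iv F70637)))).symm
theorem E7813 : n15347 = n9393 := ((D15347).symm.trans (sb E6200 (iv D12012)))
theorem E7815 : n16624 = n15053 := (E7506).trans E7536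
theorem E7816 : n15389 = n9362 := (((F55385).symm.trans (sb E6202 D15389))).symm
theorem E7817 : n15363 = n15349 := ((((iv F70283)).symm.trans (sb E6202 (iv F70352)))).symm
theorem E7818 : n15351 = n9374 := ((D15351).symm.trans (sb E6202 F55494))
theorem F131953 : act 0 n7407 = n9364 := (sb E6205 F55394)
theorem F131954 : act 7 n7407 = n9352 := (sb E6205 (iv D11952))
theorem E7819 : n16541 = n15345 := (E7808).trans E7810
theorem E7820 : n24893 = n15348 := ((((iv F70278)).symm.trans (sb E6206 (iv F112092)))).symm
theorem E7821 : n24934 = n16106 := ((((iv F73272)).symm.trans (sb E6206 (iv F112282)))).symm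
theorem E7822 : n16535 = n15399 := (((iv F74865)).symm.trans (sb E6206 (iv D19680)))
theorem E7823 : n17238 = n15433 := (((iv F77763)).symm.trans (sb E6208 (iv D19725)))
theorem E7824 : n24989 = n17232 := ((((iv F77737)).symm.trans (sb E6208 D24989))).symm
theorem E7825 : n15399 = n15366 := ((((iv F70364)).symm.trans (sb E6218 (tr (iv F74863) E7822)))).symm
theorem E7826 : n15433 = n15367 := ((((iv F70371)).symm.trans (sb E6218 (tr (iv F77762) E7823)))).symm
theorem E7828 : n24858 = n24855 := (((iv F111906)).symm.trans (sb E6211 F111888))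
theorem E7829 : n24940 = n24296 := ((((iv F109267)).symm.trans (sb E6213 (iv F112301)))).symm
theorem E7830 : n16163 = n15408 := ((F87135).symm.trans (sb E6213 F89307))
theorem E7831 : n15406 = n15059 := (E7514).trans E7561
theorem E7832 : n15697 = n15405 := ((F87138).symm.trans (sb E6213 (iv D19690)))
theorem E7833 : n16535 = n15366 := (E7822).trans E7825
theorem E7834 : n15405 = n15375 := ((((iv F70398)).symm.trans (sb E6243 (tr (iv F71791) E7832)))).symm
theorem E7835 : n15714 = n15034 := (E7501).trans E7637
theorem E7836 : n15653 = n15239 := (E7789).trans E7791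
theorem E7837 : n15372 = n15369 := (((iv F70387)).symm.trans (sb E6217 (iv F70376)))
theorem F131955 : act 0 n7423 = n9360 := (sb E6219 F55374)
theorem F131956 : act 7 n7423 = n9350 := (sb E6219 (iv D11948))
theorem E7838 : n26959 = n15673 := ((((iv F71700)).symm.trans (sb E6220 (iv F120151)))).symm
theorem E7840 : n26961 = n16098 := ((((iv F73245)).symm.trans (sb E6220 D26961))).symm
theorem E7841 : n12839 = n11980 := ((((iv F55504)).symm.trans (iv (sb E6221 (tr F59010 E7347))))).symm
theorem E7844 : n17238 = n15367 := (E7823).trans E7826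
theorem E7845 : n12928 = n11981 := ((((iv F55509)).symm.trans (iv (sb E6222 (tr (iv D13370) E7383))))).symm
theorem E7846 : n13370 = n11981 := (E6222).trans E7845
theorem E7847 : n17239 = n15396 := (((D15396).symm.trans (sb E7846 D17239))).symm
theorem E7852 : n26147 = n24860 := ((((iv F111917)).symm.trans (sb E6225 (iv F116992)))).symm
theorem E7855 : n24895 = n23680 := ((((iv F106285)).symm.trans (sb E6226 (iv F112105)))).symm
theorem E7856 : n12840 = n11986 := ((((iv F55528)).symm.trans (iv (sb E6227 (tr F58909 E7357))))).symm
theorem E7857 : n12864 = n11986 := (E6227).trans E7856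
theorem E7859 : n16285 = n15232 := ((((iv F69716)).symm.trans (sb E7857 (tr (iv F74055) E7738)))).symm
theorem E7860 : n15697 = n15375 := (E7832).trans E7834
theorem E7863 : n15408 = n15373 := ((E7830).symm.trans (((iv F73469)).symm.trans (sb E6229 (iv D19649))))
theorem E7864 : n16163 = n15373 := (E7830).trans E7863
theorem F131959 : act 2 n11971 = n10499 := (sb E6232 F57832)
theorem F131960 : act 2 n7451 = n9270 := (sb E6237 (iv F131585))
theorem F131961 : act 6 n7451 = n9269 := (sb E6237 (iv F131584))
theorem F131962 : act 2 n11721 = n9401 := (sb E6238 F55574)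
theorem F131963 : act 8 n11721 = n9383 := (sb E6238 (iv D11998))
theorem F131964 : act 2 n7414 = n9366 := (sb E6239 (iv F131598))
theorem E7867 : n10499 = n9399 := ((((iv F44172)).symm.trans (sb E6239 (iv F48528)))).symm
theorem F131965 : act 7 n11971 = n9379 := (sb E6240 F55548)
theorem F131966 : act 8 n11971 = n9378 := (sb E6240 (iv D11991))
theorem F131967 : act 7 n11968 = n9380 := (sb E6241 (iv D11993))
theorem F131968 : act 3 n11724 = n9383 := (sb E6242 F55562)
theorem E7869 : n15429 = n10393 := ((((iv F48120)).symm.trans (sb E6246 (tr D17938 E7415)))).symm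
theorem E7870 : n17938 = n10393 := (E7415).trans E7869
theorem E7872 : n17474 = n17225 := ((((iv F77707)).symm.trans (sb E6249 D17474))).symm
theorem E7875 : n12841 = n12013 := ((((iv F55634)).symm.trans (iv (sb E6253 (tr F61155 E7397))))).symm
theorem E7876 : n13412 = n12013 := (E6253).trans E7875
theorem E7878 : n17282 = n15438 := (((D15438).symm.trans (sb E7876 (iv F77935)))).symm
theorem E7880 : n16540 = n15438 := ((F95038).symm.trans (sb E6254 (tr F98946 E7878)))
theorem E7883 : n13372 = n12015 := (((D12015).symm.trans (iv (sb E6255 (tr (iv D13468) E7397))))).symm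
theorem E7884 : n13468 = n12015 := (E6255).trans E7883
theorem E7885 : n17242 = n15107 := ((((iv F69096)).symm.trans (sb E7884 (tr D17382 E7570)))).symm
theorem E7886 : n17355 = n15440 := (((D15440).symm.trans (sb E7884 (iv F78206)))).symm
theorem E7887 : n17243 = n15440 := (((E7886).symm.trans ((D17355).symm.trans (sb E6256 (iv F77783))))).symm
theorem E7900 : n11920 = n4725 := (((D4725).symm.trans (sb E6268 (iv D15315)))).symm
theorem E7909 : n19559 = n2528 := (((F17450).symm.trans (sb E6272 (iv F88682)))).symm
theorem E7910 : n11914 = n4727 := (((D4727).symm.trans (sb E6272 (iv D15306)))).symm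
theorem E7912 : n7359 = n5366 := (((D5366).symm.trans (sb E6273 (iv D9327)))).symm
theorem E7919 : n7368 = n5367 := (((D5367).symm.trans (sb E6277 F43909))).symm
theorem E7931 : n5368 = n4667 := ((D5368).symm.trans (sb E6285 F28221))
theorem E7932 : n5369 = n4666 := ((D5369).symm.trans (sb E6285 (iv D5846)))
theorem E7936 : n23227 = n12798 := ((((iv D16486)).symm.trans (sb E6289 (iv D29133)))).symm
theorem E7937 : n12798 = n4500 := ((((iv F21908)).symm.trans (sb E6311 (tr (iv F103725) E7936)))).symm
theorem E7944 : n7844 = n5373 := (((D5373).symm.trans (sb E6293 (iv D9972)))).symm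
theorem E7947 : n7849 = n5374 := (((D5374).symm.trans (sb E6294 F46399))).symm
theorem F131972 : act 4 n4308 = n4969 := (sb E6297 F29787)
theorem F131973 : act 6 n4308 = n4972 := (sb E6297 F29788)
theorem F131974 : act 4 n3950 = n3076 := (sb E6302 (iv D4309))
theorem E7959 : n5375 = n4963 := ((((iv F24022)).symm.trans (sb E6302 (iv F25798)))).symm
theorem F131975 : act 6 n3949 = n3076 := (sb E6303 (iv D4310))
theorem E7961 : n5376 = n4962 := ((((iv F24018)).symm.trans (sb E6303 (iv F25803)))).symm
theorem E7965 : n14232 = n8388 := ((((iv D10713)).symm.trans (sb E6307 F82071))).symm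
theorem E7968 : n8678 = n8390 := (((F49415).symm.trans (sb E6310 F50827))).symm
theorem E7969 : n8388 = n5386 := ((((iv F25847)).symm.trans (sb E6843 (tr (iv F64651) E7965)))).symm
theorem E7970 : n8390 = n5387 := ((((iv F25853)).symm.trans (sb E6843 (tr (iv D11082) E7968)))).symm
theorem E7972 : n8630 = n8403 := (((F49456).symm.trans (sb E6313 (iv D11028)))).symm
theorem F131984 : act 4 n4318 = n5274 := (sb E6316 F31476)
theorem F131985 : act 6 n4318 = n5278 := (sb E6316 F31477)
theorem F131986 : act 2 n4228 = n3099 := (sb E6322 F20974)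
theorem E7980 : n5393 = n5257 := ((((iv F25292)).symm.trans (sb E6322 D5393))).symm
theorem F131987 : act 4 n4228 = n3086 := (sb E6322 (iv D4319))
theorem E7981 : n5388 = n5271 := ((((iv F25348)).symm.trans (sb E6322 (iv F25858)))).symm
theorem F131988 : act 2 n4227 = n3100 := (sb E6324 F20978)
theorem F131989 : act 3 n4227 = n5242 := (sb E6324 (iv F25225))
theorem F131990 : act 6 n4227 = n3086 := (sb E6324 (iv D4320))
theorem E7985 : n5439 = n5432 := (((F32416).symm.trans (sb E6328 (iv D6848)))).symm
theorem E7986 : n5441 = n5408 := (((D5408).symm.trans (sb E6349 F32475))).symm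
theorem E7987 : n5432 = n5407 := ((((iv F25947)).symm.trans (sb E6349 (tr (iv D6849) E7985)))).symm
theorem F131992 : act 3 n4334 = n3112 := (sb E6338 F21155)
theorem E7988 : n5439 = n5407 := (E7985).trans E7987
theorem F131993 : act 6 n4334 = n3111 := (sb E6338 (iv D4354))
theorem F131994 : act 2 n4335 = n5278 := (sb E6352 (iv F25382))
theorem E7989 : n5410 = n5408 := (((iv F25966)).symm.trans (sb E6352 (tr (iv F26126) E7986)))
theorem F131995 : act 7 n4335 = n3112 := (sb E6352 (iv D4356))
theorem E7992 : n5409 = n3108 := ((D5409).symm.trans (sb E6336 (iv D4349)))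
theorem F131996 : act 2 n4334 = n5274 := (sb E6337 (iv F25362))
theorem F131997 : act 3 n4335 = n3099 := (sb E6339 (iv D4336))
theorem F131998 : act 4 n4335 = n3111 := (sb E6339 F21063)
theorem F131999 : act 4 n2179 = n3100 := (sb E6340 F21068)
theorem F132000 : act 6 n2179 = n3099 := (sb E6340 (iv D4337))
theorem F132001 : act 7 n2181 = n3111 := (sb E6341 F21136)
theorem F132002 : act 7 n2180 = n3100 := (sb E6342 (iv D4338))
theorem E7999 : n5389 = n5270 := (((iv F25862)).symm.trans (sb E6348 (iv F25341)))
theorem E8000 : n8567 = n4965 := ((((iv F24028)).symm.trans (sb E6350 (iv F40039)))).symm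
theorem E8001 : n8328 = n5276 := ((((iv F25372)).symm.trans (sb E6350 (iv F39041)))).symm
theorem F132003 : act 2 n4231 = n3111 := (sb E6353 (iv D4353))
theorem F132004 : act 4 n4220 = n5245 := (sb E6354 (iv F25239))
theorem F132005 : act 2 n4236 = n5263 := (sb E6356 F31296)
theorem F132006 : act 7 n4236 = n5244 := (sb E6356 (iv D6586))
theorem F132007 : act 6 n3545 = n3068 := (sb E6359 (iv D4304))
theorem F132008 : act 4 n3546 = n3068 := (sb E6371 (iv D4303))
theorem F132009 : act 4 n3564 = n3125 := (sb E6392 (iv D4370))
theorem F132010 : act 6 n3563 = n3125 := (sb E6393 (iv D4371))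
theorem F132011 : act 7 n533 = n379 := (sb E6461 (iv D544))
theorem E8201 : n22578 = n8040 := (((D8040).symm.trans (sb E6580 (iv F100812)))).symm
theorem E8202 : n22582 = n21095 := ((((iv D26773)).symm.trans (sb E6514 (iv D28467)))).symm
theorem E8203 : n19534 = n8040 := (((iv F88564)).symm.trans (sb E6515 (tr (iv F100809) E8201)))
theorem E8204 : n13685 = n12780 := (((F74552).symm.trans (sb E6515 (iv D17657)))).symm
theorem E8205 : n21826 = n21094 := (((D21094).symm.trans (sb E6515 (iv F97765)))).symm
theorem E8208 : n11897 = n8041 := (((D8041).symm.trans (sb E6518 (iv D15283)))).symm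
theorem E8211 : n22583 = n8054 := (((D8054).symm.trans (sb E6759 D22583))).symm
theorem E8212 : n12780 = n8051 := ((((iv F37913)).symm.trans (sb E6759 (tr (iv D17658) E8204)))).symm
theorem E8213 : n22584 = n8049 := ((((iv F37907)).symm.trans (sb E6759 D22584))).symm
theorem E8214 : n12453 = n8054 := (((iv D16030)).symm.trans (sb E6520 (tr F126656 E8211)))
theorem E8215 : n12781 = n8049 := ((F74557).symm.trans (sb E6521 (tr F126660 E8213)))
theorem E8216 : n22671 = n22550 := ((((iv D28434)).symm.trans (sb E6524 (iv D28575)))).symm
theorem E8217 : n13760 = n13689 := (((F79447).symm.trans (sb E6527 F79825))).symm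
theorem E8218 : n22718 = n21830 := ((((iv F97784)).symm.trans (sb E6527 (iv F101358)))).symm
theorem E8219 : n13769 = n8376 := (((F49345).symm.trans (sb E6529 F79454))).symm
theorem E8220 : n22552 = n13734 := ((((iv F62441)).symm.trans (sb E6529 (iv F100700)))).symm
theorem E8221 : n22590 = n13286 := ((((iv F60634)).symm.trans (sb E6529 (iv F100861)))).symm
theorem E8223 : n8375 = n8072 := (((D8072).symm.trans (sb E6787 F49341))).symm
theorem E8224 : n13759 = n8073 := (((D8073).symm.trans (sb E6787 D13759))).symm
theorem E8225 : n13689 = n8065 := ((((iv F37974)).symm.trans (sb E6787 (tr D13760 E8217)))).symm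
theorem E8226 : n13221 = n8073 := (((iv D17045)).symm.trans (sb E6533 (tr F79820 E8224)))
theorem E8228 : n8381 = n8075 := (((D8075).symm.trans (sb E6795 F49367))).symm
theorem E8230 : n8379 = n8072 := ((((iv F38002)).symm.trans (sb E6795 (iv D10704)))).symm
theorem E8231 : n8376 = n8069 := ((((iv F37990)).symm.trans (sb E6795 (tr D13769 E8219)))).symm
theorem E8233 : n22568 = n8105 := ((((iv D10332)).symm.trans (sb E6535 (iv F100770)))).symm
theorem E8234 : n21831 = n13285 := (((D13285).symm.trans (sb E6535 (iv F97788)))).symm
theorem E8237 : n22537 = n13672 := (((F79349).symm.trans (sb E6539 (iv F100634)))).symm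
theorem E8241 : n13760 = n8065 := (E8217).trans E8225
theorem E8242 : n22569 = n8342 := (((F49150).symm.trans (sb E6543 (iv F100774)))).symm
theorem E8244 : n13680 = n8384 := (((F49156).symm.trans (sb E6545 F79389))).symm
theorem E8245 : n21816 = n13695 := ((((iv F62283)).symm.trans (sb E6545 (iv F97720)))).symm
theorem E8246 : n22570 = n13696 := (((D13696).symm.trans (sb E6545 D22570))).symm
theorem E8250 : n8342 = n8094 := ((((iv F38092)).symm.trans (sb E6649 (tr D22569 E8242)))).symm
theorem E8251 : n8105 = n8077 := (((F47699).symm.trans (sb E6552 (tr (iv F100769) E8233)))).symm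
theorem E8253 : n8335 = n8075 := ((((iv F38015)).symm.trans (sb E6654 F49109))).symm
theorem E8254 : n13215 = n8109 := (((D8109).symm.trans (sb E6654 (iv F60368)))).symm
theorem E8255 : n8384 = n8100 := ((((iv F38114)).symm.trans (sb E6654 (tr D13680 E8244)))).symm
theorem E8256 : n8383 = n8109 := ((F49152).symm.trans (sb E6555 (tr F76935 E8254)))
theorem E8257 : n13681 = n13214 := (((iv F62228)).symm.trans (sb E6555 (iv D17034)))
theorem E8258 : n21815 = n13226 := ((((iv F60418)).symm.trans (sb E6555 D21815))).symm
theorem E8259 : n22568 = n8077 := (E8233).trans E8251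
theorem E8261 : n22574 = n13259 := ((((iv F60547)).symm.trans (sb E6556 D22574))).symm
theorem E8262 : n21817 = n8146 := (((F48054).symm.trans (sb E6559 (iv D27613)))).symm
theorem E8263 : n13680 = n8100 := (E8244).trans E8255
theorem E8264 : n21818 = n8134 := (((D8134).symm.trans (sb E6837 (iv F97729)))).symm
theorem E8265 : n22573 = n8129 := ((((iv F38229)).symm.trans (sb E6837 D22573))).symm
theorem E8266 : n8386 = n8134 := ((F49187).symm.trans (sb E6562 (tr F123072 E8264)))
theorem E8267 : n22569 = n8094 := (E8242).trans E8250
theorem E8268 : n8387 = n8129 := ((F49190).symm.trans (sb E6564 (tr F118137 E8265)))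
theorem E8270 : n8104 = n5266 := ((D8104).symm.trans (sb E6566 F31310))
theorem F132041 : act 5 n6410 = n5246 := (sb E6566 (iv D6589))
theorem E8273 : n8316 = n7665 := ((((iv F36387)).symm.trans (sb E6567 (iv F38987)))).symm
theorem E8274 : n8125 = n5269 := ((D8125).symm.trans (sb E6567 F31333))
theorem E8275 : n8345 = n5121 := ((((iv D6424)).symm.trans (sb E6567 (iv F39116)))).symm
theorem E8276 : n8126 = n8082 := ((D8126).symm.trans (sb E6567 (iv F38049)))
theorem E8278 : n8348 = n8122 := ((((iv F38198)).symm.trans (sb E6567 D8348))).symm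
theorem E8279 : n8108 = n7838 := ((D8108).symm.trans (sb E6568 (iv F37016)))
theorem E8280 : n8133 = n7841 := ((D8133).symm.trans (sb E6570 (iv F37026)))
theorem E8281 : n8145 = n7840 := (((iv F38292)).symm.trans (sb E6571 (iv F37022)))
theorem E8282 : n8346 = n5132 := (((F30674).symm.trans (sb E6571 (iv F39119)))).symm
theorem E8283 : n8146 = n8114 := ((D8146).symm.trans (sb E6571 (iv F38166)))
theorem E8284 : n21817 = n8114 := (E8262).trans E8283
theorem E8285 : n8296 = n7226 := ((((iv F34418)).symm.trans (sb E6573 (iv F38910)))).symm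
theorem E8287 : n8058 = n7676 := (((D7676).symm.trans (sb E6573 (iv F37940)))).symm
theorem F132042 : act 2 n4224 = n5128 := (sb E6574 (iv D6434))
theorem F132043 : act 7 n4224 = n5131 := (sb E6574 F30655)
theorem E8292 : n8079 = n5129 := (((D5129).symm.trans (sb E6575 (iv F38035)))).symm
theorem F132044 : act 6 n6395 = n5128 := (sb E6576 (iv D6435))
theorem F132045 : act 1 n6215 = n5131 := (sb E6578 (iv D6438))
theorem F132046 : act 2 n6215 = n7679 := (sb E6578 (iv F36433))
theorem E8298 : n12005 = n8157 := (((D8157).symm.trans (sb E6581 F70597))).symm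
theorem E8301 : n13469 = n8175 := (((D8175).symm.trans (sb E6857 (iv F61378)))).symm
theorem E8302 : n13685 = n8051 := (E8204).trans E8212
theorem E8303 : n12923 = n8175 := ((F75273).symm.trans (sb E6583 (tr (iv D17383) E8301)))
theorem E8308 : n12006 = n8155 := (((D8155).symm.trans (sb E6587 F70602))).symm
theorem E8311 : n22915 = n8172 := (((D8172).symm.trans (sb E6600 (iv F102181)))).symm
theorem E8312 : n22916 = n8169 := ((((iv F38402)).symm.trans (sb E6600 D22916))).symm
theorem E8313 : n12604 = n8172 := ((F73691).symm.trans (sb E6589 (tr F128140 E8311)))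
theorem E8314 : n12925 = n8169 := ((F75286).symm.trans (sb E6590 (tr F128151 E8312)))
theorem E8318 : n8159 = n7405 := ((D8159).symm.trans (sb E6592 F44127))
theorem E8319 : n11760 = n8160 := (((D8160).symm.trans (sb E6592 (iv F54449)))).symm
theorem F132048 : act 3 n6461 = n7911 := (sb E6595 F46717)
theorem E8325 : n8171 = n7912 := ((D8171).symm.trans (sb E6596 F46720))
theorem E8327 : n8053 = n7832 := ((D8053).symm.trans (sb E6597 F46306))
theorem E8329 : n12600 = n7701 := ((((iv F36517)).symm.trans (sb E6598 (iv F57874)))).symm
theorem E8330 : n8178 = n7732 := (((iv F38431)).symm.trans (sb E6598 F45803))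
theorem E8331 : n8179 = n7731 := ((D8179).symm.trans (sb E6598 (iv D9823)))
theorem E8333 : n8491 = n8194 := (((D8194).symm.trans (sb E7379 F49921))).symm
theorem E8334 : n13958 = n8195 := (((D8195).symm.trans (sb E7379 (iv F63298)))).symm
theorem E8336 : n8236 = n8195 := ((F48584).symm.trans (sb E6602 (tr F80587 E8334)))
theorem E8337 : n22923 = n13500 := ((((iv F61503)).symm.trans (sb E6602 D22923))).symm
theorem E8338 : n22271 = n13536 := ((((iv F61633)).symm.trans (sb E6602 (iv F99550)))).symm
theorem E8339 : n22924 = n13537 := (((D13537).symm.trans (sb E6602 D22924))).symm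
theorem F132053 : act 1 n6478 = n7911 := (sb E6606 (iv F37303))
theorem E8341 : n8482 = n8199 := (((D8199).symm.trans (sb E6606 D8482))).symm
theorem E8342 : n8490 = n8200 := (((D8200).symm.trans (sb E6607 F49889))).symm
theorem E8346 : n8204 = n5178 := (((F30845).symm.trans (sb E6610 F48407))).symm
theorem E8347 : n8239 = n8199 := ((((iv F38514)).symm.trans (sb E6610 F48408))).symm
theorem E8349 : n8203 = n8200 := (((D8200).symm.trans (sb E6610 (iv D10468)))).symm
theorem E8351 : n13473 = n8189 := ((((iv F38472)).symm.trans (sb E6610 D13473))).symm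
theorem F132055 : act 1 n6481 = n7917 := (sb E6612 (iv F37321))
theorem F132056 : act 7 n6481 = n5323 := (sb E6612 (iv D6697))
theorem F132057 : act 2 n6478 = n5323 := (sb E6614 F31735)
theorem E8355 : n22249 = n8206 := (((D8206).symm.trans (sb E6648 (iv F99460)))).symm
theorem E8356 : n8234 = n8206 := ((F48582).symm.trans (sb E6619 (tr (iv F99459) E8355)))
theorem E8360 : n19600 = n7082 := ((((iv F33643)).symm.trans (sb E6622 D19600))).symm
theorem E8363 : n19145 = n7496 := (((D7496).symm.trans (sb E6623 (iv F86760)))).symm
theorem E8368 : n8043 = n7234 := ((D8043).symm.trans (sb E6626 F43010))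
theorem F132059 : act 3 n5785 = n5144 := (sb E6635 (iv D6453))
theorem E8386 : n8163 = n7284 := ((((iv F34700)).symm.trans (sb E6635 D8163))).symm
theorem E8387 : n8164 = n7283 := ((D8164).symm.trans (sb E6636 (iv D9228)))
theorem F132060 : act 6 n6483 = n5177 := (sb E6638 (iv D6502))
theorem E8390 : n8218 = n8207 := (((D8207).symm.trans (sb E6638 (iv F38590)))).symm
theorem E8391 : n13903 = n8494 := (((F49828).symm.trans (sb E6641 F80511))).symm
theorem E8392 : n22251 = n13923 := ((((iv F63167)).symm.trans (sb E6641 (iv F99468)))).symm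
theorem E8395 : n13464 = n8226 := (((D8226).symm.trans (sb E6670 (iv F61358)))).symm
theorem E8396 : n8494 = n8221 := ((((iv F38600)).symm.trans (sb E6670 (tr D13903 E8391)))).symm
theorem E8397 : n8493 = n8226 := ((F49824).symm.trans (sb E6645 (tr F78276 E8395)))
theorem E8398 : n22210 = n13922 := (((D13922).symm.trans (sb E6645 (iv F99298)))).symm
theorem E8400 : n22305 = n22279 := (((iv F99707)).symm.trans (sb E6646 (iv F99586)))
theorem E8401 : n22902 = n13497 := ((((iv D17422)).symm.trans (sb E6646 (iv F102130)))).symm
theorem F132066 : act 5 n6481 = n5307 := (sb E6651 (iv D6673))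
theorem E8403 : n8225 = n7920 := ((D8225).symm.trans (sb E6653 (iv F37331)))
theorem F132067 : act 7 n6497 = n5326 := (sb E6653 F31754)
theorem E8405 : n8238 = n7919 := (((iv F38655)).symm.trans (sb E6655 (iv F37329)))
theorem E8407 : n8243 = n8240 := (((D8240).symm.trans (sb E6655 (iv F38674)))).symm
theorem E8408 : n13465 = n8241 := (((D8241).symm.trans (sb E7113 (iv F61363)))).symm
theorem E8410 : n13214 = n8110 := ((((iv F38151)).symm.trans (sb E7113 (tr (iv F62229) E8257)))).symm
theorem E8411 : n13461 = n8241 := (((E8408).symm.trans (((iv F61362)).symm.trans (sb E6657 F78274)))).symm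
theorem E8413 : n13497 = n8230 := ((((iv F38631)).symm.trans (sb E6895 (tr D22902 E8401)))).symm
theorem E8416 : n8184 = n7755 := (((iv F38450)).symm.trans (sb E6660 (iv F36682)))
theorem E8418 : n8209 = n5201 := (((iv F38551)).symm.trans (sb E6660 F31045))
theorem E8419 : n8211 = n5204 := ((D8211).symm.trans (sb E6660 F31046))
theorem E8425 : n13437 = n8242 := ((((iv F38669)).symm.trans (sb E6663 (iv F61245)))).symm
theorem E8428 : n8263 = n8246 := ((((iv F38683)).symm.trans (sb E6664 F48667))).symm
theorem E8430 : n13903 = n8221 := (E8391).trans E8396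
theorem E8431 : n22254 = n8255 := (((D8255).symm.trans (sb E6714 (iv F99480)))).symm
theorem E8432 : n8496 = n8255 := ((F49860).symm.trans (sb E6667 (tr F115632 E8431)))
theorem E8437 : n8254 = n7923 := ((D8254).symm.trans (sb E6672 (iv F37341)))
theorem F132071 : act 7 n6520 = n5329 := (sb E6672 F31764)
theorem E8439 : n8261 = n7922 := (((iv F38747)).symm.trans (sb E6673 (iv F37338)))
theorem E8441 : n8495 = n8262 := (((D8262).symm.trans (sb E6673 D8495))).symm
theorem F132075 : act 2 n4265 = n5177 := (sb E6678 (iv D6501))
theorem F132076 : act 7 n4265 = n5180 := (sb E6678 F30930)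
theorem F132077 : act 2 n6491 = n5326 := (sb E6681 F31684)
theorem E8451 : n8467 = n8214 := ((((iv F38574)).symm.trans (sb E6681 D8467))).symm
theorem F132078 : act 1 n6149 = n5167 := (sb E6682 F30798)
theorem F132079 : act 2 n6149 = n7705 := (sb E6682 (iv F36531))
theorem F132080 : act 5 n6149 = n5154 := (sb E6682 (iv D6468))
theorem E8453 : n8185 = n7120 := ((((iv F33848)).symm.trans (sb E6682 D8185))).symm
theorem F132081 : act 3 n4149 = n5167 := (sb E6684 F30868)
theorem F132082 : act 5 n4149 = n5166 := (sb E6684 (iv D6485))
theorem E8456 : n8210 = n5189 := ((((iv F24988)).symm.trans (sb E6684 D8210))).symm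
theorem F132083 : act 6 n6488 = n5188 := (sb E6685 (iv D6518))
theorem E8457 : n8249 = n8213 := (((D8213).symm.trans (sb E6685 (iv F38697)))).symm
theorem F132084 : act 1 n6272 = n5180 := (sb E6686 (iv D6505))
theorem F132085 : act 2 n6272 = n7734 := (sb E6686 (iv F36615))
theorem F132086 : act 1 n6275 = n5194 := (sb E6687 (iv D6524))
theorem F132087 : act 2 n6275 = n7747 := (sb E6687 (iv F36657))
theorem F132088 : act 1 n6274 = n5203 := (sb E6689 F31056)
theorem F132089 : act 2 n6274 = n7758 := (sb E6689 (iv F36693))
theorem F132090 : act 7 n6511 = n5203 := (sb E6691 (iv D6536))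
theorem F132091 : act 2 n6514 = n5329 := (sb E6701 F31706)
theorem F132092 : act 6 n5740 = n5225 := (sb E6702 (iv D6559))
theorem F132093 : act 3 n5741 = n5225 := (sb E6707 (iv D6558))
theorem F132094 : act 1 n6100 = n5099 := (sb E6709 F30422)
theorem F132095 : act 3 n6100 = n5087 := (sb E6709 (iv D6378))
theorem E8484 : n8057 = n7677 := ((((iv F36427)).symm.trans (sb E6709 D8057))).symm
theorem E8485 : n7976 = n7685 := (((D7685).symm.trans (sb E6709 (iv F37586)))).symm
theorem E8486 : n8142 = n8080 := (((D8080).symm.trans (sb E6710 D8142))).symm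
theorem E8487 : n8143 = n7989 := ((((iv F37650)).symm.trans (sb E6710 D8143))).symm
theorem F132096 : act 1 n6544 = n7966 := (sb E6716 (iv F37536))
theorem E8490 : n8546 = n8281 := (((D8281).symm.trans (sb E6716 (iv F39933)))).symm
theorem F132099 : act 1 n6312 = n5211 := (sb E6720 (iv D6543))
theorem F132100 : act 2 n6312 = n7764 := (sb E6720 (iv F36714))
theorem F132101 : act 1 n6549 = n7965 := (sb E6723 (iv F37532))
theorem E8498 : n8545 = n8286 := (((D8286).symm.trans (sb E6723 D8545))).symm
theorem F132103 : act 1 n6150 = n5166 := (sb E6735 F30794)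
theorem F132104 : act 3 n6150 = n5154 := (sb E6735 F30795)
theorem E8504 : n8183 = n7756 := (((D7756).symm.trans (sb E6735 D8183))).symm
theorem E8506 : n23145 = n19571 := ((((iv D24813)).symm.trans (sb E6740 (iv D29049)))).symm
theorem E8508 : n19571 = n4724 := (((F28571).symm.trans (sb E6750 (tr (iv F103331) E8506)))).symm
theorem E8511 : n11919 = n7455 := (((D7455).symm.trans (sb E6743 F70090))).symm
theorem E8513 : n11898 = n8289 := (((D8289).symm.trans (sb E6745 (iv F55118)))).symm
theorem E8514 : n8290 = n7371 := ((D8290).symm.trans (sb E6745 F43903))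
theorem E8523 : n19557 = n4744 := (((F28667).symm.trans (sb E6752 (iv F88672)))).symm
theorem E8524 : n19509 = n7478 := (((D7478).symm.trans (sb E6752 (iv F88458)))).symm
theorem E8525 : n22546 = n12761 := ((((iv D16437)).symm.trans (sb E6754 F126480))).symm
theorem E8526 : n12761 = n8298 := ((((iv F38920)).symm.trans (sb E6755 (tr (iv F100675) E8525)))).symm
theorem E8528 : n12762 = n8300 := (((D8300).symm.trans (sb E6756 (iv F58497)))).symm
theorem E8529 : n8301 = n7853 := ((D8301).symm.trans (sb E6756 F46394))
theorem F132105 : act 3 n6565 = n7833 := (sb E6761 F46309)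
theorem F132106 : act 6 n6565 = n7837 := (sb E6761 F46311)
theorem F132107 : act 1 n6232 = n5244 := (sb E6762 F31209)
theorem F132108 : act 2 n6232 = n7786 := (sb E6762 (iv F36818))
theorem F132109 : act 6 n6232 = n5230 := (sb E6762 (iv D6566))
theorem E8532 : n11886 = n8287 := (((D8287).symm.trans (sb E6763 (iv F55063)))).symm
theorem E8533 : n8288 = n7358 := ((D8288).symm.trans (sb E6763 (iv D9326)))
theorem E8537 : n8302 = n7824 := ((D8302).symm.trans (sb E6765 F46264))
theorem E8538 : n8303 = n7823 := ((D8303).symm.trans (sb E6765 (iv D9944)))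
theorem F132110 : act 1 n6219 = n5242 := (sb E6767 F31201)
theorem F132111 : act 2 n6219 = n7784 := (sb E6767 (iv F36808))
theorem F132112 : act 6 n6219 = n5229 := (sb E6767 (iv D6564))
theorem E8541 : n8291 = n7348 := ((D8291).symm.trans (sb E6769 F43764))
theorem E8542 : n8292 = n7347 := ((D8292).symm.trans (sb E6769 (iv D9310)))
theorem F132113 : act 6 n5845 = n5224 := (sb E6770 (iv D6557))
theorem E8545 : n22653 = n22548 := (((iv F101112)).symm.trans (sb E6772 (iv F100683)))
theorem E8546 : n23141 = n22764 := (((D22764).symm.trans (sb E6774 (iv F103311)))).symm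
theorem E8547 : n13733 = n13666 := ((((iv D17632)).symm.trans (sb E6775 F79690))).symm
theorem E8548 : n22670 = n22520 := ((((iv F100552)).symm.trans (sb E6775 D22670))).symm
theorem E8549 : n22687 = n13724 := ((((iv D17710)).symm.trans (sb E6776 F126499))).symm
theorem E8551 : n13742 = n8363 := (((F49270).symm.trans (sb E6777 F79330))).symm
theorem E8552 : n22551 = n13710 := ((((iv F62346)).symm.trans (sb E6777 D22551))).symm
theorem E8553 : n14119 = n13803 := ((((iv F62723)).symm.trans (sb E6779 (iv F64053)))).symm
theorem E8554 : n8593 = n8402 := ((((iv D10733)).symm.trans (sb E6779 (iv D10982)))).symm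
theorem E8555 : n8364 = n8326 := (((D8326).symm.trans (sb E6818 F49273))).symm
theorem E8556 : n13666 = n8319 := ((((iv F39000)).symm.trans (sb E6818 (tr (iv F62437) E8547)))).symm
theorem E8557 : n8368 = n8327 := (((D8327).symm.trans (sb E6818 F49275))).symm
theorem E8558 : n8329 = n8327 := ((((iv F39036)).symm.trans (sb E6820 (iv F39047)))).symm
theorem E8559 : n8402 = n8325 := ((((iv F39026)).symm.trans (sb E6820 (tr (iv F40155) E8554)))).symm
theorem E8560 : n8363 = n8321 := ((((iv F39007)).symm.trans (sb E6819 (tr (iv F62468) E8551)))).symm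
theorem E8561 : n8366 = n8326 := ((((iv F39031)).symm.trans (sb E6819 (iv D10684)))).symm
theorem E8562 : n22536 = n8331 := (((D8331).symm.trans (sb E6798 (iv F100630)))).symm
theorem E8563 : n8361 = n5259 := (((F31277).symm.trans (sb E6784 D8361))).symm
theorem E8564 : n8330 = n5256 := (((iv F39051)).symm.trans (sb E6784 (iv D6603)))
theorem E8565 : n8351 = n8331 := (((D8331).symm.trans (sb E6784 (iv F39140)))).symm
theorem E8566 : n8332 = n5258 := ((D8332).symm.trans (sb E6784 F31368))
theorem F132127 : act 1 n6584 = n7833 := (sb E6786 (iv F36998))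
theorem F132128 : act 4 n6584 = n5263 := (sb E6786 F31408)
theorem F132129 : act 1 n6585 = n7837 := (sb E6788 (iv F37012))
theorem F132130 : act 7 n6585 = n5265 := (sb E6788 (iv D6617))
theorem F132131 : act 2 n6585 = n5245 := (sb E6790 (iv D6587))
theorem F132132 : act 3 n6585 = n5264 := (sb E6790 F31302)
theorem F132133 : act 3 n6580 = n5278 := (sb E6791 F31495)
theorem F132134 : act 1 n6209 = n5245 := (sb E6793 F31213)
theorem E8569 : n8308 = n7805 := ((((iv F36894)).symm.trans (sb E6793 D8308))).symm
theorem F132135 : act 3 n6209 = n5231 := (sb E6793 (iv D6567))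
theorem F132136 : act 1 n6208 = n5246 := (sb E6794 F31216)
theorem F132137 : act 2 n6208 = n7788 := (sb E6794 (iv F36826))
theorem F132138 : act 6 n6208 = n5231 := (sb E6794 (iv D6568))
theorem F132139 : act 2 n6584 = n5265 := (sb E6796 F31414)
theorem F132140 : act 6 n6584 = n5264 := (sb E6796 (iv D6615))
theorem F132141 : act 7 n4222 = n5264 := (sb E6799 F31398)
theorem F132142 : act 3 n4219 = n5246 := (sb E6800 F31306)
theorem F132143 : act 6 n4219 = n5245 := (sb E6800 (iv D6588))
theorem F132144 : act 7 n4221 = n5246 := (sb E6801 (iv D6590))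
theorem F132145 : act 2 n4229 = n5260 := (sb E6803 F31282)
theorem F132146 : act 7 n4229 = n5242 := (sb E6803 (iv D6583))
theorem E8582 : n13733 = n8319 := (E8547).trans E8556
theorem E8584 : n13660 = n8369 := (((F49091).symm.trans (sb E6813 F79278))).symm
theorem E8585 : n22510 = n13671 := (((D13671).symm.trans (sb E6813 (iv F100511)))).symm
theorem E8586 : n22538 = n13709 := (((iv F100640)).symm.trans (sb E6814 (iv D17689)))
theorem E8590 : n8593 = n8325 := (E8554).trans E8559
theorem E8591 : n8592 = n8399 := (((iv F40150)).symm.trans (sb E6817 (iv D10731)))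
theorem E8592 : n8399 = n8360 := ((((iv F39177)).symm.trans (sb E6828 (tr (iv F40148) E8591)))).symm
theorem E8593 : n8369 = n8354 := ((((iv F39152)).symm.trans (sb E6826 (tr D13660 E8584)))).symm
theorem E8594 : n13609 = n7827 := ((((iv F36976)).symm.trans (sb E6846 (iv F61938)))).symm
theorem E8595 : n13662 = n8367 := (((D8367).symm.trans (sb E6846 (iv F62146)))).symm
theorem E8596 : n13646 = n8367 := (((iv F62072)).symm.trans (sb E6824 (tr F79290 E8595)))
theorem E8597 : n13660 = n8354 := (E8584).trans E8593
theorem E8599 : n8365 = n7829 := ((D8365).symm.trans (sb E6825 (iv F36984)))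
theorem F132148 : act 4 n6606 = n5260 := (sb E6825 F31393)
theorem E8601 : n12681 = n7835 := ((((iv F37005)).symm.trans (sb E6829 (iv F58198)))).symm
theorem E8602 : n13681 = n8110 := (E8257).trans E8410
theorem E8604 : n13199 = n8382 := (((D8382).symm.trans (sb E6832 (iv F60306)))).symm
theorem F132149 : act 1 n6214 = n5264 := (sb E6834 (iv D6614))
theorem E8611 : n7845 = n7061 := (((iv F37044)).symm.trans (sb E6845 (iv F33510)))
theorem E8612 : n8592 = n8360 := (E8591).trans E8592
theorem E8613 : n13657 = n11380 := (((iv F62119)).symm.trans (sb E6847 (iv F52531)))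
theorem E8614 : n7854 = n7060 := (((iv F37087)).symm.trans (sb E6849 (iv F33503)))
theorem E8615 : n8403 = n5390 := ((D8403).symm.trans (sb E6849 (iv D6782)))
theorem F132150 : act 6 n5888 = n5291 := (sb E6856 (iv D6651))
theorem F132151 : act 1 n6266 = n5163 := (sb E6859 F30781)
theorem E8622 : n8177 = n7893 := ((((iv F37251)).symm.trans (sb E6859 D8177))).symm
theorem F132152 : act 3 n6266 = n5151 := (sb E6859 (iv D6463))
theorem F132153 : act 3 n5874 = n5292 := (sb E6869 (iv D6652))
theorem F132154 : act 6 n5873 = n5292 := (sb E6870 (iv D6653))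
theorem F132155 : act 3 n6254 = n7882 := (sb E6883 (iv F37212))
theorem E8645 : n13459 = n7736 := ((((iv F36620)).symm.trans (sb E6891 (iv F61337)))).symm
theorem F132156 : act 2 n6698 = n8188 := (sb E6894 (iv D10446))
theorem E8649 : n13432 = n8492 := (((D8492).symm.trans (sb E6894 (iv F61224)))).symm
theorem F132157 : act 4 n4696 = n4369 := (sb E6904 (iv D5457))
theorem F132158 : act 6 n4699 = n4369 := (sb E6906 (iv D5458))
theorem E8665 : n21273 = n12888 := (((F75128).symm.trans (sb E6923 F119975))).symm
theorem E8666 : n19620 = n12900 := (((iv F89004)).symm.trans (sb E6924 F75037))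
theorem E8667 : n21234 = n20616 := ((((iv F92886)).symm.trans (sb E6924 D21234))).symm
theorem E8668 : n21199 = n20904 := ((D21199).symm.trans (sb E6924 (iv F93978)))
theorem F132166 : act 0 n9560 = n11968 := (sb E7362 F70300)
theorem E8669 : n12848 = n7539 := ((((iv D9560)).symm.trans (sb E7362 F70301))).symm
theorem E8670 : n12900 = n12216 := ((((iv F56530)).symm.trans (sb E7362 (tr (iv F89006) E8666)))).symm
theorem E8671 : n19164 = n12229 := (((D12229).symm.trans (sb E7362 (iv F86859)))).symm
theorem E8672 : n19623 = n12183 := ((((iv F56406)).symm.trans (sb E7362 D19623))).symm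
theorem E8673 : n12907 = n12229 := (((E8671).symm.trans (((iv F86856)).symm.trans (sb E6928 F75090)))).symm
theorem E8675 : n20677 = n20618 := ((((iv F92894)).symm.trans (sb E6928 (iv F93127)))).symm
theorem E8676 : n20917 = n20619 := (((D20619).symm.trans (sb E6928 (iv F94030)))).symm
theorem E8677 : n12735 = n12183 := ((F74103).symm.trans (sb E6929 (tr (iv F89020) E8672)))
theorem E8678 : n20918 = n20853 := ((D20918).symm.trans (sb E6929 (iv F93761)))
theorem E8679 : n16336 = n9526 := ((((iv F44761)).symm.trans (iv (sb E6929 (tr (iv D16550) E8669))))).symm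
theorem E8680 : n19173 = n12198 := (((D12198).symm.trans (sb E6947 (iv F86908)))).symm
theorem E8681 : n19364 = n12192 := ((((iv F56441)).symm.trans (sb E6947 (iv F87811)))).symm
theorem E8682 : n12737 = n12198 := (((E8680).symm.trans (((iv F86905)).symm.trans (sb E6935 F74109)))).symm
theorem E8683 : n20631 = n20363 := (((iv F92955)).symm.trans (sb E6935 (iv F92034)))
theorem E8684 : n20921 = n20323 := ((((iv F91888)).symm.trans (sb E6935 D20921))).symm
theorem E8685 : n12738 = n12192 := (((E8681).symm.trans (((iv F87808)).symm.trans (sb E6936 F74113)))).symm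
theorem F132182 : act 7 n9560 = n7901 := (sb E6942 (iv D10051))
theorem F132183 : act 0 n9570 = n11724 := (sb E6943 F68709)
theorem E8688 : n19172 = n12240 := (((D12240).symm.trans (sb E6943 (iv F86903)))).symm
theorem F132184 : act 8 n9570 = n11706 := (sb E6943 (iv D15017))
theorem F132185 : act 0 n9536 = n11868 := (sb E6944 (iv F54973))
theorem F132186 : act 7 n9536 = n7811 := (sb E6944 (iv D9926))
theorem E8689 : n12577 = n12240 := (((D12240).symm.trans (sb E6945 (iv F57795)))).symm
theorem E8690 : n22462 = n19532 := (((F111409).symm.trans (sb E6949 (iv D28326)))).symm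
theorem E8691 : n20979 = n20899 := (((iv F94243)).symm.trans (sb E6950 (iv F93958)))
theorem E8692 : n21724 = n21091 := (((D21091).symm.trans (sb E6950 (iv F97346)))).symm
theorem E8693 : n22466 = n21092 := (((D21092).symm.trans (sb E6950 D22466))).symm
theorem E8694 : n19532 = n12354 := ((((iv F57046)).symm.trans (sb E7187 (tr (iv D28327) E8690)))).symm
theorem E8695 : n20991 = n12721 := (((F74258).symm.trans (sb E6954 F118406))).symm
theorem E8696 : n21104 = n13173 := ((((iv D16974)).symm.trans (sb E6958 F119330))).symm
theorem E8697 : n20890 = n12730 := (((F74072).symm.trans (sb E6960 F118348))).symm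
theorem E8698 : n22454 = n12733 := (((F74082).symm.trans (sb E6968 F118182))).symm
theorem E8699 : n20910 = n20860 := ((D20910).symm.trans (sb E6968 (iv D26447)))
theorem E8700 : n21966 = n13175 := (((D13175).symm.trans (sb E6982 (iv F98276)))).symm
theorem E8702 : n12730 = n12410 := ((((iv F57231)).symm.trans (sb E7109 (tr (iv F93921) E8697)))).symm
theorem E8703 : n21715 = n12458 := (((D12458).symm.trans (sb E7109 (iv F97310)))).symm
theorem E8704 : n12733 = n12445 := ((((iv F57353)).symm.trans (sb E7109 (tr D22454 E8698)))).symm
theorem E8705 : n12732 = n12458 := ((F74078).symm.trans (sb E6985 (tr F117112 E8703)))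
theorem E8709 : n21720 = n12461 := (((D12461).symm.trans (sb E7558 (iv F97331)))).symm
theorem E8714 : n12660 = n11653 := ((((iv F53945)).symm.trans (sb E6990 (iv F58104)))).symm
theorem E8715 : n12451 = n7809 := ((D12451).symm.trans (sb E6990 F46071))
theorem E8716 : n12684 = n12406 := ((((iv F57217)).symm.trans (sb E6990 (iv F58211)))).symm
theorem F132212 : act 5 n9716 = n7788 := (sb E6990 (iv D9892))
theorem E8717 : n12452 = n12377 := ((D12452).symm.trans (sb E6990 (iv F57133)))
theorem E8719 : n12687 = n12437 := ((((iv F57327)).symm.trans (sb E6990 D12687))).symm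
theorem E8720 : n12457 = n11865 := ((D12457).symm.trans (sb E6993 (iv F54961)))
theorem F132213 : act 5 n9720 = n7810 := (sb E6993 F46187)
theorem E8721 : n22454 = n12445 := (E8698).trans E8704
theorem E8722 : n19361 = n12478 := ((((iv F57467)).symm.trans (sb E6995 (iv D24519)))).symm
theorem E8723 : n12499 = n11870 := (((iv F57538)).symm.trans (sb E6996 (iv F54982)))
theorem E8724 : n12693 = n7680 := (((F45570).symm.trans (sb E6996 (iv F58246)))).symm
theorem E8725 : n12500 = n12419 := ((D12500).symm.trans (sb E6996 (iv F57261)))
theorem E8726 : n12740 = n12485 := ((((iv F57491)).symm.trans (sb E6996 D12740))).symm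
theorem E8727 : n20924 = n20320 := ((D20924).symm.trans (sb E6998 (iv D25761)))
theorem E8728 : n12484 = n11871 := ((D12484).symm.trans (sb E6999 (iv F54986)))
theorem E8730 : n12472 = n7814 := (((iv F57447)).symm.trans (sb E6999 F46206))
theorem E8731 : n12741 = n12478 := ((((iv F57467)).symm.trans (sb E6999 D12741))).symm
theorem E8732 : n12667 = n11669 := ((((iv F54025)).symm.trans (sb E7000 (iv F58137)))).symm
theorem E8733 : n12692 = n11673 := ((((iv F54049)).symm.trans (sb E7000 (iv F58244)))).symm
theorem E8734 : n12473 = n12383 := ((D12473).symm.trans (sb E7000 (iv F57157)))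
theorem E8735 : n12695 = n11466 := ((((iv F53015)).symm.trans (sb E7000 D12695))).symm
theorem E8738 : n12664 = n7743 := (((F42963).symm.trans (sb E7005 (iv F58125)))).symm
theorem E8739 : n12361 = n11683 := (((D11683).symm.trans (sb E7005 (iv F57073)))).symm
theorem F132225 : act 1 n6196 = n7675 := (sb E7006 (iv D9745))
theorem F132226 : act 7 n6196 = n7679 := (sb E7006 F45546)
theorem F132227 : act 1 n9217 = n7811 := (sb E7007 F46085)
theorem E8744 : n12690 = n11748 := ((((iv F54390)).symm.trans (sb E7007 D12690))).symm
theorem E8745 : n12380 = n11776 := (((D11776).symm.trans (sb E7007 (iv F57145)))).symm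
theorem F132228 : act 6 n9669 = n7675 := (sb E7008 (iv D9746))
theorem F132229 : act 0 n9292 = n7679 := (sb E7010 (iv D9751))
theorem F132230 : act 1 n9292 = n11688 := (sb E7010 (iv F54122))
theorem E8748 : n22158 = n12512 := (((D12512).symm.trans (sb E7308 (iv F99089)))).symm
theorem E8749 : n22462 = n12354 := (E8690).trans E8694
theorem E8750 : n19714 = n12512 := ((F112455).symm.trans (sb E7012 (tr (iv D28009) E8748)))
theorem E8751 : n19670 = n12511 := ((((iv F57588)).symm.trans (sb E7461 (iv F89230)))).symm
theorem E8752 : n12889 = n12531 := (((D12531).symm.trans (sb E7461 F75130))).symm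
theorem E8753 : n21260 = n12532 := (((D12532).symm.trans (sb E7461 D21260))).symm
theorem E8754 : n20899 = n12372 := ((((iv F57114)).symm.trans (sb E7461 (tr (iv F94245) E8691)))).symm
theorem E8755 : n20659 = n12532 := (((E8753).symm.trans (((iv F95348)).symm.trans (sb E7014 (iv F93057))))).symm
theorem E8756 : n13413 = n12932 := (((F75265).symm.trans (sb E7014 (iv D17303)))).symm
theorem E8757 : n22161 = n20788 := ((((iv F93497)).symm.trans (sb E7014 D22161))).symm
theorem E8761 : n19450 = n12356 := (((D12356).symm.trans (sb E7020 (iv F88196)))).symm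
theorem E8764 : n19667 = n11701 := ((((iv F54196)).symm.trans (sb E7021 (iv F89220)))).symm
theorem E8765 : n12514 = n11979 := ((D12514).symm.trans (sb E7021 F70463))
theorem E8766 : n19669 = n12200 := ((((iv F56470)).symm.trans (sb E7021 D19669))).symm
theorem E8767 : n19228 = n12515 := (((D12515).symm.trans (sb E7021 (iv F87146)))).symm
theorem E8768 : n19671 = n12508 := ((((iv F57579)).symm.trans (sb E7021 D19671))).symm
theorem E8769 : n12898 = n12535 := (((D12535).symm.trans (sb E7343 F75164))).symm
theorem E8770 : n12888 = n12207 := ((((iv F56498)).symm.trans (sb E7343 (tr (iv F95386) E8665)))).symm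
theorem E8771 : n21275 = n12536 := (((D12536).symm.trans (sb E7343 D21275))).symm
theorem E8772 : n12895 = n12531 := ((((iv F57660)).symm.trans (sb E7343 (iv D16616)))).symm
theorem E8773 : n21276 = n12527 := ((((iv F57646)).symm.trans (sb E7343 D21276))).symm
theorem E8774 : n12721 = n12375 := ((((iv F57126)).symm.trans (sb E7343 (tr (iv F94282) E8695)))).symm
theorem E8775 : n12561 = n12536 := ((F73502).symm.trans (sb E7023 (tr F119979 E8771)))
theorem E8776 : n12890 = n12527 := ((F75133).symm.trans (sb E7024 (tr F119982 E8773)))
theorem E8778 : n12516 = n11759 := ((D12516).symm.trans (sb E7025 (iv D15094)))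
theorem E8779 : n19284 = n12517 := (((D12517).symm.trans (sb E7025 D19284))).symm
theorem E8780 : n19285 = n12509 := ((((iv F57583)).symm.trans (sb E7025 D19285))).symm
theorem E8783 : n19618 = n12903 := (((iv F88990)).symm.trans (sb E7031 F75046))
theorem E8784 : n21237 = n20614 := ((((iv F92880)).symm.trans (sb E7031 (iv F95251)))).symm
theorem E8785 : n21238 = n20848 := ((((iv F93743)).symm.trans (sb E7031 D21238))).symm
theorem E8786 : n20800 = n13415 := (((D13415).symm.trans (sb E7039 (iv F93542)))).symm
theorem E8787 : n21332 = n13401 := ((((iv F61121)).symm.trans (sb E7039 D21332))).symm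
theorem E8788 : n12860 = n12535 := ((((iv F57671)).symm.trans (sb E7349 F74987))).symm
theorem E8789 : n19620 = n12216 := (E8666).trans E8670
theorem E8790 : n20650 = n12566 := (((D12566).symm.trans (sb E7349 (iv F93026)))).symm
theorem E8791 : n12903 = n12553 := ((((iv F57733)).symm.trans (sb E7349 (tr F88994 E8783)))).symm
theorem E8792 : n20890 = n12410 := (E8697).trans E8702
theorem E8793 : n12902 = n12566 := ((F75044).symm.trans (sb E7042 (tr F117046 E8790)))
theorem E8795 : n22151 = n12610 := (((F73677).symm.trans (sb E7045 (iv D28003)))).symm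
theorem E8797 : n21254 = n12204 := (((D12204).symm.trans (sb E7065 (iv F95325)))).symm
theorem E8798 : n21395 = n12149 := ((((iv F56287)).symm.trans (sb E7065 D21395))).symm
theorem E8799 : n12631 = n12204 := (((iv D16266)).symm.trans (sb E7049 (tr (iv D26944) E8797)))
theorem E8800 : n12646 = n12149 := (((iv D16277)).symm.trans (sb E7050 (tr F120718 E8798)))
theorem E8802 : n12203 = n7771 := ((D12203).symm.trans (sb E7051 F45962))
theorem E8807 : n12629 = n11705 := ((((iv F54213)).symm.trans (sb E7057 F69208))).symm
theorem E8808 : n19324 = n11707 := (((D11707).symm.trans (sb E7057 D19324))).symm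
theorem E8810 : n12519 = n7749 := (((iv F57616)).symm.trans (sb E7058 F45878))
theorem E8811 : n12520 = n7748 := ((D12520).symm.trans (sb E7058 (iv D9846)))
theorem E8812 : n12632 = n12521 := (((D12521).symm.trans (sb E7058 D12632))).symm
theorem E8813 : n12622 = n12360 := ((((iv F57070)).symm.trans (sb E7058 (iv F57951)))).symm
theorem F132246 : act 0 n9227 = n7705 := (sb E7059 F45635)
theorem F132247 : act 1 n9227 = n11706 := (sb E7059 (iv F54216))
theorem F132248 : act 5 n9227 = n7693 := (sb E7059 (iv D9769))
theorem E8814 : n12522 = n11790 := (((D11790).symm.trans (sb E7059 D12522))).symm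
theorem E8820 : n12359 = n7766 := ((D12359).symm.trans (sb E7063 F45940))
theorem F132249 : act 5 n9654 = n7765 := (sb E7063 (iv D9863))
theorem F132250 : act 2 n9223 = n7704 := (sb E7073 F45684)
theorem E8829 : n12211 = n11785 := (((D11785).symm.trans (sb E7073 (iv F56513)))).symm
theorem E8831 : n12542 = n11786 := (((D11786).symm.trans (sb E7073 D12542))).symm
theorem E8832 : n12379 = n11777 := ((((iv F54524)).symm.trans (sb E7073 (iv F57142)))).symm
theorem E8833 : n19270 = n12212 := (((D12212).symm.trans (sb E7074 (iv F87324)))).symm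
theorem E8835 : n19309 = n12159 := ((((iv F56329)).symm.trans (sb E7074 (iv F87506)))).symm
theorem F132251 : act 1 n9222 = n7719 := (sb E7075 F45687)
theorem F132252 : act 3 n9222 = n7705 := (sb E7075 F45688)
theorem E8836 : n12543 = n11753 := ((((iv F54416)).symm.trans (sb E7075 D12543))).symm
theorem F132253 : act 5 n9222 = n7704 := (sb E7075 (iv D9784))
theorem E8837 : n12544 = n11784 := (((D11784).symm.trans (sb E7075 D12544))).symm
theorem E8842 : n12560 = n12537 := ((((iv F57677)).symm.trans (sb E7078 (iv F57752)))).symm
theorem F132254 : act 6 n9781 = n7730 := (sb E7078 (iv D9822))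
theorem E8843 : n12601 = n12539 := (((D12539).symm.trans (sb E7078 D12601))).symm
theorem E8844 : n12540 = n11495 := ((D12540).symm.trans (sb E7078 (iv F53159)))
theorem E8846 : n19330 = n7507 := ((((iv F35810)).symm.trans (sb E7081 D19330))).symm
theorem F132255 : act 2 n9240 = n7620 := (sb E7082 (iv D9667))
theorem E8848 : n12158 = n11801 := (((D11801).symm.trans (sb E7082 (iv F56322)))).symm
theorem E8849 : n12257 = n11802 := (((D11802).symm.trans (sb E7082 (iv F56681)))).symm
theorem E8850 : n19333 = n12096 := ((((iv F56067)).symm.trans (sb E7083 D19333))).symm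
theorem F132256 : act 2 n9245 = n7530 := (sb E7086 (iv D9548))
theorem F132257 : act 0 n9815 = n11971 := (sb E7132 F70324)
theorem E8853 : n19618 = n12553 := (E8783).trans E8791
theorem E8854 : n19168 = n12589 := (((D12589).symm.trans (sb E7132 (iv F86881)))).symm
theorem E8855 : n19359 = n12582 := ((((iv F57813)).symm.trans (sb E7132 (iv F87787)))).symm
theorem E8856 : n12905 = n12589 := (((E8854).symm.trans (((iv F86879)).symm.trans (sb E7091 F75053)))).symm
theorem E8857 : n21239 = n20033 := ((((iv F90788)).symm.trans (sb E7091 D21239))).symm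
theorem E8858 : n20669 = n20625 := (((D20625).symm.trans (sb E7091 (iv F93090)))).symm
theorem E8860 : n12906 = n12582 := (((E8855).symm.trans (((iv F87784)).symm.trans (sb E7092 F75057)))).symm
theorem E8861 : n22879 = n20031 := ((D22879).symm.trans (sb E7093 (iv D25372)))
theorem E8863 : n22902 = n8230 := (E8401).trans E8413
theorem E8865 : n12559 = n7897 := ((D12559).symm.trans (sb E7100 F46592))
theorem E8867 : n12868 = n11728 := ((((iv F54311)).symm.trans (sb E7100 D12868))).symm
theorem F132271 : act 5 n9795 = n7883 := (sb E7100 (iv D10023))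
theorem E8869 : n12870 = n11486 := ((((iv F53120)).symm.trans (sb E7100 D12870))).symm
theorem E8870 : n13542 = n13409 := ((((iv F61148)).symm.trans (sb E7104 (iv D17475)))).symm
theorem E8871 : n22358 = n13403 := ((((iv F61128)).symm.trans (sb E7104 D22358))).symm
theorem E8873 : n12565 = n11988 := ((D12565).symm.trans (sb E7106 (iv F55535)))
theorem E8874 : n13407 = n12609 := (((D12609).symm.trans (sb E7107 (iv D17294)))).symm
theorem F132272 : act 7 n9815 = n7900 := (sb E7108 F46676)
theorem E8875 : n12608 = n11990 := (((iv F57899)).symm.trans (sb E7110 (iv F55541)))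
theorem E8877 : n12891 = n12609 := (((D12609).symm.trans (sb E7110 (iv F59001)))).symm
theorem E8878 : n12610 = n12572 := ((D12610).symm.trans (sb E7110 (iv F57780)))
theorem E8879 : n20679 = n11766 := ((((iv F54472)).symm.trans (sb E7567 (iv F93131)))).symm
theorem E8880 : n20649 = n12567 := ((((iv F57768)).symm.trans (sb E7567 (iv F93023)))).symm
theorem E8884 : n22151 = n12572 := (E8795).trans E8878
theorem E8887 : n17299 = n9831 := (((D9831).symm.trans (iv (sb E7114 (tr (iv D17370) E8645))))).symm
theorem E8888 : n17370 = n9831 := (E7114).trans E8887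
theorem E8889 : n22207 = n12614 := (((D12614).symm.trans (sb E8888 (iv F99285)))).symm
theorem E8891 : n22156 = n12614 := (((E8889).symm.trans ((D22207).symm.trans (sb E7115 (iv F99083))))).symm
theorem E8894 : n18762 = n11741 := ((((iv F54361)).symm.trans (sb E7119 (iv F84884)))).symm
theorem E8895 : n18746 = n12571 := ((((iv F57776)).symm.trans (sb E7119 (iv F84814)))).symm
theorem E8899 : n19169 = n12580 := ((((iv F57805)).symm.trans (sb E7120 (iv D24275)))).symm
theorem E8900 : n12630 = n12580 := (((iv F57980)).symm.trans (sb E7123 (tr F109155 E8899)))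
theorem E8901 : n19167 = n13567 := ((((iv F61759)).symm.trans (sb E7123 F109158))).symm
theorem F132274 : act 0 n9838 = n11837 := (sb E7160 F69394)
theorem E8902 : n18944 = n12621 := (((D12621).symm.trans (sb E7160 (iv F85822)))).symm
theorem E8907 : n22894 = n20101 := ((((iv F91032)).symm.trans (sb E7127 D22894))).symm
theorem F132279 : act 0 n9845 = n11721 := (sb E7133 F68696)
theorem F132280 : act 3 n9845 = n11706 := (sb E7133 F68698)
theorem F132281 : act 7 n9838 = n7906 := (sb E7134 F46699)
theorem F132286 : act 1 n6258 = n7730 := (sb E7140 (iv D9821))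
theorem F132287 : act 7 n6258 = n7734 := (sb E7140 F45799)
theorem F132288 : act 1 n9010 = n7900 := (sb E7142 F46602)
theorem E8911 : n12873 = n11460 := ((((iv F52987)).symm.trans (sb E7142 D12873))).symm
theorem E8914 : n12546 = n7759 := ((D12546).symm.trans (sb E7144 F45901))
theorem E8915 : n12547 = n11505 := ((D12547).symm.trans (sb E7144 (iv F53208)))
theorem F132289 : act 1 n9017 = n7722 := (sb E7145 F45697)
theorem F132290 : act 8 n9017 = n7705 := (sb E7145 (iv D9787))
theorem E8916 : n12548 = n11471 := ((((iv F53043)).symm.trans (sb E7145 D12548))).symm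
theorem F132291 : act 0 n9378 = n7734 := (sb E7146 (iv D9827))
theorem F132292 : act 1 n9378 = n11764 := (sb E7146 (iv F54465))
theorem F132293 : act 0 n9383 = n7758 := (sb E7147 F45911)
theorem F132294 : act 7 n9808 = n7758 := (sb E7149 (iv D9857))
theorem F132295 : act 1 n9200 = n7901 := (sb E7154 F46615)
theorem F132296 : act 1 n8992 = n7906 := (sb E7155 F46630)
theorem F132297 : act 1 n9254 = n7765 := (sb E7161 F45934)
theorem F132298 : act 6 n9254 = n7764 := (sb E7161 (iv D9862))
theorem F132299 : act 2 n6164 = n7692 := (sb E7165 (iv D9767))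
theorem E8924 : n19508 = n12074 := (((D12074).symm.trans (sb E7172 (iv F88452)))).symm
theorem E8925 : n12075 = n11925 := ((D12075).symm.trans (sb E7172 F70080))
theorem E8926 : n22440 = n21056 := (((F119178).symm.trans (sb E7174 (iv D28301)))).symm
theorem E8927 : n21150 = n18644 := (((iv F94876)).symm.trans (sb E7176 (iv F84305)))
theorem E8928 : n14068 = n12816 := ((((iv D16509)).symm.trans (sb E7176 (iv D18109)))).symm
theorem E8929 : n20955 = n20879 := (((iv F94161)).symm.trans (sb E7178 (iv F93873)))
theorem E8930 : n13610 = n12768 := (((F74460).symm.trans (sb E7178 (iv D17550)))).symm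
theorem E8932 : n12768 = n12672 := ((((iv F58158)).symm.trans (sb E7215 (tr (iv F61944) E8930)))).symm
theorem E8933 : n12816 = n11400 := ((((iv F52649)).symm.trans (sb E7215 (tr (iv F63823) E8928)))).symm
theorem E8935 : n19451 = n12655 := (((D12655).symm.trans (sb E7180 (iv F88200)))).symm
theorem E8936 : n12656 = n11904 := ((D12656).symm.trans (sb E7180 F69942))
theorem E8937 : n16380 = n9887 := (E7181).trans E7321
theorem E8938 : n12722 = n12678 := (((D12678).symm.trans (sb E8937 F74261))).symm
theorem E8939 : n20979 = n12372 := (E8691).trans E8754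
theorem E8940 : n12728 = n12679 := (((D12679).symm.trans (sb E8937 F74264))).symm
theorem E8941 : n20879 = n12671 := ((((iv F58154)).symm.trans (sb E8937 (tr (iv F94164) E8929)))).symm
theorem E8942 : n12682 = n12679 := ((((iv F58190)).symm.trans (sb E7227 (iv F58203)))).symm
theorem E8944 : n13610 = n12672 := (E8930).trans E8932
theorem F132306 : act 2 n9888 = n7837 := (sb E7184 F46329)
theorem E8946 : n12788 = n12680 := (((D12680).symm.trans (sb E7184 (iv F58591)))).symm
theorem E8947 : n12673 = n7851 := ((D12673).symm.trans (sb E7185 (iv D9983)))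
theorem F132307 : act 0 n9342 = n7786 := (sb E7190 F45980)
theorem F132308 : act 1 n9342 = n11811 := (sb E7190 (iv F54708))
theorem F132309 : act 6 n9342 = n7775 := (sb E7190 (iv D9872))
theorem E8953 : n19433 = n12652 := (((D12652).symm.trans (sb E7192 (iv F88120)))).symm
theorem E8954 : n19507 = n12103 := ((((iv F56097)).symm.trans (sb E7192 D19507))).symm
theorem E8955 : n12653 = n11885 := ((D12653).symm.trans (sb E7192 (iv D15264)))
theorem F132310 : act 0 n9325 = n7784 := (sb E7194 F45970)
theorem F132311 : act 1 n9325 = n11809 := (sb E7194 (iv F54696))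
theorem F132312 : act 6 n9325 = n7774 := (sb E7194 (iv D9870))
theorem E8957 : n20964 = n12710 := (((F74197).symm.trans (sb E7195 F118296))).symm
theorem E8958 : n20955 = n12671 := (E8929).trans E8941
theorem E8959 : n12759 = n7802 := (((F46039).symm.trans (sb E7198 D12759))).symm
theorem E8960 : n12709 = n12675 := ((((iv F58172)).symm.trans (sb E7198 (iv F58303)))).symm
theorem E8961 : n12745 = n12676 := (((D12676).symm.trans (sb E7198 (iv F58429)))).symm
theorem E8962 : n12677 = n7826 := ((D12677).symm.trans (sb E7198 F46260))
theorem E8964 : n19449 = n11812 := (((D11812).symm.trans (sb E7199 (iv F88191)))).symm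
theorem E8965 : n12658 = n11858 := ((D12658).symm.trans (sb E7200 F69680))
theorem E8966 : n12659 = n11857 := ((D12659).symm.trans (sb E7200 (iv D15224)))
theorem F132314 : act 0 n9309 = n7788 := (sb E7201 F45988)
theorem F132315 : act 1 n9309 = n11813 := (sb E7201 (iv F54718))
theorem F132316 : act 6 n9309 = n7776 := (sb E7201 (iv D9874))
theorem E8968 : n20991 = n12375 := (E8695).trans E8774
theorem E8969 : n12726 = n12678 := ((((iv F58187)).symm.trans (sb E7228 (iv D16389)))).symm
theorem E8970 : n12710 = n12674 := ((((iv F58169)).symm.trans (sb E7228 (tr (iv F94193) E8957)))).symm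
theorem E8971 : n12719 = n7808 := (((F46067).symm.trans (sb E7204 D12719))).symm
theorem E8972 : n12683 = n7804 := (((iv F58206)).symm.trans (sb E7204 (iv D9915)))
theorem E8973 : n12685 = n7807 := ((D12685).symm.trans (sb E7204 F46161))
theorem F132317 : act 1 n6211 = n7810 := (sb E7207 F46075)
theorem F132318 : act 7 n6211 = n7788 := (sb E7207 (iv D9893))
theorem F132319 : act 1 n6222 = n7803 := (sb E7209 F46044)
theorem F132320 : act 7 n6222 = n7784 := (sb E7209 (iv D9886))
theorem E8977 : n21068 = n13602 := ((((iv F61915)).symm.trans (sb E7214 (iv F94555)))).symm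
theorem E8978 : n13606 = n12766 := (((iv F61928)).symm.trans (sb E7214 (iv D16445)))
theorem E8979 : n14068 = n11400 := (E8928).trans E8933
theorem E8981 : n12813 = n11403 := ((((iv F52670)).symm.trans (sb E7216 (iv D16506)))).symm
theorem E8982 : n12766 = n12712 := ((((iv F58315)).symm.trans (sb E7232 (tr (iv F61927) E8978)))).symm
theorem E8983 : n12708 = n11403 := (((iv F58299)).symm.trans (sb E7232 (iv F52668)))
theorem E8984 : n20873 = n12716 := (((F74013).symm.trans (sb E7219 F118248))).symm
theorem E8985 : n20875 = n20872 := (((iv F93856)).symm.trans (sb E7219 (iv D26463)))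
theorem E8986 : n12716 = n12713 := (((F74194).symm.trans (sb E7220 (tr (iv D26465) E8984)))).symm
theorem E8987 : n22432 = n12749 := (((F74369).symm.trans (sb E7221 (iv D28292)))).symm
theorem E8989 : n12749 = n12717 := ((((iv F58336)).symm.trans (sb E7240 (tr D22432 E8987)))).symm
theorem E8990 : n13606 = n12712 := (E8978).trans E8982
theorem E8992 : n13168 = n12786 := (((iv F60169)).symm.trans (sb E7229 (iv D16471)))
theorem E8993 : n21105 = n13164 := ((((iv F60158)).symm.trans (sb E7229 D21105))).symm
theorem E8994 : n12786 = n12723 := ((((iv F58357)).symm.trans (sb E7239 (tr (iv F60168) E8992)))).symm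
theorem E8995 : n20841 = n11862 := ((((iv F54949)).symm.trans (sb E7736 (iv F93710)))).symm
theorem E8996 : n20893 = n12727 := (((D12727).symm.trans (sb E7736 (iv F93934)))).symm
theorem E8997 : n20872 = n12714 := ((((iv F58326)).symm.trans (sb E7736 (tr (iv F93857) E8985)))).symm
theorem E8998 : n20342 = n12727 := (((iv F91947)).symm.trans (sb E7235 (tr F118359 E8996)))
theorem E8999 : n12725 = n11864 := ((D12725).symm.trans (sb E7236 (iv F54957)))
theorem F132326 : act 3 n9919 = n7810 := (sb E7236 F46182)
theorem F132327 : act 1 n6231 = n7806 := (sb E7243 F46058)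
theorem F132328 : act 7 n6231 = n7786 := (sb E7243 (iv D9889))
theorem E9000 : n19257 = n11867 := (((D11867).symm.trans (sb E7250 (iv F87262)))).symm
theorem E9002 : n19116 = n11869 := (((D11869).symm.trans (sb E7250 (iv F86614)))).symm
theorem E9003 : n19210 = n12729 := ((((iv F58375)).symm.trans (sb E7251 (iv F87059)))).symm
theorem E9004 : n19258 = n12416 := ((((iv F57250)).symm.trans (sb E7251 D19258))).symm
theorem E9005 : n19063 = n12736 := (((D12736).symm.trans (sb E7251 (iv F86357)))).symm
theorem E9006 : n19308 = n12417 := (((D12417).symm.trans (sb E7252 D19308))).symm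
theorem E9007 : n19117 = n12418 := (((D12418).symm.trans (sb E7252 (iv F86619)))).symm
theorem E9008 : n12739 = n11677 := ((D12739).symm.trans (sb E7253 F68486))
theorem E9011 : n22509 = n22436 := ((((iv F100242)).symm.trans (sb E7257 (iv D28386)))).symm
theorem E9012 : n22775 = n7077 := ((((iv D8964)).symm.trans (sb E7260 (iv D28698)))).symm
theorem E9015 : n13742 = n8321 := (E8551).trans E8560
theorem E9016 : n13739 = n11415 := ((((iv F52744)).symm.trans (sb E7264 (iv D17732)))).symm
theorem E9018 : n12763 = n11415 := (((iv F58502)).symm.trans (sb E7275 (tr D13739 E9016)))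
theorem E9020 : n11884 = n7463 := (((iv F55051)).symm.trans (sb E7266 F44460))
theorem E9022 : n12758 = n7079 := (((F41883).symm.trans (sb E7268 (iv F58479)))).symm
theorem F132331 : act 5 n8943 = n7825 := (sb E7268 F46255)
theorem E9023 : n8563 = n7822 := ((F41886).symm.trans (sb E7268 (iv D9942)))
theorem E9026 : n20876 = n18616 := (((iv F93861)).symm.trans (sb E7270 (iv F84154)))
theorem E9027 : n18591 = n18553 := (((iv F84005)).symm.trans (sb E7271 (iv F83785)))
theorem E9028 : n13650 = n13608 := ((((iv D17547)).symm.trans (sb E7271 F79192))).symm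
theorem E9029 : n22437 = n21750 := ((D22437).symm.trans (sb E7271 (iv F97446)))
theorem E9030 : n13608 = n12770 := ((((iv F58527)).symm.trans (sb E7304 (tr (iv F62089) E9028)))).symm
theorem E9031 : n13650 = n12770 := (E9028).trans E9030
theorem E9032 : n18618 = n13715 := (((D13715).symm.trans (sb E7273 (iv F84165)))).symm
theorem E9034 : n13291 = n12782 := (((D12782).symm.trans (sb E7378 (iv F60653)))).symm
theorem E9035 : n13767 = n12783 := (((D12783).symm.trans (sb E7378 D13767))).symm
theorem E9036 : n13769 = n8069 := (E8219).trans E8231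
theorem E9037 : n13158 = n12783 := (((iv F60136)).symm.trans (sb E7277 (tr F79860 E9035)))
theorem E9039 : n13142 = n11899 := ((((iv F55121)).symm.trans (sb E7278 (iv F60064)))).symm
theorem E9040 : n13168 = n12723 := (E8992).trans E8994
theorem E9044 : n21691 = n12789 := (((D12789).symm.trans (sb E7770 (iv F97239)))).symm
theorem E9047 : n21811 = n11659 := ((((iv F53973)).symm.trans (sb E7286 (iv F97693)))).symm
theorem E9049 : n13170 = n12790 := (((D12790).symm.trans (sb E7287 (iv F60177)))).symm
theorem E9052 : n21750 = n12771 := ((((iv F58531)).symm.trans (sb E7288 (tr (iv F100245) E9029)))).symm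
theorem E9059 : n21778 = n11906 := ((((iv F55151)).symm.trans (sb E7293 D21778))).symm
theorem E9064 : n18590 = n11434 := (((iv F83998)).symm.trans (sb E7301 F66607))
theorem F132333 : act 0 n14567 = n12083 := (sb E7302 F66598)
theorem E9065 : n14118 = n11401 := ((F66433).symm.trans (sb E7302 (iv D14596)))
theorem E9067 : n8630 = n5390 := (E7972).trans E8615
theorem E9071 : n19668 = n11946 := (((D11946).symm.trans (sb E7311 (iv F89223)))).symm
theorem F132335 : act 0 n9395 = n7880 := (sb E7313 F46520)
theorem F132336 : act 1 n9395 = n11947 := (sb E7313 (iv F55370))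
theorem F132337 : act 6 n9395 = n7870 := (sb E7313 (iv D10005))
theorem F132338 : act 6 n10017 = n7895 := (sb E7348 (iv D10042))
theorem E9073 : n21225 = n11710 := ((((iv F54236)).symm.trans (sb E7319 D21225))).symm
theorem E9074 : n21227 = n11479 := ((((iv F53089)).symm.trans (sb E7319 D21227))).symm
theorem F132339 : act 7 n10018 = n7896 := (sb E7320 (iv D10044))
theorem F132340 : act 1 n10018 = n7882 := (sb E7322 (iv D10021))
theorem F132341 : act 2 n10018 = n7895 := (sb E7322 F46584)
theorem E9075 : n12932 = n12533 := ((((iv F57666)).symm.trans (sb E7323 (tr D13413 E8756)))).symm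
theorem F132342 : act 2 n10019 = n7917 := (sb E7325 F46743)
theorem E9077 : n12933 = n12863 := (((D12863).symm.trans (sb E7325 D12933))).symm
theorem F132343 : act 1 n6269 = n7894 := (sb E7326 F46579)
theorem F132344 : act 7 n6269 = n7880 := (sb E7326 (iv D10020))
theorem E9079 : n19633 = n11949 := (((D11949).symm.trans (sb E7328 (iv F89077)))).symm
theorem F132345 : act 0 n9371 = n7882 := (sb E7329 F46530)
theorem F132346 : act 2 n9371 = n7872 := (sb E7329 (iv D10007))
theorem F132347 : act 0 n9370 = n7883 := (sb E7330 F46534)
theorem F132348 : act 1 n9370 = n11950 := (sb E7330 (iv F55386))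
theorem F132349 : act 6 n9370 = n7872 := (sb E7330 (iv D10008))
theorem F132350 : act 3 n10017 = n7894 := (sb E7333 F46642)
theorem F132351 : act 7 n6257 = n7895 := (sb E7335 F46635)
theorem F132352 : act 2 n6253 = n7883 := (sb E7336 F46588)
theorem F132353 : act 6 n6253 = n7882 := (sb E7336 (iv D10022))
theorem F132354 : act 7 n6256 = n7883 := (sb E7337 (iv D10024))
theorem E9084 : n13392 = n12892 := (((D12892).symm.trans (sb E7384 (iv F61090)))).symm
theorem E9085 : n12931 = n12892 := (((E9084).symm.trans (((iv F61089)).symm.trans (sb E7345 F75315)))).symm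
theorem F132355 : act 1 n7896 = n10017 := (sb E7350 (iv D12858))
theorem E9091 : n20648 = n11985 := ((((iv F55524)).symm.trans (sb E7354 D20648))).symm
theorem E9092 : n19178 = n12897 := (((D12897).symm.trans (sb E7354 (iv F86930)))).symm
theorem E9093 : n18731 = n12899 := (((D12899).symm.trans (sb E7354 (iv F84758)))).symm
theorem F132356 : act 0 n9377 = n7895 := (sb E7357 (iv D10041))
theorem E9094 : n18745 = n11989 := ((((iv F55538)).symm.trans (sb E7358 D18745))).symm
theorem E9095 : n12901 = n11736 := (((iv F59032)).symm.trans (sb E7358 F67196))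
theorem E9097 : n19216 = n11987 := ((((iv F55532)).symm.trans (sb E7361 D19216))).symm
theorem E9101 : n19269 = n12575 := (((D12575).symm.trans (sb E7364 D19269))).symm
theorem E9102 : n12576 = n11765 := ((D12576).symm.trans (sb E7364 F68988))
theorem E9103 : n12578 = n11794 := ((D12578).symm.trans (sb E7365 F69184))
theorem F132357 : act 0 n9232 = n11744 := (sb E7366 (iv F54372))
theorem F132358 : act 3 n9232 = n7722 := (sb E7366 F45749)
theorem F132359 : act 8 n9232 = n7719 := (sb E7366 (iv D9807))
theorem E9104 : n12579 = n11689 := ((((iv F54129)).symm.trans (sb E7366 D12579))).symm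
theorem F132360 : act 8 n9380 = n11764 := (sb E7367 F68984)
theorem F132361 : act 8 n9208 = n7901 := (sb E7368 (iv D10052))
theorem F132362 : act 3 n9153 = n7906 := (sb E7369 F46693)
theorem E9109 : n18719 = n11747 := (((D11747).symm.trans (sb E7372 (iv F84697)))).symm
theorem E9112 : n13409 = n12605 := ((((iv F57892)).symm.trans (sb E7376 (tr D13542 E8870)))).symm
theorem E9113 : n13543 = n12926 := (((D12926).symm.trans (sb E7376 D13543))).symm
theorem E9115 : n13360 = n12008 := ((((iv F55612)).symm.trans (sb E7380 (iv F60953)))).symm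
theorem E9116 : n13393 = n12926 := ((((iv F59104)).symm.trans (sb E7380 D13393))).symm
theorem E9117 : n13389 = n12927 := (((D12927).symm.trans (sb E7380 (iv F61079)))).symm
theorem F132363 : act 3 n7406 = n6650 := (sb E7382 (iv D8421))
theorem F132364 : act 1 n7915 = n10039 := (sb E7386 F58901)
theorem F132365 : act 7 n7915 = n10019 := (sb E7386 (iv D12862))
theorem E9121 : n20842 = n11903 := ((((iv F55137)).symm.trans (sb E7390 (iv F93715)))).symm
theorem E9123 : n13411 = n12935 := (((D12935).symm.trans (sb E7391 D13411))).symm
theorem E9125 : n21187 = n12014 := ((((iv F55637)).symm.trans (sb E7393 (iv F95034)))).symm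
theorem E9128 : n13449 = n12935 := ((((iv F59136)).symm.trans (sb E7394 D13449))).symm
theorem F132366 : act 6 n7410 = n6650 := (sb E7396 (iv D8422))
theorem E9130 : n13413 = n12533 := (E8756).trans E9075
theorem E9132 : n22123 = n13515 := (((D13515).symm.trans (sb E7400 (iv F98966)))).symm
theorem F132367 : act 0 n10078 = n11720 := (sb E7612 F68692)
theorem F132368 : act 2 n10078 = n11705 := (sb E7612 F68693)
theorem E9134 : n18726 = n12939 := (((D12939).symm.trans (sb E7612 (iv F84734)))).symm
theorem E9135 : n13567 = n12618 := ((((iv F57937)).symm.trans (sb E7612 (tr D19167 E8901)))).symm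
theorem E9136 : n18943 = n12940 := (((D12940).symm.trans (sb E7612 (iv F85818)))).symm
theorem E9137 : n13559 = n12940 := ((D13559).symm.trans (sb E7403 (tr (iv D23966) E9136)))
theorem F132369 : act 3 n9385 = n11688 := (sb E7404 F67109)
theorem E9138 : n18712 = n11872 := ((((iv F54993)).symm.trans (sb E7404 (iv F84655)))).symm
theorem F132370 : act 0 n10128 = n11482 := (sb E7409 F67142)
theorem F132371 : act 2 n10128 = n11476 := (sb E7409 (iv D14695))
theorem E9140 : n18571 = n12999 := (((D12999).symm.trans (sb E7409 (iv F83898)))).symm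
theorem E9141 : n18654 = n13000 := (((D13000).symm.trans (sb E7409 (iv F84368)))).symm
theorem F132372 : act 0 n10129 = n11605 := (sb E7411 F67925)
theorem F132373 : act 2 n10129 = n11590 := (sb E7411 (iv D14852))
theorem E9143 : n18780 = n13001 := (((D13001).symm.trans (sb E7411 (iv F84987)))).symm
theorem E9144 : n12999 = n12350 := ((D12999).symm.trans (sb E7412 F59988))
theorem E9145 : n13000 = n12349 := ((D13000).symm.trans (sb E7412 F59986))
theorem E9146 : n13001 = n12348 := ((D13001).symm.trans (sb E7413 F59990))
theorem E9147 : n22261 = n13361 := (((D13361).symm.trans (sb E7870 (iv F99509)))).symm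
theorem E9149 : n19721 = n13361 := ((F112481).symm.trans (sb E7416 (tr F125182 E9147)))
theorem F132374 : act 3 n8167 = n10066 := (sb E7418 F59096)
theorem E9165 : n10849 = n10443 := (E7427).trans E7435
theorem E9166 : n13546 = n13433 := (((D13433).symm.trans (sb E9165 (iv F61668)))).symm
theorem F132379 : act 1 n8188 = n10066 := (sb E7432 (iv F46725))
theorem E9174 : n13519 = n13438 := (((D13438).symm.trans (sb E7434 (iv F61570)))).symm
theorem E9178 : n22351 = n22236 := ((((iv F99405)).symm.trans (sb E7437 (iv F99887)))).symm
theorem E9180 : n13500 = n8196 := ((((iv D10459)).symm.trans (sb E7439 (tr F128087 E8337)))).symm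
theorem E9183 : n22923 = n8196 := (E8337).trans E9180
theorem E9185 : n22230 = n21336 := (((F120375).symm.trans (sb E7450 (iv D28086)))).symm
theorem E9192 : n21272 = n19675 := ((F112212).symm.trans (sb E7456 F112246))
theorem E9195 : n16609 = n14699 := (((D14699).symm.trans (iv (sb E7459 (tr (iv F95214) E9074))))).symm
theorem E9196 : n16617 = n14699 := (E7459).trans E9195
theorem E9197 : n20725 = n18732 := (((D18732).symm.trans (sb E9196 (iv F93275)))).symm
theorem E9198 : n21277 = n18661 := ((((iv F84405)).symm.trans (sb E9196 D21277))).symm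
theorem E9199 : n21266 = n18732 := (((E9197).symm.trans ((F117272).symm.trans (sb E7460 F120121)))).symm
theorem E9202 : n21267 = n18661 := (((E9198).symm.trans ((F119987).symm.trans (sb E7462 F120124)))).symm
theorem E9206 : n22138 = n21334 := (((F120348).symm.trans (sb E7463 (iv D27988)))).symm
theorem E9207 : n21270 = n19672 := ((F112221).symm.trans (sb E7482 F112232))
theorem E9209 : n16606 = n15021 := (((D15021).symm.trans (iv (sb E7483 (tr (iv F95207) E9073))))).symm
theorem E9210 : n16615 = n15021 := (E7483).trans E9209
theorem E9211 : n20723 = n19179 := (((D19179).symm.trans (sb E9210 (iv F93269)))).symm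
theorem E9212 : n21273 = n12207 := (E8665).trans E8770
theorem E9213 : n20990 = n19174 := ((((iv F86913)).symm.trans (sb E9210 (iv F94278)))).symm
theorem E9214 : n21263 = n19179 := (((E9211).symm.trans ((F117265).symm.trans (sb E7484 F120119)))).symm
theorem E9215 : n20981 = n19174 := (((E9213).symm.trans ((F118402).symm.trans (sb E7485 F118811)))).symm
theorem F132389 : act 2 n24919 = n19673 := (sb E7486 F112237)
theorem E9216 : n24919 = n15005 := ((((iv F68655)).symm.trans (iv (sb E7486 (tr F112239 E8768))))).symm
theorem E9218 : n22081 = n19727 := (((F112435).symm.trans (sb E7487 (iv D27925)))).symm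
theorem E9219 : n21285 = n19227 := ((((iv D24354)).symm.trans (sb E7489 (iv D26976)))).symm
theorem E9220 : n19227 = n19161 := ((((iv F86845)).symm.trans (sb E7589 (tr (iv F95423) E9219)))).symm
theorem E9221 : n20740 = n19163 := (((D19163).symm.trans (sb E7589 (iv F93319)))).symm
theorem E9222 : n21295 = n18940 := ((((iv F85803)).symm.trans (sb E7589 D21295))).symm
theorem E9223 : n19282 = n19163 := ((F109857).symm.trans (sb E7491 (tr (iv D26313) E9221)))
theorem E9225 : n19080 = n18940 := (((iv D24165)).symm.trans (sb E7493 (tr F120243 E9222)))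
theorem E9226 : n19685 = n19646 := (((iv F89286)).symm.trans (sb E7495 F111953))
theorem E9227 : n21279 = n19616 := (((iv F95406)).symm.trans (sb E7495 (iv D24867)))
theorem E9229 : n20695 = n19693 := ((F109527).symm.trans (sb E7499 F112323))
theorem E9230 : n20059 = n19689 := ((F109528).symm.trans (sb E7499 (iv D24945)))
theorem E9231 : n19294 = n19250 := (((F109655).symm.trans (sb E7500 F109849))).symm
theorem E9232 : n20081 = n19249 := ((((iv D24385)).symm.trans (sb E7500 F109850))).symm
theorem E9233 : n19689 = n19196 := ((((iv F87000)).symm.trans (sb E7835 (tr (iv F90885) E9230)))).symm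
theorem E9234 : n20080 = n19183 := ((((iv F86953)).symm.trans (sb E7835 D20080))).symm
theorem E9235 : n19249 = n19198 := ((((iv F87009)).symm.trans (sb E7835 (tr D20081 E9232)))).symm
theorem E9237 : n20004 = n19199 := (((D19199).symm.trans (sb E7835 (iv F90671)))).symm
theorem E9238 : n19616 = n19184 := ((((iv F86955)).symm.trans (sb E7815 (tr (iv F95403) E9227)))).symm
theorem E9239 : n21287 = n19013 := ((((iv F86124)).symm.trans (sb E7815 D21287))).symm
theorem E9240 : n19352 = n19013 := (((iv F87744)).symm.trans (sb E7508 (tr F120018 E9239)))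
theorem E9241 : n22076 = n20798 := (((iv F98768)).symm.trans (sb E7511 (iv D26382)))
theorem E9242 : n19646 = n19190 := ((((iv F86982)).symm.trans (sb E7831 (tr (iv F89287) E9226)))).symm
theorem E9243 : n19243 = n19236 := (((D19236).symm.trans (sb E7831 (iv F87205)))).symm
theorem E9244 : n19692 = n19019 := ((((iv F86151)).symm.trans (sb E7831 D19692))).symm
theorem E9245 : n19650 = n19236 := (((E9243).symm.trans (((iv F87202)).symm.trans (sb E7515 F111967)))).symm
theorem E9246 : n19399 = n19019 := (((E9244).symm.trans (((iv F89315)).symm.trans (sb E7516 F110278)))).symm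
theorem E9247 : n20059 = n19196 := (E9230).trans E9233
theorem E9249 : n20081 = n19198 := (E9232).trans E9235
theorem E9250 : n20763 = n19203 := ((F106471).symm.trans (sb E7523 (iv D24323)))
theorem E9251 : n19471 = n19199 := (((E9237).symm.trans ((F106094).symm.trans (sb E7524 F110650)))).symm
theorem E9252 : n19226 = n11965 := ((D19226).symm.trans (sb E7536 F70287))
theorem F132422 : act 5 n15053 = n11950 := (sb E7536 (iv D15350))
theorem F132423 : act 6 n15010 = n11758 := (sb E7538 (iv D15093))
theorem E9254 : n19079 = n11834 := ((D19079).symm.trans (sb E7541 F69371))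
theorem F132424 : act 5 n14945 = n11813 := (sb E7541 (iv D15158))
theorem E9255 : n19355 = n19057 := ((((iv F86329)).symm.trans (sb E7541 D19355))).symm
theorem E9256 : n22260 = n13373 := ((((iv F61014)).symm.trans (sb E7543 (iv D28118)))).symm
theorem E9257 : n13542 = n12605 := (E8870).trans E9112
theorem E9260 : n19252 = n19089 := (((D19089).symm.trans (sb E7674 (iv F87240)))).symm
theorem E9261 : n19474 = n19069 := ((((iv F86385)).symm.trans (sb E7674 (iv F88293)))).symm
theorem E9262 : n19401 = n19089 := (((E9260).symm.trans (((iv F87237)).symm.trans (sb E7552 F110286)))).symm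
theorem E9263 : n19402 = n19069 := (((E9261).symm.trans (((iv F88290)).symm.trans (sb E7553 F110291)))).symm
theorem E9265 : n21825 = n21661 := ((((iv D27401)).symm.trans (sb E7559 F123050))).symm
theorem E9266 : n27401 = n14955 := (((D14955).symm.trans (iv (sb E7559 (tr (iv D27604) E9047))))).symm
theorem F132435 : act 5 n15059 = n11966 := (sb E7561 F70396)
theorem F132436 : act 6 n15070 = n11764 := (sb E7562 (iv D15102))
theorem F132437 : act 5 n14951 = n11835 := (sb E7563 F69532)
theorem F132438 : act 1 n15070 = n11990 := (sb E7564 F70400)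
theorem E9268 : n19639 = n19251 := (((D19251).symm.trans (sb E7564 (iv F89100)))).symm
theorem E9269 : n19250 = n19197 := (((iv F87231)).symm.trans (sb E7564 (iv F87005)))
theorem F132441 : act 1 n26150 = n20741 := (sb E7568 F117365)
theorem E9270 : n22159 = n20608 := ((((iv D26150)).symm.trans (sb E7568 (iv F117369)))).symm
theorem E9271 : n26150 = n15105 := (((D15105).symm.trans (iv (sb E7568 (tr F117368 E8879))))).symm
theorem E9272 : n25403 = n15106 := ((((iv F69091)).symm.trans (iv (sb E7569 (tr F119826 E9125))))).symm
theorem E9273 : n17382 = n15107 := (E7570).trans E7885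
theorem E9274 : n20608 = n19297 := ((((iv F87447)).symm.trans (sb E9273 (tr (iv F99091) E9270)))).symm
theorem E9275 : n13541 = n11770 := (((F69094).symm.trans (sb E9273 F78312))).symm
theorem E9276 : n19288 = n13373 := (((iv F87407)).symm.trans (sb E9273 (tr (iv F99505) E9256)))
theorem E9277 : n22229 = n19300 := (((D19300).symm.trans (sb E9273 (iv F99378)))).symm
theorem E9278 : n21661 = n19094 := ((((iv F86493)).symm.trans (sb E9273 (tr (iv F97761) E9265)))).symm
theorem E9279 : n22079 = n19300 := ((F124358).symm.trans (sb E7571 (tr F124919 E9277)))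
theorem E9280 : n19294 = n19197 := (E9231).trans E9269
theorem E9281 : n21825 = n19094 := (E9265).trans E9278
theorem E9284 : n21291 = n20764 := ((((iv F93411)).symm.trans (sb E7579 (iv F95441)))).symm
theorem E9285 : n20822 = n20747 := ((D20822).symm.trans (sb E7579 (iv F93346)))
theorem E9288 : n16202 = n15015 := ((((iv F68702)).symm.trans (iv (sb E7585 (tr (iv F87587) E8808))))).symm
theorem E9289 : n16265 = n15015 := (E7585).trans E9288
theorem E9290 : n20747 = n18728 := ((((iv F84743)).symm.trans (sb E9289 (tr (iv F93630) E9285)))).symm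
theorem E9291 : n20814 = n18945 := ((((iv F85828)).symm.trans (sb E9289 (iv F93597)))).symm
theorem E9294 : n20746 = n18946 := ((((iv F85833)).symm.trans (sb E7590 D20746))).symm
theorem F132448 : act 6 n15016 = n11794 := (sb E7592 F69214)
theorem E9296 : n19134 = n18946 := ((((iv F85833)).symm.trans (sb E7592 (iv F86701)))).symm
theorem F132449 : act 6 n14854 = n11682 := (sb E7594 (iv D14986))
theorem E9298 : n19108 = n18947 := (((D18947).symm.trans (sb E7594 (iv F86569)))).symm
theorem E9299 : n18571 = n12350 := (E9140).trans E9144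
theorem E9300 : n19736 = n18575 := (((D18575).symm.trans (sb E7611 (iv F89500)))).symm
theorem E9301 : n19790 = n18560 := ((((iv F83840)).symm.trans (sb E7611 D19790))).symm
theorem E9302 : n18919 = n18575 := ((F105663).symm.trans (sb E7598 (tr (iv D25000) E9300)))
theorem E9303 : n18560 = n11581 := (((F66837).symm.trans (sb E7599 (tr F112909 E9301)))).symm
theorem E9305 : n22320 = n18737 := (((D18737).symm.trans (sb E7602 (iv F99768)))).symm
theorem E9306 : n22371 = n18738 := (((D18738).symm.trans (sb E7602 D22371))).symm
theorem E9307 : n18917 = n18665 := ((((iv F84423)).symm.trans (sb E7602 F85674))).symm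
theorem E9308 : n18654 = n12349 := (E9141).trans E9145
theorem E9310 : n18597 = n11580 := (((iv F84049)).symm.trans (sb E7603 (iv D14840)))
theorem E9311 : n19704 = n11483 := (((F67179).symm.trans (sb E7604 (iv F89367)))).symm
theorem E9312 : n19734 = n18737 := (((D18737).symm.trans (sb E7604 (iv F89491)))).symm
theorem E9315 : n20762 = n19695 := ((((iv D24951)).symm.trans (sb E7605 (iv D26339)))).symm
theorem E9316 : n20822 = n18728 := (E9285).trans E9290
theorem E9317 : n23933 = n14651 := ((((iv F66915)).symm.trans (iv (sb E7607 (tr (iv D24961) E9311))))).symm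
theorem E9318 : n19790 = n11581 := (E9301).trans E9303
theorem E9321 : n19167 = n12618 := (E8901).trans E9135
theorem F132451 : act 5 n15036 = n13565 := (sb E7613 F78769)
theorem E9322 : n22370 = n18976 := ((((iv F85970)).symm.trans (sb E7613 (iv F99966)))).symm
theorem F132452 : act 5 n14874 = n13558 := (sb E7614 (iv D17490))
theorem E9323 : n18915 = n18793 := ((((iv F85056)).symm.trans (sb E7614 F85662))).symm
theorem E9324 : n18780 = n12348 := (E9143).trans E9146
theorem E9326 : n19705 = n11606 := ((((iv F53733)).symm.trans (sb E7616 D19705))).symm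
theorem F132453 : act 5 n9401 = n11720 := (sb E7617 (iv F131917))
theorem E9328 : n13565 = n11773 := ((((iv F54505)).symm.trans (sb E7617 D13565))).symm
theorem E9329 : n13558 = n12021 := (((D12021).symm.trans (sb E7617 (iv F61721)))).symm
theorem E9332 : n19693 = n19194 := ((((iv F86994)).symm.trans (sb E7621 (tr (iv F93189) E9229)))).symm
theorem E9333 : n19695 = n18739 := ((((iv F84789)).symm.trans (sb E7621 (tr D20762 E9315)))).symm
theorem E9334 : n20749 = n18977 := ((((iv F85973)).symm.trans (sb E7621 (iv F93355)))).symm
theorem E9336 : n20557 = n18979 := (((D18979).symm.trans (sb E7623 (iv F92661)))).symm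
theorem F132454 : act 2 n15038 = n11773 := (sb E7624 F68943)
theorem E9337 : n19247 = n19203 := ((((iv F87032)).symm.trans (sb E7624 (iv F87217)))).symm
theorem F132455 : act 6 n15038 = n11746 := (sb E7624 F68944)
theorem F132456 : act 8 n15038 = n11745 := (sb E7624 (iv D15074))
theorem E9338 : n19256 = n18978 := ((((iv F85977)).symm.trans (sb E7624 D19256))).symm
theorem F132457 : act 2 n14875 = n12021 := (sb E7626 F70571)
theorem E9339 : n19696 = n18977 := (((D18977).symm.trans (sb E7626 (iv F89330)))).symm
theorem E9340 : n19478 = n18979 := (((D18979).symm.trans (sb E7626 (iv F88311)))).symm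
theorem E9341 : n23931 = n14746 := ((((iv F67388)).symm.trans (iv (sb E7627 (tr (iv D24962) E9326))))).symm
theorem E9343 : n15877 = n14736 := ((((iv F67331)).symm.trans (sb E7630 F85706))).symm
theorem E9344 : n23939 = n9040 := (((F53258).symm.trans (sb E7630 (iv F107564)))).symm
theorem E9346 : n14838 = n14600 := ((((iv F66628)).symm.trans (sb E7630 (iv D18924)))).symm
theorem F132458 : act 0 n15040 = n11794 := (sb E7653 F69232)
theorem E9347 : n19141 = n18980 := ((((iv F85985)).symm.trans (sb E7653 (iv F86739)))).symm
theorem E9351 : n20023 = n19209 := (((D19209).symm.trans (sb E7635 (iv F90750)))).symm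
theorem E9353 : n20016 = n18982 := ((((iv F85992)).symm.trans (sb E7638 (iv F90722)))).symm
theorem E9354 : n19254 = n18980 := (((D18980).symm.trans (sb E7639 F109682))).symm
theorem E9355 : n19475 = n18982 := (((E9353).symm.trans ((F108764).symm.trans (sb E7640 (iv D24681))))).symm
theorem F132459 : act 2 n15037 = n12018 := (sb E7641 F70533)
theorem F132460 : act 8 n15037 = n11990 := (sb E7641 (iv D15410))
theorem E9356 : n20695 = n19194 := (E9229).trans E9332
theorem E9357 : n20762 = n18739 := (E9315).trans E9333
theorem E9358 : n24317 = n15069 := ((((iv F68920)).symm.trans (iv (sb E7644 (tr F109761 E9101))))).symm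
theorem E9361 : n19209 = n19031 := (((D19031).symm.trans (sb E7648 (tr F110001 E9351)))).symm
theorem F132461 : act 3 n15040 = n11746 := (sb E7649 F68934)
theorem F132462 : act 7 n15040 = n11744 := (sb E7649 F68936)
theorem F132463 : act 8 n15040 = n11743 := (sb E7649 (iv D15072))
theorem E9362 : n19412 = n19125 := ((((iv F86662)).symm.trans (sb E7676 D19412))).symm
theorem E9363 : n20023 = n19031 := (E9351).trans E9361
theorem F132464 : act 3 n15041 = n11745 := (sb E7655 F68929)
theorem F132465 : act 6 n15041 = n11743 := (sb E7655 (iv D15071))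
theorem F132466 : act 3 n15042 = n11870 := (sb E7657 F69749)
theorem F132467 : act 6 n15042 = n11868 := (sb E7657 (iv D15241))
theorem E9364 : n19125 = n19033 := (((iv F86662)).symm.trans (sb E7658 (iv F86211)))
theorem F132468 : act 9 n14993 = n11744 := (sb E7658 (iv D15073))
theorem E9365 : n19412 = n19033 := (E9362).trans E9364
theorem F132474 : act 0 n9363 = n11758 := (sb E7668 (iv D15092))
theorem F132475 : act 7 n9363 = n11764 := (sb E7668 F69030)
theorem F132476 : act 0 n9271 = n11682 := (sb E7672 (iv D14985))
theorem F132477 : act 7 n9271 = n11688 := (sb E7672 F68545)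
theorem E9366 : n19107 = n11840 := (((D11840).symm.trans (sb E7672 (iv F86564)))).symm
theorem E9367 : n20844 = n19460 := (((F110911).symm.trans (sb E7685 (iv D26424)))).symm
theorem E9368 : n13587 = n11830 := (((F69350).symm.trans (sb E7703 (iv D17515)))).symm
theorem E9369 : n19460 = n19347 := ((((iv F87720)).symm.trans (sb E7703 (tr (iv F93724) E9367)))).symm
theorem E9371 : n22374 = n19340 := ((((iv F87681)).symm.trans (sb E7703 (iv F99985)))).symm
theorem E9372 : n19517 = n19340 := ((F111258).symm.trans (sb E7687 (tr (iv D28221) E9371)))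
theorem E9373 : n19448 = n11833 := ((((iv F54821)).symm.trans (sb E7688 (iv F88186)))).symm
theorem E9375 : n19388 = n19351 := ((((iv F87739)).symm.trans (sb E7689 (iv F87930)))).symm
theorem E9376 : n19353 = n11861 := ((D19353).symm.trans (sb E7689 F69677))
theorem E9377 : n19432 = n19343 := ((((iv F87700)).symm.trans (sb E7689 (iv F88116)))).symm
theorem F132487 : act 0 n9313 = n11835 := (sb E7690 F69376)
theorem E9378 : n19349 = n11902 := (((D11902).symm.trans (sb E7690 (iv F87732)))).symm
theorem F132488 : act 7 n9313 = n11813 := (sb E7690 (iv D15159))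
theorem E9379 : n19345 = n11889 := ((((iv F55077)).symm.trans (sb E7690 (iv F87711)))).symm
theorem E9381 : n14035 = n11825 := ((((iv F54786)).symm.trans (sb E7692 (iv F63654)))).symm
theorem E9382 : n19543 = n19348 := (((D19348).symm.trans (sb E7693 (iv F88609)))).symm
theorem E9383 : n19815 = n12073 := (((F69324).symm.trans (sb E7694 (iv F89936)))).symm
theorem E9384 : n19579 = n12073 := (((F69324).symm.trans (sb E7695 (iv F88794)))).symm
theorem E9385 : n19341 = n11923 := ((D19341).symm.trans (sb E7695 (iv D15319)))
theorem F132489 : act 0 n9329 = n11828 := (sb E7697 F69338)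
theorem F132490 : act 7 n9329 = n11809 := (sb E7697 (iv D15152))
theorem E9386 : n20685 = n19694 := ((F108158).symm.trans (sb E7698 F112334))
theorem E9387 : n19994 = n19472 := ((F108451).symm.trans (sb E7699 (iv D24677)))
theorem E9388 : n20838 = n19391 := ((((iv F87945)).symm.trans (sb E7700 F112341))).symm
theorem E9389 : n21657 = n19392 := ((((iv F87950)).symm.trans (sb E7701 (iv F97092)))).symm
theorem E9390 : n19804 = n19381 := ((((iv F87901)).symm.trans (sb E7701 (iv F89873)))).symm
theorem E9391 : n20844 = n19347 := (E9367).trans E9369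
theorem E9392 : n19458 = n19391 := (((E9388).symm.trans (((iv F93700)).symm.trans (sb E7704 (iv D24657))))).symm
theorem E9393 : n19541 = n19392 := (((E9389).symm.trans (((iv F97093)).symm.trans (sb E7705 (iv D24772))))).symm
theorem E9395 : n19397 = n19394 := (((iv F87967)).symm.trans (sb E7708 (iv F87955)))
theorem E9396 : n19438 = n19385 := ((((iv F87919)).symm.trans (sb E7708 (iv F88143)))).symm
theorem E9397 : n19489 = n19386 := ((((iv F87924)).symm.trans (sb E7709 (iv F88362)))).symm
theorem E9398 : n19377 = n12090 := (((iv F87880)).symm.trans (sb E7710 F71062))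
theorem E9399 : n19576 = n12090 := (((E9398).symm.trans (((iv F87880)).symm.trans (sb E7711 D19576)))).symm
theorem F132491 : act 0 n9341 = n11831 := (sb E7712 F69355)
theorem F132492 : act 7 n9341 = n11811 := (sb E7712 (iv D15155))
theorem E9400 : n20878 = n19797 := (((iv F93866)).symm.trans (sb E7714 F112956))
theorem E9401 : n20962 = n19796 := ((D20962).symm.trans (sb E7714 (iv D25065)))
theorem E9402 : n21031 = n19885 := ((D21031).symm.trans (sb E7715 F113015))
theorem E9403 : n19796 = n19435 := ((((iv F88128)).symm.trans (sb E7750 (tr (iv F94183) E9401)))).symm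
theorem E9404 : n21065 = n19436 := ((((iv F88135)).symm.trans (sb E7750 D21065))).symm
theorem E9406 : n19436 = n12121 := (((F71281).symm.trans (sb E7718 (tr (iv D26733) E9404)))).symm
theorem E9408 : n15212 = n9459 := (((iv F69624)).symm.trans (sb E7720 F55997))
theorem E9410 : n20988 = n20305 := ((((iv F91815)).symm.trans (sb E7723 (iv D26627)))).symm
theorem E9411 : n20305 = n19453 := ((((iv F88210)).symm.trans (sb E7741 (tr D20988 E9410)))).symm
theorem E9413 : n13145 = n11859 := ((((iv D15227)).symm.trans (sb E7765 F76521))).symm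
theorem E9414 : n19863 = n19456 := (((D19456).symm.trans (sb E7765 (iv F90142)))).symm
theorem E9420 : n25792 = n15231 := ((((iv F69710)).symm.trans (iv (sb E7737 (tr F118056 E9121))))).symm
theorem E9421 : n26419 = n15231 := (E7737).trans E9420
theorem E9422 : n20840 = n19462 := (((D19462).symm.trans (sb E9421 (iv D26419)))).symm
theorem E9423 : n16323 = n15232 := (E7738).trans E7859
theorem E9425 : n19797 = n19441 := ((((iv F88158)).symm.trans (sb E9423 (tr (iv F93869) E9400)))).symm
theorem E9427 : n19971 = n19652 := (((iv F90564)).symm.trans (sb E7740 F112133))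
theorem E9428 : n20488 = n19408 := (((iv F92422)).symm.trans (sb E7743 (iv D24587)))
theorem E9435 : n19802 = n18640 := (((F105486).symm.trans (sb E7755 F112973))).symm
theorem E9436 : n22420 = n19798 := ((F105488).symm.trans (sb E7755 (iv D25068)))
theorem E9437 : n22499 = n12082 := ((((iv D15512)).symm.trans (sb E7757 F105038))).symm
theorem E9438 : n21978 = n19811 := (((D19811).symm.trans (sb E7757 F105039))).symm
theorem E9439 : n22517 = n12123 := (((F71044).symm.trans (sb E7759 D22517))).symm
theorem E9440 : n21756 = n19809 := (((D19809).symm.trans (sb E7759 (iv F97477)))).symm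
theorem E9441 : n22437 = n12771 := (E9029).trans E9052
theorem E9442 : n25082 = n15275 := ((((iv F69912)).symm.trans (iv (sb E7760 (tr F122692 E9059))))).symm
theorem E9443 : n27524 = n15275 := (E7760).trans E9442
theorem E9444 : n19809 = n19524 := ((((iv F88525)).symm.trans (sb E9443 (tr F122693 E9440)))).symm
theorem E9445 : n21885 = n19525 := (((D19525).symm.trans (sb E9443 F122695))).symm
theorem E9446 : n22635 = n19887 := (((D19887).symm.trans (sb E7761 D22635))).symm
theorem E9447 : n21872 = n19888 := (((D19888).symm.trans (sb E7761 (iv F97957)))).symm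
theorem E9448 : n21756 = n19524 := (E9440).trans E9444
theorem E9460 : n19536 = n13143 := (((iv F88577)).symm.trans (sb E7775 (iv D16931)))
theorem E9461 : n21662 = n19548 := (((D19548).symm.trans (sb E7775 D21662))).symm
theorem E9464 : n13270 = n11908 := (((F69998).symm.trans (sb E7777 F76892))).symm
theorem F132505 : act 2 n15194 = n13504 := (sb E7782 F73584)
theorem E9468 : n19694 = n19398 := ((((iv F87972)).symm.trans (sb E7782 (tr (iv F93156) E9386)))).symm
theorem F132506 : act 2 n15196 = n13326 := (sb E7783 F73107)
theorem F132507 : act 2 n9402 = n11837 := (sb E7784 (iv F131948))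
theorem E9469 : n13504 = n12019 := ((((iv F55662)).symm.trans (sb E7784 (iv F61515)))).symm
theorem E9470 : n13326 = n11911 := ((((iv F55176)).symm.trans (sb E7784 (iv F60802)))).symm
theorem F132508 : act 7 n15194 = n11992 := (sb E7785 F70540)
theorem E9471 : n19470 = n19408 := (((D19408).symm.trans (sb E7785 (iv F88277)))).symm
theorem F132509 : act 7 n15196 = n11872 := (sb E7786 F69768)
theorem F132510 : act 9 n15196 = n11871 := (sb E7786 (iv D15245))
theorem E9472 : n19472 = n19403 := ((((iv F87991)).symm.trans (sb E7794 (tr (iv F90644) E9387)))).symm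
theorem E9473 : n20685 = n19398 := (E9386).trans E9468
theorem E9474 : n19652 = n19464 := ((((iv F88253)).symm.trans (sb E7836 (tr (iv F90563) E9427)))).symm
theorem E9475 : n19994 = n19403 := (E9387).trans E9472
theorem F132511 : act 1 n15239 = n11992 := (sb E7791 F70408)
theorem F132512 : act 9 n15239 = n11968 := (sb E7791 (iv D15378))
theorem F132513 : act 3 n15199 = n11871 := (sb E7792 F69754)
theorem F132514 : act 7 n15199 = n11869 := (sb E7792 F69756)
theorem F132515 : act 8 n15199 = n11868 := (sb E7792 (iv D15242))
theorem E9479 : n19795 = n12145 := (((iv F89826)).symm.trans (sb E7802 F71108))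
theorem F132516 : act 2 n14638 = n12083 := (sb E7803 F71024)
theorem E9480 : n19801 = n11582 := (((F66842).symm.trans (sb E7803 (iv F89858)))).symm
theorem E9481 : n18643 = n12077 := (((iv F84299)).symm.trans (sb E7803 (iv D15507)))
theorem E9485 : n19642 = n19635 := ((F111941).symm.trans (sb E7807 F112041))
theorem E9486 : n24865 = n15344 := (((D15344).symm.trans (iv (sb E7807 (tr F112042 E9071))))).symm
theorem E9487 : n24882 = n15344 := (E7807).trans E9486
theorem E9488 : n19644 = n19609 := (((D19609).symm.trans (sb E9487 F112045))).symm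
theorem E9489 : n19614 = n19609 := ((((iv F88948)).symm.trans (sb E7819 (iv F88972)))).symm
theorem E9492 : n19682 = n19610 := (((D19610).symm.trans (sb E7810 (iv F89277)))).symm
theorem E9493 : n19611 = n11984 := ((D19611).symm.trans (sb E7810 (iv D15401)))
theorem E9494 : n19727 = n19157 := ((((iv F86830)).symm.trans (sb E7811 (tr D22081 E9218)))).symm
theorem E9496 : n19612 = n12011 := ((D19612).symm.trans (sb E7812 (iv D15435)))
theorem E9497 : n19728 = n19613 := (((D19613).symm.trans (sb E7812 D19728))).symm
theorem F132518 : act 0 n9393 = n11962 := (sb E7813 F70272)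
theorem F132519 : act 7 n9393 = n11947 := (sb E7813 (iv D15347))
theorem E9499 : n19632 = n11964 := ((((iv F55447)).symm.trans (sb E7816 (iv F89071)))).symm
theorem E9500 : n19615 = n11959 := (((iv F88976)).symm.trans (sb E7817 (iv D15363)))
theorem E9501 : n19617 = n11963 := ((D19617).symm.trans (sb E7817 F70355))
theorem F132520 : act 0 n9374 = n11966 := (sb E7818 F70290)
theorem F132521 : act 7 n9374 = n11950 := (sb E7818 (iv D15351))
theorem E9502 : n19635 = n19608 := ((((iv F88945)).symm.trans (sb E7820 (tr (iv D24893) E9485)))).symm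
theorem E9503 : n20604 = n19679 := (((iv F92848)).symm.trans (sb E7821 (iv D24934)))
theorem E9504 : n19679 = n19637 := ((((iv F89093)).symm.trans (sb E7833 (tr (iv F92847) E9503)))).symm
theorem E9505 : n20604 = n19637 := (E9503).trans E9504
theorem E9506 : n22054 = n19640 := (((D19640).symm.trans (sb E7844 (iv F98672)))).symm
theorem E9507 : n19726 = n19640 := (((E9506).symm.trans (((iv F98671)).symm.trans (sb E7824 F112527)))).symm
theorem E9508 : n19642 = n19608 := (E9485).trans E9502
theorem E9510 : n19685 = n19190 := (E9226).trans E9242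
theorem E9511 : n24855 = n15370 := ((((iv F70381)).symm.trans (iv (sb E7828 (tr F111903 E9493))))).symm
theorem E9513 : n20638 = n19687 := ((F109269).symm.trans (sb E7829 F112303))
theorem E9514 : n20039 = n19684 := ((F109272).symm.trans (sb E7829 (iv D24940)))
theorem E9515 : n19687 = n19645 := ((((iv F89124)).symm.trans (sb E7864 (tr (iv F92979) E9513)))).symm
theorem E9516 : n19684 = n19647 := ((((iv F89132)).symm.trans (sb E7860 (tr (iv F90809) E9514)))).symm
theorem E9517 : n19971 = n19464 := (E9427).trans E9474
theorem F132522 : act 4 n15375 = n11988 := (sb E7834 F70518)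
theorem F132523 : act 7 n15375 = n11987 := (sb E7834 (iv D15405))
theorem F132524 : act 2 n15369 = n11966 := (sb E7837 F70387)
theorem E9518 : n19672 = n19151 := ((((iv F86797)).symm.trans (sb E7838 (tr (iv D26959) E9207)))).symm
theorem E9520 : n21270 = n19151 := (E9207).trans E9518
theorem E9522 : n19675 = n18721 := ((((iv F84708)).symm.trans (sb E7840 (tr F120158 E9192)))).symm
theorem F132525 : act 0 n11980 = n10017 := (sb E7841 F58814)
theorem F132526 : act 2 n11980 = n10004 := (sb E7841 (iv D12839))
theorem E9524 : n20798 = n19233 := ((((iv F87168)).symm.trans (sb E7847 (tr D22076 E9241)))).symm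
theorem E9529 : n21272 = n18721 := (E9192).trans E9522
theorem E9532 : n24860 = n15400 := ((((iv F70498)).symm.trans (iv (sb E7852 (tr F116990 E9091))))).symm
theorem E9533 : n26147 = n15400 := (E7852).trans E9532
theorem E9534 : n20733 = n19237 := ((((iv F87184)).symm.trans (sb E9533 F116993))).symm
theorem E9537 : n23680 = n15404 := ((((iv F70514)).symm.trans (iv (sb E7855 (tr F112102 E9125))))).symm
theorem F132527 : act 0 n11986 = n10018 := (sb E7856 F58819)
theorem F132528 : act 1 n11986 = n15345 := (sb E7856 (iv F70264))
theorem F132529 : act 6 n11986 = n10004 := (sb E7856 (iv D12840))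
theorem F132530 : act 7 n15373 = n11989 := (sb E7863 F70528)
theorem F132531 : act 8 n15373 = n11988 := (sb E7863 (iv D15408))
theorem F132532 : act 2 n9399 = n11971 := (sb E7867 (iv F131959))
theorem E9541 : n22322 = n22056 := (((D22056).symm.trans (sb E7872 (iv F99775)))).symm
theorem E9542 : n22357 = n22051 := ((((iv F98658)).symm.trans (sb E7872 D22357))).symm
theorem F132534 : act 0 n12013 = n10019 := (sb E7875 F58823)
theorem F132535 : act 1 n12013 = n15346 := (sb E7875 (iv F70269))
theorem E9543 : n22081 = n19157 := (E9218).trans E9494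
theorem E9544 : n22159 = n19297 := (E9270).trans E9274
theorem E9547 : n20609 = n19730 := ((((iv F89474)).symm.trans (sb E7880 (iv F92865)))).symm
theorem E9550 : n15428 = n10401 := (((iv F70606)).symm.trans (sb E7883 (iv D13372)))
theorem E9554 : n22059 = n19732 := (((D19732).symm.trans (sb E7887 (iv F98692)))).symm
theorem E9573 : n9328 = n5918 := (((D5918).symm.trans (sb E7900 F55226))).symm
theorem E9590 : n15303 = n3610 := (((D3610).symm.trans (sb E7909 (iv D19559)))).symm
theorem E9592 : n9323 = n5920 := (((D5920).symm.trans (sb E7910 (iv D11914)))).symm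
theorem E9593 : n6747 = n5841 := ((D6747).symm.trans (sb E7912 F35099))
theorem E9594 : n6748 = n5840 := ((D6748).symm.trans (sb E7912 (iv D7359)))
theorem F132537 : act 4 n5367 = n5847 := (sb E7919 F35149)
theorem F132538 : act 6 n5367 = n5850 := (sb E7919 F35150)
theorem F132539 : act 4 n4667 = n4302 := (sb E7931 (iv D5368))
theorem F132540 : act 6 n4666 = n4302 := (sb E7932 (iv D5369))
theorem E9639 : n9971 = n5621 := (((D5621).symm.trans (sb E7937 (iv D12798)))).symm
theorem E9647 : n6758 = n6218 := ((D6758).symm.trans (sb E7944 F37041))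
theorem E9648 : n6759 = n6217 := ((D6759).symm.trans (sb E7944 (iv D7844)))
theorem F132541 : act 4 n5374 = n6221 := (sb E7947 F37065)
theorem F132542 : act 6 n5374 = n6225 := (sb E7947 F37066)
theorem F132543 : act 4 n4963 = n4307 := (sb E7959 (iv D5375))
theorem F132544 : act 6 n4962 = n4307 := (sb E7961 (iv D5376))
theorem E9677 : n10672 = n6777 := (((D6777).symm.trans (sb E7969 (iv F49249)))).symm
theorem E9678 : n6778 = n6623 := ((D6778).symm.trans (sb E7969 (iv D8388)))
theorem F132547 : act 4 n5387 = n6625 := (sb E7970 F39293)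
theorem E9680 : n6808 = n4333 := (((F25868).symm.trans (sb E9067 F40329))).symm
theorem F132548 : act 4 n5257 = n6581 := (sb E7980 (iv F31273))
theorem F132549 : act 2 n5271 = n4331 := (sb E7981 F25857)
theorem F132550 : act 4 n5271 = n4316 := (sb E7981 (iv D5388))
theorem F132551 : act 3 n5407 = n4355 := (sb E7988 F26114)
theorem F132552 : act 2 n5408 = n6634 := (sb E7986 (iv F31499))
theorem F132553 : act 7 n5408 = n4355 := (sb E7986 (iv D5441))
theorem F132554 : act 2 n5407 = n6625 := (sb E7987 (iv F31455))
theorem F132555 : act 5 n5408 = n4335 := (sb E7989 F25966)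
theorem F132556 : act 4 n3108 = n4332 := (sb E7992 F25958)
theorem F132557 : act 6 n3108 = n4331 := (sb E7992 (iv D5409))
theorem F132558 : act 2 n5270 = n4332 := (sb E7999 F25862)
theorem F132559 : act 6 n5270 = n4316 := (sb E7999 (iv D5389))
theorem E9701 : n9456 = n5843 := ((((iv F28201)).symm.trans (sb E8000 (iv F44471)))).symm
theorem E9702 : n10591 = n6223 := ((((iv F29759)).symm.trans (sb E8000 (iv F48918)))).symm
theorem E9703 : n8942 = n6224 := (((D6224).symm.trans (sb E8000 (iv F41877)))).symm
theorem F132560 : act 2 n5276 = n6605 := (sb E8001 F39040)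
theorem E9704 : n10625 = n6632 := (((D6632).symm.trans (sb E8001 (iv F49048)))).symm
theorem F132561 : act 7 n5276 = n6580 := (sb E8001 (iv D8328))
theorem E9945 : n28461 = n9474 := ((((iv F44563)).symm.trans (sb E8201 D28461))).symm
theorem E9946 : n24765 = n9474 := (((iv F111431)).symm.trans (sb E8202 (tr (iv F126638) E9945)))
theorem E9947 : n17659 = n16465 := (((F94647).symm.trans (sb E8202 F100829))).symm
theorem E9948 : n27625 = n26772 := ((((iv F119364)).symm.trans (sb E8202 (iv F123149)))).symm
theorem E9950 : n15284 = n10235 := (((D10235).symm.trans (sb E8203 F88567))).symm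
theorem E9952 : n17043 = n10254 := (((D10254).symm.trans (sb E8302 (iv F76979)))).symm
theorem E9953 : n16465 = n10246 := ((((iv F47517)).symm.trans (sb E8302 (tr D17659 E9947)))).symm
theorem E9954 : n16464 = n10254 := ((F94642).symm.trans (sb E8205 (tr (iv D21826) E9952)))
theorem E9962 : n10237 = n9311 := ((D10237).symm.trans (sb E8208 F55113))
theorem E9963 : n14947 = n10238 := (((D10238).symm.trans (sb E8208 (iv F68356)))).symm
theorem F132564 : act 3 n8051 = n9957 := (sb E8212 F58562)
theorem E9972 : n17659 = n10246 := (E9947).trans E9953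
theorem E9975 : n10257 = n9718 := (((iv F47554)).symm.trans (sb E8214 F57376))
theorem E9976 : n10258 = n9717 := ((D10258).symm.trans (sb E8214 (iv D12453)))
theorem E9980 : n10250 = n9958 := ((D10250).symm.trans (sb E8215 F58566))
theorem E9984 : n28552 = n27651 := ((((iv F123273)).symm.trans (sb E8216 (iv F127009)))).symm
theorem E9985 : n17725 = n17634 := (((F100692).symm.trans (sb E8216 F101185))).symm
theorem E9986 : n28574 = n27640 := ((((iv F123227)).symm.trans (sb E8216 (iv F127102)))).symm
theorem E9988 : n10699 = n10274 := (((D10274).symm.trans (sb E8241 F62534))).symm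
theorem E9989 : n17634 = n10265 := ((((iv F47584)).symm.trans (sb E8241 (tr (iv F79701) E9985)))).symm
theorem E9990 : n17762 = n10275 := (((D10275).symm.trans (sb E8241 (iv F79836)))).symm
theorem E9991 : n17047 = n10275 := ((F97783).symm.trans (sb E8218 (tr F101357 E9990)))
theorem E9994 : n10707 = n10280 := (((D10280).symm.trans (sb E9036 F62565))).symm
theorem E9995 : n17738 = n10267 := ((((iv F47595)).symm.trans (sb E9036 (iv F79747)))).symm
theorem E9996 : n17771 = n10281 := (((D10281).symm.trans (sb E9036 (iv F79867)))).symm
theorem E9997 : n10705 = n10274 := ((((iv F47630)).symm.trans (sb E9036 F62567))).symm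
theorem E9999 : n10680 = n10267 := ((F62440).symm.trans (sb E8220 (tr F100699 E9995)))
theorem E10001 : n17725 = n10265 := (E9985).trans E9989
theorem E10003 : n10335 = n10281 := ((F60633).symm.trans (sb E8221 (tr F100860 E9996)))
theorem F132569 : act 1 n8072 = n9957 := (sb E8223 (iv F46313))
theorem E10008 : n10698 = n10285 := (((D10285).symm.trans (sb E8223 D10698))).symm
theorem E10009 : n10706 = n10286 := (((D10286).symm.trans (sb E8224 F62531))).symm
theorem E10014 : n10290 = n6411 := (((F38005).symm.trans (sb E8226 F60394))).symm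
theorem E10015 : n10338 = n10285 := ((((iv F47676)).symm.trans (sb E8226 F60395))).symm
theorem E10017 : n10289 = n10286 := (((D10286).symm.trans (sb E8226 (iv D13221)))).symm
theorem F132571 : act 1 n8075 = n9963 := (sb E8228 (iv F46332))
theorem F132572 : act 7 n8075 = n6616 := (sb E8228 (iv D8381))
theorem F132573 : act 2 n8072 = n6616 := (sb E8230 F39249)
theorem E10022 : n27610 = n10292 := (((D10292).symm.trans (sb E8259 (iv F123079)))).symm
theorem E10023 : n28451 = n10293 := (((D10293).symm.trans (sb E8259 D28451))).symm
theorem E10024 : n10333 = n10292 := ((F60630).symm.trans (sb E8234 (tr (iv F123078) E10022)))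
theorem E10027 : n17625 = n10689 := (((F62187).symm.trans (sb E8237 F100633))).symm
theorem E10028 : n28389 = n17640 := ((((iv F79359)).symm.trans (sb E8237 (iv F126310)))).symm
theorem E10029 : n28416 = n10635 := (((F62190).symm.trans (sb E8237 (iv F126437)))).symm
theorem E10030 : n28417 = n17641 := (((D17641).symm.trans (sb E8237 D28417))).symm
theorem E10035 : n10635 = n10300 := ((((iv F47743)).symm.trans (sb E8267 (tr (iv F126436) E10029)))).symm
theorem E10036 : n10317 = n10293 := ((D10317).symm.trans (sb E8267 (tr (iv F126597) E10023)))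
theorem E10039 : n10689 = n10306 := ((((iv F47768)).symm.trans (sb E8263 (tr (iv F79297) E10027)))).symm
theorem E10040 : n17038 = n10325 := (((D10325).symm.trans (sb E8263 (iv F76956)))).symm
theorem E10041 : n17652 = n10320 := ((((iv F47819)).symm.trans (sb E8263 D17652))).symm
theorem E10042 : n10709 = n10325 := ((F62281).symm.trans (sb E8245 (tr F97718 E10040)))
theorem E10043 : n27572 = n17671 := (((D17671).symm.trans (sb E8245 (iv F122932)))).symm
theorem E10046 : n10710 = n10320 := ((F62285).symm.trans (sb E8246 (tr F100777 E10041)))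
theorem E10053 : n10316 = n6619 := ((D10316).symm.trans (sb E8250 F39103))
theorem E10055 : n10651 = n10313 := ((((iv F47793)).symm.trans (sb E8250 D10651))).symm
theorem F132578 : act 6 n8077 = n6410 := (sb E8251 (iv D8105))
theorem F132579 : act 5 n8075 = n6585 := (sb E8253 (iv D8335))
theorem E10058 : n10324 = n9966 := ((D10324).symm.trans (sb E8255 (iv F46343)))
theorem E10059 : n10337 = n9965 := (((iv F47875)).symm.trans (sb E8256 (iv F46340)))
theorem E10061 : n10342 = n10339 := (((D10339).symm.trans (sb E8256 (iv F47898)))).symm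
theorem E10062 : n17039 = n10340 := (((D10340).symm.trans (sb E8602 (iv F76961)))).symm
theorem E10063 : n17653 = n10341 := (((D10341).symm.trans (sb E8602 D17653))).symm
theorem E10064 : n17035 = n10340 := (((E10062).symm.trans (((iv F76960)).symm.trans (sb E8258 F97715)))).symm
theorem E10066 : n17011 = n10341 := (((iv F76850)).symm.trans (sb E8261 (tr F100795 E10063)))
theorem E10068 : n27614 = n10345 := (((D10345).symm.trans (sb E8284 D27614))).symm
theorem E10070 : n10373 = n10345 := ((D10373).symm.trans (sb E8264 (tr (iv F123098) E10068)))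
theorem E10072 : n10371 = n9968 := (((iv F48015)).symm.trans (sb E8266 (iv F46349)))
theorem E10076 : n10364 = n9969 := ((D10364).symm.trans (sb E8268 (iv F46352)))
theorem F132581 : act 7 n8129 = n6622 := (sb E8268 F39279)
theorem F132582 : act 2 n5266 = n6410 := (sb E8270 (iv D8104))
theorem F132583 : act 7 n5266 = n6413 := (sb E8270 F38126)
theorem E10082 : n10585 = n9139 := ((((iv F42911)).symm.trans (sb E8273 (iv F48896)))).symm
theorem E10084 : n10264 = n9733 := (((D9733).symm.trans (sb E8273 (iv F47581)))).symm
theorem F132584 : act 2 n5269 = n6424 := (sb E8274 (iv D8125))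
theorem F132585 : act 7 n5269 = n6430 := (sb E8274 F38212)
theorem E10090 : n10296 = n6425 := (((D6425).symm.trans (sb E8275 (iv F47728)))).symm
theorem E10093 : n10360 = n10167 := ((((iv F47175)).symm.trans (sb E8276 D10360))).symm
theorem F132586 : act 6 n8082 = n6424 := (sb E8276 (iv D8126))
theorem E10095 : n10355 = n10299 := (((D10299).symm.trans (sb E8276 (iv F47950)))).symm
theorem F132587 : act 2 n8122 = n6622 := (sb E8278 F39127)
theorem F132588 : act 1 n7838 = n6413 := (sb E8279 (iv D8108))
theorem F132589 : act 2 n7838 = n9720 := (sb E8279 (iv F45459))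
theorem F132590 : act 1 n7841 = n6430 := (sb E8280 (iv D8133))
theorem F132591 : act 2 n7841 = n9740 := (sb E8280 (iv F45529))
theorem F132592 : act 1 n7840 = n6439 := (sb E8281 F38292)
theorem F132593 : act 2 n7840 = n9752 := (sb E8281 (iv F45571))
theorem E10101 : n10297 = n6440 := (((D6440).symm.trans (sb E8282 (iv F47732)))).symm
theorem F132594 : act 7 n8114 = n6439 := (sb E8283 (iv D8146))
theorem E10104 : n10242 = n9150 := (((D9150).symm.trans (sb E8285 (iv F47503)))).symm
theorem F132595 : act 1 n7676 = n6395 := (sb E8287 F37939)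
theorem F132596 : act 2 n7676 = n9669 := (sb E8287 (iv F45295))
theorem F132597 : act 5 n7676 = n6379 := (sb E8287 (iv D8058))
theorem E10110 : n10263 = n9748 := (((D9748).symm.trans (sb E8287 D10263))).symm
theorem F132598 : act 3 n5129 = n6395 := (sb E8292 F38034)
theorem F132599 : act 5 n5129 = n6394 := (sb E8292 (iv D8079))
theorem E10115 : n10295 = n6437 := (((D6437).symm.trans (sb E8292 D10295))).symm
theorem F132600 : act 3 n8157 = n9390 := (sb E8298 F55602)
theorem F132601 : act 3 n8175 = n10065 := (sb E8303 F59093)
theorem F132602 : act 5 n8175 = n10073 := (sb E8303 F59094)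
theorem E10126 : n16235 = n10428 := (((D10428).symm.trans (sb E8303 (iv F73697)))).symm
theorem E10130 : n10397 = n9391 := ((D10397).symm.trans (sb E8308 F55606))
theorem E10131 : n15098 = n10398 := (((D10398).symm.trans (sb E8308 (iv F69057)))).symm
theorem E10138 : n16232 = n9774 := ((((iv F45655)).symm.trans (sb E8313 (iv F73683)))).symm
theorem E10139 : n10422 = n9826 := (((iv F48236)).symm.trans (sb E8313 F57887))
theorem E10140 : n14725 = n10423 := (((D10423).symm.trans (sb E8313 (iv F67275)))).symm
theorem E10145 : n10418 = n10067 := ((D10418).symm.trans (sb E8314 F59100))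
theorem F132604 : act 3 n7405 = n6451 := (sb E8318 (iv D8159))
theorem E10150 : n10404 = n9206 := ((((iv F43234)).symm.trans (sb E8318 D10404))).symm
theorem E10151 : n10405 = n9205 := ((D10405).symm.trans (sb E8319 (iv D11760)))
theorem F132605 : act 1 n7912 = n6475 := (sb E8325 F38407)
theorem E10157 : n10421 = n10040 := ((((iv F46649)).symm.trans (sb E8325 D10421))).symm
theorem F132606 : act 3 n7912 = n6459 := (sb E8325 (iv D8171))
theorem F132607 : act 1 n7832 = n6391 := (sb E8327 F37919)
theorem E10160 : n10256 = n9917 := ((((iv F46166)).symm.trans (sb E8327 D10256))).symm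
theorem F132608 : act 3 n7832 = n6376 := (sb E8327 (iv D8053))
theorem E10164 : n16175 = n9780 := ((((iv F45675)).symm.trans (sb E8329 (iv F73503)))).symm
theorem F132609 : act 1 n7732 = n6482 := (sb E8330 F38430)
theorem E10166 : n10430 = n9797 := ((((iv F45724)).symm.trans (sb E8330 (iv F48260)))).symm
theorem F132610 : act 3 n7732 = n6464 := (sb E8330 F38431)
theorem E10168 : n10432 = n9825 := (((D9825).symm.trans (sb E8330 D10432))).symm
theorem F132611 : act 1 n7731 = n6483 := (sb E8331 F38433)
theorem F132612 : act 2 n7731 = n9781 := (sb E8331 (iv F45677))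
theorem F132613 : act 5 n7731 = n6464 := (sb E8331 (iv D8179))
theorem E10169 : n10433 = n9824 := (((D9824).symm.trans (sb E8331 D10433))).symm
theorem E10170 : n10434 = n9011 := ((((iv F42257)).symm.trans (sb E8331 D10434))).symm
theorem F132614 : act 1 n8194 = n10074 := (sb E8333 (iv F46752))
theorem E10171 : n10850 = n10455 := (((D10455).symm.trans (sb E8333 (iv F49932)))).symm
theorem F132615 : act 7 n8194 = n6698 := (sb E8333 F39689)
theorem E10172 : n10851 = n10450 := ((((iv F48337)).symm.trans (sb E8333 D10851))).symm
theorem E10175 : n10465 = n10455 := ((((iv F48356)).symm.trans (sb E8336 (iv F48396)))).symm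
theorem E10176 : n10492 = n10456 := (((D10456).symm.trans (sb E8336 (iv F48503)))).symm
theorem E10179 : n28133 = n10458 := (((D10458).symm.trans (sb E9183 (iv F125261)))).symm
theorem E10180 : n28828 = n10452 := ((((iv F48346)).symm.trans (sb E9183 D28828))).symm
theorem E10181 : n17424 = n10458 := (((iv F78495)).symm.trans (sb E8338 (tr D28133 E10179)))
theorem E10183 : n17425 = n10452 := (((iv F78500)).symm.trans (sb E8339 (tr (iv F128196) E10180)))
theorem F132618 : act 1 n8199 = n10065 := (sb E8341 (iv F46722))
theorem E10185 : n10516 = n10463 := (((D10463).symm.trans (sb E8341 (iv F48589)))).symm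
theorem F132619 : act 1 n8200 = n10073 := (sb E8342 (iv F46749))
theorem E10186 : n10524 = n10464 := (((D10464).symm.trans (sb E8342 (iv F48615)))).symm
theorem F132620 : act 3 n5178 = n6483 := (sb E8346 F38532)
theorem F132621 : act 5 n5178 = n6482 := (sb E8346 (iv D8204))
theorem E10189 : n10471 = n6504 := (((D6504).symm.trans (sb E8346 D10471))).symm
theorem E10190 : n10472 = n6492 := ((((iv F30897)).symm.trans (sb E8346 D10472))).symm
theorem F132622 : act 2 n8199 = n6507 := (sb E8347 F38658)
theorem F132623 : act 5 n8199 = n6506 := (sb E8347 (iv D8239))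
theorem E10191 : n10522 = n10463 := (((D10463).symm.trans (sb E8347 D10522))).symm
theorem F132624 : act 2 n8200 = n6482 := (sb E8349 F38528)
theorem F132625 : act 3 n8200 = n6506 := (sb E8349 F38529)
theorem F132626 : act 6 n8200 = n6481 := (sb E8349 (iv D8203))
theorem E10194 : n10469 = n10464 := (((D10464).symm.trans (sb E8349 D10469))).symm
theorem E10196 : n17360 = n10448 := (((D10448).symm.trans (sb E8351 (iv F78225)))).symm
theorem E10198 : n10512 = n6509 := (((F38538).symm.trans (sb E8356 (iv F48573)))).symm
theorem E10199 : n10473 = n6508 := ((D10473).symm.trans (sb E8356 F38645))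
theorem E10205 : n24845 = n8925 := ((((iv F41775)).symm.trans (sb E8360 D24845))).symm
theorem E10211 : n16277 = n9502 := (((D9502).symm.trans (sb E8363 F86759))).symm
theorem F132627 : act 3 n7234 = n6369 := (sb E8368 (iv D8043))
theorem E10220 : n10241 = n9151 := ((((iv F42975)).symm.trans (sb E8368 D10241))).symm
theorem E10221 : n10134 = n9159 := (((D9159).symm.trans (sb E8368 (iv F47019)))).symm
theorem F132628 : act 3 n7284 = n6454 := (sb E8386 F38378)
theorem E10244 : n10410 = n9230 := (((D9230).symm.trans (sb E8386 D10410))).symm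
theorem F132629 : act 5 n7283 = n6454 := (sb E8387 (iv D8164))
theorem E10245 : n10411 = n9229 := (((D9229).symm.trans (sb E8387 D10411))).symm
theorem F132630 : act 6 n8207 = n6491 := (sb E8390 (iv D8218))
theorem E10249 : n10484 = n10475 := (((D10475).symm.trans (sb E8390 (iv F48475)))).symm
theorem E10250 : n17378 = n10494 := (((D10494).symm.trans (sb E8430 (iv F78296)))).symm
theorem E10251 : n10853 = n10494 := ((F63165).symm.trans (sb E8392 (tr F99466 E10250)))
theorem E10252 : n28065 = n17959 := ((((iv F80636)).symm.trans (sb E8392 (iv F124942)))).symm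
theorem E10256 : n17341 = n10501 := (((D10501).symm.trans (sb E8395 (iv F78143)))).symm
theorem E10258 : n10493 = n10077 := ((D10493).symm.trans (sb E8396 (iv F46764)))
theorem F132633 : act 7 n8221 = n6701 := (sb E8396 F39700)
theorem E10260 : n10500 = n10076 := (((iv F48531)).symm.trans (sb E8397 (iv F46761)))
theorem E10262 : n10852 = n10501 := (((D10501).symm.trans (sb E8397 D10852))).symm
theorem E10263 : n10527 = n10502 := (((D10502).symm.trans (sb E8397 (iv F48627)))).symm
theorem E10264 : n25370 = n17958 := (((D17958).symm.trans (sb E8398 (iv F114147)))).symm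
theorem E10265 : n28064 = n17397 := ((((iv F78370)).symm.trans (sb E8398 (iv F124938)))).symm
theorem E10266 : n17934 = n17337 := (((iv F80534)).symm.trans (sb E8398 (iv D22210)))
theorem E10267 : n28161 = n28101 := ((((iv F125105)).symm.trans (sb E8400 (iv F125403)))).symm
theorem E10269 : n17337 = n10505 := ((((iv F48549)).symm.trans (sb E8863 (tr F102127 E10266)))).symm
theorem F132636 : act 1 n7920 = n6497 := (sb E8403 (iv D8225))
theorem F132637 : act 2 n7920 = n9815 := (sb E8403 (iv F45775))
theorem F132638 : act 1 n7919 = n6506 := (sb E8405 F38655)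
theorem F132639 : act 2 n7919 = n9828 := (sb E8405 (iv F45819))
theorem E10273 : n10521 = n9833 := ((((iv F45836)).symm.trans (sb E8405 D10521))).symm
theorem F132640 : act 4 n8240 = n6511 := (sb E8407 F38673)
theorem E10276 : n17934 = n10505 := (E10266).trans E10269
theorem E10278 : n17338 = n10525 := (((D10525).symm.trans (sb E8411 (iv F78134)))).symm
theorem F132641 : act 1 n7755 = n6487 := (sb E8416 F38450)
theorem F132642 : act 2 n7755 = n9786 := (sb E8416 (iv F45695))
theorem F132643 : act 5 n7755 = n6469 := (sb E8416 F38451)
theorem E10289 : n10441 = n9018 := ((((iv F42289)).symm.trans (sb E8416 D10441))).symm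
theorem F132644 : act 3 n5201 = n6487 := (sb E8418 F38551)
theorem F132645 : act 5 n5201 = n6486 := (sb E8418 F38552)
theorem E10293 : n10479 = n6519 := ((((iv F30997)).symm.trans (sb E8418 D10479))).symm
theorem F132646 : act 2 n5204 = n6511 := (sb E8419 F38559)
theorem F132647 : act 6 n5204 = n6487 := (sb E8419 (iv D8211))
theorem E10294 : n10481 = n6527 := ((((iv F31027)).symm.trans (sb E8419 D10481))).symm
theorem F132648 : act 2 n8242 = n10447 := (sb E8425 F61244)
theorem E10301 : n17330 = n10526 := (((D10526).symm.trans (sb E8425 (iv F78098)))).symm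
theorem E10305 : n10549 = n10529 := (((D10529).symm.trans (sb E8428 (iv F48722)))).symm
theorem F132649 : act 7 n8246 = n6525 := (sb E8428 (iv D8263))
theorem E10306 : n10540 = n10530 := (((D10530).symm.trans (sb E8428 (iv F48684)))).symm
theorem E10309 : n10538 = n10079 := (((iv F48673)).symm.trans (sb E8432 (iv F46772)))
theorem E10311 : n10855 = n10539 := (((D10539).symm.trans (sb E8432 (iv F49948)))).symm
theorem F132653 : act 1 n7923 = n6520 := (sb E8437 (iv D8254))
theorem F132654 : act 2 n7923 = n9838 := (sb E8437 (iv F45851))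
theorem F132655 : act 1 n7922 = n6525 := (sb E8439 F38747)
theorem F132656 : act 2 n7922 = n9845 := (sb E8439 (iv F45876))
theorem F132657 : act 1 n8262 = n10078 := (sb E8441 (iv F46768))
theorem E10323 : n10854 = n10548 := (((D10548).symm.trans (sb E8441 D10854))).symm
theorem F132661 : act 2 n8214 = n6701 := (sb E8451 F39602)
theorem F132662 : act 1 n7120 = n6488 := (sb E8453 F38452)
theorem E10337 : n10442 = n8993 := ((((iv F42168)).symm.trans (sb E8453 D10442))).symm
theorem F132663 : act 3 n5189 = n6488 := (sb E8456 F38555)
theorem E10340 : n10480 = n6515 := ((((iv F30978)).symm.trans (sb E8456 D10480))).symm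
theorem F132664 : act 6 n8213 = n6514 := (sb E8457 (iv D8249))
theorem F132665 : act 1 n7677 = n6394 := (sb E8484 F37935)
theorem F132666 : act 3 n7677 = n6379 := (sb E8484 F37936)
theorem E10363 : n10262 = n9749 := (((D9749).symm.trans (sb E8484 D10262))).symm
theorem E10364 : n10145 = n9750 := (((D9750).symm.trans (sb E8484 (iv F47066)))).symm
theorem F132667 : act 1 n7685 = n6329 := (sb E8485 F37582)
theorem F132668 : act 3 n7685 = n6320 := (sb E8485 (iv D7976))
theorem E10365 : n10384 = n10165 := ((((iv F47167)).symm.trans (sb E8486 D10384))).symm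
theorem E10366 : n10363 = n10164 := (((D10164).symm.trans (sb E8487 (iv F47982)))).symm
theorem F132669 : act 1 n8281 = n10129 := (sb E8490 (iv F46992))
theorem F132673 : act 1 n8286 = n10128 := (sb E8498 (iv F46988))
theorem F132674 : act 1 n7756 = n6486 := (sb E8504 F38445)
theorem F132675 : act 3 n7756 = n6469 := (sb E8504 F38446)
theorem E10387 : n15323 = n5917 := (((D5917).symm.trans (sb E8508 F88747))).symm
theorem E10389 : n15266 = n9450 := (((D9450).symm.trans (sb E8511 (iv F69870)))).symm
theorem E10390 : n9451 = n9332 := ((D9451).symm.trans (sb E8511 F55220))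
theorem F132676 : act 3 n8289 = n9312 := (sb E8513 F55117)
theorem F132677 : act 6 n8289 = n9316 := (sb E8513 F55119)
theorem F132678 : act 6 n7371 = n6555 := (sb E8514 (iv D8290))
theorem E10406 : n24716 = n5941 := (((D5941).symm.trans (sb E8523 (iv F111220)))).symm
theorem E10407 : n15265 = n9478 := (((D9478).symm.trans (sb E8524 (iv D19509)))).symm
theorem E10413 : n10586 = n9945 := ((D10586).symm.trans (sb E8526 F58493))
theorem E10414 : n16414 = n10587 := (((D10587).symm.trans (sb E8526 (iv F74376)))).symm
theorem F132680 : act 3 n8300 = n9946 := (sb E8528 F58496)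
theorem F132681 : act 6 n8300 = n9950 := (sb E8528 F58498)
theorem F132682 : act 1 n7853 = n6580 := (sb E8529 F38929)
theorem F132683 : act 2 n7853 = n9883 := (sb E8529 (iv F46031))
theorem E10417 : n9985 = n8941 := (((iv F46431)).symm.trans (sb E8529 (iv F41870)))
theorem F132684 : act 6 n7853 = n6562 := (sb E8529 (iv D8301))
theorem E10420 : n10570 = n9303 := ((D10570).symm.trans (sb E8532 F55062))
theorem E10421 : n10571 = n9302 := ((D10571).symm.trans (sb E8532 (iv D11886)))
theorem F132685 : act 6 n7358 = n6554 := (sb E8533 (iv D8288))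
theorem F132686 : act 1 n7824 = n6581 := (sb E8537 F38933)
theorem E10427 : n10592 = n9909 := ((((iv F46135)).symm.trans (sb E8537 D10592))).symm
theorem F132687 : act 3 n7824 = n6563 := (sb E8537 (iv D8302))
theorem F132688 : act 1 n7823 = n6582 := (sb E8538 F38937)
theorem F132689 : act 2 n7823 = n9885 := (sb E8538 (iv F46040))
theorem E10429 : n10594 = n9933 := ((((iv F46220)).symm.trans (sb E8538 D10594))).symm
theorem F132690 : act 6 n7823 = n6563 := (sb E8538 (iv D8303))
theorem F132691 : act 3 n7348 = n6556 := (sb E8541 (iv D8291))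
theorem F132692 : act 6 n7347 = n6556 := (sb E8542 (iv D8292))
theorem E10434 : n17734 = n17711 := ((F100682).symm.trans (sb E8545 F101111))
theorem E10436 : n18169 = n17811 := (((F101551).symm.trans (sb E8546 (iv D23141)))).symm
theorem E10439 : n10679 = n10617 := (((D10617).symm.trans (sb E8582 F62436))).symm
theorem E10440 : n17724 = n10618 := (((D10618).symm.trans (sb E8582 D17724))).symm
theorem E10441 : n17610 = n10618 := (((iv D22520)).symm.trans (sb E8548 (tr F101182 E10440)))
theorem E10443 : n28590 = n16429 := ((((iv F74430)).symm.trans (sb E8549 (iv F127158)))).symm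
theorem E10444 : n17735 = n10673 := (((F62398).symm.trans (sb E8549 F101238))).symm
theorem E10445 : n28597 = n17683 := ((((iv F79537)).symm.trans (sb E8549 D28597))).symm
theorem E10447 : n10686 = n10620 := (((D10620).symm.trans (sb E9015 F62467))).symm
theorem E10448 : n10673 = n10614 := ((((iv F48999)).symm.trans (sb E9015 (tr (iv F79735) E10444)))).symm
theorem E10450 : n10683 = n10617 := ((((iv F49013)).symm.trans (sb E9015 (iv D13742)))).symm
theorem E10452 : n28415 = n10663 := ((((iv D13710)).symm.trans (sb E8552 (iv F126430)))).symm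
theorem E10455 : n10977 = n10732 := ((((iv D13803)).symm.trans (sb E8553 (iv D14119)))).symm
theorem E10456 : n10732 = n10624 := ((((iv F49042)).symm.trans (sb E8590 (tr (iv F50521) E10455)))).symm
theorem F132698 : act 1 n8326 = n9946 := (sb E8555 (iv F46270))
theorem F132699 : act 4 n8326 = n6605 := (sb E8555 F39194)
theorem E10457 : n10632 = n6596 := (((F38999).symm.trans (sb E8556 F62162))).symm
theorem F132700 : act 1 n8327 = n9950 := (sb E8557 (iv F46286))
theorem E10459 : n10628 = n10620 := ((D10628).symm.trans (sb E8557 (tr (iv F49305) E10447)))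
theorem F132701 : act 7 n8327 = n6607 := (sb E8557 (iv D8368))
theorem F132702 : act 2 n8327 = n6581 := (sb E8558 (iv D8329))
theorem F132703 : act 3 n8327 = n6606 := (sb E8558 F39046)
theorem F132704 : act 3 n8325 = n6634 := (sb E8559 F39350)
theorem F132705 : act 2 n8326 = n6607 := (sb E8561 F39202)
theorem F132706 : act 6 n8326 = n6606 := (sb E8561 (iv D8366))
theorem E10461 : n10663 = n10622 := ((((iv F49033)).symm.trans (sb E8562 (tr D28415 E10452)))).symm
theorem E10464 : n10662 = n6608 := (((D6608).symm.trans (sb E8563 (iv F49210)))).symm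
theorem F132707 : act 7 n5259 = n6606 := (sb E8563 F39183)
theorem F132708 : act 3 n5256 = n6582 := (sb E8564 F39051)
theorem F132709 : act 6 n5256 = n6581 := (sb E8564 (iv D8330))
theorem E10465 : n10634 = n6598 := ((D10634).symm.trans (sb E8565 F39141))
theorem F132710 : act 7 n5258 = n6582 := (sb E8566 (iv D8332))
theorem F132711 : act 3 n7805 = n9890 := (sb E8569 (iv F46064))
theorem E10482 : n17604 = n10667 := (((D10667).symm.trans (sb E8597 (iv F79201)))).symm
theorem E10483 : n17625 = n10306 := (E10027).trans E10039
theorem E10484 : n10688 = n10667 := ((F62183).symm.trans (sb E8585 (tr F100508 E10482)))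
theorem E10485 : n17626 = n17603 := (((iv F79300)).symm.trans (sb E8585 (iv D22510)))
theorem E10486 : n28388 = n17615 := ((((iv F79244)).symm.trans (sb E8585 D28388))).symm
theorem E10488 : n28418 = n17064 := ((((iv F77073)).symm.trans (sb E8586 D28418))).symm
theorem E10490 : n17735 = n10614 := (E10444).trans E10448
theorem F132713 : act 1 n8360 = n8943 := (sb E8612 (iv F41882))
theorem E10492 : n10674 = n8924 := (((iv F49256)).symm.trans (sb E8612 (iv F41768)))
theorem E10493 : n10666 = n9951 := ((D10666).symm.trans (sb E8593 (iv F46291)))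
theorem E10495 : n16310 = n9948 := ((((iv F46279)).symm.trans (sb E8594 (iv F73995)))).symm
theorem E10496 : n17547 = n9949 := (((D9949).symm.trans (sb E8594 (iv F78997)))).symm
theorem E10498 : n17603 = n10668 := ((((iv F49233)).symm.trans (sb E8595 (tr D17626 E10485)))).symm
theorem E10500 : n14564 = n10685 := (((D10685).symm.trans (sb E8596 (iv F66409)))).symm
theorem E10501 : n16992 = n10687 := (((D10687).symm.trans (sb E8596 (iv F76760)))).symm
theorem F132714 : act 1 n7829 = n6606 := (sb E8599 (iv D8365))
theorem F132715 : act 1 n7835 = n9918 := (sb E8601 F58197)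
theorem F132716 : act 7 n7835 = n9888 := (sb E8601 (iv D12681))
theorem E10506 : n17006 = n10708 := (((D10708).symm.trans (sb E8604 (iv F76827)))).symm
theorem E10510 : n9324 = n5921 := (((F33509).symm.trans (sb E8611 (iv F43828)))).symm
theorem F132717 : act 1 n7061 = n6625 := (sb E8611 F37044)
theorem F132718 : act 5 n7061 = n6221 := (sb E8611 F37046)
theorem E10511 : n11380 = n8401 := (((D8401).symm.trans (iv (sb E8613 (tr F62119 E9704))))).symm
theorem E10513 : n9333 = n5919 := (((F33502).symm.trans (sb E8614 (iv F43879)))).symm
theorem F132719 : act 1 n7060 = n6634 := (sb E8614 F37087)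
theorem F132720 : act 5 n7060 = n6225 := (sb E8614 F37090)
theorem F132721 : act 6 n5390 = n6634 := (sb E8615 (iv D8403))
theorem F132722 : act 3 n7893 = n9779 := (sb E8622 (iv F45672))
theorem F132723 : act 2 n8492 = n10443 := (sb E8649 (iv D13432))
theorem E10540 : n16618 = n15683 := (((D15683).symm.trans (sb E9212 F95384))).symm
theorem F132724 : act 0 n12216 = n15375 := (sb E8789 F89003)
theorem E10544 : n16567 = n15683 := ((((iv F71738)).symm.trans (sb E8789 F89005))).symm
theorem E10545 : n24268 = n15698 := (((D15698).symm.trans (sb E8789 (iv F109130)))).symm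
theorem E10546 : n24871 = n15631 := ((((iv F71553)).symm.trans (sb E8789 D24871))).symm
theorem E10547 : n16623 = n15698 := (((E10545).symm.trans (((iv F109126)).symm.trans (sb E8667 F95239)))).symm
theorem E10549 : n26221 = n26162 := ((((iv F117057)).symm.trans (sb E8667 (iv F117300)))).symm
theorem E10551 : n16393 = n15631 := ((F93974).symm.trans (sb E8668 (tr (iv F111978) E10546)))
theorem E10552 : n26509 = n26434 := ((D26509).symm.trans (sb E8668 (iv F118118)))
theorem F132727 : act 7 n12216 = n10045 := (sb E8670 (iv D12900))
theorem F132728 : act 0 n12229 = n15034 := (sb E8671 F86855)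
theorem E10555 : n24255 = n15715 := (((D15715).symm.trans (sb E8671 (iv F109063)))).symm
theorem E10556 : n24270 = n15716 := (((D15716).symm.trans (sb E8671 (iv F109140)))).symm
theorem F132729 : act 8 n12229 = n15010 := (sb E8671 (iv D19164))
theorem E10557 : n24271 = n15654 := ((((iv F71626)).symm.trans (sb E8671 D24271))).symm
theorem E10558 : n24511 = n15647 := ((((iv F71605)).symm.trans (sb E8672 (iv F110300)))).symm
theorem E10559 : n16631 = n15715 := (((D15715).symm.trans (sb E8673 D16631))).symm
theorem E10560 : n16196 = n15716 := (((D15716).symm.trans (sb E8673 (iv F73560)))).symm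
theorem E10565 : n26165 = n25821 := ((D26165).symm.trans (sb E8675 (iv F115898)))
theorem E10566 : n20619 = n12184 := (((D12184).symm.trans (iv (sb E8676 (tr (iv D20917) E8679))))).symm
theorem E10567 : n20917 = n12184 := (E8676).trans E10566
theorem E10568 : n25821 = n15656 := (((D15656).symm.trans (sb E10567 (iv F115897)))).symm
theorem E10569 : n26525 = n15648 := ((((iv F71608)).symm.trans (sb E10567 D26525))).symm
theorem F132731 : act 0 n12183 = n15239 := (sb E8677 (iv F69739))
theorem F132732 : act 7 n12183 = n9925 := (sb E8677 (iv D12735))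
theorem E10570 : n16401 = n15647 := ((((iv F71605)).symm.trans (sb E8677 D16401))).symm
theorem E10571 : n26526 = n26416 := ((((iv F118041)).symm.trans (sb E8678 D26526))).symm
theorem E10572 : n25751 = n15648 := (((iv F115628)).symm.trans (sb E8678 (tr (iv F118507) E10569)))
theorem F132734 : act 0 n12198 = n15042 := (sb E8680 F86904)
theorem E10575 : n16120 = n9537 := (((F56460).symm.trans (sb E8680 F86905))).symm
theorem E10577 : n23973 = n15665 := ((((iv F71669)).symm.trans (sb E8680 (iv F107760)))).symm
theorem F132735 : act 0 n12192 = n15199 := (sb E8681 F87807)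
theorem E10579 : n15978 = n15672 := (((D15672).symm.trans (sb E8682 (iv F72813)))).symm
theorem E10580 : n16404 = n15665 := ((((iv F71669)).symm.trans (sb E8682 D16404))).symm
theorem E10581 : n26165 = n15656 := (E10565).trans E10568
theorem E10582 : n20363 = n12199 := (((D12199).symm.trans (iv (sb E8683 (tr F92955 E10575))))).symm
theorem E10583 : n20631 = n12199 := (E8683).trans E10582
theorem E10584 : n25763 = n15667 := ((((iv F71676)).symm.trans (sb E10583 (iv F115682)))).symm
theorem E10586 : n26530 = n25469 := ((((iv F114540)).symm.trans (sb E8684 D26530))).symm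
theorem E10587 : n25825 = n15667 := (((E10584).symm.trans (((iv F115681)).symm.trans (sb E8684 (iv F115910))))).symm
theorem F132739 : act 7 n12192 = n9927 := (sb E8685 F58404)
theorem F132740 : act 0 n12240 = n15041 := (sb E8688 F86899)
theorem F132741 : act 8 n12240 = n15016 := (sb E8688 (iv D19172))
theorem F132742 : act 3 n12240 = n9808 := (sb E8689 F57793)
theorem F132743 : act 6 n12240 = n9806 := (sb E8689 (iv D12577))
theorem E10589 : n27487 = n15885 := (((D15885).symm.trans (sb E8749 (iv F122552)))).symm
theorem E10591 : n24647 = n15884 := ((((iv F72498)).symm.trans (sb E8939 (iv F110917)))).symm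
theorem E10592 : n16382 = n15910 := (((D15910).symm.trans (sb E8939 F94242))).symm
theorem E10593 : n26615 = n15911 := (((D15911).symm.trans (sb E8939 D26615))).symm
theorem E10594 : n26616 = n15900 := ((((iv F72563)).symm.trans (sb E8939 D26616))).symm
theorem E10595 : n24761 = n15885 := (((iv F111415)).symm.trans (sb E8692 (tr (iv F122550) E10589)))
theorem E10596 : n25803 = n15911 := (((E10593).symm.trans (((iv F118818)).symm.trans (sb E8692 (iv F115821))))).symm
theorem E10597 : n16973 = n16473 := (((F94634).symm.trans (sb E8692 (iv D21724)))).symm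
theorem E10598 : n27490 = n26042 := ((((iv F116584)).symm.trans (sb E8692 D27490))).symm
theorem E10601 : n26501 = n15900 := (((E10594).symm.trans (((iv F118822)).symm.trans (sb E8693 (iv F118412))))).symm
theorem E10604 : n16391 = n15914 := (((D15914).symm.trans (sb E8968 F94279))).symm
theorem E10606 : n16388 = n15910 := ((((iv F72597)).symm.trans (sb E8968 (iv D20991)))).symm
theorem E10609 : n26784 = n16961 := ((((iv F76646)).symm.trans (sb E8696 D26784))).symm
theorem E10610 : n16319 = n15914 := ((((iv F72612)).symm.trans (sb E8792 F93920))).symm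
theorem E10615 : n24516 = n16010 := ((((iv F72925)).symm.trans (sb E8721 (iv F110334)))).symm
theorem E10616 : n16399 = n16010 := (((E10615).symm.trans (((iv F110331)).symm.trans (sb E8699 F93995)))).symm
theorem E10617 : n26513 = n26431 := ((((iv F118108)).symm.trans (sb E8699 (iv F118452)))).symm
theorem E10618 : n26484 = n26446 := (((D26446).symm.trans (sb E8699 (iv F118337)))).symm
theorem E10620 : n17145 = n16969 := ((((iv F76672)).symm.trans (sb E8700 (iv D21966)))).symm
theorem E10621 : n27796 = n16963 := ((((iv F76652)).symm.trans (sb E8700 D27796))).symm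
theorem E10624 : n15966 = n15234 := ((D15966).symm.trans (sb E8702 (iv F69721)))
theorem E10626 : n16395 = n15967 := (((D15967).symm.trans (sb E8702 D16395))).symm
theorem E10627 : n15960 = n9921 := (((iv F72754)).symm.trans (sb E8702 (iv D12730)))
theorem E10628 : n16396 = n15954 := ((((iv F72741)).symm.trans (sb E8702 D16396))).symm
theorem E10629 : n16967 = n16037 := (((D16037).symm.trans (sb E8703 (iv D21715)))).symm
theorem E10631 : n16016 = n15237 := ((D16016).symm.trans (sb E8704 (iv F69731)))
theorem E10633 : n16375 = n15994 := ((((iv F72876)).symm.trans (sb E8704 (iv F74244)))).symm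
theorem E10634 : n16398 = n16017 := (((D16017).symm.trans (sb E8704 (iv F74318)))).symm
theorem E10635 : n16004 = n9924 := (((iv F72906)).symm.trans (sb E8704 F58387))
theorem E10636 : n16036 = n15236 := (((iv F73008)).symm.trans (sb E8705 (iv F69727)))
theorem E10637 : n16330 = n9721 := (((F57395).symm.trans (sb E8705 (iv F74078)))).symm
theorem E10638 : n16384 = n16037 := (((D16037).symm.trans (sb E8705 (iv F74275)))).symm
theorem E10639 : n16038 = n15973 := ((D16038).symm.trans (sb E8705 (iv F72795)))
theorem E10650 : n16970 = n16041 := (((D16041).symm.trans (sb E8709 (iv D21720)))).symm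
theorem E10663 : n16290 = n14900 := ((((iv F68136)).symm.trans (sb E8714 (iv F73913)))).symm
theorem E10664 : n15889 = n14946 := (((D14946).symm.trans (sb E8714 (iv F72521)))).symm
theorem F132749 : act 1 n7809 = n9716 := (sb E8715 (iv D12451))
theorem F132750 : act 7 n7809 = n9720 := (sb E8715 F57370)
theorem E10670 : n16327 = n15043 := ((((iv F68815)).symm.trans (sb E8716 D16327))).symm
theorem F132751 : act 5 n12406 = n9891 := (sb E8716 (iv D12684))
theorem E10671 : n15961 = n15916 := ((D15961).symm.trans (sb E8716 (iv F72621)))
theorem E10672 : n16329 = n15946 := ((((iv F72720)).symm.trans (sb E8716 D16329))).symm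
theorem F132752 : act 6 n12377 = n9716 := (sb E8717 (iv D12452))
theorem E10674 : n16005 = n15919 := (((D15919).symm.trans (sb E8717 (iv F72910)))).symm
theorem E10675 : n16316 = n15986 := ((((iv F72845)).symm.trans (sb E8719 (iv F74026)))).symm
theorem E10676 : n16332 = n14671 := ((((iv F67020)).symm.trans (sb E8719 D16332))).symm
theorem F132753 : act 0 n11865 = n9720 := (sb E8720 (iv D12457))
theorem F132754 : act 1 n11865 = n14951 := (sb E8720 (iv F68373))
theorem F132755 : act 0 n12478 = n15196 := (sb E8722 F87793)
theorem E10677 : n23970 = n16064 := (((D16064).symm.trans (sb E8722 (iv F107745)))).symm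
theorem F132756 : act 0 n11870 = n9752 := (sb E8723 F57538)
theorem F132757 : act 1 n11870 = n14993 := (sb E8723 (iv F68585))
theorem E10679 : n16072 = n15244 := (((D15244).symm.trans (sb E8723 (iv F73142)))).symm
theorem E10681 : n15925 = n9753 := (((D9753).symm.trans (sb E8724 (iv F72658)))).symm
theorem F132758 : act 7 n12419 = n9752 := (sb E8725 (iv D12500))
theorem E10684 : n16074 = n15981 := (((D15981).symm.trans (sb E8725 (iv F73149)))).symm
theorem E10685 : n16406 = n16073 := (((D16073).symm.trans (sb E8726 D16406))).symm
theorem E10687 : n26533 = n25466 := ((((iv F114527)).symm.trans (sb E8727 (iv F118536)))).symm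
theorem E10688 : n25828 = n25760 := ((((iv F115670)).symm.trans (sb E8727 (iv F115922)))).symm
theorem F132760 : act 0 n11871 = n9740 := (sb E8728 (iv D12484))
theorem F132761 : act 1 n11871 = n14978 := (sb E8728 (iv F68514))
theorem F132762 : act 1 n7814 = n9732 := (sb E8730 (iv D12472))
theorem F132763 : act 7 n7814 = n9740 := (sb E8730 F57447)
theorem F132764 : act 7 n12478 = n9930 := (sb E8731 F58413)
theorem E10693 : n15896 = n14967 := (((D14967).symm.trans (sb E8732 (iv F72550)))).symm
theorem F132765 : act 1 n11673 = n9927 := (sb E8733 F58243)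
theorem E10695 : n16337 = n14935 := ((((iv F68304)).symm.trans (sb E8733 (iv F74108)))).symm
theorem E10696 : n15924 = n14973 := (((D14973).symm.trans (sb E8733 (iv F72654)))).symm
theorem E10697 : n16056 = n15756 := ((((iv F72020)).symm.trans (sb E8734 D16056))).symm
theorem F132766 : act 6 n12383 = n9732 := (sb E8734 (iv D12473))
theorem E10699 : n15927 = n14685 := ((D15927).symm.trans (sb E8734 (iv F67088)))
theorem F132767 : act 1 n11466 = n9930 := (sb E8735 F58254)
theorem E10703 : n15893 = n9839 := (((D9839).symm.trans (sb E8738 (iv F72538)))).symm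
theorem F132768 : act 0 n11683 = n9669 := (sb E8739 F57071)
theorem F132769 : act 1 n11683 = n14854 := (sb E8739 (iv F67935))
theorem F132770 : act 5 n11683 = n9655 := (sb E8739 (iv D12361))
theorem E10704 : n15895 = n14988 := (((D14988).symm.trans (sb E8739 D15895))).symm
theorem F132771 : act 1 n11748 = n9925 := (sb E8744 F58236)
theorem E10708 : n15922 = n15077 := (((D15077).symm.trans (sb E8744 (iv F72646)))).symm
theorem F132772 : act 1 n11776 = n9692 := (sb E8745 F57143)
theorem F132773 : act 3 n11776 = n9669 := (sb E8745 F57144)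
theorem F132774 : act 5 n11776 = n9668 := (sb E8745 (iv D12380))
theorem E10709 : n15923 = n15117 := (((D15117).symm.trans (sb E8745 D15923))).symm
theorem E10713 : n24924 = n16103 := ((((iv F73262)).symm.trans (sb E8750 (iv F112243)))).symm
theorem F132775 : act 5 n12512 = n15437 := (sb E8750 F89404)
theorem E10714 : n24432 = n16105 := (((D16105).symm.trans (sb E8750 (iv F109878)))).symm
theorem F132776 : act 2 n12511 = n15394 := (sb E8751 F89231)
theorem F132777 : act 0 n12531 = n15394 := (sb E8752 (iv F70474))
theorem F132778 : act 3 n12531 = n10039 := (sb E8752 F58995)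
theorem E10716 : n16608 = n16132 := (((D16132).symm.trans (sb E8752 D16608))).symm
theorem E10717 : n16620 = n16133 := (((D16133).symm.trans (sb E8753 F95349))).symm
theorem E10720 : n16139 = n9796 := (((F57661).symm.trans (sb E8755 F93055))).symm
theorem E10721 : n16184 = n16132 := ((((iv F73364)).symm.trans (sb E8755 F93056))).symm
theorem E10723 : n16138 = n16133 := (((D16133).symm.trans (sb E8755 (iv D20659)))).symm
theorem E10725 : n17304 = n16135 := (((D16135).symm.trans (sb E9130 D17304))).symm
theorem E10726 : n17283 = n16136 := (((D16136).symm.trans (sb E9130 (iv F77939)))).symm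
theorem E10727 : n16473 = n15912 := ((((iv F72606)).symm.trans (sb E9130 (tr (iv F76688) E10597)))).symm
theorem E10728 : n16244 = n16135 := ((F93496).symm.trans (sb E8757 (tr F99099 E10725)))
theorem E10735 : n15887 = n15225 := ((D15887).symm.trans (sb E8761 F88195))
theorem E10744 : n24881 = n15008 := (((D15008).symm.trans (sb E8764 (iv F112037)))).symm
theorem F132780 : act 0 n11979 = n9779 := (sb E8765 F57598)
theorem E10746 : n16106 = n15365 := ((((iv F70361)).symm.trans (sb E8765 D16106))).symm
theorem F132781 : act 2 n11979 = n9764 := (sb E8765 (iv D12514))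
theorem E10747 : n15673 = n15393 := (((D15393).symm.trans (sb E8765 (iv F71700)))).symm
theorem E10748 : n16107 = n15055 := ((((iv F68872)).symm.trans (sb E8765 D16107))).symm
theorem E10749 : n16098 = n15395 := (((D15395).symm.trans (sb E8765 (iv F73245)))).symm
theorem E10750 : n24356 = n15674 := (((D15674).symm.trans (sb E8766 (iv F109540)))).symm
theorem E10751 : n16108 = n15054 := ((D16108).symm.trans (sb E8767 (iv D19228)))
theorem E10753 : n24358 = n16099 := ((((iv F73248)).symm.trans (sb E8767 D24358))).symm
theorem F132782 : act 0 n12535 = n15403 := (sb E8769 (iv F70508))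
theorem F132783 : act 7 n12535 = n10043 := (sb E8769 (iv D12898))
theorem E10755 : n16621 = n16125 := ((((iv F73341)).symm.trans (sb E8769 D16621))).symm
theorem E10756 : n16177 = n15684 := (((D15684).symm.trans (sb E8770 (iv F73509)))).symm
theorem F132784 : act 1 n12531 = n10043 := (sb E8772 F59013)
theorem E10762 : n15962 = n15915 := (((D15915).symm.trans (sb E8774 (iv F72760)))).symm
theorem E10764 : n16178 = n16140 := (((D16140).symm.trans (sb E8775 D16178))).symm
theorem E10765 : n16179 = n16126 := ((((iv F73344)).symm.trans (sb E8775 D16179))).symm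
theorem E10766 : n16569 = n16125 := (((D16125).symm.trans (sb E8776 (iv F75000)))).symm
theorem F132785 : act 0 n11759 = n9781 := (sb E8778 F57603)
theorem F132786 : act 1 n11759 = n15010 := (sb E8778 (iv F68678))
theorem F132787 : act 5 n11759 = n9765 := (sb E8778 (iv D12516))
theorem E10771 : n16110 = n15095 := (((D15095).symm.trans (sb E8778 D16110))).symm
theorem E10772 : n24433 = n16101 := ((((iv F73256)).symm.trans (sb E8779 D24433))).symm
theorem E10773 : n16100 = n15718 := ((D16100).symm.trans (sb E8780 F87391))
theorem F132788 : act 0 n12553 = n15373 := (sb E8853 F88989)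
theorem E10778 : n24266 = n16164 := (((D16164).symm.trans (sb E8853 (iv F109119)))).symm
theorem E10779 : n24506 = n16157 := ((((iv F73451)).symm.trans (sb E8853 (iv F110277)))).symm
theorem E10780 : n16627 = n16164 := (((E10778).symm.trans (((iv F109116)).symm.trans (sb E8784 F95249)))).symm
theorem E10781 : n26927 = n25364 := ((((iv F114123)).symm.trans (sb E8784 D26927))).symm
theorem E10782 : n26224 = n26159 := (((D26159).symm.trans (sb E8784 (iv F117312)))).symm
theorem E10784 : n16628 = n16157 := (((E10779).symm.trans (((iv F110273)).symm.trans (sb E8785 F95252)))).symm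
theorem E10785 : n17295 = n16242 := (((iv F77978)).symm.trans (sb E8786 (iv D20800)))
theorem E10786 : n26385 = n17285 := ((((iv F77944)).symm.trans (sb E8786 D26385))).symm
theorem E10787 : n16665 = n16136 := (((E10726).symm.trans (((iv F77936)).symm.trans (sb E8787 F95592)))).symm
theorem F132791 : act 3 n12535 = n10019 := (sb E8788 F58895)
theorem F132792 : act 5 n12535 = n10018 := (sb E8788 (iv D12860))
theorem F132793 : act 7 n12553 = n10047 := (sb E8791 F59036)
theorem E10790 : n16183 = n15407 := (((iv F73524)).symm.trans (sb E8793 (iv F70523)))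
theorem E10792 : n16191 = n16185 := (((D16185).symm.trans (sb E8793 (iv F73546)))).symm
theorem E10796 : n16242 = n16180 := ((((iv F73516)).symm.trans (sb E8884 (tr F99065 E10785)))).symm
theorem E10797 : n24274 = n16194 := (((D16194).symm.trans (sb E8884 (iv F109164)))).symm
theorem E10802 : n16264 = n14696 := ((((iv F67148)).symm.trans (sb E8799 (iv F73802)))).symm
theorem E10803 : n15678 = n9848 := (((iv F71719)).symm.trans (sb E8799 F57982))
theorem E10804 : n16217 = n15679 := (((D15679).symm.trans (sb E8799 (iv F73633)))).symm
theorem E10805 : n16267 = n15680 := (((D15680).symm.trans (sb E8799 D16267))).symm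
theorem E10806 : n16256 = n15605 := ((((iv F71461)).symm.trans (sb E8799 (iv F73771)))).symm
theorem E10807 : n15878 = n14642 := ((((iv F66866)).symm.trans (sb E8800 (iv F72475)))).symm
theorem E10808 : n15604 = n9864 := ((D15604).symm.trans (sb E8800 F58041))
theorem E10809 : n15876 = n15522 := ((((iv F71115)).symm.trans (sb E8800 F72468))).symm
theorem F132794 : act 2 n7771 = n9542 := (sb E8802 (iv D12203))
theorem F132795 : act 5 n11705 = n9845 := (sb E8807 (iv D12629))
theorem E10813 : n16254 = n14853 := ((((iv F67933)).symm.trans (sb E8807 (iv F73765)))).symm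
theorem F132796 : act 2 n7749 = n9768 := (sb E8810 F57616)
theorem E10816 : n16114 = n9849 := (((D9849).symm.trans (sb E8810 D16114))).symm
theorem E10817 : n15892 = n9840 := ((((iv F45859)).symm.trans (sb E8810 (iv F72535)))).symm
theorem F132797 : act 5 n7748 = n9768 := (sb E8811 (iv D12520))
theorem E10819 : n16116 = n9847 := (((D9847).symm.trans (sb E8811 D16116))).symm
theorem E10820 : n16257 = n15894 := ((((iv F72543)).symm.trans (sb E8812 (iv F73775)))).symm
theorem E10821 : n16258 = n15733 := ((((iv F71917)).symm.trans (sb E8813 D16258))).symm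
theorem F132798 : act 0 n11790 = n9786 := (sb E8814 F57626)
theorem F132799 : act 1 n11790 = n15016 := (sb E8814 (iv F68706))
theorem F132800 : act 5 n11790 = n9770 := (sb E8814 F57628)
theorem F132801 : act 2 n7766 = n9654 := (sb E8820 (iv D12359))
theorem E10825 : n15732 = n9865 := (((D9865).symm.trans (sb E8820 (iv F71913)))).symm
theorem F132802 : act 2 n11785 = n9549 := (sb E8829 F56511)
theorem E10841 : n15689 = n15086 := ((((iv F69000)).symm.trans (sb E8829 D15689))).symm
theorem E10842 : n15690 = n15127 := (((D15127).symm.trans (sb E8829 D15690))).symm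
theorem E10843 : n15617 = n15118 := ((((iv F69151)).symm.trans (sb E8829 (iv F71510)))).symm
theorem F132803 : act 2 n11786 = n9785 := (sb E8831 F57694)
theorem E10846 : n15921 = n15119 := ((((iv F69157)).symm.trans (sb E8831 (iv F72644)))).symm
theorem F132804 : act 2 n11777 = n9668 := (sb E8832 F57140)
theorem E10847 : n15752 = n15120 := (((D15120).symm.trans (sb E8832 (iv F72003)))).symm
theorem E10848 : n15691 = n15084 := ((D15691).symm.trans (sb E8833 (iv D19270)))
theorem E10853 : n24463 = n15531 := ((((iv F71157)).symm.trans (sb E8835 D24463))).symm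
theorem F132805 : act 1 n11753 = n9805 := (sb E8836 F57698)
theorem E10854 : n16141 = n15048 := ((((iv F68840)).symm.trans (sb E8836 (iv F73392)))).symm
theorem E10855 : n16150 = n15085 := (((D15085).symm.trans (sb E8836 D16150))).symm
theorem F132806 : act 1 n11784 = n9806 := (sb E8837 F57700)
theorem F132807 : act 3 n11784 = n9786 := (sb E8837 F57701)
theorem F132808 : act 5 n11784 = n9785 := (sb E8837 F57702)
theorem F132809 : act 6 n12537 = n9795 := (sb E8842 (iv D12560))
theorem E10863 : n16143 = n14709 := ((D16143).symm.trans (sb E8842 (iv F67204)))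
theorem E10864 : n16144 = n9830 := ((D16144).symm.trans (sb E8843 F57878))
theorem E10865 : n16145 = n14723 := ((D16145).symm.trans (sb E8843 (iv F67265)))
theorem F132810 : act 1 n11495 = n9804 := (sb E8844 F57685)
theorem E10866 : n16130 = n14722 := (((D14722).symm.trans (sb E8844 (iv F73358)))).symm
theorem F132811 : act 8 n11495 = n9781 := (sb E8844 (iv D12540))
theorem E10867 : n16146 = n14676 := ((((iv F67044)).symm.trans (sb E8844 D16146))).symm
theorem E10869 : n23938 = n9471 := ((((iv F44548)).symm.trans (sb E8846 F107562))).symm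
theorem F132812 : act 2 n11801 = n9508 := (sb E8848 (iv D12158))
theorem E10870 : n15530 = n15142 := (((D15142).symm.trans (sb E8848 (iv F71152)))).symm
theorem F132813 : act 2 n11802 = n9583 := (sb E8849 (iv D12257))
theorem E10871 : n15875 = n15499 := ((((iv F70983)).symm.trans (sb E8850 (iv F87640)))).symm
theorem F132814 : act 0 n12589 = n15037 := (sb E8854 F86878)
theorem E10872 : n23674 = n16215 := (((D16215).symm.trans (sb E8854 (iv F106254)))).symm
theorem E10873 : n16216 = n16194 := ((D16216).symm.trans (sb E8854 (tr D24274 E10797)))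
theorem E10874 : n23968 = n16205 := ((((iv F73591)).symm.trans (sb E8854 (iv F107736)))).symm
theorem F132815 : act 0 n12582 = n15194 := (sb E8855 F87783)
theorem E10875 : n16629 = n16215 := (((D16215).symm.trans (sb E8856 D16629))).symm
theorem E10877 : n26226 = n25375 := (((D25375).symm.trans (sb E8857 (iv F117318)))).symm
theorem E10879 : n26930 = n25239 := ((((iv F113690)).symm.trans (sb E8857 D26930))).symm
theorem E10880 : n20625 = n12591 := (((F67264).symm.trans (iv (sb E8858 (tr F93089 E10865))))).symm
theorem F132819 : act 7 n12582 = n10050 := (sb E8860 F59045)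
theorem E10886 : n28796 = n25237 := ((((iv F113680)).symm.trans (sb E8861 D28796))).symm
theorem F132822 : act 1 n7897 = n9795 := (sb E8865 (iv D12559))
theorem F132823 : act 7 n7897 = n9799 := (sb E8865 F57750)
theorem F132824 : act 1 n11728 = n10045 := (sb E8867 F58924)
theorem F132825 : act 1 n11486 = n10047 := (sb E8869 F58930)
theorem E10894 : n16583 = n14660 := ((((iv F66964)).symm.trans (sb E8869 D16583))).symm
theorem E10895 : n17476 = n16238 := (((D16238).symm.trans (sb E9257 D17476))).symm
theorem E10896 : n16969 = n16033 := ((((iv F73000)).symm.trans (sb E9257 (tr (iv F77348) E10620)))).symm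
theorem E10897 : n17273 = n16238 := (((iv F77903)).symm.trans (sb E8871 (tr F99914 E10895)))
theorem F132826 : act 0 n11988 = n9799 := (sb E8873 (iv D12565))
theorem F132827 : act 1 n11988 = n15059 := (sb E8873 (iv F68887))
theorem E10899 : n17295 = n16180 := (E10785).trans E10796
theorem E10900 : n17271 = n16243 := (((D16243).symm.trans (sb E8874 (iv F77896)))).symm
theorem F132828 : act 0 n11990 = n9828 := (sb E8875 F57899)
theorem F132829 : act 0 n12609 = n15396 := (sb E8877 (iv F70480))
theorem F132830 : act 2 n12609 = n10065 := (sb E8877 F58999)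
theorem F132831 : act 6 n12609 = n10039 := (sb E8877 (iv D12891))
theorem E10902 : n16611 = n16243 := (((D16243).symm.trans (sb E8877 D16611))).symm
theorem F132832 : act 7 n12572 = n9828 := (sb E8878 (iv D12610))
theorem E10903 : n16198 = n15103 := ((((iv F69077)).symm.trans (sb E8879 F93132))).symm
theorem E10905 : n24287 = n16186 := (((D16186).symm.trans (sb E8880 (iv F109231)))).symm
theorem E10907 : n23681 = n16188 := (((D16188).symm.trans (sb E8880 (iv F106290)))).symm
theorem E10920 : n17300 = n16247 := ((((iv F73738)).symm.trans (sb E8891 F99082))).symm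
theorem E10924 : n23700 = n15065 := ((((iv F68906)).symm.trans (sb E8894 (iv F106370)))).symm
theorem E10928 : n16190 = n15060 := (((iv F73543)).symm.trans (sb E8895 F84815))
theorem F132833 : act 0 n12580 = n15038 := (sb E8899 F86883)
theorem F132834 : act 3 n12580 = n15016 := (sb E8899 F86885)
theorem E10937 : n23969 = n16203 := (((D16203).symm.trans (sb E8899 (iv F107741)))).symm
theorem F132835 : act 1 n12580 = n9847 := (sb E8900 F57979)
theorem F132836 : act 7 n12580 = n9845 := (sb E8900 (iv D12630))
theorem E10938 : n16255 = n16203 := (((D16203).symm.trans (sb E8900 (iv F73768)))).symm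
theorem F132837 : act 0 n12618 = n15036 := (sb E9321 F86873)
theorem E10939 : n23673 = n16251 := (((D16251).symm.trans (sb E9321 (iv F106248)))).symm
theorem E10940 : n23967 = n16252 := (((D16252).symm.trans (sb E9321 (iv F107731)))).symm
theorem F132838 : act 0 n12621 = n14875 := (sb E8902 F85819)
theorem F132839 : act 3 n12621 = n14854 := (sb E8902 F85821)
theorem E10944 : n28377 = n25462 := (((D25462).symm.trans (sb E8907 (iv F126249)))).symm
theorem F132843 : act 1 n11460 = n10050 := (sb E8911 F58941)
theorem F132844 : act 1 n7759 = n9808 := (sb E8914 F57707)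
theorem F132845 : act 6 n7759 = n9786 := (sb E8914 (iv D12546))
theorem F132846 : act 1 n11505 = n9809 := (sb E8915 F57711)
theorem F132847 : act 8 n11505 = n9786 := (sb E8915 (iv D12547))
theorem E10945 : n16156 = n14691 := ((((iv F67123)).symm.trans (sb E8915 D16156))).symm
theorem F132848 : act 1 n11471 = n9810 := (sb E8916 F57715)
theorem E10954 : n24623 = n15502 := (((D15502).symm.trans (sb E8924 (iv F110817)))).symm
theorem E10956 : n15503 = n15272 := ((D15503).symm.trans (sb E8924 F88453))
theorem F132849 : act 0 n11925 = n9883 := (sb E8925 F55945)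
theorem F132850 : act 1 n11925 = n15149 := (sb E8925 (iv F69321))
theorem E10957 : n15321 = n9449 := (((iv F70139)).symm.trans (sb E8925 F55948))
theorem F132851 : act 6 n11925 = n9447 := (sb E8925 (iv D12075))
theorem E10959 : n26579 = n26473 := (((iv F118696)).symm.trans (sb E8926 (iv F118293)))
theorem E10960 : n28278 = n26721 := (((D26721).symm.trans (sb E8926 (iv F125902)))).symm
theorem E10962 : n26840 = n14837 := (((F84304).symm.trans (sb E8927 (iv F119643)))).symm
theorem E10964 : n16508 = n14634 := ((((iv D18644)).symm.trans (sb E8927 (iv D21150)))).symm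
theorem E10965 : n10940 = n9907 := (((F52646).symm.trans (sb E8979 (iv D14068)))).symm
theorem E10966 : n14634 = n14593 := ((((iv F66581)).symm.trans (sb E8979 (iv F66819)))).symm
theorem E10967 : n16364 = n16307 := (((D16307).symm.trans (sb E8958 F94160))).symm
theorem E10968 : n26473 = n14605 := ((((iv F66662)).symm.trans (sb E8958 (tr (iv F118697) E10959)))).symm
theorem E10969 : n16370 = n16308 := (((D16308).symm.trans (sb E8958 F94163))).symm
theorem E10970 : n16311 = n16308 := ((((iv F73987)).symm.trans (sb E8944 (iv F74001)))).symm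
theorem E10971 : n17537 = n16309 := (((D16309).symm.trans (sb E8944 (iv F78959)))).symm
theorem F132854 : act 2 n12672 = n9950 := (sb E8932 F58517)
theorem E10972 : n16447 = n16309 := (((D16309).symm.trans (sb E8932 (iv F74499)))).symm
theorem E10973 : n16508 = n14593 := (E10964).trans E10966
theorem E10975 : n14594 = n9982 := ((D14594).symm.trans (sb E8933 (iv D12816)))
theorem F132855 : act 2 n12655 = n15226 := (sb E8935 F88199)
theorem F132856 : act 6 n12655 = n15232 := (sb E8935 F88202)
theorem F132857 : act 0 n11904 = n9888 := (sb E8936 F58086)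
theorem F132858 : act 1 n11904 = n15154 := (sb E8936 (iv F69351))
theorem F132859 : act 6 n11904 = n9871 := (sb E8936 (iv D12656))
theorem F132860 : act 0 n12678 = n15226 := (sb E8938 (iv F69687))
theorem F132861 : act 3 n12678 = n9918 := (sb E8938 F58351)
theorem F132862 : act 0 n12679 = n15232 := (sb E8940 (iv F69712))
theorem F132863 : act 7 n12679 = n9920 := (sb E8940 (iv D12728))
theorem E10978 : n16312 = n9908 := (((F58151).symm.trans (sb E8941 F93871))).symm
theorem E10979 : n16368 = n16307 := (((D16307).symm.trans (sb E8941 F93872))).symm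
theorem F132864 : act 1 n12679 = n9890 := (sb E8942 (iv D12682))
theorem F132865 : act 2 n12679 = n9919 := (sb E8942 F58202)
theorem E10980 : n16973 = n15912 := (E10597).trans E10727
theorem F132866 : act 0 n12680 = n15292 := (sb E8946 (iv F69983))
theorem F132867 : act 2 n12680 = n9963 := (sb E8946 F58589)
theorem F132868 : act 7 n12680 = n9961 := (sb E8946 (iv D12788))
theorem E10982 : n16474 = n16322 := (((D16322).symm.trans (sb E8946 D16474))).symm
theorem F132869 : act 1 n7851 = n9910 := (sb E8947 F58161)
theorem F132870 : act 7 n7851 = n9883 := (sb E8947 (iv D12673))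
theorem E10987 : n16280 = n15214 := ((D16280).symm.trans (sb E8953 F88119))
theorem E10989 : n16281 = n15213 := ((D16281).symm.trans (sb E8953 (iv D19433)))
theorem E10990 : n24692 = n15542 := (((D15542).symm.trans (sb E8954 (iv F111109)))).symm
theorem F132871 : act 0 n11885 = n9885 := (sb E8955 F58071)
theorem F132872 : act 1 n11885 = n15151 := (sb E8955 (iv F69333))
theorem E10991 : n16282 = n15249 := ((((iv F69788)).symm.trans (sb E8955 D16282))).symm
theorem F132873 : act 6 n11885 = n9869 := (sb E8955 (iv D12653))
theorem E10995 : n16361 = n9912 := ((((iv F46148)).symm.trans (sb E8959 (iv F74192)))).symm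
theorem E10997 : n16347 = n16313 := (((D16313).symm.trans (sb E8960 (iv F74144)))).symm
theorem E10998 : n16314 = n9911 := ((D16314).symm.trans (sb E8960 F58305))
theorem E10999 : n16413 = n16305 := ((((iv F73975)).symm.trans (sb E8961 D16413))).symm
theorem E11000 : n16315 = n9936 := ((D16315).symm.trans (sb E8961 F58430))
theorem F132874 : act 1 n7826 = n9914 := (sb E8962 F58180)
theorem F132875 : act 7 n7826 = n9885 := (sb E8962 (iv D12677))
theorem E11002 : n24557 = n15156 := (((D15156).symm.trans (sb E8964 (iv F110534)))).symm
theorem F132876 : act 0 n11858 = n9890 := (sb E8965 F58096)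
theorem F132877 : act 2 n11858 = n9873 := (sb E8965 (iv D12658))
theorem F132878 : act 0 n11857 = n9891 := (sb E8966 F58100)
theorem F132879 : act 1 n11857 = n15157 := (sb E8966 (iv F69367))
theorem F132880 : act 6 n11857 = n9873 := (sb E8966 (iv D12659))
theorem F132881 : act 1 n12678 = n9920 := (sb E8969 F58364)
theorem F132882 : act 6 n12678 = n9919 := (sb E8969 (iv D12726))
theorem E11006 : n16363 = n16303 := ((((iv F73967)).symm.trans (sb E8970 D16363))).symm
theorem F132883 : act 7 n7808 = n9919 := (sb E8971 F58343)
theorem F132884 : act 2 n7804 = n9891 := (sb E8972 F58206)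
theorem F132885 : act 6 n7804 = n9890 := (sb E8972 (iv D12683))
theorem F132886 : act 7 n7807 = n9891 := (sb E8973 (iv D12685))
theorem E11010 : n16444 = n14614 := ((((iv F66714)).symm.trans (sb E8977 (iv D21068)))).symm
theorem E11012 : n16365 = n14614 := (((iv F74210)).symm.trans (sb E8990 (iv F66713)))
theorem F132887 : act 1 n11403 = n9982 := (sb E8981 F58696)
theorem F132888 : act 5 n11403 = n9910 := (sb E8983 F58299)
theorem E11019 : n16367 = n15220 := ((D16367).symm.trans (sb E8986 (iv F69661)))
theorem F132889 : act 3 n12713 = n9914 := (sb E8986 F58330)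
theorem E11020 : n16372 = n16351 := ((((iv F74157)).symm.trans (sb E8986 (iv F74235)))).symm
theorem E11022 : n16418 = n15221 := ((((iv F69666)).symm.trans (sb E8989 D16418))).symm
theorem E11024 : n16952 = n16385 := (((D16385).symm.trans (sb E9040 (iv F76617)))).symm
theorem E11025 : n16472 = n16385 := (((E11024).symm.trans (((iv F76616)).symm.trans (sb E8993 F94684)))).symm
theorem F132890 : act 1 n12723 = n9961 := (sb E8994 F58581)
theorem E11027 : n24499 = n15230 := ((((iv F69704)).symm.trans (sb E8995 (iv F110235)))).symm
theorem E11030 : n23509 = n16369 := (((D16369).symm.trans (sb E8997 (iv F105396)))).symm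
theorem E11031 : n24280 = n16390 := (((D16390).symm.trans (sb E8998 (iv F109196)))).symm
theorem F132891 : act 0 n11864 = n9919 := (sb E8999 (iv D12725))
theorem E11035 : n24141 = n15240 := (((D15240).symm.trans (sb E9000 (iv F108495)))).symm
theorem F132892 : act 9 n11869 = n14978 := (sb E9002 F86615)
theorem E11038 : n24052 = n16394 := (((D16394).symm.trans (sb E9003 (iv F108103)))).symm
theorem E11041 : n24142 = n15977 := (((D15977).symm.trans (sb E9004 (iv F108500)))).symm
theorem E11042 : n24109 = n16402 := (((D16402).symm.trans (sb E9005 (iv F108349)))).symm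
theorem E11043 : n16403 = n14939 := ((D16403).symm.trans (sb E9005 F86358))
theorem E11044 : n24212 = n15979 := (((D15979).symm.trans (sb E9006 (iv F108834)))).symm
theorem E11045 : n24211 = n15786 := ((((iv F72115)).symm.trans (sb E9007 D24211))).symm
theorem E11046 : n15980 = n14979 := ((D15980).symm.trans (sb E9007 F86620))
theorem F132893 : act 3 n11677 = n9930 := (sb E9008 F58406)
theorem F132894 : act 9 n11677 = n9927 := (sb E9008 (iv D12739))
theorem E11050 : n17626 = n10668 := (E10485).trans E10498
theorem E11051 : n26469 = n23528 := (((iv F118274)).symm.trans (sb E9011 (iv F105491)))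
theorem E11052 : n23493 = n23447 := (((iv F105298)).symm.trans (sb E9011 (iv F105044)))
theorem E11054 : n28297 = n27525 := ((D28297).symm.trans (sb E9011 (iv F122699)))
theorem E11056 : n16429 = n8958 := ((((iv F41975)).symm.trans (sb E9012 (tr (iv F127160) E10443)))).symm
theorem E11064 : n15267 = n9480 := (((F52740).symm.trans (sb E9018 (iv F69874)))).symm
theorem F132896 : act 5 n11415 = n9946 := (sb E9018 F58502)
theorem E11066 : n16440 = n14615 := (((D14615).symm.trans (sb E9018 D16440))).symm
theorem E11067 : n16441 = n14611 := ((((iv F66697)).symm.trans (sb E9018 D16441))).symm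
theorem E11068 : n15262 = n5947 := (((F35618).symm.trans (sb E9020 (iv F69849)))).symm
theorem F132897 : act 5 n7463 = n9304 := (sb E9020 F55051)
theorem E11069 : n9457 = n9301 := (((iv F44482)).symm.trans (sb E9020 (iv D11884)))
theorem E11072 : n9941 = n8963 := ((((iv F41999)).symm.trans (sb E9022 (iv D12758)))).symm
theorem F132898 : act 7 n7822 = n8943 := (sb E9023 (iv F41886))
theorem E11075 : n18616 = n12767 := ((((iv F58515)).symm.trans (iv (sb E9026 (tr F93860 E10496))))).symm
theorem E11076 : n20876 = n12767 := (E9026).trans E11075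
theorem E11077 : n23491 = n16446 := (((D16446).symm.trans (sb E11076 (iv F105286)))).symm
theorem E11078 : n23528 = n16420 := ((((iv F74397)).symm.trans (sb E11076 (tr D26469 E11051)))).symm
theorem F132899 : act 0 n18553 = n15512 := (sb E9027 F84002)
theorem E11080 : n16446 = n14631 := (((F83783).symm.trans (sb E9027 (tr (iv F105285) E11077)))).symm
theorem E11081 : n18553 = n12769 := (((D12769).symm.trans (iv (sb E9027 (tr F84005 E10496))))).symm
theorem E11082 : n18591 = n12769 := (E9027).trans E11081
theorem E11083 : n23447 = n16422 := ((((iv F74405)).symm.trans (sb E11082 (tr D23493 E11052)))).symm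
theorem E11084 : n16449 = n14595 := ((D16449).symm.trans (sb E11082 (iv D18591)))
theorem E11086 : n17596 = n14595 := (((E11084).symm.trans (((iv F74505)).symm.trans (sb E9031 (iv F79164))))).symm
theorem E11087 : n17609 = n16451 := (((D16451).symm.trans (sb E9031 D17609))).symm
theorem E11088 : n16996 = n16452 := (((D16452).symm.trans (sb E9031 (iv F76780)))).symm
theorem E11089 : n27525 = n16424 := ((((iv F74413)).symm.trans (sb E9441 (tr (iv F125975) E11054)))).symm
theorem E11092 : n15510 = n15274 := ((((iv F69904)).symm.trans (sb E9030 (iv F71041)))).symm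
theorem E11093 : n16451 = n14616 := ((D16451).symm.trans (sb E9030 (iv F66724)))
theorem E11094 : n17609 = n14616 := (E11087).trans E11093
theorem E11096 : n23532 = n17076 := ((((iv F77117)).symm.trans (sb E9032 D23532))).symm
theorem E11098 : n17145 = n16033 := (E10620).trans E10896
theorem E11099 : n17146 = n16467 := (((D16467).symm.trans (sb E9034 D17146))).symm
theorem E11100 : n17770 = n16468 := (((D16468).symm.trans (sb E9035 D17770))).symm
theorem E11101 : n15552 = n15287 := ((((iv F69962)).symm.trans (sb E9037 (iv F71236)))).symm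
theorem E11103 : n16468 = n15983 := ((D16468).symm.trans (sb E9037 (iv F72833)))
theorem E11104 : n17770 = n15983 := (E11100).trans E11103
theorem E11105 : n16930 = n15286 := (((D15286).symm.trans (sb E9039 D16930))).symm
theorem E11109 : n23521 = n16448 := ((((iv F74502)).symm.trans (sb E9044 (iv F105453)))).symm
theorem E11113 : n16971 = n16476 := (((D16476).symm.trans (sb E9049 D16971))).symm
theorem E11117 : n17156 = n16450 := ((((iv F74510)).symm.trans (sb E9052 F97443))).symm
theorem E11127 : n12815 = n11434 := ((D12815).symm.trans (iv (sb E9064 (tr F83998 E10975))))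
theorem F132901 : act 7 n11401 = n14567 := (sb E9065 (iv F66433))
theorem F132902 : act 0 n12533 = n15437 := (sb E9075 (iv F70642))
theorem F132903 : act 2 n12533 = n10073 := (sb E9075 F59124)
theorem F132904 : act 0 n12863 = n15438 := (sb E9077 (iv F70645))
theorem F132905 : act 2 n12863 = n10074 := (sb E9077 F59126)
theorem F132906 : act 7 n12863 = n10072 := (sb E9077 F59129)
theorem E11131 : n16666 = n16572 := (((D16572).symm.trans (sb E9077 D16666))).symm
theorem E11133 : n15364 = n15348 := (((D15348).symm.trans (sb E9079 F89076))).symm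
theorem E11134 : n17266 = n16612 := (((D16612).symm.trans (sb E9084 (iv F77877)))).symm
theorem F132907 : act 1 n12892 = n10072 := (sb E9085 F59120)
theorem E11135 : n16664 = n16612 := (((D16612).symm.trans (sb E9085 D16664))).symm
theorem E11137 : n24286 = n15402 := (((D15402).symm.trans (sb E9091 (iv F109224)))).symm
theorem F132908 : act 1 n12897 = n15021 := (sb E9092 (iv D19178))
theorem E11138 : n16619 = n15029 := ((D16619).symm.trans (sb E9092 F86933))
theorem F132909 : act 1 n12899 = n14699 := (sb E9093 (iv D18731))
theorem E11139 : n23585 = n16622 := (((D16622).symm.trans (sb E9093 (iv F105811)))).symm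
theorem F132910 : act 4 n11989 = n15059 := (sb E9094 F84809)
theorem E11140 : n23612 = n15409 := (((D15409).symm.trans (sb E9094 (iv F105940)))).symm
theorem F132911 : act 4 n11736 = n10047 := (sb E9095 F59032)
theorem F132912 : act 8 n11736 = n10045 := (sb E9095 (iv D12901))
theorem E11141 : n16626 = n14904 := ((((iv F68157)).symm.trans (sb E9095 D16626))).symm
theorem E11143 : n24340 = n15063 := ((((iv F68901)).symm.trans (sb E9097 D24340))).symm
theorem F132913 : act 8 n11987 = n15059 := (sb E9097 F87092)
theorem E11149 : n16197 = n15104 := ((D16197).symm.trans (sb E9101 F87321))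
theorem F132914 : act 0 n11765 = n15070 := (sb E9102 (iv F68923))
theorem F132915 : act 8 n11765 = n9805 := (sb E9102 (iv D12576))
theorem F132916 : act 3 n11794 = n9809 := (sb E9103 F57797)
theorem F132917 : act 8 n11794 = n9806 := (sb E9103 (iv D12578))
theorem E11151 : n16201 = n14994 := ((((iv F68592)).symm.trans (sb E9103 D16201))).symm
theorem F132918 : act 3 n11689 = n9810 := (sb E9104 F57801)
theorem F132919 : act 3 n11747 = n14993 := (sb E9109 F84695)
theorem E11158 : n17241 = n15099 := ((((iv F69058)).symm.trans (sb E9112 (iv F77771)))).symm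
theorem E11159 : n17442 = n16658 := (((D16658).symm.trans (sb E9113 (iv F78559)))).symm
theorem F132920 : act 3 n12008 = n10393 := (sb E9115 (iv D13360))
theorem E11161 : n17225 = n15431 := ((((iv F70619)).symm.trans (sb E9115 D17225))).symm
theorem E11162 : n17221 = n15432 := (((D15432).symm.trans (sb E9115 (iv F77688)))).symm
theorem F132921 : act 1 n12926 = n10447 := (sb E9116 F61091)
theorem F132922 : act 3 n12926 = n10416 := (sb E9116 F61092)
theorem E11163 : n17272 = n16658 := (((D16658).symm.trans (sb E9116 D17272))).symm
theorem E11164 : n17267 = n16659 := (((D16659).symm.trans (sb E9116 (iv F77881)))).symm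
theorem F132923 : act 1 n12927 = n10443 := (sb E9117 F61075)
theorem F132924 : act 3 n12927 = n10413 := (sb E9117 (iv D13389))
theorem E11165 : n24500 = n15290 := ((((iv F69975)).symm.trans (sb E9121 (iv F110241)))).symm
theorem E11166 : n17275 = n16667 := (((D16667).symm.trans (sb E9123 (iv F77908)))).symm
theorem E11168 : n24863 = n15436 := ((((iv F70638)).symm.trans (sb E9125 (iv F111930)))).symm
theorem E11171 : n17356 = n16667 := (((D16667).symm.trans (sb E9128 D17356))).symm
theorem E11173 : n23672 = n17440 := (((D17440).symm.trans (sb E9132 (iv F106243)))).symm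
theorem F132925 : act 0 n12939 = n14703 := (sb E9134 F84732)
theorem F132926 : act 2 n12939 = n14696 := (sb E9134 F84733)
theorem E11175 : n23467 = n16671 := (((D16671).symm.trans (sb E9134 (iv F105162)))).symm
theorem E11176 : n17440 = n16669 := ((((iv F75335)).symm.trans (sb E9134 (tr D23672 E11173)))).symm
theorem E11177 : n23576 = n16672 := (((D16672).symm.trans (sb E9134 (iv F105765)))).symm
theorem E11178 : n17495 = n16251 := (((D16251).symm.trans (sb E9135 (iv F78773)))).symm
theorem E11179 : n17492 = n16252 := (((D16252).symm.trans (sb E9135 (iv F78761)))).symm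
theorem F132927 : act 0 n12940 = n14874 := (sb E9136 F85815)
theorem F132928 : act 2 n12940 = n14853 := (sb E9136 F85816)
theorem E11180 : n23742 = n16673 := (((D16673).symm.trans (sb E9136 (iv F106582)))).symm
theorem E11181 : n16672 = n15870 := (((iv F75345)).symm.trans (sb E9137 (iv F72437)))
theorem E11182 : n16673 = n15868 := ((D16673).symm.trans (sb E9137 F72429))
theorem F132929 : act 3 n11872 = n14978 := (sb E9138 F84652)
theorem F132930 : act 0 n12350 = n14581 := (sb E9299 F83897)
theorem E11183 : n15598 = n14578 := (((iv F71427)).symm.trans (sb E9299 (iv D18571)))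
theorem E11184 : n16671 = n15872 := ((((iv F72447)).symm.trans (sb E9299 (tr D23467 E11175)))).symm
theorem F132931 : act 0 n12349 = n14650 := (sb E9308 F84364)
theorem E11186 : n23576 = n15870 := (E11177).trans E11181
theorem F132932 : act 0 n12348 = n14745 := (sb E9324 F84983)
theorem E11188 : n23742 = n15868 := (E11180).trans E11182
theorem F132933 : act 3 n12350 = n10128 := (sb E9144 (iv D12999))
theorem F132934 : act 4 n12349 = n10129 := (sb E9145 F59419)
theorem F132935 : act 9 n12349 = n10128 := (sb E9145 (iv D13000))
theorem F132936 : act 8 n12348 = n10129 := (sb E9146 (iv D13001))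
theorem E11195 : n24984 = n17226 := (((D17226).symm.trans (sb E9149 D24984))).symm
theorem E11226 : n17447 = n17331 := (((D17331).symm.trans (sb E9166 (iv F78579)))).symm
theorem E11227 : n17479 = n17332 := (((D17332).symm.trans (sb E9166 (iv F78702)))).symm
theorem E11228 : n17149 = n17007 := ((((iv F76831)).symm.trans (sb E9166 (iv F77365)))).symm
theorem E11239 : n17444 = n17339 := (((D17339).symm.trans (sb E9174 (iv F78567)))).symm
theorem E11243 : n28163 = n28093 := ((((iv F125059)).symm.trans (sb E9178 (iv F125412)))).symm
theorem E11244 : n17480 = n17359 := ((((iv D22236)).symm.trans (sb E9178 F99888))).symm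
theorem E11253 : n27031 = n25681 := ((D27031).symm.trans (sb E9185 (iv F115342)))
theorem E11255 : n27032 = n25678 := ((D27032).symm.trans (sb E9185 F115332))
theorem E11266 : n24883 = n23665 := (((D23665).symm.trans (sb E9529 (iv F112048)))).symm
theorem F132938 : act 3 n14699 = n12892 := (sb E9195 F75143)
theorem E11271 : n26260 = n23682 := (((D23682).symm.trans (sb E9197 (iv F117453)))).symm
theorem E11272 : n26295 = n23683 := (((D23683).symm.trans (sb E9197 (iv F117563)))).symm
theorem E11273 : n26296 = n23586 := ((((iv F105815)).symm.trans (sb E9197 D26296))).symm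
theorem E11274 : n26633 = n23581 := ((((iv F105788)).symm.trans (sb E9198 (iv F118875)))).symm
theorem E11275 : n24930 = n23666 := ((((iv F106208)).symm.trans (sb E9199 (iv F112264)))).symm
theorem E11280 : n24931 = n23571 := ((((iv F105733)).symm.trans (sb E9202 (iv F112267)))).symm
theorem E11289 : n26973 = n26189 := (((iv F120200)).symm.trans (sb E9206 (iv F117180)))
theorem E11292 : n24885 = n24250 := (((D24250).symm.trans (sb E9520 (iv F112057)))).symm
theorem E11295 : n25411 = n24288 := (((D24288).symm.trans (sb E9211 (iv F114322)))).symm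
theorem E11296 : n26292 = n24289 := (((D24289).symm.trans (sb E9211 D26292))).symm
theorem E11297 : n25915 = n24281 := ((((iv F109203)).symm.trans (sb E9211 (iv F116163)))).symm
theorem E11298 : n26630 = n23988 := ((((iv F107838)).symm.trans (sb E9213 D26630))).symm
theorem E11299 : n24927 = n24251 := ((((iv F109039)).symm.trans (sb E9214 (iv F112254)))).symm
theorem E11303 : n24649 = n24246 := ((((iv F109010)).symm.trans (sb E9215 (iv F110925)))).symm
theorem E11306 : n19673 = n19155 := (((D19155).symm.trans (sb E9216 F132389))).symm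
theorem E11309 : n26315 = n24260 := (((D24260).symm.trans (sb E9543 (iv F117625)))).symm
theorem E11316 : n24297 = n24264 := ((((iv F109107)).symm.trans (sb E9220 (iv F109274)))).symm
theorem F132940 : act 6 n19161 = n15053 := (sb E9220 (iv D19227))
theorem E11317 : n24355 = n24267 := (((D24267).symm.trans (sb E9220 D24355))).symm
theorem E11318 : n24069 = n23961 := ((((iv F107698)).symm.trans (sb E9220 (iv F108165)))).symm
theorem F132941 : act 6 n19163 = n15104 := (sb E9223 F87380)
theorem E11321 : n24166 = n23963 := ((((iv F107708)).symm.trans (sb E9223 (iv F108596)))).symm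
theorem F132942 : act 6 n18940 = n14945 := (sb E9225 (iv D19080))
theorem E11328 : n24132 = n23964 := (((D23964).symm.trans (sb E9225 (iv F108455)))).symm
theorem E11329 : n24857 = n24262 := ((((iv F109097)).symm.trans (sb E9510 (iv F111897)))).symm
theorem E11330 : n24372 = n24306 := (((D24306).symm.trans (sb E9510 (iv F109604)))).symm
theorem E11331 : n24941 = n24004 := ((((iv F107902)).symm.trans (sb E9510 D24941))).symm
theorem E11334 : n26256 = n23684 := ((((iv F106301)).symm.trans (sb E9356 D26256))).symm
theorem E11335 : n26257 = n24312 := (((D24312).symm.trans (sb E9356 D26257))).symm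
theorem E11336 : n26243 = n24008 := ((((iv F107917)).symm.trans (sb E9356 (iv F117400)))).symm
theorem E11338 : n25409 = n24292 := ((((iv F109250)).symm.trans (sb E9247 D25409))).symm
theorem E11339 : n25410 = n24315 := ((((iv F109350)).symm.trans (sb E9247 D25410))).symm
theorem E11340 : n25295 = n24316 := (((D24316).symm.trans (sb E9247 (iv F113882)))).symm
theorem F132943 : act 0 n19197 = n15104 := (sb E9280 F87434)
theorem E11341 : n24367 = n24314 := ((((iv F109346)).symm.trans (sb E9280 (iv F109586)))).symm
theorem E11342 : n24442 = n24303 := ((((iv F109300)).symm.trans (sb E9280 (iv F109929)))).symm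
theorem E11343 : n24178 = n24011 := ((((iv F107929)).symm.trans (sb E9280 (iv F108655)))).symm
theorem E11344 : n25437 = n24294 := ((((iv F109260)).symm.trans (sb E9249 (iv F114414)))).symm
theorem E11346 : n24939 = n24311 := ((((iv F109331)).symm.trans (sb E9233 (iv F112297)))).symm
theorem F132944 : act 4 n19196 = n15407 := (sb E9233 F89304)
theorem E11348 : n24376 = n24315 := ((((iv F109350)).symm.trans (sb E9233 (iv F109620)))).symm
theorem E11349 : n24666 = n24316 := (((D24316).symm.trans (sb E9233 (iv F110996)))).symm
theorem E11351 : n25339 = n24295 := (((D24295).symm.trans (sb E9234 (iv F114025)))).symm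
theorem E11353 : n24318 = n24091 := ((D24318).symm.trans (sb E9235 (iv F108262)))
theorem E11355 : n25326 = n24013 := ((((iv F107938)).symm.trans (sb E9237 (iv F113988)))).symm
theorem E11356 : n24296 = n15371 := ((D24296).symm.trans (sb E9238 F88981))
theorem F132945 : act 5 n19184 = n15349 := (sb E9238 (iv D19616))
theorem E11357 : n24504 = n23998 := ((((iv F107876)).symm.trans (sb E9238 (iv F110265)))).symm
theorem E11359 : n24068 = n15188 := ((D24068).symm.trans (sb E9240 F87743))
theorem F132946 : act 5 n19013 = n15157 := (sb E9240 (iv D19352))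
theorem E11360 : n24508 = n24046 := ((((iv F108076)).symm.trans (sb E9240 D24508))).symm
theorem E11361 : n22076 = n19233 := (E9241).trans E9524
theorem E11362 : n24386 = n24303 := ((((iv F109297)).symm.trans (sb E11361 (iv F109658)))).symm
theorem E11363 : n26148 = n24361 := ((((iv F109559)).symm.trans (sb E11361 (iv F116997)))).symm
theorem E11367 : n24894 = n24262 := ((((iv F109097)).symm.trans (sb E9242 (iv F112096)))).symm
theorem E11369 : n24570 = n24004 := ((((iv F107902)).symm.trans (sb E9242 (iv F110591)))).symm
theorem F132947 : act 3 n19236 = n15070 := (sb E9243 F87203)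
theorem E11370 : n24378 = n24366 := (((D24366).symm.trans (sb E9243 D24378))).symm
theorem E11371 : n24377 = n24314 := (((E11341).symm.trans ((D24367).symm.trans (sb E9243 (iv F109624))))).symm
theorem E11372 : n24379 = n24078 := ((((iv F108207)).symm.trans (sb E9243 D24379))).symm
theorem E11373 : n24669 = n24058 := ((((iv F108129)).symm.trans (sb E9244 (iv F111007)))).symm
theorem E11374 : n24888 = n24366 := (((D24366).symm.trans (sb E9245 (iv F112074)))).symm
theorem F132948 : act 5 n19019 = n15189 := (sb E9246 F87977)
theorem E11376 : n24575 = n24058 := ((((iv F108129)).symm.trans (sb E9246 D24575))).symm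
theorem F132949 : act 2 n19203 = n17439 := (sb E9250 F93406)
theorem E11378 : n26340 = n23693 := ((((iv F106343)).symm.trans (sb E9250 (iv F117725)))).symm
theorem E11379 : n26325 = n24017 := ((((iv F107956)).symm.trans (sb E9250 (iv F117666)))).symm
theorem F132950 : act 6 n19199 = n15239 := (sb E9251 (iv D19471))
theorem F132951 : act 0 n11965 = n15053 := (sb E9252 (iv D19226))
theorem F132952 : act 7 n11965 = n15059 := (sb E9252 F87137)
theorem F132953 : act 0 n11834 = n14945 := (sb E9254 (iv D19079))
theorem F132954 : act 7 n11834 = n14951 := (sb E9254 F86420)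
theorem E11382 : n24131 = n15191 := (((D15191).symm.trans (sb E9254 (iv F108450)))).symm
theorem E11383 : n24495 = n24103 := ((((iv F108318)).symm.trans (sb E9255 (iv F110219)))).symm
theorem E11384 : n27622 = n16932 := ((((iv F76537)).symm.trans (sb E9256 (iv F123136)))).symm
theorem E11390 : n24388 = n24177 := (((D24177).symm.trans (sb E9260 (iv F109671)))).symm
theorem E11392 : n24151 = n24094 := (((iv F108540)).symm.trans (sb E9260 (iv F108273)))
theorem F132956 : act 9 n19089 = n15070 := (sb E9260 (iv D19252))
theorem E11393 : n24679 = n24115 := ((((iv F108381)).symm.trans (sb E9261 (iv F111048)))).symm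
theorem E11394 : n24563 = n24177 := (((D24177).symm.trans (sb E9262 (iv F110559)))).symm
theorem E11395 : n24577 = n24094 := (((E11392).symm.trans (((iv F108540)).symm.trans (sb E9262 D24577)))).symm
theorem E11396 : n24554 = n24115 := ((((iv F108381)).symm.trans (sb E9263 (iv F110521)))).symm
theorem E11401 : n24172 = n16932 := (((iv F108623)).symm.trans (sb E9281 (tr (iv F123135) E11384)))
theorem E11404 : n21670 = n11660 := (((F68395).symm.trans (sb E9266 F122237))).symm
theorem F132957 : act 1 n19251 = n15396 := (sb E9268 F89097)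
theorem F132958 : act 6 n19251 = n15367 := (sb E9268 (iv D19639))
theorem E11406 : n24891 = n23715 := ((((iv F106437)).symm.trans (sb E9268 D24891))).symm
theorem F132959 : act 7 n19197 = n15070 := (sb E9269 F87231)
theorem E11407 : n24444 = n24260 := (((iv F109935)).symm.trans (sb E9544 (tr (iv F117622) E11309)))
theorem E11410 : n20741 = n19295 := ((((iv F87438)).symm.trans (sb E9271 F132441))).symm
theorem E11412 : n20074 = n19296 := ((((iv F87442)).symm.trans (sb E9272 F114289))).symm
theorem E11414 : n20053 = n19272 := ((((iv F87331)).symm.trans (sb E9272 (iv D25403)))).symm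
theorem E11415 : n26149 = n24373 := ((((iv F109607)).symm.trans (sb E9274 (iv F117000)))).symm
theorem E11417 : n25740 = n24181 := ((((iv F108669)).symm.trans (sb E9274 (iv F115584)))).symm
theorem E11419 : n17439 = n15110 := (((D15110).symm.trans (sb E9275 (iv F78552)))).symm
theorem F132960 : act 5 n13373 = n15107 := (sb E9276 F87407)
theorem E11423 : n27897 = n24449 := (((D24449).symm.trans (sb E9279 (iv F124241)))).symm
theorem E11429 : n26343 = n26310 := ((D26343).symm.trans (sb E9284 (iv F117608)))
theorem E11432 : n26310 = n23675 := ((((iv F106260)).symm.trans (sb E9316 (tr (iv F117736) E11429)))).symm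
theorem E11433 : n25725 = n23578 := ((((iv F105776)).symm.trans (sb E9316 F115530))).symm
theorem F132962 : act 2 n15015 = n12618 := (sb E9288 F73577)
theorem F132963 : act 5 n15015 = n12580 := (sb E9288 (iv D16202))
theorem E11439 : n25724 = n23744 := ((((iv F106593)).symm.trans (sb E9291 (iv F115523)))).symm
theorem E11443 : n25938 = n23972 := (((D23972).symm.trans (sb E9294 (iv F116241)))).symm
theorem F132964 : act 6 n18946 = n14994 := (sb E9296 F86700)
theorem E11445 : n24201 = n23972 := (((D23972).symm.trans (sb E9296 (iv F108774)))).symm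
theorem E11447 : n24200 = n23746 := ((((iv F106603)).symm.trans (sb E9298 D24200))).symm
theorem F132965 : act 6 n18947 = n14966 := (sb E9298 (iv D19108))
theorem E11448 : n23467 = n15872 := (E11175).trans E11184
theorem E11451 : n25001 = n23453 := ((((iv F105087)).symm.trans (sb E9300 D25001))).symm
theorem E11452 : n23453 = n14832 := ((((iv F67820)).symm.trans (sb E9318 (tr (iv F112578) E11451)))).symm
theorem E11455 : n23911 = n23472 := (((D23472).symm.trans (sb E9302 (iv F107422)))).symm
theorem E11456 : n23936 = n23473 := (((D23473).symm.trans (sb E9302 (iv F107549)))).symm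
theorem E11457 : n14637 = n14570 := (((iv F66837)).symm.trans (sb E9303 (iv D18560)))
theorem F132966 : act 3 n11581 = n14650 := (sb E9303 F83835)
theorem F132967 : act 9 n11581 = n14581 := (sb E9303 F83840)
theorem E11461 : n23672 = n16669 := (E11173).trans E11176
theorem F132968 : act 4 n18737 = n17438 := (sb E9305 (iv D22320))
theorem E11464 : n23908 = n23591 := ((((iv F105837)).symm.trans (sb E9305 F107410))).symm
theorem E11465 : n23935 = n23592 := ((((iv F105842)).symm.trans (sb E9306 F107543))).symm
theorem E11466 : n23500 = n14829 := (((iv F105345)).symm.trans (sb E9307 (iv D18917)))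
theorem F132969 : act 4 n11580 = n14745 := (sb E9310 F84046)
theorem F132970 : act 8 n11580 = n14650 := (sb E9310 F84049)
theorem E11471 : n17438 = n15442 := ((F132968).symm.trans (sb E9312 (iv D19734)))
theorem E11472 : n24451 = n23691 := (((D23691).symm.trans (sb E9312 (iv F109969)))).symm
theorem E11479 : n26324 = n23593 := ((((iv F105846)).symm.trans (sb E9357 (iv F117662)))).symm
theorem E11480 : n20293 = n18655 := ((((iv F84369)).symm.trans (sb E9317 F107525))).symm
theorem E11481 : n18913 = n18598 := ((((iv F84054)).symm.trans (sb E9317 (iv D23933)))).symm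
theorem F132971 : act 5 n18976 = n17491 := (sb E9322 F99964)
theorem E11483 : n23934 = n23761 := ((((iv F106679)).symm.trans (sb E9322 (iv F107535)))).symm
theorem E11484 : n23872 = n23760 := (((D23760).symm.trans (sb E9323 (iv F107220)))).symm
theorem F132972 : act 5 n11773 = n15036 := (sb E9328 (iv F132451))
theorem E11486 : n17491 = n15113 := (((D15113).symm.trans (sb E9328 (iv F78756)))).symm
theorem F132973 : act 5 n12021 = n14874 := (sb E9329 (iv F132452))
theorem E11487 : n17188 = n15300 := ((((iv F70024)).symm.trans (sb E9329 (iv F77532)))).symm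
theorem E11490 : n24942 = n24309 := ((((iv F109323)).symm.trans (sb E9332 (iv F112310)))).symm
theorem E11492 : n24380 = n24312 := (((D24312).symm.trans (sb E9332 (iv F109636)))).symm
theorem F132974 : act 8 n19194 = n15407 := (sb E9332 (iv D19693))
theorem F132975 : act 2 n18739 = n15442 := (sb E9333 F89326)
theorem E11494 : n24382 = n23693 := (((D23693).symm.trans (sb E9333 (iv F109642)))).symm
theorem E11495 : n24932 = n23694 := (((D23694).symm.trans (sb E9333 (iv F112274)))).symm
theorem E11496 : n24952 = n23593 := ((((iv F105846)).symm.trans (sb E9333 D24952))).symm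
theorem E11497 : n26003 = n24018 := (((D24018).symm.trans (sb E9334 (iv F116460)))).symm
theorem E11499 : n26092 = n23764 := ((((iv F106690)).symm.trans (sb E9336 D26092))).symm
theorem F132976 : act 6 n19203 = n15067 := (sb E9337 F87218)
theorem F132977 : act 8 n19203 = n15066 := (sb E9337 (iv D19247))
theorem E11500 : n24383 = n24017 := ((((iv F107956)).symm.trans (sb E9337 D24383))).symm
theorem F132978 : act 2 n18978 = n15113 := (sb E9338 F87257)
theorem F132979 : act 6 n18978 = n15075 := (sb E9338 F87258)
theorem E11501 : n24098 = n24020 := (((D24020).symm.trans (sb E9338 (iv F108292)))).symm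
theorem F132980 : act 2 n18977 = n15443 := (sb E9339 F89329)
theorem E11502 : n24673 = n24018 := (((D24018).symm.trans (sb E9339 (iv F111021)))).symm
theorem F132981 : act 2 n18979 = n15300 := (sb E9340 F88309)
theorem E11503 : n24683 = n23764 := ((((iv F106690)).symm.trans (sb E9340 (iv F111065)))).symm
theorem F132982 : act 9 n18979 = n15244 := (sb E9340 (iv D19478))
theorem E11504 : n20291 = n18781 := ((((iv F84989)).symm.trans (sb E9341 F107515))).symm
theorem F132983 : act 2 n14736 = n12348 := (sb E9343 F72470)
theorem E11505 : n18594 = n12347 := (((iv F84025)).symm.trans (sb E9343 (iv D15877)))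
theorem E11507 : n18923 = n11410 := ((((iv F52713)).symm.trans (sb E9344 (iv D23939)))).symm
theorem F132984 : act 2 n14600 = n11580 := (sb E9346 F67846)
theorem E11508 : n18645 = n11405 := ((((iv D14600)).symm.trans (sb E9346 (iv F84311)))).symm
theorem E11509 : n12706 = n11579 := ((F66629).symm.trans (sb E9346 (iv D14838)))
theorem F132985 : act 0 n18980 = n14994 := (sb E9347 F86735)
theorem F132986 : act 7 n18980 = n14993 := (sb E9347 (iv D19141))
theorem E11510 : n24222 = n24022 := (((D24022).symm.trans (sb E9347 (iv F108888)))).symm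
theorem E11514 : n25353 = n24095 := (((D24095).symm.trans (sb E9363 (iv F114082)))).symm
theorem E11519 : n25352 = n23767 := ((((iv F106703)).symm.trans (sb E9353 D25352))).symm
theorem E11520 : n24095 = n24023 := ((((iv F107978)).symm.trans (sb E9353 (tr D25353 E11514)))).symm
theorem F132987 : act 3 n18980 = n15075 := (sb E9354 F87248)
theorem E11521 : n24096 = n24022 := (((D24022).symm.trans (sb E9354 (iv F108283)))).symm
theorem F132988 : act 3 n18982 = n15244 := (sb E9355 F88296)
theorem E11522 : n24680 = n23767 := ((((iv F106703)).symm.trans (sb E9355 D24680))).symm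
theorem F132989 : act 6 n15069 = n19198 := (sb E9358 F109357)
theorem F132990 : act 8 n15069 = n19197 := (sb E9358 (iv D24317))
theorem F132991 : act 1 n19031 = n15075 := (sb E9361 F87055)
theorem F132992 : act 7 n19031 = n15042 := (sb E9361 F87058)
theorem F132993 : act 9 n19031 = n15041 := (sb E9361 (iv D19209))
theorem F132994 : act 1 n19033 = n15244 := (sb E9365 F88026)
theorem E11523 : n24590 = n23821 := ((((iv F106979)).symm.trans (sb E9365 D24590))).symm
theorem F132995 : act 6 n19033 = n14978 := (sb E9364 (iv D19125))
theorem F132996 : act 8 n19033 = n14993 := (sb E9364 F86662)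
theorem F132997 : act 0 n11840 = n14966 := (sb E9366 (iv D19107))
theorem F132998 : act 7 n11840 = n14978 := (sb E9366 F86563)
theorem E11525 : n24502 = n24497 := ((((iv F110226)).symm.trans (sb E9391 (iv F110251)))).symm
theorem E11528 : n16933 = n15184 := (((D15184).symm.trans (sb E9368 (iv F76540)))).symm
theorem E11529 : n17503 = n15176 := ((((iv F69471)).symm.trans (sb E9368 (iv F78813)))).symm
theorem F132999 : act 1 n19347 = n15232 := (sb E9369 F88235)
theorem E11530 : n24568 = n24497 := ((((iv F110226)).symm.trans (sb E9369 (iv F110579)))).symm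
theorem E11531 : n24659 = n24498 := (((D24498).symm.trans (sb E9369 (iv F110967)))).symm
theorem E11532 : n24632 = n24487 := ((((iv F110173)).symm.trans (sb E9369 (iv F110856)))).symm
theorem E11534 : n25175 = n24488 := (((D24488).symm.trans (sb E9371 (iv F113418)))).symm
theorem E11535 : n24738 = n24488 := (((D24488).symm.trans (sb E9372 (iv F111319)))).symm
theorem E11536 : n24489 = n15270 := ((D24489).symm.trans (sb E9372 (iv D19517)))
theorem E11537 : n24556 = n15187 := ((((iv F69518)).symm.trans (sb E9373 (iv F110528)))).symm
theorem E11540 : n24503 = n15182 := (((iv F110255)).symm.trans (sb E9375 (iv D19388)))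
theorem E11541 : n24505 = n15186 := ((D24505).symm.trans (sb E9375 F87933))
theorem E11542 : n24540 = n24491 := ((((iv F110197)).symm.trans (sb E9375 (iv F110461)))).symm
theorem F133000 : act 0 n11861 = n15189 := (sb E9376 F87747)
theorem F133001 : act 7 n11861 = n15157 := (sb E9376 (iv D19353))
theorem E11543 : n24493 = n15217 := ((((iv F69650)).symm.trans (sb E9376 (iv F110207)))).symm
theorem E11544 : n24598 = n24492 := (((D24492).symm.trans (sb E9377 (iv F110707)))).symm
theorem F133002 : act 0 n11902 = n15185 := (sb E9378 F87728)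
theorem F133003 : act 7 n11902 = n15154 := (sb E9378 (iv D19349))
theorem F133004 : act 0 n11889 = n15181 := (sb E9379 F87707)
theorem E11545 : n24494 = n15253 := ((((iv F69807)).symm.trans (sb E9379 (iv F110213)))).symm
theorem F133005 : act 7 n11889 = n15151 := (sb E9379 (iv D19345))
theorem E11547 : n15517 = n15174 := ((((iv F69460)).symm.trans (sb E9381 (iv F71082)))).symm
theorem F133006 : act 1 n19348 = n15292 := (sb E9382 F88606)
theorem E11548 : n24774 = n23957 := ((((iv F107678)).symm.trans (sb E9382 D24774))).symm
theorem E11549 : n24775 = n24501 := (((D24501).symm.trans (sb E9382 D24775))).symm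
theorem E11550 : n15593 = n15500 := ((((iv F70989)).symm.trans (sb E9383 F89935))).symm
theorem E11553 : n15501 = n15318 := ((D15501).symm.trans (sb E9384 (iv D19579)))
theorem F133007 : act 0 n11923 = n15177 := (sb E9385 F87683)
theorem F133008 : act 7 n11923 = n15149 := (sb E9385 (iv D19341))
theorem E11555 : n25877 = n24573 := (((D24573).symm.trans (sb E9473 (iv F116054)))).symm
theorem E11556 : n25285 = n24576 := ((((iv F110609)).symm.trans (sb E9475 (iv F113855)))).symm
theorem E11557 : n25316 = n24555 := ((((iv F110526)).symm.trans (sb E9475 (iv F113956)))).symm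
theorem E11558 : n24559 = n24496 := (((iv F110541)).symm.trans (sb E9388 (iv F110220)))
theorem E11560 : n25064 = n24543 := ((((iv F110475)).symm.trans (sb E9388 (iv F112953)))).symm
theorem E11561 : n25153 = n24564 := (((D24564).symm.trans (sb E9389 (iv F113336)))).symm
theorem E11562 : n24544 = n15566 := (((iv F110479)).symm.trans (sb E9390 F89871))
theorem E11563 : n24566 = n24496 := (((E11558).symm.trans (((iv F110541)).symm.trans (sb E9392 (iv F110570))))).symm
theorem E11564 : n24656 = n24561 := ((((iv F110552)).symm.trans (sb E9392 D24656))).symm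
theorem E11565 : n24630 = n24543 := ((((iv F110475)).symm.trans (sb E9392 (iv F110848)))).symm
theorem E11566 : n24773 = n24564 := (((D24564).symm.trans (sb E9393 D24773))).symm
theorem F133009 : act 2 n19394 = n15189 := (sb E9395 F87967)
theorem E11568 : n24549 = n24546 := ((((iv F110487)).symm.trans (sb E9395 (iv F110501)))).symm
theorem E11569 : n24604 = n24551 := ((((iv F110509)).symm.trans (sb E9396 (iv F110731)))).symm
theorem E11570 : n24700 = n24553 := (((D24553).symm.trans (sb E9397 D24700))).symm
theorem F133010 : act 5 n12090 = n15177 := (sb E9398 F87880)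
theorem F133011 : act 0 n12090 = n15318 := (sb E9399 F88773)
theorem E11575 : n25186 = n24553 := (((iv F113468)).symm.trans (sb E9402 (tr (iv F111143) E11570)))
theorem E11576 : n26554 = n25138 := ((((iv F113286)).symm.trans (sb E9402 (iv F118606)))).symm
theorem E11578 : n19885 = n19445 := (((D19445).symm.trans (iv (sb E9402 (tr (iv D21031) E11022))))).symm
theorem E11579 : n21031 = n19445 := (E9402).trans E11578
theorem E11580 : n26685 = n24611 := ((((iv F110759)).symm.trans (sb E11579 D26685))).symm
theorem E11582 : n24625 = n15544 := (((iv F110827)).symm.trans (sb E9403 F89833))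
theorem E11586 : n24618 = n9493 := (((F56171).symm.trans (sb E9406 (iv F110793)))).symm
theorem F133012 : act 5 n12121 = n15216 := (sb E9406 F88135)
theorem E11587 : n24627 = n15567 := (((D15567).symm.trans (sb E9406 D24627))).symm
theorem E11588 : n15562 = n15215 := (((iv F71281)).symm.trans (sb E9406 (iv D19436)))
theorem E11589 : n24628 = n15558 := ((((iv F71268)).symm.trans (sb E9406 D24628))).symm
theorem E11591 : n19431 = n7493 := (((F44493).symm.trans (sb E9408 (iv F88109)))).symm
theorem F133013 : act 5 n9459 = n11852 := (sb E9408 F69624)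
theorem E11592 : n12087 = n11849 := (((iv F56019)).symm.trans (sb E9408 (iv D15212)))
theorem E11596 : n25737 = n24651 := (((D24651).symm.trans (sb E9411 D25737))).symm
theorem E11597 : n25116 = n24652 := (((D24652).symm.trans (sb E9411 (iv F113202)))).symm
theorem E11600 : n16925 = n15228 := (((D15228).symm.trans (sb E9413 (iv F76506)))).symm
theorem E11601 : n24655 = n24099 := ((D24655).symm.trans (sb E9414 (iv F108298)))
theorem E11607 : n24898 = n24661 := ((((iv F110974)).symm.trans (sb E9422 (iv F112117)))).symm
theorem E11608 : n25738 = n24663 := (((D24663).symm.trans (sb E9422 (iv F115574)))).symm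
theorem E11613 : n25066 = n24634 := ((((iv F110865)).symm.trans (sb E9425 D25066))).symm
theorem E11614 : n24667 = n24576 := ((D24667).symm.trans (sb E9517 (tr (iv F113857) E11556)))
theorem F133014 : act 2 n19408 = n17107 := (sb E9428 F92419)
theorem E11615 : n25957 = n24586 := (((D24586).symm.trans (sb E9428 (iv F116312)))).symm
theorem F133015 : act 2 n18640 = n15512 := (sb E9435 F89863)
theorem E11626 : n25071 = n14833 := (((F84283).symm.trans (sb E9435 (iv F112986)))).symm
theorem E11627 : n25073 = n23560 := (((D23560).symm.trans (sb E9435 D25073))).symm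
theorem E11628 : n23551 = n15506 := (((iv F105621)).symm.trans (sb E9435 (iv D19802)))
theorem E11629 : n25074 = n23544 := ((((iv F105579)).symm.trans (sb E9435 D25074))).symm
theorem E11631 : n27434 = n25069 := (((D25069).symm.trans (sb E9436 (iv F122390)))).symm
theorem E11633 : n27337 = n15513 := (((D15513).symm.trans (sb E9437 (iv F121923)))).symm
theorem E11634 : n27808 = n25084 := ((((iv F113054)).symm.trans (sb E9438 D27808))).symm
theorem E11637 : n27534 = n15571 := (((D15571).symm.trans (sb E9439 (iv F122746)))).symm
theorem E11638 : n25069 = n24744 := ((((iv F111341)).symm.trans (sb E9448 (tr (iv F122388) E11631)))).symm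
theorem E11639 : n17075 = n15277 := (((F88523).symm.trans (sb E9448 F97475))).symm
theorem E11640 : n24747 = n15513 := (((iv F111356)).symm.trans (sb E9448 (tr (iv F121920) E11633)))
theorem E11641 : n24749 = n15571 := (((iv F111368)).symm.trans (sb E9448 (tr D27534 E11637)))
theorem E11644 : n19811 = n19522 := ((((iv F88515)).symm.trans (sb E9442 F113043))).symm
theorem E11645 : n19808 = n11891 := ((((iv D15275)).symm.trans (sb E9442 (iv D25082)))).symm
theorem E11646 : n25083 = n24750 := (((D24750).symm.trans (sb E9444 D25083))).symm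
theorem E11647 : n25980 = n24745 := ((((iv F111345)).symm.trans (sb E9445 (iv F116391)))).symm
theorem E11649 : n24748 = n17161 := (((iv F111362)).symm.trans (sb E9445 F97998))
theorem E11650 : n27694 = n24710 := ((((iv F111190)).symm.trans (sb E9445 D27694))).symm
theorem E11651 : n25188 = n24611 := (((iv F113476)).symm.trans (sb E9446 (tr (iv F119049) E11580)))
theorem E11653 : n27681 = n25191 := (((D25191).symm.trans (sb E9446 (iv F123392)))).symm
theorem E11656 : n19888 = n19526 := ((((iv F88534)).symm.trans (iv (sb E9447 (tr (iv D21872) E11639))))).symm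
theorem E11657 : n21872 = n19526 := (E9447).trans E11656
theorem E11658 : n25191 = n24711 := ((((iv F111196)).symm.trans (sb E11657 (tr D27681 E11653)))).symm
theorem F133017 : act 5 n13143 = n15294 := (sb E9460 F88577)
theorem E11668 : n25158 = n24779 := (((D24779).symm.trans (sb E9461 (iv F113358)))).symm
theorem E11672 : n17107 = n15298 := (((D15298).symm.trans (sb E9464 (iv F77216)))).symm
theorem E11675 : n24943 = n24569 := ((((iv F110584)).symm.trans (sb E9468 (iv F112314)))).symm
theorem F133018 : act 7 n19398 = n15409 := (sb E9468 F89324)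
theorem E11676 : n24671 = n24573 := (((D24573).symm.trans (sb E9468 (iv F111014)))).symm
theorem F133019 : act 2 n12019 = n15194 := (sb E9469 (iv F132505))
theorem F133020 : act 2 n11911 = n15196 := (sb E9470 (iv F132506))
theorem E11677 : n24642 = n24586 := (((D24586).symm.trans (sb E9471 (iv F110897)))).symm
theorem F133021 : act 7 n19408 = n15238 := (sb E9471 F88276)
theorem F133022 : act 9 n19408 = n15237 := (sb E9471 (iv D19470))
theorem E11678 : n24676 = n24555 := ((((iv F110526)).symm.trans (sb E9472 D24676))).symm
theorem F133023 : act 7 n19403 = n15240 := (sb E9472 F88285)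
theorem F133024 : act 8 n19403 = n15239 := (sb E9472 (iv D19472))
theorem F133025 : act 1 n19464 = n15409 := (sb E9474 F89152)
theorem F133026 : act 9 n19464 = n15375 := (sb E9474 (iv D19652))
theorem E11683 : n19578 = n12145 := ((D19578).symm.trans (iv (sb E9479 (tr F89826 E11553))))
theorem E11684 : n15505 = n14836 := ((((iv F67836)).symm.trans (sb E9480 (iv D19801)))).symm
theorem F133027 : act 7 n12077 = n14638 := (sb E9481 F84299)
theorem E11686 : n24887 = n24256 := ((((iv F109068)).symm.trans (sb E9508 F112071))).symm
theorem F133028 : act 6 n19608 = n15369 := (sb E9508 (iv D19642))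
theorem F133029 : act 7 n19609 = n15370 := (sb E9488 (iv D19644))
theorem F133030 : act 1 n19609 = n15369 := (sb E9489 F88971)
theorem F133031 : act 1 n19610 = n15403 := (sb E9492 F89275)
theorem E11690 : n24935 = n24859 := (((D24859).symm.trans (sb E9492 (iv F112285)))).symm
theorem E11691 : n24936 = n24258 := ((((iv F109079)).symm.trans (sb E9492 D24936))).symm
theorem E11692 : n24937 = n24861 := (((D24861).symm.trans (sb E9492 D24937))).symm
theorem F133032 : act 0 n11984 = n15366 := (sb E9493 F88955)
theorem F133033 : act 7 n11984 = n15345 := (sb E9493 (iv D19611))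
theorem F133034 : act 1 n19157 = n15437 := (sb E9494 F89459)
theorem E11693 : n24991 = n24261 := (((D24261).symm.trans (sb E9494 D24991))).symm
theorem F133035 : act 0 n12011 = n15367 := (sb E9496 F88961)
theorem F133036 : act 7 n12011 = n15346 := (sb E9496 (iv D19612))
theorem F133037 : act 1 n19613 = n15438 := (sb E9497 F89462)
theorem E11695 : n24992 = n24864 := (((D24864).symm.trans (sb E9497 D24992))).symm
theorem F133038 : act 7 n11964 = n15369 := (sb E9499 F89074)
theorem F133039 : act 1 n11959 = n15349 := (sb E9500 F88976)
theorem F133040 : act 7 n11963 = n15349 := (sb E9501 (iv D19617))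
theorem F133041 : act 2 n19608 = n15366 := (sb E9502 F89083)
theorem E11696 : n24884 = n24256 := ((((iv F109068)).symm.trans (sb E9502 (iv F112055)))).symm
theorem E11697 : n24886 = n24250 := (((iv F112064)).symm.trans (sb E9505 (iv F109035)))
theorem E11698 : n24889 = n23665 := ((D24889).symm.trans (sb E9505 (iv F106207)))
theorem E11700 : n24990 = n24892 := (((D24892).symm.trans (sb E9507 D24990))).symm
theorem F133042 : act 0 n15370 = n19608 := (sb E9511 (iv D24855))
theorem F133043 : act 3 n19645 = n15438 := (sb E9515 F89295)
theorem F133044 : act 7 n19645 = n15404 := (sb E9515 F89297)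
theorem F133045 : act 8 n19645 = n15403 := (sb E9515 (iv D19687))
theorem F133046 : act 4 n19647 = n15403 := (sb E9516 F89284)
theorem F133047 : act 7 n19647 = n15402 := (sb E9516 (iv D19684))
theorem F133048 : act 4 n19151 = n15394 := (sb E9518 F89240)
theorem F133049 : act 3 n18721 = n15397 := (sb E9522 F89249)
theorem F133050 : act 8 n18721 = n15394 := (sb E9522 (iv D19675))
theorem F133051 : act 0 n15400 = n19637 := (sb E9532 F111914)
theorem F133052 : act 7 n15400 = n19610 := (sb E9532 (iv D24860))
theorem E11708 : n26269 = n24368 := (((D24368).symm.trans (sb E9534 (iv F117481)))).symm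
theorem E11710 : n25421 = n24370 := (((D24370).symm.trans (sb E9534 (iv F114354)))).symm
theorem F133053 : act 4 n15404 = n19190 := (sb E9537 F106282)
theorem E11712 : n22056 = n19723 := ((((iv F89444)).symm.trans (iv (sb E9541 (tr (iv D22322) E11471))))).symm
theorem E11713 : n22322 = n19723 := (E9541).trans E11712
theorem E11714 : n28177 = n24987 := (((D24987).symm.trans (sb E11713 D28177))).symm
theorem E11715 : n27890 = n24987 := ((D27890).symm.trans (sb E9542 (tr (iv F125467) E11714)))
theorem E11717 : n24993 = n23670 := ((D24993).symm.trans (sb E9547 (iv F106232)))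
theorem F133054 : act 3 n10401 = n12007 := (sb E9550 F70605)
theorem F133055 : act 5 n10401 = n12015 := (sb E9550 F70606)
theorem E11722 : n24995 = n23471 := ((D24995).symm.trans (sb E9554 (iv F105183)))
theorem F133056 : act 4 n5918 = n7360 := (sb E9573 F43854)
theorem F133057 : act 6 n5918 = n7364 := (sb E9573 F43855)
theorem E11757 : n11913 = n4747 := (((D4747).symm.trans (sb E9590 (iv D15303)))).symm
theorem E11758 : n7461 = n7357 := ((D7461).symm.trans (sb E9592 F43825))
theorem E11759 : n7462 = n7356 := ((D7462).symm.trans (sb E9592 (iv D9323)))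
theorem F133058 : act 4 n5841 = n5366 := (sb E9593 (iv D6747))
theorem F133059 : act 6 n5840 = n5366 := (sb E9594 (iv D6748))
theorem E11804 : n12756 = n7077 := (((D7077).symm.trans (sb E9639 (iv F58472)))).symm
theorem E11805 : n7843 = n7078 := (((D7078).symm.trans (sb E9639 (iv D9971)))).symm
theorem F133060 : act 4 n6218 = n5373 := (sb E9647 (iv D6758))
theorem F133061 : act 7 n6218 = n7061 := (sb E9647 (iv F33514))
theorem F133062 : act 6 n6217 = n5373 := (sb E9648 (iv D6759))
theorem E11843 : n8590 = n8359 := ((D8590).symm.trans (sb E9677 F49248))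
theorem E11844 : n13724 = n8317 := ((((iv F38991)).symm.trans (sb E9677 D13724))).symm
theorem E11845 : n8591 = n8358 := ((D8591).symm.trans (sb E9677 (iv D10672)))
theorem F133065 : act 6 n6623 = n5386 := (sb E9678 (iv D6778))
theorem F133066 : act 6 n4333 = n5408 := (sb E9680 (iv D6808))
theorem E11866 : n12081 = n7362 := ((((iv F35115)).symm.trans (sb E9701 (iv F55980)))).symm
theorem E11867 : n7460 = n7363 := (((D7363).symm.trans (sb E9701 F44474))).symm
theorem E11868 : n11402 = n7852 := (((D7852).symm.trans (sb E9702 (iv F52661)))).symm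
theorem F133067 : act 7 n6224 = n7060 := (sb E9703 (iv D8942))
theorem F133068 : act 2 n6632 = n8360 := (sb E9704 F49046)
theorem F133069 : act 7 n6632 = n8325 := (sb E9704 (iv D10625))
theorem E12121 : n19537 = n12111 := (((D12111).symm.trans (sb E9946 F111434))).symm
theorem E12123 : n21828 = n13159 := (((D13159).symm.trans (sb E9972 (iv F97773)))).symm
theorem E12124 : n21098 = n13159 := ((F119363).symm.trans (sb E9948 (tr F123148 E12123)))
theorem F133071 : act 3 n10235 = n11899 := (sb E9950 F69951)
theorem F133072 : act 3 n10246 = n12783 := (sb E9953 F74563)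
theorem F133073 : act 3 n10254 = n12782 := (sb E9954 F74559)
theorem F133074 : act 5 n10254 = n12790 := (sb E9954 F74560)
theorem E12129 : n20519 = n13171 := (((D13171).symm.trans (sb E9954 (iv F92522)))).symm
theorem F133076 : act 3 n9311 = n8041 := (sb E9962 (iv D10237))
theorem E12131 : n13146 = n11655 := ((((iv F53958)).symm.trans (sb E9962 D13146))).symm
theorem E12132 : n13139 = n11900 := (((D11900).symm.trans (sb E9962 (iv F60055)))).symm
theorem E12133 : n13147 = n11654 := ((D13147).symm.trans (sb E9963 (iv D14947)))
theorem F133077 : act 1 n9718 = n8076 := (sb E9975 F47553)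
theorem E12143 : n13173 = n12408 := ((((iv F57223)).symm.trans (sb E9975 (iv F60187)))).symm
theorem F133078 : act 3 n9718 = n8054 := (sb E9975 F47554)
theorem E12145 : n13175 = n12455 := (((D12455).symm.trans (sb E9975 D13175))).symm
theorem E12146 : n13165 = n12456 := (((D12456).symm.trans (sb E9975 (iv F60162)))).symm
theorem F133079 : act 1 n9717 = n8077 := (sb E9976 F47557)
theorem F133080 : act 2 n9717 = n12377 := (sb E9976 (iv F57131))
theorem F133081 : act 5 n9717 = n8054 := (sb E9976 (iv D10258))
theorem E12147 : n13176 = n12454 := (((D12454).symm.trans (sb E9976 D13176))).symm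
theorem E12148 : n13177 = n12438 := ((((iv F57331)).symm.trans (sb E9976 D13177))).symm
theorem F133082 : act 1 n9958 = n8069 := (sb E9980 F47528)
theorem E12156 : n13164 = n12724 := ((((iv F58359)).symm.trans (sb E9980 D13164))).symm
theorem F133083 : act 3 n9958 = n8049 := (sb E9980 (iv D10250))
theorem E12157 : n13155 = n12764 := ((((iv F58505)).symm.trans (sb E9980 (iv F60127)))).symm
theorem E12158 : n13161 = n12784 := (((D12784).symm.trans (sb E9980 (iv F60148)))).symm
theorem E12162 : n22688 = n22656 := ((F123274).symm.trans (sb E9984 F127010))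
theorem E12163 : n13736 = n13186 := (((D13186).symm.trans (sb E10001 F79700))).symm
theorem E12164 : n22674 = n13187 := (((D13187).symm.trans (sb E10001 (iv F101195)))).symm
theorem E12165 : n22522 = n13187 := ((F123225).symm.trans (sb E9986 (tr F127101 E12164)))
theorem F133087 : act 1 n10274 = n12783 := (sb E9988 (iv F58571))
theorem E12166 : n13762 = n13200 := (((D13200).symm.trans (sb E9988 (iv F62541)))).symm
theorem E12168 : n13743 = n13186 := (((D13186).symm.trans (sb E9989 F79335))).symm
theorem E12171 : n22723 = n13201 := (((D13201).symm.trans (sb E9990 D22723))).symm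
theorem E12173 : n13225 = n8095 := (((F47633).symm.trans (sb E9991 F76997))).symm
theorem E12174 : n13294 = n13200 := ((((iv F60308)).symm.trans (sb E9991 F76998))).symm
theorem E12176 : n21803 = n13201 := (((D13201).symm.trans (sb E9991 (iv F97671)))).symm
theorem F133089 : act 1 n10280 = n12791 := (sb E9994 (iv F58599))
theorem E12179 : n13747 = n13189 := ((((iv F60254)).symm.trans (sb E9994 (iv F62487)))).symm
theorem E12180 : n13771 = n13208 := (((D13208).symm.trans (sb E9994 (iv F62575)))).symm
theorem F133090 : act 7 n10280 = n8382 := (sb E9994 F49381)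
theorem E12181 : n13772 = n13203 := ((((iv F60322)).symm.trans (sb E9994 D13772))).symm
theorem F133091 : act 2 n10274 = n8382 := (sb E9997 F49372)
theorem E12188 : n13663 = n13189 := (((D13189).symm.trans (sb E9999 (iv F62149)))).symm
theorem E12189 : n13727 = n13095 := ((((iv F59832)).symm.trans (sb E9999 (iv F62412)))).symm
theorem E12190 : n13713 = n13190 := (((D13190).symm.trans (sb E9999 (iv F62357)))).symm
theorem E12194 : n13218 = n13208 := ((((iv F60340)).symm.trans (sb E10003 (iv F60381)))).symm
theorem E12195 : n13263 = n13209 := (((D13209).symm.trans (sb E10003 (iv F60558)))).symm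
theorem F133095 : act 1 n10285 = n12782 := (sb E10008 (iv F58567))
theorem E12199 : n13287 = n13216 := (((D13216).symm.trans (sb E10008 (iv F60638)))).symm
theorem F133096 : act 1 n10286 = n12790 := (sb E10009 (iv F58595))
theorem E12200 : n13295 = n13217 := (((D13217).symm.trans (sb E10009 (iv F60670)))).symm
theorem F133097 : act 3 n6411 = n8077 := (sb E10014 F47699)
theorem F133098 : act 5 n6411 = n8076 := (sb E10014 (iv D10290))
theorem E12207 : n13224 = n8107 := (((D8107).symm.trans (sb E10014 D13224))).symm
theorem F133099 : act 2 n10285 = n8110 := (sb E10015 F47879)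
theorem F133100 : act 5 n10285 = n8109 := (sb E10015 (iv D10338))
theorem E12208 : n13293 = n13216 := (((D13216).symm.trans (sb E10015 D13293))).symm
theorem F133101 : act 2 n10286 = n8076 := (sb E10017 F47694)
theorem F133102 : act 3 n10286 = n8109 := (sb E10017 F47695)
theorem F133103 : act 6 n10286 = n8075 := (sb E10017 (iv D10289))
theorem E12210 : n13222 = n13217 := (((D13217).symm.trans (sb E10017 D13222))).symm
theorem E12211 : n13283 = n8112 := (((F47707).symm.trans (sb E10024 (iv F60619)))).symm
theorem E12212 : n13226 = n8111 := ((D13226).symm.trans (sb E10024 F47862))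
theorem E12213 : n13261 = n13227 := (((D13227).symm.trans (sb E10024 (iv F60554)))).symm
theorem E12214 : n22513 = n13245 := (((D13245).symm.trans (sb E10483 (iv F100526)))).symm
theorem E12215 : n22540 = n13240 := ((((iv F60480)).symm.trans (sb E10483 D22540))).symm
theorem E12216 : n13749 = n13245 := ((F79357).symm.trans (sb E10028 (tr F126307 E12214)))
theorem E12217 : n13750 = n13240 := ((F79361).symm.trans (sb E10030 (tr F126439 E12215)))
theorem E12219 : n13236 = n8370 := ((D13236).symm.trans (sb E10035 F49096))
theorem E12220 : n13655 = n13237 := (((D13237).symm.trans (sb E10035 (iv F62110)))).symm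
theorem F133108 : act 8 n10300 = n8331 := (sb E10035 (iv D10635))
theorem E12222 : n13673 = n13193 := ((((iv F60271)).symm.trans (sb E10035 D13673))).symm
theorem E12224 : n13260 = n13212 := ((((iv F60355)).symm.trans (sb E10036 D13260))).symm
theorem F133109 : act 6 n10293 = n8094 := (sb E10036 (iv D10317))
theorem E12225 : n13255 = n13228 := (((D13228).symm.trans (sb E10036 (iv F60533)))).symm
theorem E12226 : n13244 = n12773 := ((D13244).symm.trans (sb E10039 (iv F58535)))
theorem E12230 : n13271 = n12793 := (((iv F60583)).symm.trans (sb E10042 (iv F58607)))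
theorem E12232 : n13773 = n13272 := (((D13272).symm.trans (sb E10042 D13773))).symm
theorem E12233 : n13298 = n13273 := (((D13273).symm.trans (sb E10042 (iv F60684)))).symm
theorem E12235 : n22576 = n21780 := (((iv F100803)).symm.trans (sb E10043 (iv D27572)))
theorem E12236 : n13264 = n12794 := ((D13264).symm.trans (sb E10046 (iv F58610)))
theorem F133112 : act 7 n10320 = n8385 := (sb E10046 F49391)
theorem F133119 : act 2 n6619 = n8094 := (sb E10053 (iv D10316))
theorem F133120 : act 7 n6619 = n8100 := (sb E10053 F47805)
theorem F133121 : act 2 n10313 = n8385 := (sb E10055 F49160)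
theorem F133122 : act 1 n9966 = n8100 := (sb E10058 (iv D10324))
theorem F133123 : act 2 n9966 = n12445 := (sb E10058 (iv F57351))
theorem F133124 : act 1 n9965 = n8109 := (sb E10059 F47875)
theorem F133125 : act 2 n9965 = n12458 := (sb E10059 (iv F57396))
theorem E12241 : n13292 = n12463 := ((((iv F57417)).symm.trans (sb E10059 D13292))).symm
theorem F133126 : act 4 n10339 = n8114 := (sb E10061 F47897)
theorem E12243 : n21780 = n13276 := ((((iv F60599)).symm.trans (sb E10063 (tr D22576 E12235)))).symm
theorem E12245 : n21781 = n13296 := (((D13296).symm.trans (sb E10064 (iv F97590)))).symm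
theorem E12246 : n21773 = n13297 := (((D13297).symm.trans (sb E10066 (iv F97552)))).symm
theorem E12247 : n13337 = n12466 := ((((iv F57426)).symm.trans (sb E10070 (iv F60847)))).symm
theorem E12248 : n13234 = n8136 := (((iv F60454)).symm.trans (sb E10070 F48024))
theorem E12249 : n13339 = n13300 := (((D13300).symm.trans (sb E10070 (iv F60857)))).symm
theorem F133127 : act 7 n10345 = n8134 := (sb E10070 (iv D10373))
theorem E12251 : n13329 = n13301 := (((D13301).symm.trans (sb E10070 (iv F60817)))).symm
theorem E12252 : n13335 = n11910 := ((((iv F55167)).symm.trans (sb E10072 (iv F60839)))).symm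
theorem F133128 : act 1 n9968 = n8134 := (sb E10072 F48015)
theorem F133129 : act 2 n9968 = n12485 := (sb E10072 (iv F57490))
theorem E12253 : n13336 = n12795 := (((D12795).symm.trans (sb E10072 D13336))).symm
theorem E12254 : n13327 = n12796 := (((D12796).symm.trans (sb E10072 (iv F60807)))).symm
theorem F133130 : act 1 n9969 = n8129 := (sb E10076 (iv D10364))
theorem F133131 : act 2 n9969 = n12478 := (sb E10076 (iv F57464))
theorem E12266 : n13154 = n11670 := (((D11670).symm.trans (sb E10082 (iv F60125)))).symm
theorem F133132 : act 1 n9733 = n8082 := (sb E10084 F47580)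
theorem F133133 : act 2 n9733 = n12383 := (sb E10084 (iv F57156))
theorem E12274 : n13027 = n12474 := (((D12474).symm.trans (sb E10084 (iv F59537)))).symm
theorem E12275 : n13184 = n12475 := (((D12475).symm.trans (sb E10084 (iv F60230)))).symm
theorem E12276 : n13185 = n11467 := ((((iv F53020)).symm.trans (sb E10084 D13185))).symm
theorem F133134 : act 3 n6425 = n8082 := (sb E10090 F47727)
theorem E12284 : n13053 = n8127 := (((D8127).symm.trans (sb E10090 (iv F59667)))).symm
theorem E12285 : n13232 = n8128 := (((D8128).symm.trans (sb E10090 (iv F60447)))).symm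
theorem E12286 : n13233 = n8123 := ((((iv F38203)).symm.trans (sb E10090 D13233))).symm
theorem E12287 : n13321 = n13050 := ((((iv F59652)).symm.trans (sb E10093 D13321))).symm
theorem F133135 : act 6 n10299 = n8122 := (sb E10095 (iv D10355))
theorem F133136 : act 2 n6440 = n8114 := (sb E10101 F47730)
theorem F133137 : act 6 n6440 = n8081 := (sb E10101 (iv D10297))
theorem F133138 : act 5 n9150 = n8044 := (sb E10104 (iv D10242))
theorem E12302 : n13153 = n11685 := (((D11685).symm.trans (sb E10104 D13153))).symm
theorem F133139 : act 1 n9748 = n8081 := (sb E10110 F47577)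
theorem F133140 : act 2 n9748 = n12382 := (sb E10110 (iv F57152))
theorem F133141 : act 5 n9748 = n8059 := (sb E10110 F47578)
theorem F133142 : act 3 n6437 = n8081 := (sb E10115 F47722)
theorem F133143 : act 5 n6437 = n8080 := (sb E10115 F47723)
theorem F133144 : act 3 n10428 = n12605 := (sb E10126 F73695)
theorem F133145 : act 5 n10428 = n12613 := (sb E10126 F73696)
theorem F133146 : act 3 n9391 = n8155 := (sb E10130 (iv D10397))
theorem E12313 : n13367 = n11763 := ((((iv F54464)).symm.trans (sb E10130 D13367))).symm
theorem E12314 : n13363 = n12009 := (((D12009).symm.trans (sb E10130 (iv F60972)))).symm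
theorem E12315 : n13368 = n12233 := ((D13368).symm.trans (sb E10131 F69056))
theorem E12322 : n20713 = n12528 := ((((iv F57648)).symm.trans (sb E10138 (iv F93241)))).symm
theorem E12323 : n18766 = n12529 := (((D12529).symm.trans (sb E10138 (iv F84905)))).symm
theorem F133147 : act 1 n9826 = n8195 := (sb E10139 F48235)
theorem E12326 : n13401 = n12564 := ((((iv F57760)).symm.trans (sb E10139 (iv F61119)))).symm
theorem F133148 : act 3 n9826 = n8172 := (sb E10139 F48236)
theorem E12327 : n13402 = n11499 := ((((iv F53178)).symm.trans (sb E10139 D13402))).symm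
theorem E12328 : n13403 = n12606 := ((((iv F57895)).symm.trans (sb E10139 D13403))).symm
theorem E12329 : n13397 = n12607 := (((D12607).symm.trans (sb E10139 (iv F61107)))).symm
theorem E12330 : n18768 = n13404 := (((D13404).symm.trans (sb E10140 (iv F84918)))).symm
theorem E12331 : n13405 = n11496 := ((D13405).symm.trans (sb E10140 (iv D14725)))
theorem F133149 : act 1 n10067 = n8191 := (sb E10145 F48221)
theorem E12336 : n13396 = n12893 := ((((iv F59006)).symm.trans (sb E10145 D13396))).symm
theorem F133150 : act 3 n10067 = n8169 := (sb E10145 (iv D10418))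
theorem F133151 : act 3 n9206 = n8160 := (sb E10150 F48166)
theorem E12338 : n13377 = n11762 := (((D11762).symm.trans (sb E10150 D13377))).symm
theorem F133152 : act 5 n9205 = n8160 := (sb E10151 (iv D10405))
theorem E12339 : n13378 = n11761 := (((D11761).symm.trans (sb E10151 D13378))).symm
theorem F133153 : act 3 n10040 = n12527 := (sb E10157 (iv F57644))
theorem F133154 : act 3 n9917 = n12375 := (sb E10160 (iv F57124))
theorem E12353 : n20711 = n12208 := ((((iv F56502)).symm.trans (sb E10164 D20711))).symm
theorem F133155 : act 3 n9797 = n12536 := (sb E10166 (iv F57675))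
theorem E12355 : n13415 = n12563 := (((D12563).symm.trans (sb E10166 D13415))).symm
theorem F133156 : act 1 n9825 = n8205 := (sb E10168 F48265)
theorem F133157 : act 3 n9825 = n8180 := (sb E10168 F48266)
theorem F133158 : act 1 n9824 = n8206 := (sb E10169 F48268)
theorem F133159 : act 2 n9824 = n12539 := (sb E10169 (iv F57682))
theorem F133160 : act 5 n9824 = n8180 := (sb E10169 F48270)
theorem E12359 : n13420 = n11497 := ((((iv F53170)).symm.trans (sb E10169 D13420))).symm
theorem F133161 : act 1 n9011 = n8207 := (sb E10170 F48271)
theorem E12360 : n13421 = n11461 := ((((iv F52992)).symm.trans (sb E10170 D13421))).symm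
theorem F133162 : act 1 n10455 = n12935 := (sb E10171 (iv F59133))
theorem E12361 : n13547 = n13451 := (((D13451).symm.trans (sb E10171 (iv F61673)))).symm
theorem E12362 : n13961 = n13443 := ((((iv F61271)).symm.trans (sb E10171 D13961))).symm
theorem F133163 : act 1 n10450 = n12936 := (sb E10172 (iv F59137))
theorem F133164 : act 7 n10450 = n8492 := (sb E10172 F49937)
theorem E12364 : n13450 = n13441 := ((D13450).symm.trans (sb E10175 (iv F61261)))
theorem E12365 : n13466 = n13451 := (((D13451).symm.trans (sb E10175 (iv F61367)))).symm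
theorem F133165 : act 8 n10455 = n8200 := (sb E10175 (iv D10465))
theorem E12367 : n13452 = n11398 := ((D13452).symm.trans (sb E10176 (iv F52635)))
theorem E12368 : n13502 = n13453 := (((D13453).symm.trans (sb E10176 (iv F61510)))).symm
theorem E12369 : n13454 = n8219 := ((D13454).symm.trans (sb E10176 (iv D10492)))
theorem E12373 : n22307 = n13455 := (((D13455).symm.trans (sb E10181 (iv F99716)))).symm
theorem E12376 : n22306 = n8223 := (((F48343).symm.trans (sb E10183 (iv F99709)))).symm
theorem F133168 : act 1 n10463 = n12605 := (sb E10185 (iv F57889))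
theorem F133169 : act 1 n10464 = n12613 := (sb E10186 (iv F57915))
theorem F133170 : act 6 n10464 = n8241 := (sb E10186 (iv D10524))
theorem F133171 : act 3 n6504 = n8206 := (sb E10189 F48419)
theorem F133172 : act 5 n6504 = n8205 := (sb E10189 F48420)
theorem E12381 : n13477 = n8220 := ((((iv F38596)).symm.trans (sb E10189 D13477))).symm
theorem F133173 : act 3 n6492 = n8207 := (sb E10190 F48422)
theorem E12382 : n13478 = n8215 := ((((iv F38577)).symm.trans (sb E10190 D13478))).symm
theorem F133174 : act 2 n10463 = n8241 := (sb E10191 F48605)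
theorem F133175 : act 5 n10463 = n8240 := (sb E10191 F48607)
theorem F133176 : act 2 n10464 = n8205 := (sb E10194 F48411)
theorem F133177 : act 3 n10464 = n8240 := (sb E10194 F48412)
theorem E12388 : n22234 = n11395 := ((((iv F52620)).symm.trans (sb E10196 (iv F99395)))).symm
theorem E12389 : n22237 = n13434 := ((((iv F61232)).symm.trans (sb E10196 D22237))).symm
theorem F133178 : act 6 n6509 = n8240 := (sb E10198 F48575)
theorem F133179 : act 6 n6508 = n8206 := (sb E10199 (iv D10473))
theorem E12390 : n13479 = n8228 := ((((iv F38625)).symm.trans (sb E10199 D13479))).symm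
theorem E12392 : n19922 = n11381 := (((D11381).symm.trans (sb E10205 F111836))).symm
theorem E12395 : n20815 = n12150 := (((D12150).symm.trans (sb E10211 (iv F93599)))).symm
theorem E12396 : n19919 = n12091 := ((((iv F56045)).symm.trans (sb E10211 F90370))).symm
theorem F133180 : act 3 n9151 = n8044 := (sb E10220 F47498)
theorem E12400 : n13152 = n11686 := (((D11686).symm.trans (sb E10220 D13152))).symm
theorem E12401 : n13010 = n11687 := (((D11687).symm.trans (sb E10220 (iv F59469)))).symm
theorem F133181 : act 3 n9159 = n7970 := (sb E10221 (iv D10134))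
theorem F133182 : act 3 n9230 = n8165 := (sb E10244 F48191)
theorem F133183 : act 5 n9229 = n8165 := (sb E10245 F48197)
theorem F133184 : act 6 n10475 = n8214 := (sb E10249 (iv D10484))
theorem E12427 : n13505 = n12938 := (((iv F61518)).symm.trans (sb E10251 (iv F59144)))
theorem E12429 : n13963 = n13506 := (((D13506).symm.trans (sb E10251 (iv F63315)))).symm
theorem E12430 : n13550 = n13507 := (((D13507).symm.trans (sb E10251 (iv F61683)))).symm
theorem E12431 : n17959 = n10495 := ((((iv F48513)).symm.trans (iv (sb E10252 (tr F124941 E12376))))).symm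
theorem E12435 : n22212 = n13517 := (((D13517).symm.trans (sb E10256 (iv F99304)))).symm
theorem E12436 : n22214 = n13518 := (((D13518).symm.trans (sb E10256 (iv F99313)))).symm
theorem F133186 : act 8 n10501 = n13438 := (sb E10256 (iv D17341))
theorem F133187 : act 1 n10077 = n8221 := (sb E10258 (iv D10493))
theorem F133188 : act 2 n10077 = n12582 := (sb E10258 (iv F57810))
theorem F133189 : act 1 n10076 = n8226 := (sb E10260 F48531)
theorem F133190 : act 2 n10076 = n12589 := (sb E10260 (iv F57837))
theorem E12438 : n13515 = n12937 := (((D12937).symm.trans (sb E10260 D13515))).symm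
theorem E12439 : n13516 = n12616 := ((((iv F57930)).symm.trans (sb E10260 D13516))).symm
theorem E12442 : n13962 = n13517 := (((D13517).symm.trans (sb E10262 D13962))).symm
theorem E12443 : n13549 = n13518 := (((D13518).symm.trans (sb E10262 (iv F61679)))).symm
theorem F133191 : act 4 n10502 = n8246 := (sb E10263 F48625)
theorem F133192 : act 6 n10502 = n8244 := (sb E10263 F48626)
theorem E12444 : n22904 = n22208 := (((iv F102139)).symm.trans (sb E10264 (iv F114149)))
theorem E12445 : n22257 = n22209 := (((iv F99491)).symm.trans (sb E10265 (iv D28064)))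
theorem E12446 : n22208 = n13521 := ((((iv F61578)).symm.trans (sb E10276 (tr D22904 E12444)))).symm
theorem E12447 : n22209 = n13523 := ((((iv F61587)).symm.trans (sb E10276 (tr (iv F99490) E12445)))).symm
theorem E12449 : n28101 = n10506 := (((F61319).symm.trans (iv (sb E10267 (tr F125401 E12373))))).symm
theorem E12452 : n22257 = n13523 := (E12445).trans E12447
theorem F133194 : act 2 n10505 = n13438 := (sb E10269 F78126)
theorem E12454 : n22197 = n13524 := (((D13524).symm.trans (sb E10269 (iv F99243)))).symm
theorem F133195 : act 1 n9833 = n8240 := (sb E10273 F48602)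
theorem F133196 : act 2 n10525 = n13439 := (sb E10278 F78130)
theorem E12459 : n22198 = n13548 := (((D13548).symm.trans (sb E10278 (iv F99249)))).symm
theorem F133197 : act 1 n9018 = n8212 := (sb E10289 F48295)
theorem E12474 : n13431 = n11472 := ((((iv F53049)).symm.trans (sb E10289 D13431))).symm
theorem F133198 : act 3 n6519 = n8212 := (sb E10293 F48451)
theorem E12478 : n13486 = n8250 := ((((iv F38703)).symm.trans (sb E10293 D13486))).symm
theorem F133199 : act 2 n6527 = n8246 := (sb E10294 F48460)
theorem E12479 : n13487 = n8265 := ((((iv F38765)).symm.trans (sb E10294 D13487))).symm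
theorem F133200 : act 6 n6527 = n8212 := (sb E10294 F48461)
theorem E12480 : n13488 = n8257 := ((((iv F38731)).symm.trans (sb E10294 D13488))).symm
theorem F133201 : act 2 n10526 = n13433 := (sb E10301 F78095)
theorem E12486 : n13568 = n13551 := (((D13551).symm.trans (sb E10305 (iv F61764)))).symm
theorem F133202 : act 7 n10529 = n8262 := (sb E10305 (iv D10549))
theorem E12487 : n13561 = n13552 := (((D13552).symm.trans (sb E10305 (iv F61734)))).symm
theorem F133203 : act 7 n10530 = n8255 := (sb E10306 (iv D10540))
theorem F133204 : act 1 n10079 = n8255 := (sb E10309 F48673)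
theorem F133205 : act 2 n10079 = n12621 := (sb E10309 (iv F57947))
theorem F133206 : act 1 n10539 = n12940 := (sb E10311 (iv F59150))
theorem F133215 : act 1 n10548 = n12939 := (sb E10323 (iv F59147))
theorem F133217 : act 1 n8993 = n8213 := (sb E10337 F48298)
theorem F133218 : act 3 n6515 = n8213 := (sb E10340 F48456)
theorem F133219 : act 1 n9749 = n8080 := (sb E10363 F47572)
theorem F133220 : act 3 n9749 = n8059 := (sb E10363 F47573)
theorem E12522 : n13025 = n12498 := (((D12498).symm.trans (sb E10363 (iv F59531)))).symm
theorem F133221 : act 1 n9750 = n7989 := (sb E10364 F47063)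
theorem F133222 : act 3 n9750 = n7977 := (sb E10364 F47064)
theorem E12523 : n13024 = n12477 := ((((iv F57461)).symm.trans (sb E10364 D13024))).symm
theorem E12524 : n13325 = n13052 := ((((iv F59662)).symm.trans (sb E10365 (iv F60796)))).symm
theorem E12525 : n13311 = n13051 := (((D13051).symm.trans (sb E10366 (iv F60734)))).symm
theorem E12533 : n11927 = n7457 := (((D7457).symm.trans (sb E10387 (iv D15323)))).symm
theorem F133224 : act 3 n9450 = n11888 := (sb E10389 F69869)
theorem F133225 : act 6 n9450 = n11892 := (sb E10389 F69871)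
theorem F133226 : act 6 n9332 = n7455 := (sb E10390 (iv D9451))
theorem E12546 : n19501 = n7486 := (((D7486).symm.trans (sb E10406 (iv D24716)))).symm
theorem E12547 : n12118 = n11887 := ((D12118).symm.trans (sb E10407 F69865))
theorem E12548 : n19485 = n12119 := (((D12119).symm.trans (sb E10407 (iv F88344)))).symm
theorem F133229 : act 1 n9945 = n8321 := (sb E10413 F48899)
theorem E12552 : n13602 = n12711 := ((((iv F58312)).symm.trans (sb E10413 D13602))).symm
theorem F133230 : act 3 n9945 = n8298 := (sb E10413 (iv D10586))
theorem E12553 : n12757 = n11425 := (((iv F58476)).symm.trans (sb E10413 (iv F52798)))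
theorem E12554 : n13603 = n12747 := ((((iv F58437)).symm.trans (sb E10413 D13603))).symm
theorem F133231 : act 7 n9945 = n11415 := (sb E10413 (iv F52744))
theorem E12555 : n13604 = n12746 := ((D13604).symm.trans (sb E10414 (iv D16414)))
theorem F133232 : act 5 n8941 = n7853 := (sb E10417 F46431)
theorem F133233 : act 3 n9303 = n8287 := (sb E10420 (iv D10570))
theorem F133234 : act 6 n9302 = n8287 := (sb E10421 (iv D10571))
theorem F133235 : act 3 n9909 = n12674 := (sb E10427 (iv F58167))
theorem F133236 : act 1 n9933 = n8331 := (sb E10429 F48930)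
theorem F133237 : act 2 n9933 = n12676 := (sb E10429 (iv F58177))
theorem E12567 : n13741 = n13726 := (((F79646).symm.trans (sb E10434 (iv D17734)))).symm
theorem E12570 : n22694 = n22501 := (((iv F101269)).symm.trans (sb E10436 (iv F100469)))
theorem E12572 : n13726 = n11377 := ((((iv F52509)).symm.trans (sb E10439 (iv F62408)))).symm
theorem E12574 : n13746 = n13648 := (((D13648).symm.trans (sb E10440 F79697))).symm
theorem E12576 : n13652 = n8352 := (((F49016).symm.trans (sb E10441 F79222))).symm
theorem E12577 : n13716 = n13647 := ((((iv F62077)).symm.trans (sb E10441 F79223))).symm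
theorem E12579 : n13651 = n13648 := (((D13648).symm.trans (sb E10441 (iv D17610)))).symm
theorem E12582 : n13744 = n13642 := (((D13642).symm.trans (sb E10490 F79734))).symm
theorem E12583 : n22689 = n13643 := (((D13643).symm.trans (sb E10490 D22689))).symm
theorem E12584 : n13741 = n11377 := (E12567).trans E12572
theorem E12585 : n13706 = n13643 := ((F79536).symm.trans (sb E10445 (tr F127184 E12583)))
theorem F133245 : act 1 n10620 = n12770 := (sb E10447 (iv F58525))
theorem F133246 : act 7 n10620 = n8367 := (sb E10447 (iv D10686))
theorem E12586 : n13656 = n13642 := (((D13642).symm.trans (sb E10448 (iv F62112)))).symm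
theorem F133247 : act 2 n10617 = n8367 := (sb E10450 F49292)
theorem F133249 : act 7 n10624 = n8401 := (sb E10456 (iv D10732))
theorem F133250 : act 3 n6596 = n8331 := (sb E10457 F49083)
theorem F133251 : act 5 n10620 = n8327 := (sb E10459 (iv D10628))
theorem E12592 : n13709 = n8356 := (((F49031).symm.trans (sb E10461 (iv F62341)))).symm
theorem E12593 : n13711 = n13654 := (((D13654).symm.trans (sb E10461 D13711))).symm
theorem F133252 : act 7 n6608 = n8354 := (sb E10464 F49211)
theorem F133253 : act 7 n6598 = n8331 := (sb E10465 (iv D10634))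
theorem E12606 : n13715 = n12772 := (((iv F62362)).symm.trans (sb E10484 (iv F58532)))
theorem E12608 : n22436 = n12751 := ((((iv F58450)).symm.trans (sb E11050 (iv F100241)))).symm
theorem E12609 : n22530 = n13718 := (((D13718).symm.trans (sb E11050 (iv F100595)))).symm
theorem E12610 : n22514 = n13719 := (((D13719).symm.trans (sb E11050 (iv F100530)))).symm
theorem E12611 : n22541 = n13720 := (((D13720).symm.trans (sb E11050 D22541))).symm
theorem E12612 : n22511 = n13719 := (((E12610).symm.trans (((iv F100529)).symm.trans (sb E10486 F126304)))).symm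
theorem E12613 : n21751 = n13720 := (((iv F97450)).symm.trans (sb E10488 (tr F126445 E12611)))
theorem F133255 : act 4 n8924 = n8360 := (sb E10492 F49256)
theorem F133256 : act 1 n9951 = n8354 := (sb E10493 (iv D10666))
theorem F133257 : act 1 n9948 = n12712 := (sb E10495 F73994)
theorem F133258 : act 7 n9948 = n12672 := (sb E10495 (iv D16310))
theorem E12619 : n13745 = n13302 := ((D13745).symm.trans (sb E10500 F66412))
theorem E12620 : n13748 = n13250 := ((D13748).symm.trans (sb E10501 F76761))
theorem F133259 : act 2 n10708 = n13196 := (sb E10506 (iv D17006))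
theorem F133260 : act 5 n5921 = n7360 := (sb E10510 F43831)
theorem E12626 : n14567 = n9984 := ((((iv F46424)).symm.trans (sb E10511 D14567))).symm
theorem F133261 : act 2 n8401 = n8924 := (sb E10511 (iv D11380))
theorem F133262 : act 5 n5919 = n7364 := (sb E10513 F43883)
theorem E12640 : n21278 = n20040 := (((D20040).symm.trans (sb E10540 D21278))).symm
theorem F133263 : act 7 n15683 = n12897 := (sb E10540 (iv D16618))
theorem E12641 : n20993 = n19944 := ((((iv F90473)).symm.trans (sb E10540 (iv F94289)))).symm
theorem F133264 : act 0 n15683 = n19647 := (sb E10544 (iv F89131))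
theorem E12643 : n20652 = n20040 := (((D20040).symm.trans (sb E10544 (iv F93032)))).symm
theorem F133265 : act 0 n15698 = n19196 := (sb E10545 F109125)
theorem F133266 : act 8 n15698 = n19161 := (sb E10545 (iv D24268))
theorem E12646 : n20731 = n20061 := (((D20061).symm.trans (sb E10547 (iv F93294)))).symm
theorem E12650 : n26162 = n15700 := (((F90890).symm.trans (iv (sb E10549 (tr F117297 E12646))))).symm
theorem E12651 : n26221 = n15700 := (E10549).trans E12650
theorem E12652 : n20666 = n12568 := (((F71802).symm.trans (sb E12651 F117299))).symm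
theorem E12653 : n20664 = n19219 := ((((iv F87105)).symm.trans (sb E12651 (iv D26221)))).symm
theorem F133267 : act 0 n15631 = n19464 := (sb E10551 (iv F88252))
theorem F133268 : act 7 n15631 = n12729 := (sb E10551 (iv D16393))
theorem E12657 : n20999 = n19965 := ((((iv F90550)).symm.trans (sb E10551 D20999))).symm
theorem E12658 : n26434 = n15627 := ((((iv D19965)).symm.trans (iv (sb E10552 (tr F118437 E12657))))).symm
theorem E12659 : n26509 = n15627 := (E10552).trans E12658
theorem E12661 : n20905 = n19003 := ((((iv F86086)).symm.trans (sb E12659 F118440))).symm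
theorem F133269 : act 0 n15715 = n19183 := (sb E10555 F109059)
theorem E12665 : n20083 = n19153 := ((D20083).symm.trans (sb E10555 (iv D24255)))
theorem F133270 : act 0 n15716 = n19198 := (sb E10556 F109136)
theorem F133271 : act 8 n15716 = n19163 := (sb E10556 (iv D24270))
theorem F133272 : act 0 n15654 = n19199 := (sb E10557 F109141)
theorem F133273 : act 0 n15647 = n19403 := (sb E10558 F110296)
theorem E12666 : n20739 = n20082 := (((D20082).symm.trans (sb E10559 (iv F93315)))).symm
theorem F133274 : act 6 n15716 = n12575 := (sb E10560 (iv D16196))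
theorem E12668 : n20438 = n20006 := ((((iv F90680)).symm.trans (sb E10560 (iv F92254)))).symm
theorem E12674 : n20670 = n18704 := ((((iv F84611)).symm.trans (sb E10581 F117066))).symm
theorem E12677 : n20361 = n19260 := ((((iv F87277)).symm.trans (sb E10568 (iv D25821)))).symm
theorem E12678 : n21008 = n19988 := ((((iv F90626)).symm.trans (sb E10570 D21008))).symm
theorem F133275 : act 7 n15647 = n12736 := (sb E10570 F74328)
theorem E12679 : n26416 = n15643 := ((((iv D19988)).symm.trans (iv (sb E10571 (tr F118508 E12678))))).symm
theorem E12680 : n26526 = n15643 := (E10571).trans E12679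
theorem E12681 : n20919 = n19043 := ((((iv F86264)).symm.trans (sb E12680 F118510))).symm
theorem E12682 : n20357 = n18696 := ((((iv F84573)).symm.trans (sb E10572 F115625))).symm
theorem E12685 : n20314 = n19058 := ((((iv F86335)).symm.trans (sb E10572 (iv D25751)))).symm
theorem F133276 : act 0 n15665 = n18982 := (sb E10577 F107756)
theorem F133277 : act 9 n15665 = n18947 := (sb E10577 (iv D23973))
theorem F133278 : act 0 n15672 = n19031 := (sb E10579 (iv F86197))
theorem F133279 : act 3 n15672 = n12419 := (sb E10579 F72811)
theorem F133280 : act 6 n15672 = n12417 := (sb E10579 (iv D15978))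
theorem E12688 : n20442 = n20018 := ((((iv F90731)).symm.trans (sb E10579 D20442))).symm
theorem E12689 : n21012 = n20017 := (((D20017).symm.trans (sb E10580 D21012))).symm
theorem E12691 : n20367 = n18715 := ((((iv F84668)).symm.trans (sb E10584 F115679))).symm
theorem E12693 : n20322 = n19110 := ((((iv F86581)).symm.trans (sb E10584 (iv D25763)))).symm
theorem E12694 : n25469 = n15666 := (((F90723).symm.trans (iv (sb E10586 (tr F118522 E12689))))).symm
theorem E12695 : n26530 = n15666 := (E10586).trans E12694
theorem E12696 : n20923 = n12486 := (((F71671).symm.trans (sb E12695 F118523))).symm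
theorem E12697 : n20366 = n12487 := (((F71675).symm.trans (sb E10587 F115908))).symm
theorem E12698 : n20364 = n19119 := ((((iv F86629)).symm.trans (sb E10587 F115909))).symm
theorem F133281 : act 2 n15884 = n19453 := (sb E10591 F110918)
theorem F133282 : act 0 n15910 = n19453 := (sb E10592 (iv F88208))
theorem F133283 : act 3 n15910 = n12723 := (sb E10592 F74269)
theorem E12699 : n20983 = n20343 := (((D20343).symm.trans (sb E10592 D20983))).symm
theorem E12700 : n20984 = n20328 := ((((iv F91904)).symm.trans (sb E10592 D20984))).symm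
theorem E12701 : n20995 = n20344 := (((D20344).symm.trans (sb E10593 F118819))).symm
theorem F133284 : act 5 n15885 = n19545 := (sb E10595 F111417)
theorem E12702 : n20350 = n12407 := (((F72599).symm.trans (sb E10596 F115819))).symm
theorem E12703 : n20426 = n20343 := ((((iv F91952)).symm.trans (sb E10596 F115820))).symm
theorem E12704 : n20349 = n20344 := (((D20344).symm.trans (sb E10596 (iv D25803)))).symm
theorem E12705 : n21725 = n20346 := (((D20346).symm.trans (sb E10980 D21725))).symm
theorem E12706 : n21704 = n20347 := (((D20347).symm.trans (sb E10980 (iv F97281)))).symm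
theorem E12707 : n20528 = n20346 := ((F116583).symm.trans (sb E10598 (tr F122565 E12705)))
theorem E12709 : n20992 = n20328 := (((D20328).symm.trans (sb E10601 F118411))).symm
theorem F133288 : act 0 n15914 = n19462 := (sb E10604 (iv F88244))
theorem F133289 : act 7 n15914 = n12727 := (sb E10604 (iv D16391))
theorem E12711 : n20996 = n20336 := ((((iv F91932)).symm.trans (sb E10604 D20996))).symm
theorem F133290 : act 1 n15910 = n12727 := (sb E10606 F74287)
theorem E12713 : n21107 = n20347 := (((E12706).symm.trans (((iv F97278)).symm.trans (sb E10609 F119404)))).symm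
theorem F133291 : act 3 n15914 = n12680 := (sb E10610 F74037)
theorem F133292 : act 5 n15914 = n12679 := (sb E10610 (iv D16319))
theorem E12714 : n20894 = n20336 := ((((iv F91932)).symm.trans (sb E10610 D20894))).symm
theorem F133293 : act 0 n16010 = n19408 := (sb E10615 F110330)
theorem E12715 : n21003 = n20399 := ((((iv F92136)).symm.trans (sb E10616 (iv F94315)))).symm
theorem E12716 : n20974 = n20456 := ((((iv F92320)).symm.trans (sb E10616 (iv F94224)))).symm
theorem E12717 : n21005 = n20489 := (((D20489).symm.trans (sb E10616 (iv F94321)))).symm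
theorem F133294 : act 7 n16010 = n12734 := (sb E10616 F74321)
theorem E12718 : n26431 = n15950 := ((((iv D20399)).symm.trans (iv (sb E10617 (tr F118451 E12715))))).symm
theorem E12719 : n26513 = n15950 := (E10617).trans E12718
theorem E12720 : n20908 = n18675 := ((((iv F84474)).symm.trans (sb E12719 F118453))).symm
theorem E12721 : n26446 = n15990 := ((((iv D20456)).symm.trans (iv (sb E10618 (tr F118334 E12716))))).symm
theorem E12722 : n26484 = n15990 := (E10618).trans E12721
theorem E12724 : n20887 = n18691 := ((((iv F84548)).symm.trans (sb E12722 F118338))).symm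
theorem E12730 : n20526 = n20422 := ((((iv F92196)).symm.trans (sb E11098 (iv F92549)))).symm
theorem E12731 : n21967 = n20522 := (((D20522).symm.trans (sb E11098 D21967))).symm
theorem E12732 : n21694 = n20522 := (((iv F97248)).symm.trans (sb E10621 (tr F123785 E12731)))
theorem F133295 : act 0 n15234 = n12410 := (sb E10624 (iv D15966))
theorem F133296 : act 1 n15234 = n19019 := (sb E10624 (iv F86148))
theorem E12733 : n20425 = n19466 := (((D19466).symm.trans (sb E10624 D20425))).symm
theorem E12734 : n20405 = n19467 := (((D19467).symm.trans (sb E10624 (iv F92154)))).symm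
theorem E12736 : n20433 = n20427 := (((D20427).symm.trans (sb E10626 (iv F92236)))).symm
theorem F133297 : act 1 n9921 = n12406 := (sb E10627 (iv D15960))
theorem F133298 : act 7 n9921 = n12410 := (sb E10627 F72754)
theorem E12739 : n20393 = n12731 := (((D12731).symm.trans (sb E10627 (iv F92124)))).symm
theorem E12740 : n20971 = n20383 := ((((iv F92099)).symm.trans (sb E10628 (iv F94214)))).symm
theorem E12742 : n21692 = n20527 := (((D20527).symm.trans (sb E10629 (iv F97242)))).symm
theorem F133299 : act 0 n15237 = n12445 := (sb E10631 (iv D16016))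
theorem F133300 : act 1 n15237 = n19069 := (sb E10631 (iv F86382))
theorem E12743 : n20462 = n19446 := ((((iv F88178)).symm.trans (sb E10631 (iv F92344)))).symm
theorem E12744 : n20498 = n19469 := ((((iv F88272)).symm.trans (sb E10631 D20498))).symm
theorem E12747 : n20973 = n20463 := (((D20463).symm.trans (sb E10633 (iv F94221)))).symm
theorem E12748 : n20450 = n12718 := (((iv F92300)).symm.trans (sb E10633 F74245))
theorem F133301 : act 8 n15994 = n12717 := (sb E10633 (iv D16375))
theorem E12749 : n21004 = n20499 := (((D20499).symm.trans (sb E10634 D21004))).symm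
theorem E12750 : n20500 = n20436 := ((D20500).symm.trans (sb E10634 (iv F92246)))
theorem F133302 : act 1 n9924 = n12437 := (sb E10635 (iv D16004))
theorem F133303 : act 7 n9924 = n12445 := (sb E10635 F72906)
theorem F133304 : act 0 n15236 = n12458 := (sb E10636 F73008)
theorem F133305 : act 1 n15236 = n19089 := (sb E10636 (iv F86466))
theorem E12753 : n20355 = n12460 := (((D12460).symm.trans (sb E10637 (iv F92001)))).symm
theorem F133306 : act 0 n16037 = n19455 := (sb E10638 (iv F88214))
theorem F133307 : act 2 n16037 = n12782 := (sb E10638 F74273)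
theorem F133308 : act 6 n16037 = n12723 := (sb E10638 (iv D16384))
theorem E12754 : n20986 = n20527 := (((D20527).symm.trans (sb E10638 D20986))).symm
theorem F133309 : act 7 n15973 = n12458 := (sb E10639 (iv D16038))
theorem E12763 : n21721 = n20531 := (((D20531).symm.trans (sb E10650 D21721))).symm
theorem E12771 : n20311 = n19014 := (((D19014).symm.trans (sb E10663 (iv F91839)))).symm
theorem F133310 : act 0 n14946 = n12377 := (sb E10664 F72518)
theorem F133311 : act 1 n14946 = n18940 := (sb E10664 (iv F85799))
theorem F133312 : act 5 n14946 = n12357 := (sb E10664 (iv D15889))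
theorem E12773 : n20313 = n19082 := (((D19082).symm.trans (sb E10664 D20313))).symm
theorem F133313 : act 1 n15043 = n12729 := (sb E10670 F74068)
theorem E12777 : n20352 = n19211 := (((D19211).symm.trans (sb E10670 (iv F91989)))).symm
theorem F133314 : act 6 n15916 = n12406 := (sb E10671 (iv D15961))
theorem E12778 : n20418 = n20353 := (((D20353).symm.trans (sb E10671 D20418))).symm
theorem E12779 : n20394 = n20354 := (((D20354).symm.trans (sb E10671 (iv F92127)))).symm
theorem E12780 : n20884 = n20375 := ((((iv F92073)).symm.trans (sb E10672 (iv F93895)))).symm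
theorem E12782 : n20480 = n20341 := ((((iv F91946)).symm.trans (sb E10674 D20480))).symm
theorem F133315 : act 6 n15919 = n12437 := (sb E10674 (iv D16005))
theorem E12783 : n20871 = n20451 := (((D20451).symm.trans (sb E10675 (iv F93838)))).symm
theorem F133316 : act 8 n15986 = n12676 := (sb E10675 (iv D16316))
theorem F133317 : act 1 n14671 = n12734 := (sb E10676 F74086)
theorem F133318 : act 0 n16064 = n18979 := (sb E10677 F107742)
theorem F133319 : act 3 n16064 = n18947 := (sb E10677 F107744)
theorem F133320 : act 0 n15244 = n12485 := (sb E10679 F73140)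
theorem E12785 : n20568 = n19477 := (((D19477).symm.trans (sb E10679 D20568))).symm
theorem F133321 : act 1 n9753 = n12419 := (sb E10681 F72655)
theorem F133322 : act 6 n9753 = n12382 := (sb E10681 (iv D15925))
theorem E12789 : n20571 = n20444 := (((D20444).symm.trans (sb E10684 (iv F92716)))).symm
theorem F133323 : act 7 n15981 = n12485 := (sb E10684 (iv D16074))
theorem E12790 : n20559 = n20445 := (((D20445).symm.trans (sb E10684 (iv F92670)))).symm
theorem E12792 : n21015 = n20558 := ((((iv F92666)).symm.trans (sb E10685 D21015))).symm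
theorem E12793 : n25466 = n16065 := (((F92663).symm.trans (iv (sb E10687 (tr F118534 E12792))))).symm
theorem E12794 : n26533 = n16065 := (E10687).trans E12793
theorem E12795 : n22498 = n12480 := (((F73115).symm.trans (sb E12794 F118535))).symm
theorem F133324 : act 1 n25760 = n20445 := (sb E10688 F115919)
theorem E12796 : n25760 = n16066 := (((F84671).symm.trans (iv (sb E10688 (tr F115921 E12691))))).symm
theorem F133326 : act 0 n14967 = n12383 := (sb E10693 F72548)
theorem F133327 : act 1 n14967 = n18947 := (sb E10693 (iv F85835))
theorem E12801 : n20105 = n19109 := (((D19109).symm.trans (sb E10693 (iv F91049)))).symm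
theorem F133328 : act 1 n14935 = n12736 := (sb E10695 F74107)
theorem E12804 : n20362 = n19064 := (((D19064).symm.trans (sb E10695 (iv F92030)))).symm
theorem F133329 : act 1 n14973 = n12418 := (sb E10696 F72652)
theorem F133330 : act 3 n14973 = n12383 := (sb E10696 F72653)
theorem E12805 : n20133 = n19118 := (((D19118).symm.trans (sb E10696 (iv F91171)))).symm
theorem E12806 : n20549 = n20128 := ((((iv F91149)).symm.trans (sb E10697 D20549))).symm
theorem E12807 : n20550 = n20135 := ((((iv F91181)).symm.trans (sb E10697 D20550))).symm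
theorem E12808 : n20136 = n18714 := ((D20136).symm.trans (sb E10697 (iv F84667)))
theorem F133331 : act 1 n14685 = n12421 := (sb E10699 F72663)
theorem F133332 : act 9 n14685 = n12383 := (sb E10699 (iv D15927))
theorem F133333 : act 5 n9839 = n12360 := (sb E10703 (iv D15893))
theorem E12812 : n20319 = n12623 := (((D12623).symm.trans (sb E10703 D20319))).symm
theorem F133334 : act 0 n14988 = n12382 := (sb E10704 F72544)
theorem F133335 : act 1 n14988 = n18946 := (sb E10704 (iv F85830))
theorem F133336 : act 5 n14988 = n12362 := (sb E10704 F72546)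
theorem F133337 : act 1 n15077 = n12416 := (sb E10708 F72645)
theorem E12816 : n19952 = n19259 := (((D19259).symm.trans (sb E10708 (iv F90507)))).symm
theorem F133338 : act 1 n15117 = n12417 := (sb E10709 F72648)
theorem F133339 : act 3 n15117 = n12382 := (sb E10709 F72649)
theorem F133340 : act 5 n15117 = n12381 := (sb E10709 F72650)
theorem F133341 : act 2 n16103 = n19674 := (sb E10713 F112242)
theorem F133342 : act 5 n16103 = n19686 := (sb E10713 F112244)
theorem F133343 : act 5 n16105 = n19297 := (sb E10714 F109877)
theorem F133344 : act 0 n16132 = n19674 := (sb E10716 (iv F89245))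
theorem E12818 : n20716 = n20651 := (((D20651).symm.trans (sb E10716 (iv F93250)))).symm
theorem F133345 : act 0 n16133 = n19686 := (sb E10717 (iv F89290))
theorem E12819 : n20728 = n20653 := (((D20653).symm.trans (sb E10717 (iv F93285)))).symm
theorem E12820 : n21282 = n20654 := (((D20654).symm.trans (sb E10717 D21282))).symm
theorem F133346 : act 2 n9796 = n12537 := (sb E10720 F73386)
theorem F133347 : act 5 n9796 = n12536 := (sb E10720 (iv D16139))
theorem E12823 : n20662 = n12562 := (((D12562).symm.trans (sb E10720 D20662))).symm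
theorem F133348 : act 1 n16132 = n12567 := (sb E10721 F73526)
theorem F133349 : act 3 n16132 = n12609 := (sb E10721 F73527)
theorem F133350 : act 5 n16132 = n12566 := (sb E10721 (iv D16184))
theorem E12824 : n20724 = n20651 := (((D20651).symm.trans (sb E10721 D20724))).symm
theorem F133351 : act 1 n16133 = n12536 := (sb E10723 F73383)
theorem F133352 : act 2 n16133 = n12566 := (sb E10723 F73384)
theorem F133353 : act 6 n16133 = n12535 := (sb E10723 (iv D16138))
theorem E12825 : n20660 = n20653 := (((D20653).symm.trans (sb E10723 D20660))).symm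
theorem E12826 : n20654 = n20639 := ((D20654).symm.trans (sb E10723 (iv F92986)))
theorem F133354 : act 0 n15912 = n19545 := (sb E10727 (iv F88614))
theorem F133355 : act 2 n15912 = n12790 := (sb E10727 F74591)
theorem F133356 : act 0 n16135 = n19297 := (sb E10728 (iv F87446))
theorem F133357 : act 2 n16135 = n12613 := (sb E10728 F73726)
theorem F133358 : act 6 n16135 = n12611 := (sb E10728 (iv D16244))
theorem E12829 : n20803 = n20656 := (((D20656).symm.trans (sb E10728 D20803))).symm
theorem F133359 : act 0 n15225 = n12375 := (sb E10735 F72511)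
theorem E12830 : n20309 = n19390 := ((((iv F87939)).symm.trans (sb E10735 D20309))).symm
theorem F133360 : act 2 n15225 = n12356 := (sb E10735 (iv D15887))
theorem E12831 : n19927 = n19452 := (((D19452).symm.trans (sb E10735 (iv F90403)))).symm
theorem E12832 : n20310 = n19015 := ((((iv F86132)).symm.trans (sb E10735 D20310))).symm
theorem E12833 : n20301 = n19454 := (((D19454).symm.trans (sb E10735 (iv F91802)))).symm
theorem E12834 : n19634 = n19159 := (((D19159).symm.trans (sb E10744 F112036))).symm
theorem E12835 : n20024 = n19636 := (((D19636).symm.trans (sb E10746 (iv F90752)))).symm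
theorem E12837 : n20598 = n19638 := (((D19638).symm.trans (sb E10746 (iv F92826)))).symm
theorem F133361 : act 0 n15393 = n12207 := (sb E10747 F71698)
theorem F133362 : act 2 n15393 = n12200 := (sb E10747 (iv D15673))
theorem E12838 : n20025 = n19230 := ((((iv F87156)).symm.trans (sb E10747 D20025))).symm
theorem F133363 : act 7 n15393 = n19151 := (sb E10747 (iv F86797))
theorem F133364 : act 0 n15055 = n12536 := (sb E10748 F73273)
theorem F133365 : act 2 n15055 = n12515 := (sb E10748 F73274)
theorem E12839 : n20613 = n19231 := (((D19231).symm.trans (sb E10748 D20613))).symm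
theorem E12840 : n20599 = n19232 := (((D19232).symm.trans (sb E10748 (iv F92830)))).symm
theorem F133366 : act 0 n15395 = n12527 := (sb E10749 F73242)
theorem F133367 : act 2 n15395 = n12508 := (sb E10749 (iv D16098))
theorem F133368 : act 7 n15395 = n18721 := (sb E10749 (iv F84708))
theorem E12841 : n20594 = n19676 := (((D19676).symm.trans (sb E10749 (iv F92811)))).symm
theorem E12842 : n20698 = n20026 := (((D20026).symm.trans (sb E10750 F109539))).symm
theorem F133369 : act 0 n15054 = n12537 := (sb E10751 F73276)
theorem F133370 : act 1 n15054 = n19161 := (sb E10751 (iv F86844))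
theorem F133371 : act 5 n15054 = n12515 := (sb E10751 (iv D16108))
theorem E12844 : n20615 = n19229 := (((D19229).symm.trans (sb E10751 D20615))).symm
theorem E12845 : n20600 = n20064 := ((D20600).symm.trans (sb E10753 F109548))
theorem E12846 : n21282 = n20639 := (E12820).trans E12826
theorem F133372 : act 7 n16125 = n12899 := (sb E10755 F75182)
theorem E12847 : n21283 = n20632 := ((((iv F92959)).symm.trans (sb E10755 D21283))).symm
theorem E12848 : n20041 = n19220 := ((D20041).symm.trans (sb E10756 (iv F87109)))
theorem E12850 : n20715 = n19185 := ((((iv F86964)).symm.trans (sb E10756 D20715))).symm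
theorem E12855 : n20421 = n20337 := ((((iv F91935)).symm.trans (sb E10762 D20421))).symm
theorem E12858 : n20717 = n20641 := ((((iv F92992)).symm.trans (sb E10764 D20717))).symm
theorem E12859 : n20640 = n18751 := ((D20640).symm.trans (sb E10765 (iv F84836)))
theorem F133373 : act 0 n16125 = n19645 := (sb E10766 (iv F89123))
theorem F133374 : act 3 n16125 = n12863 := (sb E10766 F75001)
theorem E12861 : n21220 = n20632 := ((((iv F92959)).symm.trans (sb E10766 D21220))).symm
theorem F133375 : act 0 n15095 = n12539 := (sb E10771 F73281)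
theorem F133376 : act 1 n15095 = n19163 := (sb E10771 (iv F86851))
theorem F133377 : act 5 n15095 = n12517 := (sb E10771 F73284)
theorem E12862 : n20602 = n20085 := (((iv F92840)).symm.trans (sb E10772 F109881))
theorem F133378 : act 5 n15718 = n12509 := (sb E10773 (iv D16100))
theorem E12863 : n20596 = n20086 := (((D20086).symm.trans (sb E10773 (iv F92819)))).symm
theorem F133379 : act 0 n16164 = n19194 := (sb E10778 F109115)
theorem F133380 : act 4 n16164 = n19161 := (sb E10778 (iv D24266))
theorem F133381 : act 0 n16157 = n19398 := (sb E10779 F110272)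
theorem E12864 : n21289 = n20696 := (((D20696).symm.trans (sb E10780 D21289))).symm
theorem E12865 : n20735 = n20697 := (((D20697).symm.trans (sb E10780 (iv F93304)))).symm
theorem E12867 : n25364 = n16165 := (((F93191).symm.trans (iv (sb E10781 (tr F120022 E12864))))).symm
theorem E12869 : n26159 = n16166 := (((F93194).symm.trans (iv (sb E10782 (tr F117309 E12865))))).symm
theorem E12870 : n26224 = n16166 := (E10782).trans E12869
theorem E12871 : n20667 = n18748 := ((((iv F84825)).symm.trans (sb E12870 F117311))).symm
theorem F133382 : act 7 n16157 = n12904 := (sb E10784 F75200)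
theorem E12873 : n22120 = n20719 := (((D20719).symm.trans (sb E10899 (iv F98957)))).symm
theorem E12874 : n20801 = n20719 := (((E12873).symm.trans (((iv F98956)).symm.trans (sb E10786 F117907)))).symm
theorem F133383 : act 0 n16136 = n19730 := (sb E10787 (iv F89471))
theorem F133384 : act 2 n16136 = n12935 := (sb E10787 F75320)
theorem E12875 : n21334 = n18736 := ((((iv F84778)).symm.trans (sb E10787 D21334))).symm
theorem E12876 : n21335 = n20657 := (((D20657).symm.trans (sb E10787 D21335))).symm
theorem F133385 : act 0 n15407 = n12566 := (sb E10790 F73524)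
theorem F133386 : act 1 n15407 = n19236 := (sb E10790 (iv F87180))
theorem E12877 : n20722 = n19244 := ((((iv F87208)).symm.trans (sb E10790 D20722))).symm
theorem F133387 : act 3 n16185 = n12572 := (sb E10792 F73545)
theorem E12879 : n20710 = n12570 := (((iv F93234)).symm.trans (sb E10792 (iv D16191)))
theorem F133388 : act 1 n16180 = n12611 := (sb E10796 F73718)
theorem F133389 : act 7 n16180 = n12609 := (sb E10796 (iv D16242))
theorem F133390 : act 0 n16194 = n19203 := (sb E10797 F109160)
theorem E12880 : n20764 = n18727 := (((D18727).symm.trans (sb E10802 (iv F93411)))).symm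
theorem F133391 : act 2 n9848 = n12204 := (sb E10803 F71719)
theorem E12881 : n20031 = n12592 := ((((iv F57847)).symm.trans (sb E10803 D20031))).symm
theorem E12882 : n20032 = n12633 := (((D12633).symm.trans (sb E10803 D20032))).symm
theorem E12883 : n19932 = n12624 := ((((iv F57957)).symm.trans (sb E10803 (iv F90429)))).symm
theorem E12884 : n20033 = n12590 := ((D20033).symm.trans (sb E10804 (iv D16217)))
theorem E12885 : n20768 = n20034 := (((D20034).symm.trans (sb E10804 D20768))).symm
theorem E12886 : n20769 = n20035 := (((D20035).symm.trans (sb E10804 D20769))).symm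
theorem E12887 : n20752 = n19933 := ((((iv F90433)).symm.trans (sb E10804 (iv F93367)))).symm
theorem E12888 : n20816 = n19934 := ((((iv F90438)).symm.trans (sb E10805 (iv F93604)))).symm
theorem E12889 : n20289 = n19822 := ((((iv F89983)).symm.trans (sb E10806 F91747))).symm
theorem F133392 : act 2 n14642 = n12349 := (sb E10807 F72476)
theorem F133393 : act 2 n9864 = n12149 := (sb E10808 (iv D15604))
theorem E12890 : n19821 = n12648 := (((D12648).symm.trans (sb E10808 (iv F89978)))).symm
theorem E12891 : n19375 = n12346 := (((iv F87866)).symm.trans (sb E10809 (iv D15876)))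
theorem F133394 : act 5 n14853 = n12621 := (sb E10813 (iv D16254))
theorem F133395 : act 2 n9849 = n12521 := (sb E10816 F73298)
theorem E12892 : n20317 = n12625 := ((((iv F57962)).symm.trans (sb E10816 (iv F91866)))).symm
theorem F133396 : act 2 n9840 = n12360 := (sb E10817 F72533)
theorem E12893 : n20101 = n12626 := (((D12626).symm.trans (sb E10817 (iv F91032)))).symm
theorem F133397 : act 5 n9847 = n12521 := (sb E10819 F73306)
theorem E12894 : n20817 = n20103 := ((((iv F91041)).symm.trans (sb E10820 D20817))).symm
theorem E12895 : n20562 = n20102 := (((D20102).symm.trans (sb E10821 (iv F92678)))).symm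
theorem F133398 : act 2 n9865 = n12244 := (sb E10825 (iv D15732))
theorem F133399 : act 2 n15086 = n12212 := (sb E10841 F71760)
theorem E12898 : n20050 = n19273 := (((D19273).symm.trans (sb E10841 D20050))).symm
theorem E12899 : n20051 = n19274 := (((D19274).symm.trans (sb E10841 D20051))).symm
theorem E12900 : n19950 = n19261 := ((((iv F87284)).symm.trans (sb E10841 (iv F90499)))).symm
theorem F133400 : act 2 n15127 = n12213 := (sb E10842 F71764)
theorem E12901 : n19951 = n19312 := ((((iv F87523)).symm.trans (sb E10842 (iv F90505)))).symm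
theorem F133401 : act 2 n15118 = n12159 := (sb E10843 F71507)
theorem E12902 : n19832 = n19313 := (((D19313).symm.trans (sb E10843 (iv F90025)))).symm
theorem F133402 : act 2 n15119 = n12381 := (sb E10846 F72641)
theorem E12905 : n20130 = n19314 := (((D19314).symm.trans (sb E10846 (iv F91160)))).symm
theorem F133403 : act 2 n15120 = n12258 := (sb E10847 F72001)
theorem E12906 : n20129 = n19122 := ((((iv F86644)).symm.trans (sb E10847 D20129))).symm
theorem F133404 : act 1 n15084 = n12222 := (sb E10848 F71769)
theorem E12907 : n20043 = n19218 := ((((iv F87099)).symm.trans (sb E10848 (iv F90824)))).symm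
theorem F133405 : act 4 n15084 = n12212 := (sb E10848 (iv D15691))
theorem E12908 : n20052 = n19271 := (((D19271).symm.trans (sb E10848 D20052))).symm
theorem E12909 : n20288 = n19833 := (((D19833).symm.trans (sb E10853 (iv F110033)))).symm
theorem F133406 : act 1 n15048 = n12569 := (sb E10854 F73391)
theorem F133407 : act 4 n15048 = n12537 := (sb E10854 (iv D16141))
theorem F133408 : act 1 n15085 = n12575 := (sb E10855 F73424)
theorem F133409 : act 1 n14709 = n12571 := (sb E10863 F73397)
theorem E12911 : n20644 = n18747 := (((D18747).symm.trans (sb E10863 (iv F93001)))).symm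
theorem F133410 : act 8 n14709 = n12537 := (sb E10863 (iv D16143))
theorem E12912 : n20668 = n18680 := ((((iv F84500)).symm.trans (sb E10863 D20668))).symm
theorem F133411 : act 1 n9830 = n12572 := (sb E10864 F73400)
theorem F133412 : act 6 n9830 = n12539 := (sb E10864 (iv D16144))
theorem F133413 : act 1 n14723 = n12573 := (sb E10865 F73404)
theorem E12913 : n20646 = n18765 := ((((iv F84901)).symm.trans (sb E10865 (iv F93010)))).symm
theorem F133414 : act 8 n14723 = n12539 := (sb E10865 (iv D16145))
theorem F133415 : act 1 n14722 = n12558 := (sb E10866 F73355)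
theorem E12914 : n20647 = n18703 := ((((iv F84610)).symm.trans (sb E10866 D20647))).symm
theorem F133416 : act 1 n14676 = n12574 := (sb E10867 F73408)
theorem E12915 : n18922 = n12076 := ((((iv F55953)).symm.trans (sb E10869 (iv D23938)))).symm
theorem F133417 : act 2 n15142 = n12096 := (sb E10870 (iv D15530))
theorem E12916 : n19792 = n13136 := ((((iv F69283)).symm.trans (sb E10870 (iv F89811)))).symm
theorem E12917 : n19793 = n12345 := ((D19793).symm.trans (sb E10871 (iv D15875)))
theorem F133418 : act 0 n16215 = n18739 := (sb E10872 F106251)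
theorem E12918 : n22119 = n20766 := (((D20766).symm.trans (sb E10872 (iv F106256)))).symm
theorem F133419 : act 1 n16194 = n12591 := (sb E10873 F73628)
theorem E12919 : n20765 = n20737 := (((D20737).symm.trans (sb E10873 (iv F93415)))).symm
theorem F133420 : act 7 n16194 = n12589 := (sb E10873 (iv D16216))
theorem E12920 : n20751 = n20738 := (((D20738).symm.trans (sb E10873 (iv F93363)))).symm
theorem F133421 : act 0 n16205 = n18977 := (sb E10874 F107732)
theorem E12921 : n21268 = n20766 := (((D20766).symm.trans (sb E10875 (iv F95371)))).symm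
theorem E12922 : n21292 = n20750 := ((((iv F93359)).symm.trans (sb E10875 D21292))).symm
theorem F133422 : act 1 n25375 = n20737 := (sb E10877 F117316)
theorem E12923 : n25239 = n16206 := (((F93356).symm.trans (iv (sb E10879 (tr F120032 E12922))))).symm
theorem E12924 : n26930 = n16206 := (E10879).trans E12923
theorem E12925 : n22880 = n12584 := (((F73592).symm.trans (sb E12924 F120033))).symm
theorem E12927 : n25375 = n16218 := ((((iv F73636)).symm.trans (sb E10880 (iv F114176)))).symm
theorem E12930 : n25237 = n16208 := (((D16208).symm.trans (iv (sb E10886 (tr F128037 E12925))))).symm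
theorem F133427 : act 1 n14660 = n12904 := (sb E10894 F75050)
theorem E12935 : n21660 = n19086 := ((((iv F86450)).symm.trans (sb E10896 (iv F97104)))).symm
theorem E12936 : n22057 = n19291 := ((((iv F87419)).symm.trans (sb E10897 (iv F98681)))).symm
theorem F133428 : act 1 n16238 = n13439 := (sb E10897 F77900)
theorem F133429 : act 3 n16238 = n13395 := (sb E10897 F77901)
theorem E12937 : n22122 = n20796 := (((D20796).symm.trans (sb E10897 (iv F98963)))).symm
theorem E12938 : n22114 = n20797 := (((D20797).symm.trans (sb E10897 (iv F98937)))).symm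
theorem F133430 : act 3 n16243 = n18732 := (sb E10900 (iv F84760))
theorem E12939 : n22112 = n20802 := (((D20802).symm.trans (sb E10900 (iv F98928)))).symm
theorem F133431 : act 0 n16243 = n19677 := (sb E10902 (iv F89255))
theorem F133432 : act 2 n16243 = n12926 := (sb E10902 F75148)
theorem F133433 : act 6 n16243 = n12892 := (sb E10902 F75150)
theorem E12940 : n21269 = n20802 := (((D20802).symm.trans (sb E10902 D21269))).symm
theorem F133434 : act 0 n15103 = n19251 := (sb E10903 (iv F87232))
theorem F133435 : act 1 n16186 = n19179 := (sb E10905 F109228)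
theorem E12941 : n20727 = n19191 := ((D20727).symm.trans (sb E10905 F109232))
theorem F133436 : act 1 n16188 = n18732 := (sb E10907 F106286)
theorem E12946 : n22125 = n20805 := (((D20805).symm.trans (sb E10920 (iv F98972)))).symm
theorem F133437 : act 4 n15065 = n19236 := (sb E10924 F106371)
theorem F133438 : act 4 n15060 = n12571 := (sb E10928 F73543)
theorem E12948 : n20732 = n19238 := (((D19238).symm.trans (sb E10928 (iv F93297)))).symm
theorem F133439 : act 8 n15060 = n12569 := (sb E10928 (iv D16190))
theorem E12949 : n20734 = n19020 := ((((iv F86154)).symm.trans (sb E10928 D20734))).symm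
theorem F133440 : act 0 n16203 = n18978 := (sb E10937 F107737)
theorem F133441 : act 3 n16203 = n18946 := (sb E10937 F107739)
theorem F133442 : act 5 n16203 = n18945 := (sb E10937 F107740)
theorem F133443 : act 1 n16203 = n12623 := (sb E10938 F73766)
theorem F133444 : act 7 n16203 = n12621 := (sb E10938 (iv D16255))
theorem F133445 : act 0 n16251 = n18738 := (sb E10939 F106246)
theorem F133446 : act 2 n16251 = n18728 := (sb E10939 F106247)
theorem F133447 : act 0 n16252 = n18976 := (sb E10940 F107727)
theorem F133448 : act 2 n16252 = n18945 := (sb E10940 F107728)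
theorem E12950 : n25462 = n16069 := (((D16069).symm.trans (iv (sb E10944 (tr (iv D28377) E12795))))).symm
theorem F133453 : act 1 n14691 = n12581 := (sb E10945 F73445)
theorem F133455 : act 2 n15502 = n19435 := (sb E10954 F110816)
theorem F133456 : act 6 n15502 = n19441 := (sb E10954 F110819)
theorem F133457 : act 0 n15272 = n12672 := (sb E10956 F71004)
theorem F133458 : act 1 n15272 = n19340 := (sb E10956 (iv F87678))
theorem E12954 : n19798 = n19519 := ((((iv F88501)).symm.trans (sb E10956 D19798))).symm
theorem F133459 : act 6 n15272 = n12074 := (sb E10956 (iv D15503))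
theorem F133460 : act 5 n9449 = n11925 := (sb E10957 F70139)
theorem E12956 : n12078 = n11924 := ((D12078).symm.trans (sb E10957 (iv D15321)))
theorem E12959 : n22421 = n21073 := (((F119184).symm.trans (sb E10960 (iv D28278)))).symm
theorem E12960 : n21149 = n11578 := ((((iv D14837)).symm.trans (sb E10962 (iv D26840)))).symm
theorem E12961 : n18588 = n11578 := (((iv F83985)).symm.trans (sb E10973 (tr (iv F94871) E12960)))
theorem E12963 : n12707 = n11431 := (((iv F58294)).symm.trans (sb E10965 (iv F52829)))
theorem F133462 : act 7 n9907 = n11403 := (sb E10965 (iv F52670))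
theorem E12965 : n18634 = n18589 := (((D18589).symm.trans (sb E10966 (iv F84251)))).symm
theorem F133463 : act 7 n14593 = n11434 := (sb E10966 F66820)
theorem F133464 : act 0 n16307 = n19435 := (sb E10967 (iv F88127))
theorem F133465 : act 3 n16307 = n12712 := (sb E10967 F74204)
theorem E12966 : n20880 = n12699 := (((F66660).symm.trans (sb E10968 F118291))).symm
theorem E12967 : n20963 = n18604 := (((D18604).symm.trans (sb E10968 F118292))).symm
theorem F133466 : act 0 n16308 = n19441 := (sb E10969 (iv F88154))
theorem E12968 : n20966 = n20874 := (((D20874).symm.trans (sb E10969 (iv F94200)))).symm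
theorem F133467 : act 7 n16308 = n12714 := (sb E10969 (iv D16370))
theorem F133468 : act 1 n16308 = n12674 := (sb E10970 (iv D16311))
theorem F133469 : act 2 n16308 = n12713 := (sb E10970 F74000)
theorem E12969 : n20874 = n20866 := ((D20874).symm.trans (sb E10970 (iv F93818)))
theorem E12970 : n21073 = n18606 := ((((iv F84103)).symm.trans (sb E10971 (tr D22421 E12959)))).symm
theorem E12971 : n21685 = n20877 := (((D20877).symm.trans (sb E10971 (iv F97222)))).symm
theorem F133470 : act 2 n16309 = n12770 := (sb E10972 F74498)
theorem E12972 : n20966 = n20866 := (E12968).trans E12969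
theorem F133471 : act 7 n16309 = n12767 := (sb E10972 (iv D16447))
theorem E12973 : n21074 = n20877 := (((D20877).symm.trans (sb E10972 D21074))).symm
theorem F133472 : act 7 n9982 = n11400 := (sb E10975 (iv D14594))
theorem F133473 : act 2 n9908 = n12675 := (sb E10978 F74005)
theorem F133474 : act 6 n9908 = n12674 := (sb E10978 (iv D16312))
theorem F133475 : act 1 n16307 = n12714 := (sb E10979 F74218)
theorem F133476 : act 6 n16307 = n12713 := (sb E10979 (iv D16368))
theorem F133477 : act 0 n16322 = n19546 := (sb E10982 (iv F88618))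
theorem F133478 : act 2 n16322 = n12791 := (sb E10982 F74594)
theorem F133479 : act 7 n16322 = n12789 := (sb E10982 F74596)
theorem E12977 : n21108 = n20897 := (((D20897).symm.trans (sb E10982 D21108))).symm
theorem F133480 : act 0 n15214 = n12674 := (sb E10987 F73867)
theorem E12978 : n20832 = n19379 := ((((iv F87889)).symm.trans (sb E10987 D20832))).symm
theorem F133481 : act 2 n15214 = n12652 := (sb E10987 (iv D16280))
theorem E12979 : n19847 = n19434 := (((D19434).symm.trans (sb E10987 (iv F90084)))).symm
theorem F133482 : act 0 n15213 = n12675 := (sb E10989 F73872)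
theorem F133483 : act 1 n15213 = n19343 := (sb E10989 (iv F87697))
theorem E12980 : n20834 = n19418 := ((((iv F88054)).symm.trans (sb E10989 D20834))).symm
theorem F133484 : act 6 n15213 = n12652 := (sb E10989 (iv D16281))
theorem E12982 : n19849 = n19484 := ((D19849).symm.trans (sb E10990 (iv D24692)))
theorem F133485 : act 0 n15249 = n12676 := (sb E10991 F73877)
theorem F133486 : act 1 n15249 = n19344 := (sb E10991 (iv F87703))
theorem E12986 : n20931 = n12715 := (((D12715).symm.trans (sb E10995 (iv F94078)))).symm
theorem F133487 : act 7 n9912 = n12713 := (sb E10995 F74194)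
theorem E12988 : n20882 = n18789 := ((D20882).symm.trans (sb E10997 (iv F85035)))
theorem E12989 : n20932 = n20868 := ((((iv F93825)).symm.trans (sb E10997 D20932))).symm
theorem E12990 : n20883 = n12702 := ((D20883).symm.trans (sb E10997 F74145))
theorem F133488 : act 7 n9911 = n12675 := (sb E10998 (iv D16314))
theorem E12991 : n21024 = n20870 := (((D20870).symm.trans (sb E10999 D21024))).symm
theorem F133489 : act 1 n9936 = n12717 := (sb E11000 F74018)
theorem E12992 : n20885 = n12750 := (((D12750).symm.trans (sb E11000 D20885))).symm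
theorem F133490 : act 7 n9936 = n12676 := (sb E11000 (iv D16315))
theorem E12993 : n19389 = n19350 := (((D19350).symm.trans (sb E11002 F110533))).symm
theorem E12995 : n20933 = n20867 := (((D20867).symm.trans (sb E11006 (iv F94085)))).symm
theorem E12997 : n22421 = n18606 := (E12959).trans E12970
theorem E12998 : n21032 = n18617 := (((D18617).symm.trans (sb E11010 (iv F94420)))).symm
theorem E12999 : n21069 = n18612 := ((((iv F84133)).symm.trans (sb E11010 D21069))).symm
theorem F133491 : act 5 n14614 = n12712 := (sb E11012 F74210)
theorem E13001 : n20959 = n18617 := (((D18617).symm.trans (sb E11012 D20959))).symm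
theorem E13002 : n20960 = n18612 := ((((iv F84133)).symm.trans (sb E11012 D20960))).symm
theorem F133492 : act 0 n15220 = n12713 := (sb E11019 (iv D16367))
theorem E13005 : n20937 = n19443 := ((((iv F88166)).symm.trans (sb E11019 (iv F94096)))).symm
theorem F133493 : act 3 n16351 = n12717 := (sb E11020 F74234)
theorem E13007 : n20970 = n20938 := (((D20938).symm.trans (sb E11020 D20970))).symm
theorem E13009 : n20987 = n20446 := ((D20987).symm.trans (sb E11024 (iv F92282)))
theorem F133494 : act 1 n16385 = n12789 := (sb E11025 F74588)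
theorem E13010 : n21106 = n20446 := (((E13009).symm.trans ((D20987).symm.trans (sb E11025 D21106)))).symm
theorem F133495 : act 0 n15230 = n19391 := (sb E11027 F110234)
theorem F133496 : act 7 n15230 = n19347 := (sb E11027 (iv D24499))
theorem E13011 : n20965 = n18825 := ((D20965).symm.trans (sb E11030 F105395))
theorem F133497 : act 1 n16390 = n19174 := (sb E11031 (iv D24280))
theorem F133498 : act 9 n15240 = n19069 := (sb E11035 F108496)
theorem E13012 : n21001 = n19007 := ((D21001).symm.trans (sb E11038 F108104))
theorem E13013 : n20441 = n19070 := ((D20441).symm.trans (sb E11041 F108501))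
theorem E13014 : n21011 = n19047 := ((D21011).symm.trans (sb E11042 F108352))
theorem F133499 : act 9 n14939 = n12736 := (sb E11043 (iv D16403))
theorem E13015 : n20443 = n19127 := ((D20443).symm.trans (sb E11044 F108835))
theorem E13016 : n20181 = n19126 := ((D20181).symm.trans (sb E11045 F108829))
theorem F133500 : act 0 n14979 = n19033 := (sb E11046 (iv F86207))
theorem F133501 : act 3 n14979 = n12421 := (sb E11046 F72819)
theorem F133502 : act 9 n14979 = n12418 := (sb E11046 (iv D15980))
theorem E13019 : n23493 = n16422 := (E11052).trans E11083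
theorem E13020 : n19810 = n19493 := ((((iv F88376)).symm.trans (sb E13019 F105295))).symm
theorem E13021 : n21037 = n18622 := ((D21037).symm.trans (sb E13019 F105300))
theorem E13026 : n21017 = n11426 := (((D11426).symm.trans (sb E11056 (iv F94364)))).symm
theorem F133504 : act 5 n9480 = n11888 := (sb E11064 F69876)
theorem E13034 : n19512 = n12122 := (((D12122).symm.trans (sb E11064 D19512))).symm
theorem E13035 : n19513 = n12115 := ((((iv F56147)).symm.trans (sb E11064 D19513))).symm
theorem F133505 : act 5 n14615 = n12772 := (sb E11066 F74474)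
theorem E13038 : n21028 = n18619 := (((D18619).symm.trans (sb E11066 (iv F94407)))).symm
theorem E13039 : n21063 = n18613 := ((((iv F84139)).symm.trans (sb E11066 D21063))).symm
theorem F133506 : act 5 n14611 = n12783 := (sb E11067 F74477)
theorem E13042 : n11883 = n7491 := ((((iv F35745)).symm.trans (sb E11068 (iv D15262)))).symm
theorem F133507 : act 7 n9301 = n7463 := (sb E11069 F44482)
theorem F133508 : act 4 n8963 = n7822 := (sb E11072 F46250)
theorem E13046 : n11432 = n7821 := ((D11432).symm.trans (sb E11072 (iv D9941)))
theorem F133509 : act 1 n12767 = n14614 := (sb E11075 (iv D18616))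
theorem E13051 : n21034 = n18641 := ((D21034).symm.trans (sb E11078 F105492))
theorem E13052 : n19518 = n18640 := (((D18640).symm.trans (sb E11080 (iv F88495)))).symm
theorem F133510 : act 4 n14631 = n12767 := (sb E11080 (iv D16446))
theorem E13054 : n21072 = n18629 := ((((iv F84223)).symm.trans (sb E11080 D21072))).symm
theorem E13055 : n15512 = n15273 := ((((iv F69899)).symm.trans (sb E11081 F132899))).symm
theorem F133511 : act 2 n12769 = n14631 := (sb E11081 F83783)
theorem E13056 : n21979 = n21038 := (((D21038).symm.trans (sb E11083 F105046))).symm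
theorem E13057 : n19521 = n12082 := (((F66592).symm.trans (sb E11084 (iv F88506)))).symm
theorem F133512 : act 4 n14595 = n12770 := (sb E11084 F74505)
theorem F133513 : act 7 n14595 = n12769 := (sb E11084 (iv D16449))
theorem E13059 : n21077 = n18592 := (((D18592).symm.trans (sb E11084 D21077))).symm
theorem E13061 : n22500 = n11418 := (((F66596).symm.trans (sb E11086 D22500))).symm
theorem E13062 : n21597 = n18592 := (((D18592).symm.trans (sb E11086 (iv F96808)))).symm
theorem E13063 : n21757 = n18621 := (((D18621).symm.trans (sb E11094 (iv F97480)))).symm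
theorem E13064 : n21079 = n18621 := (((iv F94594)).symm.trans (sb E11088 (tr D21757 E13063)))
theorem E13067 : n21886 = n21041 := (((D21041).symm.trans (sb E11089 F122700))).symm
theorem E13069 : n19523 = n12123 := ((D19523).symm.trans (sb E11092 F71044))
theorem F133514 : act 3 n14616 = n12772 := (sb E11093 F74513)
theorem F133515 : act 6 n14616 = n12770 := (sb E11093 (iv D16451))
theorem E13070 : n21039 = n18620 := (((D18620).symm.trans (sb E11093 (iv F94446)))).symm
theorem E13071 : n17076 = n16454 := (((F88531).symm.trans (iv (sb E11096 (tr F105510 E11656))))).symm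
theorem E13073 : n21932 = n21100 := (((D21100).symm.trans (sb E11099 (iv F98149)))).symm
theorem E13074 : n21968 = n21101 := (((D21101).symm.trans (sb E11099 D21968))).symm
theorem E13075 : n21101 = n20447 := (((D20447).symm.trans (sb E11104 (tr (iv F98283) E13074)))).symm
theorem E13076 : n19864 = n19539 := ((((iv F88590)).symm.trans (sb E11101 D19864))).symm
theorem E13077 : n19540 = n19036 := ((D19540).symm.trans (sb E11101 (iv F86226)))
theorem F133517 : act 8 n15983 = n12927 := (sb E11103 F74574)
theorem F133518 : act 9 n15983 = n12783 := (sb E11103 (iv D16468))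
theorem F133519 : act 3 n15286 = n13143 := (sb E11105 F76525)
theorem E13083 : n21075 = n20472 := ((D21075).symm.trans (sb E11109 F105456))
theorem E13084 : n21696 = n21109 := (((D21109).symm.trans (sb E11113 (iv F97253)))).symm
theorem E13086 : n21078 = n13306 := ((D21078).symm.trans (sb E11117 F77392))
theorem E13089 : n15320 = n14638 := (((D14638).symm.trans (sb E11127 (iv F70131)))).symm
theorem F133520 : act 4 n11434 = n9982 := (sb E11127 (iv D12815))
theorem F133521 : act 0 n16572 = n19731 := (sb E11131 (iv F89475))
theorem F133522 : act 2 n16572 = n12936 := (sb E11131 F75323)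
theorem F133523 : act 7 n16572 = n12934 := (sb E11131 F75326)
theorem F133524 : act 0 n15348 = n19609 := (sb E11133 (iv F88947))
theorem F133525 : act 2 n15348 = n11960 := (sb E11133 F70357)
theorem F133526 : act 6 n15348 = n11959 := (sb E11133 (iv D15364))
theorem F133527 : act 3 n16612 = n18661 := (sb E11134 (iv F84401))
theorem F133528 : act 1 n16612 = n12934 := (sb E11135 F75316)
theorem F133529 : act 8 n15402 = n19190 := (sb E11137 F109227)
theorem F133530 : act 4 n15029 = n12899 := (sb E11138 F75176)
theorem F133531 : act 8 n15029 = n12897 := (sb E11138 (iv D16619))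
theorem E13091 : n21281 = n18969 := ((((iv F85941)).symm.trans (sb E11138 D21281))).symm
theorem F133532 : act 1 n16622 = n18661 := (sb E11139 (iv D23585))
theorem F133533 : act 4 n15409 = n19019 := (sb E11140 F105937)
theorem F133534 : act 4 n14904 = n12904 := (sb E11141 F75195)
theorem F133535 : act 8 n15063 = n19236 := (sb E11143 F109472)
theorem F133536 : act 8 n15104 = n12575 := (sb E11149 (iv D16197))
theorem F133537 : act 3 n14994 = n12581 := (sb E11151 F73574)
theorem F133538 : act 3 n15099 = n13373 := (sb E11158 F77773)
theorem E13093 : n22324 = n21327 := (((D21327).symm.trans (sb E11159 (iv F99781)))).symm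
theorem E13094 : n22327 = n21328 := (((D21328).symm.trans (sb E11159 D22327))).symm
theorem E13095 : n21968 = n20447 := (E13074).trans E13075
theorem F133539 : act 3 n15431 = n13361 := (sb E11161 F77705)
theorem E13096 : n22051 = n19724 := (((D19724).symm.trans (sb E11161 (iv F98658)))).symm
theorem F133540 : act 3 n15432 = n13358 := (sb E11162 (iv D17221))
theorem F133541 : act 1 n16658 = n13438 := (sb E11163 F77897)
theorem F133542 : act 3 n16658 = n13394 := (sb E11163 F77898)
theorem E13097 : n22121 = n21327 := (((D21327).symm.trans (sb E11163 D22121))).symm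
theorem E13098 : n22113 = n21328 := (((D21328).symm.trans (sb E11163 (iv F98932)))).symm
theorem F133543 : act 1 n16659 = n13433 := (sb E11164 F77878)
theorem F133544 : act 3 n16659 = n13390 := (sb E11164 F77879)
theorem F133545 : act 0 n15290 = n19392 := (sb E11165 F110240)
theorem F133546 : act 7 n15290 = n19348 := (sb E11165 (iv D24500))
theorem F133547 : act 1 n16667 = n13441 := (sb E11166 F77907)
theorem E13099 : n21336 = n18579 := ((D21336).symm.trans (sb E11166 (iv F83938)))
theorem F133548 : act 8 n16667 = n13394 := (sb E11166 (iv D17275))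
theorem E13100 : n22126 = n21337 := (((D21337).symm.trans (sb E11166 D22126))).symm
theorem F133549 : act 0 n15436 = n19640 := (sb E11168 F111929)
theorem F133550 : act 7 n15436 = n19613 := (sb E11168 F111934)
theorem E13101 : n22219 = n21337 := (((D21337).symm.trans (sb E11171 (iv F99334)))).symm
theorem F133551 : act 0 n16669 = n18737 := (sb E11461 F106240)
theorem F133552 : act 2 n16669 = n18727 := (sb E11461 F106242)
theorem F133553 : act 0 n15872 = n18575 := (sb E11448 F105160)
theorem E13102 : n19915 = n18572 := (((iv F90345)).symm.trans (sb E11448 F105161))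
theorem E13103 : n21338 = n20271 := ((D21338).symm.trans (sb E11176 (iv F91676)))
theorem E13104 : n22323 = n20807 := ((((iv F93568)).symm.trans (sb E11176 D22323))).symm
theorem E13105 : n21339 = n20268 := ((D21339).symm.trans (sb E11176 F91668))
theorem F133554 : act 0 n15870 = n18665 := (sb E11186 F105762)
theorem E13106 : n20809 = n20296 := ((D20809).symm.trans (sb E11178 (iv F91779)))
theorem E13107 : n20810 = n20295 := ((D20810).symm.trans (sb E11178 F91777))
theorem E13108 : n20811 = n20294 := ((D20811).symm.trans (sb E11179 (iv F91770)))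
theorem F133555 : act 0 n15868 = n18793 := (sb E11188 F106579)
theorem F133556 : act 4 n15870 = n12940 := (sb E11181 F75345)
theorem F133557 : act 9 n15870 = n12939 := (sb E11181 (iv D16672))
theorem F133558 : act 8 n15868 = n12940 := (sb E11182 (iv D16673))
theorem F133559 : act 2 n14578 = n12350 := (sb E11183 F71427)
theorem E13112 : n18557 = n12144 := (((iv F83819)).symm.trans (sb E11183 (iv D15598)))
theorem F133560 : act 3 n15872 = n12939 := (sb E11184 (iv D16671))
theorem F133561 : act 8 n17226 = n19732 := (sb E11195 F112504)
theorem E13127 : n22199 = n21619 := ((D22199).symm.trans (sb E11226 (iv F96921)))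
theorem E13128 : n22331 = n22200 := (((D22200).symm.trans (sb E11226 (iv F99809)))).symm
theorem E13129 : n22201 = n21617 := ((D22201).symm.trans (sb E11226 F96913))
theorem E13130 : n21970 = n21775 := ((((iv F97561)).symm.trans (sb E11227 (iv F98294)))).symm
theorem E13131 : n21937 = n21774 := (((D21774).symm.trans (sb E11228 (iv F98166)))).symm
theorem E13142 : n21622 = n18580 := ((((iv F83943)).symm.trans (sb E11239 (iv F96936)))).symm
theorem E13143 : n22329 = n22211 := (((D22211).symm.trans (sb E11239 (iv F99801)))).symm
theorem E13147 : n28093 = n17342 := ((((iv F78147)).symm.trans (iv (sb E11243 (tr (iv D28163) E12373))))).symm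
theorem E13148 : n28163 = n17342 := (E11243).trans E13147
theorem E13149 : n22334 = n22216 := (((D22216).symm.trans (sb E13148 F125414))).symm
theorem E13150 : n22235 = n22216 := ((D22235).symm.trans (sb E11244 (tr (iv F99822) E13149)))
theorem E13153 : n25681 = n23476 := ((((iv F105204)).symm.trans (iv (sb E11253 (tr (iv D27031) E13099))))).symm
theorem E13155 : n25678 = n23479 := (((D23479).symm.trans (iv (sb E11255 (tr (iv D27032) E13099))))).symm
theorem F133565 : act 0 n23665 = n19683 := (sb E11266 F112047)
theorem F133566 : act 1 n23682 = n20700 := (sb E11271 F117451)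
theorem F133567 : act 8 n23682 = n20696 := (sb E11271 (iv D26260))
theorem F133568 : act 1 n23683 = n20729 := (sb E11272 F117561)
theorem F133569 : act 1 n23586 = n20730 := (sb E11273 F117564)
theorem F133570 : act 1 n23581 = n20997 := (sb E11274 F118873)
theorem F133571 : act 3 n23666 = n19677 := (sb E11275 F112265)
theorem F133572 : act 8 n23666 = n19674 := (sb E11275 (iv D24930))
theorem F133573 : act 3 n23571 = n19678 := (sb E11280 F112268)
theorem E13167 : n26189 = n23686 := ((((iv F106307)).symm.trans (iv (sb E11289 (tr F120200 E12875))))).symm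
theorem F133576 : act 0 n24250 = n19681 := (sb E11292 F112056)
theorem F133577 : act 1 n24288 = n20062 := (sb E11295 F114320)
theorem F133578 : act 4 n24288 = n20060 := (sb E11295 (iv D25411))
theorem F133579 : act 1 n24289 = n20726 := (sb E11296 F117551)
theorem F133580 : act 1 n24281 = n20428 := (sb E11297 F116160)
theorem F133581 : act 1 n23988 = n20994 := (sb E11298 F118864)
theorem F133582 : act 4 n24251 = n19674 := (sb E11299 F112256)
theorem F133583 : act 4 n24246 = n19453 := (sb E11303 F110927)
theorem F133584 : act 4 n19155 = n15395 := (sb E11306 F89244)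
theorem E13170 : n24360 = n24257 := (((D24257).symm.trans (sb E11306 (iv F109557)))).symm
theorem F133585 : act 8 n19155 = n15393 := (sb E11306 (iv D19673))
theorem E13171 : n24929 = n23955 := ((((iv F107668)).symm.trans (sb E11306 D24929))).symm
theorem F133586 : act 6 n24264 = n19184 := (sb E11316 (iv D24297))
theorem F133587 : act 4 n24267 = n20697 := (sb E11317 F109534)
theorem F133588 : act 6 n24267 = n19238 := (sb E11317 F109535)
theorem F133589 : act 8 n24267 = n20061 := (sb E11317 F109536)
theorem F133590 : act 4 n23961 = n20686 := (sb E11318 F108164)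
theorem F133591 : act 6 n23961 = n19013 := (sb E11318 (iv D24069))
theorem F133592 : act 6 n23963 = n19091 := (sb E11321 F108595)
theorem F133593 : act 6 n23964 = n19057 := (sb E11328 (iv D24132))
theorem F133594 : act 9 n23964 = n19995 := (sb E11328 F108456)
theorem F133595 : act 2 n24262 = n19610 := (sb E11329 F111898)
theorem F133596 : act 4 n24262 = n19683 := (sb E11329 (iv F111900))
theorem F133597 : act 5 n24262 = n19609 := (sb E11329 (iv D24857))
theorem F133598 : act 8 n24262 = n19681 := (sb E11329 (iv F111901))
theorem F133599 : act 4 n24306 = n19241 := (sb E11330 F109603)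
theorem F133600 : act 8 n24306 = n19239 := (sb E11330 (iv D24372))
theorem F133601 : act 4 n24004 = n19688 := (sb E11331 F112308)
theorem F133602 : act 0 n23684 = n20696 := (sb E11334 F117440)
theorem F133603 : act 0 n24312 = n20697 := (sb E11335 F117443)
theorem F133604 : act 0 n24008 = n20686 := (sb E11336 F117398)
theorem F133605 : act 0 n24292 = n20060 := (sb E11338 F114314)
theorem F133606 : act 0 n24315 = n20061 := (sb E11339 F114317)
theorem F133607 : act 0 n24316 = n19972 := (sb E11340 F113879)
theorem F133608 : act 0 n24314 = n19238 := (sb E11341 F109584)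
theorem F133609 : act 7 n24314 = n19236 := (sb E11341 (iv D24367))
theorem F133610 : act 0 n24303 = n19295 := (sb E11342 F109925)
theorem F133611 : act 0 n24011 = n19091 := (sb E11343 F108651)
theorem F133612 : act 7 n24011 = n19089 := (sb E11343 (iv D24178))
theorem F133613 : act 0 n24294 = n20082 := (sb E11344 F114411)
theorem F133614 : act 4 n24311 = n19686 := (sb E11346 F112299)
theorem F133615 : act 4 n24315 = n19244 := (sb E11348 F109619)
theorem F133616 : act 6 n24315 = n19242 := (sb E11348 (iv D24376))
theorem F133617 : act 4 n24316 = n19466 := (sb E11349 F110995)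
theorem F133618 : act 6 n24316 = n19464 := (sb E11349 (iv D24666))
theorem F133619 : act 0 n24295 = n20005 := (sb E11351 F114021)
theorem F133620 : act 1 n24091 = n19248 := (sb E11353 F109359)
theorem F133621 : act 7 n24091 = n19199 := (sb E11353 F109362)
theorem F133622 : act 9 n24091 = n19198 := (sb E11353 (iv D24318))
theorem F133623 : act 0 n24013 = n19995 := (sb E11355 F113985)
theorem F133624 : act 0 n15371 = n19184 := (sb E11356 (iv D24296))
theorem F133625 : act 7 n15371 = n19190 := (sb E11356 F109271)
theorem F133626 : act 0 n23998 = n19396 := (sb E11357 F110261)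
theorem F133627 : act 5 n23998 = n19351 := (sb E11357 (iv D24504))
theorem F133628 : act 0 n15188 = n19013 := (sb E11359 (iv D24068))
theorem F133629 : act 7 n15188 = n19019 := (sb E11359 F108160)
theorem F133630 : act 0 n24046 = n19400 := (sb E11360 F110283)
theorem F133631 : act 7 n24303 = n19251 := (sb E11362 F109661)
theorem F133632 : act 2 n24361 = n20607 := (sb E11363 F116996)
theorem F133633 : act 7 n24262 = n19643 := (sb E11367 (iv D24894))
theorem F133634 : act 7 n24004 = n19396 := (sb E11369 (iv D24570))
theorem F133635 : act 3 n24366 = n19251 := (sb E11370 F109627)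
theorem F133636 : act 4 n24314 = n19245 := (sb E11371 F109623)
theorem F133637 : act 8 n24314 = n19242 := (sb E11371 (iv D24377))
theorem F133638 : act 4 n24078 = n19246 := (sb E11372 F109631)
theorem F133639 : act 4 n24058 = n19468 := (sb E11373 F111006)
theorem F133640 : act 9 n24058 = n19465 := (sb E11373 (iv D24669))
theorem F133641 : act 1 n24366 = n19674 := (sb E11374 F112072)
theorem F133642 : act 6 n24366 = n19637 := (sb E11374 (iv D24888))
theorem F133643 : act 7 n24058 = n19400 := (sb E11376 F110607)
theorem F133644 : act 2 n23693 = n22321 := (sb E11378 F117724)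
theorem F133645 : act 2 n24017 = n22312 := (sb E11379 F117664)
theorem F133646 : act 0 n15191 = n19057 := (sb E11382 (iv D24131))
theorem F133647 : act 7 n15191 = n19069 := (sb E11382 F108449)
theorem F133648 : act 0 n24103 = n19387 := (sb E11383 F110215)
theorem F133649 : act 8 n24103 = n19344 := (sb E11383 (iv D24495))
theorem F133651 : act 9 n24177 = n19251 := (sb E11390 (iv D24388))
theorem F133652 : act 6 n24094 = n19069 := (sb E11392 (iv D24151))
theorem F133653 : act 8 n24094 = n19089 := (sb E11392 F108540)
theorem F133654 : act 9 n24115 = n19473 := (sb E11393 (iv D24679))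
theorem F133655 : act 1 n24177 = n19455 := (sb E11394 F110556)
theorem F133656 : act 6 n24177 = n19392 := (sb E11394 (iv D24563))
theorem F133657 : act 1 n24094 = n19469 := (sb E11395 F110611)
theorem F133658 : act 7 n24115 = n19387 := (sb E11396 F110522)
theorem F133659 : act 8 n24115 = n19386 := (sb E11396 (iv D24554))
theorem F133660 : act 5 n16932 = n19094 := (sb E11401 F108623)
theorem E13188 : n16937 = n14948 := ((((iv F68362)).symm.trans (sb E11404 (iv D21670)))).symm
theorem F133661 : act 1 n23715 = n19677 := (sb E11406 F112082)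
theorem F133662 : act 6 n23715 = n19640 := (sb E11406 F112085)
theorem F133663 : act 1 n24260 = n19297 := (sb E11407 F109935)
theorem F133664 : act 6 n24260 = n19295 := (sb E11407 (iv D24444))
theorem E13190 : n25429 = n24445 := (((D24445).symm.trans (sb E11410 (iv F114380)))).symm
theorem F133665 : act 0 n19296 = n23715 := (sb E11412 (iv F106433))
theorem F133666 : act 5 n19296 = n15708 := (sb E11412 (iv D20074))
theorem E13192 : n25432 = n24446 := (((D24446).symm.trans (sb E11412 D25432))).symm
theorem F133667 : act 1 n19272 = n15708 := (sb E11414 F90861)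
theorem E13195 : n25389 = n24345 := ((((iv F109491)).symm.trans (sb E11414 (iv F114229)))).symm
theorem F133668 : act 4 n19272 = n15693 := (sb E11414 F90862)
theorem E13196 : n25402 = n24415 := ((((iv F109798)).symm.trans (sb E11414 (iv F114287)))).symm
theorem E13197 : n25404 = n24416 := (((D24416).symm.trans (sb E11414 D25404))).symm
theorem F133669 : act 5 n24373 = n20607 := (sb E11415 F117001)
theorem F133670 : act 5 n24181 = n20308 := (sb E11417 F115583)
theorem F133671 : act 2 n15110 = n19203 := (sb E11419 (iv F132949))
theorem E13199 : n22321 = n19302 := (((D19302).symm.trans (sb E11419 (iv F99772)))).symm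
theorem E13200 : n22312 = n19303 := (((D19303).symm.trans (sb E11419 (iv F99737)))).symm
theorem F133672 : act 8 n24449 = n22058 := (sb E11423 (iv D27897))
theorem F133673 : act 2 n23675 = n20807 := (sb E11432 F117606)
theorem F133674 : act 4 n23675 = n20737 := (sb E11432 (iv D26310))
theorem F133675 : act 2 n23578 = n20295 := (sb E11433 F115526)
theorem F133676 : act 8 n23578 = n20292 := (sb E11433 (iv D25725))
theorem F133677 : act 2 n23744 = n20294 := (sb E11439 F115520)
theorem F133678 : act 4 n23744 = n20292 := (sb E11439 F115521)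
theorem F133679 : act 3 n23972 = n20445 := (sb E11443 F116238)
theorem F133680 : act 6 n23972 = n19127 := (sb E11445 F108773)
theorem F133681 : act 9 n23972 = n20018 := (sb E11445 F108775)
theorem F133682 : act 3 n23746 = n20558 := (sb E11447 F108767)
theorem F133683 : act 9 n23746 = n20017 := (sb E11447 F108769)
theorem E13202 : n18639 = n18561 := (((iv F84279)).symm.trans (sb E11452 F105083))
theorem F133684 : act 3 n14832 = n18665 := (sb E11452 F105084)
theorem F133685 : act 9 n14832 = n18575 := (sb E11452 F105087)
theorem F133686 : act 0 n23472 = n20271 := (sb E11455 F107419)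
theorem F133687 : act 9 n23472 = n18897 := (sb E11455 (iv D23911))
theorem F133688 : act 0 n23473 = n20296 := (sb E11456 F107544)
theorem F133689 : act 9 n23473 = n18918 := (sb E11456 (iv D23936))
theorem F133690 : act 2 n14570 = n11581 := (sb E11457 F66837)
theorem E13207 : n12742 = n11433 := ((F66454).symm.trans (sb E11457 (iv D14637)))
theorem F133691 : act 0 n23591 = n20268 := (sb E11464 F107404)
theorem F133692 : act 3 n23591 = n18897 := (sb E11464 F107406)
theorem F133693 : act 4 n23591 = n22311 := (sb E11464 F107407)
theorem F133694 : act 8 n23591 = n18894 := (sb E11464 (iv D23908))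
theorem F133695 : act 0 n23592 = n20295 := (sb E11465 F107537)
theorem F133696 : act 3 n23592 = n18918 := (sb E11465 F107539)
theorem F133697 : act 8 n23592 = n18916 := (sb E11465 (iv D23935))
theorem F133698 : act 4 n14829 = n18793 := (sb E11466 F105344)
theorem F133699 : act 8 n14829 = n18665 := (sb E11466 F105345)
theorem F133700 : act 4 n15442 = n18737 := (sb E11471 (iv F132968))
theorem E13211 : n22311 = n19735 := (((D19735).symm.trans (sb E11471 (iv F99733)))).symm
theorem F133701 : act 0 n23691 = n20807 := (sb E11472 F109966)
theorem F133702 : act 4 n23691 = n19302 := (sb E11472 (iv D24451))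
theorem F133703 : act 0 n23593 = n20750 := (sb E11479 F117659)
theorem F133704 : act 2 n18655 = n15870 := (sb E11480 F91762)
theorem E13212 : n25219 = n14643 := (((F84371).symm.trans (sb E11480 (iv F113599)))).symm
theorem E13213 : n25697 = n23577 := (((D23577).symm.trans (sb E11480 (iv F115409)))).symm
theorem E13214 : n23497 = n15866 := (((iv F105326)).symm.trans (sb E11480 (iv D20293)))
theorem E13215 : n23929 = n14608 := (((F84051).symm.trans (sb E11481 (iv F107507)))).symm
theorem F133705 : act 2 n18598 = n14829 := (sb E11481 F85650)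
theorem E13216 : n23553 = n14601 := (((F84052).symm.trans (sb E11481 (iv F105630)))).symm
theorem E13217 : n23501 = n14828 := ((D23501).symm.trans (sb E11481 (iv D18913)))
theorem E13218 : n23932 = n23502 := (((D23502).symm.trans (sb E11481 D23932))).symm
theorem F133706 : act 0 n23761 = n20294 := (sb E11483 F107530)
theorem F133707 : act 4 n23761 = n18916 := (sb E11483 F107533)
theorem F133708 : act 0 n23760 = n20232 := (sb E11484 F107217)
theorem F133709 : act 4 n23760 = n18869 := (sb E11484 (iv D23872))
theorem F133710 : act 8 n23760 = n22017 := (sb E11484 (iv F107223))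
theorem F133711 : act 5 n15113 = n18976 := (sb E11486 (iv F132971))
theorem E13221 : n22017 = n19553 := ((((iv F88651)).symm.trans (sb E11487 D22017))).symm
theorem F133712 : act 3 n24309 = n19730 := (sb E11490 F112311)
theorem F133713 : act 8 n24309 = n19686 := (sb E11490 (iv D24942))
theorem F133714 : act 6 n24312 = n19245 := (sb E11492 F109635)
theorem F133715 : act 8 n24312 = n19244 := (sb E11492 (iv D24380))
theorem F133716 : act 0 n23693 = n20737 := (sb E11494 F109640)
theorem F133717 : act 5 n23694 = n19677 := (sb E11495 (iv D24932))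
theorem F133718 : act 2 n23593 = n19735 := (sb E11496 F112353)
theorem F133719 : act 0 n24018 = n20489 := (sb E11497 F116457)
theorem F133720 : act 0 n23764 = n20558 := (sb E11499 F116769)
theorem F133721 : act 0 n24017 = n20738 := (sb E11500 F109643)
theorem F133722 : act 6 n24017 = n19248 := (sb E11500 F109646)
theorem F133723 : act 0 n24020 = n20445 := (sb E11501 F108288)
theorem F133724 : act 2 n24020 = n19100 := (sb E11501 F108289)
theorem F133725 : act 6 n24020 = n19035 := (sb E11501 F108290)
theorem F133726 : act 9 n24020 = n19034 := (sb E11501 (iv D24098))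
theorem F133727 : act 2 n24018 = n19551 := (sb E11502 F111018)
theorem F133728 : act 9 n24018 = n19469 := (sb E11502 (iv D24673))
theorem F133729 : act 2 n23764 = n19553 := (sb E11503 F111064)
theorem F133730 : act 9 n23764 = n19477 := (sb E11503 (iv D24683))
theorem F133731 : act 2 n18781 = n15868 := (sb E11504 F91753)
theorem E13222 : n25651 = n23743 := (((D23743).symm.trans (sb E11504 (iv F115216)))).symm
theorem F133732 : act 0 n12347 = n14600 := (sb E11505 F84023)
theorem F133733 : act 1 n12347 = n15522 := (sb E11505 F84024)
theorem E13223 : n15595 = n14598 := (((iv F71415)).symm.trans (sb E11505 (iv D18594)))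
theorem F133734 : act 4 n12347 = n14736 := (sb E11505 F84025)
theorem F133735 : act 8 n12347 = n14642 := (sb E11505 F84028)
theorem E13229 : n14837 = n14592 := ((((iv F66574)).symm.trans (sb E11507 (iv D18923)))).symm
theorem E13230 : n14636 = n9931 := (((F52681).symm.trans (sb E11508 F84310))).symm
theorem E13232 : n14635 = n9906 := (((F52682).symm.trans (sb E11508 (iv D18645)))).symm
theorem F133736 : act 5 n11579 = n14600 := (sb E11509 (iv F66629))
theorem F133737 : act 0 n24022 = n19127 := (sb E11510 F108885)
theorem E13238 : n25353 = n24023 := (E11514).trans E11520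
theorem F133738 : act 0 n24023 = n20018 := (sb E13238 F114079)
theorem F133739 : act 0 n23767 = n20017 := (sb E11519 F114074)
theorem F133740 : act 3 n24023 = n19034 := (sb E11520 F108276)
theorem F133741 : act 6 n24023 = n19032 := (sb E11520 F108277)
theorem F133742 : act 8 n24023 = n19031 := (sb E11520 (iv D24095))
theorem F133743 : act 3 n24022 = n19035 := (sb E11521 F108281)
theorem F133744 : act 7 n24022 = n19033 := (sb E11521 F108282)
theorem F133745 : act 9 n24022 = n19032 := (sb E11521 (iv D24096))
theorem F133746 : act 3 n23767 = n19477 := (sb E11522 F111051)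
theorem F133747 : act 1 n23821 = n19477 := (sb E11523 F110672)
theorem F133748 : act 1 n24497 = n19394 := (sb E11525 F110250)
theorem E13241 : n21651 = n19393 := (((D19393).symm.trans (sb E11528 (iv F97071)))).symm
theorem E13242 : n19877 = n19380 := (((D19380).symm.trans (sb E11529 (iv F90195)))).symm
theorem F133749 : act 7 n24497 = n19395 := (sb E11530 (iv D24568))
theorem F133750 : act 1 n24498 = n19462 := (sb E11531 F110965)
theorem F133751 : act 7 n24498 = n19459 := (sb E11531 (iv D24659))
theorem F133752 : act 1 n24487 = n19441 := (sb E11532 F110853)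
theorem F133753 : act 7 n24487 = n19439 := (sb E11532 (iv D24632))
theorem E13243 : n19907 = n19794 := (((F110178).symm.trans (sb E11534 F113417))).symm
theorem F133754 : act 7 n24488 = n19883 := (sb E11534 F113419)
theorem E13244 : n19883 = n19516 := ((F133754).symm.trans (sb E11535 (iv D24738)))
theorem F133755 : act 0 n15270 = n19381 := (sb E11536 F110181)
theorem F133756 : act 7 n15270 = n19340 := (sb E11536 (iv D24489))
theorem F133757 : act 7 n15187 = n19394 := (sb E11537 F110531)
theorem F133758 : act 1 n15182 = n19351 := (sb E11540 F110255)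
theorem F133759 : act 7 n15186 = n19351 := (sb E11541 (iv D24505))
theorem F133760 : act 1 n24491 = n19378 := (sb E11542 (iv D24540))
theorem F133761 : act 7 n24491 = n19382 := (sb E11542 F110460)
theorem F133762 : act 0 n15217 = n19385 := (sb E11543 F110203)
theorem F133763 : act 7 n15217 = n19343 := (sb E11543 (iv D24493))
theorem F133764 : act 7 n24492 = n19422 := (sb E11544 F110708)
theorem F133765 : act 0 n15253 = n19386 := (sb E11545 F110209)
theorem F133766 : act 7 n15253 = n19344 := (sb E11545 (iv D24494))
theorem E13245 : n19376 = n12141 := (((iv F87873)).symm.trans (sb E11547 F71081))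
theorem F133767 : act 7 n15174 = n12090 := (sb E11547 F71083)
theorem F133768 : act 1 n23957 = n19545 := (sb E11548 F111472)
theorem F133769 : act 1 n24501 = n19546 := (sb E11549 F111476)
theorem F133770 : act 7 n24501 = n19544 := (sb E11549 F111479)
theorem F133771 : act 7 n15500 = n12145 := (sb E11550 F71405)
theorem F133772 : act 7 n15318 = n12073 := (sb E11553 (iv D15501))
theorem F133773 : act 0 n24573 = n20399 := (sb E11555 (iv D25877))
theorem F133774 : act 0 n24576 = n19965 := (sb E11556 (iv D25285))
theorem F133775 : act 0 n24555 = n19988 := (sb E11557 (iv D25316))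
theorem F133776 : act 2 n24496 = n19391 := (sb E11558 F110541)
theorem F133777 : act 5 n24543 = n19851 := (sb E11560 F112951)
theorem F133778 : act 5 n24564 = n19871 := (sb E11561 F113334)
theorem F133779 : act 5 n15566 = n19381 := (sb E11562 F110479)
theorem F133780 : act 0 n24496 = n19395 := (sb E11563 F110569)
theorem F133781 : act 6 n24496 = n19394 := (sb E11563 (iv D24566))
theorem F133782 : act 0 n24561 = n19459 := (sb E11564 F110952)
theorem F133783 : act 0 n24543 = n19439 := (sb E11565 F110844)
theorem F133784 : act 0 n24564 = n19544 := (sb E11566 F111468)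
theorem F133785 : act 2 n24546 = n19385 := (sb E11568 F110498)
theorem F133786 : act 7 n24546 = n19383 := (sb E11568 (iv D24549))
theorem F133787 : act 0 n24551 = n19422 := (sb E11569 (iv D24604))
theorem F133788 : act 0 n24553 = n19490 := (sb E11570 F111142)
theorem F133789 : act 5 n24553 = n19884 := (sb E11575 (iv D25186))
theorem F133790 : act 0 n25138 = n20938 := (sb E11576 F118605)
theorem E13246 : n25138 = n24638 := (((D24638).symm.trans (iv (sb E11576 (tr (iv D26554) E13005))))).symm
theorem E13248 : n15568 = n15276 := (((F88172).symm.trans (sb E11578 F90229))).symm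
theorem F133791 : act 5 n15544 = n19435 := (sb E11582 F110827)
theorem E13249 : n19430 = n12134 := ((((iv F56219)).symm.trans (sb E11586 (iv D24618)))).symm
theorem F133792 : act 5 n15567 = n19445 := (sb E11587 F110834)
theorem E13250 : n19878 = n19420 := ((((iv F88062)).symm.trans (sb E11588 D19878))).symm
theorem F133793 : act 7 n15215 = n12121 := (sb E11588 F71281)
theorem E13251 : n19867 = n19437 := (((D19437).symm.trans (sb E11588 (iv F90161)))).symm
theorem F133794 : act 5 n15558 = n19456 := (sb E11589 F110838)
theorem E13253 : n15211 = n9496 := ((((iv F44649)).symm.trans (sb E11591 (iv D19431)))).symm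
theorem F133795 : act 7 n11849 = n9459 := (sb E11592 F56019)
theorem F133796 : act 2 n24651 = n20306 := (sb E11596 F115569)
theorem F133797 : act 2 n24652 = n19837 := (sb E11597 (iv D25116))
theorem F133798 : act 5 n24652 = n19843 := (sb E11597 F113200)
theorem E13258 : n21647 = n19457 := (((D19457).symm.trans (sb E11600 (iv F97054)))).symm
theorem F133799 : act 8 n24099 = n19678 := (sb E11601 F110951)
theorem F133800 : act 9 n24099 = n19456 := (sb E11601 (iv D24655))
theorem F133801 : act 9 n24661 = n19647 := (sb E11607 (iv D24898))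
theorem F133802 : act 5 n24663 = n20306 := (sb E11608 (iv D25738))
theorem F133803 : act 6 n24634 = n19853 := (sb E11613 F112963)
theorem F133804 : act 4 n24576 = n19467 := (sb E11614 F110999)
theorem F133805 : act 7 n24576 = n19465 := (sb E11614 F111000)
theorem F133806 : act 8 n24576 = n19464 := (sb E11614 (iv D24667))
theorem F133807 : act 0 n24586 = n20456 := (sb E11615 (iv D25957))
theorem F133808 : act 2 n24586 = n21862 := (sb E11615 F116310)
theorem E13264 : n19800 = n18911 := ((((iv F85644)).symm.trans (sb E11626 (iv D25071)))).symm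
theorem E13265 : n24703 = n23560 := (((iv F111156)).symm.trans (iv (sb E11627 (tr F112993 E13020))))
theorem F133809 : act 7 n23560 = n19860 := (sb E11627 F112995)
theorem F133810 : act 7 n15506 = n18640 := (sb E11628 F105621)
theorem E13266 : n24742 = n23544 := (((iv F111334)).symm.trans (iv (sb E11629 (tr F112997 E11644))))
theorem F133811 : act 7 n23544 = n19803 := (sb E11629 F112999)
theorem E13267 : n21603 = n19812 := (((D19812).symm.trans (sb E11633 F121924))).symm
theorem E13268 : n25084 = n24707 := ((((iv F111173)).symm.trans (iv (sb E11634 (tr F123829 E13056))))).symm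
theorem E13269 : n27808 = n24707 := (E11634).trans E13268
theorem F133812 : act 9 n24707 = n21985 := (sb E13269 F123832)
theorem F133813 : act 4 n24744 = n19803 := (sb E11638 F112978)
theorem F133814 : act 6 n24744 = n19856 := (sb E11638 F112980)
theorem E13270 : n21862 = n19527 := (((D19527).symm.trans (sb E11639 (iv F97918)))).symm
theorem F133815 : act 4 n15513 = n19524 := (sb E11640 F111356)
theorem F133816 : act 6 n15571 = n19524 := (sb E11641 F111368)
theorem F133817 : act 7 n19522 = n15513 := (sb E11644 F89911)
theorem E13274 : n25081 = n15255 := ((((iv F69816)).symm.trans (sb E11645 D25081))).symm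
theorem F133818 : act 4 n24750 = n19812 := (sb E11646 F113048)
theorem F133819 : act 6 n24750 = n19891 := (sb E11646 F113050)
theorem F133820 : act 4 n24745 = n20537 := (sb E11647 F116392)
theorem F133821 : act 4 n17161 = n19525 := (sb E11649 F111362)
theorem F133822 : act 9 n17161 = n19522 := (sb E11649 (iv D24748))
theorem F133823 : act 4 n24710 = n21985 := (sb E11650 F123434)
theorem F133824 : act 5 n24611 = n19886 := (sb E11651 F113478)
theorem F133829 : act 3 n19526 = n15571 := (sb E11656 F90241)
theorem E13278 : n25171 = n24751 := (((D24751).symm.trans (sb E11656 (iv F113405)))).symm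
theorem E13279 : n25192 = n24752 := (((D24752).symm.trans (sb E11656 D25192))).symm
theorem F133830 : act 3 n24711 = n19890 := (sb E11658 F113487)
theorem F133832 : act 4 n24779 = n19993 := (sb E11668 F113357)
theorem F133833 : act 6 n24779 = n19876 := (sb E11668 F113359)
theorem F133834 : act 8 n24779 = n19865 := (sb E11668 (iv D25158))
theorem F133835 : act 2 n15298 = n19408 := (sb E11672 (iv F133014))
theorem F133836 : act 3 n24569 = n19731 := (sb E11675 F112315)
theorem F133837 : act 7 n24569 = n19688 := (sb E11675 F112317)
theorem F133838 : act 7 n24573 = n19468 := (sb E11676 F111013)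
theorem F133839 : act 9 n24573 = n19467 := (sb E11676 (iv D24671))
theorem F133840 : act 7 n24586 = n19447 := (sb E11677 F110898)
theorem F133841 : act 9 n24586 = n19446 := (sb E11677 (iv D24642))
theorem F133842 : act 7 n24555 = n19473 := (sb E11678 F111034)
theorem F133843 : act 4 n12145 = n15318 := (sb E11683 (iv D19578))
theorem E13283 : n24737 = n15590 := ((((iv F71392)).symm.trans (sb E11683 (iv F111315)))).symm
theorem F133844 : act 3 n14836 = n12077 := (sb E11684 F71017)
theorem F133845 : act 0 n24256 = n19643 := (sb E11686 F112066)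
theorem F133846 : act 7 n24859 = n19681 := (sb E11690 (iv D24935))
theorem F133847 : act 1 n24258 = n19686 := (sb E11691 F112287)
theorem F133848 : act 7 n24861 = n19683 := (sb E11692 F112292)
theorem F133849 : act 1 n24261 = n19730 := (sb E11693 F112533)
theorem F133850 : act 1 n24864 = n19731 := (sb E11695 F112537)
theorem F133851 : act 7 n24864 = n19729 := (sb E11695 F112541)
theorem F133852 : act 2 n24256 = n19637 := (sb E11696 F112053)
theorem F133853 : act 4 n24250 = n19637 := (sb E11697 F112064)
theorem F133854 : act 3 n23665 = n19640 := (sb E11698 F112076)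
theorem F133855 : act 8 n23665 = n19637 := (sb E11698 (iv D24889))
theorem F133856 : act 0 n24892 = n19729 := (sb E11700 F112528)
theorem F133857 : act 5 n24368 = n20702 := (sb E11708 (iv D26269))
theorem F133858 : act 5 n24370 = n20066 := (sb E11710 (iv D25421))
theorem F133859 : act 2 n19723 = n23694 := (sb E11712 (iv F106346))
theorem F133860 : act 3 n19723 = n17226 := (sb E11712 F98679)
theorem F133861 : act 4 n19723 = n23692 := (sb E11712 (iv F106338))
theorem E13288 : n27895 = n24440 := ((((iv F109918)).symm.trans (sb E11712 D27895))).symm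
theorem F133862 : act 3 n24987 = n22052 := (sb E11715 F124210)
theorem F133863 : act 2 n23670 = n19732 := (sb E11717 F112543)
theorem F133864 : act 5 n23670 = n19730 := (sb E11717 (iv D24993))
theorem F133865 : act 4 n23471 = n19732 := (sb E11722 (iv D24995))
theorem E13339 : n15260 = n5945 := (((D5945).symm.trans (sb E11757 (iv F69840)))).symm
theorem E13340 : n9322 = n5946 := (((D5946).symm.trans (sb E11757 (iv D11913)))).symm
theorem F133866 : act 4 n7357 = n5920 := (sb E11758 (iv D7461))
theorem F133867 : act 7 n7357 = n5921 := (sb E11758 F35606)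
theorem F133868 : act 6 n7356 = n5920 := (sb E11759 (iv D7462))
theorem E13403 : n9940 = n8964 := (((D8964).symm.trans (sb E11804 (iv D12756)))).symm
theorem F133869 : act 1 n7078 = n6623 := (sb E11805 F37034)
theorem F133870 : act 3 n7078 = n6217 := (sb E11805 (iv D7843))
theorem F133871 : act 1 n8359 = n8963 := (sb E11843 (iv F41997))
theorem F133872 : act 3 n8359 = n6777 := (sb E11843 (iv D8590))
theorem F133873 : act 5 n8359 = n10614 := (sb E11843 (iv F49000))
theorem F133874 : act 7 n8359 = n8924 := (sb E11843 (iv F41770))
theorem E13451 : n17683 = n10615 := (((D10615).symm.trans (sb E11844 (iv F79537)))).symm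
theorem E13453 : n10979 = n10659 := ((((iv F49197)).symm.trans (sb E11845 D10979))).symm
theorem F133875 : act 6 n8358 = n6777 := (sb E11845 (iv D8591))
theorem E13471 : n9453 = n9331 := (((D9331).symm.trans (sb E11866 F55981))).symm
theorem F133876 : act 7 n7363 = n5919 := (sb E11867 (iv D7460))
theorem F133877 : act 7 n7852 = n8941 := (sb E11868 (iv D11402))
theorem F133878 : act 3 n12111 = n15287 := (sb E12121 F88581)
theorem F133879 : act 3 n13159 = n16467 := (sb E12124 F94657)
theorem E13740 : n26777 = n16954 := (((D16954).symm.trans (sb E12124 D26777))).symm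
theorem E13741 : n26049 = n16955 := (((D16955).symm.trans (sb E12124 (iv F116612)))).symm
theorem F133880 : act 3 n13171 = n16033 := (sb E12129 F92520)
theorem F133881 : act 5 n13171 = n16041 := (sb E12129 F92521)
theorem F133882 : act 3 n11655 = n10238 := (sb E12131 F60086)
theorem E13748 : n16936 = n14949 := (((D14949).symm.trans (sb E12131 D16936))).symm
theorem E13749 : n16926 = n14950 := (((D14950).symm.trans (sb E12131 (iv F76511)))).symm
theorem F133883 : act 3 n11900 = n10233 := (sb E12132 (iv D13139))
theorem E13750 : n15555 = n15268 := ((((iv F69880)).symm.trans (sb E12132 (iv F71255)))).symm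
theorem E13751 : n16922 = n15288 := (((D15288).symm.trans (sb E12132 (iv F76493)))).symm
theorem F133884 : act 5 n11654 = n10238 := (sb E12133 (iv D13147))
theorem E13752 : n16938 = n14932 := ((((iv F68292)).symm.trans (sb E12133 D16938))).symm
theorem F133885 : act 3 n12408 = n15915 := (sb E12143 (iv F72617))
theorem E13768 : n16975 = n15964 := (((D15964).symm.trans (sb E12143 D16975))).symm
theorem E13769 : n16961 = n15965 := (((D15965).symm.trans (sb E12143 (iv F76646)))).symm
theorem F133886 : act 1 n12455 = n10291 := (sb E12145 F60194)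
theorem F133887 : act 3 n12455 = n10259 := (sb E12145 F60195)
theorem E13773 : n16963 = n16034 := (((D16034).symm.trans (sb E12145 (iv F76652)))).symm
theorem F133888 : act 1 n12456 = n10281 := (sb E12146 F60159)
theorem F133889 : act 3 n12456 = n10251 := (sb E12146 F60160)
theorem E13774 : n16962 = n16009 := ((((iv F72921)).symm.trans (sb E12146 D16962))).symm
theorem E13775 : n16957 = n16035 := (((D16035).symm.trans (sb E12146 (iv F76634)))).symm
theorem F133890 : act 1 n12454 = n10292 := (sb E12147 F60198)
theorem F133891 : act 2 n12454 = n15918 := (sb E12147 (iv F72627))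
theorem F133892 : act 5 n12454 = n10259 := (sb E12147 F60200)
theorem E13776 : n16980 = n16007 := ((((iv F72917)).symm.trans (sb E12147 D16980))).symm
theorem F133893 : act 1 n12438 = n10293 := (sb E12148 F60202)
theorem F133894 : act 2 n12438 = n15919 := (sb E12148 (iv F72632))
theorem E13777 : n16965 = n16006 := (((D16006).symm.trans (sb E12148 (iv F76656)))).symm
theorem E13778 : n16981 = n14672 := ((((iv F67026)).symm.trans (sb E12148 D16981))).symm
theorem F133895 : act 3 n12724 = n15906 := (sb E12156 (iv F72584))
theorem E13793 : n16948 = n16366 := ((((iv F74213)).symm.trans (sb E12156 (iv F76605)))).symm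
theorem E13794 : n16956 = n16386 := (((D16386).symm.trans (sb E12156 (iv F76629)))).symm
theorem F133896 : act 1 n12764 = n10267 := (sb E12157 F60126)
theorem F133897 : act 3 n12764 = n10244 := (sb E12157 (iv D13155))
theorem E13795 : n16432 = n14620 := (((iv F74444)).symm.trans (sb E12157 (iv F66740)))
theorem E13796 : n16949 = n16417 := ((((iv F74387)).symm.trans (sb E12157 D16949))).symm
theorem F133898 : act 7 n12764 = n14611 := (sb E12157 (iv F66696))
theorem E13797 : n16442 = n15800 := ((D16442).symm.trans (sb E12157 (iv F72178)))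
theorem F133899 : act 1 n12784 = n10277 := (sb E12158 F60145)
theorem F133900 : act 3 n12784 = n10248 := (sb E12158 (iv D13161))
theorem F133901 : act 7 n12784 = n15983 := (sb E12158 (iv F72831))
theorem E13803 : n17736 = n17714 := (((F101125).symm.trans (sb E12162 F101243))).symm
theorem E13806 : n17714 = n10347 := (((F60235).symm.trans (sb E12163 (iv F79658)))).symm
theorem E13810 : n17614 = n10301 := (((F60241).symm.trans (sb E12165 F100560))).symm
theorem E13811 : n17702 = n16993 := ((((iv F76763)).symm.trans (sb E12165 F100561))).symm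
theorem E13813 : n27539 = n16994 := (((D16994).symm.trans (sb E12165 (iv F122768)))).symm
theorem F133903 : act 1 n13200 = n16467 := (sb E12166 (iv F74568))
theorem E13816 : n17764 = n17012 := (((D17012).symm.trans (sb E12166 D17764))).symm
theorem E13817 : n17141 = n17013 := (((D17013).symm.trans (sb E12166 (iv F77331)))).symm
theorem F133904 : act 2 n13186 = n10687 := (sb E12168 F62471)
theorem E13821 : n17736 = n10347 := (E13803).trans E13806
theorem E13826 : n27789 = n17014 := (((D17014).symm.trans (sb E12171 (iv F123755)))).symm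
theorem E13827 : n17773 = n17015 := (((D17015).symm.trans (sb E12171 F101376))).symm
theorem F133905 : act 3 n8095 = n10293 := (sb E12173 F60413)
theorem E13829 : n17028 = n10318 := (((D10318).symm.trans (sb E12173 (iv F76914)))).symm
theorem E13830 : n17051 = n10319 := (((D10319).symm.trans (sb E12173 (iv F77015)))).symm
theorem E13831 : n17052 = n10314 := ((((iv F47797)).symm.trans (sb E12173 D17052))).symm
theorem F133906 : act 2 n13200 = n10341 := (sb E12174 F60664)
theorem E13832 : n17122 = n17012 := (((D17012).symm.trans (sb E12174 (iv F77263)))).symm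
theorem E13833 : n17148 = n17013 := (((D17013).symm.trans (sb E12174 (iv F77360)))).symm
theorem E13837 : n27544 = n17004 := ((((iv F76812)).symm.trans (sb E12176 (iv F122790)))).symm
theorem E13838 : n27596 = n17014 := (((D17014).symm.trans (sb E12176 (iv F123020)))).symm
theorem E13839 : n17024 = n17015 := (((D17015).symm.trans (sb E12176 (iv D21803)))).symm
theorem E13840 : n27541 = n17008 := ((((iv F76837)).symm.trans (sb E12176 (iv F122779)))).symm
theorem F133907 : act 1 n13189 = n16452 := (sb E12179 (iv F74515))
theorem E13842 : n17741 = n16873 := ((((iv F76258)).symm.trans (sb E12179 (iv F79759)))).symm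
theorem E13843 : n17743 = n16997 := (((D16997).symm.trans (sb E12179 (iv F79769)))).symm
theorem F133908 : act 7 n13189 = n10687 := (sb E12179 F62488)
theorem E13844 : n17744 = n16825 := ((((iv F76067)).symm.trans (sb E12179 D17744))).symm
theorem F133909 : act 1 n13208 = n16476 := (sb E12180 (iv F74600))
theorem E13845 : n17150 = n17025 := (((D17025).symm.trans (sb E12180 (iv F77370)))).symm
theorem E13846 : n17774 = n17017 := ((((iv F76875)).symm.trans (sb E12180 D17774))).symm
theorem F133910 : act 1 n13203 = n16477 := (sb E12181 (iv F74604))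
theorem F133911 : act 7 n13203 = n10708 := (sb E12181 F62579)
theorem E13856 : n17619 = n16873 := ((((iv F76258)).symm.trans (sb E12188 (iv F79264)))).symm
theorem E13857 : n17607 = n16997 := (((D16997).symm.trans (sb E12188 (iv F79213)))).symm
theorem E13859 : n17686 = n16874 := (((D16874).symm.trans (sb E12189 (iv F79551)))).symm
theorem E13861 : n17068 = n16998 := (((D16998).symm.trans (sb E12190 (iv F77085)))).symm
theorem E13867 : n17040 = n17025 := (((D17025).symm.trans (sb E12194 (iv F76966)))).symm
theorem F133912 : act 8 n13208 = n10286 := (sb E12194 (iv D13218))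
theorem E13869 : n17090 = n17026 := (((D17026).symm.trans (sb E12195 (iv F77159)))).symm
theorem E13870 : n17105 = n17027 := (((D17027).symm.trans (sb E12195 (iv F77210)))).symm
theorem F133913 : act 1 n13216 = n16033 := (sb E12199 (iv F72996))
theorem F133914 : act 1 n13217 = n16041 := (sb E12200 (iv F73028))
theorem F133915 : act 6 n13217 = n10340 := (sb E12200 (iv D13295))
theorem F133916 : act 3 n8107 = n10292 := (sb E12207 F60409)
theorem F133917 : act 5 n8107 = n10291 := (sb E12207 F60410)
theorem F133918 : act 2 n13216 = n10340 := (sb E12208 F60659)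
theorem F133919 : act 5 n13216 = n10339 := (sb E12208 F60661)
theorem F133920 : act 2 n13217 = n10291 := (sb E12210 F60399)
theorem F133921 : act 3 n13217 = n10339 := (sb E12210 F60400)
theorem F133922 : act 6 n8112 = n10339 := (sb E12211 F60621)
theorem E13881 : n17100 = n10343 := (((D10343).symm.trans (sb E12211 (iv F77197)))).symm
theorem F133923 : act 6 n8111 = n10292 := (sb E12212 (iv D13226))
theorem E13882 : n17053 = n10327 := ((((iv F47842)).symm.trans (sb E12212 D17053))).symm
theorem E13883 : n17102 = n17030 := ((((iv F76919)).symm.trans (sb E12213 (iv F77202)))).symm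
theorem E13889 : n17745 = n17077 := (((D17077).symm.trans (sb E12216 D17745))).symm
theorem E13890 : n17708 = n17078 := (((D17078).symm.trans (sb E12216 (iv F79634)))).symm
theorem E13891 : n17746 = n17070 := ((((iv F77095)).symm.trans (sb E12216 D17746))).symm
theorem E13892 : n17069 = n16455 := ((D17069).symm.trans (sb E12217 (iv F74526)))
theorem F133924 : act 7 n13240 = n10690 := (sb E12217 F62499)
theorem F133925 : act 2 n8370 = n10300 := (sb E12219 (iv D13236))
theorem E13898 : n17064 = n10671 := ((((iv F49245)).symm.trans (sb E12219 D17064))).symm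
theorem F133926 : act 7 n8370 = n10306 := (sb E12219 F60464)
theorem E13899 : n17065 = n17001 := ((D17065).symm.trans (sb E12220 (iv F76796)))
theorem E13900 : n17616 = n17066 := (((D17066).symm.trans (sb E12220 (iv F79249)))).symm
theorem F133927 : act 8 n13237 = n10622 := (sb E12220 (iv D13655))
theorem E13901 : n17617 = n17003 := ((((iv F76809)).symm.trans (sb E12220 D17617))).symm
theorem F133928 : act 2 n13193 = n10690 := (sb E12222 F62192)
theorem E13903 : n17101 = n16795 := ((((iv F75930)).symm.trans (sb E12224 D17101))).symm
theorem F133929 : act 6 n13228 = n10313 := (sb E12225 (iv D13255))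
theorem F133930 : act 1 n12773 = n10306 := (sb E12226 (iv D13244))
theorem F133931 : act 2 n12773 = n15994 := (sb E12226 (iv F72874))
theorem F133932 : act 1 n12793 = n10325 := (sb E12230 F60583)
theorem F133933 : act 2 n12793 = n16017 := (sb E12230 (iv F72947))
theorem E13909 : n17118 = n16478 := (((D16478).symm.trans (sb E12230 D17118))).symm
theorem E13910 : n17119 = n16044 := ((((iv F73045)).symm.trans (sb E12230 D17119))).symm
theorem E13911 : n17108 = n16479 := (((D16479).symm.trans (sb E12230 (iv F77220)))).symm
theorem E13914 : n17775 = n17120 := (((D17120).symm.trans (sb E12232 D17775))).symm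
theorem E13915 : n17152 = n17121 := (((D17121).symm.trans (sb E12232 (iv F77377)))).symm
theorem F133934 : act 4 n13273 = n10345 := (sb E12233 F60682)
theorem E13917 : n17153 = n17110 := ((((iv F77228)).symm.trans (sb E12233 D17153))).symm
theorem F133935 : act 1 n12794 = n10320 := (sb E12236 (iv D13264))
theorem F133936 : act 2 n12794 = n16010 := (sb E12236 (iv F72922))
theorem F133937 : act 1 n12463 = n10339 := (sb E12241 F60655)
theorem E13925 : n27526 = n17081 := ((((iv F77134)).symm.trans (sb E12243 (iv F122704)))).symm
theorem E13927 : n27559 = n17127 := (((D17127).symm.trans (sb E12243 (iv F122872)))).symm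
theorem E13928 : n27560 = n17151 := (((D17151).symm.trans (sb E12245 (iv F122879)))).symm
theorem F133938 : act 2 n13297 = n17007 := (sb E12246 F97548)
theorem E13930 : n17199 = n16046 := (((D16046).symm.trans (sb E12247 (iv F77579)))).symm
theorem F133939 : act 2 n8136 = n10345 := (sb E12248 F60454)
theorem E13935 : n17061 = n10375 := ((((iv F48032)).symm.trans (sb E12248 D17061))).symm
theorem F133940 : act 6 n8136 = n10298 := (sb E12248 F60455)
theorem E13936 : n17062 = n10367 := ((((iv F48001)).symm.trans (sb E12248 D17062))).symm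
theorem E13937 : n17200 = n17154 := (((D17154).symm.trans (sb E12249 (iv F77583)))).symm
theorem E13938 : n17201 = n16871 := ((((iv F76248)).symm.trans (sb E12249 D17201))).symm
theorem F133941 : act 7 n13300 = n10372 := (sb E12249 (iv D13339))
theorem E13939 : n17191 = n17155 := (((D17155).symm.trans (sb E12249 (iv F77546)))).symm
theorem F133942 : act 7 n13301 = n10365 := (sb E12251 (iv D13329))
theorem E13941 : n17196 = n15299 := (((D15299).symm.trans (sb E12252 D17196))).symm
theorem F133943 : act 1 n12795 = n10372 := (sb E12253 F60843)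
theorem F133944 : act 2 n12795 = n16073 := (sb E12253 (iv F73144))
theorem E13942 : n17198 = n16480 := (((D16480).symm.trans (sb E12253 D17198))).symm
theorem E13943 : n17189 = n16481 := (((D16481).symm.trans (sb E12253 (iv F77537)))).symm
theorem F133945 : act 1 n12796 = n10365 := (sb E12254 F60804)
theorem F133946 : act 2 n12796 = n16064 := (sb E12254 (iv F73112))
theorem E13961 : n16755 = n14968 := (((D14968).symm.trans (sb E12266 (iv F75757)))).symm
theorem F133947 : act 1 n12474 = n10167 := (sb E12274 F59536)
theorem F133948 : act 2 n12474 = n15756 := (sb E12274 (iv F72019))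
theorem E13973 : n16769 = n16058 := (((D16058).symm.trans (sb E12274 (iv F75806)))).symm
theorem E13974 : n16776 = n16059 := (((D16059).symm.trans (sb E12274 (iv F75836)))).symm
theorem F133949 : act 8 n12474 = n10146 := (sb E12274 (iv D13027))
theorem E13975 : n16777 = n14686 := ((((iv F67094)).symm.trans (sb E12274 D16777))).symm
theorem F133950 : act 1 n12475 = n10298 := (sb E12275 F60229)
theorem F133951 : act 2 n12475 = n15926 := (sb E12275 (iv F72661))
theorem E13976 : n16991 = n14687 := ((((iv F67100)).symm.trans (sb E12275 D16991))).symm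
theorem F133952 : act 1 n11467 = n10299 := (sb E12276 F60231)
theorem F133953 : act 3 n8127 = n10167 := (sb E12284 F59666)
theorem E13986 : n16813 = n10352 := ((((iv F47935)).symm.trans (sb E12284 (iv F76012)))).symm
theorem E13987 : n16815 = n10362 := (((D10362).symm.trans (sb E12284 (iv F76024)))).symm
theorem F133954 : act 8 n8127 = n10164 := (sb E12284 (iv D13053))
theorem E13988 : n16816 = n10356 := ((((iv F47955)).symm.trans (sb E12284 D16816))).symm
theorem F133955 : act 3 n8128 = n10298 := (sb E12285 F60446)
theorem E13989 : n17060 = n10357 := ((((iv F47961)).symm.trans (sb E12285 D17060))).symm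
theorem F133956 : act 3 n8123 = n10299 := (sb E12286 F60450)
theorem E13990 : n17165 = n16808 := ((((iv F75989)).symm.trans (sb E12287 (iv F77427)))).symm
theorem E13991 : n17183 = n16810 := ((((iv F75999)).symm.trans (sb E12287 D17183))).symm
theorem F133957 : act 5 n11685 = n10243 := (sb E12302 F60121)
theorem F133958 : act 3 n11763 = n10398 := (sb E12313 F60988)
theorem E14012 : n17235 = n15100 := ((((iv F69067)).symm.trans (sb E12313 D17235))).symm
theorem E14013 : n17229 = n15101 := (((D15101).symm.trans (sb E12313 (iv F77724)))).symm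
theorem F133959 : act 3 n12009 = n10395 := (sb E12314 (iv D13363))
theorem F133960 : act 0 n12233 = n10423 := (sb E12315 F60991)
theorem F133961 : act 5 n12233 = n10398 := (sb E12315 (iv D13368))
theorem E14014 : n17236 = n15720 := ((((iv F71866)).symm.trans (sb E12315 D17236))).symm
theorem E14016 : n17230 = n15721 := (((D15721).symm.trans (sb E12315 (iv F77729)))).symm
theorem E14026 : n23705 = n16127 := (((D16127).symm.trans (sb E12322 (iv F106393)))).symm
theorem F133962 : act 0 n12529 = n15718 := (sb E12323 F84902)
theorem E14028 : n23726 = n16129 := (((D16129).symm.trans (sb E12323 (iv F106491)))).symm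
theorem F133963 : act 8 n12529 = n14722 := (sb E12323 (iv D18766))
theorem E14029 : n23727 = n16123 := ((((iv F73333)).symm.trans (sb E12323 D23727))).symm
theorem F133964 : act 3 n12564 = n16126 := (sb E12326 (iv F73343))
theorem E14032 : n17285 = n16181 := ((((iv F73520)).symm.trans (sb E12326 D17285))).symm
theorem E14033 : n17277 = n16182 := (((D16182).symm.trans (sb E12326 (iv F77916)))).symm
theorem F133965 : act 1 n11499 = n10456 := (sb E12327 F61122)
theorem F133966 : act 3 n11499 = n10423 := (sb E12327 F61123)
theorem E14035 : n17287 = n14727 := ((((iv F67286)).symm.trans (sb E12327 D17287))).symm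
theorem E14037 : n17278 = n14728 := (((D14728).symm.trans (sb E12327 (iv F77920)))).symm
theorem F133967 : act 1 n12606 = n10457 := (sb E12328 F61125)
theorem F133968 : act 3 n12606 = n10424 := (sb E12328 F61126)
theorem E14038 : n17279 = n16239 := (((D16239).symm.trans (sb E12328 (iv F77924)))).symm
theorem F133969 : act 1 n12607 = n10451 := (sb E12329 F61104)
theorem F133970 : act 3 n12607 = n10419 := (sb E12329 F61105)
theorem E14039 : n23728 = n17289 := (((D17289).symm.trans (sb E12330 (iv F106501)))).symm
theorem E14040 : n17290 = n14724 := ((D17290).symm.trans (sb E12330 (iv D18768)))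
theorem F133971 : act 1 n11496 = n10459 := (sb E12331 F61132)
theorem F133972 : act 8 n11496 = n10423 := (sb E12331 (iv D13405))
theorem E14042 : n17291 = n14677 := ((((iv F67050)).symm.trans (sb E12331 D17291))).symm
theorem F133973 : act 3 n12893 = n16121 := (sb E12336 (iv F73323))
theorem F133974 : act 3 n11762 = n10406 := (sb E12338 F61027)
theorem F133975 : act 5 n11761 = n10406 := (sb E12339 F61032)
theorem E14052 : n24343 = n15685 := (((D15685).symm.trans (sb E12353 (iv F109483)))).symm
theorem F133976 : act 3 n12563 = n16140 := (sb E12355 (iv F73390))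
theorem F133977 : act 1 n11497 = n10474 := (sb E12359 F61178)
theorem E14058 : n17314 = n14678 := ((((iv F67056)).symm.trans (sb E12359 D17314))).symm
theorem F133978 : act 1 n11461 = n10475 := (sb E12360 F61181)
theorem F133979 : act 1 n13451 = n16247 := (sb E12361 (iv F73735))
theorem F133980 : act 6 n13451 = n10525 := (sb E12361 F61672)
theorem E14059 : n17481 = n17348 := ((((iv F78175)).symm.trans (sb E12361 D17481))).symm
theorem F133981 : act 1 n13443 = n16668 := (sb E12362 (iv F75330))
theorem F133982 : act 2 n13441 = n10456 := (sb E12364 F61299)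
theorem F133983 : act 3 n13441 = n10501 := (sb E12364 F61300)
theorem F133984 : act 5 n13441 = n10455 := (sb E12364 (iv D13450))
theorem E14061 : n17359 = n17343 := ((((iv F78152)).symm.trans (sb E12364 D17359))).symm
theorem E14062 : n17347 = n17344 := (((D17344).symm.trans (sb E12364 (iv F78170)))).symm
theorem F133985 : act 8 n13451 = n10464 := (sb E12365 (iv D13466))
theorem F133986 : act 4 n11398 = n10456 := (sb E12367 (iv D13452))
theorem E14064 : n17361 = n14590 := ((((iv F66563)).symm.trans (sb E12367 D17361))).symm
theorem E14066 : n17349 = n14591 := (((D14591).symm.trans (sb E12367 (iv F78180)))).symm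
theorem E14067 : n17426 = n17363 := (((D17363).symm.trans (sb E12368 (iv F78503)))).symm
theorem E14068 : n17364 = n10491 := ((D17364).symm.trans (sb E12368 (iv D13502)))
theorem F133987 : act 3 n8219 = n10459 := (sb E12369 F61315)
theorem F133988 : act 8 n8219 = n10456 := (sb E12369 (iv D13454))
theorem E14070 : n17365 = n10485 := ((((iv F48478)).symm.trans (sb E12369 D17365))).symm
theorem E14074 : n17423 = n17366 := (((D17366).symm.trans (sb E12373 (iv D22307)))).symm
theorem F133989 : act 3 n8220 = n10474 := (sb E12381 F61407)
theorem E14085 : n17396 = n10486 := ((((iv F48482)).symm.trans (sb E12381 D17396))).symm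
theorem F133990 : act 3 n8215 = n10475 := (sb E12382 F61410)
theorem E14093 : n27346 = n14585 := ((((iv F66535)).symm.trans (sb E12388 (iv F121975)))).symm
theorem E14095 : n27341 = n17334 := (((D17334).symm.trans (sb E12389 F121950))).symm
theorem F133991 : act 6 n8228 = n10474 := (sb E12390 F61415)
theorem E14096 : n17398 = n10496 := ((((iv F48519)).symm.trans (sb E12390 D17398))).symm
theorem E14098 : n15597 = n14568 := (((D14568).symm.trans (sb E12392 F90382))).symm
theorem E14105 : n25215 = n15523 := ((((iv F71120)).symm.trans (sb E12395 F113583))).symm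
theorem E14106 : n15594 = n15173 := ((((iv F69452)).symm.trans (sb E12396 (iv D19919)))).symm
theorem F133992 : act 3 n11686 = n10243 := (sb E12400 F60115)
theorem E14111 : n16753 = n14992 := (((D14992).symm.trans (sb E12400 (iv F75749)))).symm
theorem F133993 : act 3 n11687 = n10135 := (sb E12401 F59467)
theorem E14112 : n16752 = n14971 := ((((iv F68478)).symm.trans (sb E12401 D16752))).symm
theorem F133994 : act 1 n12938 = n10494 := (sb E12427 F61518)
theorem F133995 : act 2 n12938 = n16205 := (sb E12427 (iv F73589))
theorem E14134 : n17429 = n16670 := ((((iv F75338)).symm.trans (sb E12427 D17429))).symm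
theorem E14135 : n17430 = n16250 := ((((iv F73749)).symm.trans (sb E12427 D17430))).symm
theorem E14138 : n17483 = n17431 := (((D17431).symm.trans (sb E12429 (iv F78716)))).symm
theorem F133996 : act 4 n13507 = n10530 := (sb E12430 F61681)
theorem F133997 : act 6 n13507 = n10528 := (sb E12430 F61682)
theorem E14141 : n22282 = n13509 := (((D13509).symm.trans (sb E12431 (iv F99599)))).symm
theorem E14144 : n23481 = n16898 := ((((iv F76373)).symm.trans (sb E12435 (iv F105229)))).symm
theorem E14145 : n28067 = n17443 := (((D17443).symm.trans (sb E12435 (iv F124949)))).symm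
theorem F133998 : act 8 n13517 = n17339 := (sb E12435 (iv D22212))
theorem E14146 : n28069 = n17445 := (((D17445).symm.trans (sb E12436 (iv F124955)))).symm
theorem F133999 : act 8 n13518 = n17340 := (sb E12436 (iv D22214))
theorem F134000 : act 1 n12937 = n10501 := (sb E12438 F61556)
theorem F134001 : act 2 n12937 = n16215 := (sb E12438 (iv F73626))
theorem E14147 : n17441 = n16249 := ((((iv F73745)).symm.trans (sb E12438 D17441))).symm
theorem F134002 : act 1 n12616 = n10502 := (sb E12439 F61558)
theorem F134003 : act 1 n13517 = n16669 := (sb E12442 (iv F75334))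
theorem E14150 : n17482 = n17443 := (((D17443).symm.trans (sb E12442 (iv F78713)))).symm
theorem E14151 : n17453 = n17445 := (((D17445).symm.trans (sb E12443 (iv F78605)))).symm
theorem E14154 : n28071 = n17451 := ((((iv F78598)).symm.trans (sb E12452 (iv F124963)))).symm
theorem E14156 : n25374 = n16221 := ((((iv F73644)).symm.trans (sb E12446 (iv F114168)))).symm
theorem F134004 : act 2 n13521 = n17339 := (sb E12446 F99287)
theorem E14157 : n28062 = n17449 := ((((iv F78590)).symm.trans (sb E12446 D28062))).symm
theorem F134005 : act 2 n13523 = n17340 := (sb E12447 F99292)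
theorem E14159 : n28063 = n17451 := ((((iv F78598)).symm.trans (sb E12447 D28063))).symm
theorem E14160 : n28051 = n17452 := (((D17452).symm.trans (sb E12447 (iv F124883)))).symm
theorem E14162 : n22244 = n13522 := ((((iv F61582)).symm.trans (sb E12449 F125103))).symm
theorem E14163 : n22242 = n13501 := ((((iv F61506)).symm.trans (sb E12449 (iv D28101)))).symm
theorem F134006 : act 2 n13524 = n17331 := (sb E12454 F99240)
theorem F134007 : act 2 n13548 = n17332 := (sb E12459 F99245)
theorem F134008 : act 1 n11472 = n10482 := (sb E12474 F61216)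
theorem F134009 : act 3 n8250 = n10482 := (sb E12478 F61444)
theorem F134010 : act 2 n8265 = n10529 := (sb E12479 F61448)
theorem E14191 : n17407 = n10550 := ((((iv F48727)).symm.trans (sb E12479 D17407))).symm
theorem E14192 : n17408 = n10542 := ((((iv F48693)).symm.trans (sb E12479 D17408))).symm
theorem F134011 : act 2 n8257 = n10530 := (sb E12480 F61453)
theorem F134012 : act 6 n8257 = n10482 := (sb E12480 F61454)
theorem E14195 : n17484 = n16920 := ((D17484).symm.trans (sb E12486 (iv F76479)))
theorem F134013 : act 7 n13551 = n10548 := (sb E12486 (iv D13568))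
theorem E14196 : n17485 = n16919 := ((D17485).symm.trans (sb E12486 F76476))
theorem F134014 : act 7 n13552 = n10539 := (sb E12487 (iv D13561))
theorem E14197 : n17486 = n16918 := ((D17486).symm.trans (sb E12487 (iv F76468)))
theorem F134015 : act 1 n12498 = n10165 := (sb E12522 F59527)
theorem F134016 : act 3 n12498 = n10147 := (sb E12522 F59528)
theorem E14220 : n16773 = n16062 := ((((iv F73104)).symm.trans (sb E12522 (iv F75824)))).symm
theorem F134017 : act 1 n12477 = n10164 := (sb E12523 F59523)
theorem F134018 : act 3 n12477 = n10146 := (sb E12523 F59524)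
theorem E14221 : n16772 = n16053 := ((((iv F73074)).symm.trans (sb E12523 D16772))).symm
theorem E14222 : n17169 = n16812 := ((((iv F76007)).symm.trans (sb E12524 (iv F77443)))).symm
theorem E14224 : n17167 = n16806 := ((((iv F75980)).symm.trans (sb E12525 (iv F77433)))).symm
theorem F134019 : act 5 n7457 = n9332 := (sb E12533 F55264)
theorem E14253 : n15261 = n9490 := (((D9490).symm.trans (sb E12546 F88418))).symm
theorem F134020 : act 3 n11887 = n9478 := (sb E12547 (iv D12118))
theorem E14257 : n15563 = n15251 := ((((iv F69798)).symm.trans (sb E12547 D15563))).symm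
theorem F134021 : act 7 n11887 = n9480 := (sb E12547 F56159)
theorem E14258 : n15564 = n15250 := ((D15564).symm.trans (sb E12548 (iv D19485)))
theorem F134022 : act 3 n12711 = n16303 := (sb E12552 (iv F73966))
theorem E14266 : n16359 = n14627 := (((iv F74185)).symm.trans (sb E12552 (iv F66784)))
theorem E14267 : n17538 = n16349 := ((((iv F74150)).symm.trans (sb E12552 D17538))).symm
theorem F134023 : act 7 n12711 = n14614 := (sb E12552 (iv F66714))
theorem F134024 : act 4 n11425 = n9945 := (sb E12553 F58476)
theorem E14268 : n16410 = n14628 := (((D14628).symm.trans (sb E12553 (iv F74360)))).symm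
theorem F134025 : act 1 n12747 = n10621 := (sb E12554 F61917)
theorem F134026 : act 3 n12747 = n10587 := (sb E12554 F61918)
theorem E14270 : n17540 = n16416 := (((D16416).symm.trans (sb E12554 D17540))).symm
theorem F134027 : act 1 n12746 = n10622 := (sb E12555 F61920)
theorem F134028 : act 2 n12746 = n16305 := (sb E12555 (iv F73973))
theorem F134029 : act 5 n12746 = n10587 := (sb E12555 (iv D13604))
theorem E14271 : n17541 = n16415 := (((D16415).symm.trans (sb E12555 D17541))).symm
theorem F134030 : act 2 n11377 = n10685 := (sb E12584 F62463)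
theorem E14277 : n17700 = n14565 := (((D14565).symm.trans (sb E12584 (iv F79602)))).symm
theorem E14284 : n17740 = n17597 := ((((iv D22501)).symm.trans (sb E12570 (iv D22694)))).symm
theorem E14292 : n17597 = n14562 := ((((iv F66396)).symm.trans (sb E12574 (tr (iv F79755) E14284)))).symm
theorem E14293 : n17705 = n17606 := (((D17606).symm.trans (sb E12574 (iv F79622)))).symm
theorem F134033 : act 3 n8352 = n10622 := (sb E12576 F62096)
theorem F134034 : act 5 n8352 = n10621 := (sb E12576 (iv D13652))
theorem E14295 : n17613 = n10665 := (((D10665).symm.trans (sb E12576 D17613))).symm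
theorem F134035 : act 2 n13647 = n10668 := (sb E12577 F62366)
theorem F134036 : act 5 n13647 = n10667 := (sb E12577 (iv D13716))
theorem E14296 : n17701 = n17605 := (((D17605).symm.trans (sb E12577 D17701))).symm
theorem F134037 : act 2 n13648 = n10621 := (sb E12579 F62092)
theorem F134038 : act 3 n13648 = n10667 := (sb E12579 F62093)
theorem F134039 : act 6 n13648 = n10620 := (sb E12579 (iv D13651))
theorem E14300 : n17611 = n17606 := (((D17606).symm.trans (sb E12579 D17611))).symm
theorem E14302 : n17740 = n14562 := (E14284).trans E14292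
theorem F134040 : act 7 n13642 = n10685 := (sb E12582 (iv D13744))
theorem E14304 : n17598 = n10660 := ((D17598).symm.trans (sb E12585 (iv D13706)))
theorem F134041 : act 1 n13642 = n14595 := (sb E12586 (iv F66593))
theorem F134042 : act 5 n13642 = n10624 := (sb E12586 (iv D13656))
theorem E14307 : n17690 = n10670 := (((D10670).symm.trans (sb E12592 D17690))).symm
theorem E14308 : n17615 = n10669 := ((D17615).symm.trans (sb E12593 F62351))
theorem F134043 : act 1 n12772 = n10667 := (sb E12606 F62362)
theorem E14316 : n17699 = n16425 := ((((iv F74416)).symm.trans (sb E12606 D17699))).symm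
theorem E14317 : n23533 = n16423 := (((D16423).symm.trans (sb E12608 (iv F105519)))).symm
theorem E14318 : n23443 = n17703 := (((D17703).symm.trans (sb E12609 (iv F105016)))).symm
theorem E14322 : n23448 = n17703 := ((((iv F79613)).symm.trans (sb E12612 (iv F105051)))).symm
theorem E14323 : n27527 = n17706 := (((D17706).symm.trans (sb E12612 (iv F122711)))).symm
theorem E14324 : n17704 = n17157 := (((iv F79618)).symm.trans (sb E12613 F97451))
theorem E14325 : n17707 = n17086 := ((D17707).symm.trans (sb E12613 F97453))
theorem F134044 : act 1 n13302 = n16450 := (sb E12619 (iv F74508))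
theorem F134045 : act 4 n13302 = n10687 := (sb E12619 F62480)
theorem F134046 : act 8 n13302 = n10685 := (sb E12619 (iv D13745))
theorem F134047 : act 1 n13250 = n16453 := (sb E12620 (iv F74519))
theorem F134048 : act 3 n13250 = n10690 := (sb E12620 F62490)
theorem F134049 : act 5 n13250 = n10708 := (sb E12620 F62491)
theorem F134050 : act 9 n13250 = n10687 := (sb E12620 (iv D13748))
theorem E14332 : n12083 = n11926 := ((((iv F55255)).symm.trans (sb E12626 F132333))).symm
theorem F134051 : act 2 n9984 = n11434 := (sb E12626 F66429)
theorem F134052 : act 7 n9984 = n11401 := (sb E12626 (iv F132901))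
theorem E14342 : n26297 = n25384 := (((D25384).symm.trans (sb E12640 (iv F117570)))).symm
theorem F134053 : act 0 n19944 = n24661 := (sb E12641 (iv F110971))
theorem F134054 : act 7 n19944 = n16390 := (sb E12641 (iv D20993))
theorem E14344 : n26635 = n25249 := ((((iv F113726)).symm.trans (sb E12641 D26635))).symm
theorem F134055 : act 0 n20040 = n24311 := (sb E12643 (iv F109330))
theorem F134056 : act 4 n20040 = n16133 := (sb E12643 (iv D20652))
theorem E14345 : n25383 = n24290 := ((D25383).symm.trans (sb E12643 (iv F109243)))
theorem E14346 : n26204 = n25384 := (((D25384).symm.trans (sb E12643 D26204))).symm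
theorem F134057 : act 8 n20040 = n24264 := (sb E12643 (iv F109111))
theorem E14347 : n25796 = n25256 := ((((iv F113752)).symm.trans (sb E12643 (iv F115792)))).symm
theorem F134058 : act 6 n20061 = n16189 := (sb E12646 (iv D20731))
theorem E14352 : n25923 = n25297 := ((((iv F113890)).symm.trans (sb E12646 (iv F116193)))).symm
theorem F134059 : act 6 n12568 = n16142 := (sb E12652 (iv D20666))
theorem E14354 : n25810 = n15969 := ((((iv F72784)).symm.trans (sb E12652 (iv F115849)))).symm
theorem F134060 : act 1 n19219 = n16189 := (sb E12653 F93070)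
theorem F134061 : act 4 n19219 = n16142 := (sb E12653 F93072)
theorem E14356 : n25388 = n24344 := ((((iv F109488)).symm.trans (sb E12653 (iv F114227)))).symm
theorem E14357 : n25808 = n24333 := ((((iv F109440)).symm.trans (sb E12653 (iv F115841)))).symm
theorem E14359 : n26642 = n25279 := ((((iv F113841)).symm.trans (sb E12657 D26642))).symm
theorem F134062 : act 7 n19965 = n16394 := (sb E12657 F94307)
theorem F134063 : act 1 n19003 = n16394 := (sb E12661 F93979)
theorem E14363 : n26510 = n24032 := ((((iv F108016)).symm.trans (sb E12661 D26510))).symm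
theorem E14364 : n25809 = n24053 := (((D24053).symm.trans (sb E12661 (iv F115845)))).symm
theorem F134064 : act 1 n19153 = n15718 := (sb E12665 F90960)
theorem E14365 : n25413 = n24252 := ((((iv F109046)).symm.trans (sb E12665 (iv F114328)))).symm
theorem E14366 : n25440 = n24254 := (((D24254).symm.trans (sb E12665 (iv F114426)))).symm
theorem F134065 : act 8 n19153 = n15715 := (sb E12665 (iv D20083))
theorem E14367 : n25441 = n24248 := ((((iv F109026)).symm.trans (sb E12665 D25441))).symm
theorem E14368 : n25439 = n25427 := ((D25439).symm.trans (sb E12666 (iv F114371)))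
theorem F134066 : act 0 n20006 = n24091 := (sb E12668 (iv F108258))
theorem F134067 : act 6 n20006 = n15976 := (sb E12668 (iv D20438))
theorem E14371 : n25932 = n25328 := ((((iv F113994)).symm.trans (sb E12668 D25932))).symm
theorem F134068 : act 1 n18704 = n16195 := (sb E12674 F93091)
theorem E14375 : n26225 = n23615 := ((((iv F105952)).symm.trans (sb E12674 (iv F117314)))).symm
theorem E14376 : n26200 = n23648 := ((((iv F106111)).symm.trans (sb E12674 (iv F117221)))).symm
theorem E14377 : n25814 = n23638 := ((((iv F106066)).symm.trans (sb E12674 (iv F115866)))).symm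
theorem F134069 : act 1 n19260 = n15976 := (sb E12677 F92025)
theorem E14383 : n25268 = n24397 := ((((iv F109715)).symm.trans (sb E12677 (iv F113803)))).symm
theorem E14384 : n25822 = n24144 := ((((iv F108509)).symm.trans (sb E12677 D25822))).symm
theorem F134070 : act 7 n19988 = n16402 := (sb E12678 F94332)
theorem F134071 : act 1 n19043 = n16402 := (sb E12681 F94034)
theorem E14388 : n26528 = n24110 := (((D24110).symm.trans (sb E12681 D26528))).symm
theorem F134072 : act 1 n18696 = n15975 := (sb E12682 F92007)
theorem E14390 : n25812 = n23607 := ((((iv F105915)).symm.trans (sb E12682 (iv F115854)))).symm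
theorem E14391 : n25791 = n23637 := (((D23637).symm.trans (sb E12682 (iv F115771)))).symm
theorem F134073 : act 9 n18696 = n15919 := (sb E12682 (iv D20357))
theorem F134074 : act 0 n19058 = n15919 := (sb E12685 F91849)
theorem F134075 : act 1 n19058 = n23964 := (sb E12685 (iv F107710))
theorem E14394 : n25748 = n24047 := ((((iv F108080)).symm.trans (sb E12685 (iv F115614)))).symm
theorem E14395 : n25735 = n24133 := (((D24133).symm.trans (sb E12685 (iv F115563)))).symm
theorem E14396 : n25750 = n24134 := (((D24134).symm.trans (sb E12685 (iv F115624)))).symm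
theorem F134076 : act 3 n20018 = n15981 := (sb E12688 F92264)
theorem E14399 : n25937 = n25355 := ((((iv F114090)).symm.trans (sb E12688 D25937))).symm
theorem F134077 : act 6 n20018 = n15979 := (sb E12688 F92265)
theorem F134078 : act 1 n18715 = n15982 := (sb E12691 F92047)
theorem E14403 : n25513 = n23661 := ((((iv F106180)).symm.trans (sb E12691 (iv F114727)))).symm
theorem F134079 : act 9 n18715 = n15926 := (sb E12691 (iv D20367))
theorem F134080 : act 0 n19110 = n15926 := (sb E12693 F91882)
theorem F134081 : act 1 n19110 = n23972 := (sb E12693 (iv F107753))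
theorem E14407 : n25468 = n24203 := ((((iv F108783)).symm.trans (sb E12693 (iv F114536)))).symm
theorem E14411 : n25827 = n16076 := (((D16076).symm.trans (sb E12696 (iv F115917)))).symm
theorem F134082 : act 1 n12487 = n15981 := (sb E12697 F92043)
theorem E14412 : n25813 = n16019 := ((((iv F72952)).symm.trans (sb E12697 (iv F115859)))).symm
theorem F134083 : act 6 n12487 = n15926 := (sb E12697 F92045)
theorem F134084 : act 1 n19119 = n15979 := (sb E12698 F92036)
theorem F134085 : act 3 n19119 = n15926 := (sb E12698 F92037)
theorem E14413 : n25510 = n24214 := ((((iv F108843)).symm.trans (sb E12698 (iv F114714)))).symm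
theorem F134086 : act 0 n20343 = n24651 := (sb E12699 (iv F110933))
theorem E14414 : n25908 = n25795 := (((D25795).symm.trans (sb E12699 (iv F116138)))).symm
theorem F134087 : act 0 n20328 = n24652 := (sb E12700 (iv F110937))
theorem F134088 : act 3 n20328 = n16385 := (sb E12700 F94257)
theorem F134089 : act 0 n20344 = n24663 := (sb E12701 (iv F110981))
theorem E14417 : n25920 = n25797 := (((D25797).symm.trans (sb E12701 (iv F116181)))).symm
theorem F134090 : act 2 n12407 = n15916 := (sb E12702 F91980)
theorem F134091 : act 5 n12407 = n15915 := (sb E12702 (iv D20350))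
theorem E14421 : n25806 = n15963 := (((D15963).symm.trans (sb E12702 D25806))).symm
theorem E14422 : n25807 = n15947 := ((((iv F72722)).symm.trans (sb E12702 D25807))).symm
theorem F134092 : act 1 n20343 = n15968 := (sb E12703 F92211)
theorem F134093 : act 3 n20343 = n16037 := (sb E12703 F92212)
theorem F134094 : act 5 n20343 = n15967 := (sb E12703 (iv D20426))
theorem E14423 : n25916 = n25795 := (((D25795).symm.trans (sb E12703 D25916))).symm
theorem E14424 : n25917 = n25771 := ((((iv F115709)).symm.trans (sb E12703 D25917))).symm
theorem F134095 : act 1 n20344 = n15915 := (sb E12704 F91976)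
theorem F134096 : act 2 n20344 = n15967 := (sb E12704 F91977)
theorem F134097 : act 6 n20344 = n15914 := (sb E12704 (iv D20349))
theorem E14425 : n25804 = n25797 := (((D25797).symm.trans (sb E12704 D25804))).symm
theorem E14426 : n25798 = n25783 := ((D25798).symm.trans (sb E12704 (iv F115750)))
theorem F134098 : act 0 n20346 = n24181 := (sb E12707 (iv F108665))
theorem F134099 : act 2 n20346 = n16041 := (sb E12707 F92557)
theorem F134100 : act 6 n20346 = n16039 := (sb E12707 (iv D20528))
theorem E14430 : n26058 = n25800 := (((D25800).symm.trans (sb E12707 D26058))).symm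
theorem F134101 : act 1 n20328 = n16392 := (sb E12709 F94283)
theorem E14433 : n26592 = n23505 := ((((iv F105370)).symm.trans (sb E12709 (iv F118738)))).symm
theorem F134102 : act 0 n20336 = n24664 := (sb E12711 (iv F110985))
theorem E14436 : n26597 = n25764 := ((((iv F115685)).symm.trans (sb E12711 (iv F118754)))).symm
theorem F134103 : act 7 n20336 = n16392 := (sb E12711 F94298)
theorem E14438 : n26639 = n25776 := ((((iv F115725)).symm.trans (sb E12711 D26639))).symm
theorem F134104 : act 0 n20347 = n24777 := (sb E12713 (iv F111484))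
theorem F134105 : act 2 n20347 = n16476 := (sb E12713 F94689)
theorem E14440 : n26786 = n25775 := ((((iv F115721)).symm.trans (sb E12713 D26786))).symm
theorem E14441 : n26787 = n25801 := (((D25801).symm.trans (sb E12713 D26787))).symm
theorem F134106 : act 3 n20336 = n16322 := (sb E12714 F93937)
theorem E14442 : n26468 = n25764 := ((((iv F115685)).symm.trans (sb E12714 (iv F118272)))).symm
theorem E14443 : n26494 = n25776 := ((((iv F115725)).symm.trans (sb E12714 D26494))).symm
theorem E14444 : n26604 = n25845 := ((((iv F115971)).symm.trans (sb E12715 (iv F118775)))).symm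
theorem F134107 : act 7 n20399 = n16397 := (sb E12715 F94316)
theorem E14446 : n26606 = n25958 := (((D25958).symm.trans (sb E12716 (iv F118782)))).symm
theorem F134108 : act 7 n20456 = n16376 := (sb E12716 F94225)
theorem E14448 : n26005 = n25930 := ((D26005).symm.trans (sb E12717 (iv F116213)))
theorem F134109 : act 1 n18675 = n16397 := (sb E12720 F93988)
theorem E14449 : n26482 = n23602 := ((((iv F105886)).symm.trans (sb E12720 (iv F118328)))).symm
theorem F134110 : act 1 n18691 = n16376 := (sb E12724 F93905)
theorem E14452 : n26461 = n23630 := (((D23630).symm.trans (sb E12724 (iv F118240)))).symm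
theorem F134111 : act 1 n20422 = n16039 := (sb E12730 F92548)
theorem F134112 : act 7 n20422 = n16037 := (sb E12730 (iv D20526))
theorem E14459 : n26056 = n25911 := (((D25911).symm.trans (sb E12730 D26056))).symm
theorem E14462 : n25156 = n24175 := ((((iv F108635)).symm.trans (sb E12732 (iv F113345)))).symm
theorem E14463 : n27449 = n26051 := (((D26051).symm.trans (sb E12732 (iv F122432)))).symm
theorem E14464 : n26052 = n25944 := ((D26052).symm.trans (sb E12732 (iv F116267)))
theorem F134113 : act 0 n19466 = n15967 := (sb E12733 F92208)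
theorem F134114 : act 1 n19466 = n24078 := (sb E12733 (iv F108205))
theorem E14465 : n25914 = n24086 := ((((iv F108239)).symm.trans (sb E12733 D25914))).symm
theorem E14466 : n25887 = n24670 := (((D24670).symm.trans (sb E12733 (iv F116083)))).symm
theorem F134115 : act 0 n19467 = n15954 := (sb E12734 (iv D20405))
theorem F134116 : act 1 n19467 = n24058 := (sb E12734 (iv F108127))
theorem E14467 : n25851 = n24639 := ((((iv F110884)).symm.trans (sb E12734 (iv F115991)))).symm
theorem F134117 : act 3 n20427 = n15973 := (sb E12736 F92235)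
theorem E14468 : n25902 = n15971 := (((iv F116118)).symm.trans (sb E12736 (iv D20433)))
theorem E14469 : n25927 = n25889 := ((((iv F116088)).symm.trans (sb E12736 D25927))).symm
theorem F134118 : act 1 n12731 = n15946 := (sb E12739 (iv D20393))
theorem E14472 : n25839 = n16373 := ((((iv F74238)).symm.trans (sb E12739 (iv F115954)))).symm
theorem F134119 : act 7 n12731 = n15954 := (sb E12739 F92123)
theorem E14473 : n26600 = n25833 := ((((iv F115939)).symm.trans (sb E12740 (iv F118764)))).symm
theorem E14476 : n26057 = n25942 := ((D26057).symm.trans (sb E12742 (iv F116257)))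
theorem F134120 : act 0 n19446 = n15994 := (sb E12743 (iv D20462))
theorem F134121 : act 1 n19446 = n24115 := (sb E12743 (iv F108378))
theorem F134122 : act 0 n19469 = n16017 := (sb E12744 F92452)
theorem E14477 : n26016 = n24672 := (((D24672).symm.trans (sb E12744 D26016))).symm
theorem F134123 : act 0 n20463 = n24641 := (sb E12747 (iv F110890))
theorem E14481 : n26565 = n25969 := (((D25969).symm.trans (sb E12747 (iv F118642)))).symm
theorem F134124 : act 8 n20463 = n16374 := (sb E12747 (iv D20973))
theorem F134125 : act 1 n12718 = n15986 := (sb E12748 (iv D20450))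
theorem E14482 : n25948 = n16356 := ((((iv F74173)).symm.trans (sb E12748 D25948))).symm
theorem F134126 : act 7 n12718 = n15994 := (sb E12748 F92300)
theorem E14484 : n26019 = n25929 := ((D26019).symm.trans (sb E12749 (iv F116209)))
theorem E14485 : n26624 = n26020 := (((D26020).symm.trans (sb E12749 (iv F118844)))).symm
theorem F134127 : act 7 n20436 = n16017 := (sb E12750 (iv D20500))
theorem F134128 : act 1 n12460 = n15973 := (sb E12753 F91998)
theorem F134129 : act 6 n12460 = n15918 := (sb E12753 (iv D20355))
theorem F134130 : act 0 n20527 = n24654 := (sb E12754 (iv F110943))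
theorem F134131 : act 2 n20527 = n16467 := (sb E12754 F94261)
theorem F134132 : act 6 n20527 = n16385 := (sb E12754 F94263)
theorem E14499 : n27452 = n26060 := (((D26060).symm.trans (sb E12763 (iv F122439)))).symm
theorem F134133 : act 0 n19014 = n15916 := (sb E12771 F91837)
theorem F134134 : act 1 n19014 = n23961 := (sb E12771 (iv F107695))
theorem F134135 : act 5 n19014 = n15888 := (sb E12771 (iv D20311))
theorem E14507 : n25747 = n24071 := (((D24071).symm.trans (sb E12771 D25747))).symm
theorem F134136 : act 0 n19082 = n15918 := (sb E12773 F91844)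
theorem F134137 : act 1 n19082 = n23963 := (sb E12773 (iv F107704))
theorem F134138 : act 5 n19082 = n15890 := (sb E12773 F91847)
theorem F134139 : act 1 n19211 = n15970 := (sb E12777 F91987)
theorem F134140 : act 4 n19211 = n15916 := (sb E12777 (iv D20352))
theorem E14510 : n25259 = n24332 := (((D24332).symm.trans (sb E12777 (iv F113763)))).symm
theorem E14511 : n25870 = n25811 := (((D25811).symm.trans (sb E12778 (iv F116041)))).symm
theorem E14512 : n25869 = n25788 := ((((iv F115762)).symm.trans (sb E12779 D25869))).symm
theorem F134141 : act 6 n20354 = n15946 := (sb E12779 (iv D20394))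
theorem E14513 : n26479 = n23750 := ((((iv F106627)).symm.trans (sb E12780 (iv F118318)))).symm
theorem E14514 : n26458 = n25840 := (((D25840).symm.trans (sb E12780 (iv F118227)))).symm
theorem F134142 : act 8 n20375 = n16313 := (sb E12780 (iv D20884))
theorem E14517 : n25949 = n25769 := ((((iv F115702)).symm.trans (sb E12782 (iv F116286)))).symm
theorem E14518 : n26460 = n25950 := (((D25950).symm.trans (sb E12783 (iv F118236)))).symm
theorem F134143 : act 8 n20451 = n16305 := (sb E12783 (iv D20871))
theorem F134144 : act 0 n19477 = n16073 := (sb E12785 F92703)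
theorem E14520 : n26102 = n24682 := (((D24682).symm.trans (sb E12785 D26102))).symm
theorem E14522 : n26105 = n25939 := (((D25939).symm.trans (sb E12789 (iv F116821)))).symm
theorem E14523 : n26106 = n25579 := ((((iv F114936)).symm.trans (sb E12789 D26106))).symm
theorem F134145 : act 7 n20444 = n16073 := (sb E12789 (iv D20571))
theorem E14524 : n26094 = n25940 := (((D25940).symm.trans (sb E12789 (iv F116780)))).symm
theorem F134146 : act 7 n20445 = n16064 := (sb E12790 (iv D20559))
theorem F134147 : act 1 n16066 = n20445 := (sb E12796 F133324)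
theorem F134148 : act 0 n19109 = n15756 := (sb E12801 F91047)
theorem F134149 : act 1 n19109 = n23746 := (sb E12801 (iv F106601))
theorem E14535 : n25460 = n24202 := (((D24202).symm.trans (sb E12801 (iv F114500)))).symm
theorem F134150 : act 8 n19109 = n15734 := (sb E12801 (iv D20105))
theorem F134151 : act 1 n19064 = n15977 := (sb E12804 F92028)
theorem E14537 : n25823 = n24143 := (((D24143).symm.trans (sb E12804 D25823))).symm
theorem F134152 : act 1 n19118 = n15786 := (sb E12805 F91169)
theorem F134153 : act 3 n19118 = n15756 := (sb E12805 F91170)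
theorem E14538 : n25508 = n24213 := (((D24213).symm.trans (sb E12805 (iv F114705)))).symm
theorem F134154 : act 8 n19118 = n15753 := (sb E12805 (iv D20133))
theorem E14541 : n25503 = n23660 := ((D25503).symm.trans (sb E12806 (iv F106176)))
theorem E14542 : n26086 = n25512 := ((((iv F114723)).symm.trans (sb E12807 D26086))).symm
theorem F134155 : act 1 n18714 = n15789 := (sb E12808 F91182)
theorem F134156 : act 9 n18714 = n15756 := (sb E12808 (iv D20136))
theorem F134157 : act 5 n12623 = n15894 := (sb E12812 F91872)
theorem F134158 : act 1 n19259 = n15637 := (sb E12816 F90506)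
theorem F134159 : act 4 n19259 = n15618 := (sb E12816 (iv D19952))
theorem E14547 : n25269 = n24398 := (((D24398).symm.trans (sb E12816 D25269))).symm
theorem F134160 : act 0 n20651 = n24361 := (sb E12818 (iv F109558))
theorem F134161 : act 3 n20651 = n16180 := (sb E12818 F93248)
theorem F134162 : act 0 n20653 = n24373 := (sb E12819 (iv F109605))
theorem F134163 : act 6 n20653 = n16187 := (sb E12819 (iv D20728))
theorem E14549 : n26301 = n26206 := (((D26206).symm.trans (sb E12819 D26301))).symm
theorem E14550 : n26206 = n26190 := (((D26190).symm.trans (sb E12846 (tr (iv F117584) E14549)))).symm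
theorem F134164 : act 2 n12562 = n16142 := (sb E12823 F93064)
theorem F134165 : act 5 n12562 = n16140 := (sb E12823 F93066)
theorem F134166 : act 1 n20651 = n16187 := (sb E12824 F93270)
theorem F134167 : act 5 n20651 = n16185 := (sb E12824 F93272)
theorem F134168 : act 1 n20653 = n16140 := (sb E12825 F93059)
theorem F134169 : act 2 n20653 = n16185 := (sb E12825 F93060)
theorem F134170 : act 0 n20639 = n24309 := (sb E12826 (iv F109322))
theorem F134171 : act 3 n20639 = n16136 := (sb E12826 F93037)
theorem F134172 : act 4 n20639 = n24264 := (sb E12826 F109110)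
theorem F134173 : act 8 n20639 = n16133 := (sb E12826 (iv D20654))
theorem E14554 : n26207 = n26179 := ((((iv F117141)).symm.trans (sb E12826 D26207))).symm
theorem F134174 : act 0 n20656 = n24447 := (sb E12829 (iv F109947))
theorem F134175 : act 2 n20656 = n16247 := (sb E12829 F93551)
theorem E14556 : n26301 = n26190 := (E14549).trans E14550
theorem E14557 : n26387 = n23688 := ((((iv F106318)).symm.trans (sb E12829 D26387))).symm
theorem F134176 : act 6 n20656 = n16245 := (sb E12829 F93553)
theorem E14558 : n26388 = n26209 := (((D26209).symm.trans (sb E12829 D26388))).symm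
theorem E14559 : n24558 = n23959 := (((iv F110538)).symm.trans (sb E12830 (iv F107686)))
theorem F134177 : act 0 n19452 = n15613 := (sb E12831 F90401)
theorem F134178 : act 2 n19452 = n15601 := (sb E12831 (iv D19927))
theorem E14563 : n25231 = n24072 := ((((iv F108180)).symm.trans (sb E12831 D25231))).symm
theorem F134179 : act 7 n19452 = n24246 := (sb E12831 (iv F109014))
theorem E14564 : n25226 = n24650 := (((D24650).symm.trans (sb E12831 (iv F113634)))).symm
theorem F134180 : act 0 n19015 = n15915 := (sb E12832 F91833)
theorem F134181 : act 2 n19015 = n15888 := (sb E12832 F91834)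
theorem E14565 : n25745 = n24073 := (((D24073).symm.trans (sb E12832 D25745))).symm
theorem E14566 : n25731 = n24074 := (((D24074).symm.trans (sb E12832 (iv F115552)))).symm
theorem F134182 : act 0 n19454 = n15906 := (sb E12833 F91800)
theorem F134183 : act 2 n19454 = n15881 := (sb E12833 (iv D20301))
theorem E14567 : n25120 = n24626 := ((((iv F110831)).symm.trans (sb E12833 (iv F113218)))).symm
theorem E14568 : n25726 = n24653 := (((D24653).symm.trans (sb E12833 (iv F115534)))).symm
theorem F134184 : act 2 n19159 = n15365 := (sb E12834 F89081)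
theorem E14569 : n24298 = n24263 := (((D24263).symm.trans (sb E12834 (iv F109280)))).symm
theorem F134185 : act 2 n19636 = n23665 := (sb E12835 (iv F106202))
theorem F134186 : act 7 n19636 = n24250 := (sb E12835 (iv F109037))
theorem F134187 : act 8 n19636 = n24256 := (sb E12835 (iv F109070))
theorem F134188 : act 2 n19638 = n24250 := (sb E12837 (iv F109033))
theorem F134189 : act 4 n19638 = n24256 := (sb E12837 (iv F109067))
theorem F134190 : act 7 n19638 = n23665 := (sb E12837 (iv F106206))
theorem F134191 : act 0 n19230 = n15684 := (sb E12838 F90754)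
theorem F134192 : act 2 n19230 = n15674 := (sb E12838 F90755)
theorem E14574 : n25362 = n16167 := (((F87155).symm.trans (sb E12838 D25362))).symm
theorem E14575 : n25363 = n24359 := (((D24359).symm.trans (sb E12838 D25363))).symm
theorem F134193 : act 0 n19231 = n16140 := (sb E12839 F92875)
theorem F134194 : act 2 n19231 = n16109 := (sb E12839 F92876)
theorem E14576 : n26140 = n24362 := (((D24362).symm.trans (sb E12839 (iv F116965)))).symm
theorem F134195 : act 0 n19232 = n16126 := (sb E12840 F92827)
theorem F134196 : act 2 n19232 = n16099 := (sb E12840 F92828)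
theorem E14578 : n26132 = n24363 := (((D24363).symm.trans (sb E12840 (iv F116934)))).symm
theorem F134197 : act 0 n19676 = n16121 := (sb E12841 F92808)
theorem F134198 : act 2 n19676 = n16095 := (sb E12841 (iv D20594))
theorem F134199 : act 7 n19676 = n23571 := (sb E12841 (iv F105737))
theorem E14579 : n26258 = n23667 := ((((iv F106214)).symm.trans (sb E12842 (iv F117446)))).symm
theorem E14580 : n26262 = n25365 := (((D25365).symm.trans (sb E12842 D26262))).symm
theorem E14581 : n26263 = n25366 := (((D25366).symm.trans (sb E12842 D26263))).symm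
theorem E14582 : n26246 = n25232 := ((((iv F113657)).symm.trans (sb E12842 (iv F117410)))).symm
theorem F134200 : act 0 n19229 = n16142 := (sb E12844 F92881)
theorem F134201 : act 1 n19229 = n24267 := (sb E12844 (iv F109122))
theorem F134202 : act 5 n19229 = n16109 := (sb E12844 F92883)
theorem E14583 : n26141 = n25415 := ((((iv F114336)).symm.trans (sb E12845 D26141))).symm
theorem F134203 : act 5 n20064 = n16099 := (sb E12845 (iv D20600))
theorem E14584 : n26142 = n25417 := ((((iv F114343)).symm.trans (sb E12845 D26142))).symm
theorem E14585 : n26133 = n25418 := (((D25418).symm.trans (sb E12845 (iv F116938)))).symm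
theorem F134204 : act 7 n20632 = n16622 := (sb E12847 F95420)
theorem F134205 : act 5 n19220 = n15684 := (sb E12848 (iv D20041))
theorem E14586 : n25386 = n24346 := (((D24346).symm.trans (sb E12848 D25386))).symm
theorem E14587 : n25387 = n24347 := (((D24347).symm.trans (sb E12848 D25387))).symm
theorem E14588 : n25257 = n24334 := ((((iv F109445)).symm.trans (sb E12848 (iv F113756)))).symm
theorem F134206 : act 1 n19185 = n24264 := (sb E12850 (iv F109106))
theorem E14596 : n25873 = n25784 := (((D25784).symm.trans (sb E12855 (iv F116045)))).symm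
theorem E14601 : n26192 = n23709 := (((iv F117190)).symm.trans (sb E12858 (iv F106409)))
theorem E14603 : n26191 = n23707 := ((((iv F106401)).symm.trans (sb E12859 D26191))).symm
theorem F134207 : act 5 n18751 = n16126 := (sb E12859 (iv D20640))
theorem E14604 : n26180 = n23710 := (((D23710).symm.trans (sb E12859 (iv F117145)))).symm
theorem F134208 : act 0 n20632 = n24569 := (sb E12861 (iv F110583))
theorem F134209 : act 3 n20632 = n16572 := (sb E12861 F95187)
theorem F134210 : act 5 n20085 = n16101 := (sb E12862 F92840)
theorem E14605 : n26144 = n25442 := ((((iv F114433)).symm.trans (sb E12862 D26144))).symm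
theorem E14606 : n26135 = n25443 := (((D25443).symm.trans (sb E12862 (iv F116946)))).symm
theorem F134211 : act 5 n20086 = n16096 := (sb E12863 (iv D20596))
theorem E14607 : n26136 = n25345 := ((((iv F114049)).symm.trans (sb E12863 D26136))).symm
theorem E14609 : n26308 = n26259 := (((D26259).symm.trans (sb E12864 (iv F117602)))).symm
theorem F134212 : act 3 n20697 = n16194 := (sb E12865 F93302)
theorem F134213 : act 6 n20697 = n16192 := (sb E12865 F93303)
theorem E14611 : n26309 = n26245 := ((((iv F117407)).symm.trans (sb E12865 D26309))).symm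
theorem F134214 : act 4 n16165 = n20026 := (sb E12867 (iv D25364))
theorem F134215 : act 1 n18748 = n16192 := (sb E12871 F93080)
theorem E14612 : n26197 = n23704 := ((((iv F106389)).symm.trans (sb E12871 (iv F117207)))).symm
theorem F134216 : act 8 n18748 = n16142 := (sb E12871 (iv D20667))
theorem F134217 : act 3 n20719 = n23683 := (sb E12873 (iv F106295))
theorem F134218 : act 1 n20719 = n16245 := (sb E12874 F93543)
theorem E14615 : n26346 = n26287 := (((D26287).symm.trans (sb E12874 (iv F117747)))).symm
theorem F134219 : act 7 n20719 = n16243 := (sb E12874 F93546)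
theorem E14616 : n26386 = n26288 := (((D26288).symm.trans (sb E12874 D26386))).symm
theorem F134220 : act 2 n18736 = n16667 := (sb E12875 F95601)
theorem E14618 : n27030 = n23689 := (((D23689).symm.trans (sb E12875 D27030))).symm
theorem F134221 : act 0 n20657 = n24994 := (sb E12876 (iv F112545))
theorem F134222 : act 2 n20657 = n16668 := (sb E12876 F95603)
theorem F134223 : act 0 n19244 = n16185 := (sb E12877 F93265)
theorem F134224 : act 6 n12570 = n16185 := (sb E12879 F93234)
theorem F134225 : act 4 n18727 = n16215 := (sb E12880 (iv D20764))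
theorem E14619 : n26344 = n23676 := (((D23676).symm.trans (sb E12880 D26344))).symm
theorem F134226 : act 2 n12592 = n15679 := (sb E12881 F90778)
theorem E14620 : n25373 = n16220 := (((D16220).symm.trans (sb E12881 D25373))).symm
theorem F134227 : act 2 n12633 = n15680 := (sb E12882 F90782)
theorem E14621 : n25238 = n16259 := ((((iv F73783)).symm.trans (sb E12882 (iv F113686)))).symm
theorem F134228 : act 2 n12624 = n15605 := (sb E12883 F90426)
theorem E14622 : n25093 = n16260 := (((D16260).symm.trans (sb E12883 (iv F113110)))).symm
theorem F134229 : act 4 n12590 = n15679 := (sb E12884 (iv D20033))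
theorem E14623 : n26350 = n25377 := (((D25377).symm.trans (sb E12885 D26350))).symm
theorem E14624 : n26351 = n25378 := (((D25378).symm.trans (sb E12885 D26351))).symm
theorem E14625 : n26328 = n25240 := ((((iv F113694)).symm.trans (sb E12885 (iv F117678)))).symm
theorem F134230 : act 4 n20035 = n16219 := (sb E12886 F93427)
theorem E14626 : n26352 = n25379 := (((D25379).symm.trans (sb E12886 D26352))).symm
theorem E14627 : n25693 = n25241 := (((D25241).symm.trans (sb E12887 (iv F115394)))).symm
theorem E14628 : n25723 = n25095 := ((((iv F113119)).symm.trans (sb E12888 (iv F115517)))).symm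
theorem E14629 : n25094 = n15865 := ((D25094).symm.trans (sb E12889 (iv D20289)))
theorem F134231 : act 2 n12648 = n15522 := (sb E12890 (iv D19821))
theorem F134232 : act 0 n12346 = n15499 := (sb E12891 F87863)
theorem F134233 : act 5 n12346 = n15522 := (sb E12891 F87866)
theorem F134234 : act 2 n12625 = n15894 := (sb E12892 F91863)
theorem E14632 : n25463 = n16261 := (((D16261).symm.trans (sb E12892 (iv F114516)))).symm
theorem F134235 : act 2 n12626 = n15733 := (sb E12893 F91030)
theorem E14633 : n26098 = n25465 := ((((iv F114523)).symm.trans (sb E12894 (iv F116790)))).symm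
theorem E14634 : n25649 = n25464 := (((D25464).symm.trans (sb E12895 (iv F115205)))).symm
theorem F134236 : act 8 n20102 = n16065 := (sb E12895 (iv D20562))
theorem F134237 : act 2 n19273 = n15692 := (sb E12898 F90850)
theorem E14636 : n25398 = n24417 := (((D24417).symm.trans (sb E12898 D25398))).symm
theorem E14637 : n25399 = n24418 := (((D24418).symm.trans (sb E12898 D25399))).symm
theorem E14638 : n25266 = n24399 := ((((iv F109725)).symm.trans (sb E12898 (iv F113796)))).symm
theorem F134238 : act 2 n19274 = n15693 := (sb E12899 F90854)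
theorem E14639 : n25400 = n24419 := (((D24419).symm.trans (sb E12899 D25400))).symm
theorem F134239 : act 2 n19261 = n15618 := (sb E12900 F90496)
theorem E14640 : n25267 = n24400 := (((D24400).symm.trans (sb E12900 D25267))).symm
theorem F134240 : act 2 n19312 = n15619 := (sb E12901 F90501)
theorem E14641 : n25109 = n24465 := (((D24465).symm.trans (sb E12901 (iv F113174)))).symm
theorem F134241 : act 2 n19313 = n15531 := (sb E12902 F90022)
theorem E14642 : n25108 = n16915 := ((((iv F87530)).symm.trans (sb E12902 D25108))).symm
theorem F134242 : act 2 n19314 = n15754 := (sb E12905 F91157)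
theorem E14644 : n25505 = n24219 := ((((iv F108870)).symm.trans (sb E12905 (iv F114694)))).symm
theorem F134243 : act 2 n19122 = n15753 := (sb E12906 F91152)
theorem E14645 : n25504 = n24217 := ((((iv F108857)).symm.trans (sb E12906 D25504))).symm
theorem F134244 : act 1 n19218 = n15701 := (sb E12907 F90823)
theorem F134245 : act 1 n19271 = n15707 := (sb E12908 F90858)
theorem F134246 : act 4 n19271 = n15692 := (sb E12908 F90859)
theorem E14646 : n25401 = n24414 := (((D24414).symm.trans (sb E12908 D25401))).symm
theorem E14647 : n23928 = n15548 := (((F90027).symm.trans (sb E12909 (iv F107504)))).symm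
theorem E14649 : n25648 = n25110 := (((D25110).symm.trans (sb E12909 (iv F115201)))).symm
theorem E14650 : n25060 = n15864 := (((iv F112933)).symm.trans (sb E12909 (iv D20288)))
theorem E14651 : n25722 = n25111 := (((D25111).symm.trans (sb E12909 D25722))).symm
theorem E14652 : n25692 = n25112 := (((D25112).symm.trans (sb E12909 (iv F115390)))).symm
theorem F134247 : act 1 n18747 = n16169 := (sb E12911 F92999)
theorem E14653 : n26195 = n23703 := (((D23703).symm.trans (sb E12911 (iv F117200)))).symm
theorem E14654 : n26198 = n23614 := ((((iv F105949)).symm.trans (sb E12911 D26198))).symm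
theorem F134248 : act 1 n18680 = n16193 := (sb E12912 F93083)
theorem F134249 : act 1 n18765 = n16171 := (sb E12913 F93007)
theorem E14655 : n26199 = n23725 := (((D23725).symm.trans (sb E12913 (iv F117216)))).symm
theorem F134250 : act 1 n18703 = n16172 := (sb E12914 F93012)
theorem E14656 : n26187 = n23649 := (((D23649).symm.trans (sb E12914 (iv F117173)))).symm
theorem F134251 : act 6 n12076 = n14836 := (sb E12915 (iv D18922))
theorem F134252 : act 2 n13136 = n15499 := (sb E12916 (iv D19792))
theorem F134253 : act 3 n12345 = n15500 := (sb E12917 F89816)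
theorem F134254 : act 6 n12345 = n15499 := (sb E12917 (iv D19793))
theorem F134255 : act 0 n20766 = n23694 := (sb E12918 (iv F106344))
theorem F134256 : act 3 n20766 = n23682 := (sb E12918 (iv F106292))
theorem E14659 : n26345 = n26273 := ((((iv F117492)).symm.trans (sb E12919 D26345))).symm
theorem F134257 : act 7 n20737 = n16215 := (sb E12919 (iv D20765))
theorem E14660 : n26326 = n26311 := (((D26311).symm.trans (sb E12919 (iv F117670)))).symm
theorem F134258 : act 1 n20738 = n16207 := (sb E12920 F93360)
theorem F134259 : act 7 n20738 = n16205 := (sb E12920 (iv D20751))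
theorem F134260 : act 2 n20766 = n16658 := (sb E12921 F95369)
theorem E14661 : n26958 = n26347 := (((D26347).symm.trans (sb E12921 D26958))).symm
theorem F134261 : act 4 n16206 = n19933 := (sb E12923 (iv D25239))
theorem F134262 : act 1 n16218 = n20737 := (sb E12927 F133422)
theorem F134263 : act 4 n16218 = n20034 := (sb E12927 F114175)
theorem F134264 : act 2 n16208 = n19933 := (sb E12930 F113677)
theorem F134265 : act 3 n19086 = n16932 := (sb E12935 F97106)
theorem F134266 : act 3 n19291 = n17227 := (sb E12936 F98683)
theorem E14671 : n27891 = n24441 := (((D24441).symm.trans (sb E12936 (iv F124218)))).symm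
theorem F134267 : act 1 n20796 = n17340 := (sb E12937 F98961)
theorem F134268 : act 3 n20796 = n17274 := (sb E12937 F98962)
theorem E14672 : n27966 = n26380 := (((D26380).symm.trans (sb E12937 (iv F124550)))).symm
theorem E14673 : n27967 = n23730 := ((((iv F106511)).symm.trans (sb E12937 D27967))).symm
theorem E14674 : n27959 = n26381 := (((D26381).symm.trans (sb E12937 (iv F124529)))).symm
theorem F134269 : act 1 n20797 = n17332 := (sb E12938 F98933)
theorem F134270 : act 3 n20797 = n17269 := (sb E12938 F98934)
theorem F134271 : act 3 n20802 = n23586 := (sb E12939 (iv F105813))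
theorem F134272 : act 0 n20802 = n24933 := (sb E12940 (iv F112275))
theorem F134273 : act 2 n20802 = n16659 := (sb E12940 F95372)
theorem F134274 : act 6 n20802 = n16612 := (sb E12940 F95374)
theorem F134275 : act 4 n19191 = n16188 := (sb E12941 F93281)
theorem E14675 : n26298 = n24308 := (((D24308).symm.trans (sb E12941 (iv F117574)))).symm
theorem F134276 : act 8 n19191 = n16186 := (sb E12941 (iv D20727))
theorem E14676 : n26300 = n24005 := ((((iv F107906)).symm.trans (sb E12941 D26300))).symm
theorem F134277 : act 1 n20805 = n17343 := (sb E12946 F98971)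
theorem E14681 : n26389 = n23478 := ((D26389).symm.trans (sb E12946 (iv F105214)))
theorem E14682 : n27970 = n26357 := ((((iv F117790)).symm.trans (sb E12946 (iv F124565)))).symm
theorem F134278 : act 8 n20805 = n17274 := (sb E12946 (iv D22125))
theorem E14683 : n27971 = n26390 := (((D26390).symm.trans (sb E12946 D27971))).symm
theorem F134279 : act 4 n19238 = n16192 := (sb E12948 F93296)
theorem F134280 : act 8 n19238 = n16189 := (sb E12948 (iv D20732))
theorem E14684 : n26306 = n24080 := ((((iv F108214)).symm.trans (sb E12948 D26306))).symm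
theorem F134281 : act 4 n19020 = n16193 := (sb E12949 F93300)
theorem E14685 : n25926 = n24059 := ((((iv F108132)).symm.trans (sb E12949 (iv F116201)))).symm
theorem F134282 : act 2 n16069 = n20102 := (sb E12950 F114508)
theorem F134283 : act 0 n19519 = n16309 := (sb E12954 F89842)
theorem F134284 : act 1 n19519 = n24488 := (sb E12954 (iv F110176))
theorem E14690 : n24741 = n15506 := (((iv F111330)).symm.trans (sb E12954 F89844))
theorem E14691 : n24743 = n15546 := ((D24743).symm.trans (sb E12954 F89845))
theorem F134285 : act 7 n11924 = n9449 := (sb E12956 (iv D12078))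
theorem E14695 : n26453 = n23511 := ((((iv F105406)).symm.trans (sb E12997 (iv F118208)))).symm
theorem F134286 : act 3 n11578 = n14593 := (sb E12961 F83985)
theorem E14700 : n23489 = n14827 := ((((iv F67795)).symm.trans (sb E12961 D23489))).symm
theorem F134287 : act 1 n11431 = n14593 := (sb E12963 (iv F66579))
theorem F134288 : act 4 n11431 = n9907 := (sb E12963 F58294)
theorem F134289 : act 7 n18589 = n14631 := (sb E12965 F84252)
theorem E14703 : n23538 = n23492 := (((D23492).symm.trans (sb E12965 (iv F105543)))).symm
theorem F134290 : act 2 n12699 = n16313 := (sb E12966 F93877)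
theorem E14706 : n26454 = n16348 := (((D16348).symm.trans (sb E12966 (iv F118212)))).symm
theorem F134291 : act 1 n18604 = n16369 := (sb E12967 F94187)
theorem E14708 : n26555 = n23510 := (((D23510).symm.trans (sb E12967 (iv F118610)))).symm
theorem F134292 : act 0 n20866 = n24634 := (sb E12972 (iv F110862))
theorem F134293 : act 7 n20866 = n16369 := (sb E12972 (iv D20966))
theorem F134294 : act 3 n20866 = n16309 := (sb E12969 F93851)
theorem F134295 : act 5 n20866 = n16308 := (sb E12969 (iv D20874))
theorem E14712 : n26692 = n23513 := (((D23513).symm.trans (sb E12970 (iv F119076)))).symm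
theorem E14714 : n26471 = n25603 := ((D26471).symm.trans (sb E12971 (iv F115039)))
theorem F134296 : act 0 n20877 = n24744 := (sb E12973 (iv F111340))
theorem F134297 : act 2 n20877 = n16452 := (sb E12973 F94572)
theorem F134298 : act 7 n20877 = n16448 := (sb E12973 F94574)
theorem E14715 : n26747 = n25603 := (((E14714).symm.trans ((D26471).symm.trans (sb E12973 D26747)))).symm
theorem F134299 : act 0 n20897 = n24778 := (sb E12977 (iv F111488))
theorem F134300 : act 2 n20897 = n16477 := (sb E12977 F94692)
theorem F134301 : act 7 n20897 = n16475 := (sb E12977 F94694)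
theorem E14716 : n24541 = n24490 := (((iv F110463)).symm.trans (sb E12978 (iv F110188)))
theorem E14717 : n25130 = n24542 := (((D24542).symm.trans (sb E12978 (iv F113252)))).symm
theorem F134302 : act 0 n19434 = n16303 := (sb E12979 F90081)
theorem F134303 : act 2 n19434 = n15541 := (sb E12979 (iv D19847))
theorem E14718 : n24624 = n15774 := ((D24624).symm.trans (sb E12979 F90083))
theorem E14719 : n25131 = n24600 := ((((iv F110716)).symm.trans (sb E12979 D25131))).symm
theorem F134304 : act 7 n19434 = n15544 := (sb E12979 F90085)
theorem F134305 : act 0 n19418 = n16313 := (sb E12980 F93681)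
theorem F134306 : act 1 n19418 = n24492 := (sb E12980 (iv F110200))
theorem E14721 : n25132 = n24599 := (((D24599).symm.trans (sb E12980 (iv F113262)))).symm
theorem F134307 : act 0 n19484 = n16305 := (sb E12982 F90091)
theorem F134308 : act 1 n19484 = n24484 := (sb E12982 (iv F110151))
theorem F134309 : act 5 n19484 = n15542 := (sb E12982 (iv D19849))
theorem E14723 : n25134 = n24693 := (((D24693).symm.trans (sb E12982 D25134))).symm
theorem E14727 : n23754 = n16371 := (((D16371).symm.trans (sb E12986 (iv F106644)))).symm
theorem F134310 : act 7 n12715 = n16351 := (sb E12986 F94079)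
theorem F134311 : act 4 n18789 = n16313 := (sb E12988 (iv D20882))
theorem E14730 : n26456 = n23755 := (((D23755).symm.trans (sb E12988 (iv F118219)))).symm
theorem E14732 : n26547 = n26457 := (((D26457).symm.trans (sb E12989 D26547))).symm
theorem F134312 : act 7 n12702 = n16313 := (sb E12990 (iv D20883))
theorem E14734 : n26459 = n16421 := ((D26459).symm.trans (sb E12991 F94392))
theorem F134313 : act 1 n12750 = n16374 := (sb E12992 F93896)
theorem F134314 : act 0 n19350 = n24497 := (sb E12993 (iv F110225))
theorem F134315 : act 2 n19350 = n15183 := (sb E12993 F87935)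
theorem F134316 : act 6 n19350 = n15182 := (sb E12993 (iv D19389))
theorem E14737 : n26549 = n26455 := (((D26455).symm.trans (sb E12995 D26549))).symm
theorem F134317 : act 1 n18617 = n16420 := (sb E12998 F94418)
theorem E14741 : n26687 = n23530 := (((D23530).symm.trans (sb E12998 D26687))).symm
theorem E14742 : n26688 = n23522 := ((((iv F105460)).symm.trans (sb E12998 D26688))).symm
theorem F134318 : act 1 n18612 = n16448 := (sb E12999 F94557)
theorem F134319 : act 5 n18617 = n16374 := (sb E13001 F94174)
theorem E14747 : n26551 = n23530 := (((D23530).symm.trans (sb E13001 (iv F118598)))).symm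
theorem F134320 : act 5 n18612 = n16385 := (sb E13002 F94177)
theorem F134321 : act 0 n19443 = n16351 := (sb E13005 (iv D20937))
theorem E14752 : n26534 = n24636 := ((((iv F110873)).symm.trans (sb E13005 (iv F118539)))).symm
theorem F134322 : act 3 n20938 = n16374 := (sb E13007 F94211)
theorem E14754 : n26562 = n26556 := (((D26556).symm.trans (sb E13007 (iv F118632)))).symm
theorem F134323 : act 8 n20446 = n16612 := (sb E13009 F94267)
theorem F134324 : act 9 n20446 = n16385 := (sb E13009 (iv D20987))
theorem F134325 : act 1 n20446 = n16475 := (sb E13010 F94685)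
theorem E14755 : n24633 = n23807 := (((D23807).symm.trans (sb E13011 (iv F110858)))).symm
theorem F134326 : act 4 n18825 = n16369 := (sb E13011 (iv D20965))
theorem E14757 : n26557 = n23808 := (((D23808).symm.trans (sb E13011 (iv F118616)))).symm
theorem E14758 : n26595 = n23795 := ((((iv F106865)).symm.trans (sb E13011 D26595))).symm
theorem E14759 : n26637 = n23992 := ((((iv F107854)).symm.trans (sb E13012 (iv F118887)))).symm
theorem F134327 : act 4 n19007 = n16397 := (sb E13012 F94311)
theorem E14760 : n26645 = n24036 := ((((iv F108035)).symm.trans (sb E13012 (iv F118914)))).symm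
theorem F134328 : act 9 n19007 = n16394 := (sb E13012 (iv D21001))
theorem F134329 : act 0 n19070 = n24094 := (sb E13013 (iv F108269))
theorem E14761 : n25936 = n24152 := (((D24152).symm.trans (sb E13013 (iv F116232)))).symm
theorem E14762 : n25934 = n24153 := (((D24153).symm.trans (sb E13013 (iv F116227)))).symm
theorem F134330 : act 9 n19070 = n15977 := (sb E13013 (iv D20441))
theorem E14763 : n26656 = n24116 := (((D24116).symm.trans (sb E13014 (iv F118943)))).symm
theorem F134331 : act 9 n19047 = n16402 := (sb E13014 (iv D21011))
theorem F134332 : act 3 n19127 = n15982 := (sb E13015 F92268)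
theorem E14764 : n25578 = n24224 := ((((iv F108895)).symm.trans (sb E13015 (iv F114932)))).symm
theorem F134333 : act 9 n19127 = n15979 := (sb E13015 (iv D20443))
theorem F134334 : act 0 n19126 = n23821 := (sb E13016 (iv F106976))
theorem F134335 : act 3 n19126 = n15789 := (sb E13016 F91328)
theorem E14765 : n25576 = n24223 := (((D24223).symm.trans (sb E13016 (iv F114923)))).symm
theorem F134336 : act 9 n19126 = n15786 := (sb E13016 (iv D20181))
theorem E14768 : n24706 = n15572 := ((D24706).symm.trans (sb E13020 F89906))
theorem E14769 : n26690 = n23518 := ((((iv F105440)).symm.trans (sb E13021 (iv F119068)))).symm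
theorem F134337 : act 7 n18622 = n16422 := (sb E13021 (iv D21037))
theorem E14771 : n26696 = n23536 := (((D23536).symm.trans (sb E13021 D26696))).symm
theorem E14777 : n16409 = n14629 := (((D14629).symm.trans (sb E13026 (iv D21017)))).symm
theorem E14788 : n24697 = n15569 := (((D15569).symm.trans (sb E13034 (iv F111133)))).symm
theorem F134338 : act 5 n12115 = n15287 := (sb E13035 F88475)
theorem F134339 : act 5 n18619 = n16425 := (sb E13038 F94406)
theorem E14795 : n26730 = n23523 := (((D23523).symm.trans (sb E13039 D26730))).symm
theorem F134340 : act 4 n7491 = n9301 := (sb E13042 F55045)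
theorem E14798 : n9497 = n9300 := ((D9497).symm.trans (sb E13042 (iv D11883)))
theorem F134341 : act 6 n7821 = n8963 := (sb E13046 (iv D11432))
theorem F134342 : act 2 n18641 = n16422 := (sb E13051 F94426)
theorem F134343 : act 4 n18641 = n16420 := (sb E13051 (iv D21034))
theorem E14807 : n23561 = n23518 := ((D23561).symm.trans (sb E13051 (tr D26690 E14769)))
theorem E14808 : n26691 = n23545 := ((((iv F105584)).symm.trans (sb E13051 D26691))).symm
theorem F134344 : act 4 n18640 = n15271 := (sb E13052 (iv D19518))
theorem F134345 : act 2 n18629 = n16450 := (sb E13054 F94567)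
theorem F134346 : act 4 n18629 = n16448 := (sb E13054 F94568)
theorem F134347 : act 2 n15273 = n18640 := (sb E13055 (iv F133015))
theorem E14812 : n27809 = n26697 := (((D26697).symm.trans (sb E13056 D27809))).symm
theorem E14813 : n27810 = n23536 := (((E14771).symm.trans (((iv F119091)).symm.trans (sb E13056 D27810)))).symm
theorem E14814 : n26698 = n17162 := ((D26698).symm.trans (sb E13056 F98328))
theorem F134348 : act 4 n12082 = n15274 := (sb E13057 F88509)
theorem F134349 : act 7 n12082 = n15273 := (sb E13057 (iv D19521))
theorem F134350 : act 4 n18592 = n16452 := (sb E13059 F94584)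
theorem F134351 : act 7 n18592 = n16450 := (sb E13059 F94586)
theorem E14817 : n26750 = n23495 := (((D23495).symm.trans (sb E13059 D26750))).symm
theorem E14818 : n27338 = n14619 := (((D14619).symm.trans (sb E13061 (iv F121928)))).symm
theorem E14819 : n23495 = n16877 := ((D23495).symm.trans (sb E13062 F96809))
theorem F134352 : act 3 n18621 = n16454 := (sb E13064 F94593)
theorem E14822 : n26751 = n23526 := ((((iv F105482)).symm.trans (sb E13064 D26751))).symm
theorem F134353 : act 6 n18621 = n16452 := (sb E13064 F94594)
theorem E14823 : n26699 = n23534 := ((((iv F105524)).symm.trans (sb E13064 (iv F119104)))).symm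
theorem E14824 : n26752 = n23535 := (((D23535).symm.trans (sb E13064 D26752))).symm
theorem E14825 : n26750 = n16877 := (E14817).trans E14819
theorem E14827 : n26694 = n25981 := (((iv F119080)).symm.trans (sb E13067 (iv F116395)))
theorem E14829 : n27696 = n26700 := ((((iv F119107)).symm.trans (sb E13067 D27696))).symm
theorem F134354 : act 6 n12123 = n15274 := (sb E13069 (iv D19523))
theorem E14830 : n24708 = n15570 := (((D15570).symm.trans (sb E13069 (iv F111181)))).symm
theorem F134355 : act 3 n18620 = n16425 := (sb E13070 F94445)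
theorem F134356 : act 1 n16454 = n13245 := (sb E13071 F77115)
theorem F134357 : act 2 n16454 = n20463 := (sb E13071 (iv F92347))
theorem E14831 : n21873 = n21081 := (((D21081).symm.trans (sb E13071 D21873))).symm
theorem E14833 : n27755 = n26780 := (((D26780).symm.trans (sb E13073 D27755))).symm
theorem E14834 : n26780 = n25943 := (((D25943).symm.trans (sb E13095 (tr (iv F123624) E14833)))).symm
theorem E14835 : n24771 = n24100 := ((((iv F108299)).symm.trans (sb E13075 (iv F111457)))).symm
theorem F134358 : act 8 n20447 = n16659 := (sb E13075 F94668)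
theorem F134359 : act 9 n20447 = n16467 := (sb E13075 (iv D21101))
theorem F134360 : act 3 n19539 = n15553 := (sb E13076 F90145)
theorem E14836 : n25155 = n24770 := (((D24770).symm.trans (sb E13076 D25155))).symm
theorem F134361 : act 8 n19036 = n15432 := (sb E13077 F88595)
theorem F134362 : act 9 n19036 = n15287 := (sb E13077 (iv D19540))
theorem F134363 : act 0 n20472 = n24745 := (sb E13083 (iv F111344))
theorem F134364 : act 2 n20472 = n16453 := (sb E13083 F94575)
theorem E14842 : n26598 = n25861 := ((((iv F116016)).symm.trans (sb E13083 (iv F118757)))).symm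
theorem F134365 : act 5 n20472 = n16475 := (sb E13083 F94576)
theorem F134366 : act 9 n20472 = n16448 := (sb E13083 (iv D21075))
theorem E14843 : n26788 = n23634 := ((D26788).symm.trans (sb E13084 (iv F106045)))
theorem F134367 : act 4 n13306 = n16453 := (sb E13086 F94589)
theorem F134368 : act 9 n13306 = n16450 := (sb E13086 (iv D21078))
theorem F134369 : act 4 n14638 = n11924 := (sb E13089 (iv D15320))
theorem F134370 : act 4 n18969 = n16622 := (sb E13091 F95413)
theorem F134371 : act 3 n21327 = n25691 := (sb E13093 (iv F115384))
theorem E14848 : n27023 = n25688 := ((D27023).symm.trans (sb E13093 (iv F115375)))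
theorem E14849 : n27024 = n25686 := ((D27024).symm.trans (sb E13094 F115365))
theorem F134372 : act 3 n19724 = n17222 := (sb E13096 F98656)
theorem F134373 : act 0 n21327 = n23692 := (sb E13097 (iv F106335))
theorem F134374 : act 1 n21327 = n17339 := (sb E13097 F98958)
theorem F134375 : act 2 n21327 = n23676 := (sb E13097 (iv F106263))
theorem E14850 : n25691 = n23474 := ((F134371).symm.trans (sb E13097 (iv F105197)))
theorem F134376 : act 1 n21328 = n17331 := (sb E13098 F98929)
theorem F134377 : act 3 n21328 = n17268 := (sb E13098 F98930)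
theorem E14852 : n27960 = n25686 := (((E14849).symm.trans ((D27024).symm.trans (sb E13098 D27960)))).symm
theorem F134378 : act 4 n18579 = n16667 := (sb E13099 (iv D21336))
theorem F134379 : act 1 n21337 = n17344 := (sb E13100 F98974)
theorem F134380 : act 4 n21337 = n23479 := (sb E13100 (iv F105219))
theorem E14853 : n27963 = n27033 := (((D27033).symm.trans (sb E13100 (iv F124541)))).symm
theorem E14854 : n27033 = n25676 := ((D27033).symm.trans (sb E13101 F115323))
theorem F134381 : act 2 n18572 = n15872 := (sb E13102 F90345)
theorem E14855 : n25206 = n23468 := (((D23468).symm.trans (sb E13102 (iv F113544)))).symm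
theorem E14856 : n25224 = n23469 := (((D23469).symm.trans (sb E13102 (iv F113624)))).symm
theorem E14857 : n23450 = n15589 := (((iv F105068)).symm.trans (sb E13102 (iv D19915)))
theorem F134382 : act 3 n20271 = n16669 := (sb E13103 (iv D21338))
theorem E14858 : n26391 = n25702 := ((((iv F115432)).symm.trans (sb E13103 (iv F117928)))).symm
theorem E14861 : n26392 = n25700 := ((D26392).symm.trans (sb E13104 F115424))
theorem F134383 : act 9 n20268 = n16669 := (sb E13105 (iv D21339))
theorem F134384 : act 3 n20296 = n16251 := (sb E13106 (iv D20809))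
theorem F134385 : act 4 n20295 = n16252 := (sb E13107 F93578)
theorem F134386 : act 9 n20295 = n16251 := (sb E13107 (iv D20810))
theorem F134387 : act 8 n20294 = n16252 := (sb E13108 (iv D20811))
theorem F134388 : act 0 n12144 = n14570 := (sb E13112 F83813)
theorem F134389 : act 9 n12144 = n14578 := (sb E13112 F83819)
theorem E14890 : n23458 = n16888 := (((F96920).symm.trans (sb E13127 (iv F105110)))).symm
theorem F134390 : act 4 n21619 = n17331 := (sb E13127 (iv D22199))
theorem E14891 : n28053 = n27361 := ((((iv F122058)).symm.trans (sb E13127 D28053))).symm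
theorem F134391 : act 9 n21619 = n17339 := (sb E13127 F99253)
theorem E14893 : n28184 = n28055 := (((D28055).symm.trans (sb E13128 (iv F125494)))).symm
theorem E14894 : n28056 = n27359 := ((D28056).symm.trans (sb E13128 (iv F122046)))
theorem E14895 : n27563 = n27188 := ((((iv F121177)).symm.trans (sb E13129 (iv F122891)))).symm
theorem F134392 : act 8 n21617 = n17331 := (sb E13129 (iv D22201))
theorem E14896 : n27759 = n27562 := ((((iv F122887)).symm.trans (sb E13130 (iv F123638)))).symm
theorem E14898 : n27561 = n27190 := ((D27561).symm.trans (sb E13131 (iv F121188)))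
theorem E14916 : n27363 = n23480 := (((D23480).symm.trans (sb E13142 (iv F122068)))).symm
theorem E14917 : n28182 = n28066 := (((D28066).symm.trans (sb E13143 (iv F125486)))).symm
theorem E14919 : n28188 = n28072 := (((D28072).symm.trans (sb E13149 D28188))).symm
theorem E14921 : n28076 = n28072 := (((D28072).symm.trans (sb E13150 (iv F124988)))).symm
theorem E14922 : n21612 = n18582 := (((F105203).symm.trans (sb E13153 F115341))).symm
theorem F134393 : act 4 n23476 = n20271 := (sb E13153 F115343)
theorem F134394 : act 9 n23476 = n20255 := (sb E13153 (iv D25681))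
theorem E14923 : n21609 = n18585 := (((F105217).symm.trans (sb E13155 F115327))).symm
theorem F134395 : act 3 n23479 = n20255 := (sb E13155 F115328)
theorem F134396 : act 8 n23479 = n20252 := (sb E13155 (iv D25678))
theorem F134397 : act 2 n23686 = n20696 := (sb E13167 F117179)
theorem F134398 : act 5 n23686 = n20639 := (sb E13167 (iv D26189))
theorem F134399 : act 4 n24257 = n19232 := (sb E13170 F109556)
theorem F134400 : act 8 n24257 = n19230 := (sb E13170 (iv D24360))
theorem F134401 : act 4 n23955 = n19676 := (sb E13171 F112263)
theorem F134402 : act 5 n14948 = n13148 := (sb E13188 F76559)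
theorem E14942 : n21671 = n19060 := ((((iv F86345)).symm.trans (sb E13188 D21671))).symm
theorem F134403 : act 5 n24445 = n20073 := (sb E13190 (iv D25429))
theorem F134404 : act 5 n24446 = n20075 := (sb E13192 F114393)
theorem F134405 : act 1 n24345 = n20066 := (sb E13195 F114228)
theorem F134406 : act 4 n24345 = n20045 := (sb E13195 F114230)
theorem F134407 : act 1 n24415 = n20073 := (sb E13196 F114285)
theorem F134408 : act 4 n24415 = n20055 := (sb E13196 F114286)
theorem F134409 : act 1 n24416 = n20075 := (sb E13197 F114294)
theorem F134410 : act 4 n24416 = n20056 := (sb E13197 F114295)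
theorem F134411 : act 2 n19302 = n23693 := (sb E13199 (iv F133644))
theorem F134412 : act 2 n19303 = n24017 := (sb E13200 (iv F133645))
theorem F134413 : act 2 n18561 = n14832 := (sb E13202 F84279)
theorem E14948 : n23543 = n23454 := (((D23454).symm.trans (sb E13202 (iv F105573)))).symm
theorem E14949 : n23558 = n23455 := (((D23455).symm.trans (sb E13202 (iv F105660)))).symm
theorem F134414 : act 8 n11433 = n14570 := (sb E13207 (iv F66454))
theorem F134415 : act 4 n19735 = n23591 := (sb E13211 (iv F133693))
theorem E14954 : n24999 = n23906 := ((D24999).symm.trans (sb E13211 F107399))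
theorem E14955 : n19913 = n18558 := ((((iv F83822)).symm.trans (sb E13212 F113598))).symm
theorem E14956 : n19909 = n18595 := ((((iv F84034)).symm.trans (sb E13212 (iv D25219)))).symm
theorem F134416 : act 2 n23577 = n20268 := (sb E13213 F115407)
theorem F134417 : act 4 n23577 = n20750 := (sb E13213 F115408)
theorem F134418 : act 8 n23577 = n20264 := (sb E13213 (iv D25697))
theorem F134419 : act 0 n15866 = n18598 := (sb E13214 F105322)
theorem F134420 : act 1 n15866 = n19822 := (sb E13214 F105323)
theorem F134421 : act 4 n15866 = n18781 := (sb E13214 F105325)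
theorem F134422 : act 8 n15866 = n18655 := (sb E13214 F105326)
theorem E14957 : n18912 = n18608 := (((D18608).symm.trans (sb E13215 (iv D23929)))).symm
theorem E14958 : n18636 = n12743 := (((F66634).symm.trans (sb E13216 F105629))).symm
theorem E14959 : n18635 = n18599 := (((D18599).symm.trans (sb E13216 (iv D23553)))).symm
theorem F134423 : act 5 n14828 = n18598 := (sb E13217 (iv D23501))
theorem F134424 : act 0 n23502 = n20292 := (sb E13218 F107520)
theorem F134425 : act 2 n23502 = n18916 := (sb E13218 F107521)
theorem F134426 : act 5 n23502 = n18914 := (sb E13218 F107522)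
theorem E14963 : n24784 = n23874 := (((iv F111515)).symm.trans (sb E13221 (iv F107232)))
theorem F134427 : act 8 n19553 = n23760 := (sb E13221 (iv F133710))
theorem F134428 : act 2 n23743 = n20232 := (sb E13222 F115215)
theorem F134429 : act 4 n23743 = n20230 := (sb E13222 (iv D25651))
theorem F134430 : act 8 n23743 = n20558 := (sb E13222 (iv F115219))
theorem E14964 : n12143 = n11873 := (((F66615).symm.trans (sb E13223 F71414))).symm
theorem F134431 : act 3 n14598 = n12347 := (sb E13223 F71415)
theorem E14965 : n12142 = n11848 := (((F66616).symm.trans (sb E13223 (iv D15595)))).symm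
theorem F134432 : act 1 n14592 = n11579 := (sb E13229 F67839)
theorem F134433 : act 6 n14592 = n11578 := (sb E13229 (iv D14837))
theorem F134434 : act 3 n9931 = n11433 := (sb E13230 F66832)
theorem F134435 : act 3 n9906 = n11579 := (sb E13232 F66825)
theorem F134436 : act 6 n9906 = n11431 := (sb E13232 (iv D14635))
theorem E14976 : n25159 = n24545 := ((((iv F110483)).symm.trans (sb E13241 (iv F113362)))).symm
theorem E14978 : n24538 = n15584 := (((iv F110447)).symm.trans (sb E13242 F90194))
theorem F134437 : act 7 n19380 = n15566 := (sb E13242 F90196)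
theorem F134438 : act 7 n19794 = n15590 := (sb E13243 F90313)
theorem E14980 : n25197 = n25063 := (((D25063).symm.trans (sb E13243 (iv F113513)))).symm
theorem F134439 : act 0 n19516 = n15566 := (sb E13244 (iv D19883))
theorem E14981 : n25136 = n24631 := ((((iv F110851)).symm.trans (sb E13244 (iv F113278)))).symm
theorem E14982 : n25185 = n24701 := ((((iv F111149)).symm.trans (sb E13244 D25185))).symm
theorem F134440 : act 7 n19516 = n24488 := (sb E13244 (iv F133754))
theorem E14983 : n25165 = n24739 := (((D24739).symm.trans (sb E13244 (iv F113388)))).symm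
theorem F134441 : act 0 n12141 = n15500 := (sb E13245 F87870)
theorem F134442 : act 4 n12141 = n15174 := (sb E13245 F87873)
theorem F134443 : act 0 n24638 = n20938 := (sb E13246 F133790)
theorem F134444 : act 2 n24638 = n19853 := (sb E13246 F113285)
theorem F134445 : act 5 n24638 = n19852 := (sb E13246 (iv D25138))
theorem F134446 : act 3 n15276 = n12123 := (sb E13248 F71305)
theorem F134447 : act 5 n15276 = n12122 := (sb E13248 (iv D15568))
theorem F134448 : act 4 n12134 = n15215 := (sb E13249 F88105)
theorem E14985 : n23498 = n15585 := (((D15585).symm.trans (sb E13249 (iv F105332)))).symm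
theorem E14986 : n24619 = n15575 := ((((iv F71333)).symm.trans (sb E13249 D24619))).symm
theorem E14988 : n25178 = n24602 := (((D24602).symm.trans (sb E13250 D25178))).symm
theorem E14989 : n25160 = n24603 := (((D24603).symm.trans (sb E13250 (iv F113368)))).symm
theorem F134449 : act 7 n19437 = n15558 := (sb E13251 F90160)
theorem E14990 : n24629 = n23838 := ((D24629).symm.trans (sb E13251 (iv F107068)))
theorem F134450 : act 4 n9496 = n11849 := (sb E13253 F69618)
theorem F134451 : act 7 n19457 = n24099 := (sb E13258 (iv F108296))
theorem F134452 : act 3 n18911 = n15506 := (sb E13264 F89854)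
theorem E15001 : n25070 = n23868 := ((((iv F107200)).symm.trans (sb E13264 D25070))).symm
theorem E15002 : n25072 = n23902 := ((((iv F107385)).symm.trans (sb E13264 D25072))).symm
theorem F134453 : act 2 n23560 = n19493 := (sb E13265 F111156)
theorem F134454 : act 4 n23560 = n19491 := (sb E13265 (iv D24703))
theorem F134455 : act 2 n23544 = n19522 := (sb E13266 F111334)
theorem F134456 : act 4 n23544 = n19520 := (sb E13266 F111335)
theorem E15003 : n25672 = n25075 := ((((iv F113000)).symm.trans (sb E13267 (iv F115308)))).symm
theorem F134457 : act 7 n19812 = n17161 := (sb E13267 F96839)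
theorem F134458 : act 7 n24707 = n19892 := (sb E13268 F113055)
theorem F134459 : act 2 n19527 = n24586 := (sb E13270 (iv F133808))
theorem E15007 : n19889 = n19494 := (((D19494).symm.trans (sb E13274 F113039))).symm
theorem F134460 : act 3 n24751 = n19876 := (sb E13278 F113404)
theorem F134461 : act 8 n24751 = n19873 := (sb E13278 (iv D25171))
theorem F134462 : act 3 n24752 = n19891 := (sb E13279 F113491)
theorem F134463 : act 4 n15590 = n19516 := (sb E13283 (iv D24737))
theorem F134464 : act 3 n24440 = n22058 := (sb E13288 F124233)
theorem E15046 : n11882 = n7492 := (((D7492).symm.trans (sb E13339 (iv D15260)))).symm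
theorem F134465 : act 3 n5946 = n7356 := (sb E13340 (iv D9322))
theorem F134466 : act 1 n8964 = n8358 := (sb E13403 F46244)
theorem F134467 : act 3 n8964 = n7821 := (sb E13403 (iv D9940))
theorem E15104 : n13705 = n13644 := (((D13644).symm.trans (sb E13451 (iv D17683)))).symm
theorem E15106 : n22617 = n13096 := ((((iv F59840)).symm.trans (sb E13451 D22617))).symm
theorem F134468 : act 1 n10659 = n11433 := (sb E13453 (iv F52841))
theorem F134469 : act 7 n9331 = n7457 := (sb E13471 (iv D9453))
theorem F134470 : act 3 n16954 = n21100 := (sb E13740 F119381)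
theorem F134471 : act 8 n16954 = n21109 := (sb E13740 F119382)
theorem F134472 : act 3 n16955 = n20522 := (sb E13741 F116610)
theorem F134473 : act 3 n14949 = n13148 := (sb E13748 F76553)
theorem E15306 : n21654 = n19087 := (((D19087).symm.trans (sb E13748 (iv F97083)))).symm
theorem F134474 : act 3 n14950 = n13140 := (sb E13749 F76509)
theorem E15307 : n21653 = n19062 := ((((iv F86353)).symm.trans (sb E13749 D21653))).symm
theorem E15308 : n21648 = n19088 := (((D19088).symm.trans (sb E13749 (iv F97060)))).symm
theorem F134475 : act 3 n15268 = n12113 := (sb E13750 (iv D15555))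
theorem E15309 : n19504 = n12127 := (((iv F88434)).symm.trans (sb E13750 F71254))
theorem E15310 : n19868 = n19488 := ((((iv F88358)).symm.trans (sb E13750 D19868))).symm
theorem F134476 : act 7 n15268 = n12115 := (sb E13750 F71256)
theorem E15311 : n19514 = n18847 := ((D19514).symm.trans (sb E13750 (iv F85335)))
theorem F134477 : act 3 n15288 = n13137 := (sb E13751 (iv D16922))
theorem F134478 : act 7 n15288 = n19036 := (sb E13751 (iv F86224))
theorem E15312 : n21656 = n19059 := (((D19059).symm.trans (sb E13752 (iv F97089)))).symm
theorem F134479 : act 3 n15964 = n20351 := (sb E13768 (iv F91985))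
theorem E15313 : n21706 = n20423 := (((D20423).symm.trans (sb E13768 (iv F97285)))).symm
theorem F134480 : act 3 n15965 = n20337 := (sb E13769 (iv F91934))
theorem E15314 : n21705 = n20398 := ((((iv F92135)).symm.trans (sb E13769 D21705))).symm
theorem E15315 : n21698 = n20424 := (((D20424).symm.trans (sb E13769 (iv F97261)))).symm
theorem F134481 : act 1 n16034 = n13210 := (sb E13773 F76649)
theorem F134482 : act 3 n16034 = n13167 := (sb E13773 F76650)
theorem E15321 : n21708 = n20486 := ((((iv F92415)).symm.trans (sb E13773 (iv F97290)))).symm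
theorem E15322 : n21700 = n20523 := (((D20523).symm.trans (sb E13773 (iv F97269)))).symm
theorem F134483 : act 1 n16009 = n13209 := (sb E13774 F76647)
theorem F134484 : act 3 n16009 = n13166 := (sb E13774 F76648)
theorem E15323 : n21707 = n20477 := ((((iv F92389)).symm.trans (sb E13774 D21707))).symm
theorem E15324 : n21687 = n20455 := ((((iv F92317)).symm.trans (sb E13774 (iv F97227)))).symm
theorem E15325 : n21699 = n20487 := (((D20487).symm.trans (sb E13774 (iv F97264)))).symm
theorem F134485 : act 1 n16035 = n13204 := (sb E13775 F76630)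
theorem F134486 : act 3 n16035 = n13162 := (sb E13775 F76631)
theorem F134487 : act 1 n16007 = n13227 := (sb E13776 F76711)
theorem F134488 : act 2 n16007 = n20356 := (sb E13776 (iv F92004))
theorem E15326 : n21711 = n20483 := ((((iv F92408)).symm.trans (sb E13776 (iv F97296)))).symm
theorem E15327 : n21735 = n18698 := ((((iv F84588)).symm.trans (sb E13776 D21735))).symm
theorem F134489 : act 1 n16006 = n13212 := (sb E13777 F76655)
theorem F134490 : act 2 n16006 = n20341 := (sb E13777 (iv F91945))
theorem E15328 : n21441 = n20482 := (((D20482).symm.trans (sb E13777 (iv F96133)))).symm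
theorem E15329 : n21690 = n20452 := ((((iv F92307)).symm.trans (sb E13777 (iv F97235)))).symm
theorem F134491 : act 8 n16006 = n13166 := (sb E13777 (iv D16965))
theorem E15330 : n21712 = n18697 := ((((iv F84581)).symm.trans (sb E13777 D21712))).symm
theorem F134492 : act 1 n14672 = n13228 := (sb E13778 F76714)
theorem F134493 : act 3 n16366 = n20324 := (sb E13793 (iv F91889))
theorem E15331 : n20951 = n18625 := (((iv F94145)).symm.trans (sb E13793 (iv F84196)))
theorem E15332 : n21686 = n20936 := ((((iv F94094)).symm.trans (sb E13793 D21686))).symm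
theorem F134494 : act 7 n16366 = n18612 := (sb E13793 (iv F84132))
theorem E15333 : n20961 = n20198 := ((D20961).symm.trans (sb E13793 (iv F91402)))
theorem F134495 : act 3 n16386 = n20332 := (sb E13794 (iv F91915))
theorem F134496 : act 7 n16386 = n20446 := (sb E13794 (iv F92280))
theorem F134497 : act 4 n14620 = n12764 := (sb E13795 F74444)
theorem E15334 : n21020 = n18626 := (((D18626).symm.trans (sb E13795 (iv F94377)))).symm
theorem F134498 : act 1 n16417 = n13190 := (sb E13796 F76607)
theorem F134499 : act 3 n16417 = n13156 := (sb E13796 F76608)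
theorem E15336 : n21688 = n21029 := ((((iv F94410)).symm.trans (sb E13796 D21688))).symm
theorem E15337 : n21030 = n20199 := ((D21030).symm.trans (sb E13796 (iv F91407)))
theorem F134500 : act 5 n15800 = n12784 := (sb E13797 F74480)
theorem F134501 : act 9 n15800 = n12764 := (sb E13797 (iv D16442))
theorem E15338 : n22641 = n13303 := (((D13303).symm.trans (sb E13821 (iv F101063)))).symm
theorem E15346 : n21762 = n13238 := (((D13238).symm.trans (sb E13810 (iv F97496)))).symm
theorem F134502 : act 2 n16993 = n13720 := (sb E13811 F79609)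
theorem E15349 : n21877 = n21752 := (((D21752).symm.trans (sb E13811 (iv F97972)))).symm
theorem E15350 : n22643 = n21753 := (((D21753).symm.trans (sb E13811 (iv F101070)))).symm
theorem E15354 : n21808 = n13256 := (((F76769).symm.trans (sb E13813 F122767))).symm
theorem E15355 : n21758 = n21755 := (((D21755).symm.trans (sb E13813 (iv D27539)))).symm
theorem E15356 : n21805 = n13252 := (((F76771).symm.trans (sb E13813 F122770))).symm
theorem F134503 : act 1 n17012 = n21100 := (sb E13816 (iv F94663))
theorem E15357 : n22725 = n21782 := (((D21782).symm.trans (sb E13816 D22725))).symm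
theorem E15358 : n21962 = n21783 := (((D21783).symm.trans (sb E13816 (iv F98258)))).symm
theorem F134504 : act 1 n17013 = n20522 := (sb E13817 (iv F92531))
theorem E15369 : n21971 = n21786 := (((D21786).symm.trans (sb E13826 F123756))).symm
theorem F134505 : act 1 n17015 = n21109 := (sb E13827 (iv F94696))
theorem E15370 : n22735 = n21787 := (((D21787).symm.trans (sb E13827 D22735))).symm
theorem F134506 : act 3 n10318 = n13212 := (sb E13829 F76913)
theorem E15372 : n21807 = n13262 := (((D13262).symm.trans (sb E13829 (iv F97682)))).symm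
theorem F134507 : act 8 n10318 = n13209 := (sb E13829 (iv D17028))
theorem F134508 : act 3 n10319 = n13227 := (sb E13830 F77014)
theorem E15373 : n21839 = n13257 := ((((iv F60540)).symm.trans (sb E13830 D21839))).symm
theorem F134509 : act 3 n10314 = n13228 := (sb E13831 F77017)
theorem F134510 : act 2 n17012 = n13276 := (sb E13832 F77262)
theorem E15374 : n21934 = n21782 := (((D21782).symm.trans (sb E13832 (iv F98156)))).symm
theorem E15375 : n21936 = n21783 := (((D21783).symm.trans (sb E13832 (iv F98163)))).symm
theorem F134511 : act 8 n17012 = n13272 := (sb E13832 (iv D17122))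
theorem F134512 : act 2 n17013 = n13296 := (sb E13833 F77358)
theorem E15376 : n21768 = n21765 := (((iv F97522)).symm.trans (sb E13837 F122789))
theorem E15377 : n21801 = n21771 := (((D21771).symm.trans (sb E13837 F122793))).symm
theorem E15378 : n21802 = n21786 := (((D21786).symm.trans (sb E13838 (iv D27596)))).symm
theorem F134513 : act 2 n17015 = n13209 := (sb E13839 F76900)
theorem F134514 : act 3 n17015 = n13272 := (sb E13839 F76901)
theorem F134515 : act 5 n17015 = n13208 := (sb E13839 (iv D17024))
theorem E15379 : n21790 = n21787 := (((D21787).symm.trans (sb E13839 (iv F97622)))).symm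
theorem E15380 : n21777 = n21760 := ((D21777).symm.trans (sb E13840 (iv D27541)))
theorem E15381 : n22695 = n21598 := (((D21598).symm.trans (sb E13842 (iv F101274)))).symm
theorem E15382 : n22696 = n13098 := (((F76262).symm.trans (sb E13842 D22696))).symm
theorem E15383 : n22649 = n21759 := (((D21759).symm.trans (sb E13843 (iv F101096)))).symm
theorem F134516 : act 1 n16825 = n21080 := (sb E13844 (iv F94595))
theorem F134517 : act 1 n17025 = n20531 := (sb E13845 (iv F92568))
theorem F134518 : act 6 n17025 = n13296 := (sb E13845 F77369)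
theorem E15385 : n21972 = n21791 := ((((iv F97628)).symm.trans (sb E13845 D21972))).symm
theorem F134519 : act 1 n17017 = n21110 := (sb E13846 (iv F94698))
theorem F134520 : act 1 n16873 = n18592 := (sb E13856 (iv F84009))
theorem E15386 : n21598 = n18552 := ((D21598).symm.trans (sb E13856 (iv F83782)))
theorem F134521 : act 1 n16997 = n18621 := (sb E13857 (iv F84179))
theorem E15388 : n22515 = n21759 := (((D21759).symm.trans (sb E13857 (iv F100534)))).symm
theorem F134522 : act 8 n16997 = n13648 := (sb E13857 (iv D17607))
theorem E15389 : n22516 = n21538 := ((((iv F96570)).symm.trans (sb E13857 D22516))).symm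
theorem E15390 : n21599 = n18567 := ((D21599).symm.trans (sb E13859 (iv F83877)))
theorem E15393 : n21860 = n21761 := (((D21761).symm.trans (sb E13861 (iv F97910)))).symm
theorem F134523 : act 8 n17025 = n13217 := (sb E13867 (iv D17040))
theorem E15404 : n21891 = n21490 := ((((iv F96350)).symm.trans (sb E13869 (iv F98016)))).symm
theorem E15405 : n21893 = n21804 := (((D21804).symm.trans (sb E13869 (iv F98023)))).symm
theorem E15408 : n21917 = n21793 := ((((iv F97635)).symm.trans (sb E13870 D21917))).symm
theorem E15414 : n21909 = n13278 := ((((iv F60602)).symm.trans (sb E13881 (iv F98078)))).symm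
theorem F134524 : act 6 n10343 = n13273 := (sb E13881 F77196)
theorem E15415 : n21840 = n13275 := ((((iv F60596)).symm.trans (sb E13882 D21840))).symm
theorem F134525 : act 6 n10327 = n13227 := (sb E13882 F77023)
theorem E15416 : n21841 = n13267 := ((((iv F60574)).symm.trans (sb E13882 D21841))).symm
theorem E15417 : n21911 = n21494 := ((((iv F96363)).symm.trans (sb E13883 (iv F98083)))).symm
theorem E15418 : n21913 = n21809 := ((((iv F97688)).symm.trans (sb E13883 D21913))).symm
theorem E15419 : n21900 = n21810 := (((D21810).symm.trans (sb E13883 (iv F98051)))).symm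
theorem E15425 : n22651 = n21876 := (((D21876).symm.trans (sb E13889 (iv F101102)))).symm
theorem E15426 : n22700 = n21864 := ((((iv F97926)).symm.trans (sb E13889 D22700))).symm
theorem F134526 : act 1 n17078 = n21042 := (sb E13890 (iv F94455))
theorem E15427 : n21855 = n13722 := (((iv F97893)).symm.trans (sb E13890 F79633))
theorem E15428 : n22652 = n21865 := ((((iv F97931)).symm.trans (sb E13890 D22652))).symm
theorem F134527 : act 1 n17070 = n21082 := (sb E13891 (iv F94602))
theorem F134528 : act 1 n16455 = n13240 := (sb E13892 (iv D17069))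
theorem F134529 : act 2 n16455 = n20456 := (sb E13892 (iv F92318))
theorem F134530 : act 2 n10671 = n13237 := (sb E13898 F77071)
theorem F134531 : act 5 n17001 = n13237 := (sb E13899 (iv D17065))
theorem E15435 : n21857 = n21764 := ((((iv F97504)).symm.trans (sb E13899 D21857))).symm
theorem F134532 : act 8 n17066 = n13654 := (sb E13900 (iv D17616))
theorem E15436 : n22529 = n21769 := ((((iv F97530)).symm.trans (sb E13900 D22529))).symm
theorem F134533 : act 2 n17003 = n13723 := (sb E13901 F79251)
theorem E15438 : n21889 = n21492 := ((((iv F96356)).symm.trans (sb E13903 (iv F98010)))).symm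
theorem F134534 : act 1 n16478 = n13272 := (sb E13909 F77251)
theorem F134535 : act 2 n16478 = n20499 := (sb E13909 (iv F92457))
theorem E15441 : n21930 = n21111 := (((D21111).symm.trans (sb E13909 D21930))).symm
theorem E15442 : n21931 = n20533 := ((((iv F92579)).symm.trans (sb E13909 D21931))).symm
theorem E15443 : n21919 = n21112 := (((D21112).symm.trans (sb E13909 (iv F98108)))).symm
theorem F134536 : act 1 n16044 = n13273 := (sb E13910 F77252)
theorem E15444 : n21920 = n20534 := (((D20534).symm.trans (sb E13910 (iv F98112)))).symm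
theorem F134537 : act 1 n16479 = n13265 := (sb E13911 F77217)
theorem F134538 : act 2 n16479 = n20489 := (sb E13911 (iv F92424))
theorem E15448 : n21973 = n21933 := (((D21933).symm.trans (sb E13914 (iv F98306)))).symm
theorem E15450 : n21943 = n21935 := (((D21935).symm.trans (sb E13915 (iv F98184)))).symm
theorem F134539 : act 4 n17110 = n13301 := (sb E13917 F77379)
theorem F134540 : act 6 n17110 = n13299 := (sb E13917 F77380)
theorem E15453 : n21887 = n21882 := (((D21882).symm.trans (sb E13925 F122705))).symm
theorem F134541 : act 2 n17127 = n21774 := (sb E13927 F122869)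
theorem F134542 : act 2 n17151 = n21775 := (sb E13928 F122874)
theorem E15455 : n22025 = n20535 := (((D20535).symm.trans (sb E13930 (iv F98532)))).symm
theorem E15457 : n22019 = n20536 := (((D20536).symm.trans (sb E13930 (iv F98506)))).symm
theorem F134543 : act 2 n10375 = n13300 := (sb E13935 F77058)
theorem E15464 : n21850 = n13340 := ((((iv F60860)).symm.trans (sb E13935 D21850))).symm
theorem E15465 : n21525 = n13341 := (((D13341).symm.trans (sb E13935 (iv F96515)))).symm
theorem E15466 : n21851 = n13331 := ((((iv F60824)).symm.trans (sb E13935 D21851))).symm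
theorem F134544 : act 2 n10367 = n13301 := (sb E13936 F77062)
theorem F134545 : act 6 n10367 = n13235 := (sb E13936 F77063)
theorem E15467 : n21975 = n21583 := ((D21975).symm.trans (sb E13937 (iv F96744)))
theorem E15468 : n22027 = n21595 := ((((iv F96796)).symm.trans (sb E13937 D22027))).symm
theorem F134546 : act 7 n17154 = n13338 := (sb E13937 (iv D17200))
theorem E15469 : n21976 = n21581 := ((D21976).symm.trans (sb E13937 F96738))
theorem E15471 : n22020 = n21596 := (((D21596).symm.trans (sb E13938 (iv F98511)))).symm
theorem F134547 : act 7 n17155 = n13328 := (sb E13939 (iv D17191))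
theorem E15472 : n21977 = n21579 := ((D21977).symm.trans (sb E13939 (iv F96726)))
theorem E15474 : n22023 = n19552 := (((D19552).symm.trans (sb E13941 D22023))).symm
theorem F134548 : act 1 n16480 = n13338 := (sb E13942 F77574)
theorem F134549 : act 2 n16480 = n20570 := (sb E13942 (iv F92711))
theorem E15475 : n21113 = n20237 := ((D21113).symm.trans (sb E13942 (iv F91546)))
theorem E15476 : n21114 = n20234 := ((D21114).symm.trans (sb E13942 F91536))
theorem F134550 : act 1 n16481 = n13328 := (sb E13943 F77534)
theorem F134551 : act 2 n16481 = n20558 := (sb E13943 (iv F92664))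
theorem F134552 : act 8 n16481 = n20232 := (sb E13943 F91527)
theorem E15499 : n21426 = n19111 := (((D19111).symm.trans (sb E13961 (iv F96070)))).symm
theorem E15500 : n21434 = n19112 := (((D19112).symm.trans (sb E13961 (iv F96111)))).symm
theorem F134553 : act 8 n14968 = n13011 := (sb E13961 (iv D16755))
theorem F134554 : act 1 n16058 = n13050 := (sb E13973 F75805)
theorem F134555 : act 2 n16058 = n20128 := (sb E13973 (iv F91148))
theorem E15516 : n21454 = n20541 := ((((iv F92603)).symm.trans (sb E13973 (iv F96183)))).symm
theorem E15517 : n21456 = n20552 := (((D20552).symm.trans (sb E13973 (iv F96191)))).symm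
theorem F134556 : act 8 n16058 = n13021 := (sb E13973 (iv D16769))
theorem E15518 : n21457 = n18716 := ((((iv F84678)).symm.trans (sb E13973 D21457))).symm
theorem F134557 : act 1 n16059 = n13055 := (sb E13974 F75834)
theorem F134558 : act 2 n16059 = n20135 := (sb E13974 (iv F91179))
theorem E15519 : n21466 = n20554 := (((D20554).symm.trans (sb E13974 (iv F96231)))).symm
theorem F134559 : act 8 n16059 = n13026 := (sb E13974 (iv D16776))
theorem E15520 : n21467 = n18717 := ((((iv F84684)).symm.trans (sb E13974 D21467))).symm
theorem F134560 : act 1 n14686 = n13056 := (sb E13975 F75837)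
theorem F134561 : act 1 n14687 = n13235 := (sb E13976 F76752)
theorem E15530 : n21513 = n13308 := ((((iv F60723)).symm.trans (sb E13986 (iv F96460)))).symm
theorem E15531 : n21520 = n13310 := (((D13310).symm.trans (sb E13986 (iv F96492)))).symm
theorem F134562 : act 8 n10352 = n13051 := (sb E13986 (iv D16813))
theorem F134563 : act 3 n10362 = n13055 := (sb E13987 F76022)
theorem E15533 : n21523 = n13324 := (((D13324).symm.trans (sb E13987 (iv F96505)))).symm
theorem F134564 : act 8 n10362 = n13052 := (sb E13987 (iv D16815))
theorem E15534 : n21524 = n13316 := ((((iv F60762)).symm.trans (sb E13987 D21524))).symm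
theorem F134565 : act 3 n10356 = n13056 := (sb E13988 F76027)
theorem F134566 : act 3 n10357 = n13235 := (sb E13989 F77054)
theorem E15535 : n21988 = n21511 := ((((iv F96451)).symm.trans (sb E13990 (iv F98366)))).symm
theorem E15536 : n21991 = n21515 := ((((iv F96469)).symm.trans (sb E13990 D21991))).symm
theorem E15538 : n22013 = n21517 := ((((iv F96477)).symm.trans (sb E13991 D22013))).symm
theorem F134567 : act 3 n15100 = n13369 := (sb E14012 F77748)
theorem E15553 : n22063 = n19292 := (((D19292).symm.trans (sb E14012 (iv F98711)))).symm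
theorem F134568 : act 3 n15101 = n13364 := (sb E14013 F77722)
theorem F134569 : act 0 n15720 = n13404 := (sb E14014 F77751)
theorem F134570 : act 5 n15720 = n13369 := (sb E14014 F77754)
theorem E15554 : n22073 = n20087 := ((((iv F90976)).symm.trans (sb E14014 D22073))).symm
theorem E15555 : n22064 = n20088 := (((D20088).symm.trans (sb E14014 (iv F98716)))).symm
theorem F134571 : act 0 n15721 = n13398 := (sb E14016 F77725)
theorem F134572 : act 5 n15721 = n13364 := (sb E14016 (iv D17230))
theorem E15556 : n22065 = n20011 := ((((iv F90701)).symm.trans (sb E14016 D22065))).symm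
theorem F134573 : act 0 n16127 = n20064 := (sb E14026 F106390)
theorem F134574 : act 2 n16127 = n18751 := (sb E14026 F106391)
theorem F134575 : act 8 n16127 = n18747 := (sb E14026 (iv D23705))
theorem F134576 : act 0 n16129 = n20085 := (sb E14028 F106487)
theorem F134577 : act 8 n16129 = n18765 := (sb E14028 (iv D23726))
theorem F134578 : act 0 n16123 = n20086 := (sb E14029 F106492)
theorem F134579 : act 3 n16181 = n20641 := (sb E14032 (iv F92991))
theorem E15561 : n22130 = n20720 := (((D20720).symm.trans (sb E14032 (iv F98990)))).symm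
theorem F134580 : act 3 n16182 = n20633 := (sb E14033 (iv F92961))
theorem F134581 : act 1 n14727 = n13453 := (sb E14035 F77949)
theorem F134582 : act 3 n14727 = n13404 := (sb E14035 F77950)
theorem E15565 : n22145 = n18770 := ((((iv F84928)).symm.trans (sb E14035 D22145))).symm
theorem E15567 : n22132 = n18771 := (((D18771).symm.trans (sb E14035 (iv F98999)))).symm
theorem F134583 : act 1 n14728 = n13444 := (sb E14037 F77917)
theorem F134584 : act 3 n14728 = n13398 := (sb E14037 F77918)
theorem E15569 : n22133 = n18709 := ((((iv F84641)).symm.trans (sb E14037 D22133))).symm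
theorem F134585 : act 1 n16239 = n13445 := (sb E14038 F77921)
theorem F134586 : act 3 n16239 = n13399 := (sb E14038 F77922)
theorem E15570 : n22148 = n18767 := ((D22148).symm.trans (sb E14039 (iv D23728)))
theorem F134587 : act 1 n14724 = n13456 := (sb E14040 F77959)
theorem F134588 : act 8 n14724 = n13404 := (sb E14040 (iv D17290))
theorem E15571 : n22149 = n18705 := ((((iv F84621)).symm.trans (sb E14040 D22149))).symm
theorem F134589 : act 1 n14677 = n13457 := (sb E14042 F77963)
theorem E15572 : n22136 = n18706 := (((D18706).symm.trans (sb E14042 (iv F99013)))).symm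
theorem F134590 : act 2 n15685 = n19220 := (sb E14052 F109482)
theorem F134591 : act 4 n15685 = n19218 := (sb E14052 (iv D24343))
theorem F134592 : act 1 n14678 = n13480 := (sb E14058 F78036)
theorem F134593 : act 1 n17348 = n20806 := (sb E14059 (iv F93561))
theorem F134594 : act 6 n17348 = n13548 := (sb E14059 F78709)
theorem F134595 : act 2 n17343 = n13453 := (sb E14061 F78219)
theorem F134596 : act 3 n17343 = n13518 := (sb E14061 F78220)
theorem F134597 : act 5 n17343 = n13451 := (sb E14061 F78221)
theorem E15580 : n22221 = n22217 := (((D22217).symm.trans (sb E14061 (iv F99343)))).symm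
theorem F134598 : act 2 n17344 = n13444 := (sb E14062 F78167)
theorem F134599 : act 3 n17344 = n13506 := (sb E14062 F78168)
theorem F134600 : act 5 n17344 = n13443 := (sb E14062 (iv D17347))
theorem E15581 : n22204 = n21607 := (((iv F99272)).symm.trans (sb E14062 F96857))
theorem F134601 : act 4 n14590 = n13453 := (sb E14064 F78229)
theorem E15582 : n22238 = n18586 := ((((iv F83974)).symm.trans (sb E14064 D22238))).symm
theorem E15584 : n22222 = n18587 := (((D18587).symm.trans (sb E14064 (iv F99348)))).symm
theorem F134602 : act 4 n14591 = n13444 := (sb E14066 (iv D17349))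
theorem E15587 : n21605 = n18570 := ((((iv F83896)).symm.trans (sb E14066 F96859))).symm
theorem F134603 : act 2 n17363 = n22216 := (sb E14067 (iv F99319))
theorem E15588 : n22310 = n22223 := ((((iv F99352)).symm.trans (sb E14067 D22310))).symm
theorem F134604 : act 3 n10491 = n13456 := (sb E14068 F78239)
theorem F134605 : act 8 n10491 = n13453 := (sb E14068 (iv D17364))
theorem E15589 : n22243 = n13493 := ((((iv F61476)).symm.trans (sb E14068 D22243))).symm
theorem F134606 : act 3 n10485 = n13457 := (sb E14070 F78243)
theorem E15591 : n22225 = n13494 := (((D13494).symm.trans (sb E14070 (iv F99359)))).symm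
theorem E15593 : n22295 = n22245 := (((D22245).symm.trans (sb E14074 (iv F99666)))).symm
theorem F134607 : act 3 n10486 = n13480 := (sb E14085 F78366)
theorem E15602 : n21602 = n18564 := ((((iv F83861)).symm.trans (sb E14093 (iv D27346)))).symm
theorem F134608 : act 3 n17334 = n21617 := (sb E14095 F121946)
theorem F134609 : act 6 n10496 = n13480 := (sb E14096 F78374)
theorem F134610 : act 3 n14568 = n12144 := (sb E14098 F71423)
theorem E15605 : n19908 = n19823 := (((D19823).symm.trans (sb E14105 (iv D25215)))).symm
theorem F134611 : act 3 n15173 = n12346 := (sb E14106 F71410)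
theorem F134612 : act 6 n15173 = n12141 := (sb E14106 (iv D15594))
theorem F134613 : act 3 n14992 = n13012 := (sb E14111 F75746)
theorem E15609 : n21431 = n19115 := ((((iv F86606)).symm.trans (sb E14111 (iv F96096)))).symm
theorem F134614 : act 3 n14971 = n13011 := (sb E14112 F75741)
theorem E15610 : n21430 = n19106 := ((((iv F86555)).symm.trans (sb E14112 D21430))).symm
theorem F134615 : act 1 n16670 = n13506 := (sb E14134 F78512)
theorem F134616 : act 2 n16670 = n20750 := (sb E14134 (iv F93357))
theorem F134617 : act 4 n16670 = n20268 := (sb E14134 (iv F91665))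
theorem E15614 : n22313 = n20808 := ((((iv F93571)).symm.trans (sb E14134 D22313))).symm
theorem E15615 : n21340 = n20266 := ((D21340).symm.trans (sb E14134 F91659))
theorem F134618 : act 1 n16250 = n13507 := (sb E14135 F78515)
theorem E15618 : n22337 = n22314 := (((D22314).symm.trans (sb E14138 (iv F99834)))).symm
theorem E15622 : n28104 = n17433 := (((D17433).symm.trans (sb E14141 (iv F125120)))).symm
theorem F134619 : act 8 n16898 = n18580 := (sb E14144 (iv D23481))
theorem F134620 : act 8 n17443 = n22211 := (sb E14145 (iv D28067))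
theorem F134621 : act 3 n17445 = n22216 := (sb E14146 F124954)
theorem F134622 : act 8 n17445 = n22213 := (sb E14146 (iv D28069))
theorem F134623 : act 1 n16249 = n13518 := (sb E14147 F78556)
theorem E15627 : n22325 = n20778 := ((((iv F93462)).symm.trans (sb E14147 D22325))).symm
theorem F134624 : act 1 n17443 = n20807 := (sb E14150 (iv F93566))
theorem F134625 : act 5 n17443 = n13551 := (sb E14150 F78712)
theorem E15628 : n22336 = n22328 := (((D22328).symm.trans (sb E14150 (iv F99830)))).symm
theorem F134626 : act 5 n17445 = n13525 := (sb E14151 (iv D17453))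
theorem F134627 : act 5 n17451 = n22216 := (sb E14154 (iv D28071))
theorem F134628 : act 2 n16221 = n20035 := (sb E14156 F114169)
theorem F134629 : act 2 n17449 = n22211 := (sb E14157 F124925)
theorem F134630 : act 2 n17451 = n22213 := (sb E14159 F124930)
theorem F134631 : act 2 n17452 = n22200 := (sb E14160 F124880)
theorem F134632 : act 5 n13522 = n17366 := (sb E14162 (iv D22244))
theorem F134633 : act 3 n13501 = n17366 := (sb E14163 F99428)
theorem F134634 : act 8 n13501 = n17363 := (sb E14163 (iv D22242))
theorem E15632 : n28102 = n17415 := ((((iv F78461)).symm.trans (sb E14163 D28102))).symm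
theorem F134635 : act 2 n10550 = n13551 := (sb E14191 F78421)
theorem F134636 : act 2 n10542 = n13552 := (sb E14192 F78427)
theorem F134637 : act 3 n16920 = n13551 := (sb E14195 (iv D17484))
theorem F134638 : act 4 n16919 = n13552 := (sb E14196 F78724)
theorem F134639 : act 9 n16919 = n13551 := (sb E14196 (iv D17485))
theorem F134640 : act 8 n16918 = n13552 := (sb E14197 (iv D17486))
theorem F134641 : act 1 n16062 = n13052 := (sb E14220 F75822)
theorem F134642 : act 3 n16062 = n13026 := (sb E14220 F75823)
theorem E15654 : n21461 = n20545 := ((((iv F92617)).symm.trans (sb E14220 (iv F96210)))).symm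
theorem E15655 : n21463 = n20556 := ((((iv F92656)).symm.trans (sb E14220 D21463))).symm
theorem F134643 : act 1 n16053 = n13051 := (sb E14221 F75818)
theorem E15656 : n21452 = n20543 := ((((iv F92609)).symm.trans (sb E14221 (iv F96174)))).symm
theorem E15657 : n21994 = n21512 := ((((iv F96455)).symm.trans (sb E14222 (iv F98390)))).symm
theorem E15659 : n21990 = n21509 := ((((iv F96440)).symm.trans (sb E14224 (iv F98373)))).symm
theorem F134644 : act 4 n9490 = n11887 := (sb E14253 F69845)
theorem E15665 : n19481 = n12135 := (((D12135).symm.trans (sb E14253 (iv F88325)))).symm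
theorem F134645 : act 3 n15251 = n12119 := (sb E14257 F71285)
theorem E15668 : n19880 = n19487 := (((D19487).symm.trans (sb E14257 D19880))).symm
theorem F134646 : act 5 n15250 = n12119 := (sb E14258 (iv D15564))
theorem E15669 : n19881 = n19486 := (((D19486).symm.trans (sb E14258 D19881))).symm
theorem F134647 : act 1 n14627 = n18589 := (sb E14266 (iv F83990))
theorem F134648 : act 4 n14627 = n12711 := (sb E14266 F74185)
theorem F134649 : act 3 n16349 = n20867 := (sb E14267 (iv F93821))
theorem E15670 : n22423 = n20935 := (((D20935).symm.trans (sb E14267 D22423))).symm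
theorem F134650 : act 4 n14628 = n12747 := (sb E14268 F74359)
theorem E15671 : n21019 = n18637 := (((D18637).symm.trans (sb E14268 D21019))).symm
theorem F134651 : act 1 n16416 = n13653 := (sb E14270 F78967)
theorem F134652 : act 3 n16416 = n13605 := (sb E14270 F78968)
theorem F134653 : act 6 n16416 = n18619 := (sb E14270 (iv F84171))
theorem F134654 : act 1 n16415 = n13654 := (sb E14271 F78970)
theorem F134655 : act 2 n16415 = n20870 := (sb E14271 (iv F93831))
theorem F134656 : act 5 n16415 = n13605 := (sb E14271 F78972)
theorem F134657 : act 2 n14565 = n13718 := (sb E14277 F79600)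
theorem E15676 : n22640 = n18555 := (((D18555).symm.trans (sb E14277 D22640))).symm
theorem E15679 : n22645 = n18551 := (((D18551).symm.trans (sb E14302 (iv F101078)))).symm
theorem E15680 : n22695 = n18552 := (E15381).trans E15386
theorem F134658 : act 2 n14562 = n13643 := (sb E14292 F79168)
theorem F134659 : act 6 n14562 = n13642 := (sb E14292 (iv D17597))
theorem E15683 : n22502 = n18551 := (((D18551).symm.trans (sb E14292 D22502))).symm
theorem F134660 : act 6 n17606 = n13719 := (sb E14293 (iv D17705))
theorem F134661 : act 3 n10665 = n13654 := (sb E14295 F79235)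
theorem F134662 : act 5 n10665 = n13653 := (sb E14295 F79236)
theorem F134663 : act 2 n17605 = n13719 := (sb E14296 F79605)
theorem F134664 : act 5 n17605 = n13717 := (sb E14296 F79606)
theorem F134665 : act 2 n17606 = n13653 := (sb E14300 F79227)
theorem F134666 : act 3 n17606 = n13717 := (sb E14300 F79228)
theorem F134667 : act 5 n10660 = n13643 := (sb E14304 (iv D17598))
theorem E15685 : n22504 = n13707 := (((D13707).symm.trans (sb E14304 D22504))).symm
theorem F134668 : act 6 n10670 = n13717 := (sb E14307 F79567)
theorem F134669 : act 6 n10669 = n13654 := (sb E14308 (iv D17615))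
theorem F134670 : act 1 n16425 = n13717 := (sb E14316 F79596)
theorem F134671 : act 4 n16423 = n18622 := (sb E14317 F105517)
theorem F134672 : act 6 n16423 = n18620 := (sb E14317 (iv D23533))
theorem F134673 : act 1 n17703 = n18622 := (sb E14318 F105011)
theorem E15687 : n22646 = n21981 := ((D22646).symm.trans (sb E14322 F105054))
theorem E15688 : n22650 = n21888 := ((D22650).symm.trans (sb E14323 F122712))
theorem F134674 : act 1 n17157 = n21038 := (sb E14324 (iv F94440))
theorem F134675 : act 4 n17157 = n13720 := (sb E14324 F79618)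
theorem E15689 : n22647 = n21980 := (((D21980).symm.trans (sb E14324 D22647))).symm
theorem F134676 : act 8 n17157 = n13718 := (sb E14324 (iv D17704))
theorem F134677 : act 1 n17086 = n21041 := (sb E14325 (iv F94451))
theorem F134678 : act 3 n17086 = n13723 := (sb E14325 F79628)
theorem F134679 : act 9 n17086 = n13720 := (sb E14325 (iv D17707))
theorem F134680 : act 2 n11926 = n14638 := (sb E14332 (iv F132516))
theorem F134681 : act 7 n11926 = n9452 := (sb E14332 (iv D12083))
theorem F134682 : act 6 n25384 = n20726 := (sb E14342 (iv D26297))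
theorem F134683 : act 7 n25249 = n20994 := (sb E14344 F118883)
theorem F134684 : act 2 n24290 = n20060 := (sb E14345 F114208)
theorem F134685 : act 5 n24290 = n20040 := (sb E14345 (iv D25383))
theorem F134686 : act 4 n25384 = n20653 := (sb E14346 F117237)
theorem F134687 : act 4 n25256 = n20344 := (sb E14347 (iv D25796))
theorem F134688 : act 6 n25297 = n20431 := (sb E14352 (iv D25923))
theorem F134689 : act 6 n15969 = n20353 := (sb E14354 (iv D25810))
theorem F134690 : act 1 n24344 = n20065 := (sb E14356 F114224)
theorem F134691 : act 4 n24344 = n20044 := (sb E14356 F114226)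
theorem F134692 : act 1 n24333 = n20431 := (sb E14357 F115838)
theorem F134693 : act 4 n24333 = n20353 := (sb E14357 F115840)
theorem F134694 : act 7 n25279 = n21000 := (sb E14359 F118905)
theorem F134695 : act 1 n24032 = n21000 := (sb E14363 F118441)
theorem F134696 : act 1 n24053 = n20432 := (sb E14364 F115842)
theorem F134697 : act 4 n24053 = n20354 := (sb E14364 F115844)
theorem F134698 : act 1 n24252 = n20064 := (sb E14365 F114327)
theorem F134699 : act 8 n24252 = n20060 := (sb E14365 (iv D25413))
theorem F134700 : act 1 n24254 = n20085 := (sb E14366 F114423)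
theorem F134701 : act 8 n24254 = n20082 := (sb E14366 (iv D25440))
theorem F134702 : act 1 n24248 = n20086 := (sb E14367 F114427)
theorem F134703 : act 1 n25427 = n20084 := (sb E14368 F114419)
theorem F134704 : act 6 n25427 = n20082 := (sb E14368 (iv D25439))
theorem F134705 : act 6 n25328 = n20439 := (sb E14371 F116221)
theorem F134706 : act 1 n23615 = n20736 := (sb E14375 F117313)
theorem F134707 : act 1 n23648 = n20707 := (sb E14376 F117218)
theorem F134708 : act 1 n23638 = n20437 := (sb E14377 F115862)
theorem F134709 : act 9 n23638 = n20356 := (sb E14377 (iv D25814))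
theorem F134710 : act 1 n24397 = n19981 := (sb E14383 F113801)
theorem F134711 : act 4 n24397 = n19953 := (sb E14383 F113802)
theorem F134712 : act 1 n24144 = n20439 := (sb E14384 F115899)
theorem F134713 : act 1 n24110 = n21010 := (sb E14388 F118516)
theorem F134714 : act 1 n23607 = n20435 := (sb E14390 F115853)
theorem F134715 : act 9 n23607 = n20354 := (sb E14390 (iv D25812))
theorem F134716 : act 1 n23637 = n20414 := (sb E14391 F115769)
theorem F134717 : act 9 n23637 = n20341 := (sb E14391 (iv D25791))
theorem F134718 : act 0 n24047 = n20354 := (sb E14394 F115613)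
theorem F134719 : act 0 n24133 = n20341 := (sb E14395 F115561)
theorem F134720 : act 8 n24133 = n20303 := (sb E14395 (iv D25735))
theorem F134721 : act 0 n24134 = n20356 := (sb E14396 F115621)
theorem F134722 : act 3 n25355 = n20444 := (sb E14399 F116234)
theorem F134723 : act 1 n23661 = n20183 := (sb E14403 F114725)
theorem F134724 : act 9 n23661 = n20135 := (sb E14403 (iv D25513))
theorem F134725 : act 0 n24203 = n20135 := (sb E14407 F114534)
theorem F134726 : act 8 n24203 = n20104 := (sb E14407 (iv D25468))
theorem F134727 : act 1 n16076 = n20444 := (sb E14411 F115915)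
theorem F134728 : act 1 n16019 = n20436 := (sb E14412 F115857)
theorem F134729 : act 6 n16019 = n20356 := (sb E14412 F115860)
theorem F134730 : act 1 n24214 = n20180 := (sb E14413 F114712)
theorem F134731 : act 3 n24214 = n20135 := (sb E14413 F114713)
theorem F134732 : act 8 n24214 = n20132 := (sb E14413 (iv D25510))
theorem F134733 : act 3 n25795 = n20422 := (sb E14414 F116136)
theorem F134734 : act 6 n25797 = n20429 := (sb E14417 (iv D25920))
theorem F134735 : act 2 n15963 = n20353 := (sb E14421 F115831)
theorem F134736 : act 5 n15963 = n20351 := (sb E14421 F115833)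
theorem F134737 : act 2 n15947 = n20354 := (sb E14422 F115835)
theorem F134738 : act 1 n25795 = n20429 := (sb E14423 F116164)
theorem F134739 : act 5 n25795 = n20427 := (sb E14423 F116166)
theorem F134740 : act 1 n25771 = n20430 := (sb E14424 F116168)
theorem F134741 : act 3 n25771 = n20527 := (sb E14424 F116169)
theorem F134742 : act 1 n25797 = n20351 := (sb E14425 F115824)
theorem F134743 : act 2 n25797 = n20427 := (sb E14425 F115825)
theorem F134744 : act 3 n25783 = n20347 := (sb E14426 F115798)
theorem F134745 : act 8 n25783 = n20344 := (sb E14426 (iv D25798))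
theorem F134746 : act 2 n25800 = n20531 := (sb E14430 F116648)
theorem F134747 : act 6 n25800 = n20529 := (sb E14430 F116650)
theorem F134748 : act 1 n23505 = n20967 := (sb E14433 F118736)
theorem F134749 : act 7 n25764 = n20967 := (sb E14436 F118755)
theorem F134750 : act 7 n25776 = n20997 := (sb E14438 F118896)
theorem F134751 : act 2 n25775 = n21109 := (sb E14440 F119413)
theorem F134752 : act 2 n25801 = n21110 := (sb E14441 F119414)
theorem F134753 : act 3 n25764 = n20877 := (sb E14442 F118271)
theorem F134754 : act 3 n25776 = n20897 := (sb E14443 F118381)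
theorem F134755 : act 7 n25845 = n20972 := (sb E14444 F118776)
theorem F134756 : act 2 n25958 = n21082 := (sb E14446 F118780)
theorem F134757 : act 1 n25930 = n20491 := (sb E14448 F116465)
theorem F134758 : act 7 n25930 = n20489 := (sb E14448 (iv D26005))
theorem F134759 : act 1 n23602 = n20972 := (sb E14449 F118326)
theorem F134760 : act 1 n23630 = n20946 := (sb E14452 F118237)
theorem F134761 : act 1 n25911 = n20529 := (sb E14459 F116639)
theorem F134762 : act 7 n25911 = n20527 := (sb E14459 F116642)
theorem F134763 : act 3 n24175 = n19866 := (sb E14462 F113347)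
theorem F134764 : act 3 n26051 = n21695 := (sb E14463 F122431)
theorem F134765 : act 8 n25944 = n20797 := (sb E14464 F116624)
theorem F134766 : act 9 n25944 = n20522 := (sb E14464 (iv D26052))
theorem F134767 : act 0 n24086 = n20427 := (sb E14465 F116157)
theorem F134768 : act 0 n24670 = n20406 := (sb E14466 F116081)
theorem F134769 : act 0 n24639 = n20383 := (sb E14467 (iv D25851))
theorem F134770 : act 6 n15971 = n20427 := (sb E14468 F116118)
theorem F134771 : act 3 n25889 = n20436 := (sb E14469 F116202)
theorem F134772 : act 6 n25889 = n20434 := (sb E14469 F116203)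
theorem F134773 : act 1 n16373 = n20375 := (sb E14472 (iv D25839))
theorem F134774 : act 7 n16373 = n20383 := (sb E14472 F115955)
theorem F134775 : act 7 n25833 = n20969 := (sb E14473 F118765)
theorem F134776 : act 1 n25942 = n20530 := (sb E14476 F116643)
theorem F134777 : act 8 n25942 = n20802 := (sb E14476 F116647)
theorem F134778 : act 9 n25942 = n20527 := (sb E14476 (iv D26057))
theorem F134779 : act 0 n24672 = n20499 := (sb E14477 F116502)
theorem F134780 : act 2 n25969 = n21042 := (sb E14481 F118639)
theorem F134781 : act 6 n25969 = n20945 := (sb E14481 F118641)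
theorem F134782 : act 8 n25969 = n20944 := (sb E14481 (iv D26565))
theorem F134783 : act 1 n16356 = n20451 := (sb E14482 F116281)
theorem F134784 : act 1 n25929 = n20502 := (sb E14484 F116511)
theorem F134785 : act 7 n25929 = n20499 := (sb E14484 (iv D26019))
theorem F134786 : act 2 n26020 = n21100 := (sb E14485 F118843)
theorem F134787 : act 8 n26060 = n21695 := (sb E14499 (iv D27452))
theorem F134788 : act 0 n24071 = n20353 := (sb E14507 F115609)
theorem F134789 : act 5 n24071 = n20312 := (sb E14507 F115611)
theorem F134790 : act 1 n24332 = n19975 := (sb E14510 F113761)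
theorem F134791 : act 4 n24332 = n19946 := (sb E14510 (iv D25259))
theorem F134792 : act 2 n25811 = n20396 := (sb E14511 F116038)
theorem F134793 : act 6 n25811 = n20408 := (sb E14511 F116040)
theorem F134794 : act 2 n25788 = n20395 := (sb E14512 F116036)
theorem F134795 : act 1 n23750 = n20969 := (sb E14513 F118316)
theorem F134796 : act 1 n25840 = n20943 := (sb E14514 F118225)
theorem F134797 : act 8 n25840 = n20868 := (sb E14514 (iv D26458))
theorem F134798 : act 5 n25769 = n20451 := (sb E14517 (iv D25949))
theorem F134799 : act 1 n25950 = n20945 := (sb E14518 F118233)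
theorem F134800 : act 8 n25950 = n20870 := (sb E14518 (iv D26460))
theorem F134801 : act 0 n24682 = n20570 := (sb E14520 F116808)
theorem F134802 : act 1 n25939 = n20573 := (sb E14522 F116819)
theorem F134803 : act 7 n25939 = n20570 := (sb E14522 (iv D26105))
theorem F134804 : act 1 n25579 = n20574 := (sb E14523 F116823)
theorem F134805 : act 1 n25940 = n20561 := (sb E14524 F116777)
theorem F134806 : act 7 n25940 = n20558 := (sb E14524 (iv D26094))
theorem F134807 : act 0 n24202 = n20128 := (sb E14535 F114498)
theorem F134808 : act 8 n24202 = n20098 := (sb E14535 (iv D25460))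
theorem F134809 : act 1 n24143 = n20440 := (sb E14537 F115902)
theorem F134810 : act 1 n24213 = n20178 := (sb E14538 F114704)
theorem F134811 : act 8 n24213 = n20131 := (sb E14538 (iv D25508))
theorem F134812 : act 1 n23660 = n20176 := (sb E14541 F114682)
theorem F134813 : act 9 n23660 = n20128 := (sb E14541 (iv D25503))
theorem F134814 : act 5 n25512 = n20574 := (sb E14542 F116747)
theorem F134815 : act 1 n24398 = n19982 := (sb E14547 F113805)
theorem F134816 : act 4 n24398 = n19954 := (sb E14547 F113806)
theorem F134817 : act 6 n26190 = n20729 := (sb E14556 F117583)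
theorem F134818 : act 3 n26190 = n20656 := (sb E14550 F117243)
theorem F134819 : act 8 n26190 = n20653 := (sb E14550 (iv D26206))
theorem F134820 : act 3 n26179 = n20657 := (sb E14554 F117246)
theorem F134821 : act 2 n23688 = n20805 := (sb E14557 F117913)
theorem F134822 : act 2 n26209 = n20806 := (sb E14558 F117915)
theorem F134823 : act 6 n26209 = n20804 := (sb E14558 F117917)
theorem F134824 : act 2 n23959 = n19390 := (sb E14559 F110538)
theorem F134825 : act 0 n24072 = n19945 := (sb E14563 F113649)
theorem F134826 : act 2 n24072 = n19928 := (sb E14563 F113650)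
theorem F134827 : act 0 n24650 = n19940 := (sb E14564 F113631)
theorem F134828 : act 2 n24650 = n19924 := (sb E14564 (iv D25226))
theorem F134829 : act 0 n24073 = n20351 := (sb E14565 F115601)
theorem F134830 : act 2 n24073 = n20312 := (sb E14565 F115602)
theorem F134831 : act 0 n24074 = n20337 := (sb E14566 F115549)
theorem F134832 : act 2 n24074 = n20302 := (sb E14566 F115550)
theorem F134833 : act 0 n24626 = n20324 := (sb E14567 F113215)
theorem F134834 : act 2 n24626 = n19840 := (sb E14567 (iv D25120))
theorem F134835 : act 4 n24626 = n20147 := (sb E14567 F113217)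
theorem F134836 : act 7 n24626 = n19843 := (sb E14567 F113219)
theorem F134837 : act 0 n24653 = n20332 := (sb E14568 F115531)
theorem F134838 : act 2 n24653 = n20298 := (sb E14568 (iv D25726))
theorem F134839 : act 2 n24263 = n19186 := (sb E14569 F109278)
theorem F134840 : act 5 n24263 = n19185 := (sb E14569 (iv D24298))
theorem F134841 : act 2 n16167 = n20026 := (sb E14574 F114114)
theorem F134842 : act 0 n24359 = n20042 := (sb E14575 F114117)
theorem F134843 : act 2 n24359 = n20027 := (sb E14575 F114118)
theorem F134844 : act 0 n24362 = n20641 := (sb E14576 F116962)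
theorem F134845 : act 2 n24362 = n20601 := (sb E14576 F116963)
theorem F134846 : act 0 n24363 = n20633 := (sb E14578 F116931)
theorem F134847 : act 2 n24363 = n20595 := (sb E14578 F116932)
theorem F134848 : act 4 n23667 = n20696 := (sb E14579 (iv D26258))
theorem F134849 : act 2 n25365 = n20701 := (sb E14580 F117458)
theorem F134850 : act 4 n25365 = n20699 := (sb E14580 F117459)
theorem F134851 : act 2 n25366 = n20702 := (sb E14581 F117460)
theorem F134852 : act 4 n25366 = n20700 := (sb E14581 F117461)
theorem F134853 : act 2 n25232 = n20689 := (sb E14582 F117408)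
theorem F134854 : act 4 n25232 = n20687 := (sb E14582 (iv D26246))
theorem F134855 : act 0 n25415 = n20642 := (sb E14583 F116966)
theorem F134856 : act 0 n25417 = n20643 := (sb E14584 F116969)
theorem F134857 : act 5 n25417 = n20601 := (sb E14584 F116971)
theorem F134858 : act 0 n25418 = n20634 := (sb E14585 F116935)
theorem F134859 : act 5 n25418 = n20595 := (sb E14585 (iv D26133))
theorem F134860 : act 2 n24346 = n20044 := (sb E14586 F114218)
theorem F134861 : act 5 n24346 = n20042 := (sb E14586 F114220)
theorem F134862 : act 2 n24347 = n20045 := (sb E14587 F114221)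
theorem F134863 : act 2 n24334 = n19946 := (sb E14588 F113753)
theorem F134864 : act 5 n24334 = n19945 := (sb E14588 (iv D25257))
theorem F134865 : act 8 n25784 = n20395 := (sb E14596 (iv D25873))
theorem F134866 : act 2 n23709 = n20643 := (sb E14601 F117188)
theorem F134867 : act 5 n23709 = n20641 := (sb E14601 F117190)
theorem F134868 : act 2 n23707 = n20642 := (sb E14603 F117186)
theorem F134869 : act 2 n23710 = n20634 := (sb E14604 F117142)
theorem F134870 : act 5 n23710 = n20633 := (sb E14604 (iv D26180))
theorem F134871 : act 0 n25442 = n20645 := (sb E14605 F116976)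
theorem F134872 : act 0 n25443 = n20636 := (sb E14606 F116942)
theorem F134873 : act 5 n25443 = n20597 := (sb E14606 F116945)
theorem F134874 : act 0 n25345 = n20637 := (sb E14607 F116947)
theorem F134875 : act 3 n26259 = n20737 := (sb E14609 F117601)
theorem F134876 : act 3 n26245 = n20738 := (sb E14611 F117603)
theorem F134877 : act 6 n26245 = n20736 := (sb E14611 F117604)
theorem F134878 : act 1 n23704 = n20704 := (sb E14612 F117205)
theorem F134879 : act 8 n23704 = n20643 := (sb E14612 (iv D26197))
theorem F134880 : act 1 n26287 = n20771 := (sb E14615 F117745)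
theorem F134881 : act 7 n26287 = n20766 := (sb E14615 F117748)
theorem F134882 : act 1 n26288 = n20804 := (sb E14616 F117909)
theorem F134883 : act 7 n26288 = n20802 := (sb E14616 F117912)
theorem F134884 : act 2 n23689 = n21337 := (sb E14618 F120410)
theorem F134885 : act 4 n23676 = n20766 := (sb E14619 F117739)
theorem F134886 : act 2 n16220 = n20034 := (sb E14620 F114164)
theorem F134887 : act 2 n16259 = n19934 := (sb E14621 F113682)
theorem F134888 : act 2 n16260 = n19822 := (sb E14622 F113107)
theorem F134889 : act 2 n25377 = n20773 := (sb E14623 F117760)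
theorem F134890 : act 4 n25377 = n20770 := (sb E14623 F117761)
theorem F134891 : act 2 n25378 = n20774 := (sb E14624 F117764)
theorem F134892 : act 4 n25378 = n20771 := (sb E14624 F117765)
theorem F134893 : act 2 n25240 = n20755 := (sb E14625 F117675)
theorem F134894 : act 4 n25240 = n20753 := (sb E14625 F117676)
theorem F134895 : act 2 n25379 = n20775 := (sb E14626 F117768)
theorem F134896 : act 4 n25379 = n20772 := (sb E14626 F117769)
theorem F134897 : act 1 n25241 = n20264 := (sb E14627 F115391)
theorem F134898 : act 2 n25241 = n20756 := (sb E14627 F115392)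
theorem F134899 : act 4 n25241 = n20754 := (sb E14627 (iv F115395))
theorem F134900 : act 5 n25241 = n20263 := (sb E14627 (iv D25693))
theorem F134901 : act 1 n25095 = n20292 := (sb E14628 F115512)
theorem F134902 : act 2 n25095 = n20818 := (sb E14628 F115513)
theorem F134903 : act 5 n25095 = n20290 := (sb E14628 F115515)
theorem F134904 : act 0 n15865 = n19833 := (sb E14629 F113112)
theorem F134905 : act 5 n15865 = n19822 := (sb E14629 (iv D25094))
theorem F134906 : act 2 n16261 = n20103 := (sb E14632 F114513)
theorem F134907 : act 2 n25465 = n20566 := (sb E14633 F116789)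
theorem F134908 : act 8 n25465 = n20561 := (sb E14633 (iv D26098))
theorem F134909 : act 1 n25464 = n20230 := (sb E14634 F115203)
theorem F134910 : act 2 n25464 = n20564 := (sb E14634 F115204)
theorem F134911 : act 5 n25464 = n20229 := (sb E14634 (iv D25649))
theorem F134912 : act 8 n25464 = n20560 := (sb E14634 (iv F115208))
theorem F134913 : act 2 n24417 = n20054 := (sb E14636 F114268)
theorem F134914 : act 2 n24418 = n20055 := (sb E14637 F114273)
theorem F134915 : act 2 n24399 = n19953 := (sb E14638 F113793)
theorem F134916 : act 2 n24419 = n20056 := (sb E14639 F114278)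
theorem F134917 : act 2 n24400 = n19954 := (sb E14640 F113798)
theorem F134918 : act 2 n24465 = n19834 := (sb E14641 F113170)
theorem F134919 : act 2 n16915 = n19833 := (sb E14642 F113166)
theorem F134920 : act 2 n24219 = n20132 := (sb E14644 F114692)
theorem F134921 : act 2 n24217 = n20131 := (sb E14645 F114688)
theorem F134922 : act 1 n24414 = n20072 := (sb E14646 F114282)
theorem F134923 : act 4 n24414 = n20054 := (sb E14646 F114283)
theorem F134924 : act 6 n15548 = n18911 := (sb E14647 (iv D23928))
theorem F134925 : act 0 n25110 = n20229 := (sb E14649 F115199)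
theorem F134926 : act 2 n25110 = n21576 := (sb E14649 F115200)
theorem F134927 : act 6 n25110 = n20228 := (sb E14649 (iv D25648))
theorem F134928 : act 3 n15864 = n19794 := (sb E14650 F112932)
theorem F134929 : act 6 n15864 = n19833 := (sb E14650 F112933)
theorem F134930 : act 0 n25111 = n20290 := (sb E14651 F115508)
theorem F134931 : act 2 n25111 = n21646 := (sb E14651 F115509)
theorem F134932 : act 6 n25111 = n20297 := (sb E14651 F115510)
theorem F134933 : act 0 n25112 = n20263 := (sb E14652 F115388)
theorem F134934 : act 2 n25112 = n21623 := (sb E14652 F115389)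
theorem F134935 : act 6 n25112 = n20262 := (sb E14652 (iv D25692))
theorem F134936 : act 1 n23703 = n20702 := (sb E14653 F117198)
theorem F134937 : act 8 n23703 = n20642 := (sb E14653 (iv D26195))
theorem F134938 : act 1 n23614 = n20705 := (sb E14654 F117209)
theorem F134939 : act 1 n23725 = n20706 := (sb E14655 F117213)
theorem F134940 : act 8 n23725 = n20645 := (sb E14655 (iv D26199))
theorem F134941 : act 1 n23649 = n20694 := (sb E14656 F117169)
theorem F134942 : act 9 n23649 = n20637 := (sb E14656 (iv D26187))
theorem F134943 : act 1 n26273 = n20770 := (sb E14659 F117742)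
theorem F134944 : act 1 n26311 = n20753 := (sb E14660 F117667)
theorem F134945 : act 7 n26311 = n20750 := (sb E14660 (iv D26326))
theorem F134946 : act 2 n26347 = n21328 := (sb E14661 F120146)
theorem F134947 : act 3 n24441 = n22053 := (sb E14671 F124215)
theorem F134948 : act 1 n26380 = n22211 := (sb E14672 F124549)
theorem F134949 : act 1 n23730 = n22213 := (sb E14673 F124552)
theorem F134950 : act 3 n23730 = n22124 := (sb E14673 F124553)
theorem F134951 : act 1 n26381 = n22200 := (sb E14674 F124526)
theorem F134952 : act 3 n26381 = n22115 := (sb E14674 F124527)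
theorem F134953 : act 4 n24308 = n20729 := (sb E14675 F117573)
theorem F134954 : act 8 n24308 = n20726 := (sb E14675 (iv D26298))
theorem F134955 : act 4 n24005 = n20730 := (sb E14676 F117579)
theorem F134956 : act 4 n23478 = n20805 := (sb E14681 (iv D26389))
theorem F134957 : act 1 n26357 = n22216 := (sb E14682 F124564)
theorem F134958 : act 8 n26357 = n22124 := (sb E14682 (iv D27970))
theorem F134959 : act 1 n26390 = n22217 := (sb E14683 F124567)
theorem F134960 : act 4 n24080 = n20736 := (sb E14684 F117597)
theorem F134961 : act 4 n24059 = n20435 := (sb E14685 F116199)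
theorem F134962 : act 9 n24059 = n20432 := (sb E14685 (iv D25926))
theorem F134963 : act 4 n15506 = n19519 := (sb E14690 F111330)
theorem F134964 : act 6 n15546 = n19519 := (sb E14691 (iv D24743))
theorem F134965 : act 1 n23511 = n20867 := (sb E14695 F118206)
theorem F134966 : act 2 n23511 = n20938 := (sb E14695 F118207)
theorem F134967 : act 6 n23511 = n20866 := (sb E14695 (iv D26453))
theorem F134968 : act 3 n14827 = n18589 := (sb E14700 F105272)
theorem F134969 : act 3 n23492 = n18892 := (sb E14703 F105539)
theorem F134970 : act 7 n23492 = n18629 := (sb E14703 F105542)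
theorem F134971 : act 9 n23492 = n20250 := (sb E14703 F105544)
theorem F134972 : act 2 n16348 = n20868 := (sb E14706 F118210)
theorem F134973 : act 5 n16348 = n20867 := (sb E14706 (iv D26454))
theorem F134974 : act 1 n23510 = n20939 := (sb E14708 F118608)
theorem F134975 : act 5 n23510 = n20938 := (sb E14708 (iv D26555))
theorem F134976 : act 6 n23513 = n21035 := (sb E14712 (iv D26692))
theorem F134977 : act 5 n25603 = n20897 := (sb E14714 F118283)
theorem F134978 : act 9 n25603 = n20877 := (sb E14714 (iv D26471))
theorem F134979 : act 2 n25603 = n21080 := (sb E14715 F119272)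
theorem F134980 : act 2 n24490 = n19379 := (sb E14716 F110463)
theorem F134981 : act 6 n24490 = n19378 := (sb E14716 (iv D24541))
theorem F134982 : act 4 n24542 = n20161 := (sb E14717 F113251)
theorem F134983 : act 7 n24542 = n19851 := (sb E14717 F113253)
theorem F134984 : act 4 n15774 = n19434 := (sb E14718 (iv D24624))
theorem F134985 : act 0 n24600 = n20867 := (sb E14719 F113255)
theorem F134986 : act 2 n24600 = n19848 := (sb E14719 F113256)
theorem F134987 : act 4 n24600 = n20162 := (sb E14719 F113258)
theorem F134988 : act 0 n24599 = n20868 := (sb E14721 F113260)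
theorem F134989 : act 5 n24599 = n19848 := (sb E14721 (iv D25132))
theorem F134990 : act 0 n24693 = n20870 := (sb E14723 F113269)
theorem F134991 : act 5 n24693 = n19850 := (sb E14723 F113272)
theorem F134992 : act 1 n16371 = n18789 := (sb E14727 (iv D23754))
theorem F134993 : act 2 n16371 = n18825 := (sb E14727 F106642)
theorem F134994 : act 7 n16371 = n20925 := (sb E14727 F106646)
theorem F134995 : act 1 n23755 = n20941 := (sb E14730 F118217)
theorem F134996 : act 4 n23755 = n20868 := (sb E14730 (iv D26456))
theorem F134997 : act 2 n26457 = n20934 := (sb E14732 F118585)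
theorem F134998 : act 6 n26457 = n20940 := (sb E14732 F118587)
theorem F134999 : act 1 n16421 = n20944 := (sb E14734 F118228)
theorem F135000 : act 6 n16421 = n20870 := (sb E14734 (iv D26459))
theorem F135001 : act 5 n26455 = n20934 := (sb E14737 F118592)
theorem F135002 : act 1 n23530 = n21035 := (sb E14741 F119057)
theorem F135003 : act 1 n23522 = n21036 := (sb E14742 F119061)
theorem F135004 : act 5 n23530 = n20944 := (sb E14747 F118597)
theorem F135005 : act 0 n24636 = n20925 := (sb E14752 (iv D26534))
theorem F135006 : act 3 n26556 = n20944 := (sb E14754 F118631)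
theorem F135007 : act 6 n26556 = n20942 := (sb E14754 (iv D26562))
theorem F135008 : act 2 n23807 = n19442 := (sb E14755 F110859)
theorem F135009 : act 4 n23807 = n19440 := (sb E14755 (iv D24633))
theorem F135010 : act 2 n23808 = n20941 := (sb E14757 F118615)
theorem F135011 : act 4 n23808 = n20939 := (sb E14757 (iv D26557))
theorem F135012 : act 2 n23795 = n20969 := (sb E14758 F118747)
theorem F135013 : act 4 n23795 = n20967 := (sb E14758 F118748)
theorem F135014 : act 4 n23992 = n20997 := (sb E14759 F118889)
theorem F135015 : act 9 n23992 = n20994 := (sb E14759 (iv D26637))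
theorem F135016 : act 9 n24036 = n21000 := (sb E14760 (iv D26645))
theorem F135017 : act 9 n24152 = n20440 := (sb E14761 (iv D25936))
theorem F135018 : act 9 n24153 = n20439 := (sb E14762 (iv D25934))
theorem F135019 : act 9 n24116 = n21010 := (sb E14763 (iv D26656))
theorem F135020 : act 3 n24224 = n20183 := (sb E14764 F114931)
theorem F135021 : act 9 n24224 = n20180 := (sb E14764 (iv D25578))
theorem F135022 : act 9 n24223 = n20178 := (sb E14765 (iv D25576))
theorem F135023 : act 7 n15572 = n19493 := (sb E14768 (iv D24706))
theorem F135024 : act 4 n23518 = n21035 := (sb E14769 F119069)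
theorem F135025 : act 4 n23536 = n21040 := (sb E14771 F119090)
theorem F135026 : act 7 n23536 = n21038 := (sb E14771 F119091)
theorem E15715 : n21018 = n18638 := (((D18638).symm.trans (sb E14777 D21018))).symm
theorem F135027 : act 8 n14629 = n18561 := (sb E14777 (iv F83844))
theorem F135028 : act 5 n15569 = n19496 := (sb E14788 F111132)
theorem F135029 : act 6 n23523 = n21100 := (sb E14795 F119213)
theorem F135030 : act 8 n23523 = n21081 := (sb E14795 F119214)
theorem F135031 : act 6 n9300 = n7491 := (sb E14798 (iv D9497))
theorem F135032 : act 1 n23518 = n18642 := (sb E14807 F105672)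
theorem F135033 : act 3 n23518 = n18921 := (sb E14807 F105673)
theorem F135034 : act 7 n23518 = n18641 := (sb E14807 (iv D23561))
theorem F135035 : act 2 n23545 = n21038 := (sb E14808 F119072)
theorem F135036 : act 4 n23545 = n21036 := (sb E14808 F119073)
theorem F135037 : act 9 n26697 = n21986 := (sb E14812 F123837)
theorem F135038 : act 1 n23536 = n21981 := (sb E14813 F123838)
theorem F135039 : act 9 n23536 = n21987 := (sb E14813 F123840)
theorem F135040 : act 4 n17162 = n21041 := (sb E14814 F119098)
theorem F135041 : act 9 n17162 = n21038 := (sb E14814 (iv D26698))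
theorem F135042 : act 4 n16877 = n21080 := (sb E14825 F119286)
theorem E15723 : n21604 = n18624 := (((D18624).symm.trans (sb E14818 F121929))).symm
theorem F135043 : act 0 n16877 = n19812 := (sb E14819 F105308)
theorem F135044 : act 9 n16877 = n18592 := (sb E14819 (iv D23495))
theorem F135045 : act 3 n23526 = n21081 := (sb E14822 F119291)
theorem F135046 : act 6 n23526 = n21109 := (sb E14822 F119292)
theorem F135047 : act 3 n23534 = n21042 := (sb E14823 F119102)
theorem F135048 : act 6 n23534 = n21040 := (sb E14823 F119103)
theorem F135049 : act 3 n23535 = n21082 := (sb E14824 F119294)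
theorem F135050 : act 6 n23535 = n21080 := (sb E14824 F119295)
theorem F135051 : act 2 n25981 = n21041 := (sb E14827 F119080)
theorem F135052 : act 9 n25981 = n21036 := (sb E14827 (iv D26694))
theorem F135053 : act 4 n26700 = n21987 := (sb E14829 F123438)
theorem F135054 : act 3 n15570 = n19496 := (sb E14830 F111180)
theorem F135055 : act 1 n21081 = n17077 := (sb E14831 F97958)
theorem F135056 : act 2 n21081 = n25968 := (sb E14831 (iv F116354))
theorem E15724 : n27682 = n26753 := (((D26753).symm.trans (sb E14831 D27682))).symm
theorem F135057 : act 9 n25943 = n21100 := (sb E14834 (iv D26780))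
theorem F135058 : act 8 n24100 = n19724 := (sb E14835 F111461)
theorem F135059 : act 9 n24100 = n19539 := (sb E14835 (iv D24771))
theorem F135060 : act 3 n24770 = n19865 := (sb E14836 F113343)
theorem F135061 : act 6 n24770 = n19873 := (sb E14836 F113344)
theorem F135062 : act 2 n25861 = n20972 := (sb E14842 F118756)
theorem F135063 : act 5 n25861 = n20997 := (sb E14842 F118758)
theorem F135064 : act 9 n25861 = n20967 := (sb E14842 (iv D26598))
theorem F135065 : act 4 n23634 = n21109 := (sb E14843 (iv D26788))
theorem F135066 : act 4 n25688 = n21328 := (sb E14848 F120385)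
theorem F135067 : act 9 n25688 = n21327 := (sb E14848 (iv D27023))
theorem F135068 : act 8 n25686 = n21328 := (sb E14849 (iv D27024))
theorem F135069 : act 3 n23474 = n21327 := (sb E14850 (iv F134371))
theorem F135070 : act 8 n23474 = n20271 := (sb E14850 F115387)
theorem F135071 : act 9 n23474 = n20261 := (sb E14850 (iv D25691))
theorem F135072 : act 3 n25686 = n22116 := (sb E14852 F124531)
theorem E15729 : n27963 = n25676 := (E14853).trans E14854
theorem F135073 : act 9 n25676 = n22116 := (sb E15729 (iv D27963))
theorem F135074 : act 8 n25676 = n21337 := (sb E14854 (iv D27033))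
theorem F135075 : act 2 n23468 = n20271 := (sb E14855 F113543)
theorem F135076 : act 9 n23468 = n19899 := (sb E14855 (iv D25206))
theorem F135077 : act 2 n23469 = n20296 := (sb E14856 F113621)
theorem F135078 : act 9 n23469 = n19914 := (sb E14856 (iv D25224))
theorem F135079 : act 0 n15589 = n18561 := (sb E14857 F105063)
theorem F135080 : act 9 n15589 = n18572 := (sb E14857 F105068)
theorem F135081 : act 3 n25702 = n20807 := (sb E14858 (iv D26391))
theorem F135082 : act 9 n25700 = n20807 := (sb E14861 (iv D26392))
theorem F135083 : act 9 n16888 = n18580 := (sb E14890 F105113)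
theorem F135084 : act 4 n27361 = n22200 := (sb E14891 F124889)
theorem F135085 : act 9 n27361 = n22211 := (sb E14891 F124891)
theorem F135086 : act 2 n28055 = n22335 := (sb E14893 F125493)
theorem F135087 : act 3 n27359 = n22203 := (sb E14894 F124901)
theorem F135088 : act 8 n27359 = n22200 := (sb E14894 (iv D28056))
theorem F135089 : act 8 n27188 = n21774 := (sb E14895 (iv D27563))
theorem F135090 : act 2 n27562 = n21942 := (sb E14896 F123637)
theorem F135091 : act 4 n27190 = n21774 := (sb E14898 (iv D27561))
theorem F135092 : act 8 n23480 = n21630 := (sb E14916 F122069)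
theorem F135093 : act 9 n23480 = n21621 := (sb E14916 (iv D27363))
theorem F135094 : act 2 n28066 = n22332 := (sb E14917 F125484)
theorem F135095 : act 8 n28066 = n22328 := (sb E14917 (iv D28182))
theorem F135096 : act 5 n28072 = n22335 := (sb E14919 F125511)
theorem F135097 : act 3 n28072 = n22314 := (sb E14921 F124986)
theorem F135098 : act 4 n18582 = n16898 := (sb E14922 F96883)
theorem E15731 : n27355 = n23483 := ((((iv F105241)).symm.trans (sb E14922 (iv F122025)))).symm
theorem E15732 : n23484 = n16882 := ((D23484).symm.trans (sb E14922 (iv D21612)))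
theorem E15733 : n27353 = n23486 := ((((iv F105256)).symm.trans (sb E14923 (iv F122013)))).symm
theorem E15734 : n23463 = n16879 := (((iv F105140)).symm.trans (sb E14923 (iv D21609)))
theorem E15740 : n27396 = n24136 := ((((iv F108473)).symm.trans (sb E14942 (iv F122215)))).symm
theorem F135099 : act 0 n23454 = n19899 := (sb E14948 F105569)
theorem F135100 : act 2 n23454 = n18897 := (sb E14948 F105571)
theorem F135101 : act 4 n23454 = n20261 := (sb E14948 F105572)
theorem F135102 : act 8 n23454 = n18627 := (sb E14948 (iv D23543))
theorem F135103 : act 0 n23455 = n19914 := (sb E14949 F105655)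
theorem F135104 : act 2 n23455 = n18918 := (sb E14949 F105657)
theorem F135105 : act 8 n23906 = n19735 := (sb E14954 (iv D24999))
theorem F135106 : act 3 n18558 = n15589 := (sb E14955 F90337)
theorem E15742 : n25203 = n23451 := (((D23451).symm.trans (sb E14955 (iv F113532)))).symm
theorem E15743 : n25222 = n23452 := (((D23452).symm.trans (sb E14955 (iv F113614)))).symm
theorem E15744 : n15586 = n15247 := (((F83824).symm.trans (sb E14955 (iv D19913)))).symm
theorem F135107 : act 3 n18595 = n15866 := (sb E14956 F90320)
theorem E15745 : n25218 = n23499 := (((D23499).symm.trans (sb E14956 D25218))).symm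
theorem F135108 : act 1 n18608 = n14828 := (sb E14957 F85646)
theorem E15746 : n23869 = n23515 := (((D23515).symm.trans (sb E14957 (iv F107206)))).symm
theorem F135109 : act 6 n18608 = n14827 := (sb E14957 (iv D18912))
theorem E15747 : n23930 = n23516 := (((D23516).symm.trans (sb E14957 D23930))).symm
theorem E15748 : n23903 = n23517 := (((D23517).symm.trans (sb E14957 (iv F107388)))).symm
theorem F135110 : act 3 n12743 = n14629 := (sb E14958 F84261)
theorem F135111 : act 5 n12743 = n14628 := (sb E14958 (iv D18636))
theorem E15750 : n23556 = n16411 := (((D16411).symm.trans (sb E14958 D23556))).symm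
theorem F135112 : act 2 n18599 = n14628 := (sb E14959 F84255)
theorem F135113 : act 3 n18599 = n14828 := (sb E14959 F84256)
theorem F135114 : act 6 n18599 = n14627 := (sb E14959 (iv D18635))
theorem E15751 : n23554 = n23503 := (((D23503).symm.trans (sb E14959 D23554))).symm
theorem E15752 : n23539 = n23504 := (((D23504).symm.trans (sb E14959 (iv F105549)))).symm
theorem F135115 : act 4 n23874 = n19553 := (sb E14963 F111515)
theorem F135116 : act 3 n11873 = n9498 := (sb E14964 F56257)
theorem F135117 : act 3 n11848 = n9645 := (sb E14965 F56252)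
theorem F135118 : act 6 n11848 = n9496 := (sb E14965 (iv D12142))
theorem F135119 : act 4 n24545 = n19894 := (sb E14976 F113361)
theorem F135120 : act 7 n24545 = n19871 := (sb E14976 F113363)
theorem F135121 : act 0 n15584 = n19794 := (sb E14978 F110444)
theorem F135122 : act 4 n15584 = n19380 := (sb E14978 F110447)
theorem F135123 : act 0 n25063 = n19894 := (sb E14980 (iv D25197))
theorem F135124 : act 3 n25063 = n20262 := (sb E14980 F113510)
theorem F135125 : act 7 n25063 = n19900 := (sb E14980 F113512)
theorem F135126 : act 0 n24631 = n19851 := (sb E14981 (iv D25136))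
theorem F135127 : act 4 n24631 = n20167 := (sb E14981 F113279)
theorem F135128 : act 0 n24701 = n19884 := (sb E14982 F113464)
theorem F135129 : act 4 n24701 = n19916 := (sb E14982 F113466)
theorem F135130 : act 0 n24739 = n19871 := (sb E14983 (iv D25165))
theorem F135131 : act 4 n24739 = n19900 := (sb E14983 F113387)
theorem F135132 : act 0 n15585 = n18599 := (sb E14985 F105328)
theorem F135133 : act 4 n15585 = n19420 := (sb E14985 F105331)
theorem F135134 : act 5 n15585 = n18595 := (sb E14985 (iv D23498))
theorem F135135 : act 4 n15575 = n19437 := (sb E14986 F110798)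
theorem F135136 : act 4 n24602 = n19910 := (sb E14988 F113431)
theorem F135137 : act 6 n24602 = n19886 := (sb E14988 F113432)
theorem F135138 : act 4 n24603 = n19895 := (sb E14989 F113367)
theorem F135139 : act 5 n23838 = n19457 := (sb E14990 F110842)
theorem F135140 : act 9 n23838 = n19437 := (sb E14990 (iv D24629))
theorem F135141 : act 6 n23868 = n19857 := (sb E15001 F112983)
theorem F135142 : act 3 n23902 = n19803 := (sb E15002 F112990)
theorem F135143 : act 6 n23902 = n19859 := (sb E15002 F112992)
theorem F135144 : act 0 n25075 = n20250 := (sb E15003 (iv D25672))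
theorem F135145 : act 7 n25075 = n20537 := (sb E15003 F115310)
theorem E15769 : n25143 = n24704 := ((((iv F111161)).symm.trans (sb E15007 (iv F113299)))).symm
theorem F135146 : act 4 n19494 = n15572 := (sb E15007 F90244)
theorem F135147 : act 6 n19494 = n15570 := (sb E15007 (iv D19889))
theorem E15770 : n25193 = n24709 := (((D24709).symm.trans (sb E15007 D25193))).symm
theorem F135148 : act 3 n7492 = n9300 := (sb E15046 (iv D11882))
theorem F135149 : act 3 n13644 = n10660 := (sb E15104 F62325)
theorem F135150 : act 6 n13644 = n10659 := (sb E15104 (iv D13705))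
theorem E15871 : n17684 = n17600 := (((D17600).symm.trans (sb E15104 D17684))).symm
theorem F135151 : act 8 n13644 = n14573 := (sb E15104 (iv F66472))
theorem E15873 : n23460 = n16875 := (((D16875).symm.trans (sb E15106 (iv F105122)))).symm
theorem F135152 : act 3 n19087 = n16928 := (sb E15306 F97081)
theorem E16033 : n27393 = n24139 := ((((iv F108485)).symm.trans (sb E15306 (iv F122206)))).symm
theorem E16034 : n27385 = n24176 := (((D24176).symm.trans (sb E15306 (iv F122178)))).symm
theorem F135153 : act 3 n19062 = n16927 := (sb E15307 F97078)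
theorem E16036 : n25161 = n24108 := ((((iv F108346)).symm.trans (sb E15307 (iv F113372)))).symm
theorem E16037 : n27384 = n24140 := (((D24140).symm.trans (sb E15307 (iv F122172)))).symm
theorem F135154 : act 3 n19088 = n16923 := (sb E15308 F97057)
theorem F135155 : act 4 n12127 = n15268 := (sb E15309 F88434)
theorem E16038 : n24689 = n15576 := (((D15576).symm.trans (sb E15309 (iv F111096)))).symm
theorem F135156 : act 3 n19488 = n15556 := (sb E15310 F90164)
theorem E16040 : n25162 = n24698 := ((((iv F111137)).symm.trans (sb E15310 D25162))).symm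
theorem E16041 : n24699 = n23839 := ((D24699).symm.trans (sb E15310 (iv F107074)))
theorem F135157 : act 5 n18847 = n15288 := (sb E15311 F88479)
theorem F135158 : act 9 n18847 = n15268 := (sb E15311 (iv D19514))
theorem E16042 : n27108 = n24135 := (((D24135).symm.trans (sb E15312 (iv F120831)))).symm
theorem E16043 : n25164 = n24105 := ((((iv F108330)).symm.trans (sb E15312 (iv F113385)))).symm
theorem F135159 : act 8 n19059 = n16927 := (sb E15312 (iv D21656))
theorem F135160 : act 3 n20423 = n25785 := (sb E15313 (iv F115754))
theorem F135161 : act 3 n20398 = n25784 := (sb E15314 (iv F115752))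
theorem F135162 : act 3 n20424 = n25777 := (sb E15315 (iv F115727))
theorem F135163 : act 1 n20486 = n17027 := (sb E15321 F97288)
theorem F135164 : act 3 n20486 = n16964 := (sb E15321 F97289)
theorem E16057 : n27470 = n25988 := ((((iv F116414)).symm.trans (sb E15321 (iv F122493)))).symm
theorem E16058 : n27472 = n26001 := ((((iv F116453)).symm.trans (sb E15321 D27472))).symm
theorem E16059 : n27459 = n26002 := (((D26002).symm.trans (sb E15321 (iv F122464)))).symm
theorem F135165 : act 1 n20523 = n17019 := (sb E15322 F97265)
theorem F135166 : act 3 n20523 = n16959 := (sb E15322 F97266)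
theorem F135167 : act 6 n20523 = n25944 := (sb E15322 (iv F116265))
theorem F135168 : act 1 n20477 = n17026 := (sb E15323 F97286)
theorem E16060 : n27141 = n25986 := ((((iv F116409)).symm.trans (sb E15323 (iv F120980)))).symm
theorem E16061 : n27438 = n25946 := ((((iv F116275)).symm.trans (sb E15323 (iv F122399)))).symm
theorem E16062 : n27458 = n25989 := (((D25989).symm.trans (sb E15323 (iv F122460)))).symm
theorem F135169 : act 1 n20455 = n16998 := (sb E15324 F97225)
theorem F135170 : act 3 n20455 = n16950 := (sb E15324 F97226)
theorem E16063 : n27439 = n25955 := ((((iv F116306)).symm.trans (sb E15324 D27439))).symm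
theorem E16064 : n25956 = n25605 := ((D25956).symm.trans (sb E15324 (iv F115047)))
theorem F135171 : act 1 n20487 = n17018 := (sb E15325 F97262)
theorem F135172 : act 3 n20487 = n16958 := (sb E15325 F97263)
theorem E16065 : n27460 = n23644 := ((((iv F106092)).symm.trans (sb E15325 D27460))).symm
theorem F135173 : act 1 n20483 = n17030 := (sb E15326 F97295)
theorem F135174 : act 2 n20483 = n25790 := (sb E15326 (iv F115766))
theorem E16066 : n27145 = n25996 := ((((iv F116438)).symm.trans (sb E15326 (iv F120991)))).symm
theorem E16067 : n27475 = n25998 := (((D25998).symm.trans (sb E15326 (iv F122507)))).symm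
theorem F135175 : act 8 n20483 = n16964 := (sb E15326 (iv D21711))
theorem E16068 : n27476 = n23640 := ((((iv F106076)).symm.trans (sb E15326 D27476))).symm
theorem F135176 : act 1 n18698 = n17054 := (sb E15327 F97385)
theorem F135177 : act 1 n20482 = n16795 := (sb E15328 F96132)
theorem F135178 : act 2 n20482 = n25487 := (sb E15328 (iv F114619))
theorem E16069 : n27143 = n25984 := ((((iv F116403)).symm.trans (sb E15328 (iv F120986)))).symm
theorem E16070 : n25951 = n25614 := (((iv F116293)).symm.trans (sb E15328 (iv F115089)))
theorem F135179 : act 8 n20482 = n16758 := (sb E15328 (iv D21441))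
theorem E16071 : n27146 = n23639 := ((((iv F106071)).symm.trans (sb E15328 D27146))).symm
theorem F135180 : act 1 n20452 = n17001 := (sb E15329 F97233)
theorem F135181 : act 2 n20452 = n25769 := (sb E15329 (iv F115700))
theorem E16072 : n27442 = n25952 := (((D25952).symm.trans (sb E15329 (iv F122411)))).symm
theorem F135182 : act 8 n20452 = n16950 := (sb E15329 (iv D21690))
theorem E16073 : n27443 = n23631 := ((((iv F106030)).symm.trans (sb E15329 D27443))).symm
theorem F135183 : act 1 n18697 = n17031 := (sb E15330 F97298)
theorem E16074 : n27463 = n23641 := (((D23641).symm.trans (sb E15330 (iv F122475)))).symm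
theorem F135184 : act 1 n18625 = n23492 := (sb E15331 (iv F105290))
theorem F135185 : act 4 n18625 = n16366 := (sb E15331 F94145)
theorem F135186 : act 3 n20936 = n25765 := (sb E15332 (iv F115688))
theorem E16077 : n26553 = n25604 := ((D26553).symm.trans (sb E15332 (iv F115043)))
theorem F135187 : act 5 n20198 = n16386 := (sb E15333 F94180)
theorem F135188 : act 9 n20198 = n16366 := (sb E15333 (iv D20961))
theorem F135189 : act 4 n18626 = n16417 := (sb E15334 F94376)
theorem E16078 : n23540 = n23457 := ((D23540).symm.trans (sb E15334 (iv F105106)))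
theorem E16079 : n26669 = n23541 := (((D23541).symm.trans (sb E15334 (iv F118992)))).symm
theorem F135190 : act 1 n21029 = n16999 := (sb E15336 F97228)
theorem F135191 : act 3 n21029 = n16951 := (sb E15336 F97229)
theorem F135192 : act 6 n21029 = n23524 := (sb E15336 (iv F105471))
theorem E16081 : n26683 = n25606 := ((D26683).symm.trans (sb E15336 (iv F115053)))
theorem F135193 : act 9 n20199 = n16417 := (sb E15337 (iv D21030))
theorem E16082 : n27248 = n17158 := (((D17158).symm.trans (sb E15338 (iv F121513)))).symm
theorem F135194 : act 3 n13238 = n17001 := (sb E15346 F97495)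
theorem E16096 : n27543 = n17067 := (((D17067).symm.trans (sb E15346 (iv F122786)))).symm
theorem F135195 : act 8 n13238 = n16998 := (sb E15346 (iv D21762))
theorem F135196 : act 2 n21752 = n17081 := (sb E15349 F97971)
theorem E16098 : n27528 = n27224 := ((D27528).symm.trans (sb E15349 (iv F121383)))
theorem E16099 : n27687 = n27529 := (((D27529).symm.trans (sb E15349 (iv F123411)))).symm
theorem F135197 : act 8 n21752 = n17077 := (sb E15349 (iv D21877))
theorem F135198 : act 2 n21753 = n17706 := (sb E15350 F101069)
theorem F135199 : act 3 n13256 = n17031 := (sb E15354 F97684)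
theorem E16104 : n27601 = n17095 := (((D17095).symm.trans (sb E15354 (iv F123039)))).symm
theorem E16105 : n27537 = n17096 := (((D17096).symm.trans (sb E15354 F122759))).symm
theorem F135200 : act 2 n21755 = n16998 := (sb E15355 F97482)
theorem F135201 : act 3 n21755 = n17077 := (sb E15355 F97483)
theorem F135202 : act 5 n21755 = n16997 := (sb E15355 (iv D21758))
theorem E16106 : n27538 = n27532 := ((((iv F122736)).symm.trans (sb E15355 D27538))).symm
theorem E16107 : n27533 = n27278 := ((D27533).symm.trans (sb E15355 (iv F121666)))
theorem E16108 : n27598 = n17089 := (((D17089).symm.trans (sb E15356 (iv F123025)))).symm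
theorem F135203 : act 8 n13252 = n17026 := (sb E15356 (iv D21805))
theorem F135204 : act 1 n21782 = n26779 := (sb E15357 (iv F119387))
theorem F135205 : act 1 n21783 = n26051 := (sb E15358 (iv F116617))
theorem F135206 : act 1 n21786 = n26060 := (sb E15369 (iv F116656))
theorem E16126 : n27763 = n27578 := ((((iv F122950)).symm.trans (sb E15369 (iv F123651)))).symm
theorem F135207 : act 1 n21787 = n26789 := (sb E15370 (iv F119420))
theorem F135208 : act 3 n13262 = n17030 := (sb E15372 F97680)
theorem E16129 : n27600 = n17104 := (((D17104).symm.trans (sb E15372 (iv F123035)))).symm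
theorem F135209 : act 8 n13262 = n17027 := (sb E15372 (iv D21807))
theorem F135210 : act 3 n13257 = n17054 := (sb E15373 F97821)
theorem F135211 : act 2 n21782 = n17124 := (sb E15374 F98155)
theorem E16130 : n27551 = n27193 := (((iv F122827)).symm.trans (sb E15374 (iv F121205)))
theorem E16131 : n27757 = n27573 := (((D27573).symm.trans (sb E15374 (iv F123632)))).symm
theorem F135212 : act 8 n21782 = n17120 := (sb E15374 (iv D21934))
theorem F135213 : act 9 n21782 = n27190 := (sb E15374 (iv F121191))
theorem F135214 : act 2 n21783 = n17126 := (sb E15375 F98161)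
theorem E16132 : n27758 = n27575 := (((D27575).symm.trans (sb E15375 (iv F123635)))).symm
theorem F135215 : act 8 n21783 = n17121 := (sb E15375 (iv D21936))
theorem F135216 : act 3 n21765 = n17004 := (sb E15376 F97522)
theorem F135217 : act 5 n21765 = n17003 := (sb E15376 (iv D21768))
theorem E16133 : n27552 = n27546 := ((((iv F122801)).symm.trans (sb E15376 D27552))).symm
theorem E16134 : n27553 = n27285 := ((((iv F121710)).symm.trans (sb E15376 D27553))).symm
theorem F135218 : act 2 n21771 = n17026 := (sb E15377 F97662)
theorem E16135 : n27594 = n27555 := ((((iv F122849)).symm.trans (sb E15377 D27594))).symm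
theorem E16136 : n27556 = n27282 := ((D27556).symm.trans (sb E15377 F121692))
theorem F135219 : act 2 n21786 = n17027 := (sb E15378 F97665)
theorem F135220 : act 3 n21786 = n17121 := (sb E15378 F97666)
theorem F135221 : act 5 n21786 = n17025 := (sb E15378 F97667)
theorem E16137 : n27595 = n27578 := ((((iv F122950)).symm.trans (sb E15378 D27595))).symm
theorem E16138 : n27583 = n27579 := (((D27579).symm.trans (sb E15378 (iv F122973)))).symm
theorem F135222 : act 2 n21787 = n17018 := (sb E15379 F97620)
theorem F135223 : act 3 n21787 = n17109 := (sb E15379 F97621)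
theorem F135224 : act 5 n21787 = n17017 := (sb E15379 (iv D21790))
theorem E16139 : n27566 = n27280 := (((iv F122909)).symm.trans (sb E15379 F121681))
theorem F135225 : act 5 n21760 = n17334 := (sb E15380 F97571)
theorem E16140 : n27565 = n27540 := (((D27540).symm.trans (sb E15380 (iv F122903)))).symm
theorem F135226 : act 8 n21760 = n17008 := (sb E15380 (iv D21777))
theorem E16142 : n28544 = n23444 := ((((iv F105024)).symm.trans (sb E15680 (iv F126978)))).symm
theorem E16143 : n28606 = n23445 := (((D23445).symm.trans (sb E15680 D28606))).symm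
theorem E16144 : n23445 = n16878 := (((D16878).symm.trans (sb E15382 (tr (iv F127221) E16143)))).symm
theorem E16145 : n27340 = n23444 := (((iv F121940)).symm.trans (sb E15383 (tr (iv F126976) E16142)))
theorem F135227 : act 6 n21759 = n17706 := (sb E15383 F101095)
theorem F135228 : act 1 n21791 = n26061 := (sb E15385 (iv F116659))
theorem F135229 : act 6 n21791 = n17151 := (sb E15385 F98301)
theorem F135230 : act 2 n18552 = n16874 := (sb E15386 F96811)
theorem F135231 : act 4 n18552 = n16997 := (sb E15386 F96813)
theorem F135232 : act 6 n18552 = n16873 := (sb E15386 (iv D21598))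
theorem F135233 : act 1 n21759 = n23534 := (sb E15388 (iv F105522))
theorem F135234 : act 8 n21759 = n17606 := (sb E15388 (iv D22515))
theorem F135235 : act 1 n21538 = n23535 := (sb E15389 (iv F105526))
theorem F135236 : act 5 n18567 = n16874 := (sb E15390 (iv D21599))
theorem E16150 : n27342 = n23462 := ((((iv F105134)).symm.trans (sb E15390 D27342))).symm
theorem E16152 : n27669 = n27542 := (((D27542).symm.trans (sb E15393 (iv F123346)))).symm
theorem E16155 : n27703 = n27220 := (((D27220).symm.trans (sb E15404 (iv F123461)))).symm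
theorem F135237 : act 8 n21490 = n17087 := (sb E15404 (iv D21891))
theorem E16157 : n27705 = n27597 := (((D27597).symm.trans (sb E15405 (iv F123467)))).symm
theorem E16160 : n27719 = n27586 := (((D27586).symm.trans (sb E15408 (iv F123519)))).symm
theorem E16165 : n27728 = n17128 := ((((iv F77280)).symm.trans (sb E15414 D27728))).symm
theorem E16167 : n27602 = n17125 := (((D17125).symm.trans (sb E15415 (iv F123042)))).symm
theorem F135238 : act 6 n13267 = n17054 := (sb E15416 F97830)
theorem E16169 : n27700 = n27223 := ((((iv F121377)).symm.trans (sb E15417 (iv F123450)))).symm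
theorem E16172 : n27666 = n27545 := ((((iv F122797)).symm.trans (sb E15418 (iv F123336)))).symm
theorem E16173 : n27715 = n27603 := (((D27603).symm.trans (sb E15418 (iv F123505)))).symm
theorem E16174 : n27716 = n27588 := ((((iv F122992)).symm.trans (sb E15419 D27716))).symm
theorem F135239 : act 1 n21876 = n26701 := (sb E15425 (iv F119109))
theorem E16183 : n27692 = n27686 := (((D27686).symm.trans (sb E15425 (iv F123427)))).symm
theorem F135240 : act 1 n21864 = n26754 := (sb E15426 (iv F119300))
theorem F135241 : act 2 n13722 = n17066 := (sb E15427 F97891)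
theorem F135242 : act 6 n13722 = n17078 := (sb E15427 F97893)
theorem F135243 : act 1 n21865 = n26702 := (sb E15428 (iv F119111))
theorem F135244 : act 6 n21865 = n17709 := (sb E15428 F101105)
theorem F135245 : act 5 n21764 = n17066 := (sb E15435 F97900)
theorem F135246 : act 2 n21769 = n17709 := (sb E15436 F100588)
theorem F135247 : act 4 n21492 = n17087 := (sb E15438 (iv D21889))
theorem F135248 : act 1 n21111 = n17120 := (sb E15441 F98144)
theorem F135249 : act 2 n21111 = n26018 := (sb E15441 (iv F116509))
theorem E16194 : n26790 = n25624 := ((D26790).symm.trans (sb E15441 (iv F115120)))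
theorem E16195 : n27751 = n26062 := ((((iv F116667)).symm.trans (sb E15441 D27751))).symm
theorem E16196 : n26791 = n25621 := ((D26791).symm.trans (sb E15441 F115113))
theorem F135250 : act 1 n20533 = n17121 := (sb E15442 F98146)
theorem E16197 : n27753 = n26032 := ((((iv F116547)).symm.trans (sb E15442 D27753))).symm
theorem E16198 : n27741 = n26063 := (((D26063).symm.trans (sb E15442 (iv F123584)))).symm
theorem F135251 : act 1 n21112 = n17109 := (sb E15443 F98107)
theorem F135252 : act 2 n21112 = n26004 := (sb E15443 (iv F116463))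
theorem E16199 : n26792 = n25619 := ((D26792).symm.trans (sb E15443 F115105))
theorem F135253 : act 1 n20534 = n17110 := (sb E15444 F98109)
theorem F135254 : act 5 n21933 = n17154 := (sb E15448 F98305)
theorem E16210 : n27766 = n27742 := ((((iv F123587)).symm.trans (sb E15450 D27766))).symm
theorem F135255 : act 2 n21882 = n17087 := (sb E15453 F98004)
theorem F135256 : act 5 n21882 = n17086 := (sb E15453 (iv D21887))
theorem E16212 : n27698 = n27691 := ((((iv F123425)).symm.trans (sb E15453 D27698))).symm
theorem E16215 : n26064 = n25658 := ((D26064).symm.trans (sb E15455 (iv F115249)))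
theorem E16217 : n26065 = n25656 := ((D26065).symm.trans (sb E15455 F115243))
theorem F135257 : act 8 n20536 = n25654 := (sb E15457 (iv F115232))
theorem F135258 : act 2 n13340 = n17154 := (sb E15464 F97872)
theorem E16231 : n27261 = n17202 := (((D17202).symm.trans (sb E15464 (iv F121582)))).symm
theorem F135259 : act 2 n13341 = n16871 := (sb E15465 F96514)
theorem F135260 : act 5 n13341 = n16817 := (sb E15465 (iv D21525))
theorem E16233 : n27262 = n17193 := ((((iv F77553)).symm.trans (sb E15465 D27262))).symm
theorem F135261 : act 2 n13331 = n17155 := (sb E15466 F97876)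
theorem F135262 : act 3 n21583 = n17154 := (sb E15467 (iv D21975))
theorem E16235 : n27334 = n27322 := ((((iv F121855)).symm.trans (sb E15467 (iv F121905)))).symm
theorem E16237 : n27862 = n27332 := ((((iv F121898)).symm.trans (sb E15468 D27862))).symm
theorem E16238 : n27335 = n27320 := ((D27335).symm.trans (sb E15468 F121848))
theorem F135263 : act 4 n21581 = n17155 := (sb E15469 F98315)
theorem F135264 : act 9 n21581 = n17154 := (sb E15469 (iv D21976))
theorem E16241 : n27336 = n27319 := ((D27336).symm.trans (sb E15471 (iv F121840)))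
theorem F135265 : act 8 n21579 = n17155 := (sb E15472 (iv D21977))
theorem E16243 : n24783 = n23877 := ((D24783).symm.trans (sb E15474 (iv F107247)))
theorem F135266 : act 9 n19552 = n23874 := (sb E15474 F107234)
theorem F135267 : act 3 n20237 = n16480 := (sb E15475 (iv D21113))
theorem F135268 : act 4 n20234 = n16481 := (sb E15476 F94712)
theorem F135269 : act 9 n20234 = n16480 := (sb E15476 (iv D21114))
theorem E16273 : n27121 = n24194 := ((((iv F108732)).symm.trans (sb E15499 (iv F120892)))).symm
theorem E16274 : n27123 = n24205 := (((D24205).symm.trans (sb E15499 (iv F120902)))).symm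
theorem F135270 : act 8 n19111 = n16748 := (sb E15499 (iv D21426))
theorem E16275 : n27135 = n24207 := (((D24207).symm.trans (sb E15500 (iv F120961)))).symm
theorem F135271 : act 8 n19112 = n16754 := (sb E15500 (iv D21434))
theorem F135272 : act 1 n20541 = n16808 := (sb E15516 F96182)
theorem E16294 : n27162 = n26070 := ((((iv F116692)).symm.trans (sb E15516 (iv F121060)))).symm
theorem E16295 : n27166 = n26073 := (((D26073).symm.trans (sb E15516 (iv F121077)))).symm
theorem F135273 : act 8 n20541 = n16766 := (sb E15516 (iv D21454))
theorem E16296 : n27167 = n23548 := ((((iv F105602)).symm.trans (sb E15516 D27167))).symm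
theorem F135274 : act 1 n20552 = n16810 := (sb E15517 F96189)
theorem F135275 : act 2 n20552 = n25502 := (sb E15517 (iv F114679))
theorem E16297 : n27168 = n26088 := (((D26088).symm.trans (sb E15517 (iv F121084)))).symm
theorem F135276 : act 8 n20552 = n16768 := (sb E15517 (iv D21456))
theorem E16298 : n27169 = n23662 := ((((iv F106187)).symm.trans (sb E15517 D27169))).symm
theorem F135277 : act 1 n18716 = n16811 := (sb E15518 F96192)
theorem F135278 : act 1 n20554 = n16817 := (sb E15519 F96230)
theorem F135279 : act 2 n20554 = n25512 := (sb E15519 (iv F114722))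
theorem F135280 : act 8 n20554 = n16775 := (sb E15519 (iv D21466))
theorem E16299 : n27183 = n23663 := ((((iv F106194)).symm.trans (sb E15519 D27183))).symm
theorem F135281 : act 1 n18717 = n16818 := (sb E15520 F96233)
theorem E16306 : n27241 = n17163 := ((((iv F77419)).symm.trans (sb E15530 (iv F121471)))).symm
theorem F135282 : act 4 n13308 = n16808 := (sb E15530 F96461)
theorem E16307 : n27246 = n17166 := (((D17166).symm.trans (sb E15530 (iv F121501)))).symm
theorem F135283 : act 8 n13308 = n16806 := (sb E15530 (iv D21513))
theorem E16308 : n27254 = n17168 := (((D17168).symm.trans (sb E15531 (iv F121542)))).symm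
theorem F135284 : act 8 n13310 = n16812 := (sb E15531 (iv D21520))
theorem F135285 : act 3 n13324 = n16817 := (sb E15533 F96504)
theorem F135286 : act 8 n13324 = n16814 := (sb E15533 (iv D21523))
theorem E16310 : n27260 = n17176 := ((((iv F77483)).symm.trans (sb E15533 D27260))).symm
theorem F135287 : act 3 n13316 = n16818 := (sb E15534 F96509)
theorem E16311 : n27817 = n27239 := ((((iv F121461)).symm.trans (sb E15535 (iv F123870)))).symm
theorem E16312 : n27821 = n27243 := ((((iv F121485)).symm.trans (sb E15535 D27821))).symm
theorem E16313 : n27811 = n27244 := (((D27244).symm.trans (sb E15535 (iv F123845)))).symm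
theorem E16314 : n27825 = n27249 := ((((iv F121518)).symm.trans (sb E15536 D27825))).symm
theorem E16315 : n27813 = n27250 := (((D27250).symm.trans (sb E15536 (iv F123856)))).symm
theorem E16316 : n27852 = n27251 := (((D27251).symm.trans (sb E15538 D27852))).symm
theorem F135288 : act 3 n19292 = n17231 := (sb E15553 F98709)
theorem F135289 : act 0 n20087 = n17289 := (sb E15554 F98751)
theorem E16326 : n27896 = n25444 := (((D25444).symm.trans (sb E15554 (iv F124237)))).symm
theorem E16327 : n27906 = n25445 := (((D25445).symm.trans (sb E15554 (iv F124283)))).symm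
theorem F135290 : act 0 n20088 = n17280 := (sb E15555 F98712)
theorem F135291 : act 5 n20088 = n17231 := (sb E15555 F98715)
theorem E16328 : n27907 = n25347 := ((((iv F114059)).symm.trans (sb E15555 D27907))).symm
theorem F135292 : act 0 n20011 = n17281 := (sb E15556 F98717)
theorem E16329 : n27387 = n25336 := ((((iv F114015)).symm.trans (sb E15556 (iv F122185)))).symm
theorem F135293 : act 3 n20720 = n26181 := (sb E15561 (iv F117147))
theorem F135294 : act 1 n18770 = n17363 := (sb E15565 F99041)
theorem F135295 : act 3 n18770 = n17289 := (sb E15565 F99042)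
theorem E16342 : n27979 = n23731 := (((D23731).symm.trans (sb E15565 (iv F124599)))).symm
theorem F135296 : act 1 n18771 = n17350 := (sb E15567 F98996)
theorem F135297 : act 3 n18771 = n17280 := (sb E15567 F98997)
theorem E16344 : n27980 = n23654 := ((((iv F106144)).symm.trans (sb E15567 D27980))).symm
theorem F135298 : act 1 n18709 = n17351 := (sb E15569 F99000)
theorem F135299 : act 3 n18709 = n17281 := (sb E15569 F99001)
theorem F135300 : act 1 n18767 = n17366 := (sb E15570 F99052)
theorem F135301 : act 8 n18767 = n17289 := (sb E15570 (iv D22148))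
theorem E16346 : n28002 = n23650 := ((((iv F106123)).symm.trans (sb E15570 D28002))).symm
theorem F135302 : act 1 n18705 = n17367 := (sb E15571 F99056)
theorem E16347 : n27983 = n23651 := (((D23651).symm.trans (sb E15571 (iv F124614)))).symm
theorem F135303 : act 1 n18706 = n17354 := (sb E15572 F99010)
theorem F135304 : act 9 n18706 = n17281 := (sb E15572 (iv D22136))
theorem F135305 : act 2 n22217 = n17350 := (sb E15580 F99340)
theorem F135306 : act 3 n22217 = n17431 := (sb E15580 F99341)
theorem F135307 : act 5 n22217 = n17348 := (sb E15580 F99342)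
theorem E16351 : n28059 = n27351 := (((iv F124914)).symm.trans (sb E15580 (iv F122003)))
theorem F135308 : act 8 n21607 = n17344 := (sb E15581 F99272)
theorem F135309 : act 9 n21607 = n17334 := (sb E15581 (iv D22204))
theorem F135310 : act 4 n18586 = n17363 := (sb E15582 F99413)
theorem E16353 : n28077 = n23488 := (((D23488).symm.trans (sb E15582 (iv F124993)))).symm
theorem F135311 : act 4 n18587 = n17350 := (sb E15584 F99346)
theorem E16356 : n27350 = n23465 := ((((iv F105152)).symm.trans (sb E15584 (iv F121998)))).symm
theorem F135312 : act 4 n18570 = n17351 := (sb E15587 F96858)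
theorem F135313 : act 2 n22223 = n28072 := (sb E15588 (iv F124967))
theorem E16357 : n28156 = n28078 := (((D28078).symm.trans (sb E15588 (iv F125383)))).symm
theorem F135314 : act 3 n13493 = n17367 := (sb E15589 F99432)
theorem E16358 : n28079 = n17416 := (((D17416).symm.trans (sb E15589 (iv F125001)))).symm
theorem F135315 : act 3 n13494 = n17354 := (sb E15591 F99357)
theorem F135316 : act 9 n13494 = n17351 := (sb E15591 (iv D22225))
theorem E16359 : n28153 = n28081 := ((((iv F125010)).symm.trans (sb E15593 D28153))).symm
theorem F135317 : act 4 n18564 = n16888 := (sb E15602 F96833)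
theorem E16363 : n27345 = n23459 := (((D23459).symm.trans (sb E15602 (iv F121972)))).symm
theorem F135318 : act 1 n19823 = n15585 := (sb E15605 F90315)
theorem F135319 : act 3 n19823 = n15865 := (sb E15605 F90317)
theorem F135320 : act 6 n19823 = n15584 := (sb E15605 (iv D19908))
theorem E16367 : n25216 = n25096 := (((D25096).symm.trans (sb E15605 D25216))).symm
theorem E16368 : n25198 = n25097 := (((D25097).symm.trans (sb E15605 (iv F113517)))).symm
theorem F135321 : act 3 n19115 = n16754 := (sb E15609 F96095)
theorem E16371 : n27132 = n24209 := ((((iv F108816)).symm.trans (sb E15609 D27132))).symm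
theorem E16372 : n27119 = n24196 := ((((iv F108742)).symm.trans (sb E15610 (iv F120881)))).symm
theorem F135322 : act 1 n20808 = n17431 := (sb E15614 F99738)
theorem F135323 : act 4 n20808 = n25700 := (sb E15614 (iv F115421))
theorem E16373 : n28168 = n26360 := ((((iv F117802)).symm.trans (sb E15614 D28168))).symm
theorem E16374 : n26393 = n25698 := ((D26393).symm.trans (sb E15614 (iv F115414)))
theorem F135324 : act 8 n20266 = n16670 := (sb E15615 (iv D21340))
theorem F135325 : act 5 n22314 = n17454 := (sb E15618 F99833)
theorem F135326 : act 5 n17433 = n22245 := (sb E15622 F125119)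
theorem F135327 : act 1 n20778 = n17445 := (sb E15627 F99784)
theorem F135328 : act 1 n22328 = n26359 := (sb E15628 (iv F117796))
theorem F135329 : act 3 n17415 = n22245 := (sb E15632 F125108)
theorem F135330 : act 1 n20545 = n16812 := (sb E15654 F96209)
theorem E16391 : n27163 = n26076 := ((((iv F116712)).symm.trans (sb E15654 (iv F121063)))).symm
theorem E16392 : n27176 = n26077 := ((((iv F116718)).symm.trans (sb E15654 D27176))).symm
theorem F135331 : act 1 n20556 = n16814 := (sb E15655 F96216)
theorem F135332 : act 3 n20556 = n16775 := (sb E15655 F96217)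
theorem F135333 : act 1 n20543 = n16806 := (sb E15656 F96173)
theorem E16393 : n27160 = n26072 := ((((iv F116696)).symm.trans (sb E15656 (iv F121053)))).symm
theorem F135334 : act 4 n20543 = n16766 := (sb E15656 (iv D21452))
theorem E16394 : n27824 = n27240 := ((((iv F121465)).symm.trans (sb E15657 (iv F123897)))).symm
theorem E16395 : n27828 = n27245 := (((D27245).symm.trans (sb E15657 (iv F123917)))).symm
theorem E16397 : n27819 = n27237 := ((((iv F121452)).symm.trans (sb E15659 (iv F123875)))).symm
theorem F135335 : act 4 n12135 = n15251 := (sb E15665 F88324)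
theorem E16403 : n24688 = n15587 := (((D15587).symm.trans (sb E15665 D24688))).symm
theorem F135336 : act 3 n19487 = n15565 := (sb E15668 F90209)
theorem F135337 : act 6 n19487 = n15569 := (sb E15668 F90211)
theorem F135338 : act 5 n19486 = n15565 := (sb E15669 F90216)
theorem F135339 : act 3 n20935 = n26455 := (sb E15670 (iv F118215))
theorem F135340 : act 6 n20935 = n23530 := (sb E15670 (iv F105502))
theorem F135341 : act 4 n18637 = n16416 := (sb E15671 F94372)
theorem F135342 : act 2 n18555 = n17703 := (sb E15676 F101056)
theorem F135343 : act 6 n18551 = n17703 := (sb E15679 (iv D22645))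
theorem F135344 : act 2 n18551 = n17599 := (sb E15683 F100472)
theorem F135345 : act 5 n13707 = n17599 := (sb E15685 F100483)
theorem F135346 : act 4 n21981 = n17706 := (sb E15687 F101082)
theorem F135347 : act 8 n21981 = n17703 := (sb E15687 (iv D22646))
theorem F135348 : act 1 n21888 = n26700 := (sb E15688 (iv F119105))
theorem F135349 : act 3 n21888 = n17709 := (sb E15688 F101098)
theorem F135350 : act 9 n21888 = n17706 := (sb E15688 (iv D22650))
theorem F135351 : act 1 n21980 = n26697 := (sb E15689 (iv F119092))
theorem F135352 : act 8 n18638 = n23455 := (sb E15715 (iv F105096))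
theorem E16417 : n25673 = n23520 := ((((iv F105448)).symm.trans (sb E15723 (iv F115313)))).symm
theorem F135353 : act 6 n18624 = n16877 := (sb E15723 (iv D21604))
theorem E16418 : n27349 = n23537 := ((((iv F105536)).symm.trans (sb E15723 D27349))).symm
theorem F135354 : act 1 n26753 = n21875 := (sb E15724 F123393)
theorem F135355 : act 4 n23483 = n21630 := (sb E15731 F122023)
theorem F135356 : act 9 n23483 = n21611 := (sb E15731 (iv D27355))
theorem F135357 : act 3 n16882 = n18585 := (sb E15732 F105244)
theorem F135358 : act 9 n16882 = n18582 := (sb E15732 (iv D23484))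
theorem F135359 : act 3 n23486 = n21611 := (sb E15733 F122010)
theorem F135360 : act 8 n23486 = n21608 := (sb E15733 (iv D27353))
theorem F135361 : act 2 n16879 = n18570 := (sb E15734 F105136)
theorem F135362 : act 8 n16879 = n18585 := (sb E15734 F105140)
theorem F135363 : act 9 n16879 = n18567 := (sb E15734 (iv D23463))
theorem F135364 : act 8 n24136 = n21655 := (sb E15740 (iv D27396))
theorem F135365 : act 3 n23451 = n19899 := (sb E15742 F113531)
theorem F135366 : act 8 n23451 = n19896 := (sb E15742 (iv D25203))
theorem F135367 : act 3 n23452 = n19914 := (sb E15743 F113612)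
theorem E16424 : n19912 = n19482 := (((F105080).symm.trans (sb E15743 (iv D25222)))).symm
theorem F135368 : act 3 n15247 = n12136 := (sb E15744 F71373)
theorem F135369 : act 5 n15247 = n12135 := (sb E15744 (iv D15586))
theorem F135370 : act 3 n23499 = n20292 := (sb E15745 F113593)
theorem F135371 : act 5 n23499 = n19910 := (sb E15745 F113594)
theorem F135372 : act 1 n23515 = n18868 := (sb E15746 F107204)
theorem F135373 : act 6 n23515 = n18867 := (sb E15746 (iv D23869))
theorem F135374 : act 1 n23516 = n18914 := (sb E15747 F107511)
theorem F135375 : act 6 n23516 = n18921 := (sb E15747 F107513)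
theorem F135376 : act 1 n23517 = n18893 := (sb E15748 F107386)
theorem F135377 : act 6 n23517 = n18892 := (sb E15748 (iv D23903))
theorem F135378 : act 3 n16411 = n18638 := (sb E15750 F105647)
theorem F135379 : act 5 n16411 = n18637 := (sb E15750 F105648)
theorem F135380 : act 0 n23503 = n19910 := (sb E15751 F105633)
theorem F135381 : act 2 n23503 = n18637 := (sb E15751 F105634)
theorem F135382 : act 3 n23503 = n18914 := (sb E15751 F105635)
theorem F135383 : act 6 n23503 = n18642 := (sb E15751 F105637)
theorem F135384 : act 0 n23504 = n19895 := (sb E15752 F105545)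
theorem F135385 : act 2 n23504 = n18626 := (sb E15752 F105546)
theorem F135386 : act 3 n23504 = n18893 := (sb E15752 F105547)
theorem F135387 : act 6 n23504 = n18625 := (sb E15752 (iv D23539))
theorem F135388 : act 9 n23504 = n20251 := (sb E15752 F105550)
theorem F135389 : act 4 n24704 = n19860 := (sb E15769 F113300)
theorem F135390 : act 6 n24704 = n19855 := (sb E15769 (iv D25143))
theorem F135391 : act 4 n24709 = n19892 := (sb E15770 F113495)
theorem F135392 : act 6 n24709 = n19890 := (sb E15770 F113496)
theorem F135393 : act 3 n17600 = n13707 := (sb E15871 F79541)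
theorem F135394 : act 8 n17600 = n18565 := (sb E15871 (iv F83867))
theorem F135395 : act 3 n16875 = n18567 := (sb E15873 F105121)
theorem F135396 : act 8 n16875 = n18564 := (sb E15873 (iv D23460))
theorem F135397 : act 3 n24139 = n21655 := (sb E16033 F122205)
theorem F135398 : act 3 n24176 = n21650 := (sb E16034 F122175)
theorem F135399 : act 3 n24108 = n19869 := (sb E16036 F113371)
theorem F135400 : act 3 n24140 = n21649 := (sb E16037 F122171)
theorem F135401 : act 4 n15576 = n19488 := (sb E16038 F111095)
theorem F135402 : act 3 n24698 = n19870 := (sb E16040 F113375)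
theorem F135403 : act 4 n24698 = n19897 := (sb E16040 F113376)
theorem F135404 : act 6 n24698 = n19874 := (sb E16040 F113377)
theorem F135405 : act 9 n23839 = n19488 := (sb E16041 (iv D24699))
theorem F135406 : act 8 n24135 = n21415 := (sb E16042 (iv D27108))
theorem F135407 : act 8 n24105 = n19869 := (sb E16043 (iv D25164))
theorem F135408 : act 1 n25988 = n21804 := (sb E16057 F122492)
theorem F135409 : act 1 n26001 = n21806 := (sb E16058 F122497)
theorem F135410 : act 3 n26001 = n21710 := (sb E16058 F122498)
theorem F135411 : act 1 n26002 = n21793 := (sb E16059 F122461)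
theorem F135412 : act 3 n26002 = n21701 := (sb E16059 F122462)
theorem F135413 : act 1 n25986 = n21490 := (sb E16060 F120979)
theorem F135414 : act 4 n25986 = n21438 := (sb E16060 (iv D27141))
theorem F135415 : act 1 n25946 = n21760 := (sb E16061 F122398)
theorem F135416 : act 1 n25989 = n21792 := (sb E16062 F122458)
theorem F135417 : act 1 n25955 = n21761 := (sb E16063 F122400)
theorem F135418 : act 3 n25955 = n21689 := (sb E16063 F122401)
theorem F135419 : act 6 n25605 = n20487 := (sb E16064 F116309)
theorem F135420 : act 9 n25605 = n20455 := (sb E16064 (iv D25956))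
theorem F135421 : act 1 n23644 = n21794 := (sb E16065 F122465)
theorem F135422 : act 3 n23644 = n21702 := (sb E16065 F122466)
theorem F135423 : act 1 n25996 = n21494 := (sb E16066 F120990)
theorem F135424 : act 8 n25996 = n21440 := (sb E16066 (iv D27145))
theorem F135425 : act 1 n25998 = n21809 := (sb E16067 F122506)
theorem F135426 : act 8 n25998 = n21710 := (sb E16067 (iv D27475))
theorem F135427 : act 1 n23640 = n21810 := (sb E16068 F122508)
theorem F135428 : act 1 n25984 = n21492 := (sb E16069 F120985)
theorem F135429 : act 8 n25984 = n21438 := (sb E16069 (iv D27143))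
theorem F135430 : act 4 n25614 = n20452 := (sb E16070 (iv D25951))
theorem F135431 : act 6 n25614 = n20482 := (sb E16070 F116293)
theorem F135432 : act 1 n23639 = n21495 := (sb E16071 F120994)
theorem F135433 : act 1 n25952 = n21764 := (sb E16072 F122409)
theorem F135434 : act 8 n25952 = n21689 := (sb E16072 (iv D27442))
theorem F135435 : act 1 n23631 = n21765 := (sb E16073 F122412)
theorem F135436 : act 1 n23641 = n21797 := (sb E16074 F122473)
theorem F135437 : act 9 n23641 = n21702 := (sb E16074 (iv D27463))
theorem F135438 : act 9 n25604 = n20936 := (sb E16077 (iv D26553))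
theorem F135439 : act 0 n23457 = n19896 := (sb E16078 F105551)
theorem F135440 : act 3 n23457 = n18627 := (sb E16078 F105553)
theorem F135441 : act 5 n23457 = n18626 := (sb E16078 (iv D23540))
theorem F135442 : act 9 n23457 = n20252 := (sb E16078 F105555)
theorem F135443 : act 4 n23541 = n21029 := (sb E16079 F118991)
theorem F135444 : act 9 n25606 = n21029 := (sb E16081 (iv D26683))
theorem F135445 : act 4 n17158 = n21516 := (sb E16082 F121512)
theorem F135446 : act 3 n17067 = n21764 := (sb E16096 F122784)
theorem F135447 : act 8 n17067 = n21761 := (sb E16096 (iv D27543))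
theorem F135448 : act 4 n27224 = n21752 := (sb E16098 (iv D27528))
theorem F135449 : act 6 n27224 = n21782 := (sb E16098 F122716)
theorem F135450 : act 2 n27529 = n21881 := (sb E16099 F123409)
theorem F135451 : act 8 n27529 = n21876 := (sb E16099 (iv D27687))
theorem F135452 : act 3 n17095 = n21810 := (sb E16104 F123037)
theorem F135453 : act 2 n17096 = n21760 := (sb E16105 F122754)
theorem F135454 : act 3 n17096 = n21797 := (sb E16105 F122755)
theorem F135455 : act 9 n17096 = n21794 := (sb E16105 F122758)
theorem F135456 : act 2 n27532 = n21761 := (sb E16106 F122761)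
theorem F135457 : act 3 n27532 = n21876 := (sb E16106 F122762)
theorem F135458 : act 5 n27532 = n21759 := (sb E16106 F122763)
theorem F135459 : act 6 n27278 = n21787 := (sb E16107 F122741)
theorem F135460 : act 9 n27278 = n21755 := (sb E16107 (iv D27533))
theorem F135461 : act 8 n17089 = n21804 := (sb E16108 (iv D27598))
theorem F135462 : act 5 n27578 = n21941 := (sb E16126 (iv D27763))
theorem F135463 : act 3 n17104 = n21809 := (sb E16129 F123034)
theorem F135464 : act 8 n17104 = n21806 := (sb E16129 (iv D27600))
theorem F135465 : act 3 n27193 = n21782 := (sb E16130 F122827)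
theorem F135466 : act 2 n27573 = n21939 := (sb E16131 F123629)
theorem F135467 : act 8 n27573 = n21933 := (sb E16131 (iv D27757))
theorem F135468 : act 2 n27575 = n21941 := (sb E16132 F123634)
theorem F135469 : act 8 n27575 = n21935 := (sb E16132 (iv D27758))
theorem F135470 : act 3 n27546 = n21770 := (sb E16133 F122832)
theorem F135471 : act 5 n27546 = n21769 := (sb E16133 F122833)
theorem F135472 : act 3 n27285 = n21771 := (sb E16134 F122836)
theorem F135473 : act 2 n27555 = n21804 := (sb E16135 F123010)
theorem F135474 : act 4 n27282 = n21787 := (sb E16136 F122852)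
theorem F135475 : act 9 n27282 = n21771 := (sb E16136 (iv D27556))
theorem F135476 : act 2 n27578 = n21806 := (sb E16137 F123014)
theorem F135477 : act 3 n27578 = n21935 := (sb E16137 F123015)
theorem F135478 : act 2 n27579 = n21793 := (sb E16138 F122970)
theorem F135479 : act 3 n27579 = n21921 := (sb E16138 F122971)
theorem F135480 : act 5 n27579 = n21791 := (sb E16138 F122972)
theorem F135481 : act 8 n27280 = n21787 := (sb E16139 F122909)
theorem F135482 : act 2 n27540 = n21903 := (sb E16140 F122900)
theorem F135483 : act 5 n27540 = n22203 := (sb E16140 F122902)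
theorem F135484 : act 8 n27540 = n21776 := (sb E16140 (iv D27565))
theorem F135485 : act 1 n16878 = n18624 := (sb E16144 F105026)
theorem F135486 : act 5 n16878 = n18570 := (sb E16144 F105030)
theorem F135487 : act 9 n16878 = n18552 := (sb E16144 (iv D23445))
theorem F135488 : act 2 n23444 = n21600 := (sb E16145 F121938)
theorem F135489 : act 4 n23444 = n21759 := (sb E16145 F121940)
theorem F135490 : act 6 n23444 = n21981 := (sb E16145 F121941)
theorem F135491 : act 9 n23444 = n21606 := (sb E16145 F121943)
theorem F135492 : act 3 n23462 = n21601 := (sb E16150 F121952)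
theorem F135493 : act 5 n23462 = n21600 := (sb E16150 F121953)
theorem F135494 : act 9 n23462 = n21608 := (sb E16150 F121954)
theorem F135495 : act 8 n27542 = n21859 := (sb E16152 (iv D27669))
theorem F135496 : act 8 n27220 = n21890 := (sb E16155 (iv D27703))
theorem F135497 : act 8 n27597 = n21892 := (sb E16157 (iv D27705))
theorem F135498 : act 9 n27586 = n21903 := (sb E16160 (iv D27719))
theorem F135499 : act 5 n17128 = n21935 := (sb E16165 F123544)
theorem F135500 : act 5 n17125 = n21809 := (sb E16167 (iv D27602))
theorem F135501 : act 4 n27223 = n21890 := (sb E16169 F123451)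
theorem F135502 : act 3 n27545 = n21859 := (sb E16172 F123334)
theorem F135503 : act 5 n27545 = n21880 := (sb E16172 F123335)
theorem F135504 : act 3 n27603 = n21902 := (sb E16173 F123503)
theorem F135505 : act 5 n27603 = n21923 := (sb E16173 F123504)
theorem F135506 : act 3 n27588 = n21903 := (sb E16174 F123507)
theorem F135507 : act 5 n27686 = n21883 := (sb E16183 (iv D27692))
theorem F135508 : act 3 n25624 = n21111 := (sb E16194 (iv D26790))
theorem F135509 : act 1 n26062 = n21933 := (sb E16195 F123613)
theorem F135510 : act 4 n25621 = n21112 := (sb E16196 F119426)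
theorem F135511 : act 9 n25621 = n21111 := (sb E16196 (iv D26791))
theorem F135512 : act 1 n26032 = n21935 := (sb E16197 F123619)
theorem F135513 : act 1 n26063 = n21921 := (sb E16198 F123582)
theorem F135514 : act 8 n25619 = n21112 := (sb E16199 (iv D26792))
theorem F135515 : act 5 n27742 = n21944 := (sb E16210 F123658)
theorem F135516 : act 2 n27691 = n21890 := (sb E16212 F123444)
theorem F135517 : act 5 n27691 = n21888 := (sb E16212 F123445)
theorem F135518 : act 3 n25658 = n20535 := (sb E16215 (iv D26064))
theorem F135519 : act 4 n25656 = n20536 := (sb E16217 F116676)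
theorem F135520 : act 9 n25656 = n20535 := (sb E16217 (iv D26065))
theorem F135521 : act 2 n17202 = n21595 := (sb E16231 F121581)
theorem F135522 : act 2 n17193 = n21596 := (sb E16233 F121586)
theorem F135523 : act 5 n17193 = n21526 := (sb E16233 F121587)
theorem F135524 : act 3 n27322 = n21595 := (sb E16235 (iv D27334))
theorem F135525 : act 2 n27332 = n22028 := (sb E16237 F124070)
theorem F135526 : act 4 n27320 = n21596 := (sb E16238 F121909)
theorem F135527 : act 9 n27320 = n21595 := (sb E16238 (iv D27335))
theorem F135528 : act 8 n27319 = n21596 := (sb E16241 (iv D27336))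
theorem F135529 : act 3 n23877 = n19552 := (sb E16243 (iv D24783))
theorem F135530 : act 8 n24194 = n21423 := (sb E16273 (iv D27121))
theorem F135531 : act 8 n24205 = n21425 := (sb E16274 (iv D27123))
theorem F135532 : act 8 n24207 = n21433 := (sb E16275 (iv D27135))
theorem F135533 : act 8 n26070 = n21450 := (sb E16294 (iv D27162))
theorem F135534 : act 1 n26073 = n21515 := (sb E16295 F121075)
theorem F135535 : act 8 n26073 = n21453 := (sb E16295 (iv D27166))
theorem F135536 : act 1 n23548 = n21516 := (sb E16296 F121078)
theorem F135537 : act 1 n26088 = n21517 := (sb E16297 F121082)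
theorem F135538 : act 8 n26088 = n21455 := (sb E16297 (iv D27168))
theorem F135539 : act 1 n23662 = n21518 := (sb E16298 F121086)
theorem F135540 : act 1 n23663 = n21526 := (sb E16299 F121144)
theorem F135541 : act 4 n17163 = n21511 := (sb E16306 F121473)
theorem F135542 : act 8 n17163 = n21509 := (sb E16306 (iv D27241))
theorem F135543 : act 4 n17166 = n21515 := (sb E16307 F121500)
theorem F135544 : act 8 n17166 = n21512 := (sb E16307 (iv D27246))
theorem F135545 : act 8 n17168 = n21519 := (sb E16308 (iv D27254))
theorem F135546 : act 3 n17176 = n21526 := (sb E16310 F121576)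
theorem F135547 : act 4 n27239 = n21986 := (sb E16311 (iv D27817))
theorem F135548 : act 4 n27243 = n21989 := (sb E16312 F123886)
theorem F135549 : act 4 n27244 = n21980 := (sb E16313 (iv D27811))
theorem F135550 : act 4 n27249 = n21993 := (sb E16314 F123904)
theorem F135551 : act 4 n27250 = n21983 := (sb E16315 F123854)
theorem F135552 : act 4 n27251 = n22028 := (sb E16316 F124029)
theorem F135553 : act 0 n25444 = n22124 := (sb E16326 F124235)
theorem F135554 : act 6 n25444 = n22058 := (sb E16326 (iv D27896))
theorem F135555 : act 0 n25445 = n22134 := (sb E16327 F124279)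
theorem F135556 : act 0 n25347 = n22135 := (sb E16328 F124284)
theorem F135557 : act 0 n25336 = n21702 := (sb E16329 F122183)
theorem F135558 : act 8 n25336 = n21649 := (sb E16329 (iv D27387))
theorem F135559 : act 1 n23731 = n22223 := (sb E16342 F124596)
theorem F135560 : act 3 n23731 = n22134 := (sb E16342 F124597)
theorem F135561 : act 1 n23654 = n22224 := (sb E16344 F124600)
theorem F135562 : act 3 n23654 = n22135 := (sb E16344 F124601)
theorem F135563 : act 1 n23650 = n22245 := (sb E16346 F124677)
theorem F135564 : act 1 n23651 = n22227 := (sb E16347 F124611)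
theorem F135565 : act 9 n23651 = n22135 := (sb E16347 (iv D27983))
theorem F135566 : act 8 n27351 = n22217 := (sb E16351 F124914)
theorem F135567 : act 9 n27351 = n22203 := (sb E16351 (iv D28059))
theorem F135568 : act 4 n23488 = n22223 := (sb E16353 F124991)
theorem F135569 : act 2 n23465 = n21608 := (sb E16356 F121994)
theorem F135570 : act 4 n23465 = n22224 := (sb E16356 F121996)
theorem F135571 : act 5 n23465 = n21606 := (sb E16356 F121997)
theorem F135572 : act 9 n28078 = n22298 := (sb E16357 (iv D28156))
theorem F135573 : act 3 n17416 = n22227 := (sb E16358 F124999)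
theorem F135574 : act 9 n17416 = n22224 := (sb E16358 (iv D28079))
theorem F135575 : act 3 n28081 = n22298 := (sb E16359 F125368)
theorem F135576 : act 4 n23459 = n21621 := (sb E16363 F121970)
theorem F135577 : act 8 n23459 = n21601 := (sb E16363 (iv D27345))
theorem F135578 : act 1 n25096 = n19910 := (sb E16367 F113584)
theorem F135579 : act 3 n25096 = n20290 := (sb E16367 F113586)
theorem F135580 : act 6 n25096 = n19917 := (sb E16367 F113587)
theorem F135581 : act 1 n25097 = n19895 := (sb E16368 F113514)
theorem F135582 : act 3 n25097 = n20263 := (sb E16368 F113516)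
theorem F135583 : act 6 n25097 = n19894 := (sb E16368 (iv D25198))
theorem F135584 : act 3 n24209 = n21433 := (sb E16371 F120944)
theorem F135585 : act 4 n24196 = n21423 := (sb E16372 (iv D27119))
theorem F135586 : act 1 n26360 = n22314 := (sb E16373 F125432)
theorem F135587 : act 8 n25698 = n20808 := (sb E16374 (iv D26393))
theorem F135588 : act 1 n26076 = n21512 := (sb E16391 F121062)
theorem F135589 : act 4 n26076 = n21453 := (sb E16391 F121064)
theorem F135590 : act 1 n26077 = n21519 := (sb E16392 F121117)
theorem F135591 : act 4 n26072 = n21450 := (sb E16393 (iv D27160))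
theorem F135592 : act 8 n27240 = n21989 := (sb E16394 (iv D27824))
theorem F135593 : act 8 n27245 = n21993 := (sb E16395 (iv D27828))
theorem F135594 : act 8 n27237 = n21986 := (sb E16397 (iv D27819))
theorem F135595 : act 4 n15587 = n19487 := (sb E16403 F111090)
theorem F135596 : act 1 n23520 = n20251 := (sb E16417 F115312)
theorem F135597 : act 6 n23520 = n20250 := (sb E16417 (iv D25673))
theorem F135598 : act 1 n23537 = n21606 := (sb E16418 F121989)
theorem F135599 : act 6 n23537 = n21987 := (sb E16418 F121991)
theorem F135600 : act 3 n19482 = n15588 := (sb E16424 F90332)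
theorem F135601 : act 5 n19482 = n15587 := (sb E16424 F90333)
theorem E16541 : n27816 = n25196 := (c5_2 F135599 (iv F123866) F113507 (iv F105533))
theorem F135602 : act 0 n25196 = n21987 := (sb E16541 F123866)
theorem F135603 : act 7 n25196 = n21985 := (sb E16541 (iv D27816))
theorem E16542 : n25674 = n23598 := (c12_3 (iv F105449) F135596 D25674 F105860)
theorem F135604 : act 2 n23598 = n20252 := (sb E16542 F115315)
theorem F135605 : act 5 n23598 = n20251 := (sb E16542 (iv D25674))
theorem E16543 : n25199 = n23580 := (c12_3 (iv F113127) F135581 D25199 F105782)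
theorem F135606 : act 2 n23580 = n19896 := (sb E16543 F113518)
theorem F135607 : act 3 n23580 = n20264 := (sb E16543 F113519)
theorem F135608 : act 5 n23580 = n19895 := (sb E16543 (iv D25199))
theorem E16544 : n23904 = n23595 := (c2_2 F135607 (iv F107389) F105852 (iv F105781))
theorem F135609 : act 0 n23595 = n20264 := (sb E16544 F107389)
theorem F135610 : act 2 n23595 = n18894 := (sb E16544 F107390)
theorem F135611 : act 5 n23595 = n18893 := (sb E16544 (iv D23904))
theorem E16545 : n25225 = n25113 := (c5_2 F135580 (iv F113626) (iv D25113) (iv F113121))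
theorem F135612 : act 0 n25113 = n19917 := (sb E16545 F113626)
theorem F135613 : act 3 n25113 = n20297 := (sb E16545 F113628)
theorem F135614 : act 7 n25113 = n19916 := (sb E16545 (iv D25225))
theorem E16546 : n25148 = n23937 := ((c10_2 F135613 (iv F107552) F113315 (iv F113186))).symm
theorem F135615 : act 3 n23937 = n19860 := (sb E16546 F113315)
theorem F135616 : act 6 n23937 = n19858 := (sb E16546 (iv D25148))
theorem E16547 : n27893 = n25201 := ((c3_3 (iv F105105) F135439 D25201 F124223)).symm
theorem F135617 : act 0 n25201 = n22116 := (sb E16547 F124223)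
theorem F135618 : act 8 n25201 = n22052 := (sb E16547 (iv D27893))
theorem E16548 : n23870 = n23762 := (c12_3 (iv F105428) F135372 D23870 F106681)
theorem F135619 : act 0 n23762 = n20230 := (sb E16548 F107208)
theorem F135620 : act 2 n23762 = n18869 := (sb E16548 F107209)
theorem F135621 : act 5 n23762 = n18868 := (sb E16548 (iv D23870))
def n29202 : Q := act 7 n23451
theorem D29202 : act 7 n23451 = n29202 := rfl
theorem F135622 : act 0 n29202 = n23456 := d6_1 D29202 (iv D23456) (iv F105069)
theorem F135623 : act 1 n29202 = n29202 := d14_1 D29202 (iv D29202) F105070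
theorem F135624 : act 2 n29202 = n23579 := d21_1 D29202 (iv D23579) (iv F105071)
theorem F135625 : act 3 n29202 = n25205 := d27_1 D29202 F113541 (iv F135365)
theorem F135626 : act 4 n29202 = n27892 := d32_1 D29202 (iv D27892) (iv F105072)
theorem F135627 : act 5 n29202 = n23452 := d36_1 D29202 (iv D23452) D23451
theorem F135628 : act 8 n29202 = n25202 := d42_2 (iv F135366) D29202 (iv D25202)
theorem F135629 : act 9 n29202 = n23470 := d43_2 (iv F105074) D29202 (iv D23470)
def n29203 : Q := act 7 n23454
theorem D29203 : act 7 n23454 = n29203 := rfl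
theorem F135630 : act 0 n29203 = n25205 := d6_1 D29203 F113541 (iv F135099)
theorem F135631 : act 1 n29203 = n23459 := d14_1 D29203 (iv D23459) (iv F105088)
theorem F135632 : act 2 n29203 = n23910 := d21_1 D29203 F107418 (iv F135100)
theorem F135633 : act 3 n29203 = n23456 := d27_1 D29203 (iv D23456) (iv F105089)
theorem F135634 : act 4 n29203 = n25690 := d32_1 D29203 F115382 (iv F135101)
theorem F135635 : act 5 n29203 = n23455 := d36_1 D29203 (iv D23455) D23454
theorem F135636 : act 8 n29203 = n23542 := d42_2 (iv F135102) D29203 (iv D23542)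
theorem F135637 : act 9 n29203 = n23475 := d43_2 (iv F105091) D29203 (iv D23475)
def n29204 : Q := act 6 n23456
theorem D29204 : act 6 n23456 = n29204 := rfl
theorem F135638 : act 1 n29204 = n23461 := d13_1 D29204 (iv D23461) (iv F105098)
theorem F135639 : act 2 n29204 = n23596 := d20_1 D29204 (iv D23596) (iv F105099)
theorem F135640 : act 4 n29204 = n27961 := d31_1 D29204 (iv D27961) (iv F105100)
theorem F135641 : act 5 n29204 = n29204 := d35_1 D29204 (iv D29204) F105101 F83854 (iv F105101)
theorem F135642 : act 7 n29204 = n29204 := d39_2 D23456 D29204 (iv D29204) (iv D23456) F83849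
theorem F135643 : act 9 n29204 = n23477 := d41_2 (iv F105102) D29204 (iv D23477)
def n29205 : Q := act 8 n23456
theorem D29205 : act 8 n23456 = n29205 := rfl
theorem F135644 : act 0 n29205 = n25202 := d7_1 D29205 (iv F135628) F135622
theorem F135645 : act 1 n29205 = n23462 := d15_1 D29205 (iv D23462) (iv F105098)
theorem F135646 : act 2 n29205 = n23597 := d22_1 D29205 (iv D23597) (iv F105099)
theorem F135647 : act 3 n29205 = n23542 := d28_1 D29205 (iv F135636) F135633
theorem F135648 : act 4 n29205 = n27962 := d33_1 D29205 (iv D27962) (iv F105100)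
theorem F135649 : act 5 n29205 = n23541 := d37_1 D29205 F105561 (iv F135379) (iv F83855) (iv F105101)
theorem F135650 : act 7 n29205 = n23457 := d42_1 D29205 (iv D23457) D23456
theorem F135651 : act 9 n25677 = n29205 := d43_0 F135650 F135442 D25677
def n29206 : Q := act 6 n23459
theorem D29206 : act 6 n23459 = n29206 := rfl
theorem F135652 : act 0 n29206 = n29206 := d5_1 D29206 (iv D29206) F105114
theorem F135653 : act 2 n29206 = n29206 := d20_1 D29206 (iv D29206) F105115
theorem F135654 : act 3 n29206 = n23461 := d26_1 D29206 (iv D23461) (iv F105116)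
theorem F135655 : act 4 n29206 = n27362 := d31_1 D29206 F122062 (iv F135576)
theorem F135656 : act 5 n29206 = n29206 := d35_1 D29206 (iv D29206) F105117 F83866 (iv F105117)
theorem F135657 : act 7 n29206 = n29206 := d39_2 D23459 D29206 (iv D29206) (iv D23459) F83860
theorem F135658 : act 8 n29206 = n27344 := d40_2 (iv F135577) D29206 (iv D27344)
theorem F135659 : act 9 n29206 = n23482 := d41_2 (iv F105118) D29206 (iv D23482)
def n29207 : Q := act 8 n23461
theorem D29207 : act 8 n23461 = n29207 := rfl
theorem F135660 : act 0 n29207 = n29207 := d7_1 D29207 (iv D29207) F105124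
theorem F135661 : act 2 n29207 = n23464 := d22_1 D29207 (iv D23464) (iv F105125)
theorem F135662 : act 3 n29207 = n27344 := d28_1 D29207 (iv F135658) F135654
theorem F135663 : act 4 n29207 = n28058 := d33_1 D29207 (iv D28058) (iv F105126)
theorem F135664 : act 6 n29207 = n23462 := d40_1 D29207 (iv D23462) D23461
theorem F135665 : act 7 n29207 = n29207 := d42_1 D29207 (iv D29207) F105128
theorem F135666 : act 5 n27814 = n29207 := d35_5 F135664 F135493 F96823 (iv F98346) D27814
theorem F135667 : act 9 n27352 = n29207 := d41_0 F135664 F135494 D27352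
def n29208 : Q := act 5 n23464
theorem D29208 : act 5 n23464 = n29208 := rfl
theorem F135668 : act 0 n29208 = n29208 := d4_1 D29208 (iv D29208) F105141
theorem F135669 : act 1 n29208 = n23655 := d12_1 D29208 (iv D23655) (iv F105142)
theorem F135670 : act 2 n29208 = n27814 := d19_1 D29208 F135666 F135661
theorem F135671 : act 3 n29208 = n29208 := d25_1 D29208 (iv D29208) F105143
theorem F135672 : act 6 n29208 = n27812 := d35_2 (iv F105145) D29208 F123849 (iv F135490) F105023
theorem F135673 : act 7 n29208 = n29208 := d36_2 F105146 D29208 (iv D29208)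
theorem F135674 : act 8 n29208 = n29208 := d37_2 D23464 D29208 (iv D29208) (iv D23464) F83883
theorem F135675 : act 9 n27823 = n29208 := d41_0 F135672 F123851 D27823
def n29209 : Q := act 9 n23464
theorem D29209 : act 9 n23464 = n29209 := rfl
theorem F135676 : act 0 n29209 = n29209 := d8_1 D29209 (iv D29209) F105141
theorem F135677 : act 1 n29209 = n23656 := d16_1 D29209 (iv D23656) (iv F105142)
theorem F135678 : act 2 n29209 = n27352 := d23_1 D29209 F135667 F135661
theorem F135679 : act 3 n29209 = n29209 := d29_1 D29209 (iv D29209) F105143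
theorem F135680 : act 4 n29209 = n28078 := d34_1 D29209 F135572 (iv F105144)
theorem F135681 : act 5 n29209 = n27823 := d38_1 D29209 F135675 (iv D29208)
theorem F135682 : act 6 n29209 = n23465 := d41_1 D29209 (iv D23465) (iv F105145)
theorem F135683 : act 7 n29209 = n29209 := d43_1 D29209 (iv D29209) F105146
theorem F135684 : act 8 n29209 = n23488 := d44_1 D29209 (iv D23488) (iv D18586) (iv F83885) D23464
def n29210 : Q := act 4 n23468
theorem D29210 : act 4 n23468 = n29210 := rfl
theorem F135685 : act 0 n29210 = n23474 := d3_1 D29210 (iv D23474) (iv F105165)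
theorem F135686 : act 1 n29210 = n29210 := d11_1 D29210 (iv D29210) F105166
theorem F135687 : act 2 n29210 = n23476 := d18_1 D29210 F134393 (iv F135075)
theorem F135688 : act 3 n29210 = n23692 := d24_1 D29210 (iv F133861) F133860 (iv F83911) (iv F105167)
theorem F135689 : act 5 n29210 = n29210 := d30_2 D23468 D29210 (iv D29210) (iv D23468) F83906
theorem F135690 : act 6 n29210 = n29210 := d31_2 F105168 D29210 (iv D29210)
theorem F135691 : act 9 n29210 = n23901 := d34_2 (iv F135076) D29210 F107378
theorem F135692 : act 8 n23472 = n29210 := d44_5 F135691 (iv D23901) F85548 D18897 (iv F133687)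
def n29211 : Q := act 7 n23468
theorem D29211 : act 7 n23468 = n29211 := rfl
theorem F135693 : act 0 n29211 = n23475 := d6_1 D29211 (iv D23475) (iv F105165)
theorem F135694 : act 1 n29211 = n29211 := d14_1 D29211 (iv D29211) F105166
theorem F135695 : act 2 n29211 = n25702 := d21_1 D29211 F115432 (iv F135075)
theorem F135696 : act 3 n29211 = n23470 := d27_1 D29211 (iv D23470) (iv F105167)
theorem F135697 : act 5 n29211 = n23469 := d36_1 D29211 (iv D23469) D23468
theorem F135698 : act 9 n29211 = n25205 := d43_2 (iv F135076) D29211 F113541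
def n29212 : Q := act 8 n23468
theorem D29212 : act 8 n23468 = n29212 := rfl
theorem F135699 : act 0 n29212 = n23476 := d7_1 D29212 (iv D23476) (iv F105165)
theorem F135700 : act 1 n29212 = n29212 := d15_1 D29212 (iv D29212) F105166
theorem F135701 : act 2 n29212 = n23474 := d22_1 D29212 F135070 (iv F135075)
theorem F135702 : act 3 n29212 = n23471 := d28_1 D29212 (iv D23471) (iv F105167)
theorem F135703 : act 4 n29212 = n23472 := d33_1 D29212 F135692 (iv D29210)
theorem F135704 : act 5 n29212 = n29212 := d37_1 D29212 (iv D29212) (iv D23468) F83907 D23468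
theorem F135705 : act 6 n29212 = n29212 := d40_1 D29212 (iv D29212) F105168
theorem F135706 : act 9 n29212 = n23895 := d44_2 (iv F135076) D29212 (iv D23895) F85524 D19899
def n29213 : Q := act 6 n23470
theorem D29213 : act 6 n23470 = n29213 := rfl
theorem F135707 : act 0 n29213 = n23477 := d5_1 D29213 (iv D23477) (iv F105175)
theorem F135708 : act 1 n29213 = n29213 := d13_1 D29213 (iv D29213) F105176
theorem F135709 : act 2 n29213 = n23677 := d20_1 D29213 (iv D23677) (iv F105177)
theorem F135710 : act 4 n29213 = n25444 := d31_1 D29213 F135554 (iv F105178)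
theorem F135711 : act 5 n29213 = n29213 := d35_1 D29213 (iv D29213) F105179 F83917 (iv F105179)
theorem F135712 : act 7 n29213 = n29213 := d39_2 D23470 D29213 (iv D29213) (iv D23470) F83912
def n29214 : Q := act 8 n23470
theorem D29214 : act 8 n23470 = n29214 := rfl
theorem F135713 : act 0 n29214 = n23478 := d7_1 D29214 (iv D23478) (iv F105175)
theorem F135714 : act 1 n29214 = n29214 := d15_1 D29214 (iv D29214) F105176
theorem F135715 : act 2 n29214 = n23678 := d22_1 D29214 (iv D23678) (iv F105177)
theorem F135716 : act 4 n29214 = n24449 := d33_1 D29214 F133672 (iv F105178)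
theorem F135717 : act 5 n29214 = n29214 := d37_1 D29214 (iv D29214) F105179 F83918 (iv F105179)
theorem F135718 : act 7 n29214 = n23471 := d42_1 D29214 (iv D23471) D23470
def n29215 : Q := act 9 n23471
theorem D29215 : act 9 n23471 = n29215 := rfl
theorem F135719 : act 0 n29215 = n23479 := d8_1 D29215 (iv D23479) (iv F105180)
theorem F135720 : act 1 n29215 = n29215 := d16_1 D29215 (iv D29215) F105181
theorem F135721 : act 2 n29215 = n23679 := d23_1 D29215 (iv D23679) (iv F105182)
theorem F135722 : act 3 n29215 = n23895 := d29_1 D29215 (iv F135706) F135702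
theorem F135723 : act 4 n29215 = n24996 := d34_1 D29215 (iv D24996) (iv F133865)
theorem F135724 : act 5 n29215 = n29215 := d38_1 D29215 (iv D29215) F105184
theorem F135725 : act 6 n29215 = n29215 := d41_1 D29215 (iv D29215) F105185
theorem F135726 : act 8 n29215 = n23892 := d44_1 D29215 F107328 (iv F135366) F105074 D23471
def n29216 : Q := act 7 n23472
theorem D29216 : act 7 n23472 = n29216 := rfl
theorem F135727 : act 0 n29216 = n25702 := d6_1 D29216 F115432 (iv F133686)
theorem F135728 : act 1 n29216 = n29216 := d14_1 D29216 (iv D29216) F105186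
theorem F135729 : act 2 n29216 = n23475 := d21_1 D29216 (iv D23475) (iv F105187)
theorem F135730 : act 3 n29216 = n23691 := d27_1 D29216 (iv D23691) (iv F105188)
theorem F135731 : act 5 n29216 = n23473 := d36_1 D29216 (iv D23473) D23472
theorem F135732 : act 9 n29216 = n23910 := d43_2 (iv F133687) D29216 F107418
def n29217 : Q := act 7 n23474
theorem D29217 : act 7 n23474 = n29217 := rfl
theorem F135733 : act 1 n29217 = n23480 := d14_1 D29217 (iv D23480) (iv F105196)
theorem F135734 : act 3 n29217 = n26380 := d27_1 D29217 F117887 (iv F135069)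
theorem F135735 : act 4 n29217 = n23475 := d32_1 D29217 (iv D23475) D23474
theorem F135736 : act 5 n29217 = n29217 := d36_1 D29217 (iv D29217) F105198
theorem F135737 : act 8 n29217 = n25702 := d42_2 (iv F135070) D29217 F115432
theorem F135738 : act 9 n29217 = n25690 := d43_2 (iv F135071) D29217 F115382
def n29218 : Q := act 6 n23475
theorem D29218 : act 6 n23475 = n29218 := rfl
theorem F135739 : act 1 n29218 = n23482 := d13_1 D29218 (iv D23482) (iv F105200)
theorem F135740 : act 3 n29218 = n23477 := d26_1 D29218 (iv D23477) (iv F105201)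
theorem F135741 : act 5 n29218 = n29218 := d35_1 D29218 (iv D29218) F105202 F83930 (iv F105202)
theorem F135742 : act 7 n29218 = n29218 := d39_2 D23475 D29218 (iv D29218) (iv D23475) F83926
def n29219 : Q := act 8 n23475
theorem D29219 : act 8 n23475 = n29219 := rfl
theorem F135743 : act 1 n29219 = n23483 := d15_1 D29219 (iv D23483) (iv F105200)
theorem F135744 : act 3 n29219 = n23478 := d28_1 D29219 (iv D23478) (iv F105201)
theorem F135745 : act 4 n29219 = n25702 := d33_1 D29219 (iv F135737) F135735
theorem F135746 : act 5 n29219 = n29219 := d37_1 D29219 (iv D29219) F105202 F83931 (iv F105202)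
theorem F135747 : act 7 n29219 = n23476 := d42_1 D29219 (iv D23476) D23475
theorem F135748 : act 9 n29219 = n25680 := d44_2 F135637 D29219 (iv D25680) (iv F105568) (iv F135636)
def n29220 : Q := act 8 n23477
theorem D29220 : act 8 n23477 = n29220 := rfl
theorem F135749 : act 1 n29220 = n23485 := d15_1 D29220 (iv D23485) (iv F105207)
theorem F135750 : act 2 n29220 = n23698 := d22_1 D29220 (iv D23698) (iv F105208)
theorem F135751 : act 4 n29220 = n26357 := d33_1 D29220 F134958 (iv F105209)
theorem F135752 : act 6 n29220 = n23478 := d40_1 D29220 (iv D23478) D23477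
theorem F135753 : act 7 n29220 = n29220 := d42_1 D29220 (iv D29220) F105211
def n29221 : Q := act 9 n23478
theorem D29221 : act 9 n23478 = n29221 := rfl
theorem F135754 : act 1 n29221 = n23486 := d16_1 D29221 (iv D23486) (iv F105212)
theorem F135755 : act 2 n29221 = n23699 := d23_1 D29221 (iv D23699) (iv F105213)
theorem F135756 : act 3 n29221 = n25680 := d29_1 D29221 (iv F135748) F135744
theorem F135757 : act 4 n29221 = n26390 := d34_1 D29221 (iv D26390) (iv F134956)
theorem F135758 : act 5 n29221 = n29221 := d38_1 D29221 (iv D29221) F105215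
theorem F135759 : act 7 n29221 = n23479 := d43_1 D29221 (iv D23479) (iv F105216)
theorem F135760 : act 8 n29221 = n25677 := d44_1 D29221 F135651 (iv D29205) F105102 D23478
def n29222 : Q := act 6 n23480
theorem D29222 : act 6 n23480 = n29222 := rfl
theorem F135761 : act 0 n29222 = n29222 := d5_1 D29222 (iv D29222) F105222
theorem F135762 : act 2 n29222 = n29222 := d20_1 D29222 (iv D29222) F105223
theorem F135763 : act 3 n29222 = n28066 := d26_1 D29222 (iv D28066) (iv F105224)
theorem F135764 : act 4 n29222 = n23482 := d31_1 D29222 (iv D23482) (iv F105225)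
theorem F135765 : act 7 n29222 = n29222 := d39_2 D23480 D29222 (iv D29222) (iv D23480) F83945
theorem F135766 : act 8 n29222 = n27368 := d40_2 (iv F135092) D29222 F122099
theorem F135767 : act 9 n29222 = n27362 := d41_2 (iv F135093) D29222 F122062
def n29223 : Q := act 8 n23482
theorem D29223 : act 8 n23482 = n29223 := rfl
theorem F135768 : act 0 n29223 = n29223 := d7_1 D29223 (iv D29223) F105232
theorem F135769 : act 2 n29223 = n29223 := d22_1 D29223 (iv D29223) F105233
theorem F135770 : act 3 n29223 = n23485 := d28_1 D29223 (iv D23485) (iv F105234)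
theorem F135771 : act 4 n29223 = n27368 := d33_1 D29223 (iv F135766) F135764
theorem F135772 : act 6 n29223 = n23483 := d40_1 D29223 (iv D23483) D23482
theorem F135773 : act 7 n29223 = n29223 := d42_1 D29223 (iv D29223) F105236
theorem F135774 : act 9 n29223 = n27354 := d44_2 F135659 D29223 (iv D27354) (iv F121967) (iv F135658)
def n29224 : Q := act 5 n23485
theorem D29224 : act 5 n23485 = n29224 := rfl
theorem F135775 : act 0 n29224 = n29224 := d4_1 D29224 (iv D29224) F105247
theorem F135776 : act 2 n29224 = n23487 := d19_1 D29224 (iv D23487) (iv F105248)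
theorem F135777 : act 4 n29224 = n28185 := d30_1 D29224 (iv D28185) F99812 F134627 (iv F105249)
theorem F135778 : act 6 n29224 = n29224 := d35_2 (iv F105250) D29224 (iv D29224) F105250 F83963
theorem F135779 : act 7 n29224 = n29224 := d36_2 F105251 D29224 (iv D29224)
theorem F135780 : act 8 n29224 = n29224 := d37_2 D23485 D29224 (iv D29224) (iv D23485) F83958
def n29225 : Q := act 9 n23485
theorem D29225 : act 9 n23485 = n29225 := rfl
theorem F135781 : act 0 n29225 = n29225 := d8_1 D29225 (iv D29225) F105247
theorem F135782 : act 2 n29225 = n23488 := d23_1 D29225 (iv D23488) (iv F105248)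
theorem F135783 : act 3 n29225 = n27354 := d29_1 D29225 (iv F135774) F135770
theorem F135784 : act 4 n29225 = n28072 := d34_1 D29225 (iv D28072) (iv F105249)
theorem F135785 : act 6 n29225 = n23486 := d41_1 D29225 (iv D23486) (iv F105250)
theorem F135786 : act 7 n29225 = n29225 := d43_1 D29225 (iv D29225) F105251
theorem F135787 : act 8 n29225 = n27352 := d44_1 D29225 F135667 (iv D29207) F105129 D23485
def n29226 : Q := act 4 n23487
theorem D29226 : act 4 n23487 = n29226 := rfl
theorem F135788 : act 0 n29226 = n29226 := d3_1 D29226 (iv D29226) F105257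
theorem F135789 : act 1 n29226 = n23732 := d11_1 D29226 (iv D23732) (iv F105258)
theorem F135790 : act 2 n29226 = n28185 := d18_1 D29226 (iv F135777) F135776
theorem F135791 : act 5 n29226 = n28066 := d30_2 D23487 D29226 F124945 F99308 (iv F135310)
theorem F135792 : act 6 n29226 = n29226 := d31_2 F105260 D29226 (iv D29226)
theorem F135793 : act 7 n29226 = n29226 := d32_2 F105261 D29226 (iv D29226)
theorem F135794 : act 8 n29226 = n29226 := d33_2 F105262 D29226 (iv D29226)
def n29227 : Q := act 9 n23487
theorem D29227 : act 9 n23487 = n29227 := rfl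
theorem F135795 : act 0 n29227 = n29227 := d8_1 D29227 (iv D29227) F105257
theorem F135796 : act 1 n29227 = n23733 := d16_1 D29227 (iv D23733) (iv F105258)
theorem F135797 : act 3 n29227 = n29227 := d29_1 D29227 (iv D29227) F105259
theorem F135798 : act 5 n29227 = n23488 := d38_1 D29227 (iv D23488) D23487
theorem F135799 : act 6 n29227 = n29227 := d41_1 D29227 (iv D29227) F105260
theorem F135800 : act 7 n29227 = n29227 := d43_1 D29227 (iv D29227) F105261
def n29228 : Q := act 8 n23503
theorem D29228 : act 8 n23503 = n29228 := rfl
theorem F135801 : act 0 n29228 = n25200 := d7_1 D29228 F113524 (iv F135380)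
theorem F135802 : act 1 n29228 = n23519 := d15_1 D29228 (iv D23519) (iv F105357)
theorem F135803 : act 2 n29228 = n23541 := d22_1 D29228 F105561 (iv F135381)
theorem F135804 : act 3 n29228 = n23905 := d28_1 D29228 F107395 (iv F135382)
theorem F135805 : act 4 n29228 = n26552 := d33_1 D29228 (iv D26552) (iv F105359)
theorem F135806 : act 5 n29228 = n23597 := d37_1 D29228 (iv D23597) F84434 (iv F84065) (iv F105360)
theorem F135807 : act 6 n29228 = n23547 := d40_1 D29228 F105595 (iv F135383)
theorem F135808 : act 7 n29228 = n23504 := d42_1 D29228 (iv D23504) D23503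
theorem F135809 : act 9 n25675 = n29228 := d43_0 F135808 F135388 D25675
def n29229 : Q := act 6 n23505
theorem D29229 : act 6 n23505 = n29229 := rfl
theorem F135810 : act 0 n29229 = n25125 := d5_1 D29229 (iv D25125) (iv F105367)
theorem F135811 : act 1 n29229 = n26559 := d13_1 D29229 F118624 (iv F134748)
theorem F135812 : act 2 n29229 = n23506 := d20_1 D29229 (iv D23506) D23505
theorem F135813 : act 3 n29229 = n23522 := d26_1 D29229 (iv D23522) (iv F105368)
theorem F135814 : act 4 n29229 = n23796 := d31_1 D29229 (iv D23796) (iv F105369)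
theorem F135815 : act 8 n29229 = n23510 := d40_2 (iv F105372) D29229 (iv D23510)
theorem F135816 : act 9 n29229 = n25862 := d41_2 (iv F105373) D29229 (iv D25862)
def n29230 : Q := act 5 n23506
theorem D29230 : act 5 n23506 = n29230 := rfl
theorem F135817 : act 0 n29230 = n25126 := d4_1 D29230 (iv D25126) (iv F105374)
theorem F135818 : act 1 n29230 = n25841 := d12_1 D29230 (iv D25841) (iv F105375)
theorem F135819 : act 3 n29230 = n23507 := d25_1 D29230 (iv D23507) (iv F105376)
theorem F135820 : act 6 n29230 = n25772 := d35_2 D23506 D29230 (iv D25772) (iv D20329) (iv F84070)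
theorem F135821 : act 9 n29230 = n25863 := d38_2 (iv F105379) D29230 (iv D25863)
def n29231 : Q := act 7 n23506
theorem D29231 : act 7 n23506 = n29231 := rfl
theorem F135822 : act 0 n29231 = n25127 := d6_1 D29231 (iv D25127) (iv F105374)
theorem F135823 : act 1 n29231 = n25842 := d14_1 D29231 (iv D25842) (iv F105375)
theorem F135824 : act 3 n29231 = n23508 := d27_1 D29231 (iv D23508) (iv F105376)
theorem F135825 : act 4 n29231 = n23798 := d32_1 D29231 (iv D23798) (iv F105377)
theorem F135826 : act 6 n29231 = n25767 := d39_1 D29231 (iv D25767) (iv D20325) (iv F84071) D23506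
theorem F135827 : act 8 n29231 = n23512 := d42_2 (iv F105378) D29231 (iv D23512)
theorem F135828 : act 9 n29231 = n25864 := d43_2 (iv F105379) D29231 (iv D25864)
def n29232 : Q := act 7 n23507
theorem D29232 : act 7 n23507 = n29232 := rfl
theorem F135829 : act 0 n29232 = n25128 := d6_1 D29232 (iv D25128) (iv F105380)
theorem F135830 : act 1 n29232 = n25843 := d14_1 D29232 (iv D25843) (iv F105381)
theorem F135831 : act 2 n29232 = n23525 := d21_1 D29232 (iv D23525) (iv F105382)
theorem F135832 : act 4 n29232 = n23610 := d32_1 D29232 (iv D23610) (iv F105383)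
theorem F135833 : act 5 n29232 = n23508 := d36_1 D29232 (iv D23508) D23507
theorem F135834 : act 9 n29232 = n25865 := d43_2 (iv F105385) D29232 (iv D25865)
def n29233 : Q := act 8 n23507
theorem D29233 : act 8 n23507 = n29233 := rfl
theorem F135835 : act 0 n29233 = n25129 := d7_1 D29233 (iv D25129) (iv F105380)
theorem F135836 : act 1 n29233 = n25844 := d15_1 D29233 (iv D25844) (iv F105381)
theorem F135837 : act 2 n29233 = n23526 := d22_1 D29233 (iv D23526) (iv F105382)
theorem F135838 : act 4 n29233 = n23611 := d33_1 D29233 (iv D23611) (iv F105383)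
theorem F135839 : act 5 n29233 = n23514 := d37_1 D29233 (iv D23514) (iv D18606) (iv F84078) D23507
theorem F135840 : act 6 n29233 = n25775 := d40_1 D29233 (iv D25775) (iv F105384)
def n29234 : Q := act 7 n23510
theorem D29234 : act 7 n23510 = n29234 := rfl
theorem F135841 : act 0 n29234 = n25139 := d6_1 D29234 (iv D25139) (iv F105399)
theorem F135842 : act 1 n29234 = n26558 := d14_1 D29234 (iv D26558) (iv F134974)
theorem F135843 : act 2 n29234 = n23512 := d21_1 D29234 (iv D23512) (iv F105400)
theorem F135844 : act 3 n29234 = n23530 := d27_1 D29234 (iv D23530) (iv F105401)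
theorem F135845 : act 4 n29234 = n23810 := d32_1 D29234 (iv D23810) (iv F105402)
theorem F135846 : act 5 n29234 = n26556 := d36_1 D29234 (iv D26556) (iv F134975)
theorem F135847 : act 6 n29234 = n26455 := d39_1 D29234 (iv D26455) (iv D20867) (iv F84092) D23510
theorem F135848 : act 9 n29234 = n29234 := d43_2 F105403 D29234 (iv D29234)
def n29235 : Q := act 4 n23511
theorem D29235 : act 4 n23511 = n29235 := rfl
theorem F135849 : act 0 n29235 = n25140 := d3_1 D29235 (iv D25140) (iv F105404)
theorem F135850 : act 1 n29235 = n23802 := d11_1 D29235 F106892 (iv F134965)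
theorem F135851 : act 2 n29235 = n26535 := d18_1 D29235 F118544 (iv F134966)
theorem F135852 : act 3 n29235 = n23515 := d24_1 D29235 (iv D23515) F84113 (iv F84102) (iv F105406)
theorem F135853 : act 5 n29235 = n23811 := d30_2 D23511 D29235 (iv D23811) (iv D18827) (iv F84097)
theorem F135854 : act 6 n29235 = n23801 := d31_2 (iv F134967) D29235 F106885
theorem F135855 : act 9 n29235 = n29235 := d34_2 F105408 D29235 (iv D29235)
def n29236 : Q := act 7 n23511
theorem D29236 : act 7 n23511 = n29236 := rfl
theorem F135856 : act 0 n29236 = n25141 := d6_1 D29236 (iv D25141) (iv F105404)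
theorem F135857 : act 1 n29236 = n26455 := d14_1 D29236 (iv D26455) (iv F134965)
theorem F135858 : act 2 n29236 = n26556 := d21_1 D29236 (iv D26556) (iv F134966)
theorem F135859 : act 3 n29236 = n23513 := d27_1 D29236 (iv D23513) (iv F105406)
theorem F135860 : act 5 n29236 = n23512 := d36_1 D29236 (iv D23512) D23511
theorem F135861 : act 6 n29236 = n26558 := d39_1 D29236 (iv D26558) F94103 (iv F134293) (iv F134967)
theorem F135862 : act 9 n29236 = n29236 := d43_2 F105408 D29236 (iv D29236)
def n29237 : Q := act 8 n23511
theorem D29237 : act 8 n23511 = n29237 := rfl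
theorem F135863 : act 0 n29237 = n25142 := d7_1 D29237 (iv D25142) (iv F105404)
theorem F135864 : act 1 n29237 = n25765 := d15_1 D29237 F115689 (iv F134965)
theorem F135865 : act 2 n29237 = n25852 := d22_1 D29237 F115995 (iv F134966)
theorem F135866 : act 3 n29237 = n23514 := d28_1 D29237 (iv D23514) (iv F105406)
theorem F135867 : act 6 n29237 = n25764 := d40_1 D29237 F115686 (iv F134967)
def n29238 : Q := act 8 n23513
theorem D29238 : act 8 n23513 = n29238 := rfl
theorem F135868 : act 0 n29238 = n25144 := d7_1 D29238 (iv D25144) (iv F105415)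
theorem F135869 : act 1 n29238 = n26552 := d15_1 D29238 (iv D26552) (iv F105416)
theorem F135870 : act 2 n29238 = n23534 := d22_1 D29238 (iv D23534) (iv F105417)
theorem F135871 : act 4 n29238 = n23519 := d33_1 D29238 (iv D23519) (iv F105418)
theorem F135872 : act 6 n29238 = n26693 := d40_1 D29238 (iv D26693) (iv F134976)
theorem F135873 : act 7 n29238 = n23514 := d42_1 D29238 (iv D23514) D23513
def n29239 : Q := act 9 n23514
theorem D29239 : act 9 n23514 = n29239 := rfl
theorem F135874 : act 0 n29239 = n25145 := d8_1 D29239 (iv D25145) (iv F105421)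
theorem F135875 : act 1 n29239 = n25604 := d16_1 D29239 F135438 (iv F105422)
theorem F135876 : act 2 n29239 = n23535 := d23_1 D29239 (iv D23535) (iv F105423)
theorem F135877 : act 4 n29239 = n23520 := d34_1 D29239 (iv D23520) (iv F105424)
theorem F135878 : act 6 n29239 = n25603 := d41_1 D29239 F134978 (iv F105425)
theorem F135879 : act 8 n29239 = n29239 := d44_1 D29239 (iv D29239) (iv D23514) F84104 D23514
def n29240 : Q := act 7 n23515
theorem D29240 : act 7 n23515 = n29240 := rfl
theorem F135880 : act 0 n29240 = n25146 := d6_1 D29240 (iv D25146) (iv F105426)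
theorem F135881 : act 1 n29240 = n23871 := d14_1 D29240 (iv D23871) (iv F135372)
theorem F135882 : act 2 n29240 = n29240 := d21_1 D29240 (iv D29240) F105427
theorem F135883 : act 4 n29240 = n23516 := d32_1 D29240 (iv D23516) D23515
theorem F135884 : act 5 n29240 = n23817 := d36_1 D29240 (iv D23817) (iv F105428)
theorem F135885 : act 6 n29240 = n23880 := d39_1 D29240 (iv D23880) (iv D18874) (iv F85428) (iv F135373)
theorem F135886 : act 9 n29240 = n29240 := d43_2 F105429 D29240 (iv D29240)
def n29241 : Q := act 8 n23515
theorem D29241 : act 8 n23515 = n29241 := rfl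
theorem F135887 : act 0 n29241 = n25147 := d7_1 D29241 (iv D25147) (iv F105426)
theorem F135888 : act 1 n29241 = n23847 := d15_1 D29241 F107116 (iv F135372)
theorem F135889 : act 2 n29241 = n29241 := d22_1 D29241 (iv D29241) F105427
theorem F135890 : act 4 n29241 = n23517 := d33_1 D29241 (iv D23517) D23515
theorem F135891 : act 6 n29241 = n23846 := d40_1 D29241 F107112 (iv F135373)
def n29242 : Q := act 8 n23516
theorem D29242 : act 8 n23516 = n29242 := rfl
theorem F135892 : act 0 n29242 = n25149 := d7_1 D29242 (iv D25149) (iv F105430)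
theorem F135893 : act 1 n29242 = n23905 := d15_1 D29242 F107395 (iv F135374)
theorem F135894 : act 2 n29242 = n29242 := d22_1 D29242 (iv D29242) F105431
theorem F135895 : act 3 n29242 = n23519 := d28_1 D29242 (iv D23519) (iv F105432)
theorem F135896 : act 5 n29242 = n23625 := d37_1 D29242 (iv D23625) F84527 (iv F84120) (iv F105433)
theorem F135897 : act 6 n29242 = n23923 := d40_1 D29242 F107484 (iv F135375)
theorem F135898 : act 7 n29242 = n23517 := d42_1 D29242 (iv D23517) D23516
def n29243 : Q := act 9 n23517
theorem D29243 : act 9 n23517 = n29243 := rfl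
theorem F135899 : act 0 n29243 = n25150 := d8_1 D29243 (iv D25150) (iv F105435)
theorem F135900 : act 1 n29243 = n23897 := d16_1 D29243 F107357 (iv F135376)
theorem F135901 : act 2 n29243 = n29243 := d23_1 D29243 (iv D29243) F105436
theorem F135902 : act 3 n29243 = n23520 := d29_1 D29243 (iv D23520) (iv F105437)
theorem F135903 : act 5 n29243 = n23626 := d38_1 D29243 (iv D23626) (iv F105438)
theorem F135904 : act 6 n29243 = n23896 := d41_1 D29243 F107352 (iv F135377)
theorem F135905 : act 8 n29243 = n29243 := d44_1 D29243 (iv D29243) (iv D23517) F84114 D23517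
def n29244 : Q := act 8 n23518
theorem D29244 : act 8 n23518 = n29244 := rfl
theorem F135906 : act 0 n29244 = n25151 := d7_1 D29244 (iv D25151) (iv F105439)
theorem F135907 : act 1 n29244 = n23547 := d15_1 D29244 F105595 (iv F135032)
theorem F135908 : act 2 n29244 = n23536 := d22_1 D29244 (iv D23536) (iv F105440)
theorem F135909 : act 3 n29244 = n23923 := d28_1 D29244 F107484 (iv F135033)
theorem F135910 : act 4 n29244 = n26693 := d33_1 D29244 (iv D26693) (iv F135024)
theorem F135911 : act 6 n29244 = n23519 := d40_1 D29244 (iv D23519) D23518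
theorem F135912 : act 7 n29244 = n23545 := d42_1 D29244 F105584 (iv F135034)
theorem F135913 : act 9 n26069 = n29244 := d43_0 F135912 F105585 D26069
def n29245 : Q := act 9 n23519
theorem D29245 : act 9 n23519 = n29245 := rfl
theorem F135914 : act 0 n29245 = n25152 := d8_1 D29245 (iv D25152) (iv F105443)
theorem F135915 : act 1 n29245 = n25675 := d16_1 D29245 F135809 F135802
theorem F135916 : act 2 n29245 = n23537 := d23_1 D29245 (iv D23537) (iv F105444)
theorem F135917 : act 5 n29245 = n23628 := d38_1 D29245 (iv D23628) (iv F105445)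
theorem F135918 : act 6 n29245 = n26069 := d41_1 D29245 F135913 F135911
theorem F135919 : act 7 n29245 = n23520 := d43_1 D29245 (iv D23520) (iv F105446)
theorem F135920 : act 8 n29245 = n29245 := d44_1 D29245 (iv D29245) (iv D23519) F84125 D23519
def n29246 : Q := act 5 n23522
theorem D29246 : act 5 n23522 = n29246 := rfl
theorem F135921 : act 0 n29246 = n25167 := d4_1 D29246 (iv D25167) (iv F105457)
theorem F135922 : act 1 n29246 = n25972 := d12_1 D29246 F116366 (iv F135003)
theorem F135923 : act 2 n29246 = n23523 := d19_1 D29246 (iv D23523) (iv F105458)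
theorem F135924 : act 6 n29246 = n26020 := d35_2 D23522 D29246 F116516 F134132 (iv F134320)
theorem F135925 : act 8 n29246 = n25968 := d37_2 (iv F105460) D29246 (iv D25968) F134124 (iv F134319)
theorem F135926 : act 9 n29246 = n25982 := d38_2 (iv F105461) D29246 (iv D25982)
def n29247 : Q := act 7 n23522
theorem D29247 : act 7 n23522 = n29247 := rfl
theorem F135927 : act 0 n29247 = n25168 := d6_1 D29247 (iv D25168) (iv F105457)
theorem F135928 : act 1 n29247 = n26693 := d14_1 D29247 F119079 (iv F135003)
theorem F135929 : act 2 n29247 = n23524 := d21_1 D29247 (iv D23524) (iv F105458)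
theorem F135930 : act 4 n29247 = n23547 := d32_1 D29247 (iv D23547) (iv F105459)
theorem F135931 : act 6 n29247 = n26552 := d39_1 D29247 F118601 F94094 F134494 D23522
theorem F135932 : act 8 n29247 = n23530 := d42_2 (iv F105460) D29247 (iv D23530)
theorem F135933 : act 9 n29247 = n25983 := d43_2 (iv F105461) D29247 (iv D25983)
def n29248 : Q := act 4 n23523
theorem D29248 : act 4 n23523 = n29248 := rfl
theorem F135934 : act 0 n29248 = n25169 := d3_1 D29248 (iv D25169) (iv F105462)
theorem F135935 : act 1 n29248 = n27224 := d11_1 D29248 F135448 (iv F105463)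
theorem F135936 : act 3 n29248 = n23639 := d24_1 D29248 (iv D23639) F84580 (iv F84143) (iv F105464)
theorem F135937 : act 5 n29248 = n23548 := d30_2 D23523 D29248 (iv D23548) (iv D18631) (iv F84138)
theorem F135938 : act 6 n29248 = n26779 := d31_2 (iv F135029) D29248 (iv D26779)
theorem F135939 : act 8 n29248 = n26753 := d33_2 (iv F135030) D29248 (iv D26753)
theorem F135940 : act 9 n29248 = n25984 := d34_2 (iv F105466) D29248 (iv D25984)
def n29249 : Q := act 7 n23523
theorem D29249 : act 7 n23523 = n29249 := rfl
theorem F135941 : act 0 n29249 = n25170 := d6_1 D29249 (iv D25170) (iv F105462)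
theorem F135942 : act 1 n29249 = n27529 := d14_1 D29249 (iv D27529) (iv F105463)
theorem F135943 : act 3 n29249 = n23525 := d27_1 D29249 (iv D23525) (iv F105464)
theorem F135944 : act 5 n29249 = n23524 := d36_1 D29249 (iv D23524) D23523
theorem F135945 : act 8 n29249 = n26701 := d42_2 (iv F135030) D29249 F119110
theorem F135946 : act 9 n29249 = n25985 := d43_2 (iv F105466) D29249 (iv D25985)
def n29250 : Q := act 6 n23525
theorem D29250 : act 6 n23525 = n29250 := rfl
theorem F135947 : act 0 n29250 = n25172 := d5_1 D29250 (iv D25172) (iv F105474)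
theorem F135948 : act 1 n29250 = n27531 := d13_1 D29250 (iv D27531) (iv F105475)
theorem F135949 : act 4 n29250 = n23642 := d31_1 D29250 (iv D23642) (iv F105476)
theorem F135950 : act 5 n29250 = n27441 := d35_1 D29250 (iv D27441) F97232 (iv F84149) (iv F105477)
theorem F135951 : act 7 n29250 = n27451 := d39_2 D23525 D29250 (iv D27451) (iv D21695) (iv F84144)
theorem F135952 : act 9 n29250 = n25987 := d41_2 (iv F105478) D29250 (iv D25987)
def n29251 : Q := act 8 n23525
theorem D29251 : act 8 n23525 = n29251 := rfl
theorem F135953 : act 0 n29251 = n25173 := d7_1 D29251 (iv D25173) (iv F105474)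
theorem F135954 : act 1 n29251 = n27532 := d15_1 D29251 (iv D27532) (iv F105475)
theorem F135955 : act 3 n29251 = n26701 := d28_1 D29251 (iv F135945) F135943
theorem F135956 : act 4 n29251 = n23643 := d33_1 D29251 (iv D23643) (iv F105476)
theorem F135957 : act 5 n29251 = n23534 := d37_1 D29251 (iv D23534) F84176 (iv F84150) (iv F105477)
theorem F135958 : act 7 n29251 = n23526 := d42_1 D29251 (iv D23526) D23525
def n29252 : Q := act 9 n23526
theorem D29252 : act 9 n23526 = n29252 := rfl
theorem F135959 : act 0 n29252 = n25174 := d8_1 D29252 (iv D25174) (iv F105479)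
theorem F135960 : act 1 n29252 = n27278 := d16_1 D29252 F135460 (iv F105480)
theorem F135961 : act 3 n29252 = n26754 := d29_1 D29252 (iv D26754) (iv F135045)
theorem F135962 : act 4 n29252 = n23644 := d34_1 D29252 (iv D23644) (iv F105481)
theorem F135963 : act 5 n29252 = n23535 := d38_1 D29252 (iv D23535) (iv F105482)
theorem F135964 : act 6 n29252 = n26789 := d41_1 D29252 (iv D26789) (iv F135046)
theorem F135965 : act 8 n29252 = n25989 := d44_1 D29252 (iv D25989) (iv D20477) (iv F84145) D23526
def n29253 : Q := act 9 n23534
theorem D29253 : act 9 n23534 = n29253 := rfl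
theorem F135966 : act 0 n29253 = n25194 := d8_1 D29253 (iv D25194) (iv F105521)
theorem F135967 : act 1 n29253 = n27279 := d16_1 D29253 F121674 F135233
theorem F135968 : act 3 n29253 = n26702 := d29_1 D29253 (iv D26702) (iv F135047)
theorem F135969 : act 4 n29253 = n23537 := d34_1 D29253 (iv D23537) (iv F105523)
theorem F135970 : act 6 n29253 = n26700 := d41_1 D29253 (iv D26700) (iv F135048)
theorem F135971 : act 7 n29253 = n23535 := d43_1 D29253 (iv D23535) (iv F105524)
theorem F135972 : act 8 n29253 = n29253 := d44_1 D29253 (iv D29253) (iv D23534) F84177 D23534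
def n29254 : Q := act 5 n23536
theorem D29254 : act 5 n23536 = n29254 := rfl
theorem F135973 : act 0 n29254 = n25195 := d4_1 D29254 (iv D25195) (iv F105530)
theorem F135974 : act 1 n29254 = n27812 := d12_1 D29254 F123849 (iv F135038)
theorem F135975 : act 3 n29254 = n29254 := d25_1 D29254 (iv D29254) F105531
theorem F135976 : act 6 n29254 = n23655 := d35_2 (iv F105532) D29254 (iv D23655) F84644 (iv F84188)
theorem F135977 : act 7 n29254 = n26697 := d36_2 (iv F135026) D29254 (iv D26697)
theorem F135978 : act 8 n29254 = n29254 := d37_2 D23536 D29254 (iv D29254) (iv D23536) F84184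
theorem F135979 : act 9 n29254 = n27818 := d38_2 (iv F135039) D29254 F123874
def n29255 : Q := act 6 n23542
theorem D29255 : act 6 n23542 = n29255 := rfl
theorem F135980 : act 0 n29255 = n25204 := d5_1 D29255 (iv D25204) (iv F105563)
theorem F135981 : act 1 n29255 = n27344 := d13_1 D29255 (iv D27344) (iv F105564)
theorem F135982 : act 2 n29255 = n23909 := d20_1 D29255 (iv D23909) (iv F105565)
theorem F135983 : act 4 n29255 = n25689 := d31_1 D29255 (iv D25689) (iv F105566)
theorem F135984 : act 5 n29255 = n23550 := d35_1 D29255 (iv D23550) F84245 (iv F84217) (iv F105567)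
theorem F135985 : act 7 n29255 = n29255 := d39_2 D23542 D29255 (iv D29255) (iv D23542) F84211
theorem F135986 : act 9 n29255 = n25679 := d41_2 (iv F105568) D29255 (iv D25679)
def n29256 : Q := act 6 n23544
theorem D29256 : act 6 n23544 = n29256 := rfl
theorem F135987 : act 0 n29256 = n23545 := d5_1 D29256 (iv D23545) D23544
theorem F135988 : act 1 n29256 = n25207 := d13_1 D29256 (iv D25207) (iv F105575)
theorem F135989 : act 2 n29256 = n24707 := d20_1 D29256 F111177 (iv F134455)
theorem F135990 : act 3 n29256 = n23921 := d26_1 D29256 (iv D23921) (iv F105577)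
theorem F135991 : act 4 n29256 = n24705 := d31_1 D29256 F111166 (iv F134456)
theorem F135992 : act 7 n29256 = n25151 := d39_2 (iv F133811) D29256 F113327 F90134 (iv F89868)
theorem F135993 : act 8 n29256 = n23560 := d40_2 (iv F105579) D29256 (iv D23560)
theorem F135994 : act 9 n29256 = n26067 := d41_2 (iv F105580) D29256 (iv D26067)
def n29257 : Q := act 5 n23545
theorem D29257 : act 5 n23545 = n29257 := rfl
theorem F135995 : act 1 n29257 = n23546 := d12_1 D29257 (iv D23546) (iv F105581)
theorem F135996 : act 2 n29257 = n26697 := d19_1 D29257 (iv D26697) (iv F135035)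
theorem F135997 : act 3 n29257 = n23922 := d25_1 D29257 (iv D23922) (iv F105583)
theorem F135998 : act 6 n29257 = n29257 := d35_2 D23545 D29257 (iv D29257) (iv D23545) F84222
theorem F135999 : act 8 n29257 = n29257 := d37_2 (iv F105584) D29257 (iv D29257) F105584 F84288
theorem F136000 : act 9 n29257 = n26068 := d38_2 (iv F105585) D29257 (iv D26068)
def n29258 : Q := act 4 n23546
theorem D29258 : act 4 n23546 = n29258 := rfl
theorem F136001 : act 0 n29258 = n25210 := d3_1 D29258 (iv D25210) (iv F105586)
theorem F136002 : act 2 n29258 = n23548 := d18_1 D29258 (iv D23548) (iv F105587)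
theorem F136003 : act 6 n29258 = n29258 := d31_2 F105589 D29258 (iv D29258)
theorem F136004 : act 8 n29258 = n29258 := d33_2 F105590 D29258 (iv D29258)
theorem F136005 : act 9 n29258 = n26070 := d34_2 (iv F105591) D29258 (iv D26070)
def n29259 : Q := act 7 n23546
theorem D29259 : act 7 n23546 = n29259 := rfl
theorem F136006 : act 0 n29259 = n25211 := d6_1 D29259 (iv D25211) (iv F105586)
theorem F136007 : act 2 n29259 = n23549 := d21_1 D29259 (iv D23549) (iv F105587)
theorem F136008 : act 3 n29259 = n23925 := d27_1 D29259 (iv D23925) (iv F105588)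
theorem F136009 : act 5 n29259 = n23547 := d36_1 D29259 (iv D23547) D23546
theorem F136010 : act 8 n29259 = n29259 := d42_2 F105590 D29259 (iv D29259)
theorem F136011 : act 9 n29259 = n26071 := d43_2 (iv F105591) D29259 (iv D26071)
def n29260 : Q := act 7 n23548
theorem D29260 : act 7 n23548 = n29260 := rfl
theorem F136012 : act 0 n29260 = n25212 := d6_1 D29260 (iv D25212) (iv F105597)
theorem F136013 : act 1 n29260 = n27250 := d14_1 D29260 F121522 (iv F135536)
theorem F136014 : act 3 n29260 = n23662 := d27_1 D29260 (iv D23662) (iv F105599)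
theorem F136015 : act 4 n29260 = n23549 := d32_1 D29260 (iv D23549) D23548
theorem F136016 : act 8 n29260 = n29260 := d42_2 F105601 D29260 (iv D29260)
theorem F136017 : act 9 n29260 = n26073 := d43_2 (iv F105602) D29260 (iv D26073)
def n29261 : Q := act 6 n23549
theorem D29261 : act 6 n23549 = n29261 := rfl
theorem F136018 : act 0 n29261 = n25213 := d5_1 D29261 (iv D25213) (iv F105603)
theorem F136019 : act 1 n29261 = n27814 := d13_1 D29261 (iv D27814) (iv F105604)
theorem F136020 : act 3 n29261 = n23550 := d26_1 D29261 (iv D23550) (iv F105605)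
theorem F136021 : act 7 n29261 = n29261 := d39_2 D23549 D29261 (iv D29261) (iv D23549) F84233
theorem F136022 : act 8 n29261 = n29261 := d40_2 F105607 D29261 (iv D29261)
theorem F136023 : act 9 n29261 = n26075 := d41_2 (iv F105608) D29261 (iv D26075)
def n29262 : Q := act 2 n23568
theorem D29262 : act 2 n23568 = n29262 := rfl
theorem F136024 : act 0 n29262 = n23581 := d1_1 D29262 (iv D23581) (iv F105712)
theorem F136025 : act 3 n29262 = n24099 := d17_2 D23568 D29262 (iv D24099) (iv D19036) (iv F84334)
theorem F136026 : act 4 n29262 = n23951 := d18_2 (iv F105714) D29262 (iv D23951)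
theorem F136027 : act 5 n29262 = n24042 := d19_2 (iv F105715) D29262 (iv D24042)
theorem F136028 : act 7 n29262 = n24653 := d21_2 (iv F105716) D29262 F134838
theorem F136029 : act 8 n29262 = n23571 := d22_2 (iv F105717) D29262 (iv D23571)
theorem F136030 : act 9 n29262 = n24652 := d23_2 (iv F105718) D29262 F133797
def n29263 : Q := act 6 n23568
theorem D29263 : act 6 n23568 = n29263 := rfl
theorem F136031 : act 0 n29263 = n23582 := d5_1 D29263 (iv D23582) (iv F105712)
theorem F136032 : act 1 n29263 = n25227 := d13_1 D29263 (iv D25227) (iv F105713)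
theorem F136033 : act 3 n29263 = n23569 := d26_1 D29263 (iv D23569) D23568
theorem F136034 : act 4 n29263 = n23952 := d31_1 D29263 (iv D23952) (iv F105714)
theorem F136035 : act 8 n29263 = n23572 := d40_2 (iv F105717) D29263 (iv D23572)
theorem F136036 : act 9 n29263 = n25117 := d41_2 (iv F105718) D29263 (iv D25117)
def n29264 : Q := act 5 n23569
theorem D29264 : act 5 n23569 = n29264 := rfl
theorem F136037 : act 0 n29264 = n23583 := d4_1 D29264 (iv D23583) (iv F105719)
theorem F136038 : act 1 n29264 = n25228 := d12_1 D29264 (iv D25228) (iv F105720)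
theorem F136039 : act 2 n29264 = n24101 := d19_1 D29264 (iv D24101) (iv F105721)
theorem F136040 : act 4 n29264 = n24030 := d30_1 D29264 (iv D24030) F86011 (iv F84343) (iv F105722)
theorem F136041 : act 6 n29264 = n24044 := d35_2 D23569 D29264 (iv D24044) (iv D18997) (iv F84335)
theorem F136042 : act 9 n29264 = n25118 := d38_2 (iv F105724) D29264 (iv D25118)
def n29265 : Q := act 7 n23569
theorem D29265 : act 7 n23569 = n29265 := rfl
theorem F136043 : act 0 n29265 = n23584 := d6_1 D29265 (iv D23584) (iv F105719)
theorem F136044 : act 1 n29265 = n25229 := d14_1 D29265 (iv D25229) (iv F105720)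
theorem F136045 : act 2 n29265 = n24102 := d21_1 D29265 (iv D24102) (iv F105721)
theorem F136046 : act 4 n29265 = n23570 := d32_1 D29265 (iv D23570) (iv F105722)
theorem F136047 : act 6 n29265 = n25729 := d39_1 D29265 (iv D25729) (iv D20299) (iv F84336) D23569
theorem F136048 : act 8 n29265 = n23574 := d42_2 (iv F105723) D29265 (iv D23574)
theorem F136049 : act 9 n29265 = n25119 := d43_2 (iv F105724) D29265 (iv D25119)
def n29266 : Q := act 1 n23571
theorem D29266 : act 1 n23571 = n29266 := rfl
theorem F136050 : act 0 n29266 = n24938 := d0_1 D29266 F112293 F89298 F133532 (iv F105733)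
theorem F136051 : act 2 n29266 = n24560 := d9_2 D23571 D29266 F110546 F134178 (iv F84347)
theorem F136052 : act 3 n29266 = n24892 := d10_2 (iv F133573) D29266 F112086
theorem F136053 : act 4 n29266 = n23959 := d11_2 (iv F105735) D29266 (iv D23959)
theorem F136054 : act 5 n29266 = n29266 := d12_2 F105736 D29266 (iv D29266)
theorem F136055 : act 7 n29266 = n24890 := d14_2 F134199 D29266 F112079
theorem F136056 : act 9 n29266 = n23665 := d16_2 (iv F105738) D29266 (iv D23665)
def n29267 : Q := act 6 n23571
theorem D29267 : act 6 n23571 = n29267 := rfl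
theorem F136057 : act 0 n29267 = n23586 := d5_1 D29267 (iv D23586) (iv F105733)
theorem F136058 : act 2 n29267 = n23572 := d20_1 D29267 (iv D23572) D23571
theorem F136059 : act 3 n29267 = n24933 := d26_1 D29267 F112278 (iv F133573)
theorem F136060 : act 4 n29267 = n23960 := d31_1 D29267 (iv D23960) (iv F105735)
theorem F136061 : act 9 n29267 = n23666 := d41_2 (iv F105738) D29267 (iv D23666)
def n29268 : Q := act 5 n23572
theorem D29268 : act 5 n23572 = n29268 := rfl
theorem F136062 : act 0 n29268 = n23587 := d4_1 D29268 (iv D23587) (iv F105739)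
theorem F136063 : act 1 n29268 = n25232 := d12_1 D29268 (iv D25232) (iv F105740)
theorem F136064 : act 3 n29268 = n23573 := d25_1 D29268 (iv D23573) (iv F105741)
theorem F136065 : act 4 n29268 = n26244 := d30_1 D29268 (iv D26244) (iv F133590) (iv D23961) (iv F105742)
theorem F136066 : act 6 n29268 = n29268 := d35_2 D23572 D29268 (iv D29268) (iv D23572) F84349
theorem F136067 : act 9 n29268 = n23667 := d38_2 (iv F105743) D29268 (iv D23667)
def n29269 : Q := act 7 n23572
theorem D29269 : act 7 n23572 = n29269 := rfl
theorem F136068 : act 0 n29269 = n23588 := d6_1 D29269 (iv D23588) (iv F105739)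
theorem F136069 : act 1 n29269 = n25233 := d14_1 D29269 (iv D25233) (iv F105740)
theorem F136070 : act 3 n29269 = n23574 := d27_1 D29269 (iv D23574) (iv F105741)
theorem F136071 : act 4 n29269 = n23962 := d32_1 D29269 (iv D23962) (iv F105742)
theorem F136072 : act 6 n29269 = n26134 := d39_1 D29269 (iv D26134) (iv D20595) (iv F84350) D23572
theorem F136073 : act 9 n29269 = n23668 := d43_2 (iv F105743) D29269 (iv D23668)
def n29270 : Q := act 7 n23573
theorem D29270 : act 7 n23573 = n29270 := rfl
theorem F136074 : act 0 n29270 = n23589 := d6_1 D29270 (iv D23589) (iv F105744)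
theorem F136075 : act 1 n29270 = n25234 := d14_1 D29270 (iv D25234) (iv F105745)
theorem F136076 : act 2 n29270 = n27892 := d21_1 D29270 (iv D27892) (iv F105746)
theorem F136077 : act 4 n29270 = n23579 := d32_1 D29270 (iv D23579) (iv F105747)
theorem F136078 : act 5 n29270 = n23574 := d36_1 D29270 (iv D23574) D23573
theorem F136079 : act 9 n29270 = n23669 := d43_2 (iv F105749) D29270 (iv D23669)
def n29271 : Q := act 8 n23573
theorem D29271 : act 8 n23573 = n29271 := rfl
theorem F136080 : act 0 n29271 = n23590 := d7_1 D29271 (iv D23590) (iv F105744)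
theorem F136081 : act 1 n29271 = n25235 := d15_1 D29271 (iv D25235) (iv F105745)
theorem F136082 : act 2 n29271 = n25201 := d22_1 D29271 F135618 (iv F105746)
theorem F136083 : act 4 n29271 = n23580 := d33_1 D29271 (iv D23580) (iv F105747)
theorem F136084 : act 6 n29271 = n29271 := d40_1 D29271 (iv D29271) F105748
def n29272 : Q := act 7 n23577
theorem D29272 : act 7 n23577 = n29272 := rfl
theorem F136085 : act 0 n29272 = n23594 := d6_1 D29272 (iv D23594) (iv F105766)
theorem F136086 : act 1 n29272 = n25240 := d14_1 D29272 (iv D25240) (iv F105767)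
theorem F136087 : act 2 n29272 = n25700 := d21_1 D29272 F115423 (iv F134416)
theorem F136088 : act 3 n29272 = n23579 := d27_1 D29272 (iv D23579) (iv F105768)
theorem F136089 : act 4 n29272 = n26311 := d32_1 D29272 F134945 (iv F134417)
theorem F136090 : act 5 n29272 = n23578 := d36_1 D29272 (iv D23578) D23577
theorem F136091 : act 8 n29272 = n25696 := d42_2 (iv F134418) D29272 (iv D25696)
theorem F136092 : act 9 n29272 = n23675 := d43_2 (iv F105770) D29272 (iv D23675)
def n29273 : Q := act 6 n23579
theorem D29273 : act 6 n23579 = n29273 := rfl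
theorem F136093 : act 0 n29273 = n23596 := d5_1 D29273 (iv D23596) (iv F105777)
theorem F136094 : act 1 n29273 = n25242 := d13_1 D29273 (iv D25242) (iv F105778)
theorem F136095 : act 5 n29273 = n29273 := d35_1 D29273 (iv D29273) F105779 F84381 (iv F105779)
theorem F136096 : act 7 n29273 = n29273 := d39_2 D23579 D29273 (iv D29273) (iv D23579) F84376
theorem F136097 : act 9 n29273 = n23677 := d41_2 (iv F105780) D29273 (iv D23677)
def n29274 : Q := act 8 n23579
theorem D29274 : act 8 n23579 = n29274 := rfl
theorem F136098 : act 0 n29274 = n23597 := d7_1 D29274 (iv D23597) (iv F105777)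
theorem F136099 : act 1 n29274 = n25243 := d15_1 D29274 (iv D25243) (iv F105778)
theorem F136100 : act 2 n29274 = n25202 := d22_1 D29274 (iv F135628) F135624
theorem F136101 : act 3 n29274 = n25696 := d28_1 D29274 (iv F136091) F136088
theorem F136102 : act 5 n29274 = n25200 := d37_1 D29274 F113524 (iv F135371) F105339 (iv F105779)
theorem F136103 : act 7 n29274 = n23580 := d42_1 D29274 (iv D23580) D23579
def n29275 : Q := act 9 n23580
theorem D29275 : act 9 n23580 = n29275 := rfl
theorem F136104 : act 0 n29275 = n23598 := d8_1 D29275 (iv D23598) (iv F105781)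
theorem F136105 : act 1 n29275 = n25244 := d16_1 D29275 (iv D25244) (iv F105782)
theorem F136106 : act 2 n29275 = n23892 := d23_1 D29275 F107328 (iv F135606)
theorem F136107 : act 3 n29275 = n25684 := d29_1 D29275 F115357 (iv F135607)
theorem F136108 : act 5 n29275 = n23891 := d38_1 D29275 F107323 (iv F135608)
theorem F136109 : act 6 n29275 = n29275 := d41_1 D29275 (iv D29275) F105783
theorem F136110 : act 8 n29275 = n23679 := d44_1 D29275 (iv D23679) (iv D18730) (iv F84377) D23580
def n29276 : Q := act 6 n23581
theorem D29276 : act 6 n23581 = n29276 := rfl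
theorem F136111 : act 1 n29276 = n25922 := d13_1 D29276 F116188 (iv F133570)
theorem F136112 : act 2 n29276 = n23582 := d20_1 D29276 (iv D23582) D23581
theorem F136113 : act 3 n29276 = n25942 := d26_1 D29276 (iv D25942) (iv F105784)
theorem F136114 : act 4 n29276 = n23993 := d31_1 D29276 (iv D23993) (iv F105785)
theorem F136115 : act 8 n29276 = n23586 := d40_2 (iv F105788) D29276 (iv D23586)
theorem F136116 : act 9 n29276 = n25771 := d41_2 (iv F105789) D29276 (iv D25771)
def n29277 : Q := act 5 n23582
theorem D29277 : act 5 n23582 = n29277 := rfl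
theorem F136117 : act 1 n29277 = n23608 := d12_1 D29277 (iv D23608) (iv F105790)
theorem F136118 : act 3 n29277 = n23583 := d25_1 D29277 (iv D23583) (iv F105791)
theorem F136119 : act 6 n29277 = n25863 := d35_2 D23582 D29277 (iv D25863) (iv D20390) (iv F84385)
theorem F136120 : act 9 n29277 = n25772 := d38_2 (iv F105794) D29277 (iv D25772)
def n29278 : Q := act 7 n23582
theorem D29278 : act 7 n23582 = n29278 := rfl
theorem F136121 : act 1 n29278 = n23609 := d14_1 D29278 (iv D23609) (iv F105790)
theorem F136122 : act 3 n29278 = n23584 := d27_1 D29278 (iv D23584) (iv F105791)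
theorem F136123 : act 4 n29278 = n23995 := d32_1 D29278 (iv D23995) (iv F105792)
theorem F136124 : act 6 n29278 = n25779 := d39_1 D29278 (iv D25779) (iv D20333) (iv F84386) D23582
theorem F136125 : act 8 n29278 = n23588 := d42_2 (iv F105793) D29278 (iv D23588)
theorem F136126 : act 9 n29278 = n25773 := d43_2 (iv F105794) D29278 (iv D25773)
def n29279 : Q := act 7 n23583
theorem D29279 : act 7 n23583 = n29279 := rfl
theorem F136127 : act 1 n29279 = n23610 := d14_1 D29279 (iv D23610) (iv F105795)
theorem F136128 : act 2 n29279 = n25945 := d21_1 D29279 (iv D25945) (iv F105796)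
theorem F136129 : act 4 n29279 = n25843 := d32_1 D29279 (iv D25843) (iv F105797)
theorem F136130 : act 5 n29279 = n23584 := d36_1 D29279 (iv D23584) D23583
theorem F136131 : act 9 n29279 = n25774 := d43_2 (iv F105799) D29279 (iv D25774)
def n29280 : Q := act 8 n23583
theorem D29280 : act 8 n23583 = n29280 := rfl
theorem F136132 : act 1 n29280 = n23611 := d15_1 D29280 (iv D23611) (iv F105795)
theorem F136133 : act 2 n29280 = n25946 := d22_1 D29280 (iv D25946) (iv F105796)
theorem F136134 : act 4 n29280 = n25844 := d33_1 D29280 (iv D25844) (iv F105797)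
theorem F136135 : act 5 n29280 = n23590 := d37_1 D29280 (iv D23590) (iv D18663) (iv F84392) D23583
theorem F136136 : act 6 n29280 = n25866 := d40_1 D29280 (iv D25866) (iv F105798)
def n29281 : Q := act 5 n23586
theorem D29281 : act 5 n23586 = n29281 := rfl
theorem F136137 : act 1 n29281 = n26266 := d12_1 D29281 F117472 (iv F133569)
theorem F136138 : act 2 n29281 = n23587 := d19_1 D29281 (iv D23587) (iv F105812)
theorem F136139 : act 3 n29281 = n26347 := d25_1 D29281 F117751 F134271
theorem F136140 : act 6 n29281 = n29281 := d35_2 D23586 D29281 (iv D29281) (iv D23586) F84403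
theorem F136141 : act 9 n29281 = n23682 := d38_2 (iv F105815) D29281 (iv D23682)
def n29282 : Q := act 7 n23586
theorem D29282 : act 7 n23586 = n29282 := rfl
theorem F136142 : act 1 n29282 = n26302 := d14_1 D29282 F117587 (iv F133569)
theorem F136143 : act 2 n29282 = n23588 := d21_1 D29282 (iv D23588) (iv F105812)
theorem F136144 : act 3 n29282 = n26288 := d27_1 D29282 F134883 F134271
theorem F136145 : act 4 n29282 = n24007 := d32_1 D29282 (iv D24007) (iv F105814)
theorem F136146 : act 6 n29282 = n26181 := d39_1 D29282 (iv D26181) (iv D20633) (iv F84404) D23586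
theorem F136147 : act 9 n29282 = n23683 := d43_2 (iv F105815) D29282 (iv D23683)
def n29283 : Q := act 4 n23587
theorem D29283 : act 4 n23587 = n29283 := rfl
theorem F136148 : act 0 n29283 = n26244 := d3_1 D29283 (iv F136065) F136062
theorem F136149 : act 1 n29283 = n23616 := d11_1 D29283 (iv D23616) (iv F105816)
theorem F136150 : act 3 n29283 = n23593 := d24_1 D29283 (iv D23593) F84425 (iv F84412) (iv F105817)
theorem F136151 : act 5 n29283 = n24008 := d30_2 D23587 D29283 (iv D24008) (iv D18971) (iv F84408)
theorem F136152 : act 6 n29283 = n29283 := d31_2 F105818 D29283 (iv D29283)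
theorem F136153 : act 9 n29283 = n23684 := d34_2 (iv F105819) D29283 (iv D23684)
def n29284 : Q := act 7 n23587
theorem D29284 : act 7 n23587 = n29284 := rfl
theorem F136154 : act 1 n29284 = n23617 := d14_1 D29284 (iv D23617) (iv F105816)
theorem F136155 : act 3 n29284 = n23589 := d27_1 D29284 (iv D23589) (iv F105817)
theorem F136156 : act 5 n29284 = n23588 := d36_1 D29284 (iv D23588) D23587
theorem F136157 : act 9 n29284 = n23685 := d43_2 (iv F105819) D29284 (iv D23685)
def n29285 : Q := act 8 n23587
theorem D29285 : act 8 n23587 = n29285 := rfl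
theorem F136158 : act 1 n29285 = n23618 := d15_1 D29285 (iv D23618) (iv F105816)
theorem F136159 : act 3 n29285 = n23590 := d28_1 D29285 (iv D23590) (iv F105817)
theorem F136160 : act 6 n29285 = n29285 := d40_1 D29285 (iv D29285) F105818
def n29286 : Q := act 6 n23589
theorem D29286 : act 6 n23589 = n29286 := rfl
theorem F136161 : act 1 n29286 = n23619 := d13_1 D29286 (iv D23619) (iv F105825)
theorem F136162 : act 2 n29286 = n27961 := d20_1 D29286 (iv D27961) (iv F105826)
theorem F136163 : act 4 n29286 = n23596 := d31_1 D29286 (iv D23596) (iv F105827)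
theorem F136164 : act 5 n29286 = n26185 := d35_1 D29286 (iv D26185) F92973 (iv F84418) (iv F105828)
theorem F136165 : act 7 n29286 = n29286 := d39_2 D23589 D29286 (iv D29286) (iv D23589) F84413
theorem F136166 : act 9 n29286 = n23687 := d41_2 (iv F105829) D29286 (iv D23687)
def n29287 : Q := act 8 n23589
theorem D29287 : act 8 n23589 = n29287 := rfl
theorem F136167 : act 1 n29287 = n23620 := d15_1 D29287 (iv D23620) (iv F105825)
theorem F136168 : act 2 n29287 = n27962 := d22_1 D29287 (iv D27962) (iv F105826)
theorem F136169 : act 4 n29287 = n23597 := d33_1 D29287 (iv D23597) (iv F105827)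
theorem F136170 : act 7 n29287 = n23590 := d42_1 D29287 (iv D23590) D23589
def n29288 : Q := act 9 n23590
theorem D29288 : act 9 n23590 = n29288 := rfl
theorem F136171 : act 1 n29288 = n23621 := d16_1 D29288 (iv D23621) (iv F105830)
theorem F136172 : act 2 n29288 = n25676 := d23_1 D29288 F135073 (iv F105831)
theorem F136173 : act 4 n29288 = n23598 := d34_1 D29288 (iv D23598) (iv F105832)
theorem F136174 : act 6 n29288 = n29288 := d41_1 D29288 (iv D29288) F105833
theorem F136175 : act 8 n29288 = n23689 := d44_1 D29288 (iv D23689) (iv D18736) (iv F84414) D23590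
def n29289 : Q := act 7 n23591
theorem D29289 : act 7 n23591 = n29289 := rfl
theorem F136176 : act 0 n29289 = n25700 := d6_1 D29289 F115423 (iv F133691)
theorem F136177 : act 1 n29289 = n29289 := d14_1 D29289 (iv D29289) F105834
theorem F136178 : act 2 n29289 = n23594 := d21_1 D29289 (iv D23594) (iv F105835)
theorem F136179 : act 3 n29289 = n23910 := d27_1 D29289 F107418 (iv F133692)
theorem F136180 : act 4 n29289 = n24452 := d32_1 D29289 F109973 F134415
theorem F136181 : act 5 n29289 = n23592 := d36_1 D29289 (iv D23592) D23591
theorem F136182 : act 8 n29289 = n23907 := d42_2 (iv F133694) D29289 (iv D23907)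
theorem F136183 : act 9 n29289 = n23691 := d43_2 (iv F105837) D29289 (iv D23691)
def n29290 : Q := act 7 n23593
theorem D29290 : act 7 n23593 = n29290 := rfl
theorem F136184 : act 0 n29290 = n26311 := d6_1 D29290 F134945 (iv F133703)
theorem F136185 : act 1 n29290 = n23622 := d14_1 D29290 (iv D23622) (iv F105843)
theorem F136186 : act 2 n29290 = n24452 := d21_1 D29290 F109973 (iv F133718)
theorem F136187 : act 4 n29290 = n23594 := d32_1 D29290 (iv D23594) D23593
theorem F136188 : act 5 n29290 = n24017 := d36_1 D29290 (iv D24017) (iv F105844)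
theorem F136189 : act 9 n29290 = n23693 := d43_2 (iv F105846) D29290 (iv D23693)
def n29291 : Q := act 8 n23593
theorem D29291 : act 8 n23593 = n29291 := rfl
theorem F136190 : act 0 n29291 = n25695 := d7_1 D29291 (iv F115403) (iv F133703)
theorem F136191 : act 1 n29291 = n23623 := d15_1 D29291 (iv D23623) (iv F105843)
theorem F136192 : act 2 n29291 = n23906 := d22_1 D29291 F135105 (iv F133718)
theorem F136193 : act 4 n29291 = n23595 := d33_1 D29291 (iv D23595) D23593
theorem F136194 : act 6 n29291 = n29291 := d40_1 D29291 (iv D29291) F105845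
def n29292 : Q := act 6 n23594
theorem D29292 : act 6 n23594 = n29292 := rfl
theorem F136195 : act 1 n29292 = n23624 := d13_1 D29292 (iv D23624) (iv F105847)
theorem F136196 : act 3 n29292 = n23596 := d26_1 D29292 (iv D23596) (iv F105848)
theorem F136197 : act 5 n29292 = n29292 := d35_1 D29292 (iv D29292) F105849 F84431 (iv F105849)
theorem F136198 : act 7 n29292 = n29292 := d39_2 D23594 D29292 (iv D29292) (iv D23594) F84426
theorem F136199 : act 9 n29292 = n23695 := d41_2 (iv F105850) D29292 (iv D23695)
def n29293 : Q := act 8 n23594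
theorem D29293 : act 8 n23594 = n29293 := rfl
theorem F136200 : act 0 n29293 = n25696 := d7_1 D29293 (iv F136091) F136085
theorem F136201 : act 1 n29293 = n23625 := d15_1 D29293 (iv D23625) (iv F105847)
theorem F136202 : act 2 n29293 = n23907 := d22_1 D29293 (iv F136182) F136178
theorem F136203 : act 3 n29293 = n23597 := d28_1 D29293 (iv D23597) (iv F105848)
theorem F136204 : act 5 n29293 = n23905 := d37_1 D29293 F107395 (iv F134426) F105355 (iv F105849)
theorem F136205 : act 7 n29293 = n23595 := d42_1 D29293 (iv D23595) D23594
def n29294 : Q := act 9 n23595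
theorem D29294 : act 9 n23595 = n29294 := rfl
theorem F136206 : act 0 n29294 = n25684 := d8_1 D29294 F115357 (iv F135609)
theorem F136207 : act 1 n29294 = n23626 := d16_1 D29294 (iv D23626) (iv F105851)
theorem F136208 : act 2 n29294 = n23898 := d23_1 D29294 F107362 (iv F135610)
theorem F136209 : act 3 n29294 = n23598 := d29_1 D29294 (iv D23598) (iv F105852)
theorem F136210 : act 5 n29294 = n23897 := d38_1 D29294 F107357 (iv F135611)
theorem F136211 : act 6 n29294 = n29294 := d41_1 D29294 (iv D29294) F105853
theorem F136212 : act 8 n29294 = n23697 := d44_1 D29294 (iv D23697) (iv D18741) (iv F84427) D23595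
def n29295 : Q := act 8 n23596
theorem D29295 : act 8 n23596 = n29295 := rfl
theorem F136213 : act 1 n29295 = n23627 := d15_1 D29295 (iv D23627) (iv F105854)
theorem F136214 : act 6 n29295 = n23597 := d40_1 D29295 (iv D23597) D23596
theorem F136215 : act 7 n29295 = n29295 := d42_1 D29295 (iv D29295) F105856
def n29296 : Q := act 9 n23597
theorem D29296 : act 9 n23597 = n29296 := rfl
theorem F136216 : act 1 n29296 = n23628 := d16_1 D29296 (iv D23628) (iv F105858)
theorem F136217 : act 2 n29296 = n25677 := d23_1 D29296 F135651 F135646
theorem F136218 : act 5 n29296 = n25675 := d38_1 D29296 F135809 F135806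
theorem F136219 : act 7 n29296 = n23598 := d43_1 D29296 (iv D23598) (iv F105859)
theorem F136220 : act 8 n29296 = n23699 := d44_1 D29296 (iv D23699) (iv D18743) (iv F84435) D23597
def n29297 : Q := act 2 n23599
theorem D29297 : act 2 n23599 = n29297 := rfl
theorem F136221 : act 0 n29297 = n25275 := d1_1 D29297 (iv D25275) (iv F105863)
theorem F136222 : act 3 n29297 = n29297 := d17_2 D23599 D29297 (iv D29297) (iv D23599) F84440
theorem F136223 : act 4 n29297 = n23602 := d18_2 (iv F105865) D29297 (iv D23602)
theorem F136224 : act 5 n29297 = n24024 := d19_2 (iv F105866) D29297 (iv D24024)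
theorem F136225 : act 7 n29297 = n25829 := d21_2 (iv F105867) D29297 (iv D25829)
theorem F136226 : act 8 n29297 = n29297 := d22_2 F105868 D29297 (iv D29297)
theorem F136227 : act 9 n29297 = n23750 := d23_2 (iv F105869) D29297 (iv D23750)
theorem F136228 : act 1 n26602 = n29297 := d16_3 F136227 F134795 D26602
def n29298 : Q := act 6 n23599
theorem D29298 : act 6 n23599 = n29298 := rfl
theorem F136229 : act 0 n29298 = n25276 := d5_1 D29298 (iv D25276) (iv F105863)
theorem F136230 : act 1 n29298 = n23792 := d13_1 D29298 (iv D23792) (iv F105864)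
theorem F136231 : act 3 n29298 = n23600 := d26_1 D29298 (iv D23600) D23599
theorem F136232 : act 4 n29298 = n23603 := d31_1 D29298 (iv D23603) (iv F105865)
theorem F136233 : act 8 n29298 = n29298 := d40_2 F105868 D29298 (iv D29298)
theorem F136234 : act 9 n29298 = n23751 := d41_2 (iv F105869) D29298 (iv D23751)
def n29299 : Q := act 5 n23600
theorem D29299 : act 5 n23600 = n29299 := rfl
theorem F136235 : act 0 n29299 = n25277 := d4_1 D29299 (iv D25277) (iv F105870)
theorem F136236 : act 1 n29299 = n23793 := d12_1 D29299 (iv D23793) (iv F105871)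
theorem F136237 : act 2 n29299 = n29299 := d19_1 D29299 (iv D29299) F105872
theorem F136238 : act 4 n29299 = n23990 := d30_1 D29299 (iv D23990) F85899 (iv F84449) (iv F105873)
theorem F136239 : act 6 n29299 = n24026 := d35_2 D23600 D29299 (iv D24026) (iv D18984) (iv F84441)
theorem F136240 : act 9 n29299 = n23752 := d38_2 (iv F105875) D29299 (iv D23752)
def n29300 : Q := act 7 n23600
theorem D29300 : act 7 n23600 = n29300 := rfl
theorem F136241 : act 0 n29300 = n25278 := d6_1 D29300 (iv D25278) (iv F105870)
theorem F136242 : act 1 n29300 = n23794 := d14_1 D29300 (iv D23794) (iv F105871)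
theorem F136243 : act 2 n29300 = n29300 := d21_1 D29300 (iv D29300) F105872
theorem F136244 : act 4 n29300 = n23601 := d32_1 D29300 (iv D23601) (iv F105873)
theorem F136245 : act 6 n29300 = n25832 := d39_1 D29300 (iv D25832) (iv D20369) (iv F84442) D23600
theorem F136246 : act 8 n29300 = n29300 := d42_2 F105874 D29300 (iv D29300)
theorem F136247 : act 9 n29300 = n23753 := d43_2 (iv F105875) D29300 (iv D23753)
def n29301 : Q := act 6 n23602
theorem D29301 : act 6 n23602 = n29301 := rfl
theorem F136248 : act 0 n29301 = n25280 := d5_1 D29301 (iv D25280) (iv F105884)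
theorem F136249 : act 1 n29301 = n26564 := d13_1 D29301 F118637 (iv F134759)
theorem F136250 : act 2 n29301 = n23603 := d20_1 D29301 (iv D23603) D23602
theorem F136251 : act 3 n29301 = n23630 := d26_1 D29301 (iv D23630) (iv F105885)
theorem F136252 : act 8 n29301 = n29301 := d40_2 F105888 D29301 (iv D29301)
theorem F136253 : act 9 n29301 = n25840 := d41_2 (iv F105889) D29301 (iv D25840)
def n29302 : Q := act 5 n23603
theorem D29302 : act 5 n23603 = n29302 := rfl
theorem F136254 : act 0 n29302 = n25281 := d4_1 D29302 (iv D25281) (iv F105890)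
theorem F136255 : act 1 n29302 = n25863 := d12_1 D29302 (iv D25863) (iv F105891)
theorem F136256 : act 3 n29302 = n23604 := d25_1 D29302 (iv D23604) (iv F105892)
theorem F136257 : act 6 n29302 = n23608 := d35_2 D23603 D29302 (iv D23608) (iv D18676) (iv F84454)
theorem F136258 : act 9 n29302 = n25841 := d38_2 (iv F105894) D29302 (iv D25841)
def n29303 : Q := act 7 n23603
theorem D29303 : act 7 n23603 = n29303 := rfl
theorem F136259 : act 0 n29303 = n25282 := d6_1 D29303 (iv D25282) (iv F105890)
theorem F136260 : act 1 n29303 = n25864 := d14_1 D29303 (iv D25864) (iv F105891)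
theorem F136261 : act 3 n29303 = n23605 := d27_1 D29303 (iv D23605) (iv F105892)
theorem F136262 : act 6 n29303 = n25848 := d39_1 D29303 (iv D25848) (iv D20380) (iv F84455) D23603
theorem F136263 : act 8 n29303 = n29303 := d42_2 F105893 D29303 (iv D29303)
theorem F136264 : act 9 n29303 = n25842 := d43_2 (iv F105894) D29303 (iv D25842)
def n29304 : Q := act 7 n23604
theorem D29304 : act 7 n23604 = n29304 := rfl
theorem F136265 : act 0 n29304 = n25283 := d6_1 D29304 (iv D25283) (iv F105895)
theorem F136266 : act 1 n29304 = n25865 := d14_1 D29304 (iv D25865) (iv F105896)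
theorem F136267 : act 2 n29304 = n23633 := d21_1 D29304 (iv D23633) (iv F105897)
theorem F136268 : act 4 n29304 = n25774 := d32_1 D29304 (iv D25774) (iv F105898)
theorem F136269 : act 5 n29304 = n23605 := d36_1 D29304 (iv D23605) D23604
theorem F136270 : act 9 n29304 = n25843 := d43_2 (iv F105900) D29304 (iv D25843)
def n29305 : Q := act 8 n23604
theorem D29305 : act 8 n23604 = n29305 := rfl
theorem F136271 : act 0 n29305 = n25284 := d7_1 D29305 (iv D25284) (iv F105895)
theorem F136272 : act 1 n29305 = n25866 := d15_1 D29305 (iv D25866) (iv F105896)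
theorem F136273 : act 2 n29305 = n23634 := d22_1 D29305 (iv D23634) (iv F105897)
theorem F136274 : act 4 n29305 = n25775 := d33_1 D29305 (iv D25775) (iv F105898)
theorem F136275 : act 5 n29305 = n29305 := d37_1 D29305 (iv D29305) (iv D23604) F84462 D23604
theorem F136276 : act 6 n29305 = n23611 := d40_1 D29305 (iv D23611) (iv F105899)
def n29306 : Q := act 5 n23607
theorem D29306 : act 5 n23607 = n29306 := rfl
theorem F136277 : act 0 n29306 = n25287 := d4_1 D29306 (iv D25287) (iv F105913)
theorem F136278 : act 1 n29306 = n25897 := d12_1 D29306 F116103 (iv F134714)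
theorem F136279 : act 2 n29306 = n23608 := d19_1 D29306 (iv D23608) (iv F105914)
theorem F136280 : act 3 n29306 = n23637 := d25_1 D29306 (iv D23637) (iv F105915)
theorem F136281 : act 9 n29306 = n25788 := d38_2 (iv F134715) D29306 F115762
def n29307 : Q := act 7 n23607
theorem D29307 : act 7 n23607 = n29307 := rfl
theorem F136282 : act 0 n29307 = n25288 := d6_1 D29307 (iv D25288) (iv F105913)
theorem F136283 : act 1 n29307 = n25928 := d14_1 D29307 F116206 (iv F134714)
theorem F136284 : act 2 n29307 = n23609 := d21_1 D29307 (iv D23609) (iv F105914)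
theorem F136285 : act 3 n29307 = n23638 := d27_1 D29307 (iv D23638) (iv F105915)
theorem F136286 : act 4 n29307 = n24061 := d32_1 D29307 (iv D24061) (iv F105916)
theorem F136287 : act 6 n29307 = n25880 := d39_1 D29307 (iv D25880) (iv D20400) (iv F84474) D23607
theorem F136288 : act 8 n29307 = n23615 := d42_2 (iv F105917) D29307 (iv D23615)
theorem F136289 : act 9 n29307 = n25811 := d43_2 (iv F134715) D29307 F115852
def n29308 : Q := act 4 n23608
theorem D29308 : act 4 n23608 = n29308 := rfl
theorem F136290 : act 0 n29308 = n25289 := d3_1 D29308 (iv D25289) (iv F105919)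
theorem F136291 : act 5 n29308 = n24062 := d30_2 D23608 D29308 (iv D24062) (iv D19009) (iv F84479)
theorem F136292 : act 9 n29308 = n25871 := d34_2 (iv F105921) D29308 (iv D25871)
def n29309 : Q := act 7 n23608
theorem D29309 : act 7 n23608 = n29309 := rfl
theorem F136293 : act 0 n29309 = n25290 := d6_1 D29309 (iv D25290) (iv F105919)
theorem F136294 : act 3 n29309 = n23610 := d27_1 D29309 (iv D23610) (iv F105920)
theorem F136295 : act 5 n29309 = n23609 := d36_1 D29309 (iv D23609) D23608
theorem F136296 : act 9 n29309 = n25872 := d43_2 (iv F105921) D29309 (iv D25872)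
def n29310 : Q := act 8 n23608
theorem D29310 : act 8 n23608 = n29310 := rfl
theorem F136297 : act 0 n29310 = n25291 := d7_1 D29310 (iv D25291) (iv F105919)
theorem F136298 : act 3 n29310 = n23611 := d28_1 D29310 (iv D23611) (iv F105920)
theorem F136299 : act 5 n29310 = n23618 := d37_1 D29310 (iv D23618) (iv D18681) (iv F84480) D23608
def n29311 : Q := act 6 n23610
theorem D29311 : act 6 n23610 = n29311 := rfl
theorem F136300 : act 0 n29311 = n25292 := d5_1 D29311 (iv D25292) (iv F105928)
theorem F136301 : act 2 n29311 = n23642 := d20_1 D29311 (iv D23642) (iv F105929)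
theorem F136302 : act 5 n29311 = n25884 := d35_1 D29311 (iv D25884) F92149 (iv F84488) (iv F105930)
theorem F136303 : act 9 n29311 = n25874 := d41_2 (iv F105931) D29311 (iv D25874)
def n29312 : Q := act 8 n23610
theorem D29312 : act 8 n23610 = n29312 := rfl
theorem F136304 : act 0 n29312 = n25293 := d7_1 D29312 (iv D25293) (iv F105928)
theorem F136305 : act 2 n29312 = n23643 := d22_1 D29312 (iv D23643) (iv F105929)
theorem F136306 : act 5 n29312 = n23620 := d37_1 D29312 (iv D23620) F84513 (iv F84489) (iv F105930)
theorem F136307 : act 7 n29312 = n23611 := d42_1 D29312 (iv D23611) D23610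
def n29313 : Q := act 9 n23611
theorem D29313 : act 9 n23611 = n29313 := rfl
theorem F136308 : act 0 n29313 = n25294 := d8_1 D29313 (iv D25294) (iv F105932)
theorem F136309 : act 2 n29313 = n23644 := d23_1 D29313 (iv D23644) (iv F105933)
theorem F136310 : act 5 n29313 = n23621 := d38_1 D29313 (iv D23621) (iv F105934)
theorem F136311 : act 8 n29313 = n25876 := d44_1 D29313 (iv D25876) (iv D20398) (iv F84484) D23611
def n29314 : Q := act 4 n23614
theorem D29314 : act 4 n23614 = n29314 := rfl
theorem F136312 : act 0 n29314 = n25298 := d3_1 D29314 (iv D25298) (iv F105945)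
theorem F136313 : act 1 n29314 = n26270 := d11_1 D29314 F117483 (iv F134938)
theorem F136314 : act 2 n29314 = n23616 := d18_1 D29314 (iv D23616) (iv F105946)
theorem F136315 : act 3 n29314 = n29314 := d24_1 D29314 (iv D29314) F105947 F84608 (iv F105947)
theorem F136316 : act 5 n29314 = n24081 := d30_2 D23614 D29314 (iv D24081) (iv D19021) (iv F84499)
theorem F136317 : act 6 n29314 = n29314 := d31_2 F105948 D29314 (iv D29314)
theorem F136318 : act 9 n29314 = n23703 := d34_2 (iv F105949) D29314 (iv D23703)
def n29315 : Q := act 7 n23614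
theorem D29315 : act 7 n23614 = n29315 := rfl
theorem F136319 : act 0 n29315 = n25299 := d6_1 D29315 (iv D25299) (iv F105945)
theorem F136320 : act 1 n29315 = n26272 := d14_1 D29315 F117490 (iv F134938)
theorem F136321 : act 2 n29315 = n23617 := d21_1 D29315 (iv D23617) (iv F105946)
theorem F136322 : act 3 n29315 = n23648 := d27_1 D29315 (iv D23648) (iv F105947)
theorem F136323 : act 5 n29315 = n23615 := d36_1 D29315 (iv D23615) D23614
theorem F136324 : act 9 n29315 = n23704 := d43_2 (iv F105949) D29315 (iv D23704)
def n29316 : Q := act 8 n23614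
theorem D29316 : act 8 n23614 = n29316 := rfl
theorem F136325 : act 0 n29316 = n25300 := d7_1 D29316 (iv D25300) (iv F105945)
theorem F136326 : act 1 n29316 = n26253 := d15_1 D29316 F117431 (iv F134938)
theorem F136327 : act 2 n29316 = n23618 := d22_1 D29316 (iv D23618) (iv F105946)
theorem F136328 : act 3 n29316 = n23649 := d28_1 D29316 (iv D23649) (iv F105947)
theorem F136329 : act 6 n29316 = n29316 := d40_1 D29316 (iv D29316) F105948
theorem F136330 : act 9 n29316 = n26184 := d44_2 (iv F105949) D29316 (iv D26184) F92966 F134575
def n29317 : Q := act 7 n23616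
theorem D29317 : act 7 n23616 = n29317 := rfl
theorem F136331 : act 0 n29317 = n25301 := d6_1 D29317 (iv D25301) (iv F105956)
theorem F136332 : act 3 n29317 = n23622 := d27_1 D29317 (iv D23622) (iv F105957)
theorem F136333 : act 4 n29317 = n23617 := d32_1 D29317 (iv D23617) D23616
theorem F136334 : act 5 n29317 = n24084 := d36_1 D29317 (iv D24084) (iv F105958)
theorem F136335 : act 9 n29317 = n23706 := d43_2 (iv F105960) D29317 (iv D23706)
def n29318 : Q := act 8 n23616
theorem D29318 : act 8 n23616 = n29318 := rfl
theorem F136336 : act 0 n29318 = n25302 := d7_1 D29318 (iv D25302) (iv F105956)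
theorem F136337 : act 3 n29318 = n23623 := d28_1 D29318 (iv D23623) (iv F105957)
theorem F136338 : act 4 n29318 = n23618 := d33_1 D29318 (iv D23618) D23616
theorem F136339 : act 6 n29318 = n29318 := d40_1 D29318 (iv D29318) F105959
def n29319 : Q := act 6 n23617
theorem D29319 : act 6 n23617 = n29319 := rfl
theorem F136340 : act 0 n29319 = n25303 := d5_1 D29319 (iv D25303) (iv F105961)
theorem F136341 : act 3 n29319 = n23619 := d26_1 D29319 (iv D23619) (iv F105962)
theorem F136342 : act 5 n29319 = n26251 := d35_1 D29319 (iv D26251) F93173 (iv F84508) (iv F105963)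
theorem F136343 : act 7 n29319 = n29319 := d39_2 D23617 D29319 (iv D29319) (iv D23617) F84503
theorem F136344 : act 9 n29319 = n23708 := d41_2 (iv F105964) D29319 (iv D23708)
def n29320 : Q := act 8 n23617
theorem D29320 : act 8 n23617 = n29320 := rfl
theorem F136345 : act 0 n29320 = n25304 := d7_1 D29320 (iv D25304) (iv F105961)
theorem F136346 : act 3 n29320 = n23620 := d28_1 D29320 (iv D23620) (iv F105962)
theorem F136347 : act 7 n29320 = n23618 := d42_1 D29320 (iv D23618) D23617
def n29321 : Q := act 9 n23618
theorem D29321 : act 9 n23618 = n29321 := rfl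
theorem F136348 : act 0 n29321 = n25305 := d8_1 D29321 (iv D25305) (iv F105965)
theorem F136349 : act 2 n29321 = n26184 := d23_1 D29321 (iv F136330) F136327
theorem F136350 : act 3 n29321 = n23621 := d29_1 D29321 (iv D23621) (iv F105966)
theorem F136351 : act 6 n29321 = n29321 := d41_1 D29321 (iv D29321) F105967
theorem F136352 : act 8 n29321 = n23710 := d44_1 D29321 (iv D23710) (iv D18751) (iv F84504) D23618
def n29322 : Q := act 8 n23619
theorem D29322 : act 8 n23619 = n29322 := rfl
theorem F136353 : act 0 n29322 = n25306 := d7_1 D29322 (iv D25306) (iv F105968)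
theorem F136354 : act 2 n29322 = n23653 := d22_1 D29322 (iv D23653) (iv F105969)
theorem F136355 : act 4 n29322 = n23627 := d33_1 D29322 (iv D23627) (iv F105970)
theorem F136356 : act 6 n29322 = n23620 := d40_1 D29322 (iv D23620) D23619
theorem F136357 : act 7 n29322 = n29322 := d42_1 D29322 (iv D29322) F105972
def n29323 : Q := act 9 n23620
theorem D29323 : act 9 n23620 = n29323 := rfl
theorem F136358 : act 0 n29323 = n25307 := d8_1 D29323 (iv D25307) (iv F105974)
theorem F136359 : act 2 n29323 = n23654 := d23_1 D29323 (iv D23654) (iv F105975)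
theorem F136360 : act 4 n29323 = n23628 := d34_1 D29323 (iv D23628) (iv F105976)
theorem F136361 : act 7 n29323 = n23621 := d43_1 D29323 (iv D23621) (iv F105977)
theorem F136362 : act 8 n29323 = n23712 := d44_1 D29323 (iv D23712) (iv D18753) (iv F84514) D23620
def n29324 : Q := act 6 n23622
theorem D29324 : act 6 n23622 = n29324 := rfl
theorem F136363 : act 0 n29324 = n25308 := d5_1 D29324 (iv D25308) (iv F105983)
theorem F136364 : act 2 n29324 = n29324 := d20_1 D29324 (iv D29324) F105984
theorem F136365 : act 4 n29324 = n23624 := d31_1 D29324 (iv D23624) (iv F105985)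
theorem F136366 : act 7 n29324 = n29324 := d39_2 D23622 D29324 (iv D29324) (iv D23622) F84522
theorem F136367 : act 9 n29324 = n23713 := d41_2 (iv F105987) D29324 (iv D23713)
def n29325 : Q := act 8 n23622
theorem D29325 : act 8 n23622 = n29325 := rfl
theorem F136368 : act 0 n29325 = n25309 := d7_1 D29325 (iv D25309) (iv F105983)
theorem F136369 : act 2 n29325 = n29325 := d22_1 D29325 (iv D29325) F105984
theorem F136370 : act 4 n29325 = n23625 := d33_1 D29325 (iv D23625) (iv F105985)
theorem F136371 : act 7 n29325 = n23623 := d42_1 D29325 (iv D23623) D23622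
def n29326 : Q := act 5 n23623
theorem D29326 : act 5 n23623 = n29326 := rfl
theorem F136372 : act 0 n29326 = n25310 := d4_1 D29326 (iv D25310) (iv F105988)
theorem F136373 : act 2 n29326 = n29326 := d19_1 D29326 (iv D29326) F105989
theorem F136374 : act 8 n29326 = n24093 := d37_2 D23623 D29326 (iv D24093) (iv D19030) (iv F84521)
def n29327 : Q := act 9 n23623
theorem D29327 : act 9 n23623 = n29327 := rfl
theorem F136375 : act 0 n29327 = n25311 := d8_1 D29327 (iv D25311) (iv F105988)
theorem F136376 : act 2 n29327 = n29327 := d23_1 D29327 (iv D29327) F105989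
theorem F136377 : act 4 n29327 = n23626 := d34_1 D29327 (iv D23626) (iv F105990)
theorem F136378 : act 6 n29327 = n29327 := d41_1 D29327 (iv D29327) F105991
theorem F136379 : act 8 n29327 = n23716 := d44_1 D29327 (iv D23716) (iv D18756) (iv F84523) D23623
def n29328 : Q := act 8 n23624
theorem D29328 : act 8 n23624 = n29328 := rfl
theorem F136380 : act 0 n29328 = n25312 := d7_1 D29328 (iv D25312) (iv F105992)
theorem F136381 : act 2 n29328 = n29328 := d22_1 D29328 (iv D29328) F105993
theorem F136382 : act 3 n29328 = n23627 := d28_1 D29328 (iv D23627) (iv F105994)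
theorem F136383 : act 6 n29328 = n23625 := d40_1 D29328 (iv D23625) D23624
theorem F136384 : act 7 n29328 = n29328 := d42_1 D29328 (iv D29328) F105996
def n29329 : Q := act 9 n23625
theorem D29329 : act 9 n23625 = n29329 := rfl
theorem F136385 : act 0 n29329 = n25313 := d8_1 D29329 (iv D25313) (iv F105998)
theorem F136386 : act 2 n29329 = n29329 := d23_1 D29329 (iv D29329) F105999
theorem F136387 : act 3 n29329 = n23628 := d29_1 D29329 (iv D23628) (iv F106000)
theorem F136388 : act 7 n29329 = n23626 := d43_1 D29329 (iv D23626) (iv F106001)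
theorem F136389 : act 8 n29329 = n23718 := d44_1 D29329 (iv D23718) (iv D18758) (iv F84528) D23625
def n29330 : Q := act 5 n23627
theorem D29330 : act 5 n23627 = n29330 := rfl
theorem F136390 : act 0 n29330 = n25314 := d4_1 D29330 (iv D25314) (iv F106007)
theorem F136391 : act 2 n29330 = n23655 := d19_1 D29330 (iv D23655) (iv F106008)
theorem F136392 : act 7 n29330 = n29330 := d36_2 F106010 D29330 (iv D29330)
theorem F136393 : act 8 n29330 = n29330 := d37_2 D23627 D29330 (iv D29330) (iv D23627) F84535
def n29331 : Q := act 9 n23627
theorem D29331 : act 9 n23627 = n29331 := rfl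
theorem F136394 : act 0 n29331 = n25315 := d8_1 D29331 (iv D25315) (iv F106007)
theorem F136395 : act 2 n29331 = n23656 := d23_1 D29331 (iv D23656) (iv F106008)
theorem F136396 : act 6 n29331 = n23628 := d41_1 D29331 (iv D23628) (iv F106009)
theorem F136397 : act 7 n29331 = n29331 := d43_1 D29331 (iv D29331) F106010
theorem F136398 : act 8 n29331 = n23720 := d44_1 D29331 (iv D23720) (iv D18760) (iv F84537) D23627
def n29332 : Q := act 5 n23630
theorem D29332 : act 5 n23630 = n29332 := rfl
theorem F136399 : act 0 n29332 = n25318 := d4_1 D29332 (iv D25318) (iv F106021)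
theorem F136400 : act 1 n29332 = n25860 := d12_1 D29332 F116014 (iv F134760)
theorem F136401 : act 2 n29332 = n23631 := d19_1 D29332 (iv D23631) (iv F106022)
theorem F136402 : act 6 n29332 = n23637 := d35_2 D23630 D29332 (iv D23637) (iv D18696) (iv F84547)
theorem F136403 : act 9 n29332 = n25769 := d38_2 (iv F106025) D29332 F134798
def n29333 : Q := act 7 n23630
theorem D29333 : act 7 n23630 = n29333 := rfl
theorem F136404 : act 0 n29333 = n25319 := d6_1 D29333 (iv D25319) (iv F106021)
theorem F136405 : act 1 n29333 = n26566 := d14_1 D29333 F118645 (iv F134760)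
theorem F136406 : act 2 n29333 = n23632 := d21_1 D29333 (iv D23632) (iv F106022)
theorem F136407 : act 4 n29333 = n29333 := d32_1 D29333 (iv D29333) F106023
theorem F136408 : act 6 n29333 = n25960 := d39_1 D29333 (iv D25960) (iv D20457) (iv F84548) D23630
theorem F136409 : act 8 n29333 = n29333 := d42_2 F106024 D29333 (iv D29333)
theorem F136410 : act 9 n29333 = n25950 := d43_2 (iv F106025) D29333 (iv D25950)
def n29334 : Q := act 4 n23631
theorem D29334 : act 4 n23631 = n29334 := rfl
theorem F136411 : act 0 n29334 = n25320 := d3_1 D29334 (iv D25320) (iv F106026)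
theorem F136412 : act 1 n29334 = n27193 := d11_1 D29334 F121206 (iv F135435)
theorem F136413 : act 3 n29334 = n26779 := d24_1 D29334 (iv D26779) (iv F134470) (iv F84559) (iv F106028)
theorem F136414 : act 5 n29334 = n29334 := d30_2 D23631 D29334 (iv D29334) (iv D23631) F84554
theorem F136415 : act 6 n29334 = n23639 := d31_2 (iv F106029) D29334 (iv D23639)
theorem F136416 : act 9 n29334 = n25614 := d34_2 (iv F106030) D29334 F135430
theorem F136417 : act 8 n25624 = n29334 := d44_5 F136416 (iv D25614) F91430 D20211 D25624
def n29335 : Q := act 7 n23631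
theorem D29335 : act 7 n23631 = n29335 := rfl
theorem F136418 : act 0 n29335 = n25321 := d6_1 D29335 (iv D25321) (iv F106026)
theorem F136419 : act 1 n29335 = n27546 := d14_1 D29335 F122801 (iv F135435)
theorem F136420 : act 3 n29335 = n23633 := d27_1 D29335 (iv D23633) (iv F106028)
theorem F136421 : act 5 n29335 = n23632 := d36_1 D29335 (iv D23632) D23631
theorem F136422 : act 9 n29335 = n25952 := d43_2 (iv F106030) D29335 (iv D25952)
def n29336 : Q := act 8 n23631
theorem D29336 : act 8 n23631 = n29336 := rfl
theorem F136423 : act 0 n29336 = n25322 := d7_1 D29336 (iv D25322) (iv F106026)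
theorem F136424 : act 1 n29336 = n27285 := d15_1 D29336 F121710 (iv F135435)
theorem F136425 : act 3 n29336 = n23634 := d28_1 D29336 (iv D23634) (iv F106028)
theorem F136426 : act 4 n29336 = n25624 := d33_1 D29336 F136417 (iv D29334)
theorem F136427 : act 5 n29336 = n29336 := d37_1 D29336 (iv D29336) (iv D23631) F84555 D23631
theorem F136428 : act 6 n29336 = n23641 := d40_1 D29336 (iv D23641) (iv F106029)
theorem F136429 : act 9 n29336 = n25608 := d44_2 (iv F106030) D29336 (iv D25608) F91411 (iv F135182)
def n29337 : Q := act 6 n23633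
theorem D29337 : act 6 n23633 = n29337 := rfl
theorem F136430 : act 0 n29337 = n25323 := d5_1 D29337 (iv D25323) (iv F106038)
theorem F136431 : act 1 n29337 = n27554 := d13_1 D29337 (iv D27554) (iv F106039)
theorem F136432 : act 4 n29337 = n27451 := d31_1 D29337 (iv D27451) (iv F106040)
theorem F136433 : act 5 n29337 = n25964 := d35_1 D29337 (iv D25964) F92337 (iv F84565) (iv F106041)
theorem F136434 : act 7 n29337 = n23642 := d39_2 D23633 D29337 (iv D23642) (iv D18699) (iv F84560)
theorem F136435 : act 9 n29337 = n25954 := d41_2 (iv F106042) D29337 (iv D25954)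
def n29338 : Q := act 8 n23633
theorem D29338 : act 8 n23633 = n29338 := rfl
theorem F136436 : act 0 n29338 = n25324 := d7_1 D29338 (iv D25324) (iv F106038)
theorem F136437 : act 1 n29338 = n27555 := d15_1 D29338 (iv D27555) (iv F106039)
theorem F136438 : act 4 n29338 = n26060 := d33_1 D29338 F134787 (iv F106040)
theorem F136439 : act 5 n29338 = n29338 := d37_1 D29338 (iv D29338) F106041 F84566 (iv F106041)
theorem F136440 : act 7 n29338 = n23634 := d42_1 D29338 (iv D23634) D23633
def n29339 : Q := act 9 n23634
theorem D29339 : act 9 n23634 = n29339 := rfl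
theorem F136441 : act 0 n29339 = n25325 := d8_1 D29339 (iv D25325) (iv F106043)
theorem F136442 : act 1 n29339 = n27282 := d16_1 D29339 F135475 (iv F106044)
theorem F136443 : act 3 n29339 = n25608 := d29_1 D29339 (iv F136429) F136425
theorem F136444 : act 4 n29339 = n26789 := d34_1 D29339 (iv D26789) (iv F135065)
theorem F136445 : act 5 n29339 = n29339 := d38_1 D29339 (iv D29339) F106046
theorem F136446 : act 6 n29339 = n23644 := d41_1 D29339 (iv D23644) (iv F106047)
theorem F136447 : act 8 n29339 = n25605 := d44_1 D29339 F135420 (iv D20455) (iv F84561) D23634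
def n29340 : Q := act 4 n23637
theorem D29340 : act 4 n23637 = n29340 := rfl
theorem F136448 : act 0 n29340 = n25329 := d3_1 D29340 (iv D25329) (iv F106059)
theorem F136449 : act 1 n29340 = n25549 := d11_1 D29340 F114833 (iv F134716)
theorem F136450 : act 2 n29340 = n23639 := d18_1 D29340 (iv D23639) (iv F106060)
theorem F136451 : act 5 n29340 = n23660 := d30_2 D23637 D29340 (iv D23660) (iv D18714) (iv F84575)
theorem F136452 : act 9 n29340 = n25487 := d34_2 (iv F134717) D29340 F114620
def n29341 : Q := act 7 n23637
theorem D29341 : act 7 n23637 = n29341 := rfl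
theorem F136453 : act 0 n29341 = n25330 := d6_1 D29341 (iv D25330) (iv F106059)
theorem F136454 : act 1 n29341 = n25899 := d14_1 D29341 F116108 (iv F134716)
theorem F136455 : act 2 n29341 = n23640 := d21_1 D29341 (iv D23640) (iv F106060)
theorem F136456 : act 5 n29341 = n23638 := d36_1 D29341 (iv D23638) D23637
theorem F136457 : act 9 n29341 = n25790 := d43_2 (iv F134717) D29341 F115768
def n29342 : Q := act 8 n23637
theorem D29342 : act 8 n23637 = n29342 := rfl
theorem F136458 : act 0 n29342 = n25331 := d7_1 D29342 (iv D25331) (iv F106059)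
theorem F136459 : act 1 n29342 = n25886 := d15_1 D29342 F116080 (iv F134716)
theorem F136460 : act 2 n29342 = n23641 := d22_1 D29342 (iv D23641) (iv F106060)
theorem F136461 : act 5 n29342 = n23649 := d37_1 D29342 (iv D23649) (iv D18703) (iv F84576) D23637
theorem F136462 : act 9 n29342 = n25781 := d44_2 (iv F134717) D29342 (iv D25781) F91924 D20341
def n29343 : Q := act 7 n23639
theorem D29343 : act 7 n23639 = n29343 := rfl
theorem F136463 : act 0 n29343 = n25332 := d6_1 D29343 (iv D25332) (iv F106068)
theorem F136464 : act 1 n29343 = n27226 := d14_1 D29343 F121395 (iv F135432)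
theorem F136465 : act 4 n29343 = n23640 := d32_1 D29343 (iv D23640) D23639
theorem F136466 : act 5 n29343 = n23662 := d36_1 D29343 (iv D23662) (iv F106070)
theorem F136467 : act 9 n29343 = n25996 := d43_2 (iv F106071) D29343 (iv D25996)
def n29344 : Q := act 8 n23639
theorem D29344 : act 8 n23639 = n29344 := rfl
theorem F136468 : act 0 n29344 = n25333 := d7_1 D29344 (iv D25333) (iv F106068)
theorem F136469 : act 1 n29344 = n27213 := d15_1 D29344 F121333 (iv F135432)
theorem F136470 : act 3 n29344 = n26753 := d28_1 D29344 (iv F135939) F135936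
theorem F136471 : act 4 n29344 = n23641 := d33_1 D29344 (iv D23641) D23639
theorem F136472 : act 5 n29344 = n29344 := d37_1 D29344 (iv D29344) F106070 F84677 (iv F106070)
theorem F136473 : act 6 n29344 = n25624 := d40_1 D29344 F136417 F136415
theorem F136474 : act 9 n29344 = n25586 := d44_2 (iv F106071) D29344 (iv D25586) F91352 (iv F135179)
def n29345 : Q := act 6 n23640
theorem D29345 : act 6 n23640 = n29345 := rfl
theorem F136475 : act 0 n29345 = n25334 := d5_1 D29345 (iv D25334) (iv F106072)
theorem F136476 : act 1 n29345 = n27603 := d13_1 D29345 F123045 (iv F135427)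
theorem F136477 : act 3 n29345 = n23642 := d26_1 D29345 (iv D23642) (iv F106074)
theorem F136478 : act 5 n29345 = n26011 := d35_1 D29345 (iv D26011) F92439 (iv F84586) (iv F106075)
theorem F136479 : act 9 n29345 = n25998 := d41_2 (iv F106076) D29345 (iv D25998)
def n29346 : Q := act 8 n23640
theorem D29346 : act 8 n23640 = n29346 := rfl
theorem F136480 : act 0 n29346 = n25335 := d7_1 D29346 (iv D25335) (iv F106072)
theorem F136481 : act 1 n29346 = n27588 := d15_1 D29346 F122992 (iv F135427)
theorem F136482 : act 3 n29346 = n23643 := d28_1 D29346 (iv D23643) (iv F106074)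
theorem F136483 : act 5 n29346 = n23651 := d37_1 D29346 (iv D23651) F84620 (iv F84587) (iv F106075)
theorem F136484 : act 7 n29346 = n23641 := d42_1 D29346 (iv D23641) D23640
theorem F136485 : act 9 n29346 = n27462 := d44_2 (iv F106076) D29346 (iv D27462) F97272 (iv F135175)
def n29347 : Q := act 8 n23642
theorem D29347 : act 8 n23642 = n29347 := rfl
theorem F136486 : act 0 n29347 = n25337 := d7_1 D29347 (iv D25337) (iv F106081)
theorem F136487 : act 1 n29347 = n27718 := d15_1 D29347 (iv D27718) (iv F106082)
theorem F136488 : act 6 n29347 = n23643 := d40_1 D29347 (iv D23643) D23642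
def n29348 : Q := act 9 n23643
theorem D29348 : act 9 n23643 = n29348 := rfl
theorem F136489 : act 0 n29348 = n25338 := d8_1 D29348 (iv D25338) (iv F106085)
theorem F136490 : act 1 n29348 = n27586 := d16_1 D29348 F135498 (iv F106086)
theorem F136491 : act 3 n29348 = n27462 := d29_1 D29348 (iv F136485) F136482
theorem F136492 : act 5 n29348 = n23654 := d38_1 D29348 (iv D23654) (iv F106087)
theorem F136493 : act 7 n29348 = n23644 := d43_1 D29348 (iv D23644) (iv F106088)
theorem F136494 : act 8 n29348 = n26002 := d44_1 D29348 (iv D26002) (iv D20486) (iv F84592) D23643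
def n29349 : Q := act 6 n23648
theorem D29349 : act 6 n23648 = n29349 := rfl
theorem F136495 : act 0 n29349 = n25343 := d5_1 D29349 (iv D25343) (iv F106108)
theorem F136496 : act 1 n29349 = n26274 := d13_1 D29349 F117496 (iv F134707)
theorem F136497 : act 2 n29349 = n23650 := d20_1 D29349 (iv D23650) (iv F106109)
theorem F136498 : act 4 n29349 = n29349 := d31_1 D29349 (iv D29349) F106110
theorem F136499 : act 5 n29349 = n26329 := d35_1 D29349 (iv D26329) F93369 (iv F84614) (iv F106111)
theorem F136500 : act 7 n29349 = n29349 := d39_2 D23648 D29349 (iv D29349) (iv D23648) F84609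
theorem F136501 : act 9 n29349 = n23725 := d41_2 (iv F106112) D29349 (iv D23725)
def n29350 : Q := act 8 n23648
theorem D29350 : act 8 n23648 = n29350 := rfl
theorem F136502 : act 0 n29350 = n25344 := d7_1 D29350 (iv D25344) (iv F106108)
theorem F136503 : act 1 n29350 = n26255 := d15_1 D29350 F117439 (iv F134707)
theorem F136504 : act 2 n29350 = n23651 := d22_1 D29350 (iv D23651) (iv F106109)
theorem F136505 : act 4 n29350 = n29350 := d33_1 D29350 (iv D29350) F106110
theorem F136506 : act 7 n29350 = n23649 := d42_1 D29350 (iv D23649) D23648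
theorem F136507 : act 9 n29350 = n26186 := d44_2 (iv F106112) D29350 (iv D26186) F92974 F134577
def n29351 : Q := act 8 n23650
theorem D29351 : act 8 n23650 = n29351 := rfl
theorem F136508 : act 0 n29351 = n25346 := d7_1 D29351 (iv D25346) (iv F106117)
theorem F136509 : act 1 n29351 = n28081 := d15_1 D29351 F125010 (iv F135563)
theorem F136510 : act 3 n29351 = n23653 := d28_1 D29351 (iv D23653) (iv F106119)
theorem F136511 : act 4 n29351 = n29351 := d33_1 D29351 (iv D29351) F106120
theorem F136512 : act 6 n29351 = n23651 := d40_1 D29351 (iv D23651) D23650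
theorem F136513 : act 7 n29351 = n29351 := d42_1 D29351 (iv D29351) F106122
theorem F136514 : act 9 n29351 = n27982 := d44_2 (iv F106123) D29351 (iv D27982) F99006 (iv F135301)
def n29352 : Q := act 5 n23653
theorem D29352 : act 5 n23653 = n29352 := rfl
theorem F136515 : act 0 n29352 = n25348 := d4_1 D29352 (iv D25348) (iv F106135)
theorem F136516 : act 1 n29352 = n28155 := d12_1 D29352 (iv D28155) (iv F106136)
theorem F136517 : act 7 n29352 = n29352 := d36_2 F106139 D29352 (iv D29352)
theorem F136518 : act 8 n29352 = n26337 := d37_2 D23653 D29352 (iv D26337) (iv D20760) (iv F84630)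
def n29353 : Q := act 9 n23653
theorem D29353 : act 9 n23653 = n29353 := rfl
theorem F136519 : act 0 n29353 = n25349 := d8_1 D29353 (iv D25349) (iv F106135)
theorem F136520 : act 1 n29353 = n28078 := d16_1 D29353 F135572 (iv F106136)
theorem F136521 : act 3 n29353 = n27982 := d29_1 D29353 (iv F136514) F136510
theorem F136522 : act 4 n29353 = n23656 := d34_1 D29353 (iv D23656) (iv F106137)
theorem F136523 : act 6 n29353 = n23654 := d41_1 D29353 (iv D23654) (iv F106138)
theorem F136524 : act 7 n29353 = n29353 := d43_1 D29353 (iv D29353) F106139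
theorem F136525 : act 8 n29353 = n23731 := d44_1 D29353 (iv D23731) (iv D18770) (iv F84632) D23653
def n29354 : Q := act 4 n23655
theorem D29354 : act 4 n23655 = n29354 := rfl
theorem F136526 : act 0 n29354 = n25350 := d3_1 D29354 (iv D25350) (iv F106145)
theorem F136527 : act 7 n29354 = n29354 := d32_2 F106147 D29354 (iv D29354)
theorem F136528 : act 8 n29354 = n29354 := d33_2 F106148 D29354 (iv D29354)
def n29355 : Q := act 9 n23655
theorem D29355 : act 9 n23655 = n29355 := rfl
theorem F136529 : act 0 n29355 = n25351 := d8_1 D29355 (iv D25351) (iv F106145)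
theorem F136530 : act 1 n29355 = n27823 := d16_1 D29355 F135675 F135669
theorem F136531 : act 3 n29355 = n29355 := d29_1 D29355 (iv D29355) F106146
theorem F136532 : act 5 n29355 = n23656 := d38_1 D29355 (iv D23656) D23655
theorem F136533 : act 6 n29355 = n27818 := d41_1 D29355 (iv F135979) F135976
theorem F136534 : act 7 n29355 = n29355 := d43_1 D29355 (iv D29355) F106147
def n29356 : Q := act 3 n23660
theorem D29356 : act 3 n23660 = n29356 := rfl
theorem F136535 : act 0 n29356 = n25356 := d2_1 D29356 (iv D25356) (iv F106172)
theorem F136536 : act 1 n29356 = n25570 := d10_1 D29356 F114902 (iv F134812)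
theorem F136537 : act 4 n29356 = n24225 := d24_2 D23660 D29356 (iv D24225) (iv D19128) (iv F84664)
theorem F136538 : act 6 n29356 = n29356 := d26_2 F106174 D29356 (iv D29356)
theorem F136539 : act 8 n29356 = n29356 := d28_2 F106175 D29356 (iv D29356)
theorem F136540 : act 9 n29356 = n25500 := d29_2 (iv F134813) D29356 F114671
def n29357 : Q := act 7 n23660
theorem D29357 : act 7 n23660 = n29357 := rfl
theorem F136541 : act 0 n29357 = n25357 := d6_1 D29357 (iv D25357) (iv F106172)
theorem F136542 : act 1 n29357 = n25572 := d14_1 D29357 F114911 (iv F134812)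
theorem F136543 : act 2 n29357 = n23662 := d21_1 D29357 (iv D23662) (iv F106173)
theorem F136544 : act 4 n29357 = n23661 := d32_1 D29357 (iv D23661) D23660
theorem F136545 : act 8 n29357 = n29357 := d42_2 F106175 D29357 (iv D29357)
theorem F136546 : act 9 n29357 = n25502 := d43_2 (iv F134813) D29357 F114681
def n29358 : Q := act 6 n23661
theorem D29358 : act 6 n23661 = n29358 := rfl
theorem F136547 : act 0 n29358 = n25358 := d5_1 D29358 (iv D25358) (iv F106177)
theorem F136548 : act 1 n29358 = n25580 := d13_1 D29358 F114940 (iv F134723)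
theorem F136549 : act 2 n29358 = n23663 := d20_1 D29358 (iv D23663) (iv F106178)
theorem F136550 : act 3 n29358 = n24227 := d26_1 D29358 (iv D24227) (iv F106179)
theorem F136551 : act 5 n29358 = n26097 := d35_1 D29358 (iv D26097) F92675 (iv F84671) (iv F106180)
theorem F136552 : act 7 n29358 = n29358 := d39_2 D23661 D29358 (iv D29358) (iv D23661) F84665
theorem F136553 : act 8 n29358 = n29358 := d40_2 F106181 D29358 (iv D29358)
theorem F136554 : act 9 n29358 = n25512 := d41_2 (iv F134724) D29358 F114723
def n29359 : Q := act 6 n23662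
theorem D29359 : act 6 n23662 = n29359 := rfl
theorem F136555 : act 0 n29359 = n25359 := d5_1 D29359 (iv D25359) (iv F106183)
theorem F136556 : act 1 n29359 = n27252 := d13_1 D29359 F121530 (iv F135539)
theorem F136557 : act 4 n29359 = n23663 := d31_1 D29359 (iv D23663) (iv F106185)
theorem F136558 : act 7 n29359 = n29359 := d39_2 D23662 D29359 (iv D29359) (iv D23662) F84676
theorem F136559 : act 8 n29359 = n29359 := d40_2 F106186 D29359 (iv D29359)
theorem F136560 : act 9 n29359 = n26088 := d41_2 (iv F106187) D29359 (iv D26088)
def n29360 : Q := act 6 n23665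
theorem D29360 : act 6 n23665 = n29360 := rfl
theorem F136561 : act 0 n29360 = n24370 := d5_1 D29360 F109595 (iv F133565)
theorem F136562 : act 1 n29360 = n23666 := d13_1 D29360 (iv D23666) D23665
theorem F136563 : act 2 n29360 = n24300 := d20_1 D29360 F109289 F134185
theorem F136564 : act 3 n29360 = n23715 := d26_1 D29360 F133662 (iv F133854)
theorem F136565 : act 4 n29360 = n24263 := d31_1 D29360 (iv D24263) (iv F106204)
theorem F136566 : act 8 n29360 = n24366 := d40_2 (iv F133855) D29360 F133642
theorem F136567 : act 5 n23707 = n29360 := d37_5 F136566 (iv D24366) (iv F133535) (iv F84829) D23707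
def n29361 : Q := act 5 n23666
theorem D29361 : act 5 n23666 = n29361 := rfl
theorem F136568 : act 0 n29361 = n23682 := d4_1 D29361 (iv D23682) (iv F106208)
theorem F136569 : act 1 n29361 = n23707 := d12_1 D29361 F136567 F136562
theorem F136570 : act 2 n29361 = n23667 := d19_1 D29361 (iv D23667) (iv F106209)
theorem F136571 : act 3 n29361 = n23694 := d25_1 D29361 F133717 (iv F133571)
theorem F136572 : act 4 n29361 = n23686 := d30_1 D29361 F134398 F134172 (iv D24264) (iv F106211)
theorem F136573 : act 6 n29361 = n29361 := d35_2 D23666 D29361 (iv D29361) (iv D23666) F84707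
theorem F136574 : act 8 n29361 = n23684 := d37_2 (iv F133572) D29361 F106301 F132974 (iv F89247)
def n29362 : Q := act 7 n23666
theorem D29362 : act 7 n23666 = n29362 := rfl
theorem F136575 : act 0 n29362 = n23683 := d6_1 D29362 (iv D23683) (iv F106208)
theorem F136576 : act 2 n29362 = n23668 := d21_1 D29362 (iv D23668) (iv F106209)
theorem F136577 : act 3 n29362 = n24364 := d27_1 D29362 F109574 (iv F133571)
theorem F136578 : act 4 n29362 = n24265 := d32_1 D29362 (iv D24265) (iv F106211)
theorem F136579 : act 6 n29362 = n24362 := d39_1 D29362 F109565 F87163 F133368 D23666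
theorem F136580 : act 8 n29362 = n24361 := d42_2 (iv F133572) D29362 F109561
def n29363 : Q := act 7 n23667
theorem D29363 : act 7 n23667 = n29363 := rfl
theorem F136581 : act 0 n29363 = n23685 := d6_1 D29363 (iv D23685) (iv F106213)
theorem F136582 : act 1 n29363 = n25365 := d14_1 D29363 (iv D25365) (iv F106214)
theorem F136583 : act 3 n29363 = n23669 := d27_1 D29363 (iv D23669) (iv F106215)
theorem F136584 : act 4 n29363 = n26259 := d32_1 D29363 (iv D26259) (iv F134848)
theorem F136585 : act 5 n29363 = n23668 := d36_1 D29363 (iv D23668) D23667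
def n29364 : Q := act 8 n23667
theorem D29364 : act 8 n23667 = n29364 := rfl
theorem F136586 : act 0 n29364 = n23686 := d7_1 D29364 (iv D23686) (iv F106213)
theorem F136587 : act 1 n29364 = n25366 := d15_1 D29364 (iv D25366) (iv F106214)
theorem F136588 : act 2 n29364 = n23684 := d22_1 D29364 (iv F136574) F136570
theorem F136589 : act 3 n29364 = n23670 := d28_1 D29364 (iv D23670) (iv F106215)
theorem F136590 : act 4 n29364 = n23682 := d33_1 D29364 F133567 (iv F134848)
theorem F136591 : act 5 n29364 = n24309 := d37_1 D29364 F133713 (iv F133342) (iv F84714) D23667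
theorem F136592 : act 6 n29364 = n29364 := d40_1 D29364 (iv D29364) F106216
def n29365 : Q := act 6 n23669
theorem D29365 : act 6 n23669 = n29365 := rfl
theorem F136593 : act 0 n29365 = n23687 := d5_1 D29365 (iv D23687) (iv F106223)
theorem F136594 : act 1 n29365 = n25367 := d13_1 D29365 (iv D25367) (iv F106224)
theorem F136595 : act 2 n29365 = n25444 := d20_1 D29365 F135554 (iv F106225)
theorem F136596 : act 4 n29365 = n23677 := d31_1 D29365 (iv D23677) (iv F106226)
theorem F136597 : act 5 n29365 = n25442 := d35_1 D29365 F114433 F134210 (iv F84724) (iv F106227)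
theorem F136598 : act 7 n29365 = n29365 := d39_2 D23669 D29365 (iv D29365) (iv D23669) F84719
def n29366 : Q := act 8 n23669
theorem D29366 : act 8 n23669 = n29366 := rfl
theorem F136599 : act 0 n29366 = n23688 := d7_1 D29366 (iv D23688) (iv F106223)
theorem F136600 : act 1 n29366 = n25368 := d15_1 D29366 (iv D25368) (iv F106224)
theorem F136601 : act 2 n29366 = n24449 := d22_1 D29366 F133672 (iv F106225)
theorem F136602 : act 4 n29366 = n23678 := d33_1 D29366 (iv D23678) (iv F106226)
theorem F136603 : act 5 n29366 = n24447 := d37_1 D29366 (iv D24447) (iv F133343) (iv F84725) (iv F106227)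
theorem F136604 : act 7 n29366 = n23670 := d42_1 D29366 (iv D23670) D23669
def n29367 : Q := act 9 n23670
theorem D29367 : act 9 n23670 = n29367 := rfl
theorem F136605 : act 0 n29367 = n23689 := d8_1 D29367 (iv D23689) (iv F106228)
theorem F136606 : act 1 n29367 = n25369 := d16_1 D29367 (iv D25369) (iv F106229)
theorem F136607 : act 2 n29367 = n24996 := d23_1 D29367 (iv D24996) (iv F133863)
theorem F136608 : act 4 n29367 = n23679 := d34_1 D29367 (iv D23679) (iv F106231)
theorem F136609 : act 5 n29367 = n24994 := d38_1 D29367 (iv D24994) (iv F133864)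
theorem F136610 : act 6 n29367 = n29367 := d41_1 D29367 (iv D29367) F106233
def n29368 : Q := act 6 n23675
theorem D29368 : act 6 n23675 = n29368 := rfl
theorem F136611 : act 0 n29368 = n23695 := d5_1 D29368 (iv D23695) (iv F106257)
theorem F136612 : act 1 n29368 = n25377 := d13_1 D29368 (iv D25377) (iv F106258)
theorem F136613 : act 2 n29368 = n26359 := d20_1 D29368 F117798 (iv F133673)
theorem F136614 : act 3 n29368 = n23677 := d26_1 D29368 (iv D23677) (iv F106259)
theorem F136615 : act 4 n29368 = n26273 := d31_1 D29368 F117492 (iv F133674)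
theorem F136616 : act 5 n29368 = n29368 := d35_1 D29368 (iv D29368) F106260 F84744 (iv F106260)
theorem F136617 : act 7 n29368 = n29368 := d39_2 D23675 D29368 (iv D29368) (iv D23675) F84739
def n29369 : Q := act 8 n23675
theorem D29369 : act 8 n23675 = n29369 := rfl
theorem F136618 : act 0 n29369 = n23696 := d7_1 D29369 (iv D23696) (iv F106257)
theorem F136619 : act 1 n29369 = n25378 := d15_1 D29369 (iv D25378) (iv F106258)
theorem F136620 : act 2 n29369 = n26380 := d22_1 D29369 F117888 (iv F133673)
theorem F136621 : act 3 n29369 = n23678 := d28_1 D29369 (iv D23678) (iv F106259)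
theorem F136622 : act 4 n29369 = n26287 := d33_1 D29369 F117537 (iv F133674)
theorem F136623 : act 5 n29369 = n29369 := d37_1 D29369 (iv D29369) F106260 F84745 (iv F106260)
theorem F136624 : act 7 n29369 = n23676 := d42_1 D29369 (iv D23676) D23675
def n29370 : Q := act 9 n23676
theorem D29370 : act 9 n23676 = n29370 := rfl
theorem F136625 : act 0 n29370 = n23697 := d8_1 D29370 (iv D23697) (iv F106261)
theorem F136626 : act 1 n29370 = n25379 := d16_1 D29370 (iv D25379) (iv F106262)
theorem F136627 : act 2 n29370 = n25688 := d23_1 D29370 F135067 F134375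
theorem F136628 : act 3 n29370 = n23679 := d29_1 D29370 (iv D23679) (iv F106264)
theorem F136629 : act 4 n29370 = n26347 := d34_1 D29370 (iv D26347) (iv F134885)
theorem F136630 : act 5 n29370 = n29370 := d38_1 D29370 (iv D29370) F106266
theorem F136631 : act 6 n29370 = n29370 := d41_1 D29370 (iv D29370) F106267
theorem F136632 : act 8 n29370 = n25684 := d44_1 D29370 F115357 (iv F134418) F105770 D23676
def n29371 : Q := act 8 n23677
theorem D29371 : act 8 n23677 = n29371 := rfl
theorem F136633 : act 0 n29371 = n23698 := d7_1 D29371 (iv D23698) (iv F106268)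
theorem F136634 : act 1 n29371 = n25380 := d15_1 D29371 (iv D25380) (iv F106269)
theorem F136635 : act 6 n29371 = n23678 := d40_1 D29371 (iv D23678) D23677
theorem F136636 : act 7 n29371 = n29371 := d42_1 D29371 (iv D29371) F106271
def n29372 : Q := act 9 n23678
theorem D29372 : act 9 n23678 = n29372 := rfl
theorem F136637 : act 0 n29372 = n23699 := d8_1 D29372 (iv D23699) (iv F106272)
theorem F136638 : act 1 n29372 = n25381 := d16_1 D29372 (iv D25381) (iv F106273)
theorem F136639 : act 5 n29372 = n29372 := d38_1 D29372 (iv D29372) F106274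
theorem F136640 : act 7 n29372 = n23679 := d43_1 D29372 (iv D23679) (iv F106275)
def n29373 : Q := act 7 n23682
theorem D29373 : act 7 n23682 = n29373 := rfl
theorem F136641 : act 1 n29373 = n26265 := d14_1 D29373 F117469 (iv F133566)
theorem F136642 : act 2 n29373 = n23685 := d21_1 D29373 (iv D23685) (iv F106291)
theorem F136643 : act 3 n29373 = n26287 := d27_1 D29373 F134881 F134256
theorem F136644 : act 5 n29373 = n23683 := d36_1 D29373 (iv D23683) D23682
theorem F136645 : act 8 n29373 = n26259 := d42_2 (iv F133567) D29373 (iv D26259)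
def n29374 : Q := act 7 n23684
theorem D29374 : act 7 n23684 = n29374 := rfl
theorem F136646 : act 0 n29374 = n26259 := d6_1 D29374 (iv D26259) (iv F133602)
theorem F136647 : act 1 n29374 = n23706 := d14_1 D29374 (iv D23706) (iv F106299)
theorem F136648 : act 3 n29374 = n23693 := d27_1 D29374 (iv D23693) (iv F106300)
theorem F136649 : act 4 n29374 = n23685 := d32_1 D29374 (iv D23685) D23684
theorem F136650 : act 5 n29374 = n24312 := d36_1 D29374 (iv D24312) (iv F106301)
def n29375 : Q := act 6 n23685
theorem D29375 : act 6 n23685 = n29375 := rfl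
theorem F136651 : act 1 n29375 = n23708 := d13_1 D29375 (iv D23708) (iv F106303)
theorem F136652 : act 3 n29375 = n23687 := d26_1 D29375 (iv D23687) (iv F106304)
theorem F136653 : act 5 n29375 = n26196 := d35_1 D29375 (iv D26196) F92998 (iv F84769) (iv F106305)
theorem F136654 : act 7 n29375 = n29375 := d39_2 D23685 D29375 (iv D29375) (iv D23685) F84765
def n29376 : Q := act 8 n23685
theorem D29376 : act 8 n23685 = n29376 := rfl
theorem F136655 : act 1 n29376 = n23709 := d15_1 D29376 (iv D23709) (iv F106303)
theorem F136656 : act 2 n29376 = n26259 := d22_1 D29376 (iv F136645) F136642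
theorem F136657 : act 3 n29376 = n23688 := d28_1 D29376 (iv D23688) (iv F106304)
theorem F136658 : act 5 n29376 = n26190 := d37_1 D29376 F134819 F93035 (iv F84770) (iv F106305)
theorem F136659 : act 7 n29376 = n23686 := d42_1 D29376 (iv D23686) D23685
def n29377 : Q := act 9 n23686
theorem D29377 : act 9 n23686 = n29377 := rfl
theorem F136660 : act 1 n29377 = n23710 := d16_1 D29377 (iv D23710) (iv F106306)
theorem F136661 : act 2 n29377 = n26244 := d23_1 D29377 F117404 (iv F134397)
theorem F136662 : act 3 n29377 = n23689 := d29_1 D29377 (iv D23689) (iv F106307)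
theorem F136663 : act 5 n29377 = n26179 := d38_1 D29377 F117141 (iv F134398)
theorem F136664 : act 6 n29377 = n29377 := d41_1 D29377 (iv D29377) F106309
def n29378 : Q := act 8 n23687
theorem D29378 : act 8 n23687 = n29378 := rfl
theorem F136665 : act 1 n29378 = n23711 := d15_1 D29378 (iv D23711) (iv F106310)
theorem F136666 : act 2 n29378 = n26357 := d22_1 D29378 F134958 (iv F106311)
theorem F136667 : act 4 n29378 = n23698 := d33_1 D29378 (iv D23698) (iv F106312)
theorem F136668 : act 5 n29378 = n26353 := d37_1 D29378 (iv D26353) (iv F106485) F134940 (iv F106313)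
theorem F136669 : act 6 n29378 = n23688 := d40_1 D29378 (iv D23688) D23687
theorem F136670 : act 7 n29378 = n29378 := d42_1 D29378 (iv D29378) F106314
def n29379 : Q := act 9 n23688
theorem D29379 : act 9 n23688 = n29379 := rfl
theorem F136671 : act 1 n29379 = n23712 := d16_1 D29379 (iv D23712) (iv F106315)
theorem F136672 : act 2 n29379 = n26390 := d23_1 D29379 (iv D26390) (iv F134821)
theorem F136673 : act 4 n29379 = n23699 := d34_1 D29379 (iv D23699) (iv F106317)
theorem F136674 : act 5 n29379 = n26209 := d38_1 D29379 (iv D26209) (iv F106318)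
theorem F136675 : act 7 n29379 = n23689 := d43_1 D29379 (iv D23689) (iv F106319)
def n29380 : Q := act 6 n23691
theorem D29380 : act 6 n23691 = n29380 := rfl
theorem F136676 : act 0 n29380 = n26359 := d5_1 D29380 F117798 (iv F133701)
theorem F136677 : act 1 n29380 = n29380 := d13_1 D29380 (iv D29380) F106332
theorem F136678 : act 2 n29380 = n23695 := d20_1 D29380 (iv D23695) (iv F106333)
theorem F136679 : act 4 n29380 = n24422 := d31_1 D29380 F109833 (iv F133702)
theorem F136680 : act 5 n29380 = n29380 := d35_1 D29380 (iv D29380) F106334 F84786 (iv F106334)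
theorem F136681 : act 7 n29380 = n29380 := d39_2 D23691 D29380 (iv D29380) (iv D23691) F84782
theorem F136682 : act 8 n25446 = n29380 := d33_0 F136679 F109835 D25446
def n29381 : Q := act 8 n23691
theorem D29381 : act 8 n23691 = n29381 := rfl
theorem F136683 : act 0 n29381 = n26380 := d7_1 D29381 F117888 (iv F133701)
theorem F136684 : act 1 n29381 = n29381 := d15_1 D29381 (iv D29381) F106332
theorem F136685 : act 2 n29381 = n23696 := d22_1 D29381 (iv D23696) (iv F106333)
theorem F136686 : act 4 n29381 = n24440 := d33_1 D29381 F109919 (iv F133702)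
theorem F136687 : act 5 n29381 = n29381 := d37_1 D29381 (iv D29381) F106334 F84787 (iv F106334)
theorem F136688 : act 6 n29381 = n25446 := d40_1 D29381 F136682 (iv D29380)
theorem F136689 : act 7 n29381 = n23692 := d42_1 D29381 (iv D23692) D23691
def n29382 : Q := act 9 n23692
theorem D29382 : act 9 n23692 = n29382 := rfl
theorem F136690 : act 0 n29382 = n25688 := d8_1 D29382 F135067 F134373
theorem F136691 : act 1 n29382 = n29382 := d16_1 D29382 (iv D29382) F106336
theorem F136692 : act 2 n29382 = n23697 := d23_1 D29382 (iv D23697) (iv F106337)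
theorem F136693 : act 3 n29382 = n23901 := d29_1 D29382 (iv F135691) F135688
theorem F136694 : act 4 n29382 = n24987 := d34_1 D29382 (iv D24987) F133861
theorem F136695 : act 5 n29382 = n29382 := d38_1 D29382 (iv D29382) F106339
theorem F136696 : act 6 n29382 = n29382 := d41_1 D29382 (iv D29382) F106340
theorem F136697 : act 8 n29382 = n23898 := d44_1 D29382 F107362 (iv F133694) F105837 D23692
def n29383 : Q := act 6 n23693
theorem D29383 : act 6 n23693 = n29383 := rfl
theorem F136698 : act 0 n29383 = n26273 := d5_1 D29383 F117492 (iv F133716)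
theorem F136699 : act 1 n29383 = n23713 := d13_1 D29383 (iv D23713) (iv F106341)
theorem F136700 : act 2 n29383 = n24422 := d20_1 D29383 F109833 F134411
theorem F136701 : act 4 n29383 = n23695 := d31_1 D29383 (iv D23695) (iv F106342)
theorem F136702 : act 5 n29383 = n24351 := d35_1 D29383 F109517 F87126 (iv F132976) (iv F106343)
theorem F136703 : act 7 n29383 = n29383 := d39_2 D23693 D29383 (iv D29383) (iv D23693) F84790
theorem F136704 : act 8 n29383 = n25425 := d45_6 F54288 (iv F68795) (iv F87032) (iv F106343) D29383 F136703 F114363 (iv F114439) (iv F135710) F135711 (iv D29213) (iv D23470) D23471 F105182 (iv F106264) F134885 F93418 F133433 F59005 (iv D10040) F37251 F132152 (iv D5151) (iv D4106) F13989 F9941 (iv D2009) (iv F9309) (iv F12573) F12574 F12575 (iv F17650) (iv F22407) D5749 F27713 F27714 F23694 D4981 D6245 (iv F131862) F24202 F24199 F19041 F13569 F9655 (iv D1358) F4857 F4858 F3481 (iv F4911) D1370 F6917 D1963 D2808 (iv F19023) F131294 (iv F28884) F28885 (iv F35946) D9570 D12240 F132741 F68705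
def n29384 : Q := act 8 n23693
theorem D29384 : act 8 n23693 = n29384 := rfl
theorem F136705 : act 0 n29384 = n26287 := d7_1 D29384 F117537 (iv F133716)
theorem F136706 : act 1 n29384 = n23714 := d15_1 D29384 (iv D23714) (iv F106341)
theorem F136707 : act 2 n29384 = n24440 := d22_1 D29384 F109919 F134411
theorem F136708 : act 4 n29384 = n23696 := d33_1 D29384 (iv D23696) (iv F106342)
theorem F136709 : act 5 n29384 = n24364 := d37_1 D29384 (iv D24364) F87167 (iv F132977) (iv F106343)
theorem F136710 : act 6 n29384 = n25425 := d40_1 D29384 (iv F136704) (iv D29383)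
theorem F136711 : act 7 n29384 = n23694 := d42_1 D29384 (iv D23694) D23693
def n29385 : Q := act 9 n23694
theorem D29385 : act 9 n23694 = n29385 := rfl
theorem F136712 : act 0 n29385 = n26347 := d8_1 D29385 (iv D26347) F134255
theorem F136713 : act 1 n29385 = n23716 := d16_1 D29385 (iv D23716) (iv F106345)
theorem F136714 : act 2 n29385 = n24987 := d23_1 D29385 (iv D24987) F133859
theorem F136715 : act 4 n29385 = n23697 := d34_1 D29385 (iv D23697) (iv F106347)
theorem F136716 : act 5 n29385 = n24933 := d38_1 D29385 (iv D24933) (iv F133717)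
theorem F136717 : act 6 n29385 = n29385 := d41_1 D29385 (iv D29385) F106349
def n29386 : Q := act 8 n23695
theorem D29386 : act 8 n23695 = n29386 := rfl
theorem F136718 : act 1 n29386 = n23717 := d15_1 D29386 (iv D23717) (iv F106350)
theorem F136719 : act 2 n29386 = n25446 := d22_1 D29386 F136682 F136678
theorem F136720 : act 3 n29386 = n23698 := d28_1 D29386 (iv D23698) (iv F106351)
theorem F136721 : act 4 n29386 = n25425 := d33_1 D29386 (iv F136704) F136701
theorem F136722 : act 6 n29386 = n23696 := d40_1 D29386 (iv D23696) D23695
theorem F136723 : act 7 n29386 = n29386 := d42_1 D29386 (iv D29386) F106353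
theorem F136724 : act 5 n25435 = n29386 := d30_0 F136721 (iv D25425) F90916 D20078 D25435
def n29387 : Q := act 9 n23696
theorem D29387 : act 9 n23696 = n29387 := rfl
theorem F136725 : act 1 n29387 = n23718 := d16_1 D29387 (iv D23718) (iv F106354)
theorem F136726 : act 3 n29387 = n23699 := d29_1 D29387 (iv D23699) (iv F106355)
theorem F136727 : act 5 n29387 = n29387 := d38_1 D29387 (iv D29387) F106356
theorem F136728 : act 7 n29387 = n23697 := d43_1 D29387 (iv D23697) (iv F106357)
def n29388 : Q := act 5 n23698
theorem D29388 : act 5 n23698 = n29388 := rfl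
theorem F136729 : act 1 n29388 = n23719 := d12_1 D29388 (iv D23719) (iv F106362)
theorem F136730 : act 3 n29388 = n25435 := d25_1 D29388 F136724 F136720
theorem F136731 : act 6 n29388 = n29388 := d35_2 (iv F106363) D29388 (iv D29388) F106363 F84802
theorem F136732 : act 7 n29388 = n29388 := d36_2 F106364 D29388 (iv D29388)
theorem F136733 : act 8 n29388 = n29388 := d37_2 D23698 D29388 (iv D29388) (iv D23698) F84799
def n29389 : Q := act 9 n23698
theorem D29389 : act 9 n23698 = n29389 := rfl
theorem F136734 : act 1 n29389 = n23720 := d16_1 D29389 (iv D23720) (iv F106362)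
theorem F136735 : act 6 n29389 = n23699 := d41_1 D29389 (iv D23699) (iv F106363)
theorem F136736 : act 7 n29389 = n29389 := d43_1 D29389 (iv D29389) F106364
def n29390 : Q := act 7 n23703
theorem D29390 : act 7 n23703 = n29390 := rfl
theorem F136737 : act 0 n29390 = n25414 := d6_1 D29390 (iv D25414) (iv F106381)
theorem F136738 : act 1 n29390 = n26268 := d14_1 D29390 F117479 (iv F134936)
theorem F136739 : act 2 n29390 = n23706 := d21_1 D29390 (iv D23706) (iv F106382)
theorem F136740 : act 3 n29390 = n29390 := d27_1 D29390 (iv D29390) F106383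
theorem F136741 : act 4 n29390 = n23704 := d32_1 D29390 (iv D23704) D23703
theorem F136742 : act 5 n29390 = n24371 := d36_1 D29390 (iv D24371) (iv F106384)
theorem F136743 : act 8 n29390 = n26194 := d42_2 (iv F134937) D29390 (iv D26194)
def n29391 : Q := act 6 n23704
theorem D29391 : act 6 n23704 = n29391 := rfl
theorem F136744 : act 0 n29391 = n25416 := d5_1 D29391 (iv D25416) (iv F106386)
theorem F136745 : act 1 n29391 = n26271 := d13_1 D29391 F117486 (iv F134878)
theorem F136746 : act 2 n29391 = n23708 := d20_1 D29391 (iv D23708) (iv F106387)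
theorem F136747 : act 3 n29391 = n23725 := d26_1 D29391 (iv D23725) (iv F106388)
theorem F136748 : act 5 n29391 = n26264 := d35_1 D29391 (iv D26264) F93201 (iv F84825) (iv F106389)
theorem F136749 : act 7 n29391 = n29391 := d39_2 D23704 D29391 (iv D29391) (iv D23704) F84820
theorem F136750 : act 8 n29391 = n26196 := d40_2 (iv F134879) D29391 (iv D26196)
def n29392 : Q := act 6 n23706
theorem D29392 : act 6 n23706 = n29392 := rfl
theorem F136751 : act 0 n29392 = n25419 := d5_1 D29392 (iv D25419) (iv F106395)
theorem F136752 : act 3 n29392 = n23713 := d26_1 D29392 (iv D23713) (iv F106396)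
theorem F136753 : act 4 n29392 = n23708 := d31_1 D29392 (iv D23708) (iv F106397)
theorem F136754 : act 7 n29392 = n29392 := d39_2 D23706 D29392 (iv D29392) (iv D23706) F84830
def n29393 : Q := act 8 n23706
theorem D29393 : act 8 n23706 = n29393 := rfl
theorem F136755 : act 0 n29393 = n25420 := d7_1 D29393 (iv D25420) (iv F106395)
theorem F136756 : act 2 n29393 = n26194 := d22_1 D29393 (iv F136743) F136739
theorem F136757 : act 3 n29393 = n23714 := d28_1 D29393 (iv D23714) (iv F106396)
theorem F136758 : act 4 n29393 = n23709 := d33_1 D29393 (iv D23709) (iv F106397)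
theorem F136759 : act 7 n29393 = n23707 := d42_1 D29393 (iv D23707) D23706
def n29394 : Q := act 9 n23707
theorem D29394 : act 9 n23707 = n29394 := rfl
theorem F136760 : act 0 n29394 = n25422 := d8_1 D29394 (iv D25422) (iv F106399)
theorem F136761 : act 2 n29394 = n26182 := d23_1 D29394 F117152 (iv F134868)
theorem F136762 : act 3 n29394 = n23716 := d29_1 D29394 (iv D23716) (iv F106400)
theorem F136763 : act 4 n29394 = n23710 := d34_1 D29394 (iv D23710) (iv F106401)
theorem F136764 : act 6 n29394 = n29394 := d41_1 D29394 (iv D29394) F106402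
def n29395 : Q := act 8 n23708
theorem D29395 : act 8 n23708 = n29395 := rfl
theorem F136765 : act 0 n29395 = n25423 := d7_1 D29395 (iv D25423) (iv F106403)
theorem F136766 : act 2 n29395 = n26196 := d22_1 D29395 (iv F136750) F136746
theorem F136767 : act 3 n29395 = n23711 := d28_1 D29395 (iv D23711) (iv F106404)
theorem F136768 : act 6 n29395 = n23709 := d40_1 D29395 (iv D23709) D23708
theorem F136769 : act 7 n29395 = n29395 := d42_1 D29395 (iv D29395) F106406
def n29396 : Q := act 9 n23709
theorem D29396 : act 9 n23709 = n29396 := rfl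
theorem F136770 : act 0 n29396 = n25424 := d8_1 D29396 (iv D25424) (iv F106407)
theorem F136771 : act 2 n29396 = n26183 := d23_1 D29396 F117156 (iv F134866)
theorem F136772 : act 3 n29396 = n23712 := d29_1 D29396 (iv D23712) (iv F106408)
theorem F136773 : act 5 n29396 = n26181 := d38_1 D29396 F117148 (iv F134867)
theorem F136774 : act 7 n29396 = n23710 := d43_1 D29396 (iv D23710) (iv F106410)
def n29397 : Q := act 5 n23711
theorem D29397 : act 5 n23711 = n29397 := rfl
theorem F136775 : act 0 n29397 = n25425 := d4_1 D29397 (iv D25425) (iv F106415)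
theorem F136776 : act 1 n29397 = n26353 := d12_1 D29397 (iv F136668) F136665
theorem F136777 : act 2 n29397 = n23730 := d19_1 D29397 (iv D23730) (iv F106416)
theorem F136778 : act 6 n29397 = n26287 := d35_2 (iv F106418) D29397 (iv D26287) F93257 (iv F84846)
theorem F136779 : act 7 n29397 = n29397 := d36_2 F106419 D29397 (iv D29397)
theorem F136780 : act 8 n29397 = n26273 := d37_2 D23711 D29397 (iv D26273) (iv D20706) (iv F84841)
def n29398 : Q := act 9 n23711
theorem D29398 : act 9 n23711 = n29398 := rfl
theorem F136781 : act 0 n29398 = n25426 := d8_1 D29398 (iv D25426) (iv F106415)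
theorem F136782 : act 2 n29398 = n23731 := d23_1 D29398 (iv D23731) (iv F106416)
theorem F136783 : act 4 n29398 = n23720 := d34_1 D29398 (iv D23720) (iv F106417)
theorem F136784 : act 6 n29398 = n23712 := d41_1 D29398 (iv D23712) (iv F106418)
theorem F136785 : act 7 n29398 = n29398 := d43_1 D29398 (iv D29398) F106419
def n29399 : Q := act 5 n23713
theorem D29399 : act 5 n23713 = n29399 := rfl
theorem F136786 : act 0 n29399 = n25427 := d4_1 D29399 (iv D25427) (iv F106425)
theorem F136787 : act 1 n29399 = n24351 := d12_1 D29399 (iv F136702) F136699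
theorem F136788 : act 2 n29399 = n29399 := d19_1 D29399 (iv D29399) F106426
theorem F136789 : act 4 n29399 = n29399 := d30_1 D29399 (iv D29399) F106427 F84864 (iv F106427)
theorem F136790 : act 6 n29399 = n24294 := d35_2 D23713 D29399 F109260 (iv F132989) (iv F84856)
theorem F136791 : act 7 n29399 = n29399 := d36_2 F106428 D29399 (iv D29399)
theorem F136792 : act 8 n24293 = n29399 := d40_0 F136790 (iv D24294) D24293
def n29400 : Q := act 8 n23713
theorem D29400 : act 8 n23713 = n29400 := rfl
theorem F136793 : act 0 n29400 = n25428 := d7_1 D29400 (iv D25428) (iv F106425)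
theorem F136794 : act 1 n29400 = n25425 := d15_1 D29400 (iv F136704) F136699
theorem F136795 : act 2 n29400 = n29400 := d22_1 D29400 (iv D29400) F106426
theorem F136796 : act 4 n29400 = n23717 := d33_1 D29400 (iv D23717) (iv F106427)
theorem F136797 : act 5 n29400 = n25393 := d37_1 D29400 (iv D25393) (iv F109255) F136792 (iv D29399)
theorem F136798 : act 6 n29400 = n23714 := d40_1 D29400 (iv D23714) D23713
theorem F136799 : act 7 n29400 = n29400 := d42_1 D29400 (iv D29400) F106428
def n29401 : Q := act 5 n23714
theorem D29401 : act 5 n23714 = n29401 := rfl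
theorem F136800 : act 0 n29401 = n24445 := d4_1 D29401 F134403 (iv F106429)
theorem F136801 : act 1 n29401 = n24364 := d12_1 D29401 (iv F136709) F136706
theorem F136802 : act 2 n29401 = n29401 := d19_1 D29401 (iv D29401) F106430
theorem F136803 : act 4 n29401 = n29401 := d30_1 D29401 (iv D29401) F106431 F84869 (iv F106431)
theorem F136804 : act 6 n29401 = n24304 := d35_2 F136798 D29401 F109305 (iv F114244) (iv F136797)
theorem F136805 : act 7 n29401 = n23715 := d36_2 (iv F106432) D29401 (iv D23715)
theorem F136806 : act 8 n29401 = n24303 := d37_2 D23714 D29401 F109300 (iv F132990) (iv F84856)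
def n29402 : Q := act 9 n23714
theorem D29402 : act 9 n23714 = n29402 := rfl
theorem F136807 : act 0 n29402 = n25430 := d8_1 D29402 (iv D25430) (iv F106429)
theorem F136808 : act 2 n29402 = n29402 := d23_1 D29402 (iv D29402) F106430
theorem F136809 : act 4 n29402 = n23718 := d34_1 D29402 (iv D23718) (iv F106431)
theorem F136810 : act 7 n29402 = n23716 := d43_1 D29402 (iv D23716) (iv F106432)
def n29403 : Q := act 9 n23715
theorem D29403 : act 9 n23715 = n29403 := rfl
theorem F136811 : act 0 n29403 = n24446 := d8_1 D29403 (iv D24446) F133665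
theorem F136812 : act 1 n29403 = n24933 := d16_1 D29403 (iv D24933) (iv F133661)
theorem F136813 : act 2 n29403 = n29403 := d23_1 D29403 (iv D29403) F106435
theorem F136814 : act 4 n29403 = n29403 := d34_1 D29403 (iv D29403) F106436
theorem F136815 : act 5 n29403 = n23716 := d38_1 D29403 (iv D23716) D23715
theorem F136816 : act 6 n29403 = n24892 := d41_1 D29403 (iv D24892) (iv F133662)
def n29404 : Q := act 5 n23717
theorem D29404 : act 5 n23717 = n29404 := rfl
theorem F136817 : act 0 n29404 = n25433 := d4_1 D29404 (iv D25433) (iv F106443)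
theorem F136818 : act 1 n29404 = n25435 := d12_1 D29404 F136724 F136718
theorem F136819 : act 2 n29404 = n29404 := d19_1 D29404 (iv D29404) F106444
theorem F136820 : act 3 n29404 = n23719 := d25_1 D29404 (iv D23719) (iv F106445)
theorem F136821 : act 4 n29404 = n25407 := d30_1 D29404 (iv D25407) (iv F114243) (iv F136797) F136796
theorem F136822 : act 6 n29404 = n29404 := d35_2 (iv F106446) D29404 (iv D29404) F106446 F84869
theorem F136823 : act 7 n29404 = n29404 := d36_2 F106447 D29404 (iv D29404)
theorem F136824 : act 8 n29404 = n29404 := d37_2 D23717 D29404 (iv D29404) (iv D23717) F84864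
def n29405 : Q := act 9 n23717
theorem D29405 : act 9 n23717 = n29405 := rfl
theorem F136825 : act 0 n29405 = n25434 := d8_1 D29405 (iv D25434) (iv F106443)
theorem F136826 : act 2 n29405 = n29405 := d23_1 D29405 (iv D29405) F106444
theorem F136827 : act 3 n29405 = n23720 := d29_1 D29405 (iv D23720) (iv F106445)
theorem F136828 : act 6 n29405 = n23718 := d41_1 D29405 (iv D23718) (iv F106446)
theorem F136829 : act 7 n29405 = n29405 := d43_1 D29405 (iv D29405) F106447
def n29406 : Q := act 4 n23719
theorem D29406 : act 4 n23719 = n29406 := rfl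
theorem F136830 : act 0 n29406 = n25435 := d3_1 D29406 (iv D25435) (iv F106453)
theorem F136831 : act 2 n29406 = n23732 := d18_1 D29406 (iv D23732) (iv F106454)
theorem F136832 : act 6 n29406 = n29406 := d31_2 F106455 D29406 (iv D29406)
theorem F136833 : act 7 n29406 = n29406 := d32_2 F106456 D29406 (iv D29406)
theorem F136834 : act 8 n29406 = n29406 := d33_2 F106457 D29406 (iv D29406)
def n29407 : Q := act 9 n23719
theorem D29407 : act 9 n23719 = n29407 := rfl
theorem F136835 : act 0 n29407 = n25436 := d8_1 D29407 (iv D25436) (iv F106453)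
theorem F136836 : act 2 n29407 = n23733 := d23_1 D29407 (iv D23733) (iv F106454)
theorem F136837 : act 5 n29407 = n23720 := d38_1 D29407 (iv D23720) D23719
theorem F136838 : act 6 n29407 = n29407 := d41_1 D29407 (iv D29407) F106455
theorem F136839 : act 7 n29407 = n29407 := d43_1 D29407 (iv D29407) F106456
def n29408 : Q := act 4 n23730
theorem D29408 : act 4 n23730 = n29408 := rfl
theorem F136840 : act 0 n29408 = n25446 := d3_1 D29408 (iv D25446) (iv F106509)
theorem F136841 : act 1 n29408 = n28066 := d11_1 D29408 F124945 (iv F134949)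
theorem F136842 : act 5 n29408 = n23732 := d30_2 D23730 D29408 (iv D23732) (iv D18772) (iv F84927)
theorem F136843 : act 6 n29408 = n26380 := d31_2 (iv F106511) D29408 (iv D26380)
theorem F136844 : act 7 n29408 = n29408 := d32_2 F106512 D29408 (iv D29408)
theorem F136845 : act 8 n29408 = n26359 := d33_2 (iv F106513) D29408 (iv D26359)
def n29409 : Q := act 9 n23730
theorem D29409 : act 9 n23730 = n29409 := rfl
theorem F136846 : act 0 n29409 = n25447 := d8_1 D29409 (iv D25447) (iv F106509)
theorem F136847 : act 1 n29409 = n28055 := d16_1 D29409 F124899 (iv F134949)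
theorem F136848 : act 3 n29409 = n27961 := d29_1 D29409 F124536 (iv F134950)
theorem F136849 : act 5 n29409 = n23731 := d38_1 D29409 (iv D23731) D23730
theorem F136850 : act 6 n29409 = n26381 := d41_1 D29409 (iv D26381) (iv F106511)
theorem F136851 : act 7 n29409 = n29409 := d43_1 D29409 (iv D29409) F106512
def n29410 : Q := act 3 n23732
theorem D29410 : act 3 n23732 = n29410 := rfl
theorem F136852 : act 0 n29410 = n25448 := d2_1 D29410 (iv D25448) (iv F106519)
theorem F136853 : act 4 n29410 = n29410 := d24_2 D23732 D29410 (iv D29410) (iv D23732) F84936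
theorem F136854 : act 6 n29410 = n29410 := d26_2 F106520 D29410 (iv D29410)
theorem F136855 : act 7 n29410 = n29410 := d27_2 F106521 D29410 (iv D29410)
theorem F136856 : act 8 n29410 = n29410 := d28_2 F106522 D29410 (iv D29410)
def n29411 : Q := act 9 n23732
theorem D29411 : act 9 n23732 = n29411 := rfl
theorem F136857 : act 0 n29411 = n25449 := d8_1 D29411 (iv D25449) (iv F106519)
theorem F136858 : act 4 n29411 = n23733 := d34_1 D29411 (iv D23733) D23732
theorem F136859 : act 6 n29411 = n29411 := d41_1 D29411 (iv D29411) F106520
theorem F136860 : act 7 n29411 = n29411 := d43_1 D29411 (iv D29411) F106521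
def n29412 : Q := act 8 n23733
theorem D29412 : act 8 n23733 = n29412 := rfl
theorem F136861 : act 0 n29412 = n25450 := d7_1 D29412 (iv D25450) (iv F106523)
theorem F136862 : act 3 n29412 = n29412 := d28_1 D29412 (iv D29412) F106524
theorem F136863 : act 6 n29412 = n29412 := d40_1 D29412 (iv D29412) F106526
theorem F136864 : act 7 n29412 = n29412 := d42_1 D29412 (iv D29412) F106527
theorem F136865 : act 9 n29412 = n29412 := d44_2 D23733 D29412 (iv D29412) (iv D23733) F84939
def n29413 : Q := act 2 n23734
theorem D29413 : act 2 n23734 = n29413 := rfl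
theorem F136866 : act 0 n29413 = n23750 := d1_1 D29413 (iv D23750) (iv F106528)
theorem F136867 : act 3 n29413 = n29413 := d17_2 D23734 D29413 (iv D29413) (iv D23734) F84953
theorem F136868 : act 4 n29413 = n24028 := d18_2 (iv F106530) D29413 (iv D24028)
theorem F136869 : act 5 n29413 = n25829 := d19_2 (iv F106531) D29413 (iv D25829)
theorem F136870 : act 7 n29413 = n24024 := d21_2 (iv F106532) D29413 (iv D24024)
theorem F136871 : act 8 n29413 = n23737 := d22_2 (iv F106533) D29413 (iv D23737)
theorem F136872 : act 9 n29413 = n25275 := d23_2 (iv F106534) D29413 (iv D25275)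
def n29414 : Q := act 6 n23734
theorem D29414 : act 6 n23734 = n29414 := rfl
theorem F136873 : act 0 n29414 = n23751 := d5_1 D29414 (iv D23751) (iv F106528)
theorem F136874 : act 1 n29414 = n25452 := d13_1 D29414 (iv D25452) (iv F106529)
theorem F136875 : act 3 n29414 = n23735 := d26_1 D29414 (iv D23735) D23734
theorem F136876 : act 4 n29414 = n24029 := d31_1 D29414 (iv D24029) (iv F106530)
theorem F136877 : act 8 n29414 = n23738 := d40_2 (iv F106533) D29414 (iv D23738)
theorem F136878 : act 9 n29414 = n25276 := d41_2 (iv F106534) D29414 (iv D25276)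
def n29415 : Q := act 5 n23735
theorem D29415 : act 5 n23735 = n29415 := rfl
theorem F136879 : act 0 n29415 = n23752 := d4_1 D29415 (iv D23752) (iv F106535)
theorem F136880 : act 1 n29415 = n25453 := d12_1 D29415 (iv D25453) (iv F106536)
theorem F136881 : act 2 n29415 = n29415 := d19_1 D29415 (iv D29415) F106537
theorem F136882 : act 4 n29415 = n23953 := d30_1 D29415 (iv D23953) F85766 (iv F84962) (iv F106538)
theorem F136883 : act 6 n29415 = n25831 := d35_2 D23735 D29415 (iv D25831) (iv D20369) (iv F84954)
theorem F136884 : act 9 n29415 = n25277 := d38_2 (iv F106540) D29415 (iv D25277)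
def n29416 : Q := act 7 n23735
theorem D29416 : act 7 n23735 = n29416 := rfl
theorem F136885 : act 0 n29416 = n23753 := d6_1 D29416 (iv D23753) (iv F106535)
theorem F136886 : act 1 n29416 = n25454 := d14_1 D29416 (iv D25454) (iv F106536)
theorem F136887 : act 2 n29416 = n29416 := d21_1 D29416 (iv D29416) F106537
theorem F136888 : act 4 n29416 = n23736 := d32_1 D29416 (iv D23736) (iv F106538)
theorem F136889 : act 6 n29416 = n24027 := d39_1 D29416 (iv D24027) (iv D18984) (iv F84955) D23735
theorem F136890 : act 8 n29416 = n23740 := d42_2 (iv F106539) D29416 (iv D23740)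
theorem F136891 : act 9 n29416 = n25278 := d43_2 (iv F106540) D29416 (iv D25278)
def n29417 : Q := act 1 n23737
theorem D29417 : act 1 n23737 = n29417 := rfl
theorem F136892 : act 0 n29417 = n24550 := d0_1 D29417 F110503 F88160 F134992 (iv F106549)
theorem F136893 : act 2 n29417 = n25455 := d9_2 D23737 D29417 (iv D25455) (iv D20096) (iv F84966)
theorem F136894 : act 3 n29417 = n29417 := d10_2 F106550 D29417 (iv D29417)
theorem F136895 : act 4 n29417 = n24492 := d11_2 (iv F106551) D29417 (iv F134306)
theorem F136896 : act 5 n29417 = n29417 := d12_2 F106552 D29417 (iv D29417)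
theorem F136897 : act 7 n29417 = n24592 := d14_2 (iv F106553) D29417 (iv D24592)
theorem F136898 : act 9 n29417 = n29417 := d16_2 F106554 D29417 (iv D29417)
def n29418 : Q := act 6 n23737
theorem D29418 : act 6 n23737 = n29418 := rfl
theorem F136899 : act 0 n29418 = n23755 := d5_1 D29418 (iv D23755) (iv F106549)
theorem F136900 : act 2 n29418 = n23738 := d20_1 D29418 (iv D23738) D23737
theorem F136901 : act 3 n29418 = n29418 := d26_1 D29418 (iv D29418) F106550
theorem F136902 : act 4 n29418 = n24599 := d31_1 D29418 (iv D24599) (iv F106551)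
theorem F136903 : act 9 n29418 = n29418 := d41_2 F106554 D29418 (iv D29418)
theorem F136904 : act 5 n25554 = n29418 := d30_0 F136902 F134989 F90089 D20163 D25554
def n29419 : Q := act 5 n23738
theorem D29419 : act 5 n23738 = n29419 := rfl
theorem F136905 : act 0 n29419 = n23756 := d4_1 D29419 (iv D23756) (iv F106555)
theorem F136906 : act 1 n29419 = n25457 := d12_1 D29419 (iv D25457) (iv F106556)
theorem F136907 : act 2 n29419 = n25554 := d19_1 D29419 F136904 F136900
theorem F136908 : act 3 n29419 = n23739 := d25_1 D29419 (iv D23739) (iv F106557)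
theorem F136909 : act 4 n29419 = n25552 := d30_1 D29419 (iv D25552) (iv F134987) (iv D24600) (iv F106558)
theorem F136910 : act 6 n29419 = n29419 := d35_2 D23738 D29419 (iv D29419) (iv D23738) F84968
theorem F136911 : act 9 n29419 = n29419 := d38_2 F106559 D29419 (iv D29419)
def n29420 : Q := act 7 n23738
theorem D29420 : act 7 n23738 = n29420 := rfl
theorem F136912 : act 0 n29420 = n23757 := d6_1 D29420 (iv D23757) (iv F106555)
theorem F136913 : act 1 n29420 = n25458 := d14_1 D29420 (iv D25458) (iv F106556)
theorem F136914 : act 3 n29420 = n23740 := d27_1 D29420 (iv D23740) (iv F106557)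
theorem F136915 : act 4 n29420 = n24601 := d32_1 D29420 (iv D24601) (iv F106558)
theorem F136916 : act 6 n29420 = n24595 := d39_1 D29420 (iv D24595) (iv D19415) (iv F84969) D23738
theorem F136917 : act 9 n29420 = n29420 := d43_2 F106559 D29420 (iv D29420)
def n29421 : Q := act 7 n23739
theorem D29421 : act 7 n23739 = n29421 := rfl
theorem F136918 : act 0 n29421 = n23758 := d6_1 D29421 (iv D23758) (iv F106560)
theorem F136919 : act 1 n29421 = n25459 := d14_1 D29421 (iv D25459) (iv F106561)
theorem F136920 : act 2 n29421 = n29421 := d21_1 D29421 (iv D29421) F106562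
theorem F136921 : act 4 n29421 = n23745 := d32_1 D29421 (iv D23745) (iv F106563)
theorem F136922 : act 5 n29421 = n23740 := d36_1 D29421 (iv D23740) D23739
theorem F136923 : act 9 n29421 = n29421 := d43_2 F106565 D29421 (iv D29421)
def n29422 : Q := act 8 n23739
theorem D29422 : act 8 n23739 = n29422 := rfl
theorem F136924 : act 0 n29422 = n23759 := d7_1 D29422 (iv D23759) (iv F106560)
theorem F136925 : act 1 n29422 = n24202 := d15_1 D29422 F134808 (iv F106561)
theorem F136926 : act 2 n29422 = n29422 := d22_1 D29422 (iv D29422) F106562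
theorem F136927 : act 4 n29422 = n23746 := d33_1 D29422 (iv D23746) (iv F106563)
theorem F136928 : act 6 n29422 = n29422 := d40_1 D29422 (iv D29422) F106564
theorem F136929 : act 9 n25354 = n29422 := d34_0 F136927 F133683 D25354
def n29423 : Q := act 7 n23743
theorem D29423 : act 7 n23743 = n29423 := rfl
theorem F136930 : act 0 n29423 = n23763 := d6_1 D29423 (iv D23763) (iv F106584)
theorem F136931 : act 1 n29423 = n25465 := d14_1 D29423 (iv D25465) (iv F106585)
theorem F136932 : act 2 n29423 = n25654 := d21_1 D29423 (iv D25654) (iv F134428)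
theorem F136933 : act 3 n29423 = n23745 := d27_1 D29423 (iv D23745) (iv F106586)
theorem F136934 : act 4 n29423 = n25652 := d32_1 D29423 (iv D25652) (iv F134429)
theorem F136935 : act 5 n29423 = n23744 := d36_1 D29423 (iv D23744) D23743
theorem F136936 : act 8 n29423 = n25940 := d42_2 (iv F134430) D29423 F134806
theorem F136937 : act 9 n29423 = n29423 := d43_2 F106588 D29423 (iv D29423)
def n29424 : Q := act 6 n23745
theorem D29424 : act 6 n23745 = n29424 := rfl
theorem F136938 : act 0 n29424 = n23765 := d5_1 D29424 (iv D23765) (iv F106595)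
theorem F136939 : act 1 n29424 = n25467 := d13_1 D29424 (iv D25467) (iv F106596)
theorem F136940 : act 2 n29424 = n29424 := d20_1 D29424 (iv D29424) F106597
theorem F136941 : act 5 n29424 = n29424 := d35_1 D29424 (iv D29424) F106598 F85003 (iv F106598)
theorem F136942 : act 7 n29424 = n29424 := d39_2 D23745 D29424 (iv D29424) (iv D23745) F84997
theorem F136943 : act 9 n29424 = n29424 := d41_2 F106599 D29424 (iv D29424)
def n29425 : Q := act 8 n23745
theorem D29425 : act 8 n23745 = n29425 := rfl
theorem F136944 : act 0 n29425 = n23766 := d7_1 D29425 (iv D23766) (iv F106595)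
theorem F136945 : act 1 n29425 = n24203 := d15_1 D29425 F134726 (iv F106596)
theorem F136946 : act 2 n29425 = n29425 := d22_1 D29425 (iv D29425) F106597
theorem F136947 : act 3 n29425 = n25940 := d28_1 D29425 (iv F136936) F136933
theorem F136948 : act 5 n29425 = n23972 := d37_1 D29425 (iv D23972) F85832 (iv F85004) (iv F106598)
theorem F136949 : act 7 n29425 = n23746 := d42_1 D29425 (iv D23746) D23745
theorem F136950 : act 9 n25355 = n29425 := d43_0 F136949 F133683 D25355
def n29426 : Q := act 2 n23747
theorem D29426 : act 2 n23747 = n29426 := rfl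
theorem F136951 : act 0 n29426 = n25829 := d1_1 D29426 (iv D25829) (iv F106605)
theorem F136952 : act 3 n29426 = n29426 := d17_2 D23747 D29426 (iv D29426) (iv D23747) F85008
theorem F136953 : act 4 n29426 = n24032 := d18_2 (iv F106607) D29426 (iv D24032)
theorem F136954 : act 5 n29426 = n23750 := d19_2 (iv F106608) D29426 (iv D23750)
theorem F136955 : act 7 n29426 = n25275 := d21_2 (iv F106609) D29426 (iv D25275)
theorem F136956 : act 8 n29426 = n29426 := d22_2 F106610 D29426 (iv D29426)
theorem F136957 : act 9 n29426 = n24024 := d23_2 (iv F106611) D29426 (iv D24024)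
theorem F136958 : act 1 n26601 = n29426 := d12_3 F136954 F134795 D26601
def n29427 : Q := act 6 n23747
theorem D29427 : act 6 n23747 = n29427 := rfl
theorem F136959 : act 0 n29427 = n25830 := d5_1 D29427 (iv D25830) (iv F106605)
theorem F136960 : act 1 n29427 = n23778 := d13_1 D29427 (iv D23778) (iv F106606)
theorem F136961 : act 3 n29427 = n23748 := d26_1 D29427 (iv D23748) D23747
theorem F136962 : act 4 n29427 = n24033 := d31_1 D29427 (iv D24033) (iv F106607)
theorem F136963 : act 8 n29427 = n29427 := d40_2 F106610 D29427 (iv D29427)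
theorem F136964 : act 9 n29427 = n24025 := d41_2 (iv F106611) D29427 (iv D24025)
def n29428 : Q := act 5 n23748
theorem D29428 : act 5 n23748 = n29428 := rfl
theorem F136965 : act 0 n29428 = n25831 := d4_1 D29428 (iv D25831) (iv F106612)
theorem F136966 : act 1 n29428 = n23779 := d12_1 D29428 (iv D23779) (iv F106613)
theorem F136967 : act 2 n29428 = n29428 := d19_1 D29428 (iv D29428) F106614
theorem F136968 : act 4 n29428 = n23979 := d30_1 D29428 (iv D23979) F85857 (iv F85017) (iv F106615)
theorem F136969 : act 6 n29428 = n23752 := d35_2 D23748 D29428 (iv D23752) (iv D18787) (iv F85009)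
theorem F136970 : act 9 n29428 = n24026 := d38_2 (iv F106617) D29428 (iv D24026)
def n29429 : Q := act 7 n23748
theorem D29429 : act 7 n23748 = n29429 := rfl
theorem F136971 : act 0 n29429 = n25832 := d6_1 D29429 (iv D25832) (iv F106612)
theorem F136972 : act 1 n29429 = n23780 := d14_1 D29429 (iv D23780) (iv F106613)
theorem F136973 : act 2 n29429 = n29429 := d21_1 D29429 (iv D29429) F106614
theorem F136974 : act 4 n29429 = n23749 := d32_1 D29429 (iv D23749) (iv F106615)
theorem F136975 : act 6 n29429 = n25278 := d39_1 D29429 (iv D25278) (iv D19959) (iv F85010) D23748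
theorem F136976 : act 8 n29429 = n29429 := d42_2 F106616 D29429 (iv D29429)
theorem F136977 : act 9 n29429 = n24027 := d43_2 (iv F106617) D29429 (iv D24027)
def n29430 : Q := act 6 n23750
theorem D29430 : act 6 n23750 = n29430 := rfl
theorem F136978 : act 1 n29430 = n26561 := d13_1 D29430 F118630 (iv F134795)
theorem F136979 : act 2 n29430 = n23751 := d20_1 D29430 (iv D23751) D23750
theorem F136980 : act 3 n29430 = n29430 := d26_1 D29430 (iv D29430) F106626
theorem F136981 : act 4 n29430 = n25840 := d31_1 D29430 (iv D25840) (iv F106627)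
theorem F136982 : act 8 n29430 = n23755 := d40_2 (iv F106629) D29430 (iv D23755)
def n29431 : Q := act 5 n23751
theorem D29431 : act 5 n23751 = n29431 := rfl
theorem F136983 : act 1 n29431 = n23797 := d12_1 D29431 (iv D23797) (iv F106630)
theorem F136984 : act 3 n29431 = n23752 := d25_1 D29431 (iv D23752) (iv F106631)
def n29432 : Q := act 7 n23751
theorem D29432 : act 7 n23751 = n29432 := rfl
theorem F136985 : act 1 n29432 = n23798 := d14_1 D29432 (iv D23798) (iv F106630)
theorem F136986 : act 3 n29432 = n23753 := d27_1 D29432 (iv D23753) (iv F106631)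
theorem F136987 : act 4 n29432 = n25842 := d32_1 D29432 (iv D25842) (iv F106632)
theorem F136988 : act 6 n29432 = n25836 := d39_1 D29432 (iv D25836) (iv D20372) (iv F85022) D23751
theorem F136989 : act 8 n29432 = n23757 := d42_2 (iv F106633) D29432 (iv D23757)
def n29433 : Q := act 7 n23752
theorem D29433 : act 7 n23752 = n29433 := rfl
theorem F136990 : act 1 n29433 = n23799 := d14_1 D29433 (iv D23799) (iv F106634)
theorem F136991 : act 2 n29433 = n29433 := d21_1 D29433 (iv D29433) F106635
theorem F136992 : act 4 n29433 = n23996 := d32_1 D29433 (iv D23996) (iv F106636)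
theorem F136993 : act 5 n29433 = n23753 := d36_1 D29433 (iv D23753) D23752
def n29434 : Q := act 8 n23752
theorem D29434 : act 8 n23752 = n29434 := rfl
theorem F136994 : act 1 n29434 = n23800 := d15_1 D29434 (iv D23800) (iv F106634)
theorem F136995 : act 2 n29434 = n29434 := d22_1 D29434 (iv D29434) F106635
theorem F136996 : act 4 n29434 = n23997 := d33_1 D29434 (iv D23997) (iv F106636)
theorem F136997 : act 5 n29434 = n23759 := d37_1 D29434 (iv D23759) (iv D18791) (iv F85027) D23752
def n29435 : Q := act 5 n23755
theorem D29435 : act 5 n23755 = n29435 := rfl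
theorem F136998 : act 0 n29435 = n25554 := d4_1 D29435 F136904 F136899
theorem F136999 : act 1 n29435 = n26538 := d12_1 D29435 F118555 (iv F134995)
theorem F137000 : act 2 n29435 = n23756 := d19_1 D29435 (iv D23756) (iv F106648)
theorem F137001 : act 3 n29435 = n29435 := d25_1 D29435 (iv D29435) F106649
theorem F137002 : act 4 n29435 = n23803 := d30_1 D29435 (iv D23803) F85209 D20868 (iv F134996)
theorem F137003 : act 6 n29435 = n29435 := d35_2 D23755 D29435 (iv D29435) (iv D23755) F85036
theorem F137004 : act 9 n29435 = n29435 := d38_2 F106651 D29435 (iv D29435)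
def n29436 : Q := act 7 n23755
theorem D29436 : act 7 n23755 = n29436 := rfl
theorem F137005 : act 1 n29436 = n26560 := d14_1 D29436 (iv D26560) (iv F134995)
theorem F137006 : act 2 n29436 = n23757 := d21_1 D29436 (iv D23757) (iv F106648)
theorem F137007 : act 3 n29436 = n29436 := d27_1 D29436 (iv D29436) F106649
theorem F137008 : act 4 n29436 = n26457 := d32_1 D29436 (iv D26457) (iv F134996)
theorem F137009 : act 6 n29436 = n26537 := d39_1 D29436 (iv D26537) (iv D20926) (iv F85037) D23755
theorem F137010 : act 9 n29436 = n29436 := d43_2 F106651 D29436 (iv D29436)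
def n29437 : Q := act 4 n23756
theorem D29437 : act 4 n23756 = n29437 := rfl
theorem F137011 : act 0 n29437 = n25552 := d3_1 D29437 (iv F136909) F136905
theorem F137012 : act 1 n29437 = n23811 := d11_1 D29437 (iv D23811) (iv F106652)
theorem F137013 : act 2 n29437 = n23803 := d18_1 D29437 (iv F137002) F137000
theorem F137014 : act 3 n29437 = n23762 := d24_1 D29437 (iv D23762) F85059 (iv F85045) (iv F106653)
theorem F137015 : act 5 n29437 = n23802 := d30_2 D23756 D29437 F106892 (iv F134973) (iv F85041)
theorem F137016 : act 6 n29437 = n29437 := d31_2 F106654 D29437 (iv D29437)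
theorem F137017 : act 9 n29437 = n29437 := d34_2 F106655 D29437 (iv D29437)
def n29438 : Q := act 7 n23756
theorem D29438 : act 7 n23756 = n29438 := rfl
theorem F137018 : act 1 n29438 = n23812 := d14_1 D29438 (iv D23812) (iv F106652)
theorem F137019 : act 3 n29438 = n23758 := d27_1 D29438 (iv D23758) (iv F106653)
theorem F137020 : act 5 n29438 = n23757 := d36_1 D29438 (iv D23757) D23756
theorem F137021 : act 9 n29438 = n29438 := d43_2 F106655 D29438 (iv D29438)
def n29439 : Q := act 8 n23756
theorem D29439 : act 8 n23756 = n29439 := rfl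
theorem F137022 : act 1 n29439 = n23813 := d15_1 D29439 (iv D23813) (iv F106652)
theorem F137023 : act 3 n29439 = n23759 := d28_1 D29439 (iv D23759) (iv F106653)
theorem F137024 : act 6 n29439 = n29439 := d40_1 D29439 (iv D29439) F106654
def n29440 : Q := act 6 n23758
theorem D29440 : act 6 n23758 = n29440 := rfl
theorem F137025 : act 1 n29440 = n23814 := d13_1 D29440 (iv D23814) (iv F106661)
theorem F137026 : act 2 n29440 = n29440 := d20_1 D29440 (iv D29440) F106662
theorem F137027 : act 4 n29440 = n23765 := d31_1 D29440 (iv D23765) (iv F106663)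
theorem F137028 : act 5 n29440 = n26541 := d35_1 D29440 (iv D26541) F94072 (iv F85051) (iv F106664)
theorem F137029 : act 7 n29440 = n29440 := d39_2 D23758 D29440 (iv D29440) (iv D23758) F85046
theorem F137030 : act 9 n29440 = n29440 := d41_2 F106665 D29440 (iv D29440)
def n29441 : Q := act 8 n23758
theorem D29441 : act 8 n23758 = n29441 := rfl
theorem F137031 : act 1 n29441 = n23815 := d15_1 D29441 (iv D23815) (iv F106661)
theorem F137032 : act 2 n29441 = n29441 := d22_1 D29441 (iv D29441) F106662
theorem F137033 : act 4 n29441 = n23766 := d33_1 D29441 (iv D23766) (iv F106663)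
theorem F137034 : act 7 n29441 = n23759 := d42_1 D29441 (iv D23759) D23758
def n29442 : Q := act 9 n23759
theorem D29442 : act 9 n23759 = n29442 := rfl
theorem F137035 : act 0 n29442 = n25354 := d8_1 D29442 F136929 F136924
theorem F137036 : act 1 n29442 = n23816 := d16_1 D29442 (iv D23816) (iv F106666)
theorem F137037 : act 2 n29442 = n29442 := d23_1 D29442 (iv D29442) F106667
theorem F137038 : act 4 n29442 = n23767 := d34_1 D29442 (iv D23767) (iv F106668)
theorem F137039 : act 6 n29442 = n29442 := d41_1 D29442 (iv D29442) F106669
theorem F137040 : act 8 n29442 = n29442 := d44_1 D29442 (iv D29442) (iv D23759) F85047 D23759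
def n29443 : Q := act 7 n23760
theorem D29443 : act 7 n23760 = n29443 := rfl
theorem F137041 : act 0 n29443 = n25654 := d6_1 D29443 (iv D25654) (iv F133708)
theorem F137042 : act 1 n29443 = n29443 := d14_1 D29443 (iv D29443) F106670
theorem F137043 : act 2 n29443 = n23763 := d21_1 D29443 (iv D23763) (iv F106671)
theorem F137044 : act 3 n29443 = n29443 := d27_1 D29443 (iv D29443) F106672
theorem F137045 : act 4 n29443 = n23873 := d32_1 D29443 (iv D23873) (iv F133709)
theorem F137046 : act 5 n29443 = n23761 := d36_1 D29443 (iv D23761) D23760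
theorem F137047 : act 8 n29443 = n24189 := d42_2 F134427 D29443 F108708
theorem F137048 : act 9 n29443 = n29443 := d43_2 F106674 D29443 (iv D29443)
def n29444 : Q := act 7 n23762
theorem D29444 : act 7 n23762 = n29444 := rfl
theorem F137049 : act 0 n29444 = n25652 := d6_1 D29444 (iv D25652) (iv F135619)
theorem F137050 : act 1 n29444 = n23817 := d14_1 D29444 (iv D23817) (iv F106681)
theorem F137051 : act 2 n29444 = n23873 := d21_1 D29444 (iv D23873) (iv F135620)
theorem F137052 : act 4 n29444 = n23763 := d32_1 D29444 (iv D23763) D23762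
theorem F137053 : act 5 n29444 = n23871 := d36_1 D29444 (iv D23871) (iv F135621)
theorem F137054 : act 9 n29444 = n29444 := d43_2 F106683 D29444 (iv D29444)
def n29445 : Q := act 8 n23762
theorem D29445 : act 8 n23762 = n29445 := rfl
theorem F137055 : act 0 n29445 = n25653 := d7_1 D29445 (iv D25653) (iv F135619)
theorem F137056 : act 1 n29445 = n23818 := d15_1 D29445 (iv D23818) (iv F106681)
theorem F137057 : act 2 n29445 = n23874 := d22_1 D29445 (iv D23874) (iv F135620)
theorem F137058 : act 4 n29445 = n23764 := d33_1 D29445 (iv D23764) D23762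
theorem F137059 : act 6 n29445 = n29445 := d40_1 D29445 (iv D29445) F106682
theorem F137060 : act 9 n24682 = n29445 := d34_0 F137058 F133730 D24682
def n29446 : Q := act 6 n23763
theorem D29446 : act 6 n23763 = n29446 := rfl
theorem F137061 : act 1 n29446 = n23819 := d13_1 D29446 (iv D23819) (iv F106684)
theorem F137062 : act 3 n29446 = n23765 := d26_1 D29446 (iv D23765) (iv F106685)
theorem F137063 : act 5 n29446 = n29446 := d35_1 D29446 (iv D29446) F106686 F85064 (iv F106686)
theorem F137064 : act 7 n29446 = n29446 := d39_2 D23763 D29446 (iv D29446) (iv D23763) F85060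
theorem F137065 : act 9 n29446 = n29446 := d41_2 F106687 D29446 (iv D29446)
def n29447 : Q := act 8 n23763
theorem D29447 : act 8 n23763 = n29447 := rfl
theorem F137066 : act 0 n29447 = n25940 := d7_1 D29447 (iv F136936) F136930
theorem F137067 : act 1 n29447 = n23820 := d15_1 D29447 (iv D23820) (iv F106684)
theorem F137068 : act 2 n29447 = n24189 := d22_1 D29447 (iv F137047) F137043
theorem F137069 : act 3 n29447 = n23766 := d28_1 D29447 (iv D23766) (iv F106685)
theorem F137070 : act 5 n29447 = n24020 := d37_1 D29447 (iv D24020) F85976 (iv F85065) (iv F106686)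
theorem F137071 : act 7 n29447 = n23764 := d42_1 D29447 (iv D23764) D23763
theorem F137072 : act 9 n24097 = n29447 := d43_0 F137071 F133730 (iv F108286)
def n29448 : Q := act 8 n23765
theorem D29448 : act 8 n23765 = n29448 := rfl
theorem F137073 : act 1 n29448 = n23822 := d15_1 D29448 (iv D23822) (iv F106692)
theorem F137074 : act 2 n29448 = n29448 := d22_1 D29448 (iv D29448) F106693
theorem F137075 : act 6 n29448 = n23766 := d40_1 D29448 (iv D23766) D23765
theorem F137076 : act 7 n29448 = n29448 := d42_1 D29448 (iv D29448) F106695
def n29449 : Q := act 9 n23766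
theorem D29449 : act 9 n23766 = n29449 := rfl
theorem F137077 : act 0 n29449 = n25355 := d8_1 D29449 F136950 F136944
theorem F137078 : act 1 n29449 = n23823 := d16_1 D29449 (iv D23823) (iv F106697)
theorem F137079 : act 2 n29449 = n29449 := d23_1 D29449 (iv D29449) F106698
theorem F137080 : act 3 n29449 = n24097 := d29_1 D29449 F137072 F137069
theorem F137081 : act 5 n29449 = n24023 := d38_1 D29449 (iv D24023) (iv F106699)
theorem F137082 : act 7 n29449 = n23767 := d43_1 D29449 (iv D23767) (iv F106700)
theorem F137083 : act 8 n29449 = n29449 := d44_1 D29449 (iv D29449) (iv D23766) F85070 D23766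
def n29450 : Q := act 2 n23768
theorem D29450 : act 2 n23768 = n29450 := rfl
theorem F137084 : act 0 n29450 = n25514 := d1_1 D29450 (iv D25514) (iv F106706)
theorem F137085 : act 1 n29450 = n26636 := d9_1 D29450 F118884 (iv F134695) (iv D24032) (iv F106707)
theorem F137086 : act 3 n29450 = n29450 := d17_2 D23768 D29450 (iv D29450) (iv D23768) F85077
theorem F137087 : act 4 n29450 = n23777 := d18_2 (iv F106708) D29450 (iv D23777)
theorem F137088 : act 5 n29450 = n23988 := d19_2 (iv F106709) D29450 (iv D23988)
theorem F137089 : act 7 n29450 = n25245 := d21_2 (iv F106710) D29450 (iv D25245)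
theorem F137090 : act 8 n29450 = n29450 := d22_2 F106711 D29450 (iv D29450)
theorem F137091 : act 9 n29450 = n23977 := d23_2 (iv F106712) D29450 (iv D23977)
def n29451 : Q := act 6 n23768
theorem D29451 : act 6 n23768 = n29451 := rfl
theorem F137092 : act 0 n29451 = n25515 := d5_1 D29451 (iv D25515) (iv F106706)
theorem F137093 : act 1 n29451 = n24033 := d13_1 D29451 (iv D24033) (iv F106707)
theorem F137094 : act 3 n29451 = n23769 := d26_1 D29451 (iv D23769) D23768
theorem F137095 : act 4 n29451 = n23778 := d31_1 D29451 (iv D23778) (iv F106708)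
theorem F137096 : act 8 n29451 = n29451 := d40_2 F106711 D29451 (iv D29451)
theorem F137097 : act 9 n29451 = n23978 := d41_2 (iv F106712) D29451 (iv D23978)
def n29452 : Q := act 5 n23769
theorem D29452 : act 5 n23769 = n29452 := rfl
theorem F137098 : act 0 n29452 = n25516 := d4_1 D29452 (iv D25516) (iv F106713)
theorem F137099 : act 1 n29452 = n24034 := d12_1 D29452 (iv D24034) (iv F106714)
theorem F137100 : act 2 n29452 = n29452 := d19_1 D29452 (iv D29452) F106715
theorem F137101 : act 4 n29452 = n24026 := d30_1 D29452 (iv D24026) F85998 (iv F85086) (iv F106716)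
theorem F137102 : act 6 n29452 = n23990 := d35_2 D23769 D29452 (iv D23990) (iv D18959) (iv F85078)
theorem F137103 : act 9 n29452 = n23979 := d38_2 (iv F106718) D29452 (iv D23979)
def n29453 : Q := act 7 n23769
theorem D29453 : act 7 n23769 = n29453 := rfl
theorem F137104 : act 0 n29453 = n25517 := d6_1 D29453 (iv D25517) (iv F106713)
theorem F137105 : act 1 n29453 = n24035 := d14_1 D29453 (iv D24035) (iv F106714)
theorem F137106 : act 2 n29453 = n29453 := d21_1 D29453 (iv D29453) F106715
theorem F137107 : act 4 n29453 = n23770 := d32_1 D29453 (iv D23770) (iv F106716)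
theorem F137108 : act 6 n29453 = n25248 := d39_1 D29453 (iv D25248) (iv D19938) (iv F85079) D23769
theorem F137109 : act 8 n29453 = n29453 := d42_2 F106717 D29453 (iv D29453)
theorem F137110 : act 9 n29453 = n23980 := d43_2 (iv F106718) D29453 (iv D23980)
def n29454 : Q := act 2 n23771
theorem D29454 : act 2 n23771 = n29454 := rfl
theorem F137111 : act 0 n29454 = n25478 := d1_1 D29454 (iv D25478) (iv F106727)
theorem F137112 : act 3 n29454 = n23824 := d17_2 D23771 D29454 (iv D23824) (iv D18837) (iv F85091)
theorem F137113 : act 4 n29454 = n25245 := d18_2 (iv F106729) D29454 (iv D25245)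
theorem F137114 : act 5 n29454 = n23787 := d19_2 (iv F106730) D29454 (iv D23787)
theorem F137115 : act 7 n29454 = n23777 := d21_2 (iv F106731) D29454 (iv D23777)
theorem F137116 : act 8 n29454 = n29454 := d22_2 F106732 D29454 (iv D29454)
theorem F137117 : act 9 n29454 = n25451 := d23_2 (iv F106733) D29454 (iv D25451)
def n29455 : Q := act 6 n23771
theorem D29455 : act 6 n23771 = n29455 := rfl
theorem F137118 : act 0 n29455 = n25479 := d5_1 D29455 (iv D25479) (iv F106727)
theorem F137119 : act 1 n29455 = n25276 := d13_1 D29455 (iv D25276) (iv F106728)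
theorem F137120 : act 3 n29455 = n23772 := d26_1 D29455 (iv D23772) D23771
theorem F137121 : act 4 n29455 = n25246 := d31_1 D29455 (iv D25246) (iv F106729)
theorem F137122 : act 8 n29455 = n29455 := d40_2 F106732 D29455 (iv D29455)
theorem F137123 : act 9 n29455 = n25452 := d41_2 (iv F106733) D29455 (iv D25452)
def n29456 : Q := act 5 n23772
theorem D29456 : act 5 n23772 = n29456 := rfl
theorem F137124 : act 0 n29456 = n25480 := d4_1 D29456 (iv D25480) (iv F106734)
theorem F137125 : act 1 n29456 = n25277 := d12_1 D29456 (iv D25277) (iv F106735)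
theorem F137126 : act 2 n29456 = n23826 := d19_1 D29456 (iv D23826) (iv F106736)
theorem F137127 : act 4 n29456 = n25728 := d30_1 D29456 (iv D25728) F91793 (iv F85100) (iv F106737)
theorem F137128 : act 6 n29456 = n23789 := d35_2 D23772 D29456 (iv D23789) (iv D18812) (iv F85092)
theorem F137129 : act 9 n29456 = n25453 := d38_2 (iv F106739) D29456 (iv D25453)
def n29457 : Q := act 7 n23772
theorem D29457 : act 7 n23772 = n29457 := rfl
theorem F137130 : act 0 n29457 = n25481 := d6_1 D29457 (iv D25481) (iv F106734)
theorem F137131 : act 1 n29457 = n25278 := d14_1 D29457 (iv D25278) (iv F106735)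
theorem F137132 : act 2 n29457 = n23827 := d21_1 D29457 (iv D23827) (iv F106736)
theorem F137133 : act 4 n29457 = n23773 := d32_1 D29457 (iv D23773) (iv F106737)
theorem F137134 : act 6 n29457 = n23780 := d39_1 D29457 (iv D23780) (iv D18805) (iv F85093) D23772
theorem F137135 : act 8 n29457 = n29457 := d42_2 F106738 D29457 (iv D29457)
theorem F137136 : act 9 n29457 = n25454 := d43_2 (iv F106739) D29457 (iv D25454)
def n29458 : Q := act 2 n23774
theorem D29458 : act 2 n23774 = n29458 := rfl
theorem F137137 : act 0 n29458 = n25474 := d1_1 D29458 (iv D25474) (iv F106748)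
theorem F137138 : act 3 n29458 = n23828 := d17_2 D23774 D29458 (iv D23828) (iv D18840) (iv F85105)
theorem F137139 : act 4 n29458 = n23977 := d18_2 (iv F106750) D29458 (iv D23977)
theorem F137140 : act 5 n29458 = n23791 := d19_2 (iv F106751) D29458 (iv D23791)
theorem F137141 : act 7 n29458 = n25451 := d21_2 (iv F106752) D29458 (iv D25451)
theorem F137142 : act 8 n29458 = n24522 := d22_2 (iv F106753) D29458 (iv D24522)
theorem F137143 : act 9 n29458 = n23777 := d23_2 (iv F106754) D29458 (iv D23777)
def n29459 : Q := act 6 n23774
theorem D29459 : act 6 n23774 = n29459 := rfl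
theorem F137144 : act 0 n29459 = n25475 := d5_1 D29459 (iv D25475) (iv F106748)
theorem F137145 : act 1 n29459 = n24025 := d13_1 D29459 (iv D24025) (iv F106749)
theorem F137146 : act 3 n29459 = n23775 := d26_1 D29459 (iv D23775) D23774
theorem F137147 : act 4 n29459 = n23978 := d31_1 D29459 (iv D23978) (iv F106750)
theorem F137148 : act 8 n29459 = n24523 := d40_2 (iv F106753) D29459 (iv D24523)
theorem F137149 : act 9 n29459 = n23778 := d41_2 (iv F106754) D29459 (iv D23778)
def n29460 : Q := act 5 n23775
theorem D29460 : act 5 n23775 = n29460 := rfl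
theorem F137150 : act 0 n29460 = n25476 := d4_1 D29460 (iv D25476) (iv F106755)
theorem F137151 : act 1 n29460 = n24026 := d12_1 D29460 (iv D24026) (iv F106756)
theorem F137152 : act 2 n29460 = n23830 := d19_1 D29460 (iv D23830) (iv F106757)
theorem F137153 : act 4 n29460 = n24034 := d30_1 D29460 (iv D24034) F86026 (iv F85114) (iv F106758)
theorem F137154 : act 6 n29460 = n23793 := d35_2 D23775 D29460 (iv D23793) (iv D18815) (iv F85106)
theorem F137155 : act 9 n29460 = n23779 := d38_2 (iv F106760) D29460 (iv D23779)
def n29461 : Q := act 7 n23775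
theorem D29461 : act 7 n23775 = n29461 := rfl
theorem F137156 : act 0 n29461 = n25477 := d6_1 D29461 (iv D25477) (iv F106755)
theorem F137157 : act 1 n29461 = n24027 := d14_1 D29461 (iv D24027) (iv F106756)
theorem F137158 : act 2 n29461 = n23831 := d21_1 D29461 (iv D23831) (iv F106757)
theorem F137159 : act 4 n29461 = n23776 := d32_1 D29461 (iv D23776) (iv F106758)
theorem F137160 : act 6 n29461 = n25454 := d39_1 D29461 (iv D25454) (iv D20094) (iv F85107) D23775
theorem F137161 : act 8 n29461 = n24525 := d42_2 (iv F106759) D29461 (iv D24525)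
theorem F137162 : act 9 n29461 = n23780 := d43_2 (iv F106760) D29461 (iv D23780)
def n29462 : Q := act 1 n23777
theorem D29462 : act 1 n23777 = n29462 := rfl
theorem F137163 : act 2 n29462 = n26601 := d9_2 D23777 D29462 F136958 (iv D29426) F106606
theorem F137164 : act 3 n29462 = n23832 := d10_2 (iv F106770) D29462 (iv D23832)
theorem F137165 : act 4 n29462 = n26636 := d11_2 F137087 D29462 (iv F137085)
theorem F137166 : act 5 n29462 = n23795 := d12_2 (iv F106771) D29462 (iv D23795)
theorem F137167 : act 8 n29462 = n29462 := d15_2 F106772 D29462 (iv D29462)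
def n29463 : Q := act 6 n23777
theorem D29463 : act 6 n23777 = n29463 := rfl
theorem F137168 : act 0 n29463 = n25519 := d5_1 D29463 (iv D25519) (iv F106769)
theorem F137169 : act 2 n29463 = n23778 := d20_1 D29463 (iv D23778) D23777
theorem F137170 : act 3 n29463 = n23833 := d26_1 D29463 (iv D23833) (iv F106770)
theorem F137171 : act 8 n29463 = n29463 := d40_2 F106772 D29463 (iv D29463)
def n29464 : Q := act 5 n23778
theorem D29464 : act 5 n23778 = n29464 := rfl
theorem F137172 : act 0 n29464 = n25520 := d4_1 D29464 (iv D25520) (iv F106773)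
theorem F137173 : act 3 n29464 = n23779 := d25_1 D29464 (iv D23779) (iv F106774)
theorem F137174 : act 6 n29464 = n23797 := d35_2 D23778 D29464 (iv D23797) (iv D18818) (iv F85118)
def n29465 : Q := act 7 n23778
theorem D29465 : act 7 n23778 = n29465 := rfl
theorem F137175 : act 0 n29465 = n25521 := d6_1 D29465 (iv D25521) (iv F106773)
theorem F137176 : act 3 n29465 = n23780 := d27_1 D29465 (iv D23780) (iv F106774)
theorem F137177 : act 8 n29465 = n29465 := d42_2 F106775 D29465 (iv D29465)
def n29466 : Q := act 7 n23779
theorem D29466 : act 7 n23779 = n29466 := rfl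
theorem F137178 : act 0 n29466 = n25522 := d6_1 D29466 (iv D25522) (iv F106776)
theorem F137179 : act 2 n29466 = n23836 := d21_1 D29466 (iv D23836) (iv F106777)
theorem F137180 : act 4 n29466 = n24040 := d32_1 D29466 (iv D24040) (iv F106778)
theorem F137181 : act 5 n29466 = n23780 := d36_1 D29466 (iv D23780) D23779
def n29467 : Q := act 8 n23779
theorem D29467 : act 8 n23779 = n29467 := rfl
theorem F137182 : act 0 n29467 = n25523 := d7_1 D29467 (iv D25523) (iv F106776)
theorem F137183 : act 2 n29467 = n23837 := d22_1 D29467 (iv D23837) (iv F106777)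
theorem F137184 : act 4 n29467 = n24041 := d33_1 D29467 (iv D24041) (iv F106778)
theorem F137185 : act 5 n29467 = n29467 := d37_1 D29467 (iv D29467) (iv D23779) F85123 D23779
theorem F137186 : act 6 n29467 = n23800 := d40_1 D29467 (iv D23800) (iv F106779)
def n29468 : Q := act 2 n23781
theorem D29468 : act 2 n23781 = n29468 := rfl
theorem F137187 : act 0 n29468 = n25524 := d1_1 D29468 (iv D25524) (iv F106784)
theorem F137188 : act 3 n29468 = n23838 := d17_2 D23781 D29468 (iv D23838) (iv D18847) (iv F85130)
theorem F137189 : act 4 n29468 = n25470 := d18_2 (iv F106786) D29468 (iv D25470)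
theorem F137190 : act 5 n29468 = n24653 := d19_2 (iv F106787) D29468 F134838
theorem F137191 : act 7 n29468 = n24042 := d21_2 (iv F106788) D29468 (iv D24042)
theorem F137192 : act 8 n29468 = n29468 := d22_2 F106789 D29468 (iv D29468)
theorem F137193 : act 9 n29468 = n24626 := d23_2 (iv F106790) D29468 F134834
def n29469 : Q := act 6 n23781
theorem D29469 : act 6 n23781 = n29469 := rfl
theorem F137194 : act 0 n29469 = n25525 := d5_1 D29469 (iv D25525) (iv F106784)
theorem F137195 : act 1 n29469 = n25515 := d13_1 D29469 (iv D25515) (iv F106785)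
theorem F137196 : act 3 n29469 = n23782 := d26_1 D29469 (iv D23782) D23781
theorem F137197 : act 4 n29469 = n25471 := d31_1 D29469 (iv D25471) (iv F106786)
theorem F137198 : act 8 n29469 = n29469 := d40_2 F106789 D29469 (iv D29469)
theorem F137199 : act 9 n29469 = n25121 := d41_2 (iv F106790) D29469 (iv D25121)
def n29470 : Q := act 5 n23782
theorem D29470 : act 5 n23782 = n29470 := rfl
theorem F137200 : act 0 n29470 = n25526 := d4_1 D29470 (iv D25526) (iv F106791)
theorem F137201 : act 1 n29470 = n25516 := d12_1 D29470 (iv D25516) (iv F106792)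
theorem F137202 : act 2 n29470 = n23840 := d19_1 D29470 (iv D23840) (iv F106793)
theorem F137203 : act 4 n29470 = n23789 := d30_1 D29470 (iv D23789) F85164 (iv F85139) (iv F106794)
theorem F137204 : act 6 n29470 = n25728 := d35_2 D23782 D29470 (iv D25728) (iv D20299) (iv F85131)
theorem F137205 : act 9 n29470 = n25122 := d38_2 (iv F106796) D29470 (iv D25122)
def n29471 : Q := act 7 n23782
theorem D29471 : act 7 n23782 = n29471 := rfl
theorem F137206 : act 0 n29471 = n25527 := d6_1 D29471 (iv D25527) (iv F106791)
theorem F137207 : act 1 n29471 = n25517 := d14_1 D29471 (iv D25517) (iv F106792)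
theorem F137208 : act 2 n29471 = n23841 := d21_1 D29471 (iv D23841) (iv F106793)
theorem F137209 : act 4 n29471 = n23783 := d32_1 D29471 (iv D23783) (iv F106794)
theorem F137210 : act 6 n29471 = n24045 := d39_1 D29471 (iv D24045) (iv D18997) (iv F85132) D23782
theorem F137211 : act 8 n29471 = n29471 := d42_2 F106795 D29471 (iv D29471)
theorem F137212 : act 9 n29471 = n25123 := d43_2 (iv F106796) D29471 (iv D25123)
def n29472 : Q := act 2 n23784
theorem D29472 : act 2 n23784 = n29472 := rfl
theorem F137213 : act 0 n29472 = n25470 := d1_1 D29472 (iv D25470) (iv F106805)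
theorem F137214 : act 3 n29472 = n23842 := d17_2 D23784 D29472 (iv D23842) (iv D18850) (iv F85144)
theorem F137215 : act 4 n29472 = n25524 := d18_2 (iv F106807) D29472 (iv D25524)
theorem F137216 : act 5 n29472 = n25451 := d19_2 (iv F106808) D29472 (iv D25451)
theorem F137217 : act 7 n29472 = n23791 := d21_2 (iv F106809) D29472 (iv D23791)
theorem F137218 : act 8 n29472 = n29472 := d22_2 F106810 D29472 (iv D29472)
theorem F137219 : act 9 n29472 = n23787 := d23_2 (iv F106811) D29472 (iv D23787)
def n29473 : Q := act 6 n23784
theorem D29473 : act 6 n23784 = n29473 := rfl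
theorem F137220 : act 0 n29473 = n25471 := d5_1 D29473 (iv D25471) (iv F106805)
theorem F137221 : act 1 n29473 = n25830 := d13_1 D29473 (iv D25830) (iv F106806)
theorem F137222 : act 3 n29473 = n23785 := d26_1 D29473 (iv D23785) D23784
theorem F137223 : act 4 n29473 = n25525 := d31_1 D29473 (iv D25525) (iv F106807)
theorem F137224 : act 8 n29473 = n29473 := d40_2 F106810 D29473 (iv D29473)
theorem F137225 : act 9 n29473 = n23788 := d41_2 (iv F106811) D29473 (iv D23788)
def n29474 : Q := act 5 n23785
theorem D29474 : act 5 n23785 = n29474 := rfl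
theorem F137226 : act 0 n29474 = n25472 := d4_1 D29474 (iv D25472) (iv F106812)
theorem F137227 : act 1 n29474 = n25831 := d12_1 D29474 (iv D25831) (iv F106813)
theorem F137228 : act 2 n29474 = n23844 := d19_1 D29474 (iv D23844) (iv F106814)
theorem F137229 : act 4 n29474 = n25122 := d30_1 D29474 (iv D25122) F90063 (iv F85153) (iv F106815)
theorem F137230 : act 6 n29474 = n25453 := d35_2 D23785 D29474 (iv D25453) (iv D20094) (iv F85145)
theorem F137231 : act 9 n29474 = n23789 := d38_2 (iv F106817) D29474 (iv D23789)
def n29475 : Q := act 7 n23785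
theorem D29475 : act 7 n23785 = n29475 := rfl
theorem F137232 : act 0 n29475 = n25473 := d6_1 D29475 (iv D25473) (iv F106812)
theorem F137233 : act 1 n29475 = n25832 := d14_1 D29475 (iv D25832) (iv F106813)
theorem F137234 : act 2 n29475 = n23845 := d21_1 D29475 (iv D23845) (iv F106814)
theorem F137235 : act 4 n29475 = n23786 := d32_1 D29475 (iv D23786) (iv F106815)
theorem F137236 : act 6 n29475 = n23794 := d39_1 D29475 (iv D23794) (iv D18815) (iv F85146) D23785
theorem F137237 : act 8 n29475 = n29475 := d42_2 F106816 D29475 (iv D29475)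
theorem F137238 : act 9 n29475 = n23790 := d43_2 (iv F106817) D29475 (iv D23790)
def n29476 : Q := act 1 n23787
theorem D29476 : act 1 n23787 = n29476 := rfl
theorem F137239 : act 2 n29476 = n25833 := d9_2 D23787 D29476 (iv D25833) (iv D20371) (iv F85157)
theorem F137240 : act 3 n29476 = n23846 := d10_2 (iv F106827) D29476 (iv D23846)
theorem F137241 : act 4 n29476 = n25764 := d11_2 (iv F106828) D29476 (iv D25764)
theorem F137242 : act 7 n29476 = n23795 := d14_2 (iv F106829) D29476 (iv D23795)
theorem F137243 : act 8 n29476 = n23801 := d15_2 (iv F106830) D29476 (iv D23801)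
def n29477 : Q := act 6 n23787
theorem D29477 : act 6 n23787 = n29477 := rfl
theorem F137244 : act 0 n29477 = n25529 := d5_1 D29477 (iv D25529) (iv F106826)
theorem F137245 : act 2 n29477 = n23788 := d20_1 D29477 (iv D23788) D23787
theorem F137246 : act 3 n29477 = n23847 := d26_1 D29477 (iv D23847) (iv F106827)
theorem F137247 : act 4 n29477 = n25765 := d31_1 D29477 (iv D25765) (iv F106828)
theorem F137248 : act 8 n29477 = n23802 := d40_2 (iv F106830) D29477 (iv D23802)
def n29478 : Q := act 5 n23788
theorem D29478 : act 5 n23788 = n29478 := rfl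
theorem F137249 : act 0 n29478 = n25530 := d4_1 D29478 (iv D25530) (iv F106831)
theorem F137250 : act 1 n29478 = n25835 := d12_1 D29478 (iv D25835) (iv F106832)
theorem F137251 : act 3 n29478 = n23789 := d25_1 D29478 (iv D23789) (iv F106833)
def n29479 : Q := act 7 n23788
theorem D29479 : act 7 n23788 = n29479 := rfl
theorem F137252 : act 0 n29479 = n25531 := d6_1 D29479 (iv D25531) (iv F106831)
theorem F137253 : act 1 n29479 = n25836 := d14_1 D29479 (iv D25836) (iv F106832)
theorem F137254 : act 3 n29479 = n23790 := d27_1 D29479 (iv D23790) (iv F106833)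
theorem F137255 : act 4 n29479 = n25767 := d32_1 D29479 (iv D25767) (iv F106834)
theorem F137256 : act 6 n29479 = n23798 := d39_1 D29479 (iv D23798) (iv D18818) (iv F85159) D23788
theorem F137257 : act 8 n29479 = n23804 := d42_2 (iv F106835) D29479 (iv D23804)
def n29480 : Q := act 7 n23789
theorem D29480 : act 7 n23789 = n29480 := rfl
theorem F137258 : act 0 n29480 = n25532 := d6_1 D29480 (iv D25532) (iv F106836)
theorem F137259 : act 1 n29480 = n25837 := d14_1 D29480 (iv D25837) (iv F106837)
theorem F137260 : act 2 n29480 = n23850 := d21_1 D29480 (iv D23850) (iv F106838)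
theorem F137261 : act 5 n29480 = n23790 := d36_1 D29480 (iv D23790) D23789
def n29481 : Q := act 8 n23789
theorem D29481 : act 8 n23789 = n29481 := rfl
theorem F137262 : act 0 n29481 = n25533 := d7_1 D29481 (iv D25533) (iv F106836)
theorem F137263 : act 1 n29481 = n25838 := d15_1 D29481 (iv D25838) (iv F106837)
theorem F137264 : act 2 n29481 = n23851 := d22_1 D29481 (iv D23851) (iv F106838)
theorem F137265 : act 5 n29481 = n23806 := d37_1 D29481 (iv D23806) (iv D18823) (iv F85165) D23789
def n29482 : Q := act 1 n23791
theorem D29482 : act 1 n23791 = n29482 := rfl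
theorem F137266 : act 2 n29482 = n26602 := d9_2 D23791 D29482 F136228 (iv D29297) F105864
theorem F137267 : act 3 n29482 = n23852 := d10_2 (iv F106846) D29482 (iv D23852)
theorem F137268 : act 4 n29482 = n25861 := d11_2 (iv F106847) D29482 (iv D25861)
theorem F137269 : act 8 n29482 = n29482 := d15_2 F106848 D29482 (iv D29482)
theorem F137270 : act 9 n29482 = n23795 := d16_2 (iv F106849) D29482 (iv D23795)
def n29483 : Q := act 6 n23791
theorem D29483 : act 6 n23791 = n29483 := rfl
theorem F137271 : act 0 n29483 = n25535 := d5_1 D29483 (iv D25535) (iv F106845)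
theorem F137272 : act 2 n29483 = n23792 := d20_1 D29483 (iv D23792) D23791
theorem F137273 : act 3 n29483 = n23853 := d26_1 D29483 (iv D23853) (iv F106846)
theorem F137274 : act 4 n29483 = n25862 := d31_1 D29483 (iv D25862) (iv F106847)
theorem F137275 : act 8 n29483 = n29483 := d40_2 F106848 D29483 (iv D29483)
theorem F137276 : act 9 n29483 = n23796 := d41_2 (iv F106849) D29483 (iv D23796)
def n29484 : Q := act 5 n23792
theorem D29484 : act 5 n23792 = n29484 := rfl
theorem F137277 : act 0 n29484 = n25536 := d4_1 D29484 (iv D25536) (iv F106850)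
theorem F137278 : act 3 n29484 = n23793 := d25_1 D29484 (iv D23793) (iv F106851)
theorem F137279 : act 9 n29484 = n23797 := d38_2 (iv F106854) D29484 (iv D23797)
def n29485 : Q := act 7 n23792
theorem D29485 : act 7 n23792 = n29485 := rfl
theorem F137280 : act 0 n29485 = n25537 := d6_1 D29485 (iv D25537) (iv F106850)
theorem F137281 : act 3 n29485 = n23794 := d27_1 D29485 (iv D23794) (iv F106851)
theorem F137282 : act 4 n29485 = n25864 := d32_1 D29485 (iv D25864) (iv F106852)
theorem F137283 : act 8 n29485 = n29485 := d42_2 F106853 D29485 (iv D29485)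
theorem F137284 : act 9 n29485 = n23798 := d43_2 (iv F106854) D29485 (iv D23798)
def n29486 : Q := act 7 n23793
theorem D29486 : act 7 n23793 = n29486 := rfl
theorem F137285 : act 0 n29486 = n25538 := d6_1 D29486 (iv D25538) (iv F106855)
theorem F137286 : act 2 n29486 = n23856 := d21_1 D29486 (iv D23856) (iv F106856)
theorem F137287 : act 4 n29486 = n24056 := d32_1 D29486 (iv D24056) (iv F106857)
theorem F137288 : act 5 n29486 = n23794 := d36_1 D29486 (iv D23794) D23793
theorem F137289 : act 9 n29486 = n23799 := d43_2 (iv F106858) D29486 (iv D23799)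
def n29487 : Q := act 8 n23793
theorem D29487 : act 8 n23793 = n29487 := rfl
theorem F137290 : act 0 n29487 = n25539 := d7_1 D29487 (iv D25539) (iv F106855)
theorem F137291 : act 2 n29487 = n23857 := d22_1 D29487 (iv D23857) (iv F106856)
theorem F137292 : act 4 n29487 = n24057 := d33_1 D29487 (iv D24057) (iv F106857)
theorem F137293 : act 5 n29487 = n29487 := d37_1 D29487 (iv D29487) (iv D23793) F85179 D23793
def n29488 : Q := act 0 n23795
theorem D29488 : act 0 n23795 = n29488 := rfl
theorem F137294 : act 1 n29488 = n25540 := d0_2 D23795 D29488 (iv D25540) (iv D20155) (iv F85187)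
theorem F137295 : act 2 n29488 = n24637 := d1_2 (iv F135012) D29488 F110876
theorem F137296 : act 3 n29488 = n23858 := d2_2 (iv F106864) D29488 (iv D23858)
theorem F137297 : act 4 n29488 = n24635 := d3_2 (iv F135013) D29488 F110867
theorem F137298 : act 8 n29488 = n23807 := d7_2 (iv F106865) D29488 (iv D23807)
def n29489 : Q := act 6 n23795
theorem D29489 : act 6 n23795 = n29489 := rfl
theorem F137299 : act 1 n29489 = n23796 := d13_1 D29489 (iv D23796) D23795
theorem F137300 : act 2 n29489 = n26561 := d20_1 D29489 F118630 (iv F135012)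
theorem F137301 : act 3 n29489 = n23859 := d26_1 D29489 (iv D23859) (iv F106864)
theorem F137302 : act 4 n29489 = n26559 := d31_1 D29489 F118624 (iv F135013)
theorem F137303 : act 8 n29489 = n23808 := d40_2 (iv F106865) D29489 (iv D23808)
def n29490 : Q := act 5 n23796
theorem D29490 : act 5 n23796 = n29490 := rfl
theorem F137304 : act 0 n29490 = n25542 := d4_1 D29490 (iv D25542) (iv F106866)
theorem F137305 : act 2 n29490 = n23797 := d19_1 D29490 (iv D23797) (iv F106867)
theorem F137306 : act 3 n29490 = n23860 := d25_1 D29490 (iv D23860) (iv F106868)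
def n29491 : Q := act 7 n23796
theorem D29491 : act 7 n23796 = n29491 := rfl
theorem F137307 : act 0 n29491 = n25543 := d6_1 D29491 (iv D25543) (iv F106866)
theorem F137308 : act 2 n29491 = n23798 := d21_1 D29491 (iv D23798) (iv F106867)
theorem F137309 : act 3 n29491 = n23861 := d27_1 D29491 (iv D23861) (iv F106868)
theorem F137310 : act 8 n29491 = n23810 := d42_2 (iv F106869) D29491 (iv D23810)
def n29492 : Q := act 4 n23797
theorem D29492 : act 4 n23797 = n29492 := rfl
theorem F137311 : act 0 n29492 = n25544 := d3_1 D29492 (iv D25544) (iv F106870)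
theorem F137312 : act 3 n29492 = n24062 := d24_1 D29492 (iv D24062) F86110 (iv F85195) (iv F106871)
def n29493 : Q := act 7 n23797
theorem D29493 : act 7 n23797 = n29493 := rfl
theorem F137313 : act 0 n29493 = n25545 := d6_1 D29493 (iv D25545) (iv F106870)
theorem F137314 : act 3 n29493 = n23799 := d27_1 D29493 (iv D23799) (iv F106871)
theorem F137315 : act 5 n29493 = n23798 := d36_1 D29493 (iv D23798) D23797
def n29494 : Q := act 8 n23797
theorem D29494 : act 8 n23797 = n29494 := rfl
theorem F137316 : act 0 n29494 = n25546 := d7_1 D29494 (iv D25546) (iv F106870)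
theorem F137317 : act 3 n29494 = n23800 := d28_1 D29494 (iv D23800) (iv F106871)
theorem F137318 : act 5 n29494 = n23813 := d37_1 D29494 (iv D23813) (iv D18827) (iv F85192) D23797
def n29495 : Q := act 6 n23799
theorem D29495 : act 6 n23799 = n29495 := rfl
theorem F137319 : act 0 n29495 = n25547 := d5_1 D29495 (iv D25547) (iv F106875)
theorem F137320 : act 2 n29495 = n23865 := d20_1 D29495 (iv D23865) (iv F106876)
theorem F137321 : act 4 n29495 = n24065 := d31_1 D29495 (iv D24065) (iv F106877)
def n29496 : Q := act 8 n23799
theorem D29496 : act 8 n23799 = n29496 := rfl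
theorem F137322 : act 0 n29496 = n25548 := d7_1 D29496 (iv D25548) (iv F106875)
theorem F137323 : act 2 n29496 = n23866 := d22_1 D29496 (iv D23866) (iv F106876)
theorem F137324 : act 4 n29496 = n24066 := d33_1 D29496 (iv D24066) (iv F106877)
theorem F137325 : act 5 n29496 = n23815 := d37_1 D29496 (iv D23815) F85240 (iv F85199) (iv F106878)
theorem F137326 : act 7 n29496 = n23800 := d42_1 D29496 (iv D23800) D23799
def n29497 : Q := act 9 n23800
theorem D29497 : act 9 n23800 = n29497 := rfl
theorem F137327 : act 0 n29497 = n25549 := d8_1 D29497 (iv D25549) (iv F106879)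
theorem F137328 : act 2 n29497 = n23867 := d23_1 D29497 (iv D23867) (iv F106880)
theorem F137329 : act 4 n29497 = n24067 := d34_1 D29497 (iv D24067) (iv F106881)
theorem F137330 : act 5 n29497 = n23816 := d38_1 D29497 (iv D23816) (iv F106882)
def n29498 : Q := act 0 n23801
theorem D29498 : act 0 n23801 = n29498 := rfl
theorem F137331 : act 1 n29498 = n25550 := d0_2 D23801 D29498 (iv D25550) (iv D20161) (iv F85200)
theorem F137332 : act 2 n29498 = n24636 := d1_2 (iv F106883) D29498 F135005
theorem F137333 : act 3 n29498 = n23868 := d2_2 (iv F106884) D29498 (iv D23868)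
theorem F137334 : act 4 n29498 = n24634 := d3_2 (iv F106885) D29498 (iv F134292)
theorem F137335 : act 5 n29498 = n29498 := d4_2 F106886 D29498 (iv D29498)
theorem F137336 : act 6 n29498 = n25140 := d5_2 F135854 D29498 (iv F135849)
theorem F137337 : act 7 n29498 = n23807 := d6_2 (iv F106887) D29498 (iv D23807)
theorem F137338 : act 9 n29498 = n29498 := d8_2 F106888 D29498 (iv D29498)
def n29499 : Q := act 7 n23802
theorem D29499 : act 7 n23802 = n29499 := rfl
theorem F137339 : act 0 n29499 = n25553 := d6_1 D29499 (iv D25553) (iv F106889)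
theorem F137340 : act 2 n29499 = n23804 := d21_1 D29499 (iv D23804) (iv F106890)
theorem F137341 : act 3 n29499 = n23871 := d27_1 D29499 (iv D23871) (iv F106891)
theorem F137342 : act 4 n29499 = n26455 := d32_1 D29499 (iv D26455) (iv F106892)
theorem F137343 : act 6 n29499 = n23810 := d39_1 D29499 (iv D23810) (iv D18826) (iv F85204) D23802
theorem F137344 : act 9 n29499 = n29499 := d43_2 F106893 D29499 (iv D29499)
def n29500 : Q := act 7 n23803
theorem D29500 : act 7 n23803 = n29500 := rfl
theorem F137345 : act 0 n29500 = n25555 := d6_1 D29500 (iv D25555) (iv F106894)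
theorem F137346 : act 1 n29500 = n26539 := d14_1 D29500 (iv D26539) (iv F106895)
theorem F137347 : act 3 n29500 = n23805 := d27_1 D29500 (iv D23805) (iv F106896)
theorem F137348 : act 5 n29500 = n23804 := d36_1 D29500 (iv D23804) D23803
theorem F137349 : act 9 n29500 = n29500 := d43_2 F106898 D29500 (iv D29500)
def n29501 : Q := act 8 n23803
theorem D29501 : act 8 n23803 = n29501 := rfl
theorem F137350 : act 0 n29501 = n25556 := d7_1 D29501 (iv D25556) (iv F106894)
theorem F137351 : act 1 n29501 = n26540 := d15_1 D29501 (iv D26540) (iv F106895)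
theorem F137352 : act 3 n29501 = n23806 := d28_1 D29501 (iv D23806) (iv F106896)
theorem F137353 : act 6 n29501 = n29501 := d40_1 D29501 (iv D29501) F106897
def n29502 : Q := act 6 n23805
theorem D29502 : act 6 n23805 = n29502 := rfl
theorem F137354 : act 0 n29502 = n25557 := d5_1 D29502 (iv D25557) (iv F106905)
theorem F137355 : act 1 n29502 = n26541 := d13_1 D29502 (iv D26541) (iv F106906)
theorem F137356 : act 2 n29502 = n23875 := d20_1 D29502 (iv D23875) (iv F106907)
theorem F137357 : act 4 n29502 = n29502 := d31_1 D29502 (iv D29502) F106908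
theorem F137358 : act 5 n29502 = n23814 := d35_1 D29502 (iv D23814) F85240 (iv F85221) (iv F106909)
theorem F137359 : act 7 n29502 = n29502 := d39_2 D23805 D29502 (iv D29502) (iv D23805) F85215
theorem F137360 : act 9 n29502 = n29502 := d41_2 F106910 D29502 (iv D29502)
def n29503 : Q := act 8 n23805
theorem D29503 : act 8 n23805 = n29503 := rfl
theorem F137361 : act 0 n29503 = n25558 := d7_1 D29503 (iv D25558) (iv F106905)
theorem F137362 : act 1 n29503 = n26542 := d15_1 D29503 (iv D26542) (iv F106906)
theorem F137363 : act 2 n29503 = n23876 := d22_1 D29503 (iv D23876) (iv F106907)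
theorem F137364 : act 4 n29503 = n29503 := d33_1 D29503 (iv D29503) F106908
theorem F137365 : act 7 n29503 = n23806 := d42_1 D29503 (iv D23806) D23805
def n29504 : Q := act 9 n23806
theorem D29504 : act 9 n23806 = n29504 := rfl
theorem F137366 : act 0 n29504 = n25559 := d8_1 D29504 (iv D25559) (iv F106911)
theorem F137367 : act 1 n29504 = n26543 := d16_1 D29504 (iv D26543) (iv F106912)
theorem F137368 : act 2 n29504 = n23877 := d23_1 D29504 (iv D23877) (iv F106913)
theorem F137369 : act 4 n29504 = n29504 := d34_1 D29504 (iv D29504) F106914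
theorem F137370 : act 6 n29504 = n29504 := d41_1 D29504 (iv D29504) F106915
theorem F137371 : act 8 n29504 = n29504 := d44_1 D29504 (iv D29504) (iv D23806) F85216 D23806
def n29505 : Q := act 6 n23807
theorem D29505 : act 6 n23807 = n29505 := rfl
theorem F137372 : act 0 n29505 = n23808 := d5_1 D29505 (iv D23808) D23807
theorem F137373 : act 1 n29505 = n25560 := d13_1 D29505 (iv D25560) (iv F106916)
theorem F137374 : act 2 n29505 = n24608 := d20_1 D29505 F110747 (iv F135008)
theorem F137375 : act 3 n29505 = n23878 := d26_1 D29505 (iv D23878) (iv F106917)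
theorem F137376 : act 4 n29505 = n24606 := d31_1 D29505 F110739 (iv F135009)
theorem F137377 : act 9 n29505 = n29505 := d41_2 F106919 D29505 (iv D29505)
def n29506 : Q := act 5 n23808
theorem D29506 : act 5 n23808 = n29506 := rfl
theorem F137378 : act 1 n29506 = n23809 := d12_1 D29506 (iv D23809) (iv F106920)
theorem F137379 : act 2 n29506 = n26538 := d19_1 D29506 F118555 (iv F135010)
theorem F137380 : act 3 n29506 = n23879 := d25_1 D29506 (iv D23879) (iv F106921)
theorem F137381 : act 4 n29506 = n26536 := d30_1 D29506 (iv D26536) F94062 D20939 (iv F135011)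
theorem F137382 : act 6 n29506 = n29506 := d35_2 D23808 D29506 (iv D29506) (iv D23808) F85224
theorem F137383 : act 9 n29506 = n29506 := d38_2 F106922 D29506 (iv D29506)
def n29507 : Q := act 7 n23808
theorem D29507 : act 7 n23808 = n29507 := rfl
theorem F137384 : act 1 n29507 = n23810 := d14_1 D29507 (iv D23810) (iv F106920)
theorem F137385 : act 2 n29507 = n26560 := d21_1 D29507 (iv D26560) (iv F135010)
theorem F137386 : act 3 n29507 = n23880 := d27_1 D29507 (iv D23880) (iv F106921)
theorem F137387 : act 4 n29507 = n26558 := d32_1 D29507 (iv D26558) (iv F135011)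
theorem F137388 : act 9 n29507 = n29507 := d43_2 F106922 D29507 (iv D29507)
def n29508 : Q := act 4 n23809
theorem D29508 : act 4 n23809 = n29508 := rfl
theorem F137389 : act 0 n29508 = n25563 := d3_1 D29508 (iv D25563) (iv F106923)
theorem F137390 : act 1 n29508 = n26536 := d11_1 D29508 (iv F137381) F137378
theorem F137391 : act 2 n29508 = n23811 := d18_1 D29508 (iv D23811) (iv F106924)
theorem F137392 : act 3 n29508 = n29508 := d24_1 D29508 (iv D29508) F106925 F85465 (iv F106925)
theorem F137393 : act 5 n29508 = n26535 := d30_2 D23809 D29508 F118544 (iv F134975) F105402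
theorem F137394 : act 6 n29508 = n29508 := d31_2 F106926 D29508 (iv D29508)
theorem F137395 : act 9 n29508 = n29508 := d34_2 F106927 D29508 (iv D29508)
def n29509 : Q := act 7 n23809
theorem D29509 : act 7 n23809 = n29509 := rfl
theorem F137396 : act 0 n29509 = n25564 := d6_1 D29509 (iv D25564) (iv F106923)
theorem F137397 : act 2 n29509 = n23812 := d21_1 D29509 (iv D23812) (iv F106924)
theorem F137398 : act 3 n29509 = n23881 := d27_1 D29509 (iv D23881) (iv F106925)
theorem F137399 : act 5 n29509 = n23810 := d36_1 D29509 (iv D23810) D23809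
theorem F137400 : act 9 n29509 = n29509 := d43_2 F106927 D29509 (iv D29509)
def n29510 : Q := act 8 n23809
theorem D29510 : act 8 n23809 = n29510 := rfl
theorem F137401 : act 0 n29510 = n25565 := d7_1 D29510 (iv D25565) (iv F106923)
theorem F137402 : act 2 n29510 = n23813 := d22_1 D29510 (iv D23813) (iv F106924)
theorem F137403 : act 3 n29510 = n23882 := d28_1 D29510 (iv D23882) (iv F106925)
theorem F137404 : act 6 n29510 = n29510 := d40_1 D29510 (iv D29510) F106926
def n29511 : Q := act 7 n23811
theorem D29511 : act 7 n23811 = n29511 := rfl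
theorem F137405 : act 0 n29511 = n25566 := d6_1 D29511 (iv D25566) (iv F106932)
theorem F137406 : act 3 n29511 = n23817 := d27_1 D29511 (iv D23817) (iv F106933)
theorem F137407 : act 4 n29511 = n23812 := d32_1 D29511 (iv D23812) D23811
theorem F137408 : act 9 n29511 = n29511 := d43_2 F106935 D29511 (iv D29511)
def n29512 : Q := act 8 n23811
theorem D29512 : act 8 n23811 = n29512 := rfl
theorem F137409 : act 0 n29512 = n25567 := d7_1 D29512 (iv D25567) (iv F106932)
theorem F137410 : act 3 n29512 = n23818 := d28_1 D29512 (iv D23818) (iv F106933)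
theorem F137411 : act 4 n29512 = n23813 := d33_1 D29512 (iv D23813) D23811
theorem F137412 : act 6 n29512 = n29512 := d40_1 D29512 (iv D29512) F106934
def n29513 : Q := act 6 n23812
theorem D29513 : act 6 n23812 = n29513 := rfl
theorem F137413 : act 0 n29513 = n25568 := d5_1 D29513 (iv D25568) (iv F106936)
theorem F137414 : act 3 n29513 = n23814 := d26_1 D29513 (iv D23814) (iv F106937)
theorem F137415 : act 7 n29513 = n29513 := d39_2 D23812 D29513 (iv D29513) (iv D23812) F85232
theorem F137416 : act 9 n29513 = n29513 := d41_2 F106939 D29513 (iv D29513)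
def n29514 : Q := act 8 n23812
theorem D29514 : act 8 n23812 = n29514 := rfl
theorem F137417 : act 0 n29514 = n25569 := d7_1 D29514 (iv D25569) (iv F106936)
theorem F137418 : act 3 n29514 = n23815 := d28_1 D29514 (iv D23815) (iv F106937)
theorem F137419 : act 7 n29514 = n23813 := d42_1 D29514 (iv D23813) D23812
def n29515 : Q := act 9 n23813
theorem D29515 : act 9 n23813 = n29515 := rfl
theorem F137420 : act 0 n29515 = n25570 := d8_1 D29515 (iv D25570) (iv F106940)
theorem F137421 : act 3 n29515 = n23816 := d29_1 D29515 (iv D23816) (iv F106941)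
theorem F137422 : act 6 n29515 = n29515 := d41_1 D29515 (iv D29515) F106942
theorem F137423 : act 8 n29515 = n29515 := d44_1 D29515 (iv D29515) (iv D23813) F85233 D23813
def n29516 : Q := act 8 n23814
theorem D29516 : act 8 n23814 = n29516 := rfl
theorem F137424 : act 0 n29516 = n25571 := d7_1 D29516 (iv D25571) (iv F106943)
theorem F137425 : act 2 n29516 = n23886 := d22_1 D29516 (iv D23886) (iv F106944)
theorem F137426 : act 4 n29516 = n23822 := d33_1 D29516 (iv D23822) (iv F106945)
theorem F137427 : act 6 n29516 = n23815 := d40_1 D29516 (iv D23815) D23814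
theorem F137428 : act 7 n29516 = n29516 := d42_1 D29516 (iv D29516) F106946
def n29517 : Q := act 9 n23815
theorem D29517 : act 9 n23815 = n29517 := rfl
theorem F137429 : act 0 n29517 = n25572 := d8_1 D29517 (iv D25572) (iv F106948)
theorem F137430 : act 2 n29517 = n23887 := d23_1 D29517 (iv D23887) (iv F106949)
theorem F137431 : act 4 n29517 = n23823 := d34_1 D29517 (iv D23823) (iv F106950)
theorem F137432 : act 7 n29517 = n23816 := d43_1 D29517 (iv D23816) (iv F106951)
theorem F137433 : act 8 n29517 = n29517 := d44_1 D29517 (iv D29517) (iv D23815) F85241 D23815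
def n29518 : Q := act 6 n23817
theorem D29518 : act 6 n23817 = n29518 := rfl
theorem F137434 : act 0 n29518 = n25573 := d5_1 D29518 (iv D25573) (iv F106957)
theorem F137435 : act 2 n29518 = n29518 := d20_1 D29518 (iv D29518) F106958
theorem F137436 : act 4 n29518 = n23819 := d31_1 D29518 (iv D23819) (iv F106959)
theorem F137437 : act 7 n29518 = n29518 := d39_2 D23817 D29518 (iv D29518) (iv D23817) F85248
theorem F137438 : act 9 n29518 = n29518 := d41_2 F106960 D29518 (iv D29518)
def n29519 : Q := act 8 n23817
theorem D29519 : act 8 n23817 = n29519 := rfl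
theorem F137439 : act 0 n29519 = n25574 := d7_1 D29519 (iv D25574) (iv F106957)
theorem F137440 : act 2 n29519 = n29519 := d22_1 D29519 (iv D29519) F106958
theorem F137441 : act 4 n29519 = n23820 := d33_1 D29519 (iv D23820) (iv F106959)
theorem F137442 : act 7 n29519 = n23818 := d42_1 D29519 (iv D23818) D23817
def n29520 : Q := act 5 n23818
theorem D29520 : act 5 n23818 = n29520 := rfl
theorem F137443 : act 0 n29520 = n25575 := d4_1 D29520 (iv D25575) (iv F106961)
theorem F137444 : act 2 n29520 = n29520 := d19_1 D29520 (iv D29520) F106962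
theorem F137445 : act 4 n29520 = n24093 := d30_1 D29520 (iv D24093) F86195 (iv F85258) (iv F106963)
def n29521 : Q := act 9 n23818
theorem D29521 : act 9 n23818 = n29521 := rfl
theorem F137446 : act 0 n29521 = n24223 := d8_1 D29521 F135022 (iv F106961)
theorem F137447 : act 1 n29521 = n24682 := d16_1 D29521 F137060 F137056
theorem F137448 : act 2 n29521 = n29521 := d23_1 D29521 (iv D29521) F106962
theorem F137449 : act 4 n29521 = n23821 := d34_1 D29521 (iv D23821) (iv F106963)
theorem F137450 : act 6 n29521 = n29521 := d41_1 D29521 (iv D29521) F106964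
theorem F137451 : act 8 n29521 = n29521 := d44_1 D29521 (iv D29521) (iv D23818) F85249 D23818
def n29522 : Q := act 8 n23819
theorem D29522 : act 8 n23819 = n29522 := rfl
theorem F137452 : act 0 n29522 = n25577 := d7_1 D29522 (iv D25577) (iv F106965)
theorem F137453 : act 2 n29522 = n29522 := d22_1 D29522 (iv D29522) F106966
theorem F137454 : act 3 n29522 = n23822 := d28_1 D29522 (iv D23822) (iv F106967)
theorem F137455 : act 6 n29522 = n23820 := d40_1 D29522 (iv D23820) D23819
theorem F137456 : act 7 n29522 = n29522 := d42_1 D29522 (iv D29522) F106969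
def n29523 : Q := act 9 n23820
theorem D29523 : act 9 n23820 = n29523 := rfl
theorem F137457 : act 0 n29523 = n24224 := d8_1 D29523 F135021 (iv F106971)
theorem F137458 : act 1 n29523 = n24097 := d16_1 D29523 F137072 F137067
theorem F137459 : act 2 n29523 = n29523 := d23_1 D29523 (iv D29523) F106972
theorem F137460 : act 3 n29523 = n23823 := d29_1 D29523 (iv D23823) (iv F106973)
theorem F137461 : act 5 n29523 = n24022 := d38_1 D29523 F133745 (iv F106974)
theorem F137462 : act 7 n29523 = n23821 := d43_1 D29523 (iv D23821) (iv F106975)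
theorem F137463 : act 8 n29523 = n29523 := d44_1 D29523 (iv D29523) (iv D23820) F85254 D23820
def n29524 : Q := act 5 n23822
theorem D29524 : act 5 n23822 = n29524 := rfl
theorem F137464 : act 0 n29524 = n25579 := d4_1 D29524 (iv D25579) (iv F106982)
theorem F137465 : act 2 n29524 = n23888 := d19_1 D29524 (iv D23888) (iv F106983)
theorem F137466 : act 6 n29524 = n24097 := d35_2 (iv F106984) D29524 (iv D24097) F86214 (iv F85267)
theorem F137467 : act 7 n29524 = n29524 := d36_2 F106985 D29524 (iv D29524)
theorem F137468 : act 8 n29524 = n29524 := d37_2 D23822 D29524 (iv D29524) (iv D23822) F85262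
def n29525 : Q := act 9 n23822
theorem D29525 : act 9 n23822 = n29525 := rfl
theorem F137469 : act 0 n29525 = n25580 := d8_1 D29525 (iv D25580) (iv F106982)
theorem F137470 : act 2 n29525 = n23889 := d23_1 D29525 (iv D23889) (iv F106983)
theorem F137471 : act 6 n29525 = n23823 := d41_1 D29525 (iv D23823) (iv F106984)
theorem F137472 : act 7 n29525 = n29525 := d43_1 D29525 (iv D29525) F106985
theorem F137473 : act 8 n29525 = n29525 := d44_1 D29525 (iv D29525) (iv D23822) F85264 D23822
def n29526 : Q := act 1 n23824
theorem D29526 : act 1 n23824 = n29526 := rfl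
theorem F137474 : act 2 n29526 = n29526 := d9_2 D23824 D29526 (iv D29526) (iv D23824) F85275
theorem F137475 : act 4 n29526 = n29526 := d11_2 F106992 D29526 (iv D29526)
theorem F137476 : act 5 n29526 = n23846 := d12_2 (iv F106993) D29526 (iv D23846)
theorem F137477 : act 7 n29526 = n23832 := d14_2 (iv F106994) D29526 (iv D23832)
theorem F137478 : act 8 n29526 = n29526 := d15_2 F106995 D29526 (iv D29526)
theorem F137479 : act 9 n29526 = n27103 := d16_2 (iv F106996) D29526 (iv D27103)
def n29527 : Q := act 6 n23824
theorem D29527 : act 6 n23824 = n29527 := rfl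
theorem F137480 : act 0 n29527 = n25582 := d5_1 D29527 (iv D25582) (iv F106991)
theorem F137481 : act 2 n29527 = n23825 := d20_1 D29527 (iv D23825) D23824
theorem F137482 : act 4 n29527 = n29527 := d31_1 D29527 (iv D29527) F106992
theorem F137483 : act 8 n29527 = n29527 := d40_2 F106995 D29527 (iv D29527)
theorem F137484 : act 9 n29527 = n27104 := d41_2 (iv F106996) D29527 (iv D27104)
def n29528 : Q := act 5 n23825
theorem D29528 : act 5 n23825 = n29528 := rfl
theorem F137485 : act 0 n29528 = n25583 := d4_1 D29528 (iv D25583) (iv F106997)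
theorem F137486 : act 1 n29528 = n29528 := d12_1 D29528 (iv D29528) F106998
theorem F137487 : act 3 n29528 = n23826 := d25_1 D29528 (iv D23826) (iv F106999)
theorem F137488 : act 6 n29528 = n23848 := d35_2 D23825 D29528 (iv D23848) (iv D18854) (iv F85277)
theorem F137489 : act 9 n29528 = n27105 := d38_2 (iv F107002) D29528 (iv D27105)
def n29529 : Q := act 7 n23825
theorem D29529 : act 7 n23825 = n29529 := rfl
theorem F137490 : act 0 n29529 = n25584 := d6_1 D29529 (iv D25584) (iv F106997)
theorem F137491 : act 1 n29529 = n29529 := d14_1 D29529 (iv D29529) F106998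
theorem F137492 : act 3 n29529 = n23827 := d27_1 D29529 (iv D23827) (iv F106999)
theorem F137493 : act 4 n29529 = n29529 := d32_1 D29529 (iv D29529) F107000
theorem F137494 : act 6 n29529 = n23835 := d39_1 D29529 (iv D23835) (iv D18844) (iv F85278) D23825
theorem F137495 : act 8 n29529 = n29529 := d42_2 F107001 D29529 (iv D29529)
theorem F137496 : act 9 n29529 = n27106 := d43_2 (iv F107002) D29529 (iv D27106)
def n29530 : Q := act 7 n23826
theorem D29530 : act 7 n23826 = n29530 := rfl
theorem F137497 : act 0 n29530 = n25585 := d6_1 D29530 (iv D25585) (iv F107003)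
theorem F137498 : act 1 n29530 = n29530 := d14_1 D29530 (iv D29530) F107004
theorem F137499 : act 4 n29530 = n27386 := d32_1 D29530 (iv D27386) (iv F107005)
theorem F137500 : act 5 n29530 = n23827 := d36_1 D29530 (iv D23827) D23826
theorem F137501 : act 9 n29530 = n27107 := d43_2 (iv F107007) D29530 (iv D27107)
def n29531 : Q := act 8 n23826
theorem D29531 : act 8 n23826 = n29531 := rfl
theorem F137502 : act 0 n29531 = n25586 := d7_1 D29531 (iv D25586) (iv F107003)
theorem F137503 : act 1 n29531 = n29531 := d15_1 D29531 (iv D29531) F107004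
theorem F137504 : act 4 n29531 = n25336 := d33_1 D29531 F135558 (iv F107005)
theorem F137505 : act 5 n29531 = n29531 := d37_1 D29531 (iv D29531) (iv D23826) F85284 D23826
theorem F137506 : act 6 n29531 = n23851 := d40_1 D29531 (iv D23851) (iv F107006)
theorem F137507 : act 9 n29531 = n25333 := d44_2 (iv F107007) D29531 (iv D25333) (iv F108469) F135406
def n29532 : Q := act 1 n23828
theorem D29532 : act 1 n23828 = n29532 := rfl
theorem F137508 : act 2 n29532 = n29532 := d9_2 D23828 D29532 (iv D29532) (iv D23828) F85294
theorem F137509 : act 4 n29532 = n29532 := d11_2 F107015 D29532 (iv D29532)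
theorem F137510 : act 5 n29532 = n23852 := d12_2 (iv F107016) D29532 (iv D23852)
theorem F137511 : act 7 n29532 = n27103 := d14_2 (iv F107017) D29532 (iv D27103)
theorem F137512 : act 8 n29532 = n27109 := d15_2 (iv F107018) D29532 (iv D27109)
theorem F137513 : act 9 n29532 = n23832 := d16_2 (iv F107019) D29532 (iv D23832)
def n29533 : Q := act 6 n23828
theorem D29533 : act 6 n23828 = n29533 := rfl
theorem F137514 : act 0 n29533 = n25588 := d5_1 D29533 (iv D25588) (iv F107014)
theorem F137515 : act 2 n29533 = n23829 := d20_1 D29533 (iv D23829) D23828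
theorem F137516 : act 4 n29533 = n29533 := d31_1 D29533 (iv D29533) F107015
theorem F137517 : act 8 n29533 = n27110 := d40_2 (iv F107018) D29533 (iv D27110)
theorem F137518 : act 9 n29533 = n23833 := d41_2 (iv F107019) D29533 (iv D23833)
def n29534 : Q := act 5 n23829
theorem D29534 : act 5 n23829 = n29534 := rfl
theorem F137519 : act 0 n29534 = n25589 := d4_1 D29534 (iv D25589) (iv F107020)
theorem F137520 : act 1 n29534 = n29534 := d12_1 D29534 (iv D29534) F107021
theorem F137521 : act 3 n29534 = n23830 := d25_1 D29534 (iv D23830) (iv F107022)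
theorem F137522 : act 6 n29534 = n23854 := d35_2 D23829 D29534 (iv D23854) (iv D18858) (iv F85296)
theorem F137523 : act 9 n29534 = n23834 := d38_2 (iv F107025) D29534 (iv D23834)
def n29535 : Q := act 7 n23829
theorem D29535 : act 7 n23829 = n29535 := rfl
theorem F137524 : act 0 n29535 = n25590 := d6_1 D29535 (iv D25590) (iv F107020)
theorem F137525 : act 1 n29535 = n29535 := d14_1 D29535 (iv D29535) F107021
theorem F137526 : act 3 n29535 = n23831 := d27_1 D29535 (iv D23831) (iv F107022)
theorem F137527 : act 4 n29535 = n29535 := d32_1 D29535 (iv D29535) F107023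
theorem F137528 : act 6 n29535 = n27106 := d39_1 D29535 (iv D27106) (iv D21414) (iv F85297) D23829
theorem F137529 : act 8 n29535 = n27112 := d42_2 (iv F107024) D29535 (iv D27112)
theorem F137530 : act 9 n29535 = n23835 := d43_2 (iv F107025) D29535 (iv D23835)
def n29536 : Q := act 7 n23830
theorem D29536 : act 7 n23830 = n29536 := rfl
theorem F137531 : act 0 n29536 = n25591 := d6_1 D29536 (iv D25591) (iv F107026)
theorem F137532 : act 1 n29536 = n29536 := d14_1 D29536 (iv D29536) F107027
theorem F137533 : act 4 n29536 = n24113 := d32_1 D29536 (iv D24113) (iv F107028)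
theorem F137534 : act 5 n29536 = n23831 := d36_1 D29536 (iv D23831) D23830
theorem F137535 : act 9 n29536 = n23836 := d43_2 (iv F107030) D29536 (iv D23836)
def n29537 : Q := act 8 n23830
theorem D29537 : act 8 n23830 = n29537 := rfl
theorem F137536 : act 0 n29537 = n25592 := d7_1 D29537 (iv D25592) (iv F107026)
theorem F137537 : act 1 n29537 = n29537 := d15_1 D29537 (iv D29537) F107027
theorem F137538 : act 4 n29537 = n24114 := d33_1 D29537 (iv D24114) (iv F107028)
theorem F137539 : act 5 n29537 = n27114 := d37_1 D29537 (iv D27114) (iv D21419) (iv F85303) D23830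
theorem F137540 : act 6 n29537 = n23857 := d40_1 D29537 (iv D23857) (iv F107029)
def n29538 : Q := act 0 n23832
theorem D29538 : act 0 n23832 = n29538 := rfl
theorem F137541 : act 1 n29538 = n25593 := d0_2 D23832 D29538 (iv D25593) (iv D20192) (iv F85312)
theorem F137542 : act 2 n29538 = n29538 := d1_2 F107037 D29538 (iv D29538)
theorem F137543 : act 4 n29538 = n29538 := d3_2 F107038 D29538 (iv D29538)
theorem F137544 : act 5 n29538 = n23858 := d4_2 (iv F107039) D29538 (iv D23858)
theorem F137545 : act 8 n29538 = n29538 := d7_2 F107040 D29538 (iv D29538)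
def n29539 : Q := act 6 n23832
theorem D29539 : act 6 n23832 = n29539 := rfl
theorem F137546 : act 1 n29539 = n23833 := d13_1 D29539 (iv D23833) D23832
theorem F137547 : act 2 n29539 = n29539 := d20_1 D29539 (iv D29539) F107037
theorem F137548 : act 4 n29539 = n29539 := d31_1 D29539 (iv D29539) F107038
theorem F137549 : act 8 n29539 = n29539 := d40_2 F107040 D29539 (iv D29539)
def n29540 : Q := act 5 n23833
theorem D29540 : act 5 n23833 = n29540 := rfl
theorem F137550 : act 0 n29540 = n25595 := d4_1 D29540 (iv D25595) (iv F107041)
theorem F137551 : act 2 n29540 = n23834 := d19_1 D29540 (iv D23834) (iv F107042)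
theorem F137552 : act 6 n29540 = n23860 := d35_2 D23833 D29540 (iv D23860) (iv D18862) (iv F85314)
def n29541 : Q := act 7 n23833
theorem D29541 : act 7 n23833 = n29541 := rfl
theorem F137553 : act 0 n29541 = n25596 := d6_1 D29541 (iv D25596) (iv F107041)
theorem F137554 : act 2 n29541 = n23835 := d21_1 D29541 (iv D23835) (iv F107042)
theorem F137555 : act 4 n29541 = n29541 := d32_1 D29541 (iv D29541) F107043
theorem F137556 : act 8 n29541 = n29541 := d42_2 F107044 D29541 (iv D29541)
def n29542 : Q := act 4 n23834
theorem D29542 : act 4 n23834 = n29542 := rfl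
theorem F137557 : act 0 n29542 = n25597 := d3_1 D29542 (iv D25597) (iv F107045)
theorem F137558 : act 1 n29542 = n29542 := d11_1 D29542 (iv D29542) F107046
theorem F137559 : act 3 n29542 = n24119 := d24_1 D29542 (iv D24119) F86293 (iv F85323) (iv F107047)
theorem F137560 : act 5 n29542 = n29542 := d30_2 D23834 D29542 (iv D29542) (iv D23834) F85319
theorem F137561 : act 6 n29542 = n23862 := d31_2 (iv F107048) D29542 (iv D23862)
def n29543 : Q := act 7 n23834
theorem D29543 : act 7 n23834 = n29543 := rfl
theorem F137562 : act 0 n29543 = n25598 := d6_1 D29543 (iv D25598) (iv F107045)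
theorem F137563 : act 1 n29543 = n29543 := d14_1 D29543 (iv D29543) F107046
theorem F137564 : act 3 n29543 = n23836 := d27_1 D29543 (iv D23836) (iv F107047)
theorem F137565 : act 5 n29543 = n23835 := d36_1 D29543 (iv D23835) D23834
def n29544 : Q := act 8 n23834
theorem D29544 : act 8 n23834 = n29544 := rfl
theorem F137566 : act 0 n29544 = n25599 := d7_1 D29544 (iv D25599) (iv F107045)
theorem F137567 : act 1 n29544 = n29544 := d15_1 D29544 (iv D29544) F107046
theorem F137568 : act 3 n29544 = n23837 := d28_1 D29544 (iv D23837) (iv F107047)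
theorem F137569 : act 5 n29544 = n29544 := d37_1 D29544 (iv D29544) (iv D23834) F85320 D23834
theorem F137570 : act 6 n29544 = n23864 := d40_1 D29544 (iv D23864) (iv F107048)
def n29545 : Q := act 6 n23836
theorem D29545 : act 6 n23836 = n29545 := rfl
theorem F137571 : act 0 n29545 = n25600 := d5_1 D29545 (iv D25600) (iv F107054)
theorem F137572 : act 1 n29545 = n29545 := d13_1 D29545 (iv D29545) F107055
theorem F137573 : act 4 n29545 = n24122 := d31_1 D29545 (iv D24122) (iv F107056)
theorem F137574 : act 7 n29545 = n23865 := d39_2 D23836 D29545 (iv D23865) (iv D18865) (iv F85324)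
def n29546 : Q := act 8 n23836
theorem D29546 : act 8 n23836 = n29546 := rfl
theorem F137575 : act 0 n29546 = n25601 := d7_1 D29546 (iv D25601) (iv F107054)
theorem F137576 : act 1 n29546 = n29546 := d15_1 D29546 (iv D29546) F107055
theorem F137577 : act 4 n29546 = n24123 := d33_1 D29546 (iv D24123) (iv F107056)
theorem F137578 : act 5 n29546 = n29546 := d37_1 D29546 (iv D29546) F107057 F85328 (iv F107057)
theorem F137579 : act 7 n29546 = n23837 := d42_1 D29546 (iv D23837) D23836
def n29547 : Q := act 9 n23837
theorem D29547 : act 9 n23837 = n29547 := rfl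
theorem F137580 : act 0 n29547 = n25602 := d8_1 D29547 (iv D25602) (iv F107058)
theorem F137581 : act 1 n29547 = n29547 := d16_1 D29547 (iv D29547) F107059
theorem F137582 : act 4 n29547 = n24124 := d34_1 D29547 (iv D24124) (iv F107060)
theorem F137583 : act 5 n29547 = n29547 := d38_1 D29547 (iv D29547) F107061
theorem F137584 : act 6 n29547 = n23867 := d41_1 D29547 (iv D23867) (iv F107062)
def n29548 : Q := act 1 n23838
theorem D29548 : act 1 n23838 = n29548 := rfl
theorem F137585 : act 2 n29548 = n29548 := d9_2 D23838 D29548 (iv D29548) (iv D23838) F85330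
theorem F137586 : act 4 n29548 = n23890 := d11_2 (iv F107064) D29548 (iv D23890)
theorem F137587 : act 5 n29548 = n24565 := d12_2 (iv F135139) D29548 F110565
theorem F137588 : act 7 n29548 = n24125 := d14_2 (iv F107066) D29548 (iv D24125)
theorem F137589 : act 8 n29548 = n29548 := d15_2 F107067 D29548 (iv D29548)
theorem F137590 : act 9 n29548 = n24545 := d16_2 (iv F135140) D29548 F110481
def n29549 : Q := act 6 n23838
theorem D29549 : act 6 n23838 = n29549 := rfl
theorem F137591 : act 0 n29549 = n25604 := d5_1 D29549 (iv D25604) (iv F107063)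
theorem F137592 : act 2 n29549 = n23839 := d20_1 D29549 (iv D23839) D23838
theorem F137593 : act 4 n29549 = n23891 := d31_1 D29549 (iv D23891) (iv F107064)
theorem F137594 : act 8 n29549 = n29549 := d40_2 F107067 D29549 (iv D29549)
theorem F137595 : act 9 n29549 = n24603 := d41_2 (iv F135140) D29549 F110728
def n29550 : Q := act 5 n23839
theorem D29550 : act 5 n23839 = n29550 := rfl
theorem F137596 : act 0 n29550 = n25605 := d4_1 D29550 (iv D25605) (iv F107069)
theorem F137597 : act 1 n29550 = n29550 := d12_1 D29550 (iv D29550) F107070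
theorem F137598 : act 3 n29550 = n23840 := d25_1 D29550 (iv D23840) (iv F107071)
theorem F137599 : act 6 n29550 = n24140 := d35_2 D23839 D29550 F108489 F86463 (iv F135157)
theorem F137600 : act 9 n29550 = n24108 := d38_2 (iv F135405) D29550 F108345
theorem F137601 : act 8 n25325 = n29550 := d44_5 F137600 (iv D24108) F86254 D19993 D25325
def n29551 : Q := act 7 n23839
theorem D29551 : act 7 n23839 = n29551 := rfl
theorem F137602 : act 0 n29551 = n25606 := d6_1 D29551 (iv D25606) (iv F107069)
theorem F137603 : act 1 n29551 = n29551 := d14_1 D29551 (iv D29551) F107070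
theorem F137604 : act 3 n29551 = n23841 := d27_1 D29551 (iv D23841) (iv F107071)
theorem F137605 : act 4 n29551 = n23893 := d32_1 D29551 (iv D23893) (iv F107072)
theorem F137606 : act 6 n29551 = n24128 := d39_1 D29551 (iv D24128) (iv D19054) (iv F85333) D23839
theorem F137607 : act 8 n29551 = n29551 := d42_2 F107073 D29551 (iv D29551)
theorem F137608 : act 9 n29551 = n24698 := d43_2 (iv F135405) D29551 F111137
def n29552 : Q := act 7 n23840
theorem D29552 : act 7 n23840 = n29552 := rfl
theorem F137609 : act 0 n29552 = n25607 := d6_1 D29552 (iv D25607) (iv F107075)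
theorem F137610 : act 1 n29552 = n29552 := d14_1 D29552 (iv D29552) F107076
theorem F137611 : act 4 n29552 = n23850 := d32_1 D29552 (iv D23850) (iv F107077)
theorem F137612 : act 5 n29552 = n23841 := d36_1 D29552 (iv D23841) D23840
theorem F137613 : act 9 n29552 = n25163 := d43_2 (iv F107079) D29552 (iv D25163)
def n29553 : Q := act 8 n23840
theorem D29553 : act 8 n23840 = n29553 := rfl
theorem F137614 : act 0 n29553 = n25608 := d7_1 D29553 (iv D25608) (iv F107075)
theorem F137615 : act 1 n29553 = n29553 := d15_1 D29553 (iv D29553) F107076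
theorem F137616 : act 3 n29553 = n25325 := d28_1 D29553 F137601 F137598
theorem F137617 : act 4 n29553 = n23851 := d33_1 D29553 (iv D23851) (iv F107077)
theorem F137618 : act 5 n29553 = n29553 := d37_1 D29553 (iv D29553) (iv D23840) F85339 D23840
theorem F137619 : act 6 n29553 = n25336 := d40_1 D29553 F135558 (iv F107078)
theorem F137620 : act 9 n29553 = n25322 := d44_2 (iv F107079) D29553 (iv D25322) (iv F108331) F135407
def n29554 : Q := act 1 n23842
theorem D29554 : act 1 n23842 = n29554 := rfl
theorem F137621 : act 2 n29554 = n29554 := d9_2 D23842 D29554 (iv D29554) (iv D23842) F85349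
theorem F137622 : act 4 n29554 = n23896 := d11_2 (iv F107087) D29554 (iv D23896)
theorem F137623 : act 5 n29554 = n27103 := d12_2 (iv F107088) D29554 (iv D27103)
theorem F137624 : act 7 n29554 = n23852 := d14_2 (iv F107089) D29554 (iv D23852)
theorem F137625 : act 8 n29554 = n29554 := d15_2 F107090 D29554 (iv D29554)
theorem F137626 : act 9 n29554 = n23846 := d16_2 (iv F107091) D29554 (iv D23846)
def n29555 : Q := act 6 n23842
theorem D29555 : act 6 n23842 = n29555 := rfl
theorem F137627 : act 0 n29555 = n25610 := d5_1 D29555 (iv D25610) (iv F107086)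
theorem F137628 : act 2 n29555 = n23843 := d20_1 D29555 (iv D23843) D23842
theorem F137629 : act 4 n29555 = n23897 := d31_1 D29555 (iv D23897) (iv F107087)
theorem F137630 : act 8 n29555 = n29555 := d40_2 F107090 D29555 (iv D29555)
theorem F137631 : act 9 n29555 = n23847 := d41_2 (iv F107091) D29555 (iv D23847)
def n29556 : Q := act 5 n23843
theorem D29556 : act 5 n23843 = n29556 := rfl
theorem F137632 : act 0 n29556 = n25611 := d4_1 D29556 (iv D25611) (iv F107092)
theorem F137633 : act 1 n29556 = n29556 := d12_1 D29556 (iv D29556) F107093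
theorem F137634 : act 3 n29556 = n23844 := d25_1 D29556 (iv D23844) (iv F107094)
theorem F137635 : act 6 n29556 = n27105 := d35_2 D23843 D29556 (iv D27105) (iv D21414) (iv F85351)
theorem F137636 : act 9 n29556 = n23848 := d38_2 (iv F107097) D29556 (iv D23848)
def n29557 : Q := act 7 n23843
theorem D29557 : act 7 n23843 = n29557 := rfl
theorem F137637 : act 0 n29557 = n25612 := d6_1 D29557 (iv D25612) (iv F107092)
theorem F137638 : act 1 n29557 = n29557 := d14_1 D29557 (iv D29557) F107093
theorem F137639 : act 3 n29557 = n23845 := d27_1 D29557 (iv D23845) (iv F107094)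
theorem F137640 : act 4 n29557 = n23899 := d32_1 D29557 (iv D23899) (iv F107095)
theorem F137641 : act 6 n29557 = n23855 := d39_1 D29557 (iv D23855) (iv D18858) (iv F85352) D23843
theorem F137642 : act 8 n29557 = n29557 := d42_2 F107096 D29557 (iv D29557)
theorem F137643 : act 9 n29557 = n23849 := d43_2 (iv F107097) D29557 (iv D23849)
def n29558 : Q := act 7 n23844
theorem D29558 : act 7 n23844 = n29558 := rfl
theorem F137644 : act 0 n29558 = n25613 := d6_1 D29558 (iv D25613) (iv F107098)
theorem F137645 : act 1 n29558 = n29558 := d14_1 D29558 (iv D29558) F107099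
theorem F137646 : act 4 n29558 = n25163 := d32_1 D29558 (iv D25163) (iv F107100)
theorem F137647 : act 5 n29558 = n23845 := d36_1 D29558 (iv D23845) D23844
theorem F137648 : act 9 n29558 = n23850 := d43_2 (iv F107102) D29558 (iv D23850)
def n29559 : Q := act 8 n23844
theorem D29559 : act 8 n23844 = n29559 := rfl
theorem F137649 : act 0 n29559 = n25614 := d7_1 D29559 (iv D25614) (iv F107098)
theorem F137650 : act 1 n29559 = n29559 := d15_1 D29559 (iv D29559) F107099
theorem F137651 : act 4 n29559 = n24105 := d33_1 D29559 F135407 (iv F107100)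
theorem F137652 : act 5 n29559 = n29559 := d37_1 D29559 (iv D29559) (iv D23844) F85358 D23844
theorem F137653 : act 6 n29559 = n24135 := d40_1 D29559 F135406 (iv F107101)
theorem F137654 : act 9 n25320 = n29559 := d41_0 F137653 F108469 (iv F113969)
def n29560 : Q := act 0 n23846
theorem D29560 : act 0 n23846 = n29560 := rfl
theorem F137655 : act 1 n29560 = n25615 := d0_2 D23846 D29560 (iv D25615) (iv D20206) (iv F85367)
theorem F137656 : act 2 n29560 = n29560 := d1_2 F107109 D29560 (iv D29560)
theorem F137657 : act 4 n29560 = n23902 := d3_2 (iv F107110) D29560 (iv D23902)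
theorem F137658 : act 6 n29560 = n25147 := d5_2 F135891 D29560 (iv F135887)
theorem F137659 : act 7 n29560 = n23858 := d6_2 (iv F107111) D29560 (iv D23858)
theorem F137660 : act 8 n29560 = n23868 := d7_2 (iv F107112) D29560 (iv D23868)
def n29561 : Q := act 5 n23847
theorem D29561 : act 5 n23847 = n29561 := rfl
theorem F137661 : act 0 n29561 = n25617 := d4_1 D29561 (iv D25617) (iv F107113)
theorem F137662 : act 2 n29561 = n23848 := d19_1 D29561 (iv D23848) (iv F107114)
def n29562 : Q := act 7 n23847
theorem D29562 : act 7 n23847 = n29562 := rfl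
theorem F137663 : act 0 n29562 = n25618 := d6_1 D29562 (iv D25618) (iv F107113)
theorem F137664 : act 2 n29562 = n23849 := d21_1 D29562 (iv D23849) (iv F107114)
theorem F137665 : act 4 n29562 = n23905 := d32_1 D29562 (iv D23905) (iv F107115)
theorem F137666 : act 6 n29562 = n23861 := d39_1 D29562 (iv D23861) (iv D18862) (iv F85369) D23847
theorem F137667 : act 8 n29562 = n23871 := d42_2 (iv F107116) D29562 (iv D23871)
def n29563 : Q := act 4 n23848
theorem D29563 : act 4 n23848 = n29563 := rfl
theorem F137668 : act 0 n29563 = n25619 := d3_1 D29563 (iv D25619) (iv F107117)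
theorem F137669 : act 1 n29563 = n29563 := d11_1 D29563 (iv D29563) F107118
theorem F137670 : act 5 n29563 = n23906 := d30_2 D23848 D29563 (iv D23906) (iv D18894) (iv F85374)
theorem F137671 : act 8 n24782 = n29563 := d37_0 F137670 F135105 F89495 (iv F88643) (iv F111507)
def n29564 : Q := act 7 n23848
theorem D29564 : act 7 n23848 = n29564 := rfl
theorem F137672 : act 0 n29564 = n25620 := d6_1 D29564 (iv D25620) (iv F107117)
theorem F137673 : act 1 n29564 = n29564 := d14_1 D29564 (iv D29564) F107118
theorem F137674 : act 3 n29564 = n23850 := d27_1 D29564 (iv D23850) (iv F107119)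
theorem F137675 : act 5 n29564 = n23849 := d36_1 D29564 (iv D23849) D23848
def n29565 : Q := act 8 n23848
theorem D29565 : act 8 n23848 = n29565 := rfl
theorem F137676 : act 0 n29565 = n25621 := d7_1 D29565 (iv D25621) (iv F107117)
theorem F137677 : act 1 n29565 = n29565 := d15_1 D29565 (iv D29565) F107118
theorem F137678 : act 3 n29565 = n23851 := d28_1 D29565 (iv D23851) (iv F107119)
theorem F137679 : act 4 n29565 = n24782 := d33_1 D29565 F137671 (iv D29563)
theorem F137680 : act 5 n29565 = n23874 := d37_1 D29565 (iv D23874) (iv D18869) (iv F85375) D23848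
theorem F137681 : act 9 n24781 = n29565 := d38_0 F137680 (iv F135266) (iv F111504)
def n29566 : Q := act 6 n23850
theorem D29566 : act 6 n23850 = n29566 := rfl
theorem F137682 : act 0 n29566 = n25622 := d5_1 D29566 (iv D25622) (iv F107126)
theorem F137683 : act 1 n29566 = n29566 := d13_1 D29566 (iv D29566) F107127
theorem F137684 : act 5 n29566 = n23865 := d35_1 D29566 (iv D23865) F85420 (iv F85381) (iv F107128)
def n29567 : Q := act 8 n23850
theorem D29567 : act 8 n23850 = n29567 := rfl
theorem F137685 : act 0 n29567 = n25623 := d7_1 D29567 (iv D25623) (iv F107126)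
theorem F137686 : act 1 n29567 = n29567 := d15_1 D29567 (iv D29567) F107127
theorem F137687 : act 5 n29567 = n23876 := d37_1 D29567 (iv D23876) F85448 (iv F85382) (iv F107128)
theorem F137688 : act 7 n29567 = n23851 := d42_1 D29567 (iv D23851) D23850
def n29568 : Q := act 9 n23851
theorem D29568 : act 9 n23851 = n29568 := rfl
theorem F137689 : act 0 n29568 = n25624 := d8_1 D29568 (iv D25624) (iv F107129)
theorem F137690 : act 1 n29568 = n29568 := d16_1 D29568 (iv D29568) F107130
theorem F137691 : act 3 n29568 = n24781 := d29_1 D29568 F137681 F137678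
theorem F137692 : act 4 n29568 = n25322 := d34_1 D29568 (iv F137620) F137617
theorem F137693 : act 5 n29568 = n23877 := d38_1 D29568 (iv D23877) (iv F107131)
theorem F137694 : act 6 n29568 = n25333 := d41_1 D29568 (iv F137507) F137506
theorem F137695 : act 8 n29568 = n25320 := d44_1 D29568 F137654 (iv D29559) F107102 D23851
def n29569 : Q := act 0 n23852
theorem D29569 : act 0 n23852 = n29569 := rfl
theorem F137696 : act 1 n29569 = n25625 := d0_2 D23852 D29569 (iv D25625) (iv D20212) (iv F85383)
theorem F137697 : act 2 n29569 = n29569 := d1_2 F107132 D29569 (iv D29569)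
theorem F137698 : act 4 n29569 = n23912 := d3_2 (iv F107133) D29569 (iv D23912)
theorem F137699 : act 8 n29569 = n29569 := d7_2 F107134 D29569 (iv D29569)
theorem F137700 : act 9 n29569 = n23858 := d8_2 (iv F107135) D29569 (iv D23858)
def n29570 : Q := act 6 n23852
theorem D29570 : act 6 n23852 = n29570 := rfl
theorem F137701 : act 1 n29570 = n23853 := d13_1 D29570 (iv D23853) D23852
theorem F137702 : act 2 n29570 = n29570 := d20_1 D29570 (iv D29570) F107132
theorem F137703 : act 4 n29570 = n23913 := d31_1 D29570 (iv D23913) (iv F107133)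
theorem F137704 : act 8 n29570 = n29570 := d40_2 F107134 D29570 (iv D29570)
theorem F137705 : act 9 n29570 = n23859 := d41_2 (iv F107135) D29570 (iv D23859)
def n29571 : Q := act 5 n23853
theorem D29571 : act 5 n23853 = n29571 := rfl
theorem F137706 : act 0 n29571 = n25627 := d4_1 D29571 (iv D25627) (iv F107136)
theorem F137707 : act 2 n29571 = n23854 := d19_1 D29571 (iv D23854) (iv F107137)
theorem F137708 : act 9 n29571 = n23860 := d38_2 (iv F107140) D29571 (iv D23860)
def n29572 : Q := act 7 n23853
theorem D29572 : act 7 n23853 = n29572 := rfl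
theorem F137709 : act 0 n29572 = n25628 := d6_1 D29572 (iv D25628) (iv F107136)
theorem F137710 : act 2 n29572 = n23855 := d21_1 D29572 (iv D23855) (iv F107137)
theorem F137711 : act 4 n29572 = n23915 := d32_1 D29572 (iv D23915) (iv F107138)
theorem F137712 : act 8 n29572 = n29572 := d42_2 F107139 D29572 (iv D29572)
theorem F137713 : act 9 n29572 = n23861 := d43_2 (iv F107140) D29572 (iv D23861)
def n29573 : Q := act 4 n23854
theorem D29573 : act 4 n23854 = n29573 := rfl
theorem F137714 : act 0 n29573 = n25629 := d3_1 D29573 (iv D25629) (iv F107141)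
theorem F137715 : act 1 n29573 = n29573 := d11_1 D29573 (iv D29573) F107142
theorem F137716 : act 3 n29573 = n24145 := d24_1 D29573 (iv D24145) F86366 (iv F85395) (iv F107143)
theorem F137717 : act 5 n29573 = n23916 := d30_2 D23854 D29573 (iv D23916) (iv D18900) (iv F85390)
theorem F137718 : act 9 n29573 = n23862 := d34_2 (iv F107144) D29573 (iv D23862)
def n29574 : Q := act 7 n23854
theorem D29574 : act 7 n23854 = n29574 := rfl
theorem F137719 : act 0 n29574 = n25630 := d6_1 D29574 (iv D25630) (iv F107141)
theorem F137720 : act 1 n29574 = n29574 := d14_1 D29574 (iv D29574) F107142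
theorem F137721 : act 3 n29574 = n23856 := d27_1 D29574 (iv D23856) (iv F107143)
theorem F137722 : act 5 n29574 = n23855 := d36_1 D29574 (iv D23855) D23854
theorem F137723 : act 9 n29574 = n23863 := d43_2 (iv F107144) D29574 (iv D23863)
def n29575 : Q := act 8 n23854
theorem D29575 : act 8 n23854 = n29575 := rfl
theorem F137724 : act 0 n29575 = n25631 := d7_1 D29575 (iv D25631) (iv F107141)
theorem F137725 : act 1 n29575 = n29575 := d15_1 D29575 (iv D29575) F107142
theorem F137726 : act 3 n29575 = n23857 := d28_1 D29575 (iv D23857) (iv F107143)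
theorem F137727 : act 5 n29575 = n29575 := d37_1 D29575 (iv D29575) (iv D23854) F85391 D23854
def n29576 : Q := act 6 n23856
theorem D29576 : act 6 n23856 = n29576 := rfl
theorem F137728 : act 0 n29576 = n25632 := d5_1 D29576 (iv D25632) (iv F107151)
theorem F137729 : act 1 n29576 = n29576 := d13_1 D29576 (iv D29576) F107152
theorem F137730 : act 4 n29576 = n24148 := d31_1 D29576 (iv D24148) (iv F107153)
theorem F137731 : act 9 n29576 = n23865 := d41_2 (iv F107155) D29576 (iv D23865)
def n29577 : Q := act 8 n23856
theorem D29577 : act 8 n23856 = n29577 := rfl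
theorem F137732 : act 0 n29577 = n25633 := d7_1 D29577 (iv D25633) (iv F107151)
theorem F137733 : act 1 n29577 = n29577 := d15_1 D29577 (iv D29577) F107152
theorem F137734 : act 4 n29577 = n24149 := d33_1 D29577 (iv D24149) (iv F107153)
theorem F137735 : act 5 n29577 = n29577 := d37_1 D29577 (iv D29577) F107154 F85400 (iv F107154)
theorem F137736 : act 7 n29577 = n23857 := d42_1 D29577 (iv D23857) D23856
def n29578 : Q := act 9 n23857
theorem D29578 : act 9 n23857 = n29578 := rfl
theorem F137737 : act 0 n29578 = n25634 := d8_1 D29578 (iv D25634) (iv F107156)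
theorem F137738 : act 1 n29578 = n29578 := d16_1 D29578 (iv D29578) F107157
theorem F137739 : act 4 n29578 = n24150 := d34_1 D29578 (iv D24150) (iv F107158)
theorem F137740 : act 5 n29578 = n29578 := d38_1 D29578 (iv D29578) F107159
theorem F137741 : act 8 n29578 = n23867 := d44_1 D29578 (iv D23867) (iv D18866) (iv F85396) D23857
def n29579 : Q := act 6 n23858
theorem D29579 : act 6 n23858 = n29579 := rfl
theorem F137742 : act 0 n29579 = n23859 := d5_1 D29579 (iv D23859) D23858
theorem F137743 : act 1 n29579 = n25635 := d13_1 D29579 (iv D25635) (iv F107160)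
theorem F137744 : act 2 n29579 = n29579 := d20_1 D29579 (iv D29579) F107161
theorem F137745 : act 4 n29579 = n23921 := d31_1 D29579 (iv D23921) (iv F107162)
theorem F137746 : act 8 n29579 = n23878 := d40_2 (iv F107163) D29579 (iv D23878)
def n29580 : Q := act 5 n23859
theorem D29580 : act 5 n23859 = n29580 := rfl
theorem F137747 : act 1 n29580 = n23860 := d12_1 D29580 (iv D23860) (iv F107164)
theorem F137748 : act 2 n29580 = n29580 := d19_1 D29580 (iv D29580) F107165
def n29581 : Q := act 7 n23859
theorem D29581 : act 7 n23859 = n29581 := rfl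
theorem F137749 : act 1 n29581 = n23861 := d14_1 D29581 (iv D23861) (iv F107164)
theorem F137750 : act 2 n29581 = n29581 := d21_1 D29581 (iv D29581) F107165
theorem F137751 : act 4 n29581 = n23923 := d32_1 D29581 (iv D23923) (iv F107166)
theorem F137752 : act 8 n29581 = n23880 := d42_2 (iv F107167) D29581 (iv D23880)
def n29582 : Q := act 4 n23860
theorem D29582 : act 4 n23860 = n29582 := rfl
theorem F137753 : act 0 n29582 = n25638 := d3_1 D29582 (iv D25638) (iv F107168)
theorem F137754 : act 2 n29582 = n23862 := d18_1 D29582 (iv D23862) (iv F107169)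
theorem F137755 : act 5 n29582 = n23924 := d30_2 D23860 D29582 (iv D23924) (iv D18906) (iv F85407)
def n29583 : Q := act 7 n23860
theorem D29583 : act 7 n23860 = n29583 := rfl
theorem F137756 : act 0 n29583 = n25639 := d6_1 D29583 (iv D25639) (iv F107168)
theorem F137757 : act 2 n29583 = n23863 := d21_1 D29583 (iv D23863) (iv F107169)
theorem F137758 : act 5 n29583 = n23861 := d36_1 D29583 (iv D23861) D23860
def n29584 : Q := act 8 n23860
theorem D29584 : act 8 n23860 = n29584 := rfl
theorem F137759 : act 0 n29584 = n25640 := d7_1 D29584 (iv D25640) (iv F107168)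
theorem F137760 : act 2 n29584 = n23864 := d22_1 D29584 (iv D23864) (iv F107169)
theorem F137761 : act 5 n29584 = n23882 := d37_1 D29584 (iv D23882) (iv D18875) (iv F85408) D23860
def n29585 : Q := act 7 n23862
theorem D29585 : act 7 n23862 = n29585 := rfl
theorem F137762 : act 0 n29585 = n25641 := d6_1 D29585 (iv D25641) (iv F107174)
theorem F137763 : act 1 n29585 = n29585 := d14_1 D29585 (iv D29585) F107175
theorem F137764 : act 3 n29585 = n24157 := d27_1 D29585 (iv D24157) (iv F107176)
theorem F137765 : act 4 n29585 = n23863 := d32_1 D29585 (iv D23863) D23862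
theorem F137766 : act 5 n29585 = n23926 := d36_1 D29585 (iv D23926) (iv F107177)
def n29586 : Q := act 8 n23862
theorem D29586 : act 8 n23862 = n29586 := rfl
theorem F137767 : act 0 n29586 = n25642 := d7_1 D29586 (iv D25642) (iv F107174)
theorem F137768 : act 1 n29586 = n29586 := d15_1 D29586 (iv D29586) F107175
theorem F137769 : act 3 n29586 = n24158 := d28_1 D29586 (iv D24158) (iv F107176)
theorem F137770 : act 4 n29586 = n23864 := d33_1 D29586 (iv D23864) D23862
theorem F137771 : act 5 n29586 = n29586 := d37_1 D29586 (iv D29586) F107177 F85630 (iv F107177)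
def n29587 : Q := act 6 n23863
theorem D29587 : act 6 n23863 = n29587 := rfl
theorem F137772 : act 0 n29587 = n25643 := d5_1 D29587 (iv D25643) (iv F107178)
theorem F137773 : act 1 n29587 = n29587 := d13_1 D29587 (iv D29587) F107179
theorem F137774 : act 3 n29587 = n23865 := d26_1 D29587 (iv D23865) (iv F107180)
def n29588 : Q := act 8 n23863
theorem D29588 : act 8 n23863 = n29588 := rfl
theorem F137775 : act 0 n29588 = n25644 := d7_1 D29588 (iv D25644) (iv F107178)
theorem F137776 : act 1 n29588 = n29588 := d15_1 D29588 (iv D29588) F107179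
theorem F137777 : act 3 n29588 = n23866 := d28_1 D29588 (iv D23866) (iv F107180)
theorem F137778 : act 5 n29588 = n23884 := d37_1 D29588 (iv D23884) F85476 (iv F85416) (iv F107181)
theorem F137779 : act 7 n29588 = n23864 := d42_1 D29588 (iv D23864) D23863
def n29589 : Q := act 9 n23864
theorem D29589 : act 9 n23864 = n29589 := rfl
theorem F137780 : act 0 n29589 = n25645 := d8_1 D29589 (iv D25645) (iv F107182)
theorem F137781 : act 1 n29589 = n29589 := d16_1 D29589 (iv D29589) F107183
theorem F137782 : act 3 n29589 = n23867 := d29_1 D29589 (iv D23867) (iv F107184)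
theorem F137783 : act 5 n29589 = n23885 := d38_1 D29589 (iv D23885) (iv F107185)
def n29590 : Q := act 8 n23865
theorem D29590 : act 8 n23865 = n29590 := rfl
theorem F137784 : act 0 n29590 = n25646 := d7_1 D29590 (iv D25646) (iv F107186)
theorem F137785 : act 1 n29590 = n29590 := d15_1 D29590 (iv D29590) F107187
theorem F137786 : act 4 n29590 = n24162 := d33_1 D29590 (iv D24162) (iv F107188)
theorem F137787 : act 6 n29590 = n23866 := d40_1 D29590 (iv D23866) D23865
def n29591 : Q := act 9 n23866
theorem D29591 : act 9 n23866 = n29591 := rfl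
theorem F137788 : act 0 n29591 = n25647 := d8_1 D29591 (iv D25647) (iv F107189)
theorem F137789 : act 1 n29591 = n29591 := d16_1 D29591 (iv D29591) F107190
theorem F137790 : act 4 n29591 = n24163 := d34_1 D29591 (iv D24163) (iv F107191)
theorem F137791 : act 5 n29591 = n23887 := d38_1 D29591 (iv D23887) (iv F107192)
theorem F137792 : act 7 n29591 = n23867 := d43_1 D29591 (iv D23867) (iv F107193)
def n29592 : Q := act 6 n23873
theorem D29592 : act 6 n23873 = n29592 := rfl
theorem F137793 : act 0 n29592 = n25655 := d5_1 D29592 (iv D25655) (iv F107224)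
theorem F137794 : act 1 n29592 = n29592 := d13_1 D29592 (iv D29592) F107225
theorem F137795 : act 3 n29592 = n23875 := d26_1 D29592 (iv D23875) (iv F107226)
theorem F137796 : act 5 n29592 = n23883 := d35_1 D29592 (iv D23883) F85476 (iv F85443) (iv F107227)
theorem F137797 : act 7 n29592 = n29592 := d39_2 D23873 D29592 (iv D29592) (iv D23873) F85437
theorem F137798 : act 9 n29592 = n29592 := d41_2 F107228 D29592 (iv D29592)
def n29593 : Q := act 8 n23873
theorem D29593 : act 8 n23873 = n29593 := rfl
theorem F137799 : act 0 n29593 = n25656 := d7_1 D29593 (iv D25656) (iv F107224)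
theorem F137800 : act 1 n29593 = n29593 := d15_1 D29593 (iv D29593) F107225
theorem F137801 : act 3 n29593 = n23876 := d28_1 D29593 (iv D23876) (iv F107226)
theorem F137802 : act 4 n29593 = n24189 := d33_1 D29593 (iv F137047) F137045
theorem F137803 : act 7 n29593 = n23874 := d42_1 D29593 (iv D23874) D23873
theorem F137804 : act 9 n24188 = n29593 := d43_0 F137803 (iv F135266) (iv F108702)
def n29594 : Q := act 8 n23875
theorem D29594 : act 8 n23875 = n29594 := rfl
theorem F137805 : act 0 n29594 = n25657 := d7_1 D29594 (iv D25657) (iv F107235)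
theorem F137806 : act 1 n29594 = n29594 := d15_1 D29594 (iv D29594) F107236
theorem F137807 : act 4 n29594 = n29594 := d33_1 D29594 (iv D29594) F107237
theorem F137808 : act 6 n29594 = n23876 := d40_1 D29594 (iv D23876) D23875
theorem F137809 : act 7 n29594 = n29594 := d42_1 D29594 (iv D29594) F107239
def n29595 : Q := act 9 n23876
theorem D29595 : act 9 n23876 = n29595 := rfl
theorem F137810 : act 0 n29595 = n25658 := d8_1 D29595 (iv D25658) (iv F107241)
theorem F137811 : act 1 n29595 = n29595 := d16_1 D29595 (iv D29595) F107242
theorem F137812 : act 3 n29595 = n24188 := d29_1 D29595 F137804 F137801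
theorem F137813 : act 4 n29595 = n29595 := d34_1 D29595 (iv D29595) F107243
theorem F137814 : act 7 n29595 = n23877 := d43_1 D29595 (iv D23877) (iv F107244)
theorem F137815 : act 8 n29595 = n29595 := d44_1 D29595 (iv D29595) (iv D23876) F85449 D23876
def n29596 : Q := act 5 n23878
theorem D29596 : act 5 n23878 = n29596 := rfl
theorem F137816 : act 0 n29596 = n23879 := d4_1 D29596 (iv D23879) (iv F107251)
theorem F137817 : act 1 n29596 = n25659 := d12_1 D29596 (iv D25659) (iv F107252)
theorem F137818 : act 2 n29596 = n29596 := d19_1 D29596 (iv D29596) F107253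
theorem F137819 : act 4 n29596 = n29596 := d30_1 D29596 (iv D29596) F107254 F85689 (iv F107254)
theorem F137820 : act 6 n29596 = n29596 := d35_2 D23878 D29596 (iv D29596) (iv D23878) F85457
theorem F137821 : act 9 n29596 = n29596 := d38_2 F107255 D29596 (iv D29596)
def n29597 : Q := act 7 n23878
theorem D29597 : act 7 n23878 = n29597 := rfl
theorem F137822 : act 0 n29597 = n23880 := d6_1 D29597 (iv D23880) (iv F107251)
theorem F137823 : act 1 n29597 = n25660 := d14_1 D29597 (iv D25660) (iv F107252)
theorem F137824 : act 2 n29597 = n29597 := d21_1 D29597 (iv D29597) F107253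
theorem F137825 : act 4 n29597 = n23937 := d32_1 D29597 (iv D23937) (iv F107254)
theorem F137826 : act 6 n29597 = n25146 := d39_1 D29597 (iv D25146) (iv F135141) F107202 D23878
theorem F137827 : act 9 n29597 = n29597 := d43_2 F107255 D29597 (iv D29597)
def n29598 : Q := act 7 n23879
theorem D29598 : act 7 n23879 = n29598 := rfl
theorem F137828 : act 1 n29598 = n23881 := d14_1 D29598 (iv D23881) (iv F107256)
theorem F137829 : act 2 n29598 = n29598 := d21_1 D29598 (iv D29598) F107257
theorem F137830 : act 4 n29598 = n29598 := d32_1 D29598 (iv D29598) F107258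
theorem F137831 : act 5 n29598 = n23880 := d36_1 D29598 (iv D23880) D23879
theorem F137832 : act 9 n29598 = n29598 := d43_2 F107260 D29598 (iv D29598)
def n29599 : Q := act 8 n23879
theorem D29599 : act 8 n23879 = n29599 := rfl
theorem F137833 : act 1 n29599 = n23882 := d15_1 D29599 (iv D23882) (iv F107256)
theorem F137834 : act 2 n29599 = n29599 := d22_1 D29599 (iv D29599) F107257
theorem F137835 : act 4 n29599 = n29599 := d33_1 D29599 (iv D29599) F107258
theorem F137836 : act 6 n29599 = n29599 := d40_1 D29599 (iv D29599) F107259
def n29600 : Q := act 6 n23881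
theorem D29600 : act 6 n23881 = n29600 := rfl
theorem F137837 : act 0 n29600 = n25663 := d5_1 D29600 (iv D25663) (iv F107265)
theorem F137838 : act 2 n29600 = n23883 := d20_1 D29600 (iv D23883) (iv F107266)
theorem F137839 : act 4 n29600 = n29600 := d31_1 D29600 (iv D29600) F107267
theorem F137840 : act 7 n29600 = n29600 := d39_2 D23881 D29600 (iv D29600) (iv D23881) F85466
theorem F137841 : act 9 n29600 = n29600 := d41_2 F107269 D29600 (iv D29600)
def n29601 : Q := act 8 n23881
theorem D29601 : act 8 n23881 = n29601 := rfl
theorem F137842 : act 0 n29601 = n25664 := d7_1 D29601 (iv D25664) (iv F107265)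
theorem F137843 : act 2 n29601 = n23884 := d22_1 D29601 (iv D23884) (iv F107266)
theorem F137844 : act 4 n29601 = n29601 := d33_1 D29601 (iv D29601) F107267
theorem F137845 : act 7 n29601 = n23882 := d42_1 D29601 (iv D23882) D23881
def n29602 : Q := act 9 n23882
theorem D29602 : act 9 n23882 = n29602 := rfl
theorem F137846 : act 0 n29602 = n25665 := d8_1 D29602 (iv D25665) (iv F107270)
theorem F137847 : act 2 n29602 = n23885 := d23_1 D29602 (iv D23885) (iv F107271)
theorem F137848 : act 4 n29602 = n29602 := d34_1 D29602 (iv D29602) F107272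
theorem F137849 : act 6 n29602 = n29602 := d41_1 D29602 (iv D29602) F107273
theorem F137850 : act 8 n29602 = n29602 := d44_1 D29602 (iv D29602) (iv D23882) F85467 D23882
def n29603 : Q := act 8 n23883
theorem D29603 : act 8 n23883 = n29603 := rfl
theorem F137851 : act 0 n29603 = n25666 := d7_1 D29603 (iv D25666) (iv F107274)
theorem F137852 : act 1 n29603 = n29603 := d15_1 D29603 (iv D29603) F107275
theorem F137853 : act 3 n29603 = n23886 := d28_1 D29603 (iv D23886) (iv F107276)
theorem F137854 : act 4 n29603 = n29603 := d33_1 D29603 (iv D29603) F107277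
theorem F137855 : act 6 n29603 = n23884 := d40_1 D29603 (iv D23884) D23883
theorem F137856 : act 7 n29603 = n29603 := d42_1 D29603 (iv D29603) F107278
def n29604 : Q := act 9 n23884
theorem D29604 : act 9 n23884 = n29604 := rfl
theorem F137857 : act 0 n29604 = n25667 := d8_1 D29604 (iv D25667) (iv F107280)
theorem F137858 : act 1 n29604 = n29604 := d16_1 D29604 (iv D29604) F107281
theorem F137859 : act 3 n29604 = n23887 := d29_1 D29604 (iv D23887) (iv F107282)
theorem F137860 : act 4 n29604 = n29604 := d34_1 D29604 (iv D29604) F107283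
theorem F137861 : act 7 n29604 = n23885 := d43_1 D29604 (iv D23885) (iv F107284)
theorem F137862 : act 8 n29604 = n29604 := d44_1 D29604 (iv D29604) (iv D23884) F85477 D23884
def n29605 : Q := act 5 n23886
theorem D29605 : act 5 n23886 = n29605 := rfl
theorem F137863 : act 0 n29605 = n25668 := d4_1 D29605 (iv D25668) (iv F107291)
theorem F137864 : act 1 n29605 = n29605 := d12_1 D29605 (iv D29605) F107292
theorem F137865 : act 7 n29605 = n29605 := d36_2 F107295 D29605 (iv D29605)
def n29606 : Q := act 9 n23886
theorem D29606 : act 9 n23886 = n29606 := rfl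
theorem F137866 : act 0 n29606 = n25669 := d8_1 D29606 (iv D25669) (iv F107291)
theorem F137867 : act 1 n29606 = n29606 := d16_1 D29606 (iv D29606) F107292
theorem F137868 : act 4 n29606 = n23889 := d34_1 D29606 (iv D23889) (iv F107293)
theorem F137869 : act 6 n29606 = n23887 := d41_1 D29606 (iv D23887) (iv F107294)
theorem F137870 : act 7 n29606 = n29606 := d43_1 D29606 (iv D29606) F107295
theorem F137871 : act 8 n29606 = n29606 := d44_1 D29606 (iv D29606) (iv D23886) F85487 D23886
def n29607 : Q := act 4 n23888
theorem D29607 : act 4 n23888 = n29607 := rfl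
theorem F137872 : act 0 n29607 = n25670 := d3_1 D29607 (iv D25670) (iv F107301)
theorem F137873 : act 1 n29607 = n29607 := d11_1 D29607 (iv D29607) F107302
theorem F137874 : act 6 n29607 = n24188 := d31_2 (iv F107304) D29607 (iv D24188)
theorem F137875 : act 7 n29607 = n29607 := d32_2 F107305 D29607 (iv D29607)
theorem F137876 : act 8 n29607 = n29607 := d33_2 F107306 D29607 (iv D29607)
def n29608 : Q := act 9 n23888
theorem D29608 : act 9 n23888 = n29608 := rfl
theorem F137877 : act 0 n29608 = n25671 := d8_1 D29608 (iv D25671) (iv F107301)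
theorem F137878 : act 1 n29608 = n29608 := d16_1 D29608 (iv D29608) F107302
theorem F137879 : act 3 n29608 = n29608 := d29_1 D29608 (iv D29608) F107303
theorem F137880 : act 5 n29608 = n23889 := d38_1 D29608 (iv D23889) D23888
theorem F137881 : act 6 n29608 = n24189 := d41_1 D29608 (iv D24189) (iv F107304)
theorem F137882 : act 7 n29608 = n29608 := d43_1 D29608 (iv D29608) F107305
def n29609 : Q := act 0 n23890
theorem D29609 : act 0 n23890 = n29609 := rfl
theorem F137883 : act 1 n29609 = n25075 := d0_2 D23890 D29609 F135144 (iv D20250) (iv F85508)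
theorem F137884 : act 2 n29609 = n29609 := d1_2 F107313 D29609 (iv D29609)
theorem F137885 : act 3 n29609 = n25682 := d2_2 (iv F107314) D29609 (iv D25682)
theorem F137886 : act 5 n29609 = n29609 := d4_2 F107315 D29609 (iv D29609)
theorem F137887 : act 7 n29609 = n24190 := d6_2 (iv F107316) D29609 (iv D24190)
theorem F137888 : act 8 n29609 = n29609 := d7_2 F107317 D29609 (iv D29609)
theorem F137889 : act 9 n29609 = n25063 := d8_2 (iv F107318) D29609 F135123
theorem F137890 : act 6 n25115 = n29609 := d41_3 F137889 F112948 D25115
def n29610 : Q := act 6 n23890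
theorem D29610 : act 6 n23890 = n29610 := rfl
theorem F137891 : act 0 n29610 = n25115 := d5_1 D29610 F137890 (iv D29609)
theorem F137892 : act 1 n29610 = n23891 := d13_1 D29610 (iv D23891) D23890
theorem F137893 : act 2 n29610 = n29610 := d20_1 D29610 (iv D29610) F107313
theorem F137894 : act 3 n29610 = n25683 := d26_1 D29610 (iv D25683) (iv F107314)
theorem F137895 : act 8 n29610 = n29610 := d40_2 F107317 D29610 (iv D29610)
theorem F137896 : act 9 n29610 = n25097 := d41_2 (iv F107318) D29610 F135583
theorem F137897 : act 5 n25244 = n29610 := d38_3 F137896 F113127 D25244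
def n29611 : Q := act 7 n23891
theorem D29611 : act 7 n23891 = n29611 := rfl
theorem F137898 : act 0 n29611 = n25675 := d6_1 D29611 (iv D25675) (iv F107319)
theorem F137899 : act 2 n29611 = n23893 := d21_1 D29611 (iv D23893) (iv F107320)
theorem F137900 : act 3 n29611 = n25685 := d27_1 D29611 (iv D25685) (iv F107321)
theorem F137901 : act 6 n29611 = n24193 := d39_1 D29611 (iv D24193) (iv D19102) (iv F85511) D23891
theorem F137902 : act 8 n29611 = n29611 := d42_2 F107322 D29611 (iv D29611)
theorem F137903 : act 9 n29611 = n25200 := d43_2 (iv F107323) D29611 (iv D25200)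
def n29612 : Q := act 4 n23892
theorem D29612 : act 4 n23892 = n29612 := rfl
theorem F137904 : act 0 n29612 = n25676 := d3_1 D29612 (iv D25676) (iv F107324)
theorem F137905 : act 1 n29612 = n29612 := d11_1 D29612 (iv D29612) F107325
theorem F137906 : act 3 n29612 = n23906 := d24_1 D29612 (iv D23906) F85565 (iv F85522) (iv F107326)
theorem F137907 : act 6 n29612 = n29612 := d31_2 F107327 D29612 (iv D29612)
theorem F137908 : act 8 n29612 = n24996 := d33_2 F135726 D29612 (iv F135723)
theorem F137909 : act 9 n29612 = n25201 := d34_2 (iv F107328) D29612 (iv D25201)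
def n29613 : Q := act 7 n23892
theorem D29613 : act 7 n23892 = n29613 := rfl
theorem F137910 : act 0 n29613 = n25677 := d6_1 D29613 (iv D25677) (iv F107324)
theorem F137911 : act 1 n29613 = n29613 := d14_1 D29613 (iv D29613) F107325
theorem F137912 : act 3 n29613 = n23894 := d27_1 D29613 (iv D23894) (iv F107326)
theorem F137913 : act 5 n29613 = n23893 := d36_1 D29613 (iv D23893) D23892
theorem F137914 : act 9 n29613 = n25202 := d43_2 (iv F107328) D29613 (iv D25202)
def n29614 : Q := act 6 n23894
theorem D29614 : act 6 n23894 = n29614 := rfl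
theorem F137915 : act 0 n29614 = n25679 := d5_1 D29614 (iv D25679) (iv F107335)
theorem F137916 : act 1 n29614 = n29614 := d13_1 D29614 (iv D29614) F107336
theorem F137917 : act 2 n29614 = n25689 := d20_1 D29614 (iv D25689) (iv F107337)
theorem F137918 : act 4 n29614 = n23909 := d31_1 D29614 (iv D23909) (iv F107338)
theorem F137919 : act 5 n29614 = n24197 := d35_1 D29614 (iv D24197) F86550 (iv F85529) (iv F107339)
theorem F137920 : act 7 n29614 = n29614 := d39_2 D23894 D29614 (iv D29614) (iv D23894) F85523
theorem F137921 : act 9 n29614 = n25204 := d41_2 (iv F107340) D29614 (iv D25204)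
def n29615 : Q := act 8 n23894
theorem D29615 : act 8 n23894 = n29615 := rfl
theorem F137922 : act 0 n29615 = n25680 := d7_1 D29615 (iv D25680) (iv F107335)
theorem F137923 : act 1 n29615 = n29615 := d15_1 D29615 (iv D29615) F107336
theorem F137924 : act 2 n29615 = n25690 := d22_1 D29615 (iv D25690) (iv F107337)
theorem F137925 : act 4 n29615 = n23910 := d33_1 D29615 (iv D23910) (iv F107338)
theorem F137926 : act 5 n29615 = n29615 := d37_1 D29615 (iv D29615) F107339 F85530 (iv F107339)
theorem F137927 : act 7 n29615 = n23895 := d42_1 D29615 (iv D23895) D23894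
def n29616 : Q := act 0 n23896
theorem D29616 : act 0 n23896 = n29616 := rfl
theorem F137928 : act 1 n29616 = n25682 := d0_2 D23896 D29616 (iv D25682) (iv D20256) (iv F85532)
theorem F137929 : act 2 n29616 = n29616 := d1_2 F107347 D29616 (iv D29616)
theorem F137930 : act 3 n29616 = n25075 := d2_2 (iv F107348) D29616 F135144
theorem F137931 : act 5 n29616 = n29616 := d4_2 F107349 D29616 (iv D29616)
theorem F137932 : act 6 n29616 = n25150 := d5_2 F135904 D29616 (iv F135899)
theorem F137933 : act 7 n29616 = n23912 := d6_2 (iv F107350) D29616 (iv D23912)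
theorem F137934 : act 8 n29616 = n29616 := d7_2 F107351 D29616 (iv D29616)
theorem F137935 : act 9 n29616 = n23902 := d8_2 (iv F107352) D29616 (iv D23902)
def n29617 : Q := act 7 n23897
theorem D29617 : act 7 n23897 = n29617 := rfl
theorem F137936 : act 0 n29617 = n25685 := d6_1 D29617 (iv D25685) (iv F107353)
theorem F137937 : act 2 n29617 = n23899 := d21_1 D29617 (iv D23899) (iv F107354)
theorem F137938 : act 3 n29617 = n25675 := d27_1 D29617 (iv D25675) (iv F107355)
theorem F137939 : act 6 n29617 = n23915 := d39_1 D29617 (iv D23915) (iv D18899) (iv F85535) D23897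
theorem F137940 : act 8 n29617 = n29617 := d42_2 F107356 D29617 (iv D29617)
theorem F137941 : act 9 n29617 = n23905 := d43_2 (iv F107357) D29617 (iv D23905)
def n29618 : Q := act 4 n23898
theorem D29618 : act 4 n23898 = n29618 := rfl
theorem F137942 : act 0 n29618 = n25686 := d3_1 D29618 (iv D25686) (iv F107358)
theorem F137943 : act 1 n29618 = n29618 := d11_1 D29618 (iv D29618) F107359
theorem F137944 : act 3 n29618 = n25201 := d24_1 D29618 (iv D25201) F90269 (iv F85546) (iv F107360)
theorem F137945 : act 6 n29618 = n29618 := d31_2 F107361 D29618 (iv D29618)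
theorem F137946 : act 8 n29618 = n24987 := d33_2 F136697 D29618 (iv F136694)
theorem F137947 : act 9 n29618 = n23906 := d34_2 (iv F107362) D29618 (iv D23906)
def n29619 : Q := act 7 n23898
theorem D29619 : act 7 n23898 = n29619 := rfl
theorem F137948 : act 0 n29619 = n25687 := d6_1 D29619 (iv D25687) (iv F107358)
theorem F137949 : act 1 n29619 = n29619 := d14_1 D29619 (iv D29619) F107359
theorem F137950 : act 3 n29619 = n23900 := d27_1 D29619 (iv D23900) (iv F107360)
theorem F137951 : act 5 n29619 = n23899 := d36_1 D29619 (iv D23899) D23898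
theorem F137952 : act 9 n29619 = n23907 := d43_2 (iv F107362) D29619 (iv D23907)
def n29620 : Q := act 6 n23900
theorem D29620 : act 6 n23900 = n29620 := rfl
theorem F137953 : act 0 n29620 = n25689 := d5_1 D29620 (iv D25689) (iv F107369)
theorem F137954 : act 1 n29620 = n29620 := d13_1 D29620 (iv D29620) F107370
theorem F137955 : act 2 n29620 = n25679 := d20_1 D29620 (iv D25679) (iv F107371)
theorem F137956 : act 4 n29620 = n25204 := d31_1 D29620 (iv D25204) (iv F107372)
theorem F137957 : act 5 n29620 = n23919 := d35_1 D29620 (iv D23919) F85603 (iv F85553) (iv F107373)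
theorem F137958 : act 7 n29620 = n29620 := d39_2 D23900 D29620 (iv D29620) (iv D23900) F85547
theorem F137959 : act 9 n29620 = n23909 := d41_2 (iv F107374) D29620 (iv D23909)
def n29621 : Q := act 8 n23900
theorem D29621 : act 8 n23900 = n29621 := rfl
theorem F137960 : act 0 n29621 = n25690 := d7_1 D29621 (iv D25690) (iv F107369)
theorem F137961 : act 1 n29621 = n29621 := d15_1 D29621 (iv D29621) F107370
theorem F137962 : act 2 n29621 = n25680 := d22_1 D29621 (iv D25680) (iv F107371)
theorem F137963 : act 4 n29621 = n25205 := d33_1 D29621 (iv D25205) (iv F107372)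
theorem F137964 : act 5 n29621 = n29621 := d37_1 D29621 (iv D29621) F107373 F85554 (iv F107373)
theorem F137965 : act 7 n29621 = n23901 := d42_1 D29621 (iv D23901) D23900
def n29622 : Q := act 7 n23906
theorem D29622 : act 7 n23906 = n29622 := rfl
theorem F137966 : act 0 n29622 = n25698 := d6_1 D29622 (iv D25698) (iv F107396)
theorem F137967 : act 1 n29622 = n29622 := d14_1 D29622 (iv D29622) F107397
theorem F137968 : act 4 n29622 = n23907 := d32_1 D29622 (iv D23907) D23906
theorem F137969 : act 8 n29622 = n24452 := d42_2 (iv F135105) D29622 F109973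
def n29623 : Q := act 6 n23907
theorem D29623 : act 6 n23907 = n29623 := rfl
theorem F137970 : act 0 n29623 = n25699 := d5_1 D29623 (iv D25699) (iv F107400)
theorem F137971 : act 1 n29623 = n29623 := d13_1 D29623 (iv D29623) F107401
theorem F137972 : act 3 n29623 = n23909 := d26_1 D29623 (iv D23909) (iv F107402)
theorem F137973 : act 5 n29623 = n23927 := d35_1 D29623 (iv D23927) F85634 (iv F85570) (iv F107403)
theorem F137974 : act 7 n29623 = n29623 := d39_2 D23907 D29623 (iv D29623) (iv D23907) F85566
def n29624 : Q := act 8 n23909
theorem D29624 : act 8 n23909 = n29624 := rfl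
theorem F137975 : act 0 n29624 = n25701 := d7_1 D29624 (iv D25701) (iv F107411)
theorem F137976 : act 1 n29624 = n29624 := d15_1 D29624 (iv D29624) F107412
theorem F137977 : act 5 n29624 = n29624 := d37_1 D29624 (iv D29624) F107413 F85640 (iv F107413)
theorem F137978 : act 6 n29624 = n23910 := d40_1 D29624 (iv D23910) D23909
theorem F137979 : act 7 n29624 = n29624 := d42_1 D29624 (iv D29624) F107414
def n29625 : Q := act 6 n23912
theorem D29625 : act 6 n23912 = n29625 := rfl
theorem F137980 : act 0 n29625 = n23913 := d5_1 D29625 (iv D23913) D23912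
theorem F137981 : act 1 n29625 = n25703 := d13_1 D29625 (iv D25703) (iv F107424)
theorem F137982 : act 2 n29625 = n29625 := d20_1 D29625 (iv D29625) F107425
theorem F137983 : act 3 n29625 = n26067 := d26_1 D29625 (iv D26067) (iv F107426)
theorem F137984 : act 8 n29625 = n29625 := d40_2 F107428 D29625 (iv D29625)
theorem F137985 : act 9 n29625 = n23921 := d41_2 (iv F107429) D29625 (iv D23921)
def n29626 : Q := act 5 n23913
theorem D29626 : act 5 n23913 = n29626 := rfl
theorem F137986 : act 1 n29626 = n23914 := d12_1 D29626 (iv D23914) (iv F107430)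
theorem F137987 : act 2 n29626 = n29626 := d19_1 D29626 (iv D29626) F107431
theorem F137988 : act 3 n29626 = n26068 := d25_1 D29626 (iv D26068) (iv F107432)
theorem F137989 : act 6 n29626 = n29626 := d35_2 D23913 D29626 (iv D29626) (iv D23913) F85581
theorem F137990 : act 9 n29626 = n23922 := d38_2 (iv F107434) D29626 (iv D23922)
def n29627 : Q := act 7 n23913
theorem D29627 : act 7 n23913 = n29627 := rfl
theorem F137991 : act 1 n29627 = n23915 := d14_1 D29627 (iv D23915) (iv F107430)
theorem F137992 : act 2 n29627 = n29627 := d21_1 D29627 (iv D29627) F107431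
theorem F137993 : act 3 n29627 = n26069 := d27_1 D29627 (iv D26069) (iv F107432)
theorem F137994 : act 8 n29627 = n29627 := d42_2 F107433 D29627 (iv D29627)
theorem F137995 : act 9 n29627 = n23923 := d43_2 (iv F107434) D29627 (iv D23923)
def n29628 : Q := act 4 n23914
theorem D29628 : act 4 n23914 = n29628 := rfl
theorem F137996 : act 0 n29628 = n25706 := d3_1 D29628 (iv D25706) (iv F107435)
theorem F137997 : act 2 n29628 = n23916 := d18_1 D29628 (iv D23916) (iv F107436)
theorem F137998 : act 6 n29628 = n29628 := d31_2 F107438 D29628 (iv D29628)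
theorem F137999 : act 9 n29628 = n23924 := d34_2 (iv F107439) D29628 (iv D23924)
def n29629 : Q := act 7 n23914
theorem D29629 : act 7 n23914 = n29629 := rfl
theorem F138000 : act 0 n29629 = n25707 := d6_1 D29629 (iv D25707) (iv F107435)
theorem F138001 : act 2 n29629 = n23917 := d21_1 D29629 (iv D23917) (iv F107436)
theorem F138002 : act 3 n29629 = n26071 := d27_1 D29629 (iv D26071) (iv F107437)
theorem F138003 : act 5 n29629 = n23915 := d36_1 D29629 (iv D23915) D23914
theorem F138004 : act 9 n29629 = n23925 := d43_2 (iv F107439) D29629 (iv D23925)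
def n29630 : Q := act 8 n23914
theorem D29630 : act 8 n23914 = n29630 := rfl
theorem F138005 : act 0 n29630 = n25708 := d7_1 D29630 (iv D25708) (iv F107435)
theorem F138006 : act 2 n29630 = n23918 := d22_1 D29630 (iv D23918) (iv F107436)
theorem F138007 : act 3 n29630 = n26072 := d28_1 D29630 (iv D26072) (iv F107437)
theorem F138008 : act 5 n29630 = n29630 := d37_1 D29630 (iv D29630) (iv D23914) F85587 D23914
theorem F138009 : act 6 n29630 = n29630 := d40_1 D29630 (iv D29630) F107438
theorem F138010 : act 9 n29630 = n29630 := d44_2 (iv F107439) D29630 (iv D29630) F107439 F85622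
def n29631 : Q := act 7 n23916
theorem D29631 : act 7 n23916 = n29631 := rfl
theorem F138011 : act 0 n29631 = n25709 := d6_1 D29631 (iv D25709) (iv F107445)
theorem F138012 : act 1 n29631 = n29631 := d14_1 D29631 (iv D29631) F107446
theorem F138013 : act 3 n29631 = n24216 := d27_1 D29631 (iv D24216) (iv F107447)
theorem F138014 : act 4 n29631 = n23917 := d32_1 D29631 (iv D23917) D23916
theorem F138015 : act 9 n29631 = n23926 := d43_2 (iv F107449) D29631 (iv D23926)
def n29632 : Q := act 8 n23916
theorem D29632 : act 8 n23916 = n29632 := rfl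
theorem F138016 : act 0 n29632 = n25710 := d7_1 D29632 (iv D25710) (iv F107445)
theorem F138017 : act 1 n29632 = n29632 := d15_1 D29632 (iv D29632) F107446
theorem F138018 : act 3 n29632 = n24217 := d28_1 D29632 (iv D24217) (iv F107447)
theorem F138019 : act 4 n29632 = n23918 := d33_1 D29632 (iv D23918) D23916
theorem F138020 : act 6 n29632 = n29632 := d40_1 D29632 (iv D29632) F107448
theorem F138021 : act 9 n29632 = n29632 := d44_2 (iv F107449) D29632 (iv D29632) F107449 F85630
theorem F138022 : act 5 n27227 = n29632 := d25_0 F138018 (iv F108860) (iv F121398)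
def n29633 : Q := act 6 n23917
theorem D29633 : act 6 n23917 = n29633 := rfl
theorem F138023 : act 0 n29633 = n25711 := d5_1 D29633 (iv D25711) (iv F107450)
theorem F138024 : act 1 n29633 = n29633 := d13_1 D29633 (iv D29633) F107451
theorem F138025 : act 3 n29633 = n23919 := d26_1 D29633 (iv D23919) (iv F107452)
theorem F138026 : act 7 n29633 = n29633 := d39_2 D23917 D29633 (iv D29633) (iv D23917) F85592
theorem F138027 : act 9 n29633 = n23927 := d41_2 (iv F107454) D29633 (iv D23927)
def n29634 : Q := act 8 n23917
theorem D29634 : act 8 n23917 = n29634 := rfl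
theorem F138028 : act 0 n29634 = n25712 := d7_1 D29634 (iv D25712) (iv F107450)
theorem F138029 : act 1 n29634 = n29634 := d15_1 D29634 (iv D29634) F107451
theorem F138030 : act 3 n29634 = n23920 := d28_1 D29634 (iv D23920) (iv F107452)
theorem F138031 : act 5 n29634 = n29634 := d37_1 D29634 (iv D29634) F107453 F85597 (iv F107453)
theorem F138032 : act 7 n29634 = n23918 := d42_1 D29634 (iv D23918) D23917
theorem F138033 : act 9 n29634 = n29634 := d44_2 (iv F107454) D29634 (iv D29634) F107454 F85635
def n29635 : Q := act 8 n23919
theorem D29635 : act 8 n23919 = n29635 := rfl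
theorem F138034 : act 0 n29635 = n25713 := d7_1 D29635 (iv D25713) (iv F107461)
theorem F138035 : act 1 n29635 = n29635 := d15_1 D29635 (iv D29635) F107462
theorem F138036 : act 2 n29635 = n26077 := d22_1 D29635 (iv D26077) (iv F107463)
theorem F138037 : act 4 n29635 = n24220 := d33_1 D29635 (iv D24220) (iv F107464)
theorem F138038 : act 6 n29635 = n23920 := d40_1 D29635 (iv D23920) D23919
theorem F138039 : act 7 n29635 = n29635 := d42_1 D29635 (iv D29635) F107465
theorem F138040 : act 9 n29635 = n29635 := d44_2 (iv F107466) D29635 (iv D29635) F107466 F85640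
def n29636 : Q := act 5 n23921
theorem D29636 : act 5 n23921 = n29636 := rfl
theorem F138041 : act 0 n29636 = n23922 := d4_1 D29636 (iv D23922) (iv F107474)
theorem F138042 : act 1 n29636 = n25714 := d12_1 D29636 (iv D25714) (iv F107475)
theorem F138043 : act 2 n29636 = n29636 := d19_1 D29636 (iv D29636) F107476
theorem F138044 : act 6 n29636 = n29636 := d35_2 D23921 D29636 (iv D29636) (iv D23921) F85614
theorem F138045 : act 8 n29636 = n29636 := d37_2 (iv F107477) D29636 (iv D29636) F107477 F85689
def n29637 : Q := act 7 n23921
theorem D29637 : act 7 n23921 = n29637 := rfl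
theorem F138046 : act 0 n29637 = n23923 := d6_1 D29637 (iv D23923) (iv F107474)
theorem F138047 : act 1 n29637 = n25715 := d14_1 D29637 (iv D25715) (iv F107475)
theorem F138048 : act 2 n29637 = n29637 := d21_1 D29637 (iv D29637) F107476
theorem F138049 : act 3 n29637 = n25151 := d27_1 D29637 (iv F135992) F135990
theorem F138050 : act 6 n29637 = n25149 := d39_1 D29637 F113321 (iv F135143) F107384 D23921
theorem F138051 : act 8 n29637 = n23937 := d42_2 (iv F107477) D29637 (iv D23937)
def n29638 : Q := act 4 n23922
theorem D29638 : act 4 n23922 = n29638 := rfl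
theorem F138052 : act 1 n29638 = n23924 := d11_1 D29638 (iv D23924) (iv F107478)
theorem F138053 : act 2 n29638 = n29638 := d18_1 D29638 (iv D29638) F107479
theorem F138054 : act 6 n29638 = n29638 := d31_2 F107480 D29638 (iv D29638)
theorem F138055 : act 8 n29638 = n29638 := d33_2 F107481 D29638 (iv D29638)
def n29639 : Q := act 7 n23922
theorem D29639 : act 7 n23922 = n29639 := rfl
theorem F138056 : act 1 n29639 = n23925 := d14_1 D29639 (iv D23925) (iv F107478)
theorem F138057 : act 2 n29639 = n29639 := d21_1 D29639 (iv D29639) F107479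
theorem F138058 : act 5 n29639 = n23923 := d36_1 D29639 (iv D23923) D23922
theorem F138059 : act 8 n29639 = n29639 := d42_2 F107481 D29639 (iv D29639)
def n29640 : Q := act 3 n23924
theorem D29640 : act 3 n23924 = n29640 := rfl
theorem F138060 : act 0 n29640 = n25718 := d2_1 D29640 (iv D25718) (iv F107485)
theorem F138061 : act 2 n29640 = n24225 := d17_1 D29640 (iv D24225) F86671 (iv F85628) (iv F107486)
theorem F138062 : act 6 n29640 = n29640 := d26_2 F107487 D29640 (iv D29640)
theorem F138063 : act 8 n29640 = n29640 := d28_2 F107488 D29640 (iv D29640)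
def n29641 : Q := act 7 n23924
theorem D29641 : act 7 n23924 = n29641 := rfl
theorem F138064 : act 0 n29641 = n25719 := d6_1 D29641 (iv D25719) (iv F107485)
theorem F138065 : act 2 n29641 = n23926 := d21_1 D29641 (iv D23926) (iv F107486)
theorem F138066 : act 4 n29641 = n23925 := d32_1 D29641 (iv D23925) D23924
theorem F138067 : act 8 n29641 = n29641 := d42_2 F107488 D29641 (iv D29641)
def n29642 : Q := act 6 n23925
theorem D29642 : act 6 n23925 = n29642 := rfl
theorem F138068 : act 0 n29642 = n25720 := d5_1 D29642 (iv D25720) (iv F107489)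
theorem F138069 : act 2 n29642 = n23927 := d20_1 D29642 (iv D23927) (iv F107490)
theorem F138070 : act 7 n29642 = n29642 := d39_2 D23925 D29642 (iv D29642) (iv D23925) F85621
theorem F138071 : act 8 n29642 = n29642 := d40_2 F107492 D29642 (iv D29642)
def n29643 : Q := act 6 n23926
theorem D29643 : act 6 n23926 = n29643 := rfl
theorem F138072 : act 0 n29643 = n25721 := d5_1 D29643 (iv D25721) (iv F107493)
theorem F138073 : act 1 n29643 = n29643 := d13_1 D29643 (iv D29643) F107494
theorem F138074 : act 3 n29643 = n24228 := d26_1 D29643 (iv D24228) (iv F107495)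
theorem F138075 : act 4 n29643 = n23927 := d31_1 D29643 (iv D23927) (iv F107496)
theorem F138076 : act 7 n29643 = n29643 := d39_2 D23926 D29643 (iv D29643) (iv D23926) F85629
theorem F138077 : act 8 n29643 = n29643 := d40_2 F107497 D29643 (iv D29643)
def n29644 : Q := act 2 n23942
theorem D29644 : act 2 n23942 = n29644 := rfl
theorem F138078 : act 0 n29644 = n23977 := d1_1 D29644 (iv D23977) (iv F107585)
theorem F138079 : act 3 n29644 = n29644 := d17_2 D23942 D29644 (iv D29644) (iv D23942) F85720
theorem F138080 : act 4 n29644 = n25474 := d18_2 (iv F107587) D29644 (iv D25474)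
theorem F138081 : act 5 n29644 = n23951 := d19_2 (iv F107588) D29644 (iv D23951)
theorem F138082 : act 7 n29644 = n25098 := d21_2 (iv F107589) D29644 (iv D25098)
theorem F138083 : act 8 n29644 = n24482 := d22_2 (iv F107590) D29644 (iv D24482)
theorem F138084 : act 9 n29644 = n25514 := d23_2 (iv F107591) D29644 (iv D25514)
def n29645 : Q := act 6 n23942
theorem D29645 : act 6 n23942 = n29645 := rfl
theorem F138085 : act 0 n29645 = n23978 := d5_1 D29645 (iv D23978) (iv F107585)
theorem F138086 : act 1 n29645 = n25121 := d13_1 D29645 (iv D25121) (iv F107586)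
theorem F138087 : act 3 n29645 = n23943 := d26_1 D29645 (iv D23943) D23942
theorem F138088 : act 4 n29645 = n25475 := d31_1 D29645 (iv D25475) (iv F107587)
theorem F138089 : act 8 n29645 = n24483 := d40_2 (iv F107590) D29645 (iv D24483)
theorem F138090 : act 9 n29645 = n25515 := d41_2 (iv F107591) D29645 (iv D25515)
def n29646 : Q := act 5 n23943
theorem D29646 : act 5 n23943 = n29646 := rfl
theorem F138091 : act 0 n29646 = n23979 := d4_1 D29646 (iv D23979) (iv F107592)
theorem F138092 : act 1 n29646 = n25122 := d12_1 D29646 (iv D25122) (iv F107593)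
theorem F138093 : act 2 n29646 = n29646 := d19_1 D29646 (iv D29646) F107594
theorem F138094 : act 4 n29646 = n25831 := d30_1 D29646 (iv D25831) F92055 (iv F85729) (iv F107595)
theorem F138095 : act 6 n29646 = n23953 := d35_2 D23943 D29646 (iv D23953) (iv D18933) (iv F85721)
theorem F138096 : act 9 n29646 = n25516 := d38_2 (iv F107597) D29646 (iv D25516)
def n29647 : Q := act 7 n23943
theorem D29647 : act 7 n23943 = n29647 := rfl
theorem F138097 : act 0 n29647 = n23980 := d6_1 D29647 (iv D23980) (iv F107592)
theorem F138098 : act 1 n29647 = n25123 := d14_1 D29647 (iv D25123) (iv F107593)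
theorem F138099 : act 2 n29647 = n29647 := d21_1 D29647 (iv D29647) F107594
theorem F138100 : act 4 n29647 = n23944 := d32_1 D29647 (iv D23944) (iv F107595)
theorem F138101 : act 6 n29647 = n25101 := d39_1 D29647 (iv D25101) (iv D19826) (iv F85722) D23943
theorem F138102 : act 8 n29647 = n24485 := d42_2 (iv F107596) D29647 (iv D24485)
theorem F138103 : act 9 n29647 = n25517 := d43_2 (iv F107597) D29647 (iv D25517)
def n29648 : Q := act 2 n23945
theorem D29648 : act 2 n23945 = n29648 := rfl
theorem F138104 : act 0 n29648 = n23984 := d1_1 D29648 (iv D23984) (iv F107606)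
theorem F138105 : act 3 n29648 = n29648 := d17_2 D23945 D29648 (iv D29648) (iv D23945) F85734
theorem F138106 : act 4 n29648 = n24653 := d18_2 (iv F107608) D29648 F134838
theorem F138107 : act 5 n29648 = n25098 := d19_2 (iv F107609) D29648 (iv D25098)
theorem F138108 : act 7 n29648 = n23951 := d21_2 (iv F107610) D29648 (iv D23951)
theorem F138109 : act 8 n29648 = n23955 := d22_2 (iv F107611) D29648 (iv D23955)
theorem F138110 : act 9 n29648 = n24650 := d23_2 (iv F107612) D29648 F134828
def n29649 : Q := act 6 n23945
theorem D29649 : act 6 n23945 = n29649 := rfl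
theorem F138111 : act 0 n29649 = n23985 := d5_1 D29649 (iv D23985) (iv F107606)
theorem F138112 : act 1 n29649 = n25117 := d13_1 D29649 (iv D25117) (iv F107607)
theorem F138113 : act 3 n29649 = n23946 := d26_1 D29649 (iv D23946) D23945
theorem F138114 : act 4 n29649 = n25727 := d31_1 D29649 (iv D25727) (iv F107608)
theorem F138115 : act 8 n29649 = n23956 := d40_2 (iv F107611) D29649 (iv D23956)
theorem F138116 : act 9 n29649 = n25227 := d41_2 (iv F107612) D29649 (iv D25227)
def n29650 : Q := act 5 n23946
theorem D29650 : act 5 n23946 = n29650 := rfl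
theorem F138117 : act 0 n29650 = n23986 := d4_1 D29650 (iv D23986) (iv F107613)
theorem F138118 : act 1 n29650 = n25118 := d12_1 D29650 (iv D25118) (iv F107614)
theorem F138119 : act 2 n29650 = n29650 := d19_1 D29650 (iv D29650) F107615
theorem F138120 : act 4 n29650 = n25247 := d30_1 D29650 (iv D25247) F90451 (iv F85743) (iv F107616)
theorem F138121 : act 6 n29650 = n25100 := d35_2 D23946 D29650 (iv D25100) (iv D19826) (iv F85735)
theorem F138122 : act 9 n29650 = n25228 := d38_2 (iv F107618) D29650 (iv D25228)
def n29651 : Q := act 7 n23946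
theorem D29651 : act 7 n23946 = n29651 := rfl
theorem F138123 : act 0 n29651 = n23987 := d6_1 D29651 (iv D23987) (iv F107613)
theorem F138124 : act 1 n29651 = n25119 := d14_1 D29651 (iv D25119) (iv F107614)
theorem F138125 : act 2 n29651 = n29651 := d21_1 D29651 (iv D29651) F107615
theorem F138126 : act 4 n29651 = n23947 := d32_1 D29651 (iv D23947) (iv F107616)
theorem F138127 : act 6 n29651 = n23954 := d39_1 D29651 (iv D23954) (iv D18933) (iv F85736) D23946
theorem F138128 : act 8 n29651 = n23958 := d42_2 (iv F107617) D29651 (iv D23958)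
theorem F138129 : act 9 n29651 = n25229 := d43_2 (iv F107618) D29651 (iv D25229)
def n29652 : Q := act 2 n23948
theorem D29652 : act 2 n23948 = n29652 := rfl
theorem F138130 : act 0 n29652 = n23988 := d1_1 D29652 (iv D23988) (iv F107627)
theorem F138131 : act 3 n29652 = n29652 := d17_2 D23948 D29652 (iv D29652) (iv D23948) F85748
theorem F138132 : act 4 n29652 = n24652 := d18_2 (iv F107629) D29652 F133797
theorem F138133 : act 5 n29652 = n25514 := d19_2 (iv F107630) D29652 (iv D25514)
theorem F138134 : act 7 n29652 = n24650 := d21_2 (iv F107631) D29652 F134828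
theorem F138135 : act 8 n29652 = n24246 := d22_2 (iv F107632) D29652 (iv D24246)
theorem F138136 : act 9 n29652 = n23951 := d23_2 (iv F107633) D29652 (iv D23951)
def n29653 : Q := act 6 n23948
theorem D29653 : act 6 n23948 = n29653 := rfl
theorem F138137 : act 0 n29653 = n23989 := d5_1 D29653 (iv D23989) (iv F107627)
theorem F138138 : act 1 n29653 = n25727 := d13_1 D29653 (iv D25727) (iv F107628)
theorem F138139 : act 3 n29653 = n23949 := d26_1 D29653 (iv D23949) D23948
theorem F138140 : act 4 n29653 = n25117 := d31_1 D29653 (iv D25117) (iv F107629)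
theorem F138141 : act 8 n29653 = n24247 := d40_2 (iv F107632) D29653 (iv D24247)
theorem F138142 : act 9 n29653 = n23952 := d41_2 (iv F107633) D29653 (iv D23952)
def n29654 : Q := act 5 n23949
theorem D29654 : act 5 n23949 = n29654 := rfl
theorem F138143 : act 0 n29654 = n23990 := d4_1 D29654 (iv D23990) (iv F107634)
theorem F138144 : act 1 n29654 = n25728 := d12_1 D29654 (iv D25728) (iv F107635)
theorem F138145 : act 2 n29654 = n29654 := d19_1 D29654 (iv D29654) F107636
theorem F138146 : act 4 n29654 = n25277 := d30_1 D29654 (iv D25277) F90533 (iv F85757) (iv F107637)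
theorem F138147 : act 6 n29654 = n25516 := d35_2 D23949 D29654 (iv D25516) (iv D20138) (iv F85749)
theorem F138148 : act 9 n29654 = n23953 := d38_2 (iv F107639) D29654 (iv D23953)
def n29655 : Q := act 7 n23949
theorem D29655 : act 7 n23949 = n29655 := rfl
theorem F138149 : act 0 n29655 = n23991 := d6_1 D29655 (iv D23991) (iv F107634)
theorem F138150 : act 1 n29655 = n25729 := d14_1 D29655 (iv D25729) (iv F107635)
theorem F138151 : act 2 n29655 = n29655 := d21_1 D29655 (iv D29655) F107636
theorem F138152 : act 4 n29655 = n23950 := d32_1 D29655 (iv D23950) (iv F107637)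
theorem F138153 : act 6 n29655 = n25229 := d39_1 D29655 (iv D25229) (iv D19925) (iv F85750) D23949
theorem F138154 : act 8 n29655 = n24249 := d42_2 (iv F107638) D29655 (iv D24249)
theorem F138155 : act 9 n29655 = n23954 := d43_2 (iv F107639) D29655 (iv D23954)
def n29656 : Q := act 1 n23951
theorem D29656 : act 1 n23951 = n29656 := rfl
theorem F138156 : act 2 n29656 = n24562 := d9_2 D23951 D29656 F110554 F134183 (iv F85761)
theorem F138157 : act 3 n29656 = n29656 := d10_2 F107649 D29656 (iv D29656)
theorem F138158 : act 8 n29656 = n23959 := d15_2 (iv F107650) D29656 (iv D23959)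
def n29657 : Q := act 6 n23951
theorem D29657 : act 6 n23951 = n29657 := rfl
theorem F138159 : act 0 n29657 = n23993 := d5_1 D29657 (iv D23993) (iv F107648)
theorem F138160 : act 2 n29657 = n23952 := d20_1 D29657 (iv D23952) D23951
theorem F138161 : act 3 n29657 = n29657 := d26_1 D29657 (iv D29657) F107649
theorem F138162 : act 8 n29657 = n23960 := d40_2 (iv F107650) D29657 (iv D23960)
def n29658 : Q := act 5 n23952
theorem D29658 : act 5 n23952 = n29658 := rfl
theorem F138163 : act 0 n29658 = n23994 := d4_1 D29658 (iv D23994) (iv F107651)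
theorem F138164 : act 1 n29658 = n25732 := d12_1 D29658 (iv D25732) (iv F107652)
theorem F138165 : act 3 n29658 = n23953 := d25_1 D29658 (iv D23953) (iv F107653)
def n29659 : Q := act 7 n23952
theorem D29659 : act 7 n23952 = n29659 := rfl
theorem F138166 : act 0 n29659 = n23995 := d6_1 D29659 (iv D23995) (iv F107651)
theorem F138167 : act 1 n29659 = n25733 := d14_1 D29659 (iv D25733) (iv F107652)
theorem F138168 : act 3 n29659 = n23954 := d27_1 D29659 (iv D23954) (iv F107653)
theorem F138169 : act 8 n29659 = n23962 := d42_2 (iv F107654) D29659 (iv D23962)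
def n29660 : Q := act 7 n23953
theorem D29660 : act 7 n23953 = n29660 := rfl
theorem F138170 : act 0 n29660 = n23996 := d6_1 D29660 (iv D23996) (iv F107655)
theorem F138171 : act 1 n29660 = n25734 := d14_1 D29660 (iv D25734) (iv F107656)
theorem F138172 : act 2 n29660 = n29660 := d21_1 D29660 (iv D29660) F107657
theorem F138173 : act 5 n29660 = n23954 := d36_1 D29660 (iv D23954) D23953
def n29661 : Q := act 8 n23953
theorem D29661 : act 8 n23953 = n29661 := rfl
theorem F138174 : act 0 n29661 = n23997 := d7_1 D29661 (iv D23997) (iv F107655)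
theorem F138175 : act 1 n29661 = n24133 := d15_1 D29661 F134720 (iv F107656)
theorem F138176 : act 2 n29661 = n29661 := d22_1 D29661 (iv D29661) F107657
theorem F138177 : act 5 n29661 = n23964 := d37_1 D29661 (iv D23964) (iv D18940) (iv F85767) D23953
theorem F138178 : act 9 n25327 = n29661 := d38_0 F138177 F133594 D25327
def n29662 : Q := act 1 n23955
theorem D29662 : act 1 n23955 = n29662 := rfl
theorem F138179 : act 0 n29662 = n24567 := d0_1 D29662 F110574 (iv F133626) (iv D23998) (iv F107663)
theorem F138180 : act 2 n29662 = n24561 := d9_2 D23955 D29662 F110550 (iv F133281) (iv F85773)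
theorem F138181 : act 3 n29662 = n29662 := d10_2 F107664 D29662 (iv D29662)
theorem F138182 : act 4 n29662 = n24890 := d11_2 (iv F134401) D29662 F112079
theorem F138183 : act 5 n29662 = n24496 := d12_2 (iv F107666) D29662 (iv D24496)
theorem F138184 : act 7 n29662 = n23959 := d14_2 (iv F107667) D29662 (iv D23959)
theorem F138185 : act 9 n29662 = n24256 := d16_2 (iv F107668) D29662 (iv D24256)
def n29663 : Q := act 6 n23955
theorem D29663 : act 6 n23955 = n29663 := rfl
theorem F138186 : act 0 n29663 = n23999 := d5_1 D29663 (iv D23999) (iv F107663)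
theorem F138187 : act 2 n29663 = n23956 := d20_1 D29663 (iv D23956) D23955
theorem F138188 : act 3 n29663 = n29663 := d26_1 D29663 (iv D29663) F107664
theorem F138189 : act 4 n29663 = n24363 := d31_1 D29663 F109569 (iv F134401)
theorem F138190 : act 9 n29663 = n24257 := d41_2 (iv F107668) D29663 (iv D24257)
def n29664 : Q := act 5 n23956
theorem D29664 : act 5 n23956 = n29664 := rfl
theorem F138191 : act 0 n29664 = n24000 := d4_1 D29664 (iv D24000) (iv F107669)
theorem F138192 : act 1 n29664 = n24663 := d12_1 D29664 F133802 (iv F107670)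
theorem F138193 : act 3 n29664 = n23957 := d25_1 D29664 (iv D23957) (iv F107671)
theorem F138194 : act 6 n29664 = n24498 := d35_2 D23956 D29664 (iv D24498) (iv D19347) (iv F85775)
theorem F138195 : act 9 n29664 = n24258 := d38_2 (iv F107673) D29664 (iv D24258)
def n29665 : Q := act 7 n23956
theorem D29665 : act 7 n23956 = n29665 := rfl
theorem F138196 : act 0 n29665 = n24001 := d6_1 D29665 (iv D24001) (iv F107669)
theorem F138197 : act 1 n29665 = n25739 := d14_1 D29665 (iv D25739) (iv F107670)
theorem F138198 : act 3 n29665 = n23958 := d27_1 D29665 (iv D23958) (iv F107671)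
theorem F138199 : act 4 n29665 = n26134 := d32_1 D29665 (iv D26134) (iv F107672)
theorem F138200 : act 6 n29665 = n23962 := d39_1 D29665 (iv D23962) (iv D18939) (iv F85776) D23956
theorem F138201 : act 9 n29665 = n24259 := d43_2 (iv F107673) D29665 (iv D24259)
def n29666 : Q := act 7 n23957
theorem D29666 : act 7 n23957 = n29666 := rfl
theorem F138202 : act 0 n29666 = n24002 := d6_1 D29666 (iv D24002) (iv F107674)
theorem F138203 : act 1 n29666 = n24181 := d14_1 D29666 F108668 (iv F133768)
theorem F138204 : act 2 n29666 = n29666 := d21_1 D29666 (iv D29666) F107676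
theorem F138205 : act 4 n29666 = n29666 := d32_1 D29666 (iv D29666) F107677
theorem F138206 : act 5 n29666 = n23958 := d36_1 D29666 (iv D23958) D23957
theorem F138207 : act 6 n29666 = n24179 := d39_1 D29666 (iv D24179) F86473 F133546 (iv F107678)
theorem F138208 : act 9 n29666 = n24260 := d43_2 (iv F107679) D29666 (iv D24260)
def n29667 : Q := act 8 n23957
theorem D29667 : act 8 n23957 = n29667 := rfl
theorem F138209 : act 0 n29667 = n24003 := d7_1 D29667 (iv D24003) (iv F107674)
theorem F138210 : act 1 n29667 = n24777 := d15_1 D29667 (iv D24777) (iv F133768)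
theorem F138211 : act 2 n29667 = n29667 := d22_1 D29667 (iv D29667) F107676
theorem F138212 : act 4 n29667 = n29667 := d33_1 D29667 (iv D29667) F107677
theorem F138213 : act 6 n29667 = n24501 := d40_1 D29667 (iv D24501) (iv F107678)
def n29668 : Q := act 0 n23959
theorem D29668 : act 0 n23959 = n29668 := rfl
theorem F138214 : act 1 n29668 = n24004 := d0_2 D23959 D29668 (iv D24004) (iv D18969) (iv F85790)
theorem F138215 : act 2 n29668 = n24498 := d1_2 (iv F134824) D29668 F110230
theorem F138216 : act 3 n29668 = n29668 := d2_2 F107687 D29668 (iv D29668)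
theorem F138217 : act 4 n29668 = n24938 := d3_2 F136053 D29668 (iv F136050)
theorem F138218 : act 5 n29668 = n24497 := d4_2 (iv F107688) D29668 (iv F134314)
theorem F138219 : act 7 n29668 = n24567 := d6_2 F138184 D29668 (iv F138179)
theorem F138220 : act 9 n29668 = n24262 := d8_2 (iv F107689) D29668 (iv D24262)
def n29669 : Q := act 6 n23959
theorem D29669 : act 6 n23959 = n29669 := rfl
theorem F138221 : act 1 n29669 = n23960 := d13_1 D29669 (iv D23960) D23959
theorem F138222 : act 2 n29669 = n24000 := d20_1 D29669 F107883 (iv F134824)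
theorem F138223 : act 3 n29669 = n29669 := d26_1 D29669 (iv D29669) F107687
theorem F138224 : act 5 n29669 = n23999 := d35_1 D29669 (iv D23999) F85921 (iv F134316) (iv F107688)
theorem F138225 : act 9 n29669 = n24263 := d41_2 (iv F107689) D29669 (iv D24263)
def n29670 : Q := act 5 n23960
theorem D29670 : act 5 n23960 = n29670 := rfl
theorem F138226 : act 0 n29670 = n24006 := d4_1 D29670 (iv D24006) (iv F107690)
theorem F138227 : act 1 n29670 = n23999 := d12_1 D29670 (iv F138224) F138221
theorem F138228 : act 2 n29670 = n23961 := d19_1 D29670 (iv D23961) (iv F107691)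
theorem F138229 : act 3 n29670 = n29670 := d25_1 D29670 (iv D29670) F107692
theorem F138230 : act 6 n29670 = n23998 := d35_2 D23960 D29670 F133627 (iv D19351) (iv F85792)
theorem F138231 : act 9 n29670 = n24264 := d38_2 (iv F107693) D29670 (iv D24264)
theorem F138232 : act 4 n26179 = n29670 := d34_3 F138231 (iv F134172) (iv F117141)
def n29671 : Q := act 7 n23960
theorem D29671 : act 7 n23960 = n29671 := rfl
theorem F138233 : act 0 n29671 = n24007 := d6_1 D29671 (iv D24007) (iv F107690)
theorem F138234 : act 2 n29671 = n23962 := d21_1 D29671 (iv D23962) (iv F107691)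
theorem F138235 : act 3 n29671 = n29671 := d27_1 D29671 (iv D29671) F107692
theorem F138236 : act 9 n29671 = n24265 := d43_2 (iv F107693) D29671 (iv D24265)
def n29672 : Q := act 7 n23961
theorem D29672 : act 7 n23961 = n29672 := rfl
theorem F138237 : act 0 n29672 = n24009 := d6_1 D29672 (iv D24009) (iv F107694)
theorem F138238 : act 1 n29672 = n24071 := d14_1 D29672 (iv D24071) F134134
theorem F138239 : act 3 n29672 = n23963 := d27_1 D29672 (iv D23963) (iv F107696)
theorem F138240 : act 4 n29672 = n26245 := d32_1 D29672 (iv D26245) (iv F133590)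
theorem F138241 : act 5 n29672 = n23962 := d36_1 D29672 (iv D23962) D23961
theorem F138242 : act 6 n29672 = n24080 := d39_1 D29672 (iv D24080) (iv D19020) (iv F86123) (iv F133591)
theorem F138243 : act 9 n29672 = n24267 := d43_2 (iv F107698) D29672 (iv D24267)
def n29673 : Q := act 8 n23961
theorem D29673 : act 8 n23961 = n29673 := rfl
theorem F138244 : act 0 n29673 = n24010 := d7_1 D29673 (iv D24010) (iv F107694)
theorem F138245 : act 1 n29673 = n24047 := d15_1 D29673 F108082 F134134
theorem F138246 : act 3 n29673 = n23964 := d28_1 D29673 (iv D23964) (iv F107696)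
theorem F138247 : act 4 n29673 = n25878 := d33_1 D29673 F116058 (iv F133590)
theorem F138248 : act 6 n29673 = n24046 := d40_1 D29673 F108076 (iv F133591)
theorem F138249 : act 9 n29673 = n25286 := d44_2 (iv F107698) D29673 F113861 F90570 F133266
def n29674 : Q := act 8 n23963
theorem D29674 : act 8 n23963 = n29674 := rfl
theorem F138250 : act 0 n29674 = n24012 := d7_1 D29674 (iv D24012) (iv F107703)
theorem F138251 : act 1 n29674 = n24134 := d15_1 D29674 F108464 F134137
theorem F138252 : act 2 n29674 = n29674 := d22_1 D29674 (iv D29674) F107705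
theorem F138253 : act 4 n29674 = n23972 := d33_1 D29674 (iv D23972) (iv F107706)
theorem F138254 : act 6 n29674 = n24153 := d40_1 D29674 F108546 (iv F133592)
theorem F138255 : act 7 n29674 = n23964 := d42_1 D29674 (iv D23964) D23963
theorem F138256 : act 9 n29674 = n25328 := d44_2 (iv F107708) D29674 F113994 F90680 F133271
def n29675 : Q := act 2 n23974
theorem D29675 : act 2 n23974 = n29675 := rfl
theorem F138257 : act 0 n29675 = n25098 := d1_1 D29675 (iv D25098) (iv F107761)
theorem F138258 : act 3 n29675 = n29675 := d17_2 D23974 D29675 (iv D29675) (iv D23974) F85840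
theorem F138259 : act 4 n29675 = n25451 := d18_2 (iv F107763) D29675 (iv D25451)
theorem F138260 : act 5 n29675 = n23984 := d19_2 (iv F107764) D29675 (iv D23984)
theorem F138261 : act 7 n29675 = n23977 := d21_2 (iv F107765) D29675 (iv D23977)
theorem F138262 : act 8 n29675 = n24526 := d22_2 (iv F107766) D29675 (iv D24526)
theorem F138263 : act 9 n29675 = n25245 := d23_2 (iv F107767) D29675 (iv D25245)
def n29676 : Q := act 6 n23974
theorem D29676 : act 6 n23974 = n29676 := rfl
theorem F138264 : act 0 n29676 = n25099 := d5_1 D29676 (iv D25099) (iv F107761)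
theorem F138265 : act 1 n29676 = n24029 := d13_1 D29676 (iv D24029) (iv F107762)
theorem F138266 : act 3 n29676 = n23975 := d26_1 D29676 (iv D23975) D23974
theorem F138267 : act 4 n29676 = n25452 := d31_1 D29676 (iv D25452) (iv F107763)
theorem F138268 : act 8 n29676 = n24527 := d40_2 (iv F107766) D29676 (iv D24527)
theorem F138269 : act 9 n29676 = n25246 := d41_2 (iv F107767) D29676 (iv D25246)
def n29677 : Q := act 5 n23975
theorem D29677 : act 5 n23975 = n29677 := rfl
theorem F138270 : act 0 n29677 = n25100 := d4_1 D29677 (iv D25100) (iv F107768)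
theorem F138271 : act 1 n29677 = n24030 := d12_1 D29677 (iv D24030) (iv F107769)
theorem F138272 : act 2 n29677 = n29677 := d19_1 D29677 (iv D29677) F107770
theorem F138273 : act 4 n29677 = n25228 := d30_1 D29677 (iv D25228) F90395 (iv F85849) (iv F107771)
theorem F138274 : act 6 n29677 = n23986 := d35_2 D23975 D29677 (iv D23986) (iv D18956) (iv F85841)
theorem F138275 : act 9 n29677 = n25247 := d38_2 (iv F107773) D29677 (iv D25247)
def n29678 : Q := act 7 n23975
theorem D29678 : act 7 n23975 = n29678 := rfl
theorem F138276 : act 0 n29678 = n25101 := d6_1 D29678 (iv D25101) (iv F107768)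
theorem F138277 : act 1 n29678 = n24031 := d14_1 D29678 (iv D24031) (iv F107769)
theorem F138278 : act 2 n29678 = n29678 := d21_1 D29678 (iv D29678) F107770
theorem F138279 : act 4 n29678 = n23976 := d32_1 D29678 (iv D23976) (iv F107771)
theorem F138280 : act 6 n29678 = n23980 := d39_1 D29678 (iv D23980) (iv D18951) (iv F85842) D23975
theorem F138281 : act 8 n29678 = n24529 := d42_2 (iv F107772) D29678 (iv D24529)
theorem F138282 : act 9 n29678 = n25248 := d43_2 (iv F107773) D29678 (iv D25248)
def n29679 : Q := act 1 n23977
theorem D29679 : act 1 n23977 = n29679 := rfl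
theorem F138283 : act 2 n29679 = n24036 := d9_2 D23977 D29679 (iv D24036) (iv D18992) (iv F85852)
theorem F138284 : act 3 n29679 = n29679 := d10_2 F107782 D29679 (iv D29679)
theorem F138285 : act 5 n29679 = n23992 := d12_2 (iv F107783) D29679 (iv D23992)
theorem F138286 : act 8 n29679 = n24530 := d15_2 (iv F107784) D29679 (iv D24530)
theorem F138287 : act 9 n29679 = n26636 := d16_2 F137091 D29679 (iv F137085)
def n29680 : Q := act 6 n23977
theorem D29680 : act 6 n23977 = n29680 := rfl
theorem F138288 : act 2 n29680 = n23978 := d20_1 D29680 (iv D23978) D23977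
theorem F138289 : act 3 n29680 = n29680 := d26_1 D29680 (iv D29680) F107782
theorem F138290 : act 8 n29680 = n24531 := d40_2 (iv F107784) D29680 (iv D24531)
def n29681 : Q := act 5 n23978
theorem D29681 : act 5 n23978 = n29681 := rfl
theorem F138291 : act 1 n29681 = n24038 := d12_1 D29681 (iv D24038) (iv F107785)
theorem F138292 : act 3 n29681 = n23979 := d25_1 D29681 (iv D23979) (iv F107786)
theorem F138293 : act 6 n29681 = n23994 := d35_2 D23978 D29681 (iv D23994) (iv D18962) (iv F85853)
def n29682 : Q := act 7 n23978
theorem D29682 : act 7 n23978 = n29682 := rfl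
theorem F138294 : act 1 n29682 = n24039 := d14_1 D29682 (iv D24039) (iv F107785)
theorem F138295 : act 3 n29682 = n23980 := d27_1 D29682 (iv D23980) (iv F107786)
theorem F138296 : act 8 n29682 = n24533 := d42_2 (iv F107787) D29682 (iv D24533)
def n29683 : Q := act 7 n23979
theorem D29683 : act 7 n23979 = n29683 := rfl
theorem F138297 : act 1 n29683 = n24040 := d14_1 D29683 (iv D24040) (iv F107788)
theorem F138298 : act 2 n29683 = n29683 := d21_1 D29683 (iv D29683) F107789
theorem F138299 : act 5 n29683 = n23980 := d36_1 D29683 (iv D23980) D23979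
def n29684 : Q := act 8 n23979
theorem D29684 : act 8 n23979 = n29684 := rfl
theorem F138300 : act 1 n29684 = n24041 := d15_1 D29684 (iv D24041) (iv F107788)
theorem F138301 : act 2 n29684 = n29684 := d22_1 D29684 (iv D29684) F107789
theorem F138302 : act 5 n29684 = n24535 := d37_1 D29684 (iv D24535) (iv D19373) (iv F85858) D23979
theorem F138303 : act 6 n29684 = n23997 := d40_1 D29684 (iv D23997) (iv F107790)
def n29685 : Q := act 2 n23981
theorem D29685 : act 2 n23981 = n29685 := rfl
theorem F138304 : act 0 n29685 = n25245 := d1_1 D29685 (iv D25245) (iv F107795)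
theorem F138305 : act 3 n29685 = n29685 := d17_2 D23981 D29685 (iv D29685) (iv D23981) F85864
theorem F138306 : act 4 n29685 = n25478 := d18_2 (iv F107797) D29685 (iv D25478)
theorem F138307 : act 5 n29685 = n24650 := d19_2 (iv F107798) D29685 F134828
theorem F138308 : act 7 n29685 = n25514 := d21_2 (iv F107799) D29685 (iv D25514)
theorem F138309 : act 8 n29685 = n29685 := d22_2 F107800 D29685 (iv D29685)
theorem F138310 : act 9 n29685 = n25098 := d23_2 (iv F107801) D29685 (iv D25098)
def n29686 : Q := act 6 n23981
theorem D29686 : act 6 n23981 = n29686 := rfl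
theorem F138311 : act 0 n29686 = n25246 := d5_1 D29686 (iv D25246) (iv F107795)
theorem F138312 : act 1 n29686 = n24043 := d13_1 D29686 (iv D24043) (iv F107796)
theorem F138313 : act 3 n29686 = n23982 := d26_1 D29686 (iv D23982) D23981
theorem F138314 : act 4 n29686 = n25479 := d31_1 D29686 (iv D25479) (iv F107797)
theorem F138315 : act 8 n29686 = n29686 := d40_2 F107800 D29686 (iv D29686)
theorem F138316 : act 9 n29686 = n25099 := d41_2 (iv F107801) D29686 (iv D25099)
def n29687 : Q := act 5 n23982
theorem D29687 : act 5 n23982 = n29687 := rfl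
theorem F138317 : act 0 n29687 = n25247 := d4_1 D29687 (iv D25247) (iv F107802)
theorem F138318 : act 1 n29687 = n24044 := d12_1 D29687 (iv D24044) (iv F107803)
theorem F138319 : act 2 n29687 = n29687 := d19_1 D29687 (iv D29687) F107804
theorem F138320 : act 4 n29687 = n23986 := d30_1 D29687 (iv D23986) F85883 (iv F85873) (iv F107805)
theorem F138321 : act 6 n29687 = n25228 := d35_2 D23982 D29687 (iv D25228) (iv D19925) (iv F85865)
theorem F138322 : act 9 n29687 = n25100 := d38_2 (iv F107807) D29687 (iv D25100)
def n29688 : Q := act 7 n23982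
theorem D29688 : act 7 n23982 = n29688 := rfl
theorem F138323 : act 0 n29688 = n25248 := d6_1 D29688 (iv D25248) (iv F107802)
theorem F138324 : act 1 n29688 = n24045 := d14_1 D29688 (iv D24045) (iv F107803)
theorem F138325 : act 2 n29688 = n29688 := d21_1 D29688 (iv D29688) F107804
theorem F138326 : act 4 n29688 = n23983 := d32_1 D29688 (iv D23983) (iv F107805)
theorem F138327 : act 6 n29688 = n25517 := d39_1 D29688 (iv D25517) (iv D20138) (iv F85866) D23982
theorem F138328 : act 8 n29688 = n29688 := d42_2 F107806 D29688 (iv D29688)
theorem F138329 : act 9 n29688 = n25101 := d43_2 (iv F107807) D29688 (iv D25101)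
def n29689 : Q := act 1 n23984
theorem D29689 : act 1 n23984 = n29689 := rfl
theorem F138330 : act 2 n29689 = n24046 := d9_2 D23984 D29689 (iv D24046) (iv D18999) (iv F85876)
theorem F138331 : act 3 n29689 = n29689 := d10_2 F107816 D29689 (iv D29689)
theorem F138332 : act 4 n29689 = n25776 := d11_2 (iv F107817) D29689 (iv D25776)
theorem F138333 : act 7 n29689 = n23992 := d14_2 (iv F107818) D29689 (iv D23992)
theorem F138334 : act 8 n29689 = n23998 := d15_2 (iv F107819) D29689 (iv D23998)
theorem F138335 : act 9 n29689 = n25249 := d16_2 (iv F107820) D29689 (iv D25249)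
theorem F138336 : act 0 n24571 = n29689 := d7_3 F138334 F133626 D24571
def n29690 : Q := act 6 n23984
theorem D29690 : act 6 n23984 = n29690 := rfl
theorem F138337 : act 2 n29690 = n23985 := d20_1 D29690 (iv D23985) D23984
theorem F138338 : act 3 n29690 = n29690 := d26_1 D29690 (iv D29690) F107816
theorem F138339 : act 4 n29690 = n25777 := d31_1 D29690 (iv D25777) (iv F107817)
theorem F138340 : act 8 n29690 = n23999 := d40_2 (iv F107819) D29690 (iv D23999)
theorem F138341 : act 9 n29690 = n25250 := d41_2 (iv F107820) D29690 (iv D25250)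
def n29691 : Q := act 5 n23985
theorem D29691 : act 5 n23985 = n29691 := rfl
theorem F138342 : act 1 n29691 = n24048 := d12_1 D29691 (iv D24048) (iv F107821)
theorem F138343 : act 3 n29691 = n23986 := d25_1 D29691 (iv D23986) (iv F107822)
theorem F138344 : act 9 n29691 = n25251 := d38_2 (iv F107825) D29691 (iv D25251)
def n29692 : Q := act 7 n23985
theorem D29692 : act 7 n23985 = n29692 := rfl
theorem F138345 : act 1 n29692 = n24049 := d14_1 D29692 (iv D24049) (iv F107821)
theorem F138346 : act 3 n29692 = n23987 := d27_1 D29692 (iv D23987) (iv F107822)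
theorem F138347 : act 4 n29692 = n25779 := d32_1 D29692 (iv D25779) (iv F107823)
theorem F138348 : act 6 n29692 = n23995 := d39_1 D29692 (iv D23995) (iv D18962) (iv F85878) D23985
theorem F138349 : act 8 n29692 = n24001 := d42_2 (iv F107824) D29692 (iv D24001)
theorem F138350 : act 9 n29692 = n25252 := d43_2 (iv F107825) D29692 (iv D25252)
def n29693 : Q := act 7 n23986
theorem D29693 : act 7 n23986 = n29693 := rfl
theorem F138351 : act 1 n29693 = n24050 := d14_1 D29693 (iv D24050) (iv F107826)
theorem F138352 : act 2 n29693 = n29693 := d21_1 D29693 (iv D29693) F107827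
theorem F138353 : act 5 n29693 = n23987 := d36_1 D29693 (iv D23987) D23986
theorem F138354 : act 9 n29693 = n25253 := d43_2 (iv F107828) D29693 (iv D25253)
def n29694 : Q := act 8 n23986
theorem D29694 : act 8 n23986 = n29694 := rfl
theorem F138355 : act 1 n29694 = n24051 := d15_1 D29694 (iv D24051) (iv F107826)
theorem F138356 : act 2 n29694 = n29694 := d22_1 D29694 (iv D29694) F107827
theorem F138357 : act 5 n29694 = n24003 := d37_1 D29694 (iv D24003) (iv D18967) (iv F85884) D23986
def n29695 : Q := act 6 n23988
theorem D29695 : act 6 n23988 = n29695 := rfl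
theorem F138358 : act 1 n29695 = n25919 := d13_1 D29695 F116178 (iv F133581)
theorem F138359 : act 2 n29695 = n23989 := d20_1 D29695 (iv D23989) D23988
theorem F138360 : act 3 n29695 = n29695 := d26_1 D29695 (iv D29695) F107835
theorem F138361 : act 4 n29695 = n25771 := d31_1 D29695 (iv D25771) (iv F107836)
theorem F138362 : act 8 n29695 = n24281 := d40_2 (iv F107838) D29695 (iv D24281)
theorem F138363 : act 9 n29695 = n23993 := d41_2 (iv F107839) D29695 (iv D23993)
def n29696 : Q := act 5 n23989
theorem D29696 : act 5 n23989 = n29696 := rfl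
theorem F138364 : act 1 n29696 = n24054 := d12_1 D29696 (iv D24054) (iv F107840)
theorem F138365 : act 3 n29696 = n23990 := d25_1 D29696 (iv D23990) (iv F107841)
theorem F138366 : act 9 n29696 = n23994 := d38_2 (iv F107844) D29696 (iv D23994)
def n29697 : Q := act 7 n23989
theorem D29697 : act 7 n23989 = n29697 := rfl
theorem F138367 : act 1 n29697 = n24055 := d14_1 D29697 (iv D24055) (iv F107840)
theorem F138368 : act 3 n29697 = n23991 := d27_1 D29697 (iv D23991) (iv F107841)
theorem F138369 : act 4 n29697 = n25773 := d32_1 D29697 (iv D25773) (iv F107842)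
theorem F138370 : act 6 n29697 = n25252 := d39_1 D29697 (iv D25252) (iv D19941) (iv F85894) D23989
theorem F138371 : act 8 n29697 = n24283 := d42_2 (iv F107843) D29697 (iv D24283)
theorem F138372 : act 9 n29697 = n23995 := d43_2 (iv F107844) D29697 (iv D23995)
def n29698 : Q := act 7 n23990
theorem D29698 : act 7 n23990 = n29698 := rfl
theorem F138373 : act 1 n29698 = n24056 := d14_1 D29698 (iv D24056) (iv F107845)
theorem F138374 : act 2 n29698 = n29698 := d21_1 D29698 (iv D29698) F107846
theorem F138375 : act 5 n29698 = n23991 := d36_1 D29698 (iv D23991) D23990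
theorem F138376 : act 9 n29698 = n23996 := d43_2 (iv F107847) D29698 (iv D23996)
def n29699 : Q := act 8 n23990
theorem D29699 : act 8 n23990 = n29699 := rfl
theorem F138377 : act 1 n29699 = n24057 := d15_1 D29699 (iv D24057) (iv F107845)
theorem F138378 : act 2 n29699 = n29699 := d22_1 D29699 (iv D29699) F107846
theorem F138379 : act 5 n29699 = n24285 := d37_1 D29699 (iv D24285) (iv D19176) (iv F85900) D23990
def n29700 : Q := act 0 n23992
theorem D29700 : act 0 n23992 = n29700 := rfl
theorem F138380 : act 2 n29700 = n24058 := d1_2 (iv F107854) D29700 (iv D24058)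
theorem F138381 : act 3 n29700 = n29700 := d2_2 F107855 D29700 (iv D29700)
theorem F138382 : act 4 n29700 = n24665 := d3_2 (iv F135014) D29700 F110989
theorem F138383 : act 7 n29700 = n24571 := d6_2 F138333 D29700 F138336
theorem F138384 : act 8 n29700 = n24004 := d7_2 (iv F107856) D29700 (iv D24004)
theorem F138385 : act 9 n29700 = n24662 := d8_2 (iv F135015) D29700 F110977
def n29701 : Q := act 6 n23992
theorem D29701 : act 6 n23992 = n29701 := rfl
theorem F138386 : act 1 n29701 = n23993 := d13_1 D29701 (iv D23993) D23992
theorem F138387 : act 2 n29701 = n24059 := d20_1 D29701 (iv D24059) (iv F107854)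
theorem F138388 : act 3 n29701 = n29701 := d26_1 D29701 (iv D29701) F107855
theorem F138389 : act 4 n29701 = n25922 := d31_1 D29701 F116188 (iv F135014)
theorem F138390 : act 8 n29701 = n24005 := d40_2 (iv F107856) D29701 (iv D24005)
theorem F138391 : act 9 n29701 = n25919 := d41_2 (iv F135015) D29701 F116178
def n29702 : Q := act 5 n23993
theorem D29702 : act 5 n23993 = n29702 := rfl
theorem F138392 : act 2 n29702 = n23994 := d19_1 D29702 (iv D23994) (iv F107857)
theorem F138393 : act 3 n29702 = n29702 := d25_1 D29702 (iv D29702) F107858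
def n29703 : Q := act 7 n23993
theorem D29703 : act 7 n23993 = n29703 := rfl
theorem F138394 : act 2 n29703 = n23995 := d21_1 D29703 (iv D23995) (iv F107857)
theorem F138395 : act 3 n29703 = n29703 := d27_1 D29703 (iv D29703) F107858
theorem F138396 : act 8 n29703 = n24007 := d42_2 (iv F107859) D29703 (iv D24007)
def n29704 : Q := act 4 n23994
theorem D29704 : act 4 n23994 = n29704 := rfl
theorem F138397 : act 1 n29704 = n24062 := d11_1 D29704 (iv D24062) (iv F107860)
def n29705 : Q := act 7 n23994
theorem D29705 : act 7 n23994 = n29705 := rfl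
theorem F138398 : act 1 n29705 = n24063 := d14_1 D29705 (iv D24063) (iv F107860)
theorem F138399 : act 3 n29705 = n23996 := d27_1 D29705 (iv D23996) (iv F107861)
theorem F138400 : act 5 n29705 = n23995 := d36_1 D29705 (iv D23995) D23994
def n29706 : Q := act 8 n23994
theorem D29706 : act 8 n23994 = n29706 := rfl
theorem F138401 : act 1 n29706 = n24064 := d15_1 D29706 (iv D24064) (iv F107860)
theorem F138402 : act 3 n29706 = n23997 := d28_1 D29706 (iv D23997) (iv F107861)
theorem F138403 : act 5 n29706 = n24010 := d37_1 D29706 (iv D24010) (iv D18971) (iv F85912) D23994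
def n29707 : Q := act 6 n23996
theorem D29707 : act 6 n23996 = n29707 := rfl
theorem F138404 : act 1 n29707 = n24065 := d13_1 D29707 (iv D24065) (iv F107865)
theorem F138405 : act 2 n29707 = n29707 := d20_1 D29707 (iv D29707) F107866
def n29708 : Q := act 8 n23996
theorem D29708 : act 8 n23996 = n29708 := rfl
theorem F138406 : act 1 n29708 = n24066 := d15_1 D29708 (iv D24066) (iv F107865)
theorem F138407 : act 2 n29708 = n29708 := d22_1 D29708 (iv D29708) F107866
theorem F138408 : act 5 n29708 = n24012 := d37_1 D29708 (iv D24012) F85955 (iv F85918) (iv F107867)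
theorem F138409 : act 7 n29708 = n23997 := d42_1 D29708 (iv D23997) D23996
def n29709 : Q := act 9 n23997
theorem D29709 : act 9 n23997 = n29709 := rfl
theorem F138410 : act 0 n29709 = n25327 := d8_1 D29709 F138178 F138174
theorem F138411 : act 1 n29709 = n24067 := d16_1 D29709 (iv D24067) (iv F107868)
theorem F138412 : act 2 n29709 = n29709 := d23_1 D29709 (iv D29709) F107869
theorem F138413 : act 5 n29709 = n24013 := d38_1 D29709 (iv D24013) (iv F107870)
def n29710 : Q := act 7 n23999
theorem D29710 : act 7 n23999 = n29710 := rfl
theorem F138414 : act 2 n29710 = n24001 := d21_1 D29710 (iv D24001) (iv F107877)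
theorem F138415 : act 3 n29710 = n29710 := d27_1 D29710 (iv D29710) F107878
theorem F138416 : act 4 n29710 = n26181 := d32_1 D29710 (iv D26181) (iv F107879)
theorem F138417 : act 6 n29710 = n24007 := d39_1 D29710 (iv D24007) (iv D18970) (iv F85922) D23999
theorem F138418 : act 9 n29710 = n24299 := d43_2 (iv F107880) D29710 (iv D24299)
def n29711 : Q := act 4 n24000
theorem D29711 : act 4 n24000 = n29711 := rfl
theorem F138419 : act 1 n29711 = n24072 := d11_1 D29711 (iv D24072) (iv F107881)
theorem F138420 : act 3 n29711 = n29711 := d24_1 D29711 (iv D29711) F107882 F85930 (iv F107882)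
theorem F138421 : act 5 n29711 = n26182 := d30_2 D24000 D29711 (iv D26182) (iv D20634) (iv F85926)
theorem F138422 : act 6 n29711 = n24560 := d31_2 (iv F107883) D29711 (iv D24560)
theorem F138423 : act 9 n29711 = n24300 := d34_2 (iv F107884) D29711 (iv D24300)
def n29712 : Q := act 7 n24000
theorem D29712 : act 7 n24000 = n29712 := rfl
theorem F138424 : act 1 n29712 = n24073 := d14_1 D29712 (iv D24073) (iv F107881)
theorem F138425 : act 3 n29712 = n24002 := d27_1 D29712 (iv D24002) (iv F107882)
theorem F138426 : act 5 n29712 = n24001 := d36_1 D29712 (iv D24001) D24000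
theorem F138427 : act 9 n29712 = n24301 := d43_2 (iv F107884) D29712 (iv D24301)
def n29713 : Q := act 8 n24000
theorem D29713 : act 8 n24000 = n29713 := rfl
theorem F138428 : act 1 n29713 = n24074 := d15_1 D29713 (iv D24074) (iv F107881)
theorem F138429 : act 3 n29713 = n24003 := d28_1 D29713 (iv D24003) (iv F107882)
theorem F138430 : act 6 n29713 = n24562 := d40_1 D29713 (iv D24562) (iv F107883)
def n29714 : Q := act 6 n24002
theorem D29714 : act 6 n24002 = n29714 := rfl
theorem F138431 : act 0 n29714 = n24179 := d5_1 D29714 (iv F138207) F138202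
theorem F138432 : act 1 n29714 = n24075 := d13_1 D29714 (iv D24075) (iv F107890)
theorem F138433 : act 2 n29714 = n29714 := d20_1 D29714 (iv D29714) F107891
theorem F138434 : act 4 n29714 = n29714 := d31_1 D29714 (iv D29714) F107892
theorem F138435 : act 5 n29714 = n24011 := d35_1 D29714 (iv D24011) F85955 (iv F85936) (iv F107893)
theorem F138436 : act 7 n29714 = n24177 := d39_2 D24002 D29714 F133656 (iv D19392) (iv F85931)
theorem F138437 : act 9 n29714 = n24303 := d41_2 (iv F107894) D29714 (iv D24303)
def n29715 : Q := act 8 n24002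
theorem D29715 : act 8 n24002 = n29715 := rfl
theorem F138438 : act 1 n29715 = n24076 := d15_1 D29715 (iv D24076) (iv F107890)
theorem F138439 : act 2 n29715 = n29715 := d22_1 D29715 (iv D29715) F107891
theorem F138440 : act 4 n29715 = n29715 := d33_1 D29715 (iv D29715) F107892
theorem F138441 : act 7 n29715 = n24003 := d42_1 D29715 (iv D24003) D24002
def n29716 : Q := act 9 n24003
theorem D29716 : act 9 n24003 = n29716 := rfl
theorem F138442 : act 1 n29716 = n24077 := d16_1 D29716 (iv D24077) (iv F107895)
theorem F138443 : act 2 n29716 = n29716 := d23_1 D29716 (iv D29716) F107896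
theorem F138444 : act 4 n29716 = n29716 := d34_1 D29716 (iv D29716) F107897
theorem F138445 : act 6 n29716 = n24565 := d41_1 D29716 (iv D24565) (iv F107898)
theorem F138446 : act 8 n29716 = n24305 := d44_1 D29716 (iv D24305) (iv D19189) (iv F85932) D24003
def n29717 : Q := act 6 n24004
theorem D29717 : act 6 n24004 = n29717 := rfl
theorem F138447 : act 0 n29717 = n24005 := d5_1 D29717 (iv D24005) D24004
theorem F138448 : act 2 n29717 = n24078 := d20_1 D29717 (iv D24078) (iv F107899)
theorem F138449 : act 3 n29717 = n29717 := d26_1 D29717 (iv D29717) F107900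
theorem F138450 : act 4 n29717 = n24375 := d31_1 D29717 F109616 (iv F133601)
theorem F138451 : act 9 n29717 = n24306 := d41_2 (iv F107902) D29717 (iv D24306)
def n29718 : Q := act 5 n24005
theorem D29718 : act 5 n24005 = n29718 := rfl
theorem F138452 : act 1 n29718 = n24006 := d12_1 D29718 (iv D24006) (iv F107903)
theorem F138453 : act 2 n29718 = n24079 := d19_1 D29718 (iv D24079) (iv F107904)
theorem F138454 : act 3 n29718 = n29718 := d25_1 D29718 (iv D29718) F107905
theorem F138455 : act 6 n29718 = n24567 := d35_2 D24005 D29718 (iv D24567) (iv D19395) (iv F85940)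
theorem F138456 : act 9 n29718 = n24307 := d38_2 (iv F107906) D29718 (iv D24307)
def n29719 : Q := act 7 n24005
theorem D29719 : act 7 n24005 = n29719 := rfl
theorem F138457 : act 1 n29719 = n24007 := d14_1 D29719 (iv D24007) (iv F107903)
theorem F138458 : act 2 n29719 = n24080 := d21_1 D29719 (iv D24080) (iv F107904)
theorem F138459 : act 3 n29719 = n29719 := d27_1 D29719 (iv D29719) F107905
theorem F138460 : act 4 n29719 = n26302 := d32_1 D29719 F117587 (iv F134955)
theorem F138461 : act 9 n29719 = n24308 := d43_2 (iv F107906) D29719 (iv D24308)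
def n29720 : Q := act 4 n24006
theorem D29720 : act 4 n24006 = n29720 := rfl
theorem F138462 : act 0 n29720 = n26179 := d3_1 D29720 F138232 F138226
theorem F138463 : act 2 n29720 = n24008 := d18_1 D29720 (iv D24008) (iv F107907)
theorem F138464 : act 6 n29720 = n24569 := d31_2 (iv F107909) D29720 (iv D24569)
theorem F138465 : act 9 n29720 = n24309 := d34_2 (iv F107910) D29720 (iv D24309)
theorem F138466 : act 3 n24994 = n29720 := d29_3 F138465 F133712 D24994
def n29721 : Q := act 7 n24006
theorem D29721 : act 7 n24006 = n29721 := rfl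
theorem F138467 : act 2 n29721 = n24009 := d21_1 D29721 (iv D24009) (iv F107907)
theorem F138468 : act 3 n29721 = n29721 := d27_1 D29721 (iv D29721) F107908
theorem F138469 : act 5 n29721 = n24007 := d36_1 D29721 (iv D24007) D24006
theorem F138470 : act 9 n29721 = n24310 := d43_2 (iv F107910) D29721 (iv D24310)
def n29722 : Q := act 8 n24006
theorem D29722 : act 8 n24006 = n29722 := rfl
theorem F138471 : act 2 n29722 = n24010 := d22_1 D29722 (iv D24010) (iv F107907)
theorem F138472 : act 3 n29722 = n29722 := d28_1 D29722 (iv D29722) F107908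
theorem F138473 : act 6 n29722 = n24571 := d40_1 D29722 (iv D24571) (iv F107909)
def n29723 : Q := act 7 n24008
theorem D29723 : act 7 n24008 = n29723 := rfl
theorem F138474 : act 0 n29723 = n26245 := d6_1 D29723 (iv D26245) (iv F133604)
theorem F138475 : act 1 n29723 = n24084 := d14_1 D29723 (iv D24084) (iv F107914)
theorem F138476 : act 3 n29723 = n24017 := d27_1 D29723 (iv D24017) (iv F107915)
theorem F138477 : act 4 n29723 = n24009 := d32_1 D29723 (iv D24009) D24008
theorem F138478 : act 6 n29723 = n24381 := d39_1 D29723 F109639 F87214 (iv F133018) (iv F107916)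
theorem F138479 : act 9 n29723 = n24312 := d43_2 (iv F107917) D29723 (iv D24312)
def n29724 : Q := act 8 n24008
theorem D29724 : act 8 n24008 = n29724 := rfl
theorem F138480 : act 0 n29724 = n25878 := d7_1 D29724 F116058 (iv F133604)
theorem F138481 : act 1 n29724 = n24085 := d15_1 D29724 (iv D24085) (iv F107914)
theorem F138482 : act 3 n29724 = n24018 := d28_1 D29724 (iv D24018) (iv F107915)
theorem F138483 : act 4 n29724 = n24010 := d33_1 D29724 (iv D24010) D24008
theorem F138484 : act 6 n29724 = n24573 := d40_1 D29724 (iv D24573) (iv F107916)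
theorem F138485 : act 9 n29724 = n24670 := d44_2 (iv F107917) D29724 (iv D24670) F88262 (iv F132974)
def n29725 : Q := act 6 n24009
theorem D29725 : act 6 n24009 = n29725 := rfl
theorem F138486 : act 0 n29725 = n24080 := d5_1 D29725 (iv F138242) F138237
theorem F138487 : act 1 n29725 = n24086 := d13_1 D29725 (iv D24086) (iv F107918)
theorem F138488 : act 3 n29725 = n24011 := d26_1 D29725 (iv D24011) (iv F107919)
theorem F138489 : act 4 n29725 = n24381 := d31_1 D29725 (iv F138478) F138477
theorem F138490 : act 7 n29725 = n24078 := d39_2 D24009 D29725 (iv D24078) (iv F133629) (iv F85947)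
theorem F138491 : act 9 n29725 = n24314 := d41_2 (iv F107921) D29725 (iv D24314)
def n29726 : Q := act 8 n24009
theorem D29726 : act 8 n24009 = n29726 := rfl
theorem F138492 : act 1 n29726 = n24087 := d15_1 D29726 (iv D24087) (iv F107918)
theorem F138493 : act 3 n29726 = n24012 := d28_1 D29726 (iv D24012) (iv F107919)
theorem F138494 : act 7 n29726 = n24010 := d42_1 D29726 (iv D24010) D24009
def n29727 : Q := act 9 n24010
theorem D29727 : act 9 n24010 = n29727 := rfl
theorem F138495 : act 0 n29727 = n25286 := d8_1 D29727 (iv F138249) F138244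
theorem F138496 : act 1 n29727 = n24088 := d16_1 D29727 (iv D24088) (iv F107922)
theorem F138497 : act 3 n29727 = n24013 := d29_1 D29727 (iv D24013) (iv F107923)
theorem F138498 : act 4 n29727 = n24670 := d34_1 D29727 (iv F138485) F138483
theorem F138499 : act 6 n29727 = n24576 := d41_1 D29727 (iv D24576) (iv F107924)
theorem F138500 : act 8 n29727 = n24316 := d44_1 D29727 (iv D24316) (iv D19196) (iv F85948) D24010
def n29728 : Q := act 8 n24011
theorem D29728 : act 8 n24011 = n29728 := rfl
theorem F138501 : act 0 n29728 = n24153 := d7_1 D29728 F108546 (iv F133611)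
theorem F138502 : act 1 n29728 = n24089 := d15_1 D29728 (iv D24089) (iv F107925)
theorem F138503 : act 2 n29728 = n29728 := d22_1 D29728 (iv D29728) F107926
theorem F138504 : act 4 n29728 = n24022 := d33_1 D29728 (iv D24022) (iv F107927)
theorem F138505 : act 6 n29728 = n24012 := d40_1 D29728 (iv D24012) D24011
theorem F138506 : act 7 n29728 = n24094 := d42_1 D29728 F133653 (iv F133612)
theorem F138507 : act 9 n29728 = n24092 := d44_2 (iv F107929) D29728 (iv D24092) F86192 F132990
def n29729 : Q := act 9 n24012
theorem D29729 : act 9 n24012 = n29729 := rfl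
theorem F138508 : act 0 n29729 = n25328 := d8_1 D29729 (iv F138256) F138250
theorem F138509 : act 1 n29729 = n24090 := d16_1 D29729 (iv D24090) (iv F107930)
theorem F138510 : act 2 n29729 = n29729 := d23_1 D29729 (iv D29729) F107931
theorem F138511 : act 4 n29729 = n24023 := d34_1 D29729 (iv D24023) (iv F107932)
theorem F138512 : act 6 n29729 = n24092 := d41_1 D29729 (iv F138507) F138505
theorem F138513 : act 7 n29729 = n24013 := d43_1 D29729 (iv D24013) (iv F107933)
theorem F138514 : act 8 n29729 = n24091 := d44_1 D29729 F133622 (iv D19198) (iv F85956) D24012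
def n29730 : Q := act 8 n24017
theorem D29730 : act 8 n24017 = n29730 := rfl
theorem F138515 : act 0 n29730 = n25930 := d7_1 D29730 F116214 (iv F133721)
theorem F138516 : act 1 n29730 = n24092 := d15_1 D29730 (iv D24092) (iv F107954)
theorem F138517 : act 2 n29730 = n24187 := d22_1 D29730 F108699 F134412
theorem F138518 : act 4 n29730 = n24020 := d33_1 D29730 (iv D24020) (iv F107955)
theorem F138519 : act 6 n29730 = n24090 := d40_1 D29730 F108257 (iv F133722)
theorem F138520 : act 7 n29730 = n24018 := d42_1 D29730 (iv D24018) D24017
theorem F138521 : act 9 n29730 = n24089 := d44_2 (iv F107956) D29730 (iv D24089) F86179 (iv F132977)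
def n29731 : Q := act 5 n24018
theorem D29731 : act 5 n24018 = n29731 := rfl
theorem F138522 : act 0 n29731 = n26004 := d4_1 D29731 (iv D26004) (iv F133719)
theorem F138523 : act 1 n29731 = n24093 := d12_1 D29731 (iv D24093) (iv F107957)
theorem F138524 : act 2 n29731 = n24782 := d19_1 D29731 F111507 (iv F133727)
theorem F138525 : act 9 n29731 = n24672 := d38_2 (iv F133728) D29731 (iv D24672)
def n29732 : Q := act 1 n24024
theorem D29732 : act 1 n24024 = n29732 := rfl
theorem F138526 : act 3 n29732 = n29732 := d10_2 F107981 D29732 (iv D29732)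
theorem F138527 : act 4 n29732 = n24036 := d11_2 (iv F107982) D29732 (iv D24036)
theorem F138528 : act 5 n29732 = n26602 := d12_2 F136224 D29732 F136228
theorem F138529 : act 8 n29732 = n24592 := d15_2 (iv F107983) D29732 (iv D24592)
theorem F138530 : act 9 n29732 = n26601 := d16_2 F136957 D29732 F136958
def n29733 : Q := act 6 n24024
theorem D29733 : act 6 n24024 = n29733 := rfl
theorem F138531 : act 0 n29733 = n25834 := d5_1 D29733 (iv D25834) (iv F107980)
theorem F138532 : act 2 n29733 = n24025 := d20_1 D29733 (iv D24025) D24024
theorem F138533 : act 3 n29733 = n29733 := d26_1 D29733 (iv D29733) F107981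
theorem F138534 : act 4 n29733 = n24037 := d31_1 D29733 (iv D24037) (iv F107982)
theorem F138535 : act 8 n29733 = n24593 := d40_2 (iv F107983) D29733 (iv D24593)
def n29734 : Q := act 5 n24025
theorem D29734 : act 5 n24025 = n29734 := rfl
theorem F138536 : act 0 n29734 = n25835 := d4_1 D29734 (iv D25835) (iv F107984)
theorem F138537 : act 3 n29734 = n24026 := d25_1 D29734 (iv D24026) (iv F107985)
def n29735 : Q := act 7 n24025
theorem D29735 : act 7 n24025 = n29735 := rfl
theorem F138538 : act 0 n29735 = n25836 := d6_1 D29735 (iv D25836) (iv F107984)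
theorem F138539 : act 3 n29735 = n24027 := d27_1 D29735 (iv D24027) (iv F107985)
theorem F138540 : act 4 n29735 = n24039 := d32_1 D29735 (iv D24039) (iv F107986)
theorem F138541 : act 8 n29735 = n24595 := d42_2 (iv F107987) D29735 (iv D24595)
def n29736 : Q := act 7 n24026
theorem D29736 : act 7 n24026 = n29736 := rfl
theorem F138542 : act 0 n29736 = n25837 := d6_1 D29736 (iv D25837) (iv F107988)
theorem F138543 : act 2 n29736 = n29736 := d21_1 D29736 (iv D29736) F107989
theorem F138544 : act 5 n29736 = n24027 := d36_1 D29736 (iv D24027) D24026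
def n29737 : Q := act 8 n24026
theorem D29737 : act 8 n24026 = n29737 := rfl
theorem F138545 : act 0 n29737 = n25838 := d7_1 D29737 (iv D25838) (iv F107988)
theorem F138546 : act 2 n29737 = n29737 := d22_1 D29737 (iv D29737) F107989
theorem F138547 : act 5 n29737 = n24597 := d37_1 D29737 (iv D24597) (iv D19416) (iv F85999) D24026
def n29738 : Q := act 1 n24028
theorem D29738 : act 1 n24028 = n29738 := rfl
theorem F138548 : act 0 n29738 = n24552 := d0_1 D29738 F110511 F88168 F134773 (iv F107994)
theorem F138549 : act 3 n29738 = n24103 := d10_2 (iv F107995) D29738 (iv D24103)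
theorem F138550 : act 5 n29738 = n24046 := d12_2 (iv F107996) D29738 (iv D24046)
theorem F138551 : act 7 n29738 = n24036 := d14_2 (iv F107997) D29738 (iv D24036)
theorem F138552 : act 8 n29738 = n24492 := d15_2 (iv F107998) D29738 (iv F134306)
theorem F138553 : act 9 n29738 = n25279 := d16_2 (iv F107999) D29738 (iv D25279)
def n29739 : Q := act 6 n24028
theorem D29739 : act 6 n24028 = n29739 := rfl
theorem F138554 : act 0 n29739 = n25840 := d5_1 D29739 (iv D25840) (iv F107994)
theorem F138555 : act 2 n29739 = n24029 := d20_1 D29739 (iv D24029) D24028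
theorem F138556 : act 3 n29739 = n24104 := d26_1 D29739 (iv D24104) (iv F107995)
theorem F138557 : act 8 n29739 = n24599 := d40_2 (iv F107998) D29739 (iv D24599)
theorem F138558 : act 9 n29739 = n25280 := d41_2 (iv F107999) D29739 (iv D25280)
def n29740 : Q := act 5 n24029
theorem D29740 : act 5 n24029 = n29740 := rfl
theorem F138559 : act 0 n29740 = n25841 := d4_1 D29740 (iv D25841) (iv F108000)
theorem F138560 : act 3 n29740 = n24030 := d25_1 D29740 (iv D24030) (iv F108001)
theorem F138561 : act 6 n29740 = n24048 := d35_2 D24029 D29740 (iv D24048) (iv D19000) (iv F86005)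
theorem F138562 : act 9 n29740 = n25281 := d38_2 (iv F108003) D29740 (iv D25281)
def n29741 : Q := act 7 n24029
theorem D29741 : act 7 n24029 = n29741 := rfl
theorem F138563 : act 0 n29741 = n25842 := d6_1 D29741 (iv D25842) (iv F108000)
theorem F138564 : act 3 n29741 = n24031 := d27_1 D29741 (iv D24031) (iv F108001)
theorem F138565 : act 6 n29741 = n24039 := d39_1 D29741 (iv D24039) (iv D18993) (iv F86006) D24029
theorem F138566 : act 8 n29741 = n24601 := d42_2 (iv F108002) D29741 (iv D24601)
theorem F138567 : act 9 n29741 = n25282 := d43_2 (iv F108003) D29741 (iv D25282)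
def n29742 : Q := act 7 n24030
theorem D29742 : act 7 n24030 = n29742 := rfl
theorem F138568 : act 0 n29742 = n25843 := d6_1 D29742 (iv D25843) (iv F108004)
theorem F138569 : act 2 n29742 = n24107 := d21_1 D29742 (iv D24107) (iv F108005)
theorem F138570 : act 5 n29742 = n24031 := d36_1 D29742 (iv D24031) D24030
theorem F138571 : act 9 n29742 = n25283 := d43_2 (iv F108007) D29742 (iv D25283)
def n29743 : Q := act 8 n24030
theorem D29743 : act 8 n24030 = n29743 := rfl
theorem F138572 : act 0 n29743 = n25844 := d7_1 D29743 (iv D25844) (iv F108004)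
theorem F138573 : act 2 n29743 = n24108 := d22_1 D29743 (iv D24108) (iv F108005)
theorem F138574 : act 5 n29743 = n24603 := d37_1 D29743 (iv D24603) (iv D19420) (iv F86012) D24030
theorem F138575 : act 6 n29743 = n24051 := d40_1 D29743 (iv D24051) (iv F108006)
def n29744 : Q := act 6 n24032
theorem D29744 : act 6 n24032 = n29744 := rfl
theorem F138576 : act 0 n29744 = n25846 := d5_1 D29744 (iv D25846) (iv F108014)
theorem F138577 : act 1 n29744 = n26644 := d13_1 D29744 (iv D26644) (iv F134695)
theorem F138578 : act 2 n29744 = n24033 := d20_1 D29744 (iv D24033) D24032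
theorem F138579 : act 3 n29744 = n24110 := d26_1 D29744 (iv D24110) (iv F108015)
theorem F138580 : act 8 n29744 = n29744 := d40_2 F108018 D29744 (iv D29744)
theorem F138581 : act 9 n29744 = n24037 := d41_2 (iv F108019) D29744 (iv D24037)
def n29745 : Q := act 5 n24033
theorem D29745 : act 5 n24033 = n29745 := rfl
theorem F138582 : act 0 n29745 = n25847 := d4_1 D29745 (iv D25847) (iv F108020)
theorem F138583 : act 3 n29745 = n24034 := d25_1 D29745 (iv D24034) (iv F108021)
theorem F138584 : act 6 n29745 = n24054 := d35_2 D24033 D29745 (iv D24054) (iv D19004) (iv F86020)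
theorem F138585 : act 9 n29745 = n24038 := d38_2 (iv F108023) D29745 (iv D24038)
def n29746 : Q := act 7 n24033
theorem D29746 : act 7 n24033 = n29746 := rfl
theorem F138586 : act 0 n29746 = n25848 := d6_1 D29746 (iv D25848) (iv F108020)
theorem F138587 : act 3 n29746 = n24035 := d27_1 D29746 (iv D24035) (iv F108021)
theorem F138588 : act 6 n29746 = n25282 := d39_1 D29746 (iv D25282) (iv D19962) (iv F86021) D24033
theorem F138589 : act 8 n29746 = n29746 := d42_2 F108022 D29746 (iv D29746)
theorem F138590 : act 9 n29746 = n24039 := d43_2 (iv F108023) D29746 (iv D24039)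
def n29747 : Q := act 7 n24034
theorem D29747 : act 7 n24034 = n29747 := rfl
theorem F138591 : act 0 n29747 = n25849 := d6_1 D29747 (iv D25849) (iv F108024)
theorem F138592 : act 2 n29747 = n24113 := d21_1 D29747 (iv D24113) (iv F108025)
theorem F138593 : act 5 n29747 = n24035 := d36_1 D29747 (iv D24035) D24034
theorem F138594 : act 9 n29747 = n24040 := d43_2 (iv F108027) D29747 (iv D24040)
def n29748 : Q := act 8 n24034
theorem D29748 : act 8 n24034 = n29748 := rfl
theorem F138595 : act 0 n29748 = n25850 := d7_1 D29748 (iv D25850) (iv F108024)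
theorem F138596 : act 2 n29748 = n24114 := d22_1 D29748 (iv D24114) (iv F108025)
theorem F138597 : act 5 n29748 = n29748 := d37_1 D29748 (iv D29748) (iv D24034) F86027 D24034
theorem F138598 : act 6 n29748 = n24057 := d40_1 D29748 (iv D24057) (iv F108026)
def n29749 : Q := act 0 n24036
theorem D29749 : act 0 n24036 = n29749 := rfl
theorem F138599 : act 1 n29749 = n24639 := d0_2 D24036 D29749 F134769 (iv D20383) (iv F86034)
theorem F138600 : act 3 n29749 = n24115 := d2_2 (iv F108034) D29749 (iv D24115)
theorem F138601 : act 5 n29749 = n24058 := d4_2 (iv F108035) D29749 (iv D24058)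
theorem F138602 : act 7 n29749 = n24552 := d6_2 F138551 D29749 (iv F138548)
theorem F138603 : act 8 n29749 = n24551 := d7_2 (iv F108036) D29749 F133787
theorem F138604 : act 9 n29749 = n24668 := d8_2 (iv F135016) D29749 F111001
def n29750 : Q := act 6 n24036
theorem D29750 : act 6 n24036 = n29750 := rfl
theorem F138605 : act 1 n29750 = n24037 := d13_1 D29750 (iv D24037) D24036
theorem F138606 : act 3 n29750 = n24116 := d26_1 D29750 (iv D24116) (iv F108034)
theorem F138607 : act 8 n29750 = n24605 := d40_2 (iv F108036) D29750 (iv D24605)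
theorem F138608 : act 9 n29750 = n26644 := d41_2 (iv F135016) D29750 (iv D26644)
def n29751 : Q := act 5 n24037
theorem D29751 : act 5 n24037 = n29751 := rfl
theorem F138609 : act 0 n29751 = n25853 := d4_1 D29751 (iv D25853) (iv F108037)
theorem F138610 : act 2 n29751 = n24038 := d19_1 D29751 (iv D24038) (iv F108038)
theorem F138611 : act 3 n29751 = n24117 := d25_1 D29751 (iv D24117) (iv F108039)
theorem F138612 : act 6 n29751 = n24060 := d35_2 D24037 D29751 (iv D24060) (iv D19008) (iv F86036)
def n29752 : Q := act 7 n24037
theorem D29752 : act 7 n24037 = n29752 := rfl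
theorem F138613 : act 0 n29752 = n25854 := d6_1 D29752 (iv D25854) (iv F108037)
theorem F138614 : act 2 n29752 = n24039 := d21_1 D29752 (iv D24039) (iv F108038)
theorem F138615 : act 3 n29752 = n24118 := d27_1 D29752 (iv D24118) (iv F108039)
theorem F138616 : act 8 n29752 = n24607 := d42_2 (iv F108040) D29752 (iv D24607)
def n29753 : Q := act 4 n24038
theorem D29753 : act 4 n24038 = n29753 := rfl
theorem F138617 : act 0 n29753 = n25855 := d3_1 D29753 (iv D25855) (iv F108041)
theorem F138618 : act 6 n29753 = n24062 := d31_2 (iv F108043) D29753 (iv D24062)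
def n29754 : Q := act 7 n24038
theorem D29754 : act 7 n24038 = n29754 := rfl
theorem F138619 : act 0 n29754 = n25856 := d6_1 D29754 (iv D25856) (iv F108041)
theorem F138620 : act 3 n29754 = n24040 := d27_1 D29754 (iv D24040) (iv F108042)
theorem F138621 : act 5 n29754 = n24039 := d36_1 D29754 (iv D24039) D24038
def n29755 : Q := act 8 n24038
theorem D29755 : act 8 n24038 = n29755 := rfl
theorem F138622 : act 0 n29755 = n25857 := d7_1 D29755 (iv D25857) (iv F108041)
theorem F138623 : act 3 n29755 = n24041 := d28_1 D29755 (iv D24041) (iv F108042)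
theorem F138624 : act 5 n29755 = n24610 := d37_1 D29755 (iv D24610) (iv D19424) (iv F86040) D24038
theorem F138625 : act 6 n29755 = n24064 := d40_1 D29755 (iv D24064) (iv F108043)
def n29756 : Q := act 6 n24040
theorem D29756 : act 6 n24040 = n29756 := rfl
theorem F138626 : act 0 n29756 = n25858 := d5_1 D29756 (iv D25858) (iv F108047)
theorem F138627 : act 2 n29756 = n24122 := d20_1 D29756 (iv D24122) (iv F108048)
theorem F138628 : act 7 n29756 = n24065 := d39_2 D24040 D29756 (iv D24065) (iv D19011) (iv F86043)
def n29757 : Q := act 8 n24040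
theorem D29757 : act 8 n24040 = n29757 := rfl
theorem F138629 : act 0 n29757 = n25859 := d7_1 D29757 (iv D25859) (iv F108047)
theorem F138630 : act 2 n29757 = n24123 := d22_1 D29757 (iv D24123) (iv F108048)
theorem F138631 : act 5 n29757 = n24612 := d37_1 D29757 (iv D24612) F88086 (iv F86047) (iv F108049)
theorem F138632 : act 7 n29757 = n24041 := d42_1 D29757 (iv D24041) D24040
def n29758 : Q := act 9 n24041
theorem D29758 : act 9 n24041 = n29758 := rfl
theorem F138633 : act 0 n29758 = n25860 := d8_1 D29758 (iv D25860) (iv F108050)
theorem F138634 : act 2 n29758 = n24124 := d23_1 D29758 (iv D24124) (iv F108051)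
theorem F138635 : act 5 n29758 = n24613 := d38_1 D29758 (iv D24613) (iv F108052)
theorem F138636 : act 6 n29758 = n24067 := d41_1 D29758 (iv D24067) (iv F108053)
def n29759 : Q := act 1 n24042
theorem D29759 : act 1 n24042 = n29759 := rfl
theorem F138637 : act 3 n29759 = n24125 := d10_2 (iv F108055) D29759 (iv D24125)
theorem F138638 : act 4 n29759 = n25534 := d11_2 (iv F108056) D29759 (iv D25534)
theorem F138639 : act 8 n29759 = n29759 := d15_2 F108057 D29759 (iv D29759)
theorem F138640 : act 9 n29759 = n25124 := d16_2 (iv F108058) D29759 (iv D25124)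
def n29760 : Q := act 6 n24042
theorem D29760 : act 6 n24042 = n29760 := rfl
theorem F138641 : act 0 n29760 = n25862 := d5_1 D29760 (iv D25862) (iv F108054)
theorem F138642 : act 2 n29760 = n24043 := d20_1 D29760 (iv D24043) D24042
theorem F138643 : act 3 n29760 = n24126 := d26_1 D29760 (iv D24126) (iv F108055)
theorem F138644 : act 4 n29760 = n25535 := d31_1 D29760 (iv D25535) (iv F108056)
theorem F138645 : act 8 n29760 = n29760 := d40_2 F108057 D29760 (iv D29760)
theorem F138646 : act 9 n29760 = n25125 := d41_2 (iv F108058) D29760 (iv D25125)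
def n29761 : Q := act 5 n24043
theorem D29761 : act 5 n24043 = n29761 := rfl
theorem F138647 : act 0 n29761 = n25863 := d4_1 D29761 (iv D25863) (iv F108059)
theorem F138648 : act 3 n29761 = n24044 := d25_1 D29761 (iv D24044) (iv F108060)
theorem F138649 : act 9 n29761 = n25126 := d38_2 (iv F108063) D29761 (iv D25126)
def n29762 : Q := act 7 n24043
theorem D29762 : act 7 n24043 = n29762 := rfl
theorem F138650 : act 0 n29762 = n25864 := d6_1 D29762 (iv D25864) (iv F108059)
theorem F138651 : act 3 n29762 = n24045 := d27_1 D29762 (iv D24045) (iv F108060)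
theorem F138652 : act 4 n29762 = n25537 := d32_1 D29762 (iv D25537) (iv F108061)
theorem F138653 : act 8 n29762 = n29762 := d42_2 F108062 D29762 (iv D29762)
theorem F138654 : act 9 n29762 = n25127 := d43_2 (iv F108063) D29762 (iv D25127)
def n29763 : Q := act 7 n24044
theorem D29763 : act 7 n24044 = n29763 := rfl
theorem F138655 : act 0 n29763 = n25865 := d6_1 D29763 (iv D25865) (iv F108064)
theorem F138656 : act 2 n29763 = n24129 := d21_1 D29763 (iv D24129) (iv F108065)
theorem F138657 : act 4 n29763 = n24050 := d32_1 D29763 (iv D24050) (iv F108066)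
theorem F138658 : act 5 n29763 = n24045 := d36_1 D29763 (iv D24045) D24044
theorem F138659 : act 9 n29763 = n25128 := d43_2 (iv F108067) D29763 (iv D25128)
def n29764 : Q := act 8 n24044
theorem D29764 : act 8 n24044 = n29764 := rfl
theorem F138660 : act 0 n29764 = n25866 := d7_1 D29764 (iv D25866) (iv F108064)
theorem F138661 : act 2 n29764 = n24130 := d22_1 D29764 (iv D24130) (iv F108065)
theorem F138662 : act 4 n29764 = n24051 := d33_1 D29764 (iv D24051) (iv F108066)
theorem F138663 : act 5 n29764 = n29764 := d37_1 D29764 (iv D29764) (iv D24044) F86055 D24044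
def n29765 : Q := act 5 n24047
theorem D29765 : act 5 n24047 = n29765 := rfl
theorem F138664 : act 0 n29765 = n25788 := d4_1 D29765 F115762 (iv F134718)
theorem F138665 : act 2 n29765 = n24048 := d19_1 D29765 (iv D24048) (iv F108079)
theorem F138666 : act 3 n29765 = n24133 := d25_1 D29765 (iv D24133) (iv F108080)
theorem F138667 : act 8 n29765 = n25732 := d37_2 (iv F108082) D29765 (iv D25732) F91805 (iv F134135)
theorem F138668 : act 9 n29765 = n25287 := d38_2 (iv F108083) D29765 (iv D25287)
def n29766 : Q := act 7 n24047
theorem D29766 : act 7 n24047 = n29766 := rfl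
theorem F138669 : act 0 n29766 = n25811 := d6_1 D29766 F115852 (iv F134718)
theorem F138670 : act 2 n29766 = n24049 := d21_1 D29766 (iv D24049) (iv F108079)
theorem F138671 : act 3 n29766 = n24134 := d27_1 D29766 (iv D24134) (iv F108080)
theorem F138672 : act 4 n29766 = n25880 := d32_1 D29766 (iv D25880) (iv F108081)
theorem F138673 : act 6 n29766 = n24061 := d39_1 D29766 (iv D24061) (iv D19008) (iv F86066) D24047
theorem F138674 : act 8 n29766 = n24071 := d42_2 (iv F108082) D29766 (iv D24071)
theorem F138675 : act 9 n29766 = n25288 := d43_2 (iv F108083) D29766 (iv D25288)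
def n29767 : Q := act 4 n24048
theorem D29767 : act 4 n24048 = n29767 := rfl
theorem F138676 : act 0 n29767 = n25871 := d3_1 D29767 (iv D25871) (iv F108084)
theorem F138677 : act 5 n29767 = n25881 := d30_2 D24048 D29767 (iv D25881) (iv D20401) (iv F86071)
theorem F138678 : act 9 n29767 = n25289 := d34_2 (iv F108086) D29767 (iv D25289)
def n29768 : Q := act 7 n24048
theorem D29768 : act 7 n24048 = n29768 := rfl
theorem F138679 : act 0 n29768 = n25872 := d6_1 D29768 (iv D25872) (iv F108084)
theorem F138680 : act 3 n29768 = n24050 := d27_1 D29768 (iv D24050) (iv F108085)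
theorem F138681 : act 5 n29768 = n24049 := d36_1 D29768 (iv D24049) D24048
theorem F138682 : act 9 n29768 = n25290 := d43_2 (iv F108086) D29768 (iv D25290)
def n29769 : Q := act 8 n24048
theorem D29769 : act 8 n24048 = n29769 := rfl
theorem F138683 : act 0 n29769 = n25784 := d7_1 D29769 F134865 (iv F108084)
theorem F138684 : act 2 n29769 = n25732 := d22_1 D29769 (iv F138667) F138665
theorem F138685 : act 3 n29769 = n24051 := d28_1 D29769 (iv D24051) (iv F108085)
theorem F138686 : act 5 n29769 = n24074 := d37_1 D29769 (iv D24074) (iv D19015) (iv F86072) D24048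
def n29770 : Q := act 6 n24050
theorem D29770 : act 6 n24050 = n29770 := rfl
theorem F138687 : act 0 n29770 = n25874 := d5_1 D29770 (iv D25874) (iv F108093)
theorem F138688 : act 2 n29770 = n24138 := d20_1 D29770 (iv D24138) (iv F108094)
theorem F138689 : act 5 n29770 = n24065 := d35_1 D29770 (iv D24065) F86116 (iv F86080) (iv F108095)
theorem F138690 : act 9 n29770 = n25292 := d41_2 (iv F108096) D29770 (iv D25292)
def n29771 : Q := act 8 n24050
theorem D29771 : act 8 n24050 = n29771 := rfl
theorem F138691 : act 0 n29771 = n25875 := d7_1 D29771 (iv D25875) (iv F108093)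
theorem F138692 : act 2 n29771 = n24139 := d22_1 D29771 (iv D24139) (iv F108094)
theorem F138693 : act 5 n29771 = n24076 := d37_1 D29771 (iv D24076) F86142 (iv F86081) (iv F108095)
theorem F138694 : act 7 n29771 = n24051 := d42_1 D29771 (iv D24051) D24050
def n29772 : Q := act 9 n24051
theorem D29772 : act 9 n24051 = n29772 := rfl
theorem F138695 : act 0 n29772 = n25876 := d8_1 D29772 (iv D25876) (iv F108097)
theorem F138696 : act 2 n29772 = n24140 := d23_1 D29772 (iv D24140) (iv F108098)
theorem F138697 : act 5 n29772 = n24077 := d38_1 D29772 (iv D24077) (iv F108099)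
theorem F138698 : act 8 n29772 = n25294 := d44_1 D29772 (iv D25294) (iv D19970) (iv F86076) D24051
def n29773 : Q := act 5 n24053
theorem D29773 : act 5 n24053 = n29773 := rfl
theorem F138699 : act 0 n29773 = n25879 := d4_1 D29773 (iv D25879) (iv F108105)
theorem F138700 : act 1 n29773 = n25925 := d12_1 D29773 (iv D25925) (iv F134696)
theorem F138701 : act 2 n29773 = n24054 := d19_1 D29773 (iv D24054) (iv F108106)
theorem F138702 : act 3 n29773 = n24143 := d25_1 D29773 (iv D24143) (iv F108107)
theorem F138703 : act 9 n29773 = n24060 := d38_2 (iv F108110) D29773 (iv D24060)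
def n29774 : Q := act 7 n24053
theorem D29774 : act 7 n24053 = n29774 := rfl
theorem F138704 : act 0 n29774 = n25880 := d6_1 D29774 (iv D25880) (iv F108105)
theorem F138705 : act 1 n29774 = n25924 := d14_1 D29774 F116196 (iv F134696)
theorem F138706 : act 2 n29774 = n24055 := d21_1 D29774 (iv D24055) (iv F108106)
theorem F138707 : act 3 n29774 = n24144 := d27_1 D29774 (iv D24144) (iv F108107)
theorem F138708 : act 4 n29774 = n25811 := d32_1 D29774 F115852 (iv F134697)
theorem F138709 : act 6 n29774 = n25288 := d39_1 D29774 (iv D25288) (iv D19966) (iv F86086) D24053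
theorem F138710 : act 8 n29774 = n24333 := d42_2 (iv F108109) D29774 (iv D24333)
theorem F138711 : act 9 n29774 = n24061 := d43_2 (iv F108110) D29774 (iv D24061)
def n29775 : Q := act 4 n24054
theorem D29775 : act 4 n24054 = n29775 := rfl
theorem F138712 : act 0 n29775 = n25881 := d3_1 D29775 (iv D25881) (iv F108111)
theorem F138713 : act 5 n29775 = n25871 := d30_2 D24054 D29775 (iv D25871) (iv D20395) (iv F86091)
theorem F138714 : act 9 n29775 = n24062 := d34_2 (iv F108113) D29775 (iv D24062)
def n29776 : Q := act 7 n24054
theorem D29776 : act 7 n24054 = n29776 := rfl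
theorem F138715 : act 0 n29776 = n25882 := d6_1 D29776 (iv D25882) (iv F108111)
theorem F138716 : act 3 n29776 = n24056 := d27_1 D29776 (iv D24056) (iv F108112)
theorem F138717 : act 5 n29776 = n24055 := d36_1 D29776 (iv D24055) D24054
theorem F138718 : act 9 n29776 = n24063 := d43_2 (iv F108113) D29776 (iv D24063)
def n29777 : Q := act 8 n24054
theorem D29777 : act 8 n24054 = n29777 := rfl
theorem F138719 : act 0 n29777 = n25883 := d7_1 D29777 (iv D25883) (iv F108111)
theorem F138720 : act 3 n29777 = n24057 := d28_1 D29777 (iv D24057) (iv F108112)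
theorem F138721 : act 5 n29777 = n24336 := d37_1 D29777 (iv D24336) (iv D19212) (iv F86092) D24054
def n29778 : Q := act 6 n24056
theorem D29778 : act 6 n24056 = n29778 := rfl
theorem F138722 : act 0 n29778 = n25884 := d5_1 D29778 (iv D25884) (iv F108120)
theorem F138723 : act 2 n29778 = n24148 := d20_1 D29778 (iv D24148) (iv F108121)
theorem F138724 : act 5 n29778 = n25292 := d35_1 D29778 (iv D25292) F90560 (iv F86100) (iv F108122)
theorem F138725 : act 9 n29778 = n24065 := d41_2 (iv F108123) D29778 (iv D24065)
def n29779 : Q := act 8 n24056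
theorem D29779 : act 8 n24056 = n29779 := rfl
theorem F138726 : act 0 n29779 = n25885 := d7_1 D29779 (iv D25885) (iv F108120)
theorem F138727 : act 2 n29779 = n24149 := d22_1 D29779 (iv D24149) (iv F108121)
theorem F138728 : act 5 n29779 = n24338 := d37_1 D29779 (iv D24338) F87081 (iv F86101) (iv F108122)
theorem F138729 : act 7 n29779 = n24057 := d42_1 D29779 (iv D24057) D24056
def n29780 : Q := act 9 n24057
theorem D29780 : act 9 n24057 = n29780 := rfl
theorem F138730 : act 0 n29780 = n25886 := d8_1 D29780 (iv D25886) (iv F108124)
theorem F138731 : act 2 n29780 = n24150 := d23_1 D29780 (iv D24150) (iv F108125)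
theorem F138732 : act 5 n29780 = n24339 := d38_1 D29780 (iv D24339) (iv F108126)
theorem F138733 : act 8 n29780 = n24067 := d44_1 D29780 (iv D24067) (iv D19012) (iv F86096) D24057
def n29781 : Q := act 6 n24058
theorem D29781 : act 6 n24058 = n29781 := rfl
theorem F138734 : act 0 n29781 = n24059 := d5_1 D29781 (iv D24059) D24058
theorem F138735 : act 1 n29781 = n24670 := d13_1 D29781 F111010 F134116
theorem F138736 : act 3 n29781 = n24094 := d26_1 D29781 F133652 (iv F108128)
theorem F138737 : act 4 n29781 = n24088 := d31_1 D29781 F108246 (iv F133639)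
theorem F138738 : act 8 n29781 = n24078 := d40_2 (iv F108129) D29781 (iv D24078)
theorem F138739 : act 9 n29781 = n24085 := d41_2 (iv F133640) D29781 F108236
def n29782 : Q := act 5 n24059
theorem D29782 : act 5 n24059 = n29782 := rfl
theorem F138740 : act 1 n29782 = n24060 := d12_1 D29782 (iv D24060) (iv F108130)
theorem F138741 : act 3 n29782 = n24152 := d25_1 D29782 (iv D24152) (iv F108131)
theorem F138742 : act 9 n29782 = n25925 := d38_2 (iv F134962) D29782 (iv D25925)
def n29783 : Q := act 7 n24059
theorem D29783 : act 7 n24059 = n29783 := rfl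
theorem F138743 : act 1 n29783 = n24061 := d14_1 D29783 (iv D24061) (iv F108130)
theorem F138744 : act 3 n29783 = n24153 := d27_1 D29783 (iv D24153) (iv F108131)
theorem F138745 : act 4 n29783 = n25928 := d32_1 D29783 F116206 (iv F134961)
theorem F138746 : act 8 n29783 = n24080 := d42_2 (iv F108132) D29783 (iv D24080)
theorem F138747 : act 9 n29783 = n25924 := d43_2 (iv F134962) D29783 F116196
def n29784 : Q := act 4 n24060
theorem D29784 : act 4 n24060 = n29784 := rfl
theorem F138748 : act 0 n29784 = n25890 := d3_1 D29784 (iv D25890) (iv F108133)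
theorem F138749 : act 2 n29784 = n24062 := d18_1 D29784 (iv D24062) (iv F108134)
def n29785 : Q := act 7 n24060
theorem D29785 : act 7 n24060 = n29785 := rfl
theorem F138750 : act 0 n29785 = n25891 := d6_1 D29785 (iv D25891) (iv F108133)
theorem F138751 : act 2 n29785 = n24063 := d21_1 D29785 (iv D24063) (iv F108134)
theorem F138752 : act 3 n29785 = n24155 := d27_1 D29785 (iv D24155) (iv F108135)
theorem F138753 : act 5 n29785 = n24061 := d36_1 D29785 (iv D24061) D24060
def n29786 : Q := act 8 n24060
theorem D29786 : act 8 n24060 = n29786 := rfl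
theorem F138754 : act 0 n29786 = n25892 := d7_1 D29786 (iv D25892) (iv F108133)
theorem F138755 : act 2 n29786 = n24064 := d22_1 D29786 (iv D24064) (iv F108134)
theorem F138756 : act 3 n29786 = n24156 := d28_1 D29786 (iv D24156) (iv F108135)
theorem F138757 : act 5 n29786 = n24083 := d37_1 D29786 (iv D24083) (iv D19021) (iv F86108) D24060
def n29787 : Q := act 7 n24062
theorem D29787 : act 7 n24062 = n29787 := rfl
theorem F138758 : act 0 n29787 = n25893 := d6_1 D29787 (iv D25893) (iv F108140)
theorem F138759 : act 4 n29787 = n24063 := d32_1 D29787 (iv D24063) D24062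
def n29788 : Q := act 8 n24062
theorem D29788 : act 8 n24062 = n29788 := rfl
theorem F138760 : act 0 n29788 = n25894 := d7_1 D29788 (iv D25894) (iv F108140)
theorem F138761 : act 4 n29788 = n24064 := d33_1 D29788 (iv D24064) D24062
def n29789 : Q := act 6 n24063
theorem D29789 : act 6 n24063 = n29789 := rfl
theorem F138762 : act 0 n29789 = n25895 := d5_1 D29789 (iv D25895) (iv F108141)
theorem F138763 : act 3 n29789 = n24065 := d26_1 D29789 (iv D24065) (iv F108142)
def n29790 : Q := act 8 n24063
theorem D29790 : act 8 n24063 = n29790 := rfl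
theorem F138764 : act 0 n29790 = n25896 := d7_1 D29790 (iv D25896) (iv F108141)
theorem F138765 : act 3 n29790 = n24066 := d28_1 D29790 (iv D24066) (iv F108142)
theorem F138766 : act 5 n29790 = n24087 := d37_1 D29790 (iv D24087) F86170 (iv F86113) (iv F108143)
theorem F138767 : act 7 n29790 = n24064 := d42_1 D29790 (iv D24064) D24063
def n29791 : Q := act 9 n24064
theorem D29791 : act 9 n24064 = n29791 := rfl
theorem F138768 : act 0 n29791 = n25897 := d8_1 D29791 (iv D25897) (iv F108144)
theorem F138769 : act 3 n29791 = n24067 := d29_1 D29791 (iv D24067) (iv F108145)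
theorem F138770 : act 5 n29791 = n24088 := d38_1 D29791 (iv D24088) (iv F108146)
def n29792 : Q := act 8 n24065
theorem D29792 : act 8 n24065 = n29792 := rfl
theorem F138771 : act 0 n29792 = n25898 := d7_1 D29792 (iv D25898) (iv F108147)
theorem F138772 : act 2 n29792 = n24162 := d22_1 D29792 (iv D24162) (iv F108148)
theorem F138773 : act 6 n29792 = n24066 := d40_1 D29792 (iv D24066) D24065
def n29793 : Q := act 9 n24066
theorem D29793 : act 9 n24066 = n29793 := rfl
theorem F138774 : act 0 n29793 = n25899 := d8_1 D29793 (iv D25899) (iv F108149)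
theorem F138775 : act 2 n29793 = n24163 := d23_1 D29793 (iv D24163) (iv F108150)
theorem F138776 : act 5 n29793 = n24090 := d38_1 D29793 (iv D24090) (iv F108151)
theorem F138777 : act 7 n29793 = n24067 := d43_1 D29793 (iv D24067) (iv F108152)
def n29794 : Q := act 7 n24072
theorem D29794 : act 7 n24072 = n29794 := rfl
theorem F138778 : act 0 n29794 = n25258 := d6_1 D29794 (iv D25258) (iv F134825)
theorem F138779 : act 2 n29794 = n25233 := d21_1 D29794 (iv D25233) (iv F134826)
theorem F138780 : act 3 n29794 = n29794 := d27_1 D29794 (iv D29794) F108178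
theorem F138781 : act 4 n29794 = n24073 := d32_1 D29794 (iv D24073) D24072
theorem F138782 : act 5 n29794 = n26249 := d36_1 D29794 (iv D26249) (iv F108179)
theorem F138783 : act 9 n29794 = n24359 := d43_2 (iv F108181) D29794 (iv D24359)
def n29795 : Q := act 8 n24072
theorem D29795 : act 8 n24072 = n29795 := rfl
theorem F138784 : act 0 n29795 = n25250 := d7_1 D29795 F113730 (iv F134825)
theorem F138785 : act 2 n29795 = n25227 := d22_1 D29795 F113638 (iv F134826)
theorem F138786 : act 3 n29795 = n29795 := d28_1 D29795 (iv D29795) F108178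
theorem F138787 : act 4 n29795 = n24074 := d33_1 D29795 (iv D24074) D24072
theorem F138788 : act 6 n29795 = n24650 := d40_1 D29795 (iv D24650) (iv F108180)
def n29796 : Q := act 6 n24073
theorem D29796 : act 6 n24073 = n29796 := rfl
theorem F138789 : act 0 n29796 = n25795 := d5_1 D29796 F115787 (iv F134829)
theorem F138790 : act 2 n29796 = n25739 := d20_1 D29796 F115578 (iv F134830)
theorem F138791 : act 3 n29796 = n24075 := d26_1 D29796 (iv D24075) (iv F108183)
theorem F138792 : act 5 n29796 = n24086 := d35_1 D29796 (iv D24086) F86170 (iv F86137) (iv F108184)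
theorem F138793 : act 7 n29796 = n24651 := d39_2 D24073 D29796 (iv D24651) (iv D19453) (iv F86132)
theorem F138794 : act 9 n29796 = n24361 := d41_2 (iv F108185) D29796 (iv D24361)
def n29797 : Q := act 8 n24073
theorem D29797 : act 8 n24073 = n29797 := rfl
theorem F138795 : act 0 n29797 = n25785 := d7_1 D29797 F115755 (iv F134829)
theorem F138796 : act 2 n29797 = n25733 := d22_1 D29797 F115557 (iv F134830)
theorem F138797 : act 3 n29797 = n24076 := d28_1 D29797 (iv D24076) (iv F108183)
theorem F138798 : act 7 n29797 = n24074 := d42_1 D29797 (iv D24074) D24073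
def n29798 : Q := act 9 n24074
theorem D29798 : act 9 n24074 = n29798 := rfl
theorem F138799 : act 0 n29798 = n25777 := d8_1 D29798 F115729 (iv F134831)
theorem F138800 : act 2 n29798 = n25727 := d23_1 D29798 F115538 (iv F134832)
theorem F138801 : act 3 n29798 = n24077 := d29_1 D29798 (iv D24077) (iv F108187)
theorem F138802 : act 6 n29798 = n24653 := d41_1 D29798 (iv D24653) (iv F108188)
theorem F138803 : act 8 n29798 = n24363 := d44_1 D29798 (iv D24363) (iv D19232) (iv F86133) D24074
def n29799 : Q := act 8 n24075
theorem D29799 : act 8 n24075 = n29799 := rfl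
theorem F138804 : act 0 n29799 = n25911 := d7_1 D29799 (iv D25911) (iv F108189)
theorem F138805 : act 2 n29799 = n24175 := d22_1 D29799 (iv D24175) (iv F108190)
theorem F138806 : act 4 n29799 = n29799 := d33_1 D29799 (iv D29799) F108191
theorem F138807 : act 6 n29799 = n24076 := d40_1 D29799 (iv D24076) D24075
theorem F138808 : act 7 n29799 = n24654 := d42_1 D29799 (iv D24654) (iv F108193)
def n29800 : Q := act 9 n24076
theorem D29800 : act 9 n24076 = n29800 := rfl
theorem F138809 : act 0 n29800 = n25912 := d8_1 D29800 (iv D25912) (iv F108195)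
theorem F138810 : act 2 n29800 = n24176 := d23_1 D29800 (iv D24176) (iv F108196)
theorem F138811 : act 4 n29800 = n29800 := d34_1 D29800 (iv D29800) F108197
theorem F138812 : act 7 n29800 = n24077 := d43_1 D29800 (iv D24077) (iv F108198)
theorem F138813 : act 8 n29800 = n24365 := d44_1 D29800 (iv D24365) (iv D19234) (iv F86143) D24076
def n29801 : Q := act 5 n24078
theorem D29801 : act 5 n24078 = n29801 := rfl
theorem F138814 : act 0 n29801 = n24079 := d4_1 D29801 (iv D24079) (iv F108204)
theorem F138815 : act 1 n29801 = n24651 := d12_1 D29801 F110935 F134114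
theorem F138816 : act 3 n29801 = n24177 := d25_1 D29801 (iv D24177) (iv F108206)
theorem F138817 : act 6 n29801 = n24561 := d35_2 D24078 D29801 F110552 F87945 (iv F132948)
theorem F138818 : act 9 n29801 = n24366 := d38_2 (iv F108207) D29801 (iv D24366)
def n29802 : Q := act 4 n24079
theorem D29802 : act 4 n24079 = n29802 := rfl
theorem F138819 : act 1 n29802 = n24081 := d11_1 D29802 (iv D24081) (iv F108208)
theorem F138820 : act 3 n29802 = n29802 := d24_1 D29802 (iv D29802) F108209 F86472 (iv F108209)
theorem F138821 : act 5 n29802 = n26270 := d30_2 D24079 D29802 F117483 F93217 (iv F134281)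
theorem F138822 : act 6 n29802 = n24658 := d31_2 (iv F108210) D29802 (iv D24658)
theorem F138823 : act 9 n29802 = n24368 := d34_2 (iv F108211) D29802 (iv D24368)
def n29803 : Q := act 7 n24079
theorem D29803 : act 7 n24079 = n29803 := rfl
theorem F138824 : act 1 n29803 = n24082 := d14_1 D29803 (iv D24082) (iv F108208)
theorem F138825 : act 3 n29803 = n24179 := d27_1 D29803 (iv D24179) (iv F108209)
theorem F138826 : act 5 n29803 = n24080 := d36_1 D29803 (iv D24080) D24079
theorem F138827 : act 9 n29803 = n24369 := d43_2 (iv F108211) D29803 (iv D24369)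
def n29804 : Q := act 8 n24079
theorem D29804 : act 8 n24079 = n29804 := rfl
theorem F138828 : act 1 n29804 = n24083 := d15_1 D29804 (iv D24083) (iv F108208)
theorem F138829 : act 3 n29804 = n24180 := d28_1 D29804 (iv D24180) (iv F108209)
theorem F138830 : act 6 n29804 = n24660 := d40_1 D29804 (iv D24660) (iv F108210)
def n29805 : Q := act 7 n24081
theorem D29805 : act 7 n24081 = n29805 := rfl
theorem F138831 : act 0 n29805 = n25918 := d6_1 D29805 (iv D25918) (iv F108215)
theorem F138832 : act 2 n29805 = n24084 := d21_1 D29805 (iv D24084) (iv F108216)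
theorem F138833 : act 3 n29805 = n29805 := d27_1 D29805 (iv D29805) F108217
theorem F138834 : act 4 n29805 = n24082 := d32_1 D29805 (iv D24082) D24081
theorem F138835 : act 9 n29805 = n24371 := d43_2 (iv F108219) D29805 (iv D24371)
def n29806 : Q := act 8 n24081
theorem D29806 : act 8 n24081 = n29806 := rfl
theorem F138836 : act 0 n29806 = n25919 := d7_1 D29806 (iv D25919) (iv F108215)
theorem F138837 : act 2 n29806 = n24085 := d22_1 D29806 (iv D24085) (iv F108216)
theorem F138838 : act 3 n29806 = n29806 := d28_1 D29806 (iv D29806) F108217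
theorem F138839 : act 4 n29806 = n24083 := d33_1 D29806 (iv D24083) D24081
theorem F138840 : act 6 n29806 = n24662 := d40_1 D29806 (iv D24662) (iv F108218)
def n29807 : Q := act 6 n24082
theorem D29807 : act 6 n24082 = n29807 := rfl
theorem F138841 : act 0 n29807 = n25797 := d5_1 D29807 F134734 (iv F108220)
theorem F138842 : act 2 n29807 = n24086 := d20_1 D29807 (iv D24086) (iv F108221)
theorem F138843 : act 3 n29807 = n24181 := d26_1 D29807 (iv D24181) (iv F108222)
theorem F138844 : act 5 n29807 = n25739 := d35_1 D29807 F115578 (iv F134789) F108175 (iv F108223)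
theorem F138845 : act 7 n29807 = n24663 := d39_2 D24082 D29807 (iv D24663) (iv D19462) (iv F86158)
theorem F138846 : act 9 n29807 = n24373 := d41_2 (iv F108224) D29807 (iv D24373)
def n29808 : Q := act 8 n24082
theorem D29808 : act 8 n24082 = n29808 := rfl
theorem F138847 : act 0 n29808 = n25921 := d7_1 D29808 (iv D25921) (iv F108220)
theorem F138848 : act 2 n29808 = n24087 := d22_1 D29808 (iv D24087) (iv F108221)
theorem F138849 : act 3 n29808 = n24182 := d28_1 D29808 (iv D24182) (iv F108222)
theorem F138850 : act 7 n29808 = n24083 := d42_1 D29808 (iv D24083) D24082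
def n29809 : Q := act 9 n24083
theorem D29809 : act 9 n24083 = n29809 := rfl
theorem F138851 : act 0 n29809 = n25922 := d8_1 D29809 (iv D25922) (iv F108225)
theorem F138852 : act 2 n29809 = n24088 := d23_1 D29809 (iv D24088) (iv F108226)
theorem F138853 : act 3 n29809 = n24183 := d29_1 D29809 (iv D24183) (iv F108227)
theorem F138854 : act 6 n29809 = n24665 := d41_1 D29809 (iv D24665) (iv F108228)
theorem F138855 : act 8 n29809 = n24375 := d44_1 D29809 (iv D24375) (iv D19241) (iv F86159) D24083
def n29810 : Q := act 6 n24084
theorem D29810 : act 6 n24084 = n29810 := rfl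
theorem F138856 : act 0 n29810 = n25297 := d5_1 D29810 F134688 (iv F108229)
theorem F138857 : act 1 n29810 = n24381 := d13_1 D29810 (iv F138478) F138475
theorem F138858 : act 3 n29810 = n24091 := d26_1 D29810 (iv D24091) (iv F108230)
theorem F138859 : act 4 n29810 = n24086 := d31_1 D29810 (iv D24086) (iv F108231)
theorem F138860 : act 7 n29810 = n24316 := d39_2 D24084 D29810 F133618 (iv D19464) (iv F86166)
theorem F138861 : act 9 n29810 = n24315 := d41_2 (iv F108232) D29810 F133616
def n29811 : Q := act 8 n24084
theorem D29811 : act 8 n24084 = n29811 := rfl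
theorem F138862 : act 0 n29811 = n25924 := d7_1 D29811 (iv D25924) (iv F108229)
theorem F138863 : act 3 n29811 = n24092 := d28_1 D29811 (iv D24092) (iv F108230)
theorem F138864 : act 4 n29811 = n24087 := d33_1 D29811 (iv D24087) (iv F108231)
theorem F138865 : act 7 n29811 = n24085 := d42_1 D29811 (iv D24085) D24084
def n29812 : Q := act 5 n24085
theorem D29812 : act 5 n24085 = n29812 := rfl
theorem F138866 : act 0 n29812 = n25925 := d4_1 D29812 (iv D25925) (iv F108233)
theorem F138867 : act 3 n29812 = n24093 := d25_1 D29812 (iv D24093) (iv F108234)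
def n29813 : Q := act 8 n24086
theorem D29813 : act 8 n24086 = n29813 := rfl
theorem F138868 : act 0 n29813 = n25889 := d7_1 D29813 F116088 (iv F134767)
theorem F138869 : act 3 n29813 = n24089 := d28_1 D29813 (iv D24089) (iv F108238)
theorem F138870 : act 6 n29813 = n24087 := d40_1 D29813 (iv D24087) D24086
theorem F138871 : act 7 n29813 = n24670 := d42_1 D29813 (iv D24670) (iv F108239)
def n29814 : Q := act 9 n24087
theorem D29814 : act 9 n24087 = n29814 := rfl
theorem F138872 : act 0 n29814 = n25928 := d8_1 D29814 (iv D25928) (iv F108241)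
theorem F138873 : act 3 n29814 = n24090 := d29_1 D29814 (iv D24090) (iv F108242)
theorem F138874 : act 7 n29814 = n24088 := d43_1 D29814 (iv D24088) (iv F108243)
theorem F138875 : act 8 n29814 = n24381 := d44_1 D29814 (iv D24381) (iv D19245) (iv F86171) D24087
def n29815 : Q := act 5 n24089
theorem D29815 : act 5 n24089 = n29815 := rfl
theorem F138876 : act 0 n29815 = n25929 := d4_1 D29815 (iv D25929) (iv F108248)
theorem F138877 : act 2 n29815 = n24186 := d19_1 D29815 (iv D24186) (iv F108249)
theorem F138878 : act 7 n29815 = n24672 := d36_2 (iv F108252) D29815 (iv D24672)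
def n29816 : Q := act 5 n24091
theorem D29816 : act 5 n24091 = n29816 := rfl
theorem F138879 : act 0 n29816 = n25341 := d4_1 D29816 F114033 F134066
theorem F138880 : act 1 n29816 = n24352 := d12_1 D29816 F109522 (iv F133620)
theorem F138881 : act 2 n29816 = n29816 := d19_1 D29816 (iv D29816) F108259
theorem F138882 : act 4 n29816 = n29816 := d30_1 D29816 (iv D29816) F108260 F86200 (iv F108260)
theorem F138883 : act 7 n29816 = n24295 := d36_2 (iv F133621) D29816 F109265
theorem F138884 : act 9 n29816 = n24294 := d38_2 (iv F133622) D29816 F109260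
def n29817 : Q := act 5 n24092
theorem D29817 : act 5 n24092 = n29817 := rfl
theorem F138885 : act 0 n29817 = n25933 := d4_1 D29817 (iv D25933) (iv F108263)
theorem F138886 : act 2 n29817 = n29817 := d19_1 D29817 (iv D29817) F108264
theorem F138887 : act 7 n29817 = n24093 := d36_2 (iv F108266) D29817 (iv D24093)
def n29818 : Q := act 6 n24093
theorem D29818 : act 6 n24093 = n29818 := rfl
theorem F138888 : act 0 n29818 = n25935 := d5_1 D29818 (iv D25935) (iv F108267)
theorem F138889 : act 2 n29818 = n29818 := d20_1 D29818 (iv D29818) F108268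
theorem F138890 : act 5 n29818 = n24678 := d35_1 D29818 (iv D24678) (iv D19473) (iv F86196) D24093
def n29819 : Q := act 9 n24093
theorem D29819 : act 9 n24093 = n29819 := rfl
theorem F138891 : act 0 n29819 = n24152 := d8_1 D29819 F135017 (iv F108267)
theorem F138892 : act 1 n29819 = n24672 := d16_1 D29819 (iv F138525) F138523
theorem F138893 : act 2 n29819 = n29819 := d23_1 D29819 (iv D29819) F108268
theorem F138894 : act 5 n29819 = n24094 := d38_1 D29819 (iv D24094) D24093
def n29820 : Q := act 4 n24097
theorem D29820 : act 4 n24097 = n29820 := rfl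
theorem F138895 : act 0 n29820 = n25939 := d3_1 D29820 (iv D25939) (iv F108284)
theorem F138896 : act 2 n29820 = n24188 := d18_1 D29820 (iv D24188) (iv F108285)
theorem F138897 : act 7 n29820 = n24682 := d32_2 (iv F108286) D29820 (iv D24682)
theorem F138898 : act 8 n29820 = n29820 := d33_2 F108287 D29820 (iv D29820)
def n29821 : Q := act 1 n24099
theorem D29821 : act 1 n24099 = n29821 := rfl
theorem F138899 : act 0 n29821 = n24776 := d0_1 D29821 F111480 F88622 (iv F134325) (iv F108293)
theorem F138900 : act 2 n29821 = n29821 := d9_2 D24099 D29821 (iv D29821) (iv D24099) F86221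
theorem F138901 : act 4 n29821 = n29821 := d11_2 F108294 D29821 (iv D29821)
theorem F138902 : act 5 n29821 = n24125 := d12_2 (iv F108295) D29821 (iv D24125)
theorem F138903 : act 7 n29821 = n24565 := d14_2 F134451 D29821 F110565
theorem F138904 : act 8 n29821 = n24892 := d15_2 (iv F133799) D29821 F112086
theorem F138905 : act 9 n29821 = n24564 := d16_2 (iv F133800) D29821 F110561
def n29822 : Q := act 6 n24099
theorem D29822 : act 6 n24099 = n29822 := rfl
theorem F138906 : act 0 n29822 = n25942 := d5_1 D29822 (iv D25942) (iv F108293)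
theorem F138907 : act 2 n29822 = n24100 := d20_1 D29822 (iv D24100) D24099
theorem F138908 : act 4 n29822 = n29822 := d31_1 D29822 (iv D29822) F108294
theorem F138909 : act 8 n29822 = n24933 := d40_2 (iv F133799) D29822 F112278
theorem F138910 : act 9 n29822 = n24654 := d41_2 (iv F133800) D29822 F110946
def n29823 : Q := act 5 n24100
theorem D29823 : act 5 n24100 = n29823 := rfl
theorem F138911 : act 0 n29823 = n25943 := d4_1 D29823 (iv D25943) (iv F108299)
theorem F138912 : act 1 n29823 = n29823 := d12_1 D29823 (iv D29823) F108300
theorem F138913 : act 3 n29823 = n24101 := d25_1 D29823 (iv D24101) (iv F108301)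
theorem F138914 : act 6 n29823 = n24127 := d35_2 D24100 D29823 (iv D24127) (iv D19054) (iv F86223)
theorem F138915 : act 9 n29823 = n24770 := d38_2 (iv F135059) D29823 (iv D24770)
def n29824 : Q := act 7 n24100
theorem D29824 : act 7 n24100 = n29824 := rfl
theorem F138916 : act 0 n29824 = n25944 := d6_1 D29824 (iv D25944) (iv F108299)
theorem F138917 : act 1 n29824 = n29824 := d14_1 D29824 (iv D29824) F108300
theorem F138918 : act 3 n29824 = n24102 := d27_1 D29824 (iv D24102) (iv F108301)
theorem F138919 : act 4 n29824 = n29824 := d32_1 D29824 (iv D29824) F108302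
theorem F138920 : act 6 n29824 = n24176 := d39_1 D29824 F108643 F86463 F134478 D24100
theorem F138921 : act 8 n29824 = n24441 := d42_2 (iv F135058) D29824 F109924
theorem F138922 : act 9 n29824 = n24175 := d43_2 (iv F135059) D29824 F108639
def n29825 : Q := act 7 n24101
theorem D29825 : act 7 n24101 = n29825 := rfl
theorem F138923 : act 0 n29825 = n25945 := d6_1 D29825 (iv D25945) (iv F108305)
theorem F138924 : act 1 n29825 = n29825 := d14_1 D29825 (iv D29825) F108306
theorem F138925 : act 4 n29825 = n24107 := d32_1 D29825 (iv D24107) (iv F108307)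
theorem F138926 : act 5 n29825 = n24102 := d36_1 D29825 (iv D24102) D24101
theorem F138927 : act 9 n29825 = n25157 := d43_2 (iv F108309) D29825 (iv D25157)
def n29826 : Q := act 8 n24101
theorem D29826 : act 8 n24101 = n29826 := rfl
theorem F138928 : act 0 n29826 = n25946 := d7_1 D29826 (iv D25946) (iv F108305)
theorem F138929 : act 1 n29826 = n29826 := d15_1 D29826 (iv D29826) F108306
theorem F138930 : act 4 n29826 = n24108 := d33_1 D29826 (iv D24108) (iv F108307)
theorem F138931 : act 5 n29826 = n25201 := d37_1 D29826 F135618 (iv D22052) (iv F86230) D24101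
theorem F138932 : act 6 n29826 = n24130 := d40_1 D29826 (iv D24130) (iv F108308)
def n29827 : Q := act 6 n24103
theorem D29827 : act 6 n24103 = n29827 := rfl
theorem F138933 : act 0 n29827 = n24535 := d5_1 D29827 F110430 (iv F133648)
theorem F138934 : act 1 n29827 = n24104 := d13_1 D29827 (iv D24104) D24103
theorem F138935 : act 2 n29827 = n29827 := d20_1 D29827 (iv D29827) F108316
theorem F138936 : act 4 n29827 = n29827 := d31_1 D29827 (iv D29827) F108317
theorem F138937 : act 8 n29827 = n24484 := d40_2 (iv F133649) D29827 F110154
theorem F138938 : act 9 n29827 = n25317 := d41_2 (iv F108321) D29827 (iv D25317)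
def n29828 : Q := act 5 n24104
theorem D29828 : act 5 n24104 = n29828 := rfl
theorem F138939 : act 0 n29828 = n25769 := d4_1 D29828 F134798 (iv F108322)
theorem F138940 : act 2 n29828 = n24105 := d19_1 D29828 (iv D24105) (iv F108323)
theorem F138941 : act 6 n29828 = n24133 := d35_2 D24104 D29828 (iv D24133) (iv D19058) (iv F86241)
theorem F138942 : act 8 n29828 = n25122 := d37_2 (iv F108325) D29828 (iv D25122) F90064 (iv F134309)
theorem F138943 : act 9 n29828 = n25318 := d38_2 (iv F108326) D29828 (iv D25318)
def n29829 : Q := act 7 n24104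
theorem D29829 : act 7 n24104 = n29829 := rfl
theorem F138944 : act 0 n29829 = n25950 := d6_1 D29829 (iv D25950) (iv F108322)
theorem F138945 : act 2 n29829 = n24106 := d21_1 D29829 (iv D24106) (iv F108323)
theorem F138946 : act 4 n29829 = n29829 := d32_1 D29829 (iv D29829) F108324
theorem F138947 : act 6 n29829 = n24118 := d39_1 D29829 (iv D24118) (iv D19048) (iv F86242) D24104
theorem F138948 : act 8 n29829 = n24693 := d42_2 (iv F108325) D29829 (iv D24693)
theorem F138949 : act 9 n29829 = n25319 := d43_2 (iv F108326) D29829 (iv D25319)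
def n29830 : Q := act 7 n24105
theorem D29830 : act 7 n24105 = n29830 := rfl
theorem F138950 : act 0 n29830 = n25952 := d6_1 D29830 (iv D25952) (iv F108327)
theorem F138951 : act 1 n29830 = n29830 := d14_1 D29830 (iv D29830) F108328
theorem F138952 : act 3 n29830 = n24107 := d27_1 D29830 (iv D24107) (iv F108329)
theorem F138953 : act 5 n29830 = n24106 := d36_1 D29830 (iv D24106) D24105
theorem F138954 : act 8 n29830 = n25163 := d42_2 (iv F135407) D29830 (iv D25163)
theorem F138955 : act 9 n29830 = n25321 := d43_2 (iv F108331) D29830 (iv D25321)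
def n29831 : Q := act 6 n24107
theorem D29831 : act 6 n24107 = n29831 := rfl
theorem F138956 : act 0 n29831 = n25954 := d5_1 D29831 (iv D25954) (iv F108339)
theorem F138957 : act 1 n29831 = n29831 := d13_1 D29831 (iv D29831) F108340
theorem F138958 : act 5 n29831 = n24122 := d35_1 D29831 (iv D24122) F86302 (iv F86258) (iv F108341)
theorem F138959 : act 7 n29831 = n24138 := d39_2 D24107 D29831 (iv D24138) (iv D19061) (iv F86253)
theorem F138960 : act 9 n29831 = n25323 := d41_2 (iv F108342) D29831 (iv D25323)
def n29832 : Q := act 8 n24107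
theorem D29832 : act 8 n24107 = n29832 := rfl
theorem F138961 : act 0 n29832 = n25955 := d7_1 D29832 (iv D25955) (iv F108339)
theorem F138962 : act 1 n29832 = n29832 := d15_1 D29832 (iv D29832) F108340
theorem F138963 : act 3 n29832 = n25163 := d28_1 D29832 (iv F138954) F138952
theorem F138964 : act 5 n29832 = n24698 := d37_1 D29832 (iv D24698) F88354 (iv F86259) (iv F108341)
theorem F138965 : act 7 n29832 = n24108 := d42_1 D29832 (iv D24108) D24107
def n29833 : Q := act 5 n24110
theorem D29833 : act 5 n24110 = n29833 := rfl
theorem F138966 : act 0 n29833 = n25959 := d4_1 D29833 (iv D25959) (iv F108353)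
theorem F138967 : act 1 n29833 = n25935 := d12_1 D29833 F116230 (iv F134713)
theorem F138968 : act 2 n29833 = n24111 := d19_1 D29833 (iv D24111) (iv F108354)
theorem F138969 : act 6 n29833 = n24143 := d35_2 D24110 D29833 (iv D24143) (iv D19064) (iv F86263)
theorem F138970 : act 9 n29833 = n24117 := d38_2 (iv F108357) D29833 (iv D24117)
def n29834 : Q := act 7 n24110
theorem D29834 : act 7 n24110 = n29834 := rfl
theorem F138971 : act 0 n29834 = n25960 := d6_1 D29834 (iv D25960) (iv F108353)
theorem F138972 : act 1 n29834 = n26655 := d14_1 D29834 (iv D26655) (iv F134713)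
theorem F138973 : act 2 n29834 = n24112 := d21_1 D29834 (iv D24112) (iv F108354)
theorem F138974 : act 4 n29834 = n29834 := d32_1 D29834 (iv D29834) F108355
theorem F138975 : act 6 n29834 = n25319 := d39_1 D29834 (iv D25319) (iv D19989) (iv F86264) D24110
theorem F138976 : act 8 n29834 = n29834 := d42_2 F108356 D29834 (iv D29834)
theorem F138977 : act 9 n29834 = n24118 := d43_2 (iv F108357) D29834 (iv D24118)
def n29835 : Q := act 4 n24111
theorem D29835 : act 4 n24111 = n29835 := rfl
theorem F138978 : act 0 n29835 = n25961 := d3_1 D29835 (iv D25961) (iv F108358)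
theorem F138979 : act 1 n29835 = n29835 := d11_1 D29835 (iv D29835) F108359
theorem F138980 : act 5 n29835 = n29835 := d30_2 D24111 D29835 (iv D29835) (iv D24111) F86270
theorem F138981 : act 6 n29835 = n24145 := d31_2 (iv F108361) D29835 (iv D24145)
theorem F138982 : act 9 n29835 = n24119 := d34_2 (iv F108362) D29835 (iv D24119)
def n29836 : Q := act 7 n24111
theorem D29836 : act 7 n24111 = n29836 := rfl
theorem F138983 : act 0 n29836 = n25962 := d6_1 D29836 (iv D25962) (iv F108358)
theorem F138984 : act 1 n29836 = n29836 := d14_1 D29836 (iv D29836) F108359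
theorem F138985 : act 3 n29836 = n24113 := d27_1 D29836 (iv D24113) (iv F108360)
theorem F138986 : act 5 n29836 = n24112 := d36_1 D29836 (iv D24112) D24111
theorem F138987 : act 9 n29836 = n24120 := d43_2 (iv F108362) D29836 (iv D24120)
def n29837 : Q := act 8 n24111
theorem D29837 : act 8 n24111 = n29837 := rfl
theorem F138988 : act 0 n29837 = n25963 := d7_1 D29837 (iv D25963) (iv F108358)
theorem F138989 : act 1 n29837 = n29837 := d15_1 D29837 (iv D29837) F108359
theorem F138990 : act 3 n29837 = n24114 := d28_1 D29837 (iv D24114) (iv F108360)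
theorem F138991 : act 5 n29837 = n29837 := d37_1 D29837 (iv D29837) (iv D24111) F86271 D24111
theorem F138992 : act 6 n29837 = n24147 := d40_1 D29837 (iv D24147) (iv F108361)
def n29838 : Q := act 6 n24113
theorem D29838 : act 6 n24113 = n29838 := rfl
theorem F138993 : act 0 n29838 = n25964 := d5_1 D29838 (iv D25964) (iv F108370)
theorem F138994 : act 1 n29838 = n29838 := d13_1 D29838 (iv D29838) F108371
theorem F138995 : act 5 n29838 = n25323 := d35_1 D29838 (iv D25323) F90639 (iv F86280) (iv F108372)
theorem F138996 : act 7 n29838 = n24148 := d39_2 D24113 D29838 (iv D24148) (iv D19067) (iv F86275)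
theorem F138997 : act 9 n29838 = n24122 := d41_2 (iv F108373) D29838 (iv D24122)
def n29839 : Q := act 8 n24113
theorem D29839 : act 8 n24113 = n29839 := rfl
theorem F138998 : act 0 n29839 = n25965 := d7_1 D29839 (iv D25965) (iv F108370)
theorem F138999 : act 1 n29839 = n29839 := d15_1 D29839 (iv D29839) F108371
theorem F139000 : act 5 n29839 = n29839 := d37_1 D29839 (iv D29839) F108372 F86281 (iv F108372)
theorem F139001 : act 7 n29839 = n24114 := d42_1 D29839 (iv D24114) D24113
def n29840 : Q := act 9 n24114
theorem D29840 : act 9 n24114 = n29840 := rfl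
theorem F139002 : act 0 n29840 = n25966 := d8_1 D29840 (iv D25966) (iv F108374)
theorem F139003 : act 1 n29840 = n29840 := d16_1 D29840 (iv D29840) F108375
theorem F139004 : act 5 n29840 = n29840 := d38_1 D29840 (iv D29840) F108376
theorem F139005 : act 6 n29840 = n24150 := d41_1 D29840 (iv D24150) (iv F108377)
theorem F139006 : act 8 n29840 = n24124 := d44_1 D29840 (iv D24124) (iv D19052) (iv F86276) D24114
def n29841 : Q := act 6 n24115
theorem D29841 : act 6 n24115 = n29841 := rfl
theorem F139007 : act 0 n29841 = n24116 := d5_1 D29841 (iv D24116) D24115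
theorem F139008 : act 1 n29841 = n24641 := d13_1 D29841 F110893 F134121
theorem F139009 : act 2 n29841 = n29841 := d20_1 D29841 (iv D29841) F108379
theorem F139010 : act 4 n29841 = n29841 := d31_1 D29841 (iv D29841) F108380
theorem F139011 : act 8 n29841 = n24553 := d40_2 (iv F133659) D29841 (iv D24553)
theorem F139012 : act 9 n29841 = n24678 := d41_2 (iv F133654) D29841 (iv D24678)
def n29842 : Q := act 5 n24116
theorem D29842 : act 5 n24116 = n29842 := rfl
theorem F139013 : act 1 n29842 = n24117 := d12_1 D29842 (iv D24117) (iv F108383)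
theorem F139014 : act 2 n29842 = n29842 := d19_1 D29842 (iv D29842) F108384
theorem F139015 : act 6 n29842 = n24152 := d35_2 D24116 D29842 (iv D24152) (iv D19070) (iv F86285)
theorem F139016 : act 9 n29842 = n25935 := d38_2 (iv F135019) D29842 F116230
def n29843 : Q := act 7 n24116
theorem D29843 : act 7 n24116 = n29843 := rfl
theorem F139017 : act 1 n29843 = n24118 := d14_1 D29843 (iv D24118) (iv F108383)
theorem F139018 : act 2 n29843 = n29843 := d21_1 D29843 (iv D29843) F108384
theorem F139019 : act 4 n29843 = n29843 := d32_1 D29843 (iv D29843) F108385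
theorem F139020 : act 8 n29843 = n24702 := d42_2 (iv F108386) D29843 (iv D24702)
theorem F139021 : act 9 n29843 = n26655 := d43_2 (iv F135019) D29843 (iv D26655)
def n29844 : Q := act 4 n24117
theorem D29844 : act 4 n24117 = n29844 := rfl
theorem F139022 : act 0 n29844 = n25970 := d3_1 D29844 (iv D25970) (iv F108387)
theorem F139023 : act 2 n29844 = n24119 := d18_1 D29844 (iv D24119) (iv F108388)
theorem F139024 : act 5 n29844 = n29844 := d30_2 D24117 D29844 (iv D29844) (iv D24117) F86289
theorem F139025 : act 6 n29844 = n24154 := d31_2 (iv F108389) D29844 (iv D24154)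
def n29845 : Q := act 7 n24117
theorem D29845 : act 7 n24117 = n29845 := rfl
theorem F139026 : act 0 n29845 = n25971 := d6_1 D29845 (iv D25971) (iv F108387)
theorem F139027 : act 2 n29845 = n24120 := d21_1 D29845 (iv D24120) (iv F108388)
theorem F139028 : act 5 n29845 = n24118 := d36_1 D29845 (iv D24118) D24117
def n29846 : Q := act 8 n24117
theorem D29846 : act 8 n24117 = n29846 := rfl
theorem F139029 : act 0 n29846 = n25972 := d7_1 D29846 (iv D25972) (iv F108387)
theorem F139030 : act 2 n29846 = n24121 := d22_1 D29846 (iv D24121) (iv F108388)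
theorem F139031 : act 5 n29846 = n24705 := d37_1 D29846 (iv D24705) (iv D19491) (iv F86290) D24117
theorem F139032 : act 6 n29846 = n24156 := d40_1 D29846 (iv D24156) (iv F108389)
def n29847 : Q := act 7 n24119
theorem D29847 : act 7 n24119 = n29847 := rfl
theorem F139033 : act 0 n29847 = n25973 := d6_1 D29847 (iv D25973) (iv F108394)
theorem F139034 : act 1 n29847 = n29847 := d14_1 D29847 (iv D29847) F108395
theorem F139035 : act 4 n29847 = n24120 := d32_1 D29847 (iv D24120) D24119
theorem F139036 : act 5 n29847 = n29847 := d36_1 D29847 (iv D29847) F108396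
def n29848 : Q := act 8 n24119
theorem D29848 : act 8 n24119 = n29848 := rfl
theorem F139037 : act 0 n29848 = n25974 := d7_1 D29848 (iv D25974) (iv F108394)
theorem F139038 : act 1 n29848 = n29848 := d15_1 D29848 (iv D29848) F108395
theorem F139039 : act 4 n29848 = n24121 := d33_1 D29848 (iv D24121) D24119
theorem F139040 : act 6 n29848 = n24158 := d40_1 D29848 (iv D24158) (iv F108397)
def n29849 : Q := act 6 n24120
theorem D29849 : act 6 n24120 = n29849 := rfl
theorem F139041 : act 0 n29849 = n25975 := d5_1 D29849 (iv D25975) (iv F108398)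
theorem F139042 : act 1 n29849 = n29849 := d13_1 D29849 (iv D29849) F108399
theorem F139043 : act 3 n29849 = n24122 := d26_1 D29849 (iv D24122) (iv F108400)
theorem F139044 : act 7 n29849 = n24159 := d39_2 D24120 D29849 (iv D24159) (iv D19074) (iv F86294)
def n29850 : Q := act 8 n24120
theorem D29850 : act 8 n24120 = n29850 := rfl
theorem F139045 : act 0 n29850 = n25976 := d7_1 D29850 (iv D25976) (iv F108398)
theorem F139046 : act 1 n29850 = n29850 := d15_1 D29850 (iv D29850) F108399
theorem F139047 : act 3 n29850 = n24123 := d28_1 D29850 (iv D24123) (iv F108400)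
theorem F139048 : act 5 n29850 = n24709 := d37_1 D29850 (iv D24709) F88385 (iv F86299) (iv F108401)
theorem F139049 : act 7 n29850 = n24121 := d42_1 D29850 (iv D24121) D24120
def n29851 : Q := act 9 n24121
theorem D29851 : act 9 n24121 = n29851 := rfl
theorem F139050 : act 0 n29851 = n25977 := d8_1 D29851 (iv D25977) (iv F108402)
theorem F139051 : act 1 n29851 = n29851 := d16_1 D29851 (iv D29851) F108403
theorem F139052 : act 3 n29851 = n24124 := d29_1 D29851 (iv D24124) (iv F108404)
theorem F139053 : act 5 n29851 = n24710 := d38_1 D29851 (iv D24710) (iv F108405)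
theorem F139054 : act 6 n29851 = n24161 := d41_1 D29851 (iv D24161) (iv F108406)
def n29852 : Q := act 8 n24122
theorem D29852 : act 8 n24122 = n29852 := rfl
theorem F139055 : act 0 n29852 = n25978 := d7_1 D29852 (iv D25978) (iv F108407)
theorem F139056 : act 1 n29852 = n29852 := d15_1 D29852 (iv D29852) F108408
theorem F139057 : act 6 n29852 = n24123 := d40_1 D29852 (iv D24123) D24122
theorem F139058 : act 7 n29852 = n24162 := d42_1 D29852 (iv D24162) (iv F108409)
def n29853 : Q := act 9 n24123
theorem D29853 : act 9 n24123 = n29853 := rfl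
theorem F139059 : act 0 n29853 = n25979 := d8_1 D29853 (iv D25979) (iv F108410)
theorem F139060 : act 1 n29853 = n29853 := d16_1 D29853 (iv D29853) F108411
theorem F139061 : act 5 n29853 = n24712 := d38_1 D29853 (iv D24712) (iv F108412)
theorem F139062 : act 7 n29853 = n24124 := d43_1 D29853 (iv D24124) (iv F108413)
def n29854 : Q := act 0 n24125
theorem D29854 : act 0 n24125 = n29854 := rfl
theorem F139063 : act 1 n29854 = n24745 := d0_2 D24125 D29854 (iv F134363) (iv D20472) (iv F86307)
theorem F139064 : act 2 n29854 = n29854 := d1_2 F108418 D29854 (iv D29854)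
theorem F139065 : act 4 n29854 = n24190 := d3_2 (iv F108419) D29854 (iv D24190)
theorem F139066 : act 5 n29854 = n24776 := d4_2 F138902 D29854 (iv F138899)
theorem F139067 : act 8 n29854 = n29854 := d7_2 F108420 D29854 (iv D29854)
theorem F139068 : act 9 n29854 = n24739 := d8_2 (iv F108421) D29854 F135130
def n29855 : Q := act 6 n24125
theorem D29855 : act 6 n24125 = n29855 := rfl
theorem F139069 : act 1 n29855 = n24126 := d13_1 D29855 (iv D24126) D24125
theorem F139070 : act 2 n29855 = n29855 := d20_1 D29855 (iv D29855) F108418
theorem F139071 : act 4 n29855 = n24191 := d31_1 D29855 (iv D24191) (iv F108419)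
theorem F139072 : act 8 n29855 = n29855 := d40_2 F108420 D29855 (iv D29855)
theorem F139073 : act 9 n29855 = n25166 := d41_2 (iv F108421) D29855 (iv D25166)
def n29856 : Q := act 5 n24126
theorem D29856 : act 5 n24126 = n29856 := rfl
theorem F139074 : act 0 n29856 = n25982 := d4_1 D29856 (iv D25982) (iv F108422)
theorem F139075 : act 2 n29856 = n24127 := d19_1 D29856 (iv D24127) (iv F108423)
theorem F139076 : act 9 n29856 = n25167 := d38_2 (iv F108426) D29856 (iv D25167)
def n29857 : Q := act 7 n24126
theorem D29857 : act 7 n24126 = n29857 := rfl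
theorem F139077 : act 0 n29857 = n25983 := d6_1 D29857 (iv D25983) (iv F108422)
theorem F139078 : act 2 n29857 = n24128 := d21_1 D29857 (iv D24128) (iv F108423)
theorem F139079 : act 4 n29857 = n24193 := d32_1 D29857 (iv D24193) (iv F108424)
theorem F139080 : act 8 n29857 = n29857 := d42_2 F108425 D29857 (iv D29857)
theorem F139081 : act 9 n29857 = n25168 := d43_2 (iv F108426) D29857 (iv D25168)
def n29858 : Q := act 4 n24127
theorem D29858 : act 4 n24127 = n29858 := rfl
theorem F139082 : act 0 n29858 = n25984 := d3_1 D29858 (iv D25984) (iv F108427)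
theorem F139083 : act 1 n29858 = n29858 := d11_1 D29858 (iv D29858) F108428
theorem F139084 : act 3 n29858 = n24135 := d24_1 D29858 (iv D24135) F86338 (iv F86319) (iv F108429)
theorem F139085 : act 5 n29858 = n24194 := d30_2 D24127 D29858 (iv D24194) (iv D19103) (iv F86314)
theorem F139086 : act 9 n29858 = n25169 := d34_2 (iv F108430) D29858 (iv D25169)
theorem F139087 : act 8 n27105 = n29858 := d37_0 F139085 F135530 (iv D21423) (iv F96017) D27105
def n29859 : Q := act 7 n24127
theorem D29859 : act 7 n24127 = n29859 := rfl
theorem F139088 : act 0 n29859 = n25985 := d6_1 D29859 (iv D25985) (iv F108427)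
theorem F139089 : act 1 n29859 = n29859 := d14_1 D29859 (iv D29859) F108428
theorem F139090 : act 3 n29859 = n24129 := d27_1 D29859 (iv D24129) (iv F108429)
theorem F139091 : act 5 n29859 = n24128 := d36_1 D29859 (iv D24128) D24127
theorem F139092 : act 9 n29859 = n25170 := d43_2 (iv F108430) D29859 (iv D25170)
def n29860 : Q := act 8 n24127
theorem D29860 : act 8 n24127 = n29860 := rfl
theorem F139093 : act 0 n29860 = n25986 := d7_1 D29860 (iv D25986) (iv F108427)
theorem F139094 : act 1 n29860 = n29860 := d15_1 D29860 (iv D29860) F108428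
theorem F139095 : act 3 n29860 = n24130 := d28_1 D29860 (iv D24130) (iv F108429)
theorem F139096 : act 4 n29860 = n27105 := d33_1 D29860 F139087 (iv D29858)
theorem F139097 : act 5 n29860 = n29860 := d37_1 D29860 (iv D29860) (iv D24127) F86315 D24127
def n29861 : Q := act 6 n24129
theorem D29861 : act 6 n24129 = n29861 := rfl
theorem F139098 : act 0 n29861 = n25987 := d5_1 D29861 (iv D25987) (iv F108437)
theorem F139099 : act 1 n29861 = n29861 := d13_1 D29861 (iv D29861) F108438
theorem F139100 : act 4 n29861 = n24138 := d31_1 D29861 (iv D24138) (iv F108439)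
theorem F139101 : act 9 n29861 = n25172 := d41_2 (iv F108441) D29861 (iv D25172)
def n29862 : Q := act 8 n24129
theorem D29862 : act 8 n24129 = n29862 := rfl
theorem F139102 : act 0 n29862 = n25988 := d7_1 D29862 (iv D25988) (iv F108437)
theorem F139103 : act 1 n29862 = n29862 := d15_1 D29862 (iv D29862) F108438
theorem F139104 : act 4 n29862 = n24139 := d33_1 D29862 (iv D24139) (iv F108439)
theorem F139105 : act 5 n29862 = n29862 := d37_1 D29862 (iv D29862) F108440 F86324 (iv F108440)
theorem F139106 : act 7 n29862 = n24130 := d42_1 D29862 (iv D24130) D24129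
def n29863 : Q := act 9 n24130
theorem D29863 : act 9 n24130 = n29863 := rfl
theorem F139107 : act 0 n29863 = n25989 := d8_1 D29863 (iv D25989) (iv F108442)
theorem F139108 : act 1 n29863 = n29863 := d16_1 D29863 (iv D29863) F108443
theorem F139109 : act 4 n29863 = n24140 := d34_1 D29863 (iv D24140) (iv F108444)
theorem F139110 : act 5 n29863 = n29863 := d38_1 D29863 (iv D29863) F108445
theorem F139111 : act 8 n29863 = n25174 := d44_1 D29863 (iv D25174) (iv D19876) (iv F86320) D24130
def n29864 : Q := act 4 n24133
theorem D29864 : act 4 n24133 = n29864 := rfl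
theorem F139112 : act 0 n29864 = n25487 := d3_1 D29864 F114620 (iv F134719)
theorem F139113 : act 2 n29864 = n24135 := d18_1 D29864 (iv D24135) (iv F108458)
theorem F139114 : act 5 n29864 = n24202 := d30_2 D24133 D29864 (iv D24202) (iv D19109) (iv F86333)
theorem F139115 : act 8 n29864 = n25453 := d33_2 (iv F134720) D29864 F114474
theorem F139116 : act 9 n29864 = n25329 := d34_2 (iv F108459) D29864 (iv D25329)
def n29865 : Q := act 7 n24133
theorem D29865 : act 7 n24133 = n29865 := rfl
theorem F139117 : act 0 n29865 = n25790 := d6_1 D29865 F115768 (iv F134719)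
theorem F139118 : act 2 n29865 = n24136 := d21_1 D29865 (iv D24136) (iv F108458)
theorem F139119 : act 5 n29865 = n24134 := d36_1 D29865 (iv D24134) D24133
theorem F139120 : act 8 n29865 = n25734 := d42_2 (iv F134720) D29865 (iv D25734)
theorem F139121 : act 9 n29865 = n25330 := d43_2 (iv F108459) D29865 (iv D25330)
def n29866 : Q := act 7 n24135
theorem D29866 : act 7 n24135 = n29866 := rfl
theorem F139122 : act 0 n29866 = n25996 := d6_1 D29866 (iv D25996) (iv F108466)
theorem F139123 : act 1 n29866 = n29866 := d14_1 D29866 (iv D29866) F108467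
theorem F139124 : act 4 n29866 = n24136 := d32_1 D29866 (iv D24136) D24135
theorem F139125 : act 5 n29866 = n24205 := d36_1 D29866 (iv D24205) (iv F108468)
theorem F139126 : act 8 n29866 = n27107 := d42_2 (iv F135406) D29866 (iv D27107)
theorem F139127 : act 9 n29866 = n25332 := d43_2 (iv F108469) D29866 (iv D25332)
def n29867 : Q := act 6 n24136
theorem D29867 : act 6 n24136 = n29867 := rfl
theorem F139128 : act 0 n29867 = n25998 := d5_1 D29867 (iv D25998) (iv F108470)
theorem F139129 : act 1 n29867 = n29867 := d13_1 D29867 (iv D29867) F108471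
theorem F139130 : act 3 n29867 = n24138 := d26_1 D29867 (iv D24138) (iv F108472)
theorem F139131 : act 5 n29867 = n24159 := d35_1 D29867 (iv D24159) F86402 (iv F86344) (iv F108473)
theorem F139132 : act 8 n29867 = n27395 := d40_2 (iv F135364) D29867 (iv D27395)
theorem F139133 : act 9 n29867 = n25334 := d41_2 (iv F108474) D29867 (iv D25334)
def n29868 : Q := act 8 n24138
theorem D29868 : act 8 n24138 = n29868 := rfl
theorem F139134 : act 0 n29868 = n26001 := d7_1 D29868 (iv D26001) (iv F108479)
theorem F139135 : act 1 n29868 = n29868 := d15_1 D29868 (iv D29868) F108480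
theorem F139136 : act 3 n29868 = n27395 := d28_1 D29868 (iv F139132) F139130
theorem F139137 : act 6 n29868 = n24139 := d40_1 D29868 (iv D24139) D24138
def n29869 : Q := act 9 n24139
theorem D29869 : act 9 n24139 = n29869 := rfl
theorem F139138 : act 0 n29869 = n26002 := d8_1 D29869 (iv D26002) (iv F108483)
theorem F139139 : act 1 n29869 = n29869 := d16_1 D29869 (iv D29869) F108484
theorem F139140 : act 3 n29869 = n27386 := d29_1 D29869 F122182 (iv F135397)
theorem F139141 : act 5 n29869 = n24176 := d38_1 D29869 (iv D24176) (iv F108485)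
theorem F139142 : act 7 n29869 = n24140 := d43_1 D29869 (iv D24140) (iv F108486)
theorem F139143 : act 8 n29869 = n25338 := d44_1 D29869 (iv D25338) (iv D20002) (iv F86350) D24139
def n29870 : Q := act 4 n24143
theorem D29870 : act 4 n24143 = n29870 := rfl
theorem F139144 : act 0 n29870 = n26006 := d3_1 D29870 (iv D26006) (iv F108502)
theorem F139145 : act 1 n29870 = n25575 := d11_1 D29870 F114921 (iv F134809)
theorem F139146 : act 2 n29870 = n24145 := d18_1 D29870 (iv D24145) (iv F108503)
theorem F139147 : act 5 n29870 = n24213 := d30_2 D24143 D29870 (iv D24213) (iv D19118) (iv F86361)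
theorem F139148 : act 9 n29870 = n24154 := d34_2 (iv F108504) D29870 (iv D24154)
def n29871 : Q := act 7 n24143
theorem D29871 : act 7 n24143 = n29871 := rfl
theorem F139149 : act 0 n29871 = n26007 := d6_1 D29871 (iv D26007) (iv F108502)
theorem F139150 : act 1 n29871 = n25933 := d14_1 D29871 F116224 (iv F134809)
theorem F139151 : act 2 n29871 = n24146 := d21_1 D29871 (iv D24146) (iv F108503)
theorem F139152 : act 5 n29871 = n24144 := d36_1 D29871 (iv D24144) D24143
theorem F139153 : act 9 n29871 = n24155 := d43_2 (iv F108504) D29871 (iv D24155)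
def n29872 : Q := act 8 n24143
theorem D29872 : act 8 n24143 = n29872 := rfl
theorem F139154 : act 0 n29872 = n26008 := d7_1 D29872 (iv D26008) (iv F108502)
theorem F139155 : act 1 n29872 = n25310 := d15_1 D29872 F113934 (iv F134809)
theorem F139156 : act 2 n29872 = n24147 := d22_1 D29872 (iv D24147) (iv F108503)
theorem F139157 : act 5 n29872 = n24398 := d37_1 D29872 (iv D24398) (iv D19259) (iv F86362) D24143
def n29873 : Q := act 7 n24145
theorem D29873 : act 7 n24145 = n29873 := rfl
theorem F139158 : act 0 n29873 = n26009 := d6_1 D29873 (iv D26009) (iv F108511)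
theorem F139159 : act 1 n29873 = n29873 := d14_1 D29873 (iv D29873) F108512
theorem F139160 : act 4 n29873 = n24146 := d32_1 D29873 (iv D24146) D24145
theorem F139161 : act 5 n29873 = n24216 := d36_1 D29873 (iv D24216) (iv F108513)
theorem F139162 : act 9 n29873 = n24157 := d43_2 (iv F108514) D29873 (iv D24157)
def n29874 : Q := act 8 n24145
theorem D29874 : act 8 n24145 = n29874 := rfl
theorem F139163 : act 0 n29874 = n26010 := d7_1 D29874 (iv D26010) (iv F108511)
theorem F139164 : act 1 n29874 = n29874 := d15_1 D29874 (iv D29874) F108512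
theorem F139165 : act 4 n29874 = n24147 := d33_1 D29874 (iv D24147) D24145
theorem F139166 : act 5 n29874 = n27286 := d37_1 D29874 F121714 F108860 (iv D24217) (iv F108513)
def n29875 : Q := act 6 n24146
theorem D29875 : act 6 n24146 = n29875 := rfl
theorem F139167 : act 0 n29875 = n26011 := d5_1 D29875 (iv D26011) (iv F108515)
theorem F139168 : act 1 n29875 = n29875 := d13_1 D29875 (iv D29875) F108516
theorem F139169 : act 3 n29875 = n24148 := d26_1 D29875 (iv D24148) (iv F108517)
theorem F139170 : act 5 n29875 = n25334 := d35_1 D29875 (iv D25334) F90658 (iv F86372) (iv F108518)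
theorem F139171 : act 9 n29875 = n24159 := d41_2 (iv F108519) D29875 (iv D24159)
def n29876 : Q := act 8 n24146
theorem D29876 : act 8 n24146 = n29876 := rfl
theorem F139172 : act 0 n29876 = n26012 := d7_1 D29876 (iv D26012) (iv F108515)
theorem F139173 : act 1 n29876 = n29876 := d15_1 D29876 (iv D29876) F108516
theorem F139174 : act 3 n29876 = n24149 := d28_1 D29876 (iv D24149) (iv F108517)
theorem F139175 : act 5 n29876 = n24402 := d37_1 D29876 (iv D24402) F87288 (iv F86373) (iv F108518)
theorem F139176 : act 7 n29876 = n24147 := d42_1 D29876 (iv D24147) D24146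
def n29877 : Q := act 9 n24147
theorem D29877 : act 9 n24147 = n29877 := rfl
theorem F139177 : act 0 n29877 = n26013 := d8_1 D29877 (iv D26013) (iv F108520)
theorem F139178 : act 1 n29877 = n29877 := d16_1 D29877 (iv D29877) F108521
theorem F139179 : act 3 n29877 = n24150 := d29_1 D29877 (iv D24150) (iv F108522)
theorem F139180 : act 5 n29877 = n24403 := d38_1 D29877 (iv D24403) (iv F108523)
theorem F139181 : act 8 n29877 = n24161 := d44_1 D29877 (iv D24161) (iv D19075) (iv F86367) D24147
def n29878 : Q := act 8 n24148
theorem D29878 : act 8 n24148 = n29878 := rfl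
theorem F139182 : act 0 n29878 = n26014 := d7_1 D29878 (iv D26014) (iv F108524)
theorem F139183 : act 1 n29878 = n29878 := d15_1 D29878 (iv D29878) F108525
theorem F139184 : act 6 n29878 = n24149 := d40_1 D29878 (iv D24149) D24148
def n29879 : Q := act 9 n24149
theorem D29879 : act 9 n24149 = n29879 := rfl
theorem F139185 : act 0 n29879 = n26015 := d8_1 D29879 (iv D26015) (iv F108528)
theorem F139186 : act 1 n29879 = n29879 := d16_1 D29879 (iv D29879) F108529
theorem F139187 : act 5 n29879 = n24405 := d38_1 D29879 (iv D24405) (iv F108530)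
theorem F139188 : act 7 n29879 = n24150 := d43_1 D29879 (iv D24150) (iv F108531)
theorem F139189 : act 8 n29879 = n24163 := d44_1 D29879 (iv D24163) (iv D19077) (iv F86378) D24149
def n29880 : Q := act 4 n24152
theorem D29880 : act 4 n24152 = n29880 := rfl
theorem F139190 : act 1 n29880 = n24154 := d11_1 D29880 (iv D24154) (iv F108541)
theorem F139191 : act 2 n29880 = n29880 := d18_1 D29880 (iv D29880) F108542
theorem F139192 : act 5 n29880 = n24223 := d30_2 D24152 D29880 (iv D24223) (iv D19126) (iv F86388)
theorem F139193 : act 9 n29880 = n25575 := d34_2 (iv F135017) D29880 F114921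
def n29881 : Q := act 7 n24152
theorem D29881 : act 7 n24152 = n29881 := rfl
theorem F139194 : act 1 n29881 = n24155 := d14_1 D29881 (iv D24155) (iv F108541)
theorem F139195 : act 2 n29881 = n29881 := d21_1 D29881 (iv D29881) F108542
theorem F139196 : act 5 n29881 = n24153 := d36_1 D29881 (iv D24153) D24152
theorem F139197 : act 9 n29881 = n25933 := d43_2 (iv F135017) D29881 F116224
def n29882 : Q := act 8 n24152
theorem D29882 : act 8 n24152 = n29882 := rfl
theorem F139198 : act 1 n29882 = n24156 := d15_1 D29882 (iv D24156) (iv F108541)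
theorem F139199 : act 2 n29882 = n29882 := d22_1 D29882 (iv D29882) F108542
theorem F139200 : act 5 n29882 = n24180 := d37_1 D29882 (iv D24180) (iv D19090) (iv F86389) D24152
def n29883 : Q := act 3 n24154
theorem D29883 : act 3 n24154 = n29883 := rfl
theorem F139201 : act 0 n29883 = n26021 := d2_1 D29883 (iv D26021) (iv F108547)
theorem F139202 : act 5 n29883 = n24225 := d25_2 (iv F108549) D29883 (iv D24225)
def n29884 : Q := act 7 n24154
theorem D29884 : act 7 n24154 = n29884 := rfl
theorem F139203 : act 0 n29884 = n26022 := d6_1 D29884 (iv D26022) (iv F108547)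
theorem F139204 : act 2 n29884 = n24157 := d21_1 D29884 (iv D24157) (iv F108548)
theorem F139205 : act 4 n29884 = n24155 := d32_1 D29884 (iv D24155) D24154
theorem F139206 : act 5 n29884 = n24226 := d36_1 D29884 (iv D24226) (iv F108549)
def n29885 : Q := act 8 n24154
theorem D29885 : act 8 n24154 = n29885 := rfl
theorem F139207 : act 0 n29885 = n26023 := d7_1 D29885 (iv D26023) (iv F108547)
theorem F139208 : act 2 n29885 = n24158 := d22_1 D29885 (iv D24158) (iv F108548)
theorem F139209 : act 4 n29885 = n24156 := d33_1 D29885 (iv D24156) D24154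
theorem F139210 : act 5 n29885 = n29885 := d37_1 D29885 (iv D29885) F108549 F86673 (iv F108549)
def n29886 : Q := act 6 n24155
theorem D29886 : act 6 n24155 = n29886 := rfl
theorem F139211 : act 0 n29886 = n26024 := d5_1 D29886 (iv D26024) (iv F108550)
theorem F139212 : act 2 n29886 = n24159 := d20_1 D29886 (iv D24159) (iv F108551)
def n29887 : Q := act 8 n24155
theorem D29887 : act 8 n24155 = n29887 := rfl
theorem F139213 : act 0 n29887 = n26025 := d7_1 D29887 (iv D26025) (iv F108550)
theorem F139214 : act 2 n29887 = n24160 := d22_1 D29887 (iv D24160) (iv F108551)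
theorem F139215 : act 5 n29887 = n24182 := d37_1 D29887 (iv D24182) F86482 (iv F86395) (iv F108552)
theorem F139216 : act 7 n29887 = n24156 := d42_1 D29887 (iv D24156) D24155
def n29888 : Q := act 9 n24156
theorem D29888 : act 9 n24156 = n29888 := rfl
theorem F139217 : act 0 n29888 = n26026 := d8_1 D29888 (iv D26026) (iv F108553)
theorem F139218 : act 2 n29888 = n24161 := d23_1 D29888 (iv D24161) (iv F108554)
theorem F139219 : act 5 n29888 = n24183 := d38_1 D29888 (iv D24183) (iv F108555)
def n29889 : Q := act 6 n24157
theorem D29889 : act 6 n24157 = n29889 := rfl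
theorem F139220 : act 0 n29889 = n26027 := d5_1 D29889 (iv D26027) (iv F108556)
theorem F139221 : act 1 n29889 = n29889 := d13_1 D29889 (iv D29889) F108557
theorem F139222 : act 4 n29889 = n24159 := d31_1 D29889 (iv D24159) (iv F108558)
def n29890 : Q := act 8 n24157
theorem D29890 : act 8 n24157 = n29890 := rfl
theorem F139223 : act 0 n29890 = n26028 := d7_1 D29890 (iv D26028) (iv F108556)
theorem F139224 : act 1 n29890 = n29890 := d15_1 D29890 (iv D29890) F108557
theorem F139225 : act 4 n29890 = n24160 := d33_1 D29890 (iv D24160) (iv F108558)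
theorem F139226 : act 5 n29890 = n29890 := d37_1 D29890 (iv D29890) F108559 F86681 (iv F108559)
theorem F139227 : act 7 n29890 = n24158 := d42_1 D29890 (iv D24158) D24157
def n29891 : Q := act 9 n24158
theorem D29891 : act 9 n24158 = n29891 := rfl
theorem F139228 : act 0 n29891 = n26029 := d8_1 D29891 (iv D26029) (iv F108560)
theorem F139229 : act 1 n29891 = n29891 := d16_1 D29891 (iv D29891) F108561
theorem F139230 : act 4 n29891 = n24161 := d34_1 D29891 (iv D24161) (iv F108562)
theorem F139231 : act 5 n29891 = n29891 := d38_1 D29891 (iv D29891) F108563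
def n29892 : Q := act 8 n24159
theorem D29892 : act 8 n24159 = n29892 := rfl
theorem F139232 : act 0 n29892 = n26030 := d7_1 D29892 (iv D26030) (iv F108564)
theorem F139233 : act 1 n29892 = n29892 := d15_1 D29892 (iv D29892) F108565
theorem F139234 : act 3 n29892 = n24162 := d28_1 D29892 (iv D24162) (iv F108566)
theorem F139235 : act 6 n29892 = n24160 := d40_1 D29892 (iv D24160) D24159
def n29893 : Q := act 9 n24160
theorem D29893 : act 9 n24160 = n29893 := rfl
theorem F139236 : act 0 n29893 = n26031 := d8_1 D29893 (iv D26031) (iv F108567)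
theorem F139237 : act 1 n29893 = n29893 := d16_1 D29893 (iv D29893) F108568
theorem F139238 : act 3 n29893 = n24163 := d29_1 D29893 (iv D24163) (iv F108569)
theorem F139239 : act 5 n29893 = n24185 := d38_1 D29893 (iv D24185) (iv F108570)
theorem F139240 : act 7 n29893 = n24161 := d43_1 D29893 (iv D24161) (iv F108571)
def n29894 : Q := act 5 n24162
theorem D29894 : act 5 n24162 = n29894 := rfl

end Cfsg.Agent.Helper17.SP6TC
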