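import Cfsg.Agent.Helper17.SP6TC.Final

set_option autoImplicit false
set_option linter.all false
set_option maxRecDepth 100000

noncomputable section

namespace Cfsg.Agent.Helper17.SP6TC

theorem N1 : nd 1 = n1 := ndS (p := 0) (l := 9) rfl N0 D1
theorem N2 : nd 2 = n2 := ndS (p := 1) (l := 8) rfl N1 D2
theorem N3 : nd 3 = n3 := ndS (p := 2) (l := 5) rfl N2 D3
theorem N4 : nd 4 = n4 := ndS (p := 3) (l := 4) rfl N3 D4
theorem N5 : nd 5 = n5 := ndS (p := 3) (l := 6) rfl N3 D5
theorem N6 : nd 6 = n6 := ndS (p := 4) (l := 3) rfl N4 D6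
theorem N7 : nd 7 = n7 := ndS (p := 4) (l := 6) rfl N4 D7
theorem N8 : nd 8 = n8 := ndS (p := 5) (l := 7) rfl N5 D8
theorem N9 : nd 9 = n9 := ndS (p := 6) (l := 2) rfl N6 D9
theorem N10 : nd 10 = n10 := ndS (p := 6) (l := 6) rfl N6 D10
theorem N11 : nd 11 = n11 := ndS (p := 7) (l := 5) rfl N7 D11
theorem N12 : nd 12 = n12 := ndS (p := 7) (l := 7) rfl N7 D12
theorem N13 : nd 13 = n13 := ndS (p := 9) (l := 1) rfl N9 D13
theorem N14 : nd 14 = n14 := ndS (p := 9) (l := 6) rfl N9 D14
theorem N15 : nd 15 = n15 := ndS (p := 10) (l := 5) rfl N10 D15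
theorem N16 : nd 16 = n16 := ndS (p := 10) (l := 7) rfl N10 D16
theorem N17 : nd 17 = n17 := ndS (p := 11) (l := 7) rfl N11 D17
theorem N18 : nd 18 = n18 := ndS (p := 11) (l := 8) rfl N11 D18
theorem N19 : nd 19 = n19 := ndS (p := 13) (l := 0) rfl N13 D19
theorem N20 : nd 20 = n20 := ndS (p := 13) (l := 6) rfl N13 D20
theorem N21 : nd 21 = n21 := ndS (p := 14) (l := 5) rfl N14 D21
theorem N22 : nd 22 = n22 := ndS (p := 14) (l := 7) rfl N14 D22
theorem N23 : nd 23 = n23 := ndS (p := 15) (l := 4) rfl N15 D23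
theorem N24 : nd 24 = n24 := ndS (p := 15) (l := 7) rfl N15 D24
theorem N25 : nd 25 = n25 := ndS (p := 15) (l := 8) rfl N15 D25
theorem N26 : nd 26 = n26 := ndS (p := 17) (l := 6) rfl N17 D26
theorem N27 : nd 27 = n27 := ndS (p := 17) (l := 8) rfl N17 D27
theorem N28 : nd 28 = n28 := ndS (p := 18) (l := 9) rfl N18 D28
theorem N29 : nd 29 = n29 := ndS (p := 19) (l := 6) rfl N19 D29
theorem N30 : nd 30 = n30 := ndS (p := 20) (l := 5) rfl N20 D30
theorem N31 : nd 31 = n31 := ndS (p := 20) (l := 7) rfl N20 D31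
theorem N32 : nd 32 = n32 := ndS (p := 21) (l := 4) rfl N21 D32
theorem N33 : nd 33 = n33 := ndS (p := 21) (l := 7) rfl N21 D33
theorem N34 : nd 34 = n34 := ndS (p := 21) (l := 8) rfl N21 D34
theorem N35 : nd 35 = n35 := ndS (p := 23) (l := 7) rfl N23 D35
theorem N36 : nd 36 = n36 := ndS (p := 23) (l := 8) rfl N23 D36
theorem N37 : nd 37 = n37 := ndS (p := 24) (l := 6) rfl N24 D37
theorem N38 : nd 38 = n38 := ndS (p := 24) (l := 8) rfl N24 D38
theorem N39 : nd 39 = n39 := ndS (p := 25) (l := 9) rfl N25 D39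
theorem N40 : nd 40 = n40 := ndS (p := 26) (l := 8) rfl N26 D40
theorem N41 : nd 41 = n41 := ndS (p := 27) (l := 9) rfl N27 D41
theorem N42 : nd 42 = n42 := ndS (p := 29) (l := 5) rfl N29 D42
theorem N43 : nd 43 = n43 := ndS (p := 29) (l := 7) rfl N29 D43
theorem N44 : nd 44 = n44 := ndS (p := 30) (l := 4) rfl N30 D44
theorem N45 : nd 45 = n45 := ndS (p := 30) (l := 7) rfl N30 D45
theorem N46 : nd 46 = n46 := ndS (p := 30) (l := 8) rfl N30 D46
theorem N47 : nd 47 = n47 := ndS (p := 32) (l := 3) rfl N32 D47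
theorem N48 : nd 48 = n48 := ndS (p := 32) (l := 7) rfl N32 D48
theorem N49 : nd 49 = n49 := ndS (p := 32) (l := 8) rfl N32 D49
theorem N50 : nd 50 = n50 := ndS (p := 33) (l := 6) rfl N33 D50
theorem N51 : nd 51 = n51 := ndS (p := 33) (l := 8) rfl N33 D51
theorem N52 : nd 52 = n52 := ndS (p := 34) (l := 9) rfl N34 D52
theorem N53 : nd 53 = n53 := ndS (p := 35) (l := 6) rfl N35 D53
theorem N54 : nd 54 = n54 := ndS (p := 35) (l := 8) rfl N35 D54
theorem N55 : nd 55 = n55 := ndS (p := 36) (l := 5) rfl N36 D55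
theorem N56 : nd 56 = n56 := ndS (p := 36) (l := 9) rfl N36 D56
theorem N57 : nd 57 = n57 := ndS (p := 37) (l := 8) rfl N37 D57
theorem N58 : nd 58 = n58 := ndS (p := 38) (l := 9) rfl N38 D58
theorem N59 : nd 59 = n59 := ndS (p := 40) (l := 5) rfl N40 D59
theorem N60 : nd 60 = n60 := ndS (p := 40) (l := 9) rfl N40 D60
theorem N61 : nd 61 = n61 := ndS (p := 42) (l := 4) rfl N42 D61
theorem N62 : nd 62 = n62 := ndS (p := 42) (l := 7) rfl N42 D62
theorem N63 : nd 63 = n63 := ndS (p := 42) (l := 8) rfl N42 D63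
theorem N64 : nd 64 = n64 := ndS (p := 44) (l := 3) rfl N44 D64
theorem N65 : nd 65 = n65 := ndS (p := 44) (l := 7) rfl N44 D65
theorem N66 : nd 66 = n66 := ndS (p := 44) (l := 8) rfl N44 D66
theorem N67 : nd 67 = n67 := ndS (p := 45) (l := 6) rfl N45 D67
theorem N68 : nd 68 = n68 := ndS (p := 45) (l := 8) rfl N45 D68
theorem N69 : nd 69 = n69 := ndS (p := 46) (l := 9) rfl N46 D69
theorem N70 : nd 70 = n70 := ndS (p := 47) (l := 7) rfl N47 D70
theorem N71 : nd 71 = n71 := ndS (p := 47) (l := 8) rfl N47 D71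
theorem N72 : nd 72 = n72 := ndS (p := 48) (l := 6) rfl N48 D72
theorem N73 : nd 73 = n73 := ndS (p := 48) (l := 8) rfl N48 D73
theorem N74 : nd 74 = n74 := ndS (p := 49) (l := 5) rfl N49 D74
theorem N75 : nd 75 = n75 := ndS (p := 49) (l := 9) rfl N49 D75
theorem N76 : nd 76 = n76 := ndS (p := 50) (l := 8) rfl N50 D76
theorem N77 : nd 77 = n77 := ndS (p := 51) (l := 9) rfl N51 D77
theorem N78 : nd 78 = n78 := ndS (p := 53) (l := 5) rfl N53 D78
theorem N79 : nd 79 = n79 := ndS (p := 53) (l := 8) rfl N53 D79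
theorem N80 : nd 80 = n80 := ndS (p := 54) (l := 5) rfl N54 D80
theorem N81 : nd 81 = n81 := ndS (p := 54) (l := 9) rfl N54 D81
theorem N82 : nd 82 = n82 := ndS (p := 55) (l := 6) rfl N55 D82
theorem N83 : nd 83 = n83 := ndS (p := 55) (l := 9) rfl N55 D83
theorem N84 : nd 84 = n84 := ndS (p := 57) (l := 5) rfl N57 D84
theorem N85 : nd 85 = n85 := ndS (p := 57) (l := 9) rfl N57 D85
theorem N86 : nd 86 = n86 := ndS (p := 59) (l := 4) rfl N59 D86
theorem N87 : nd 87 = n87 := ndS (p := 59) (l := 9) rfl N59 D87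
theorem N88 : nd 88 = n88 := ndS (p := 61) (l := 3) rfl N61 D88
theorem N89 : nd 89 = n89 := ndS (p := 61) (l := 7) rfl N61 D89
theorem N90 : nd 90 = n90 := ndS (p := 61) (l := 8) rfl N61 D90
theorem N91 : nd 91 = n91 := ndS (p := 62) (l := 6) rfl N62 D91
theorem N92 : nd 92 = n92 := ndS (p := 62) (l := 8) rfl N62 D92
theorem N93 : nd 93 = n93 := ndS (p := 63) (l := 9) rfl N63 D93
theorem N94 : nd 94 = n94 := ndS (p := 64) (l := 2) rfl N64 D94
theorem N95 : nd 95 = n95 := ndS (p := 64) (l := 7) rfl N64 D95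
theorem N96 : nd 96 = n96 := ndS (p := 64) (l := 8) rfl N64 D96
theorem N97 : nd 97 = n97 := ndS (p := 65) (l := 6) rfl N65 D97
theorem N98 : nd 98 = n98 := ndS (p := 65) (l := 8) rfl N65 D98
theorem N99 : nd 99 = n99 := ndS (p := 66) (l := 5) rfl N66 D99
theorem N100 : nd 100 = n100 := ndS (p := 66) (l := 9) rfl N66 D100
theorem N101 : nd 101 = n101 := ndS (p := 67) (l := 8) rfl N67 D101
theorem N102 : nd 102 = n102 := ndS (p := 68) (l := 9) rfl N68 D102
theorem N103 : nd 103 = n103 := ndS (p := 70) (l := 6) rfl N70 D103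
theorem N104 : nd 104 = n104 := ndS (p := 70) (l := 8) rfl N70 D104
theorem N105 : nd 105 = n105 := ndS (p := 71) (l := 5) rfl N71 D105
theorem N106 : nd 106 = n106 := ndS (p := 71) (l := 9) rfl N71 D106
theorem N107 : nd 107 = n107 := ndS (p := 72) (l := 5) rfl N72 D107
theorem N108 : nd 108 = n108 := ndS (p := 72) (l := 8) rfl N72 D108
theorem N109 : nd 109 = n109 := ndS (p := 73) (l := 5) rfl N73 D109
theorem N110 : nd 110 = n110 := ndS (p := 73) (l := 9) rfl N73 D110
theorem N111 : nd 111 = n111 := ndS (p := 74) (l := 6) rfl N74 D111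
theorem N112 : nd 112 = n112 := ndS (p := 74) (l := 9) rfl N74 D112
theorem N113 : nd 113 = n113 := ndS (p := 76) (l := 5) rfl N76 D113
theorem N114 : nd 114 = n114 := ndS (p := 76) (l := 9) rfl N76 D114
theorem N115 : nd 115 = n115 := ndS (p := 78) (l := 8) rfl N78 D115
theorem N116 : nd 116 = n116 := ndS (p := 79) (l := 5) rfl N79 D116
theorem N117 : nd 117 = n117 := ndS (p := 79) (l := 9) rfl N79 D117
theorem N118 : nd 118 = n118 := ndS (p := 80) (l := 6) rfl N80 D118
theorem N119 : nd 119 = n119 := ndS (p := 80) (l := 9) rfl N80 D119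
theorem N120 : nd 120 = n120 := ndS (p := 82) (l := 7) rfl N82 D120
theorem N121 : nd 121 = n121 := ndS (p := 82) (l := 9) rfl N82 D121
theorem N122 : nd 122 = n122 := ndS (p := 83) (l := 8) rfl N83 D122
theorem N123 : nd 123 = n123 := ndS (p := 84) (l := 4) rfl N84 D123
theorem N124 : nd 124 = n124 := ndS (p := 84) (l := 9) rfl N84 D124
theorem N125 : nd 125 = n125 := ndS (p := 86) (l := 3) rfl N86 D125
theorem N126 : nd 126 = n126 := ndS (p := 86) (l := 9) rfl N86 D126
theorem N127 : nd 127 = n127 := ndS (p := 87) (l := 8) rfl N87 D127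
theorem N128 : nd 128 = n128 := ndS (p := 88) (l := 2) rfl N88 D128
theorem N129 : nd 129 = n129 := ndS (p := 88) (l := 7) rfl N88 D129
theorem N130 : nd 130 = n130 := ndS (p := 88) (l := 8) rfl N88 D130
theorem N131 : nd 131 = n131 := ndS (p := 89) (l := 6) rfl N89 D131
theorem N132 : nd 132 = n132 := ndS (p := 89) (l := 8) rfl N89 D132
theorem N133 : nd 133 = n133 := ndS (p := 90) (l := 5) rfl N90 D133
theorem N134 : nd 134 = n134 := ndS (p := 90) (l := 9) rfl N90 D134
theorem N135 : nd 135 = n135 := ndS (p := 91) (l := 8) rfl N91 D135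
theorem N136 : nd 136 = n136 := ndS (p := 92) (l := 9) rfl N92 D136
theorem N137 : nd 137 = n137 := ndS (p := 94) (l := 7) rfl N94 D137
theorem N138 : nd 138 = n138 := ndS (p := 94) (l := 8) rfl N94 D138
theorem N139 : nd 139 = n139 := ndS (p := 95) (l := 6) rfl N95 D139
theorem N140 : nd 140 = n140 := ndS (p := 95) (l := 8) rfl N95 D140
theorem N141 : nd 141 = n141 := ndS (p := 96) (l := 5) rfl N96 D141
theorem N142 : nd 142 = n142 := ndS (p := 96) (l := 9) rfl N96 D142
theorem N143 : nd 143 = n143 := ndS (p := 97) (l := 5) rfl N97 D143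
theorem N144 : nd 144 = n144 := ndS (p := 97) (l := 8) rfl N97 D144
theorem N145 : nd 145 = n145 := ndS (p := 98) (l := 5) rfl N98 D145
theorem N146 : nd 146 = n146 := ndS (p := 98) (l := 9) rfl N98 D146
theorem N147 : nd 147 = n147 := ndS (p := 99) (l := 6) rfl N99 D147
theorem N148 : nd 148 = n148 := ndS (p := 99) (l := 9) rfl N99 D148
theorem N149 : nd 149 = n149 := ndS (p := 101) (l := 5) rfl N101 D149
theorem N150 : nd 150 = n150 := ndS (p := 101) (l := 9) rfl N101 D150
theorem N151 : nd 151 = n151 := ndS (p := 103) (l := 5) rfl N103 D151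
theorem N152 : nd 152 = n152 := ndS (p := 103) (l := 8) rfl N103 D152
theorem N153 : nd 153 = n153 := ndS (p := 104) (l := 5) rfl N104 D153
theorem N154 : nd 154 = n154 := ndS (p := 104) (l := 9) rfl N104 D154
theorem N155 : nd 155 = n155 := ndS (p := 105) (l := 4) rfl N105 D155
theorem N156 : nd 156 = n156 := ndS (p := 105) (l := 6) rfl N105 D156
theorem N157 : nd 157 = n157 := ndS (p := 105) (l := 9) rfl N105 D157
theorem N158 : nd 158 = n158 := ndS (p := 107) (l := 8) rfl N107 D158
theorem N159 : nd 159 = n159 := ndS (p := 108) (l := 5) rfl N108 D159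
theorem N160 : nd 160 = n160 := ndS (p := 108) (l := 9) rfl N108 D160
theorem N161 : nd 161 = n161 := ndS (p := 109) (l := 6) rfl N109 D161
theorem N162 : nd 162 = n162 := ndS (p := 109) (l := 9) rfl N109 D162
theorem N163 : nd 163 = n163 := ndS (p := 111) (l := 7) rfl N111 D163
theorem N164 : nd 164 = n164 := ndS (p := 111) (l := 9) rfl N111 D164
theorem N165 : nd 165 = n165 := ndS (p := 112) (l := 8) rfl N112 D165
theorem N166 : nd 166 = n166 := ndS (p := 113) (l := 4) rfl N113 D166
theorem N167 : nd 167 = n167 := ndS (p := 113) (l := 9) rfl N113 D167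
theorem N168 : nd 168 = n168 := ndS (p := 115) (l := 5) rfl N115 D168
theorem N169 : nd 169 = n169 := ndS (p := 115) (l := 9) rfl N115 D169
theorem N170 : nd 170 = n170 := ndS (p := 116) (l := 4) rfl N116 D170
theorem N171 : nd 171 = n171 := ndS (p := 116) (l := 6) rfl N116 D171
theorem N172 : nd 172 = n172 := ndS (p := 116) (l := 9) rfl N116 D172
theorem N173 : nd 173 = n173 := ndS (p := 118) (l := 7) rfl N118 D173
theorem N174 : nd 174 = n174 := ndS (p := 118) (l := 9) rfl N118 D174
theorem N175 : nd 175 = n175 := ndS (p := 119) (l := 8) rfl N119 D175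
theorem N176 : nd 176 = n176 := ndS (p := 120) (l := 9) rfl N120 D176
theorem N177 : nd 177 = n177 := ndS (p := 121) (l := 8) rfl N121 D177
theorem N178 : nd 178 = n178 := ndS (p := 123) (l := 3) rfl N123 D178
theorem N179 : nd 179 = n179 := ndS (p := 123) (l := 9) rfl N123 D179
theorem N180 : nd 180 = n180 := ndS (p := 124) (l := 8) rfl N124 D180
theorem N181 : nd 181 = n181 := ndS (p := 125) (l := 2) rfl N125 D181
theorem N182 : nd 182 = n182 := ndS (p := 125) (l := 9) rfl N125 D182
theorem N183 : nd 183 = n183 := ndS (p := 126) (l := 8) rfl N126 D183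
theorem N184 : nd 184 = n184 := ndS (p := 128) (l := 1) rfl N128 D184
theorem N185 : nd 185 = n185 := ndS (p := 128) (l := 7) rfl N128 D185
theorem N186 : nd 186 = n186 := ndS (p := 128) (l := 8) rfl N128 D186
theorem N187 : nd 187 = n187 := ndS (p := 129) (l := 6) rfl N129 D187
theorem N188 : nd 188 = n188 := ndS (p := 129) (l := 8) rfl N129 D188
theorem N189 : nd 189 = n189 := ndS (p := 130) (l := 5) rfl N130 D189
theorem N190 : nd 190 = n190 := ndS (p := 130) (l := 9) rfl N130 D190
theorem N191 : nd 191 = n191 := ndS (p := 131) (l := 5) rfl N131 D191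
theorem N192 : nd 192 = n192 := ndS (p := 131) (l := 8) rfl N131 D192
theorem N193 : nd 193 = n193 := ndS (p := 132) (l := 5) rfl N132 D193
theorem N194 : nd 194 = n194 := ndS (p := 132) (l := 9) rfl N132 D194
theorem N195 : nd 195 = n195 := ndS (p := 133) (l := 6) rfl N133 D195
theorem N196 : nd 196 = n196 := ndS (p := 133) (l := 9) rfl N133 D196
theorem N197 : nd 197 = n197 := ndS (p := 135) (l := 5) rfl N135 D197
theorem N198 : nd 198 = n198 := ndS (p := 135) (l := 9) rfl N135 D198
theorem N199 : nd 199 = n199 := ndS (p := 137) (l := 6) rfl N137 D199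
theorem N200 : nd 200 = n200 := ndS (p := 137) (l := 8) rfl N137 D200
theorem N201 : nd 201 = n201 := ndS (p := 138) (l := 5) rfl N138 D201
theorem N202 : nd 202 = n202 := ndS (p := 138) (l := 9) rfl N138 D202
theorem N203 : nd 203 = n203 := ndS (p := 139) (l := 5) rfl N139 D203
theorem N204 : nd 204 = n204 := ndS (p := 139) (l := 8) rfl N139 D204
theorem N205 : nd 205 = n205 := ndS (p := 140) (l := 5) rfl N140 D205
theorem N206 : nd 206 = n206 := ndS (p := 140) (l := 9) rfl N140 D206
theorem N207 : nd 207 = n207 := ndS (p := 141) (l := 4) rfl N141 D207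
theorem N208 : nd 208 = n208 := ndS (p := 141) (l := 6) rfl N141 D208
theorem N209 : nd 209 = n209 := ndS (p := 141) (l := 9) rfl N141 D209
theorem N210 : nd 210 = n210 := ndS (p := 143) (l := 8) rfl N143 D210
theorem N211 : nd 211 = n211 := ndS (p := 144) (l := 5) rfl N144 D211
theorem N212 : nd 212 = n212 := ndS (p := 144) (l := 9) rfl N144 D212
theorem N213 : nd 213 = n213 := ndS (p := 145) (l := 6) rfl N145 D213
theorem N214 : nd 214 = n214 := ndS (p := 145) (l := 9) rfl N145 D214
theorem N215 : nd 215 = n215 := ndS (p := 147) (l := 7) rfl N147 D215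
theorem N216 : nd 216 = n216 := ndS (p := 147) (l := 9) rfl N147 D216
theorem N217 : nd 217 = n217 := ndS (p := 148) (l := 8) rfl N148 D217
theorem N218 : nd 218 = n218 := ndS (p := 149) (l := 4) rfl N149 D218
theorem N219 : nd 219 = n219 := ndS (p := 149) (l := 9) rfl N149 D219
theorem N220 : nd 220 = n220 := ndS (p := 151) (l := 4) rfl N151 D220
theorem N221 : nd 221 = n221 := ndS (p := 151) (l := 8) rfl N151 D221
theorem N222 : nd 222 = n222 := ndS (p := 152) (l := 5) rfl N152 D222
theorem N223 : nd 223 = n223 := ndS (p := 152) (l := 9) rfl N152 D223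
theorem N224 : nd 224 = n224 := ndS (p := 153) (l := 4) rfl N153 D224
theorem N225 : nd 225 = n225 := ndS (p := 153) (l := 6) rfl N153 D225
theorem N226 : nd 226 = n226 := ndS (p := 153) (l := 9) rfl N153 D226
theorem N227 : nd 227 = n227 := ndS (p := 155) (l := 6) rfl N155 D227
theorem N228 : nd 228 = n228 := ndS (p := 155) (l := 9) rfl N155 D228
theorem N229 : nd 229 = n229 := ndS (p := 156) (l := 7) rfl N156 D229
theorem N230 : nd 230 = n230 := ndS (p := 156) (l := 9) rfl N156 D230
theorem N231 : nd 231 = n231 := ndS (p := 157) (l := 8) rfl N157 D231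
theorem N232 : nd 232 = n232 := ndS (p := 158) (l := 5) rfl N158 D232
theorem N233 : nd 233 = n233 := ndS (p := 158) (l := 9) rfl N158 D233
theorem N234 : nd 234 = n234 := ndS (p := 159) (l := 4) rfl N159 D234
theorem N235 : nd 235 = n235 := ndS (p := 159) (l := 6) rfl N159 D235
theorem N236 : nd 236 = n236 := ndS (p := 159) (l := 9) rfl N159 D236
theorem N237 : nd 237 = n237 := ndS (p := 161) (l := 7) rfl N161 D237
theorem N238 : nd 238 = n238 := ndS (p := 161) (l := 9) rfl N161 D238
theorem N239 : nd 239 = n239 := ndS (p := 162) (l := 8) rfl N162 D239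
theorem N240 : nd 240 = n240 := ndS (p := 163) (l := 9) rfl N163 D240
theorem N241 : nd 241 = n241 := ndS (p := 164) (l := 8) rfl N164 D241
theorem N242 : nd 242 = n242 := ndS (p := 166) (l := 3) rfl N166 D242
theorem N243 : nd 243 = n243 := ndS (p := 166) (l := 9) rfl N166 D243
theorem N244 : nd 244 = n244 := ndS (p := 167) (l := 8) rfl N167 D244
theorem N245 : nd 245 = n245 := ndS (p := 168) (l := 4) rfl N168 D245
theorem N246 : nd 246 = n246 := ndS (p := 168) (l := 6) rfl N168 D246
theorem N247 : nd 247 = n247 := ndS (p := 168) (l := 9) rfl N168 D247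
theorem N248 : nd 248 = n248 := ndS (p := 170) (l := 3) rfl N170 D248
theorem N249 : nd 249 = n249 := ndS (p := 170) (l := 6) rfl N170 D249
theorem N250 : nd 250 = n250 := ndS (p := 170) (l := 9) rfl N170 D250
theorem N251 : nd 251 = n251 := ndS (p := 171) (l := 7) rfl N171 D251
theorem N252 : nd 252 = n252 := ndS (p := 171) (l := 9) rfl N171 D252
theorem N253 : nd 253 = n253 := ndS (p := 172) (l := 8) rfl N172 D253
theorem N254 : nd 254 = n254 := ndS (p := 173) (l := 9) rfl N173 D254
theorem N255 : nd 255 = n255 := ndS (p := 174) (l := 8) rfl N174 D255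
theorem N256 : nd 256 = n256 := ndS (p := 176) (l := 8) rfl N176 D256
theorem N257 : nd 257 = n257 := ndS (p := 177) (l := 5) rfl N177 D257
theorem N258 : nd 258 = n258 := ndS (p := 178) (l := 2) rfl N178 D258
theorem N259 : nd 259 = n259 := ndS (p := 178) (l := 9) rfl N178 D259
theorem N260 : nd 260 = n260 := ndS (p := 179) (l := 8) rfl N179 D260
theorem N261 : nd 261 = n261 := ndS (p := 181) (l := 1) rfl N181 D261
theorem N262 : nd 262 = n262 := ndS (p := 181) (l := 9) rfl N181 D262
theorem N263 : nd 263 = n263 := ndS (p := 182) (l := 8) rfl N182 D263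
theorem N264 : nd 264 = n264 := ndS (p := 183) (l := 5) rfl N183 D264
theorem N265 : nd 265 = n265 := ndS (p := 184) (l := 7) rfl N184 D265
theorem N266 : nd 266 = n266 := ndS (p := 184) (l := 8) rfl N184 D266
theorem N267 : nd 267 = n267 := ndS (p := 185) (l := 6) rfl N185 D267
theorem N268 : nd 268 = n268 := ndS (p := 185) (l := 8) rfl N185 D268
theorem N269 : nd 269 = n269 := ndS (p := 186) (l := 5) rfl N186 D269
theorem N270 : nd 270 = n270 := ndS (p := 186) (l := 9) rfl N186 D270
theorem N271 : nd 271 = n271 := ndS (p := 187) (l := 5) rfl N187 D271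
theorem N272 : nd 272 = n272 := ndS (p := 187) (l := 8) rfl N187 D272
theorem N273 : nd 273 = n273 := ndS (p := 188) (l := 5) rfl N188 D273
theorem N274 : nd 274 = n274 := ndS (p := 188) (l := 9) rfl N188 D274
theorem N275 : nd 275 = n275 := ndS (p := 189) (l := 4) rfl N189 D275
theorem N276 : nd 276 = n276 := ndS (p := 189) (l := 6) rfl N189 D276
theorem N277 : nd 277 = n277 := ndS (p := 189) (l := 9) rfl N189 D277
theorem N278 : nd 278 = n278 := ndS (p := 191) (l := 8) rfl N191 D278
theorem N279 : nd 279 = n279 := ndS (p := 192) (l := 5) rfl N192 D279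
theorem N280 : nd 280 = n280 := ndS (p := 192) (l := 9) rfl N192 D280
theorem N281 : nd 281 = n281 := ndS (p := 193) (l := 6) rfl N193 D281
theorem N282 : nd 282 = n282 := ndS (p := 193) (l := 9) rfl N193 D282
theorem N283 : nd 283 = n283 := ndS (p := 195) (l := 7) rfl N195 D283
theorem N284 : nd 284 = n284 := ndS (p := 195) (l := 9) rfl N195 D284
theorem N285 : nd 285 = n285 := ndS (p := 196) (l := 8) rfl N196 D285
theorem N286 : nd 286 = n286 := ndS (p := 197) (l := 4) rfl N197 D286
theorem N287 : nd 287 = n287 := ndS (p := 197) (l := 9) rfl N197 D287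
theorem N288 : nd 288 = n288 := ndS (p := 199) (l := 5) rfl N199 D288
theorem N289 : nd 289 = n289 := ndS (p := 199) (l := 8) rfl N199 D289
theorem N290 : nd 290 = n290 := ndS (p := 200) (l := 5) rfl N200 D290
theorem N291 : nd 291 = n291 := ndS (p := 200) (l := 9) rfl N200 D291
theorem N292 : nd 292 = n294 := ndS (p := 201) (l := 9) rfl N201 D294
theorem N293 : nd 293 = n295 := ndS (p := 203) (l := 4) rfl N203 D295
theorem N294 : nd 294 = n296 := ndS (p := 203) (l := 8) rfl N203 D296
theorem N295 : nd 295 = n297 := ndS (p := 204) (l := 5) rfl N204 D297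
theorem N296 : nd 296 = n298 := ndS (p := 204) (l := 9) rfl N204 D298
theorem N297 : nd 297 = n299 := ndS (p := 205) (l := 4) rfl N205 D299
theorem N298 : nd 298 = n300 := ndS (p := 205) (l := 6) rfl N205 D300
theorem N299 : nd 299 = n301 := ndS (p := 205) (l := 9) rfl N205 D301
theorem N300 : nd 300 = n303 := ndS (p := 207) (l := 9) rfl N207 D303
theorem N301 : nd 301 = n304 := ndS (p := 208) (l := 7) rfl N208 D304
theorem N302 : nd 302 = n305 := ndS (p := 208) (l := 9) rfl N208 D305
theorem N303 : nd 303 = n306 := ndS (p := 209) (l := 8) rfl N209 D306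
theorem N304 : nd 304 = n307 := ndS (p := 210) (l := 5) rfl N210 D307
theorem N305 : nd 305 = n308 := ndS (p := 210) (l := 9) rfl N210 D308
theorem N306 : nd 306 = n309 := ndS (p := 211) (l := 4) rfl N211 D309
theorem N307 : nd 307 = n310 := ndS (p := 211) (l := 6) rfl N211 D310
theorem N308 : nd 308 = n311 := ndS (p := 211) (l := 9) rfl N211 D311
theorem N309 : nd 309 = n312 := ndS (p := 213) (l := 7) rfl N213 D312
theorem N310 : nd 310 = n313 := ndS (p := 213) (l := 9) rfl N213 D313
theorem N311 : nd 311 = n314 := ndS (p := 214) (l := 8) rfl N214 D314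
theorem N312 : nd 312 = n315 := ndS (p := 215) (l := 9) rfl N215 D315
theorem N313 : nd 313 = n316 := ndS (p := 216) (l := 8) rfl N216 D316
theorem N314 : nd 314 = n317 := ndS (p := 218) (l := 3) rfl N218 D317
theorem N315 : nd 315 = n318 := ndS (p := 218) (l := 9) rfl N218 D318
theorem N316 : nd 316 = n319 := ndS (p := 219) (l := 8) rfl N219 D319
theorem N317 : nd 317 = n320 := ndS (p := 220) (l := 8) rfl N220 D320
theorem N318 : nd 318 = n321 := ndS (p := 221) (l := 5) rfl N221 D321
theorem N319 : nd 319 = n322 := ndS (p := 221) (l := 9) rfl N221 D322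
theorem N320 : nd 320 = n323 := ndS (p := 222) (l := 4) rfl N222 D323
theorem N321 : nd 321 = n324 := ndS (p := 222) (l := 6) rfl N222 D324
theorem N322 : nd 322 = n325 := ndS (p := 222) (l := 9) rfl N222 D325
theorem N323 : nd 323 = n326 := ndS (p := 224) (l := 6) rfl N224 D326
theorem N324 : nd 324 = n327 := ndS (p := 224) (l := 9) rfl N224 D327
theorem N325 : nd 325 = n328 := ndS (p := 225) (l := 7) rfl N225 D328
theorem N326 : nd 326 = n329 := ndS (p := 225) (l := 9) rfl N225 D329
theorem N327 : nd 327 = n330 := ndS (p := 226) (l := 8) rfl N226 D330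
theorem N328 : nd 328 = n332 := ndS (p := 227) (l := 7) rfl N227 D332
theorem N329 : nd 329 = n333 := ndS (p := 227) (l := 9) rfl N227 D333
theorem N330 : nd 330 = n334 := ndS (p := 228) (l := 8) rfl N228 D334
theorem N331 : nd 331 = n335 := ndS (p := 229) (l := 9) rfl N229 D335
theorem N332 : nd 332 = n336 := ndS (p := 230) (l := 8) rfl N230 D336
theorem N333 : nd 333 = n337 := ndS (p := 232) (l := 4) rfl N232 D337
theorem N334 : nd 334 = n338 := ndS (p := 232) (l := 6) rfl N232 D338
theorem N335 : nd 335 = n339 := ndS (p := 232) (l := 9) rfl N232 D339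
theorem N336 : nd 336 = n340 := ndS (p := 234) (l := 3) rfl N234 D340
theorem N337 : nd 337 = n341 := ndS (p := 234) (l := 6) rfl N234 D341
theorem N338 : nd 338 = n342 := ndS (p := 234) (l := 9) rfl N234 D342
theorem N339 : nd 339 = n343 := ndS (p := 235) (l := 7) rfl N235 D343
theorem N340 : nd 340 = n344 := ndS (p := 235) (l := 9) rfl N235 D344
theorem N341 : nd 341 = n345 := ndS (p := 236) (l := 8) rfl N236 D345
theorem N342 : nd 342 = n346 := ndS (p := 237) (l := 9) rfl N237 D346
theorem N343 : nd 343 = n347 := ndS (p := 238) (l := 8) rfl N238 D347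
theorem N344 : nd 344 = n348 := ndS (p := 240) (l := 8) rfl N240 D348
theorem N345 : nd 345 = n349 := ndS (p := 241) (l := 5) rfl N241 D349
theorem N346 : nd 346 = n350 := ndS (p := 242) (l := 2) rfl N242 D350
theorem N347 : nd 347 = n351 := ndS (p := 242) (l := 9) rfl N242 D351
theorem N348 : nd 348 = n352 := ndS (p := 243) (l := 8) rfl N243 D352
theorem N349 : nd 349 = n353 := ndS (p := 245) (l := 3) rfl N245 D353
theorem N350 : nd 350 = n354 := ndS (p := 245) (l := 6) rfl N245 D354
theorem N351 : nd 351 = n355 := ndS (p := 245) (l := 9) rfl N245 D355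
theorem N352 : nd 352 = n356 := ndS (p := 246) (l := 7) rfl N246 D356
theorem N353 : nd 353 = n357 := ndS (p := 246) (l := 9) rfl N246 D357
theorem N354 : nd 354 = n358 := ndS (p := 247) (l := 8) rfl N247 D358
theorem N355 : nd 355 = n359 := ndS (p := 248) (l := 2) rfl N248 D359
theorem N356 : nd 356 = n360 := ndS (p := 248) (l := 6) rfl N248 D360
theorem N357 : nd 357 = n361 := ndS (p := 248) (l := 9) rfl N248 D361
theorem N358 : nd 358 = n362 := ndS (p := 249) (l := 7) rfl N249 D362
theorem N359 : nd 359 = n363 := ndS (p := 249) (l := 9) rfl N249 D363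
theorem N360 : nd 360 = n364 := ndS (p := 250) (l := 8) rfl N250 D364
theorem N361 : nd 361 = n365 := ndS (p := 251) (l := 9) rfl N251 D365
theorem N362 : nd 362 = n366 := ndS (p := 252) (l := 8) rfl N252 D366
theorem N363 : nd 363 = n367 := ndS (p := 254) (l := 8) rfl N254 D367
theorem N364 : nd 364 = n368 := ndS (p := 255) (l := 5) rfl N255 D368
theorem N365 : nd 365 = n369 := ndS (p := 256) (l := 5) rfl N256 D369
theorem N366 : nd 366 = n370 := ndS (p := 257) (l := 4) rfl N257 D370
theorem N367 : nd 367 = n371 := ndS (p := 258) (l := 1) rfl N258 D371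
theorem N368 : nd 368 = n372 := ndS (p := 258) (l := 9) rfl N258 D372
theorem N369 : nd 369 = n373 := ndS (p := 259) (l := 8) rfl N259 D373
theorem N370 : nd 370 = n374 := ndS (p := 260) (l := 5) rfl N260 D374
theorem N371 : nd 371 = n375 := ndS (p := 261) (l := 0) rfl N261 D375
theorem N372 : nd 372 = n376 := ndS (p := 261) (l := 9) rfl N261 D376
theorem N373 : nd 373 = n377 := ndS (p := 262) (l := 8) rfl N262 D377
theorem N374 : nd 374 = n378 := ndS (p := 263) (l := 5) rfl N263 D378
theorem N375 : nd 375 = n379 := ndS (p := 264) (l := 6) rfl N264 D379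
theorem N376 : nd 376 = n380 := ndS (p := 265) (l := 6) rfl N265 D380
theorem N377 : nd 377 = n381 := ndS (p := 265) (l := 8) rfl N265 D381
theorem N378 : nd 378 = n383 := ndS (p := 266) (l := 9) rfl N266 D383
theorem N379 : nd 379 = n384 := ndS (p := 267) (l := 5) rfl N267 D384
theorem N380 : nd 380 = n385 := ndS (p := 267) (l := 8) rfl N267 D385
theorem N381 : nd 381 = n386 := ndS (p := 268) (l := 5) rfl N268 D386
theorem N382 : nd 382 = n387 := ndS (p := 268) (l := 9) rfl N268 D387
theorem N383 : nd 383 = n390 := ndS (p := 269) (l := 9) rfl N269 D390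
theorem N384 : nd 384 = n391 := ndS (p := 271) (l := 4) rfl N271 D391
theorem N385 : nd 385 = n392 := ndS (p := 271) (l := 8) rfl N271 D392
theorem N386 : nd 386 = n393 := ndS (p := 272) (l := 5) rfl N272 D393
theorem N387 : nd 387 = n394 := ndS (p := 272) (l := 9) rfl N272 D394
theorem N388 : nd 388 = n395 := ndS (p := 273) (l := 4) rfl N273 D395
theorem N389 : nd 389 = n396 := ndS (p := 273) (l := 6) rfl N273 D396
theorem N390 : nd 390 = n397 := ndS (p := 273) (l := 9) rfl N273 D397
theorem N391 : nd 391 = n399 := ndS (p := 275) (l := 9) rfl N275 D399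
theorem N392 : nd 392 = n400 := ndS (p := 276) (l := 7) rfl N276 D400
theorem N393 : nd 393 = n401 := ndS (p := 276) (l := 9) rfl N276 D401
theorem N394 : nd 394 = n402 := ndS (p := 277) (l := 8) rfl N277 D402
theorem N395 : nd 395 = n403 := ndS (p := 278) (l := 5) rfl N278 D403
theorem N396 : nd 396 = n404 := ndS (p := 278) (l := 9) rfl N278 D404
theorem N397 : nd 397 = n405 := ndS (p := 279) (l := 4) rfl N279 D405
theorem N398 : nd 398 = n406 := ndS (p := 279) (l := 6) rfl N279 D406
theorem N399 : nd 399 = n407 := ndS (p := 279) (l := 9) rfl N279 D407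
theorem N400 : nd 400 = n408 := ndS (p := 281) (l := 7) rfl N281 D408
theorem N401 : nd 401 = n409 := ndS (p := 281) (l := 9) rfl N281 D409
theorem N402 : nd 402 = n410 := ndS (p := 282) (l := 8) rfl N282 D410
theorem N403 : nd 403 = n411 := ndS (p := 283) (l := 9) rfl N283 D411
theorem N404 : nd 404 = n412 := ndS (p := 284) (l := 8) rfl N284 D412
theorem N405 : nd 405 = n413 := ndS (p := 286) (l := 3) rfl N286 D413
theorem N406 : nd 406 = n414 := ndS (p := 286) (l := 9) rfl N286 D414
theorem N407 : nd 407 = n415 := ndS (p := 287) (l := 8) rfl N287 D415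
theorem N408 : nd 408 = n416 := ndS (p := 288) (l := 4) rfl N288 D416
theorem N409 : nd 409 = n417 := ndS (p := 288) (l := 8) rfl N288 D417
theorem N410 : nd 410 = n418 := ndS (p := 289) (l := 5) rfl N289 D418
theorem N411 : nd 411 = n419 := ndS (p := 289) (l := 9) rfl N289 D419
theorem N412 : nd 412 = n421 := ndS (p := 290) (l := 6) rfl N290 D421
theorem N413 : nd 413 = n422 := ndS (p := 290) (l := 9) rfl N290 D422
theorem N414 : nd 414 = n428 := ndS (p := 292) (l := 8) rfl N292 D428
theorem N415 : nd 415 = n429 := ndS (p := 293) (l := 8) rfl N293 D429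
theorem N416 : nd 416 = n430 := ndS (p := 294) (l := 5) rfl N294 D430
theorem N417 : nd 417 = n431 := ndS (p := 294) (l := 9) rfl N294 D431
theorem N418 : nd 418 = n432 := ndS (p := 295) (l := 4) rfl N295 D432
theorem N419 : nd 419 = n433 := ndS (p := 295) (l := 6) rfl N295 D433
theorem N420 : nd 420 = n434 := ndS (p := 295) (l := 9) rfl N295 D434
theorem N421 : nd 421 = n435 := ndS (p := 297) (l := 6) rfl N297 D435
theorem N422 : nd 422 = n436 := ndS (p := 297) (l := 9) rfl N297 D436
theorem N423 : nd 423 = n437 := ndS (p := 298) (l := 7) rfl N298 D437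
theorem N424 : nd 424 = n438 := ndS (p := 298) (l := 9) rfl N298 D438
theorem N425 : nd 425 = n439 := ndS (p := 299) (l := 8) rfl N299 D439
theorem N426 : nd 426 = n443 := ndS (p := 300) (l := 8) rfl N300 D443
theorem N427 : nd 427 = n444 := ndS (p := 301) (l := 9) rfl N301 D444
theorem N428 : nd 428 = n445 := ndS (p := 302) (l := 8) rfl N302 D445
theorem N429 : nd 429 = n446 := ndS (p := 304) (l := 4) rfl N304 D446
theorem N430 : nd 430 = n447 := ndS (p := 304) (l := 6) rfl N304 D447
theorem N431 : nd 431 = n448 := ndS (p := 304) (l := 9) rfl N304 D448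
theorem N432 : nd 432 = n449 := ndS (p := 306) (l := 3) rfl N306 D449
theorem N433 : nd 433 = n450 := ndS (p := 306) (l := 6) rfl N306 D450
theorem N434 : nd 434 = n451 := ndS (p := 306) (l := 9) rfl N306 D451
theorem N435 : nd 435 = n452 := ndS (p := 307) (l := 7) rfl N307 D452
theorem N436 : nd 436 = n453 := ndS (p := 307) (l := 9) rfl N307 D453
theorem N437 : nd 437 = n454 := ndS (p := 308) (l := 8) rfl N308 D454
theorem N438 : nd 438 = n455 := ndS (p := 309) (l := 9) rfl N309 D455
theorem N439 : nd 439 = n456 := ndS (p := 310) (l := 8) rfl N310 D456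
theorem N440 : nd 440 = n457 := ndS (p := 312) (l := 8) rfl N312 D457
theorem N441 : nd 441 = n458 := ndS (p := 313) (l := 5) rfl N313 D458
theorem N442 : nd 442 = n459 := ndS (p := 314) (l := 2) rfl N314 D459
theorem N443 : nd 443 = n460 := ndS (p := 314) (l := 9) rfl N314 D460
theorem N444 : nd 444 = n461 := ndS (p := 315) (l := 8) rfl N315 D461
theorem N445 : nd 445 = n462 := ndS (p := 317) (l := 5) rfl N317 D462
theorem N446 : nd 446 = n463 := ndS (p := 317) (l := 9) rfl N317 D463
theorem N447 : nd 447 = n464 := ndS (p := 318) (l := 4) rfl N318 D464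
theorem N448 : nd 448 = n465 := ndS (p := 318) (l := 6) rfl N318 D465
theorem N449 : nd 449 = n466 := ndS (p := 318) (l := 9) rfl N318 D466
theorem N450 : nd 450 = n467 := ndS (p := 320) (l := 3) rfl N320 D467
theorem N451 : nd 451 = n468 := ndS (p := 320) (l := 6) rfl N320 D468
theorem N452 : nd 452 = n469 := ndS (p := 320) (l := 9) rfl N320 D469
theorem N453 : nd 453 = n470 := ndS (p := 321) (l := 7) rfl N321 D470
theorem N454 : nd 454 = n471 := ndS (p := 321) (l := 9) rfl N321 D471
theorem N455 : nd 455 = n472 := ndS (p := 322) (l := 8) rfl N322 D472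
theorem N456 : nd 456 = n473 := ndS (p := 323) (l := 5) rfl N323 D473
theorem N457 : nd 457 = n474 := ndS (p := 323) (l := 7) rfl N323 D474
theorem N458 : nd 458 = n475 := ndS (p := 323) (l := 9) rfl N323 D475
theorem N459 : nd 459 = n476 := ndS (p := 324) (l := 8) rfl N324 D476
theorem N460 : nd 460 = n477 := ndS (p := 325) (l := 9) rfl N325 D477
theorem N461 : nd 461 = n478 := ndS (p := 326) (l := 8) rfl N326 D478
theorem N462 : nd 462 = n482 := ndS (p := 328) (l := 9) rfl N328 D482
theorem N463 : nd 463 = n483 := ndS (p := 329) (l := 8) rfl N329 D483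
theorem N464 : nd 464 = n484 := ndS (p := 330) (l := 5) rfl N330 D484
theorem N465 : nd 465 = n485 := ndS (p := 331) (l := 8) rfl N331 D485
theorem N466 : nd 466 = n486 := ndS (p := 332) (l := 5) rfl N332 D486
theorem N467 : nd 467 = n487 := ndS (p := 333) (l := 3) rfl N333 D487
theorem N468 : nd 468 = n488 := ndS (p := 333) (l := 6) rfl N333 D488
theorem N469 : nd 469 = n489 := ndS (p := 333) (l := 9) rfl N333 D489
theorem N470 : nd 470 = n490 := ndS (p := 334) (l := 7) rfl N334 D490
theorem N471 : nd 471 = n491 := ndS (p := 334) (l := 9) rfl N334 D491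
theorem N472 : nd 472 = n492 := ndS (p := 335) (l := 8) rfl N335 D492
theorem N473 : nd 473 = n493 := ndS (p := 336) (l := 2) rfl N336 D493
theorem N474 : nd 474 = n494 := ndS (p := 336) (l := 6) rfl N336 D494
theorem N475 : nd 475 = n495 := ndS (p := 336) (l := 9) rfl N336 D495
theorem N476 : nd 476 = n496 := ndS (p := 337) (l := 7) rfl N337 D496
theorem N477 : nd 477 = n497 := ndS (p := 337) (l := 9) rfl N337 D497
theorem N478 : nd 478 = n498 := ndS (p := 338) (l := 8) rfl N338 D498
theorem N479 : nd 479 = n499 := ndS (p := 339) (l := 9) rfl N339 D499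
theorem N480 : nd 480 = n500 := ndS (p := 340) (l := 8) rfl N340 D500
theorem N481 : nd 481 = n501 := ndS (p := 342) (l := 8) rfl N342 D501
theorem N482 : nd 482 = n502 := ndS (p := 343) (l := 5) rfl N343 D502
theorem N483 : nd 483 = n503 := ndS (p := 344) (l := 5) rfl N344 D503
theorem N484 : nd 484 = n504 := ndS (p := 345) (l := 4) rfl N345 D504
theorem N485 : nd 485 = n505 := ndS (p := 346) (l := 1) rfl N346 D505
theorem N486 : nd 486 = n506 := ndS (p := 346) (l := 9) rfl N346 D506
theorem N487 : nd 487 = n507 := ndS (p := 347) (l := 8) rfl N347 D507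
theorem N488 : nd 488 = n508 := ndS (p := 348) (l := 5) rfl N348 D508
theorem N489 : nd 489 = n509 := ndS (p := 349) (l := 2) rfl N349 D509
theorem N490 : nd 490 = n510 := ndS (p := 349) (l := 6) rfl N349 D510
theorem N491 : nd 491 = n511 := ndS (p := 349) (l := 9) rfl N349 D511
theorem N492 : nd 492 = n512 := ndS (p := 350) (l := 5) rfl N350 D512
theorem N493 : nd 493 = n513 := ndS (p := 350) (l := 7) rfl N350 D513
theorem N494 : nd 494 = n514 := ndS (p := 350) (l := 9) rfl N350 D514
theorem N495 : nd 495 = n515 := ndS (p := 351) (l := 8) rfl N351 D515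
theorem N496 : nd 496 = n516 := ndS (p := 352) (l := 9) rfl N352 D516
theorem N497 : nd 497 = n517 := ndS (p := 353) (l := 8) rfl N353 D517
theorem N498 : nd 498 = n518 := ndS (p := 355) (l := 1) rfl N355 D518
theorem N499 : nd 499 = n519 := ndS (p := 355) (l := 6) rfl N355 D519
theorem N500 : nd 500 = n520 := ndS (p := 355) (l := 9) rfl N355 D520
theorem N501 : nd 501 = n521 := ndS (p := 356) (l := 7) rfl N356 D521
theorem N502 : nd 502 = n522 := ndS (p := 356) (l := 9) rfl N356 D522
theorem N503 : nd 503 = n523 := ndS (p := 357) (l := 8) rfl N357 D523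
theorem N504 : nd 504 = n524 := ndS (p := 358) (l := 9) rfl N358 D524
theorem N505 : nd 505 = n525 := ndS (p := 359) (l := 8) rfl N359 D525
theorem N506 : nd 506 = n526 := ndS (p := 360) (l := 5) rfl N360 D526
theorem N507 : nd 507 = n527 := ndS (p := 361) (l := 8) rfl N361 D527
theorem N508 : nd 508 = n528 := ndS (p := 362) (l := 5) rfl N362 D528
theorem N509 : nd 509 = n529 := ndS (p := 363) (l := 5) rfl N363 D529
theorem N510 : nd 510 = n530 := ndS (p := 364) (l := 4) rfl N364 D530
theorem N511 : nd 511 = n531 := ndS (p := 365) (l := 4) rfl N365 D531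
theorem N512 : nd 512 = n532 := ndS (p := 365) (l := 6) rfl N365 D532
theorem N513 : nd 513 = n533 := ndS (p := 366) (l := 3) rfl N366 D533
theorem N514 : nd 514 = n534 := ndS (p := 367) (l := 0) rfl N367 D534
theorem N515 : nd 515 = n535 := ndS (p := 367) (l := 9) rfl N367 D535
theorem N516 : nd 516 = n536 := ndS (p := 368) (l := 8) rfl N368 D536
theorem N517 : nd 517 = n537 := ndS (p := 369) (l := 5) rfl N369 D537
theorem N518 : nd 518 = n538 := ndS (p := 370) (l := 6) rfl N370 D538
theorem N519 : nd 519 = n539 := ndS (p := 371) (l := 9) rfl N371 D539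
theorem N520 : nd 520 = n540 := ndS (p := 372) (l := 8) rfl N372 D540
theorem N521 : nd 521 = n541 := ndS (p := 373) (l := 5) rfl N373 D541
theorem N522 : nd 522 = n545 := ndS (p := 376) (l := 5) rfl N376 D545
theorem N523 : nd 523 = n546 := ndS (p := 376) (l := 8) rfl N376 D546
theorem N524 : nd 524 = n548 := ndS (p := 377) (l := 9) rfl N377 D548
theorem N525 : nd 525 = n552 := ndS (p := 379) (l := 4) rfl N379 D552
theorem N526 : nd 526 = n553 := ndS (p := 379) (l := 8) rfl N379 D553
theorem N527 : nd 527 = n554 := ndS (p := 380) (l := 5) rfl N380 D554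
theorem N528 : nd 528 = n555 := ndS (p := 380) (l := 9) rfl N380 D555
theorem N529 : nd 529 = n557 := ndS (p := 381) (l := 6) rfl N381 D557
theorem N530 : nd 530 = n558 := ndS (p := 381) (l := 9) rfl N381 D558
theorem N531 : nd 531 = n564 := ndS (p := 383) (l := 8) rfl N383 D564
theorem N532 : nd 532 = n565 := ndS (p := 384) (l := 8) rfl N384 D565
theorem N533 : nd 533 = n566 := ndS (p := 385) (l := 5) rfl N385 D566
theorem N534 : nd 534 = n567 := ndS (p := 385) (l := 9) rfl N385 D567
theorem N535 : nd 535 = n568 := ndS (p := 386) (l := 4) rfl N386 D568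
theorem N536 : nd 536 = n569 := ndS (p := 386) (l := 6) rfl N386 D569
theorem N537 : nd 537 = n570 := ndS (p := 386) (l := 9) rfl N386 D570
theorem N538 : nd 538 = n571 := ndS (p := 388) (l := 6) rfl N388 D571
theorem N539 : nd 539 = n572 := ndS (p := 388) (l := 9) rfl N388 D572
theorem N540 : nd 540 = n573 := ndS (p := 389) (l := 7) rfl N389 D573
theorem N541 : nd 541 = n574 := ndS (p := 389) (l := 9) rfl N389 D574
theorem N542 : nd 542 = n575 := ndS (p := 390) (l := 8) rfl N390 D575
theorem N543 : nd 543 = n579 := ndS (p := 391) (l := 8) rfl N391 D579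
theorem N544 : nd 544 = n580 := ndS (p := 392) (l := 9) rfl N392 D580
theorem N545 : nd 545 = n581 := ndS (p := 393) (l := 8) rfl N393 D581
theorem N546 : nd 546 = n582 := ndS (p := 395) (l := 4) rfl N395 D582
theorem N547 : nd 547 = n583 := ndS (p := 395) (l := 6) rfl N395 D583
theorem N548 : nd 548 = n584 := ndS (p := 395) (l := 9) rfl N395 D584
theorem N549 : nd 549 = n585 := ndS (p := 397) (l := 3) rfl N397 D585
theorem N550 : nd 550 = n586 := ndS (p := 397) (l := 6) rfl N397 D586
theorem N551 : nd 551 = n587 := ndS (p := 397) (l := 9) rfl N397 D587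
theorem N552 : nd 552 = n588 := ndS (p := 398) (l := 7) rfl N398 D588
theorem N553 : nd 553 = n589 := ndS (p := 398) (l := 9) rfl N398 D589
theorem N554 : nd 554 = n590 := ndS (p := 399) (l := 8) rfl N399 D590
theorem N555 : nd 555 = n591 := ndS (p := 400) (l := 9) rfl N400 D591
theorem N556 : nd 556 = n592 := ndS (p := 401) (l := 8) rfl N401 D592
theorem N557 : nd 557 = n593 := ndS (p := 403) (l := 8) rfl N403 D593
theorem N558 : nd 558 = n594 := ndS (p := 404) (l := 5) rfl N404 D594
theorem N559 : nd 559 = n595 := ndS (p := 405) (l := 2) rfl N405 D595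
theorem N560 : nd 560 = n596 := ndS (p := 405) (l := 9) rfl N405 D596
theorem N561 : nd 561 = n597 := ndS (p := 406) (l := 8) rfl N406 D597
theorem N562 : nd 562 = n598 := ndS (p := 408) (l := 3) rfl N408 D598
theorem N563 : nd 563 = n599 := ndS (p := 408) (l := 8) rfl N408 D599
theorem N564 : nd 564 = n600 := ndS (p := 409) (l := 5) rfl N409 D600
theorem N565 : nd 565 = n601 := ndS (p := 409) (l := 9) rfl N409 D601
theorem N566 : nd 566 = n602 := ndS (p := 410) (l := 4) rfl N410 D602
theorem N567 : nd 567 = n603 := ndS (p := 410) (l := 6) rfl N410 D603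
theorem N568 : nd 568 = n604 := ndS (p := 410) (l := 9) rfl N410 D604
theorem N569 : nd 569 = n609 := ndS (p := 412) (l := 9) rfl N412 D609
theorem N570 : nd 570 = n610 := ndS (p := 413) (l := 8) rfl N413 D610
theorem N571 : nd 571 = n619 := ndS (p := 415) (l := 5) rfl N415 D619
theorem N572 : nd 572 = n620 := ndS (p := 415) (l := 9) rfl N415 D620
theorem N573 : nd 573 = n621 := ndS (p := 416) (l := 4) rfl N416 D621
theorem N574 : nd 574 = n622 := ndS (p := 416) (l := 6) rfl N416 D622
theorem N575 : nd 575 = n623 := ndS (p := 416) (l := 9) rfl N416 D623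
theorem N576 : nd 576 = n624 := ndS (p := 418) (l := 3) rfl N418 D624
theorem N577 : nd 577 = n625 := ndS (p := 418) (l := 6) rfl N418 D625
theorem N578 : nd 578 = n626 := ndS (p := 418) (l := 9) rfl N418 D626
theorem N579 : nd 579 = n627 := ndS (p := 419) (l := 7) rfl N419 D627
theorem N580 : nd 580 = n628 := ndS (p := 419) (l := 9) rfl N419 D628
theorem N581 : nd 581 = n629 := ndS (p := 420) (l := 8) rfl N420 D629
theorem N582 : nd 582 = n630 := ndS (p := 421) (l := 5) rfl N421 D630
theorem N583 : nd 583 = n632 := ndS (p := 421) (l := 9) rfl N421 D632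
theorem N584 : nd 584 = n633 := ndS (p := 422) (l := 8) rfl N422 D633
theorem N585 : nd 585 = n634 := ndS (p := 423) (l := 9) rfl N423 D634
theorem N586 : nd 586 = n635 := ndS (p := 424) (l := 8) rfl N424 D635
theorem N587 : nd 587 = n641 := ndS (p := 426) (l := 5) rfl N426 D641
theorem N588 : nd 588 = n642 := ndS (p := 427) (l := 8) rfl N427 D642
theorem N589 : nd 589 = n643 := ndS (p := 428) (l := 5) rfl N428 D643
theorem N590 : nd 590 = n644 := ndS (p := 429) (l := 3) rfl N429 D644
theorem N591 : nd 591 = n645 := ndS (p := 429) (l := 6) rfl N429 D645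
theorem N592 : nd 592 = n646 := ndS (p := 429) (l := 9) rfl N429 D646
theorem N593 : nd 593 = n647 := ndS (p := 430) (l := 7) rfl N430 D647
theorem N594 : nd 594 = n648 := ndS (p := 430) (l := 9) rfl N430 D648
theorem N595 : nd 595 = n649 := ndS (p := 431) (l := 8) rfl N431 D649
theorem N596 : nd 596 = n650 := ndS (p := 432) (l := 2) rfl N432 D650
theorem N597 : nd 597 = n651 := ndS (p := 432) (l := 6) rfl N432 D651
theorem N598 : nd 598 = n652 := ndS (p := 432) (l := 9) rfl N432 D652
theorem N599 : nd 599 = n653 := ndS (p := 433) (l := 7) rfl N433 D653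
theorem N600 : nd 600 = n654 := ndS (p := 433) (l := 9) rfl N433 D654
theorem N601 : nd 601 = n655 := ndS (p := 434) (l := 8) rfl N434 D655
theorem N602 : nd 602 = n656 := ndS (p := 435) (l := 9) rfl N435 D656
theorem N603 : nd 603 = n657 := ndS (p := 436) (l := 8) rfl N436 D657
theorem N604 : nd 604 = n658 := ndS (p := 438) (l := 8) rfl N438 D658
theorem N605 : nd 605 = n659 := ndS (p := 439) (l := 5) rfl N439 D659
theorem N606 : nd 606 = n660 := ndS (p := 440) (l := 5) rfl N440 D660
theorem N607 : nd 607 = n661 := ndS (p := 441) (l := 4) rfl N441 D661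
theorem N608 : nd 608 = n662 := ndS (p := 442) (l := 1) rfl N442 D662
theorem N609 : nd 609 = n663 := ndS (p := 442) (l := 9) rfl N442 D663
theorem N610 : nd 610 = n664 := ndS (p := 443) (l := 8) rfl N443 D664
theorem N611 : nd 611 = n665 := ndS (p := 444) (l := 5) rfl N444 D665
theorem N612 : nd 612 = n666 := ndS (p := 445) (l := 4) rfl N445 D666
theorem N613 : nd 613 = n667 := ndS (p := 445) (l := 6) rfl N445 D667
theorem N614 : nd 614 = n668 := ndS (p := 445) (l := 9) rfl N445 D668
theorem N615 : nd 615 = n669 := ndS (p := 447) (l := 3) rfl N447 D669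
theorem N616 : nd 616 = n670 := ndS (p := 447) (l := 6) rfl N447 D670
theorem N617 : nd 617 = n671 := ndS (p := 447) (l := 9) rfl N447 D671
theorem N618 : nd 618 = n672 := ndS (p := 448) (l := 7) rfl N448 D672
theorem N619 : nd 619 = n673 := ndS (p := 448) (l := 9) rfl N448 D673
theorem N620 : nd 620 = n674 := ndS (p := 449) (l := 8) rfl N449 D674
theorem N621 : nd 621 = n675 := ndS (p := 450) (l := 2) rfl N450 D675
theorem N622 : nd 622 = n676 := ndS (p := 450) (l := 6) rfl N450 D676
theorem N623 : nd 623 = n677 := ndS (p := 450) (l := 9) rfl N450 D677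
theorem N624 : nd 624 = n678 := ndS (p := 451) (l := 5) rfl N451 D678
theorem N625 : nd 625 = n679 := ndS (p := 451) (l := 7) rfl N451 D679
theorem N626 : nd 626 = n680 := ndS (p := 451) (l := 9) rfl N451 D680
theorem N627 : nd 627 = n681 := ndS (p := 452) (l := 8) rfl N452 D681
theorem N628 : nd 628 = n682 := ndS (p := 453) (l := 9) rfl N453 D682
theorem N629 : nd 629 = n683 := ndS (p := 454) (l := 8) rfl N454 D683
theorem N630 : nd 630 = n684 := ndS (p := 456) (l := 7) rfl N456 D684
theorem N631 : nd 631 = n685 := ndS (p := 456) (l := 8) rfl N456 D685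
theorem N632 : nd 632 = n686 := ndS (p := 456) (l := 9) rfl N456 D686
theorem N633 : nd 633 = n687 := ndS (p := 457) (l := 9) rfl N457 D687
theorem N634 : nd 634 = n688 := ndS (p := 458) (l := 8) rfl N458 D688
theorem N635 : nd 635 = n689 := ndS (p := 459) (l := 5) rfl N459 D689
theorem N636 : nd 636 = n690 := ndS (p := 460) (l := 8) rfl N460 D690
theorem N637 : nd 637 = n691 := ndS (p := 461) (l := 5) rfl N461 D691
theorem N638 : nd 638 = n697 := ndS (p := 462) (l := 8) rfl N462 D697
theorem N639 : nd 639 = n700 := ndS (p := 465) (l := 5) rfl N465 D700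
theorem N640 : nd 640 = n702 := ndS (p := 467) (l := 2) rfl N467 D702
theorem N641 : nd 641 = n703 := ndS (p := 467) (l := 6) rfl N467 D703
theorem N642 : nd 642 = n704 := ndS (p := 467) (l := 9) rfl N467 D704
theorem N643 : nd 643 = n705 := ndS (p := 468) (l := 5) rfl N468 D705
theorem N644 : nd 644 = n706 := ndS (p := 468) (l := 7) rfl N468 D706
theorem N645 : nd 645 = n707 := ndS (p := 468) (l := 9) rfl N468 D707
theorem N646 : nd 646 = n708 := ndS (p := 469) (l := 8) rfl N469 D708
theorem N647 : nd 647 = n709 := ndS (p := 470) (l := 9) rfl N470 D709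
theorem N648 : nd 648 = n710 := ndS (p := 471) (l := 8) rfl N471 D710
theorem N649 : nd 649 = n711 := ndS (p := 473) (l := 1) rfl N473 D711
theorem N650 : nd 650 = n712 := ndS (p := 473) (l := 6) rfl N473 D712
theorem N651 : nd 651 = n713 := ndS (p := 473) (l := 9) rfl N473 D713
theorem N652 : nd 652 = n714 := ndS (p := 474) (l := 7) rfl N474 D714
theorem N653 : nd 653 = n715 := ndS (p := 474) (l := 9) rfl N474 D715
theorem N654 : nd 654 = n716 := ndS (p := 475) (l := 8) rfl N475 D716
theorem N655 : nd 655 = n717 := ndS (p := 476) (l := 9) rfl N476 D717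
theorem N656 : nd 656 = n718 := ndS (p := 477) (l := 8) rfl N477 D718
theorem N657 : nd 657 = n719 := ndS (p := 478) (l := 5) rfl N478 D719
theorem N658 : nd 658 = n720 := ndS (p := 479) (l := 8) rfl N479 D720
theorem N659 : nd 659 = n721 := ndS (p := 480) (l := 5) rfl N480 D721
theorem N660 : nd 660 = n722 := ndS (p := 481) (l := 5) rfl N481 D722
theorem N661 : nd 661 = n723 := ndS (p := 482) (l := 4) rfl N482 D723
theorem N662 : nd 662 = n724 := ndS (p := 483) (l := 4) rfl N483 D724
theorem N663 : nd 663 = n725 := ndS (p := 483) (l := 6) rfl N483 D725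
theorem N664 : nd 664 = n727 := ndS (p := 485) (l := 0) rfl N485 D727
theorem N665 : nd 665 = n728 := ndS (p := 485) (l := 9) rfl N485 D728
theorem N666 : nd 666 = n729 := ndS (p := 486) (l := 8) rfl N486 D729
theorem N667 : nd 667 = n730 := ndS (p := 487) (l := 5) rfl N487 D730
theorem N668 : nd 668 = n731 := ndS (p := 488) (l := 6) rfl N488 D731
theorem N669 : nd 669 = n732 := ndS (p := 489) (l := 1) rfl N489 D732
theorem N670 : nd 670 = n733 := ndS (p := 489) (l := 6) rfl N489 D733
theorem N671 : nd 671 = n734 := ndS (p := 489) (l := 9) rfl N489 D734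
theorem N672 : nd 672 = n735 := ndS (p := 490) (l := 5) rfl N490 D735
theorem N673 : nd 673 = n736 := ndS (p := 490) (l := 7) rfl N490 D736
theorem N674 : nd 674 = n737 := ndS (p := 490) (l := 9) rfl N490 D737
theorem N675 : nd 675 = n738 := ndS (p := 491) (l := 8) rfl N491 D738
theorem N676 : nd 676 = n739 := ndS (p := 492) (l := 7) rfl N492 D739
theorem N677 : nd 677 = n740 := ndS (p := 492) (l := 9) rfl N492 D740
theorem N678 : nd 678 = n741 := ndS (p := 493) (l := 9) rfl N493 D741
theorem N679 : nd 679 = n742 := ndS (p := 494) (l := 8) rfl N494 D742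
theorem N680 : nd 680 = n743 := ndS (p := 495) (l := 5) rfl N495 D743
theorem N681 : nd 681 = n744 := ndS (p := 496) (l := 8) rfl N496 D744
theorem N682 : nd 682 = n745 := ndS (p := 497) (l := 5) rfl N497 D745
theorem N683 : nd 683 = n746 := ndS (p := 498) (l := 0) rfl N498 D746
theorem N684 : nd 684 = n747 := ndS (p := 498) (l := 6) rfl N498 D747
theorem N685 : nd 685 = n748 := ndS (p := 498) (l := 9) rfl N498 D748
theorem N686 : nd 686 = n749 := ndS (p := 499) (l := 7) rfl N499 D749
theorem N687 : nd 687 = n750 := ndS (p := 499) (l := 9) rfl N499 D750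
theorem N688 : nd 688 = n751 := ndS (p := 500) (l := 8) rfl N500 D751
theorem N689 : nd 689 = n752 := ndS (p := 501) (l := 9) rfl N501 D752
theorem N690 : nd 690 = n753 := ndS (p := 502) (l := 8) rfl N502 D753
theorem N691 : nd 691 = n754 := ndS (p := 503) (l := 5) rfl N503 D754
theorem N692 : nd 692 = n755 := ndS (p := 504) (l := 8) rfl N504 D755
theorem N693 : nd 693 = n756 := ndS (p := 505) (l := 5) rfl N505 D756
theorem N694 : nd 694 = n757 := ndS (p := 506) (l := 6) rfl N506 D757
theorem N695 : nd 695 = n758 := ndS (p := 507) (l := 5) rfl N507 D758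
theorem N696 : nd 696 = n759 := ndS (p := 508) (l := 4) rfl N508 D759
theorem N697 : nd 697 = n760 := ndS (p := 509) (l := 4) rfl N509 D760
theorem N698 : nd 698 = n761 := ndS (p := 509) (l := 6) rfl N509 D761
theorem N699 : nd 699 = n762 := ndS (p := 510) (l := 3) rfl N510 D762
theorem N700 : nd 700 = n766 := ndS (p := 514) (l := 9) rfl N514 D766
theorem N701 : nd 701 = n767 := ndS (p := 515) (l := 8) rfl N515 D767
theorem N702 : nd 702 = n768 := ndS (p := 516) (l := 5) rfl N516 D768
theorem N703 : nd 703 = n772 := ndS (p := 519) (l := 8) rfl N519 D772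
theorem N704 : nd 704 = n773 := ndS (p := 520) (l := 5) rfl N520 D773
theorem N705 : nd 705 = n778 := ndS (p := 522) (l := 4) rfl N522 D778
theorem N706 : nd 706 = n779 := ndS (p := 522) (l := 8) rfl N522 D779
theorem N707 : nd 707 = n780 := ndS (p := 523) (l := 5) rfl N523 D780
theorem N708 : nd 708 = n781 := ndS (p := 523) (l := 9) rfl N523 D781
theorem N709 : nd 709 = n791 := ndS (p := 525) (l := 3) rfl N525 D791
theorem N710 : nd 710 = n792 := ndS (p := 525) (l := 8) rfl N525 D792
theorem N711 : nd 711 = n793 := ndS (p := 526) (l := 5) rfl N526 D793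
theorem N712 : nd 712 = n794 := ndS (p := 526) (l := 9) rfl N526 D794
theorem N713 : nd 713 = n795 := ndS (p := 527) (l := 4) rfl N527 D795
theorem N714 : nd 714 = n796 := ndS (p := 527) (l := 6) rfl N527 D796
theorem N715 : nd 715 = n797 := ndS (p := 527) (l := 9) rfl N527 D797
theorem N716 : nd 716 = n802 := ndS (p := 529) (l := 9) rfl N529 D802
theorem N717 : nd 717 = n803 := ndS (p := 530) (l := 8) rfl N530 D803
theorem N718 : nd 718 = n812 := ndS (p := 532) (l := 5) rfl N532 D812
theorem N719 : nd 719 = n813 := ndS (p := 532) (l := 9) rfl N532 D813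
theorem N720 : nd 720 = n814 := ndS (p := 533) (l := 4) rfl N533 D814
theorem N721 : nd 721 = n815 := ndS (p := 533) (l := 6) rfl N533 D815
theorem N722 : nd 722 = n816 := ndS (p := 533) (l := 9) rfl N533 D816
theorem N723 : nd 723 = n817 := ndS (p := 535) (l := 3) rfl N535 D817
theorem N724 : nd 724 = n818 := ndS (p := 535) (l := 6) rfl N535 D818
theorem N725 : nd 725 = n819 := ndS (p := 535) (l := 9) rfl N535 D819
theorem N726 : nd 726 = n820 := ndS (p := 536) (l := 7) rfl N536 D820
theorem N727 : nd 727 = n821 := ndS (p := 536) (l := 9) rfl N536 D821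
theorem N728 : nd 728 = n822 := ndS (p := 537) (l := 8) rfl N537 D822
theorem N729 : nd 729 = n823 := ndS (p := 538) (l := 5) rfl N538 D823
theorem N730 : nd 730 = n825 := ndS (p := 538) (l := 9) rfl N538 D825
theorem N731 : nd 731 = n826 := ndS (p := 539) (l := 8) rfl N539 D826
theorem N732 : nd 732 = n827 := ndS (p := 540) (l := 9) rfl N540 D827
theorem N733 : nd 733 = n828 := ndS (p := 541) (l := 8) rfl N541 D828
theorem N734 : nd 734 = n834 := ndS (p := 543) (l := 5) rfl N543 D834
theorem N735 : nd 735 = n835 := ndS (p := 544) (l := 8) rfl N544 D835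
theorem N736 : nd 736 = n836 := ndS (p := 545) (l := 5) rfl N545 D836
theorem N737 : nd 737 = n837 := ndS (p := 546) (l := 3) rfl N546 D837
theorem N738 : nd 738 = n838 := ndS (p := 546) (l := 6) rfl N546 D838
theorem N739 : nd 739 = n839 := ndS (p := 546) (l := 9) rfl N546 D839
theorem N740 : nd 740 = n840 := ndS (p := 547) (l := 7) rfl N547 D840
theorem N741 : nd 741 = n841 := ndS (p := 547) (l := 9) rfl N547 D841
theorem N742 : nd 742 = n842 := ndS (p := 548) (l := 8) rfl N548 D842
theorem N743 : nd 743 = n843 := ndS (p := 549) (l := 2) rfl N549 D843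
theorem N744 : nd 744 = n844 := ndS (p := 549) (l := 6) rfl N549 D844
theorem N745 : nd 745 = n845 := ndS (p := 549) (l := 9) rfl N549 D845
theorem N746 : nd 746 = n846 := ndS (p := 550) (l := 7) rfl N550 D846
theorem N747 : nd 747 = n847 := ndS (p := 550) (l := 9) rfl N550 D847
theorem N748 : nd 748 = n848 := ndS (p := 551) (l := 8) rfl N551 D848
theorem N749 : nd 749 = n849 := ndS (p := 552) (l := 9) rfl N552 D849
theorem N750 : nd 750 = n850 := ndS (p := 553) (l := 8) rfl N553 D850
theorem N751 : nd 751 = n851 := ndS (p := 555) (l := 8) rfl N555 D851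
theorem N752 : nd 752 = n852 := ndS (p := 556) (l := 5) rfl N556 D852
theorem N753 : nd 753 = n853 := ndS (p := 557) (l := 5) rfl N557 D853
theorem N754 : nd 754 = n854 := ndS (p := 558) (l := 4) rfl N558 D854
theorem N755 : nd 755 = n855 := ndS (p := 559) (l := 1) rfl N559 D855
theorem N756 : nd 756 = n856 := ndS (p := 559) (l := 9) rfl N559 D856
theorem N757 : nd 757 = n857 := ndS (p := 560) (l := 8) rfl N560 D857
theorem N758 : nd 758 = n858 := ndS (p := 561) (l := 5) rfl N561 D858
theorem N759 : nd 759 = n859 := ndS (p := 562) (l := 8) rfl N562 D859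
theorem N760 : nd 760 = n860 := ndS (p := 563) (l := 5) rfl N563 D860
theorem N761 : nd 761 = n861 := ndS (p := 563) (l := 9) rfl N563 D861
theorem N762 : nd 762 = n862 := ndS (p := 564) (l := 4) rfl N564 D862
theorem N763 : nd 763 = n863 := ndS (p := 564) (l := 6) rfl N564 D863
theorem N764 : nd 764 = n864 := ndS (p := 564) (l := 9) rfl N564 D864
theorem N765 : nd 765 = n865 := ndS (p := 566) (l := 3) rfl N566 D865
theorem N766 : nd 766 = n866 := ndS (p := 566) (l := 6) rfl N566 D866
theorem N767 : nd 767 = n867 := ndS (p := 566) (l := 9) rfl N566 D867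
theorem N768 : nd 768 = n869 := ndS (p := 567) (l := 9) rfl N567 D869
theorem N769 : nd 769 = n870 := ndS (p := 568) (l := 8) rfl N568 D870
theorem N770 : nd 770 = n878 := ndS (p := 569) (l := 8) rfl N569 D878
theorem N771 : nd 771 = n891 := ndS (p := 571) (l := 4) rfl N571 D891
theorem N772 : nd 772 = n892 := ndS (p := 571) (l := 6) rfl N571 D892
theorem N773 : nd 773 = n893 := ndS (p := 571) (l := 9) rfl N571 D893
theorem N774 : nd 774 = n894 := ndS (p := 573) (l := 3) rfl N573 D894
theorem N775 : nd 775 = n895 := ndS (p := 573) (l := 6) rfl N573 D895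
theorem N776 : nd 776 = n896 := ndS (p := 573) (l := 9) rfl N573 D896
theorem N777 : nd 777 = n897 := ndS (p := 574) (l := 7) rfl N574 D897
theorem N778 : nd 778 = n898 := ndS (p := 574) (l := 9) rfl N574 D898
theorem N779 : nd 779 = n899 := ndS (p := 575) (l := 8) rfl N575 D899
theorem N780 : nd 780 = n900 := ndS (p := 576) (l := 2) rfl N576 D900
theorem N781 : nd 781 = n901 := ndS (p := 576) (l := 6) rfl N576 D901
theorem N782 : nd 782 = n902 := ndS (p := 576) (l := 9) rfl N576 D902
theorem N783 : nd 783 = n903 := ndS (p := 577) (l := 5) rfl N577 D903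
theorem N784 : nd 784 = n904 := ndS (p := 577) (l := 7) rfl N577 D904
theorem N785 : nd 785 = n905 := ndS (p := 577) (l := 9) rfl N577 D905
theorem N786 : nd 786 = n906 := ndS (p := 578) (l := 8) rfl N578 D906
theorem N787 : nd 787 = n907 := ndS (p := 579) (l := 9) rfl N579 D907
theorem N788 : nd 788 = n908 := ndS (p := 580) (l := 8) rfl N580 D908
theorem N789 : nd 789 = n910 := ndS (p := 582) (l := 8) rfl N582 D910
theorem N790 : nd 790 = n911 := ndS (p := 582) (l := 9) rfl N582 D911
theorem N791 : nd 791 = n913 := ndS (p := 583) (l := 8) rfl N583 D913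
theorem N792 : nd 792 = n914 := ndS (p := 584) (l := 5) rfl N584 D914
theorem N793 : nd 793 = n915 := ndS (p := 585) (l := 8) rfl N585 D915
theorem N794 : nd 794 = n916 := ndS (p := 586) (l := 5) rfl N586 D916
theorem N795 : nd 795 = n925 := ndS (p := 588) (l := 5) rfl N588 D925
theorem N796 : nd 796 = n927 := ndS (p := 590) (l := 2) rfl N590 D927
theorem N797 : nd 797 = n928 := ndS (p := 590) (l := 6) rfl N590 D928
theorem N798 : nd 798 = n929 := ndS (p := 590) (l := 9) rfl N590 D929
theorem N799 : nd 799 = n930 := ndS (p := 591) (l := 5) rfl N591 D930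
theorem N800 : nd 800 = n931 := ndS (p := 591) (l := 7) rfl N591 D931
theorem N801 : nd 801 = n932 := ndS (p := 591) (l := 9) rfl N591 D932
theorem N802 : nd 802 = n933 := ndS (p := 592) (l := 8) rfl N592 D933
theorem N803 : nd 803 = n934 := ndS (p := 593) (l := 9) rfl N593 D934
theorem N804 : nd 804 = n935 := ndS (p := 594) (l := 8) rfl N594 D935
theorem N805 : nd 805 = n936 := ndS (p := 596) (l := 1) rfl N596 D936
theorem N806 : nd 806 = n937 := ndS (p := 596) (l := 6) rfl N596 D937
theorem N807 : nd 807 = n938 := ndS (p := 596) (l := 9) rfl N596 D938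
theorem N808 : nd 808 = n939 := ndS (p := 597) (l := 7) rfl N597 D939
theorem N809 : nd 809 = n940 := ndS (p := 597) (l := 9) rfl N597 D940
theorem N810 : nd 810 = n941 := ndS (p := 598) (l := 8) rfl N598 D941
theorem N811 : nd 811 = n942 := ndS (p := 599) (l := 9) rfl N599 D942
theorem N812 : nd 812 = n943 := ndS (p := 600) (l := 8) rfl N600 D943
theorem N813 : nd 813 = n944 := ndS (p := 601) (l := 5) rfl N601 D944
theorem N814 : nd 814 = n945 := ndS (p := 602) (l := 8) rfl N602 D945
theorem N815 : nd 815 = n946 := ndS (p := 603) (l := 5) rfl N603 D946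
theorem N816 : nd 816 = n947 := ndS (p := 604) (l := 5) rfl N604 D947
theorem N817 : nd 817 = n948 := ndS (p := 605) (l := 4) rfl N605 D948
theorem N818 : nd 818 = n949 := ndS (p := 606) (l := 4) rfl N606 D949
theorem N819 : nd 819 = n950 := ndS (p := 606) (l := 6) rfl N606 D950
theorem N820 : nd 820 = n952 := ndS (p := 608) (l := 0) rfl N608 D952
theorem N821 : nd 821 = n953 := ndS (p := 608) (l := 9) rfl N608 D953
theorem N822 : nd 822 = n954 := ndS (p := 609) (l := 8) rfl N609 D954
theorem N823 : nd 823 = n955 := ndS (p := 610) (l := 5) rfl N610 D955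
theorem N824 : nd 824 = n956 := ndS (p := 611) (l := 6) rfl N611 D956
theorem N825 : nd 825 = n957 := ndS (p := 612) (l := 3) rfl N612 D957
theorem N826 : nd 826 = n958 := ndS (p := 612) (l := 6) rfl N612 D958
theorem N827 : nd 827 = n959 := ndS (p := 612) (l := 9) rfl N612 D959
theorem N828 : nd 828 = n960 := ndS (p := 613) (l := 7) rfl N613 D960
theorem N829 : nd 829 = n961 := ndS (p := 613) (l := 9) rfl N613 D961
theorem N830 : nd 830 = n962 := ndS (p := 614) (l := 8) rfl N614 D962
theorem N831 : nd 831 = n963 := ndS (p := 615) (l := 2) rfl N615 D963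
theorem N832 : nd 832 = n964 := ndS (p := 615) (l := 6) rfl N615 D964
theorem N833 : nd 833 = n965 := ndS (p := 615) (l := 9) rfl N615 D965
theorem N834 : nd 834 = n966 := ndS (p := 616) (l := 5) rfl N616 D966
theorem N835 : nd 835 = n967 := ndS (p := 616) (l := 7) rfl N616 D967
theorem N836 : nd 836 = n968 := ndS (p := 616) (l := 9) rfl N616 D968
theorem N837 : nd 837 = n969 := ndS (p := 617) (l := 8) rfl N617 D969
theorem N838 : nd 838 = n970 := ndS (p := 618) (l := 9) rfl N618 D970
theorem N839 : nd 839 = n971 := ndS (p := 619) (l := 8) rfl N619 D971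
theorem N840 : nd 840 = n972 := ndS (p := 621) (l := 1) rfl N621 D972
theorem N841 : nd 841 = n973 := ndS (p := 621) (l := 6) rfl N621 D973
theorem N842 : nd 842 = n974 := ndS (p := 621) (l := 9) rfl N621 D974
theorem N843 : nd 843 = n975 := ndS (p := 622) (l := 5) rfl N622 D975
theorem N844 : nd 844 = n976 := ndS (p := 622) (l := 7) rfl N622 D976
theorem N845 : nd 845 = n977 := ndS (p := 622) (l := 9) rfl N622 D977
theorem N846 : nd 846 = n978 := ndS (p := 623) (l := 8) rfl N623 D978
theorem N847 : nd 847 = n979 := ndS (p := 624) (l := 7) rfl N624 D979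
theorem N848 : nd 848 = n980 := ndS (p := 624) (l := 8) rfl N624 D980
theorem N849 : nd 849 = n981 := ndS (p := 624) (l := 9) rfl N624 D981
theorem N850 : nd 850 = n982 := ndS (p := 625) (l := 9) rfl N625 D982
theorem N851 : nd 851 = n983 := ndS (p := 626) (l := 8) rfl N626 D983
theorem N852 : nd 852 = n984 := ndS (p := 627) (l := 5) rfl N627 D984
theorem N853 : nd 853 = n985 := ndS (p := 628) (l := 8) rfl N628 D985
theorem N854 : nd 854 = n986 := ndS (p := 629) (l := 5) rfl N629 D986
theorem N855 : nd 855 = n988 := ndS (p := 630) (l := 8) rfl N630 D988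
theorem N856 : nd 856 = n989 := ndS (p := 630) (l := 9) rfl N630 D989
theorem N857 : nd 857 = n990 := ndS (p := 631) (l := 9) rfl N631 D990
theorem N858 : nd 858 = n991 := ndS (p := 632) (l := 8) rfl N632 D991
theorem N859 : nd 859 = n992 := ndS (p := 633) (l := 8) rfl N633 D992
theorem N860 : nd 860 = n993 := ndS (p := 634) (l := 5) rfl N634 D993
theorem N861 : nd 861 = n994 := ndS (p := 635) (l := 6) rfl N635 D994
theorem N862 : nd 862 = n995 := ndS (p := 636) (l := 5) rfl N636 D995
theorem N863 : nd 863 = n996 := ndS (p := 637) (l := 4) rfl N637 D996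
theorem N864 : nd 864 = n1008 := ndS (p := 639) (l := 6) rfl N639 D1008
theorem N865 : nd 865 = n1010 := ndS (p := 640) (l := 1) rfl N640 D1010
theorem N866 : nd 866 = n1011 := ndS (p := 640) (l := 6) rfl N640 D1011
theorem N867 : nd 867 = n1012 := ndS (p := 640) (l := 9) rfl N640 D1012
theorem N868 : nd 868 = n1013 := ndS (p := 641) (l := 5) rfl N641 D1013
theorem N869 : nd 869 = n1014 := ndS (p := 641) (l := 7) rfl N641 D1014
theorem N870 : nd 870 = n1015 := ndS (p := 641) (l := 9) rfl N641 D1015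
theorem N871 : nd 871 = n1016 := ndS (p := 642) (l := 8) rfl N642 D1016
theorem N872 : nd 872 = n1017 := ndS (p := 643) (l := 7) rfl N643 D1017
theorem N873 : nd 873 = n1018 := ndS (p := 643) (l := 9) rfl N643 D1018
theorem N874 : nd 874 = n1019 := ndS (p := 644) (l := 9) rfl N644 D1019
theorem N875 : nd 875 = n1020 := ndS (p := 645) (l := 8) rfl N645 D1020
theorem N876 : nd 876 = n1021 := ndS (p := 646) (l := 5) rfl N646 D1021
theorem N877 : nd 877 = n1022 := ndS (p := 647) (l := 8) rfl N647 D1022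
theorem N878 : nd 878 = n1023 := ndS (p := 648) (l := 5) rfl N648 D1023
theorem N879 : nd 879 = n1024 := ndS (p := 649) (l := 0) rfl N649 D1024
theorem N880 : nd 880 = n1025 := ndS (p := 649) (l := 6) rfl N649 D1025
theorem N881 : nd 881 = n1026 := ndS (p := 649) (l := 9) rfl N649 D1026
theorem N882 : nd 882 = n1027 := ndS (p := 650) (l := 7) rfl N650 D1027
theorem N883 : nd 883 = n1028 := ndS (p := 650) (l := 9) rfl N650 D1028
theorem N884 : nd 884 = n1029 := ndS (p := 651) (l := 8) rfl N651 D1029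
theorem N885 : nd 885 = n1030 := ndS (p := 652) (l := 9) rfl N652 D1030
theorem N886 : nd 886 = n1031 := ndS (p := 653) (l := 8) rfl N653 D1031
theorem N887 : nd 887 = n1032 := ndS (p := 654) (l := 5) rfl N654 D1032
theorem N888 : nd 888 = n1033 := ndS (p := 655) (l := 8) rfl N655 D1033
theorem N889 : nd 889 = n1034 := ndS (p := 656) (l := 5) rfl N656 D1034
theorem N890 : nd 890 = n1035 := ndS (p := 657) (l := 6) rfl N657 D1035
theorem N891 : nd 891 = n1036 := ndS (p := 658) (l := 5) rfl N658 D1036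
theorem N892 : nd 892 = n1037 := ndS (p := 659) (l := 4) rfl N659 D1037
theorem N893 : nd 893 = n1038 := ndS (p := 660) (l := 4) rfl N660 D1038
theorem N894 : nd 894 = n1039 := ndS (p := 660) (l := 6) rfl N660 D1039
theorem N895 : nd 895 = n1040 := ndS (p := 661) (l := 3) rfl N661 D1040
theorem N896 : nd 896 = n1044 := ndS (p := 664) (l := 9) rfl N664 D1044
theorem N897 : nd 897 = n1045 := ndS (p := 665) (l := 8) rfl N665 D1045
theorem N898 : nd 898 = n1046 := ndS (p := 666) (l := 5) rfl N666 D1046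
theorem N899 : nd 899 = n1047 := ndS (p := 667) (l := 4) rfl N667 D1047
theorem N900 : nd 900 = n1048 := ndS (p := 667) (l := 6) rfl N667 D1048
theorem N901 : nd 901 = n1049 := ndS (p := 668) (l := 7) rfl N668 D1049
theorem N902 : nd 902 = n1050 := ndS (p := 669) (l := 0) rfl N669 D1050
theorem N903 : nd 903 = n1051 := ndS (p := 669) (l := 6) rfl N669 D1051
theorem N904 : nd 904 = n1052 := ndS (p := 669) (l := 9) rfl N669 D1052
theorem N905 : nd 905 = n1053 := ndS (p := 670) (l := 5) rfl N670 D1053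
theorem N906 : nd 906 = n1054 := ndS (p := 670) (l := 7) rfl N670 D1054
theorem N907 : nd 907 = n1055 := ndS (p := 670) (l := 9) rfl N670 D1055
theorem N908 : nd 908 = n1056 := ndS (p := 671) (l := 8) rfl N671 D1056
theorem N909 : nd 909 = n1057 := ndS (p := 672) (l := 4) rfl N672 D1057
theorem N910 : nd 910 = n1058 := ndS (p := 672) (l := 7) rfl N672 D1058
theorem N911 : nd 911 = n1059 := ndS (p := 672) (l := 9) rfl N672 D1059
theorem N912 : nd 912 = n1060 := ndS (p := 673) (l := 9) rfl N673 D1060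
theorem N913 : nd 913 = n1061 := ndS (p := 674) (l := 8) rfl N674 D1061
theorem N914 : nd 914 = n1062 := ndS (p := 675) (l := 5) rfl N675 D1062
theorem N915 : nd 915 = n1063 := ndS (p := 676) (l := 6) rfl N676 D1063
theorem N916 : nd 916 = n1064 := ndS (p := 676) (l := 9) rfl N676 D1064
theorem N917 : nd 917 = n1065 := ndS (p := 677) (l := 8) rfl N677 D1065
theorem N918 : nd 918 = n1066 := ndS (p := 678) (l := 8) rfl N678 D1066
theorem N919 : nd 919 = n1067 := ndS (p := 679) (l := 5) rfl N679 D1067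
theorem N920 : nd 920 = n1068 := ndS (p := 680) (l := 6) rfl N680 D1068
theorem N921 : nd 921 = n1069 := ndS (p := 681) (l := 5) rfl N681 D1069
theorem N922 : nd 922 = n1070 := ndS (p := 682) (l := 4) rfl N682 D1070
theorem N923 : nd 923 = n1071 := ndS (p := 683) (l := 6) rfl N683 D1071
theorem N924 : nd 924 = n1072 := ndS (p := 683) (l := 9) rfl N683 D1072
theorem N925 : nd 925 = n1073 := ndS (p := 684) (l := 7) rfl N684 D1073
theorem N926 : nd 926 = n1074 := ndS (p := 684) (l := 9) rfl N684 D1074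
theorem N927 : nd 927 = n1075 := ndS (p := 685) (l := 8) rfl N685 D1075
theorem N928 : nd 928 = n1076 := ndS (p := 686) (l := 9) rfl N686 D1076
theorem N929 : nd 929 = n1077 := ndS (p := 687) (l := 8) rfl N687 D1077
theorem N930 : nd 930 = n1078 := ndS (p := 688) (l := 5) rfl N688 D1078
theorem N931 : nd 931 = n1079 := ndS (p := 689) (l := 8) rfl N689 D1079
theorem N932 : nd 932 = n1080 := ndS (p := 690) (l := 5) rfl N690 D1080
theorem N933 : nd 933 = n1081 := ndS (p := 691) (l := 4) rfl N691 D1081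
theorem N934 : nd 934 = n1082 := ndS (p := 691) (l := 6) rfl N691 D1082
theorem N935 : nd 935 = n1083 := ndS (p := 692) (l := 5) rfl N692 D1083
theorem N936 : nd 936 = n1084 := ndS (p := 693) (l := 4) rfl N693 D1084
theorem N937 : nd 937 = n1085 := ndS (p := 693) (l := 6) rfl N693 D1085
theorem N938 : nd 938 = n1086 := ndS (p := 694) (l := 7) rfl N694 D1086
theorem N939 : nd 939 = n1097 := ndS (p := 700) (l := 8) rfl N700 D1097
theorem N940 : nd 940 = n1098 := ndS (p := 701) (l := 5) rfl N701 D1098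
theorem N941 : nd 941 = n1103 := ndS (p := 703) (l := 5) rfl N703 D1103
theorem N942 : nd 942 = n1111 := ndS (p := 705) (l := 3) rfl N705 D1111
theorem N943 : nd 943 = n1112 := ndS (p := 705) (l := 8) rfl N705 D1112
theorem N944 : nd 944 = n1113 := ndS (p := 706) (l := 5) rfl N706 D1113
theorem N945 : nd 945 = n1114 := ndS (p := 706) (l := 9) rfl N706 D1114
theorem N946 : nd 946 = n1115 := ndS (p := 707) (l := 4) rfl N707 D1115
theorem N947 : nd 947 = n1117 := ndS (p := 707) (l := 9) rfl N707 D1117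
theorem N948 : nd 948 = n1133 := ndS (p := 709) (l := 8) rfl N709 D1133
theorem N949 : nd 949 = n1134 := ndS (p := 710) (l := 5) rfl N710 D1134
theorem N950 : nd 950 = n1135 := ndS (p := 710) (l := 9) rfl N710 D1135
theorem N951 : nd 951 = n1136 := ndS (p := 711) (l := 4) rfl N711 D1136
theorem N952 : nd 952 = n1137 := ndS (p := 711) (l := 6) rfl N711 D1137
theorem N953 : nd 953 = n1138 := ndS (p := 711) (l := 9) rfl N711 D1138
theorem N954 : nd 954 = n1139 := ndS (p := 713) (l := 3) rfl N713 D1139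
theorem N955 : nd 955 = n1140 := ndS (p := 713) (l := 6) rfl N713 D1140
theorem N956 : nd 956 = n1141 := ndS (p := 713) (l := 9) rfl N713 D1141
theorem N957 : nd 957 = n1143 := ndS (p := 714) (l := 9) rfl N714 D1143
theorem N958 : nd 958 = n1144 := ndS (p := 715) (l := 8) rfl N715 D1144
theorem N959 : nd 959 = n1152 := ndS (p := 716) (l := 8) rfl N716 D1152
theorem N960 : nd 960 = n1165 := ndS (p := 718) (l := 4) rfl N718 D1165
theorem N961 : nd 961 = n1166 := ndS (p := 718) (l := 6) rfl N718 D1166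
theorem N962 : nd 962 = n1167 := ndS (p := 718) (l := 9) rfl N718 D1167
theorem N963 : nd 963 = n1168 := ndS (p := 720) (l := 3) rfl N720 D1168
theorem N964 : nd 964 = n1169 := ndS (p := 720) (l := 6) rfl N720 D1169
theorem N965 : nd 965 = n1170 := ndS (p := 720) (l := 9) rfl N720 D1170
theorem N966 : nd 966 = n1171 := ndS (p := 721) (l := 7) rfl N721 D1171
theorem N967 : nd 967 = n1172 := ndS (p := 721) (l := 9) rfl N721 D1172
theorem N968 : nd 968 = n1173 := ndS (p := 722) (l := 8) rfl N722 D1173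
theorem N969 : nd 969 = n1174 := ndS (p := 723) (l := 2) rfl N723 D1174
theorem N970 : nd 970 = n1175 := ndS (p := 723) (l := 6) rfl N723 D1175
theorem N971 : nd 971 = n1176 := ndS (p := 723) (l := 9) rfl N723 D1176
theorem N972 : nd 972 = n1177 := ndS (p := 724) (l := 5) rfl N724 D1177
theorem N973 : nd 973 = n1178 := ndS (p := 724) (l := 7) rfl N724 D1178
theorem N974 : nd 974 = n1179 := ndS (p := 724) (l := 9) rfl N724 D1179
theorem N975 : nd 975 = n1180 := ndS (p := 725) (l := 8) rfl N725 D1180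
theorem N976 : nd 976 = n1181 := ndS (p := 726) (l := 9) rfl N726 D1181
theorem N977 : nd 977 = n1182 := ndS (p := 727) (l := 8) rfl N727 D1182
theorem N978 : nd 978 = n1184 := ndS (p := 729) (l := 8) rfl N729 D1184
theorem N979 : nd 979 = n1185 := ndS (p := 729) (l := 9) rfl N729 D1185
theorem N980 : nd 980 = n1187 := ndS (p := 730) (l := 8) rfl N730 D1187
theorem N981 : nd 981 = n1188 := ndS (p := 731) (l := 5) rfl N731 D1188
theorem N982 : nd 982 = n1189 := ndS (p := 732) (l := 8) rfl N732 D1189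
theorem N983 : nd 983 = n1190 := ndS (p := 733) (l := 5) rfl N733 D1190
theorem N984 : nd 984 = n1199 := ndS (p := 735) (l := 5) rfl N735 D1199
theorem N985 : nd 985 = n1201 := ndS (p := 737) (l := 2) rfl N737 D1201
theorem N986 : nd 986 = n1202 := ndS (p := 737) (l := 6) rfl N737 D1202
theorem N987 : nd 987 = n1203 := ndS (p := 737) (l := 9) rfl N737 D1203
theorem N988 : nd 988 = n1204 := ndS (p := 738) (l := 5) rfl N738 D1204
theorem N989 : nd 989 = n1205 := ndS (p := 738) (l := 7) rfl N738 D1205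
theorem N990 : nd 990 = n1206 := ndS (p := 738) (l := 9) rfl N738 D1206
theorem N991 : nd 991 = n1207 := ndS (p := 739) (l := 8) rfl N739 D1207
theorem N992 : nd 992 = n1208 := ndS (p := 740) (l := 9) rfl N740 D1208
theorem N993 : nd 993 = n1209 := ndS (p := 741) (l := 8) rfl N741 D1209
theorem N994 : nd 994 = n1210 := ndS (p := 743) (l := 1) rfl N743 D1210
theorem N995 : nd 995 = n1211 := ndS (p := 743) (l := 6) rfl N743 D1211
theorem N996 : nd 996 = n1212 := ndS (p := 743) (l := 9) rfl N743 D1212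
theorem N997 : nd 997 = n1213 := ndS (p := 744) (l := 7) rfl N744 D1213
theorem N998 : nd 998 = n1214 := ndS (p := 744) (l := 9) rfl N744 D1214
theorem N999 : nd 999 = n1215 := ndS (p := 745) (l := 8) rfl N745 D1215
theorem N1000 : nd 1000 = n1216 := ndS (p := 746) (l := 9) rfl N746 D1216
theorem N1001 : nd 1001 = n1217 := ndS (p := 747) (l := 8) rfl N747 D1217
theorem N1002 : nd 1002 = n1218 := ndS (p := 748) (l := 5) rfl N748 D1218
theorem N1003 : nd 1003 = n1219 := ndS (p := 749) (l := 8) rfl N749 D1219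
theorem N1004 : nd 1004 = n1220 := ndS (p := 750) (l := 5) rfl N750 D1220
theorem N1005 : nd 1005 = n1221 := ndS (p := 751) (l := 5) rfl N751 D1221
theorem N1006 : nd 1006 = n1222 := ndS (p := 752) (l := 4) rfl N752 D1222
theorem N1007 : nd 1007 = n1223 := ndS (p := 753) (l := 4) rfl N753 D1223
theorem N1008 : nd 1008 = n1224 := ndS (p := 753) (l := 6) rfl N753 D1224
theorem N1009 : nd 1009 = n1226 := ndS (p := 755) (l := 0) rfl N755 D1226
theorem N1010 : nd 1010 = n1227 := ndS (p := 755) (l := 9) rfl N755 D1227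
theorem N1011 : nd 1011 = n1228 := ndS (p := 756) (l := 8) rfl N756 D1228
theorem N1012 : nd 1012 = n1229 := ndS (p := 757) (l := 5) rfl N757 D1229
theorem N1013 : nd 1013 = n1230 := ndS (p := 758) (l := 6) rfl N758 D1230
theorem N1014 : nd 1014 = n1231 := ndS (p := 759) (l := 5) rfl N759 D1231
theorem N1015 : nd 1015 = n1232 := ndS (p := 759) (l := 9) rfl N759 D1232
theorem N1016 : nd 1016 = n1233 := ndS (p := 760) (l := 4) rfl N760 D1233
theorem N1017 : nd 1017 = n1234 := ndS (p := 760) (l := 6) rfl N760 D1234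
theorem N1018 : nd 1018 = n1235 := ndS (p := 760) (l := 9) rfl N760 D1235
theorem N1019 : nd 1019 = n1236 := ndS (p := 762) (l := 3) rfl N762 D1236
theorem N1020 : nd 1020 = n1237 := ndS (p := 762) (l := 6) rfl N762 D1237
theorem N1021 : nd 1021 = n1238 := ndS (p := 762) (l := 9) rfl N762 D1238
theorem N1022 : nd 1022 = n1240 := ndS (p := 763) (l := 9) rfl N763 D1240
theorem N1023 : nd 1023 = n1241 := ndS (p := 764) (l := 8) rfl N764 D1241
theorem N1024 : nd 1024 = n1242 := ndS (p := 765) (l := 2) rfl N765 D1242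
theorem N1025 : nd 1025 = n1243 := ndS (p := 765) (l := 6) rfl N765 D1243
theorem N1026 : nd 1026 = n1244 := ndS (p := 765) (l := 9) rfl N765 D1244
theorem N1027 : nd 1027 = n1247 := ndS (p := 766) (l := 9) rfl N766 D1247
theorem N1028 : nd 1028 = n1248 := ndS (p := 767) (l := 8) rfl N767 D1248
theorem N1029 : nd 1029 = n1250 := ndS (p := 768) (l := 8) rfl N768 D1250
theorem N1030 : nd 1030 = n1262 := ndS (p := 770) (l := 5) rfl N770 D1262
theorem N1031 : nd 1031 = n1280 := ndS (p := 771) (l := 3) rfl N771 D1280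
theorem N1032 : nd 1032 = n1281 := ndS (p := 771) (l := 6) rfl N771 D1281
theorem N1033 : nd 1033 = n1282 := ndS (p := 771) (l := 9) rfl N771 D1282
theorem N1034 : nd 1034 = n1283 := ndS (p := 772) (l := 7) rfl N772 D1283
theorem N1035 : nd 1035 = n1284 := ndS (p := 772) (l := 9) rfl N772 D1284
theorem N1036 : nd 1036 = n1285 := ndS (p := 773) (l := 8) rfl N773 D1285
theorem N1037 : nd 1037 = n1286 := ndS (p := 774) (l := 2) rfl N774 D1286
theorem N1038 : nd 1038 = n1287 := ndS (p := 774) (l := 6) rfl N774 D1287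
theorem N1039 : nd 1039 = n1288 := ndS (p := 774) (l := 9) rfl N774 D1288
theorem N1040 : nd 1040 = n1289 := ndS (p := 775) (l := 5) rfl N775 D1289
theorem N1041 : nd 1041 = n1290 := ndS (p := 775) (l := 7) rfl N775 D1290
theorem N1042 : nd 1042 = n1291 := ndS (p := 775) (l := 9) rfl N775 D1291
theorem N1043 : nd 1043 = n1292 := ndS (p := 776) (l := 8) rfl N776 D1292
theorem N1044 : nd 1044 = n1293 := ndS (p := 777) (l := 9) rfl N777 D1293
theorem N1045 : nd 1045 = n1294 := ndS (p := 778) (l := 8) rfl N778 D1294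
theorem N1046 : nd 1046 = n1295 := ndS (p := 780) (l := 1) rfl N780 D1295
theorem N1047 : nd 1047 = n1296 := ndS (p := 780) (l := 6) rfl N780 D1296
theorem N1048 : nd 1048 = n1297 := ndS (p := 780) (l := 9) rfl N780 D1297
theorem N1049 : nd 1049 = n1298 := ndS (p := 781) (l := 5) rfl N781 D1298
theorem N1050 : nd 1050 = n1299 := ndS (p := 781) (l := 7) rfl N781 D1299
theorem N1051 : nd 1051 = n1300 := ndS (p := 781) (l := 9) rfl N781 D1300
theorem N1052 : nd 1052 = n1301 := ndS (p := 782) (l := 8) rfl N782 D1301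
theorem N1053 : nd 1053 = n1303 := ndS (p := 783) (l := 8) rfl N783 D1303
theorem N1054 : nd 1054 = n1304 := ndS (p := 783) (l := 9) rfl N783 D1304
theorem N1055 : nd 1055 = n1305 := ndS (p := 784) (l := 9) rfl N784 D1305
theorem N1056 : nd 1056 = n1306 := ndS (p := 785) (l := 8) rfl N785 D1306
theorem N1057 : nd 1057 = n1307 := ndS (p := 786) (l := 5) rfl N786 D1307
theorem N1058 : nd 1058 = n1308 := ndS (p := 787) (l := 8) rfl N787 D1308
theorem N1059 : nd 1059 = n1309 := ndS (p := 788) (l := 5) rfl N788 D1309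
theorem N1060 : nd 1060 = n1313 := ndS (p := 789) (l := 9) rfl N789 D1313
theorem N1061 : nd 1061 = n1314 := ndS (p := 790) (l := 8) rfl N790 D1314
theorem N1062 : nd 1062 = n1316 := ndS (p := 791) (l := 5) rfl N791 D1316
theorem N1063 : nd 1063 = n1317 := ndS (p := 792) (l := 6) rfl N792 D1317
theorem N1064 : nd 1064 = n1318 := ndS (p := 793) (l := 5) rfl N793 D1318
theorem N1065 : nd 1065 = n1319 := ndS (p := 794) (l := 4) rfl N794 D1319
theorem N1066 : nd 1066 = n1331 := ndS (p := 795) (l := 6) rfl N795 D1331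
theorem N1067 : nd 1067 = n1333 := ndS (p := 796) (l := 1) rfl N796 D1333
theorem N1068 : nd 1068 = n1334 := ndS (p := 796) (l := 6) rfl N796 D1334
theorem N1069 : nd 1069 = n1335 := ndS (p := 796) (l := 9) rfl N796 D1335
theorem N1070 : nd 1070 = n1336 := ndS (p := 797) (l := 5) rfl N797 D1336
theorem N1071 : nd 1071 = n1337 := ndS (p := 797) (l := 7) rfl N797 D1337
theorem N1072 : nd 1072 = n1338 := ndS (p := 797) (l := 9) rfl N797 D1338
theorem N1073 : nd 1073 = n1339 := ndS (p := 798) (l := 8) rfl N798 D1339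
theorem N1074 : nd 1074 = n1340 := ndS (p := 799) (l := 7) rfl N799 D1340
theorem N1075 : nd 1075 = n1341 := ndS (p := 799) (l := 9) rfl N799 D1341
theorem N1076 : nd 1076 = n1342 := ndS (p := 800) (l := 9) rfl N800 D1342
theorem N1077 : nd 1077 = n1343 := ndS (p := 801) (l := 8) rfl N801 D1343
theorem N1078 : nd 1078 = n1344 := ndS (p := 802) (l := 5) rfl N802 D1344
theorem N1079 : nd 1079 = n1345 := ndS (p := 803) (l := 8) rfl N803 D1345
theorem N1080 : nd 1080 = n1346 := ndS (p := 804) (l := 5) rfl N804 D1346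
theorem N1081 : nd 1081 = n1347 := ndS (p := 805) (l := 0) rfl N805 D1347
theorem N1082 : nd 1082 = n1348 := ndS (p := 805) (l := 6) rfl N805 D1348
theorem N1083 : nd 1083 = n1349 := ndS (p := 805) (l := 9) rfl N805 D1349
theorem N1084 : nd 1084 = n1350 := ndS (p := 806) (l := 7) rfl N806 D1350
theorem N1085 : nd 1085 = n1351 := ndS (p := 806) (l := 9) rfl N806 D1351
theorem N1086 : nd 1086 = n1352 := ndS (p := 807) (l := 8) rfl N807 D1352
theorem N1087 : nd 1087 = n1353 := ndS (p := 808) (l := 9) rfl N808 D1353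
theorem N1088 : nd 1088 = n1354 := ndS (p := 809) (l := 8) rfl N809 D1354
theorem N1089 : nd 1089 = n1355 := ndS (p := 810) (l := 5) rfl N810 D1355
theorem N1090 : nd 1090 = n1356 := ndS (p := 811) (l := 8) rfl N811 D1356
theorem N1091 : nd 1091 = n1357 := ndS (p := 812) (l := 5) rfl N812 D1357
theorem N1092 : nd 1092 = n1358 := ndS (p := 813) (l := 6) rfl N813 D1358
theorem N1093 : nd 1093 = n1359 := ndS (p := 814) (l := 5) rfl N814 D1359
theorem N1094 : nd 1094 = n1360 := ndS (p := 815) (l := 4) rfl N815 D1360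
theorem N1095 : nd 1095 = n1361 := ndS (p := 816) (l := 4) rfl N816 D1361
theorem N1096 : nd 1096 = n1362 := ndS (p := 816) (l := 6) rfl N816 D1362
theorem N1097 : nd 1097 = n1363 := ndS (p := 817) (l := 3) rfl N817 D1363
theorem N1098 : nd 1098 = n1367 := ndS (p := 820) (l := 9) rfl N820 D1367
theorem N1099 : nd 1099 = n1368 := ndS (p := 821) (l := 8) rfl N821 D1368
theorem N1100 : nd 1100 = n1369 := ndS (p := 822) (l := 5) rfl N822 D1369
theorem N1101 : nd 1101 = n1370 := ndS (p := 823) (l := 4) rfl N823 D1370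
theorem N1102 : nd 1102 = n1371 := ndS (p := 823) (l := 6) rfl N823 D1371
theorem N1103 : nd 1103 = n1372 := ndS (p := 824) (l := 7) rfl N824 D1372
theorem N1104 : nd 1104 = n1373 := ndS (p := 825) (l := 2) rfl N825 D1373
theorem N1105 : nd 1105 = n1374 := ndS (p := 825) (l := 6) rfl N825 D1374
theorem N1106 : nd 1106 = n1375 := ndS (p := 825) (l := 9) rfl N825 D1375
theorem N1107 : nd 1107 = n1376 := ndS (p := 826) (l := 5) rfl N826 D1376
theorem N1108 : nd 1108 = n1377 := ndS (p := 826) (l := 7) rfl N826 D1377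
theorem N1109 : nd 1109 = n1378 := ndS (p := 826) (l := 9) rfl N826 D1378
theorem N1110 : nd 1110 = n1379 := ndS (p := 827) (l := 8) rfl N827 D1379
theorem N1111 : nd 1111 = n1380 := ndS (p := 828) (l := 9) rfl N828 D1380
theorem N1112 : nd 1112 = n1381 := ndS (p := 829) (l := 8) rfl N829 D1381
theorem N1113 : nd 1113 = n1382 := ndS (p := 831) (l := 1) rfl N831 D1382
theorem N1114 : nd 1114 = n1383 := ndS (p := 831) (l := 6) rfl N831 D1383
theorem N1115 : nd 1115 = n1384 := ndS (p := 831) (l := 9) rfl N831 D1384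
theorem N1116 : nd 1116 = n1385 := ndS (p := 832) (l := 5) rfl N832 D1385
theorem N1117 : nd 1117 = n1386 := ndS (p := 832) (l := 7) rfl N832 D1386
theorem N1118 : nd 1118 = n1387 := ndS (p := 832) (l := 9) rfl N832 D1387
theorem N1119 : nd 1119 = n1388 := ndS (p := 833) (l := 8) rfl N833 D1388
theorem N1120 : nd 1120 = n1389 := ndS (p := 834) (l := 7) rfl N834 D1389
theorem N1121 : nd 1121 = n1390 := ndS (p := 834) (l := 8) rfl N834 D1390
theorem N1122 : nd 1122 = n1391 := ndS (p := 834) (l := 9) rfl N834 D1391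
theorem N1123 : nd 1123 = n1392 := ndS (p := 835) (l := 9) rfl N835 D1392
theorem N1124 : nd 1124 = n1393 := ndS (p := 836) (l := 8) rfl N836 D1393
theorem N1125 : nd 1125 = n1394 := ndS (p := 837) (l := 5) rfl N837 D1394
theorem N1126 : nd 1126 = n1395 := ndS (p := 838) (l := 8) rfl N838 D1395
theorem N1127 : nd 1127 = n1396 := ndS (p := 839) (l := 5) rfl N839 D1396
theorem N1128 : nd 1128 = n1397 := ndS (p := 840) (l := 0) rfl N840 D1397
theorem N1129 : nd 1129 = n1398 := ndS (p := 840) (l := 6) rfl N840 D1398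
theorem N1130 : nd 1130 = n1399 := ndS (p := 840) (l := 9) rfl N840 D1399
theorem N1131 : nd 1131 = n1400 := ndS (p := 841) (l := 5) rfl N841 D1400
theorem N1132 : nd 1132 = n1401 := ndS (p := 841) (l := 7) rfl N841 D1401
theorem N1133 : nd 1133 = n1402 := ndS (p := 841) (l := 9) rfl N841 D1402
theorem N1134 : nd 1134 = n1403 := ndS (p := 842) (l := 8) rfl N842 D1403
theorem N1135 : nd 1135 = n1404 := ndS (p := 843) (l := 7) rfl N843 D1404
theorem N1136 : nd 1136 = n1405 := ndS (p := 843) (l := 8) rfl N843 D1405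
theorem N1137 : nd 1137 = n1406 := ndS (p := 843) (l := 9) rfl N843 D1406
theorem N1138 : nd 1138 = n1407 := ndS (p := 844) (l := 9) rfl N844 D1407
theorem N1139 : nd 1139 = n1408 := ndS (p := 845) (l := 8) rfl N845 D1408
theorem N1140 : nd 1140 = n1409 := ndS (p := 846) (l := 5) rfl N846 D1409
theorem N1141 : nd 1141 = n1411 := ndS (p := 847) (l := 8) rfl N847 D1411
theorem N1142 : nd 1142 = n1412 := ndS (p := 847) (l := 9) rfl N847 D1412
theorem N1143 : nd 1143 = n1413 := ndS (p := 848) (l := 9) rfl N848 D1413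
theorem N1144 : nd 1144 = n1414 := ndS (p := 849) (l := 8) rfl N849 D1414
theorem N1145 : nd 1145 = n1415 := ndS (p := 850) (l := 8) rfl N850 D1415
theorem N1146 : nd 1146 = n1416 := ndS (p := 851) (l := 5) rfl N851 D1416
theorem N1147 : nd 1147 = n1417 := ndS (p := 852) (l := 6) rfl N852 D1417
theorem N1148 : nd 1148 = n1418 := ndS (p := 853) (l := 5) rfl N853 D1418
theorem N1149 : nd 1149 = n1419 := ndS (p := 854) (l := 4) rfl N854 D1419
theorem N1150 : nd 1150 = n1422 := ndS (p := 855) (l := 9) rfl N855 D1422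
theorem N1151 : nd 1151 = n1423 := ndS (p := 856) (l := 8) rfl N856 D1423
theorem N1152 : nd 1152 = n1424 := ndS (p := 857) (l := 8) rfl N857 D1424
theorem N1153 : nd 1153 = n1425 := ndS (p := 858) (l := 5) rfl N858 D1425
theorem N1154 : nd 1154 = n1426 := ndS (p := 859) (l := 5) rfl N859 D1426
theorem N1155 : nd 1155 = n1427 := ndS (p := 860) (l := 4) rfl N860 D1427
theorem N1156 : nd 1156 = n1428 := ndS (p := 860) (l := 6) rfl N860 D1428
theorem N1157 : nd 1157 = n1430 := ndS (p := 862) (l := 4) rfl N862 D1430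
theorem N1158 : nd 1158 = n1431 := ndS (p := 862) (l := 6) rfl N862 D1431
theorem N1159 : nd 1159 = n1432 := ndS (p := 863) (l := 3) rfl N863 D1432
theorem N1160 : nd 1160 = n1449 := ndS (p := 865) (l := 0) rfl N865 D1449
theorem N1161 : nd 1161 = n1450 := ndS (p := 865) (l := 6) rfl N865 D1450
theorem N1162 : nd 1162 = n1451 := ndS (p := 865) (l := 9) rfl N865 D1451
theorem N1163 : nd 1163 = n1452 := ndS (p := 866) (l := 5) rfl N866 D1452
theorem N1164 : nd 1164 = n1453 := ndS (p := 866) (l := 7) rfl N866 D1453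
theorem N1165 : nd 1165 = n1454 := ndS (p := 866) (l := 9) rfl N866 D1454
theorem N1166 : nd 1166 = n1455 := ndS (p := 867) (l := 8) rfl N867 D1455
theorem N1167 : nd 1167 = n1456 := ndS (p := 868) (l := 4) rfl N868 D1456
theorem N1168 : nd 1168 = n1457 := ndS (p := 868) (l := 7) rfl N868 D1457
theorem N1169 : nd 1169 = n1458 := ndS (p := 868) (l := 9) rfl N868 D1458
theorem N1170 : nd 1170 = n1459 := ndS (p := 869) (l := 9) rfl N869 D1459
theorem N1171 : nd 1171 = n1460 := ndS (p := 870) (l := 8) rfl N870 D1460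
theorem N1172 : nd 1172 = n1461 := ndS (p := 871) (l := 5) rfl N871 D1461
theorem N1173 : nd 1173 = n1462 := ndS (p := 872) (l := 6) rfl N872 D1462
theorem N1174 : nd 1174 = n1463 := ndS (p := 872) (l := 9) rfl N872 D1463
theorem N1175 : nd 1175 = n1464 := ndS (p := 873) (l := 8) rfl N873 D1464
theorem N1176 : nd 1176 = n1465 := ndS (p := 874) (l := 8) rfl N874 D1465
theorem N1177 : nd 1177 = n1466 := ndS (p := 875) (l := 5) rfl N875 D1466
theorem N1178 : nd 1178 = n1467 := ndS (p := 876) (l := 6) rfl N876 D1467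
theorem N1179 : nd 1179 = n1468 := ndS (p := 877) (l := 5) rfl N877 D1468
theorem N1180 : nd 1180 = n1469 := ndS (p := 878) (l := 4) rfl N878 D1469
theorem N1181 : nd 1181 = n1470 := ndS (p := 879) (l := 6) rfl N879 D1470
theorem N1182 : nd 1182 = n1471 := ndS (p := 879) (l := 9) rfl N879 D1471
theorem N1183 : nd 1183 = n1472 := ndS (p := 880) (l := 7) rfl N880 D1472
theorem N1184 : nd 1184 = n1473 := ndS (p := 880) (l := 9) rfl N880 D1473
theorem N1185 : nd 1185 = n1474 := ndS (p := 881) (l := 8) rfl N881 D1474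
theorem N1186 : nd 1186 = n1475 := ndS (p := 882) (l := 9) rfl N882 D1475
theorem N1187 : nd 1187 = n1476 := ndS (p := 883) (l := 8) rfl N883 D1476
theorem N1188 : nd 1188 = n1477 := ndS (p := 884) (l := 5) rfl N884 D1477
theorem N1189 : nd 1189 = n1478 := ndS (p := 885) (l := 8) rfl N885 D1478
theorem N1190 : nd 1190 = n1479 := ndS (p := 886) (l := 5) rfl N886 D1479
theorem N1191 : nd 1191 = n1480 := ndS (p := 887) (l := 4) rfl N887 D1480
theorem N1192 : nd 1192 = n1481 := ndS (p := 887) (l := 6) rfl N887 D1481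
theorem N1193 : nd 1193 = n1482 := ndS (p := 888) (l := 5) rfl N888 D1482
theorem N1194 : nd 1194 = n1483 := ndS (p := 889) (l := 4) rfl N889 D1483
theorem N1195 : nd 1195 = n1484 := ndS (p := 889) (l := 6) rfl N889 D1484
theorem N1196 : nd 1196 = n1485 := ndS (p := 890) (l := 7) rfl N890 D1485
theorem N1197 : nd 1197 = n1486 := ndS (p := 891) (l := 4) rfl N891 D1486
theorem N1198 : nd 1198 = n1487 := ndS (p := 891) (l := 6) rfl N891 D1487
theorem N1199 : nd 1199 = n1488 := ndS (p := 892) (l := 3) rfl N892 D1488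
theorem N1200 : nd 1200 = n1489 := ndS (p := 893) (l := 3) rfl N893 D1489
theorem N1201 : nd 1201 = n1491 := ndS (p := 895) (l := 2) rfl N895 D1491
theorem N1202 : nd 1202 = n1496 := ndS (p := 896) (l := 8) rfl N896 D1496
theorem N1203 : nd 1203 = n1497 := ndS (p := 897) (l := 5) rfl N897 D1497
theorem N1204 : nd 1204 = n1498 := ndS (p := 898) (l := 4) rfl N898 D1498
theorem N1205 : nd 1205 = n1500 := ndS (p := 899) (l := 6) rfl N899 D1500
theorem N1206 : nd 1206 = n1502 := ndS (p := 902) (l := 6) rfl N902 D1502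
theorem N1207 : nd 1207 = n1503 := ndS (p := 902) (l := 9) rfl N902 D1503
theorem N1208 : nd 1208 = n1504 := ndS (p := 903) (l := 5) rfl N903 D1504
theorem N1209 : nd 1209 = n1505 := ndS (p := 903) (l := 7) rfl N903 D1505
theorem N1210 : nd 1210 = n1506 := ndS (p := 903) (l := 9) rfl N903 D1506
theorem N1211 : nd 1211 = n1507 := ndS (p := 904) (l := 8) rfl N904 D1507
theorem N1212 : nd 1212 = n1508 := ndS (p := 905) (l := 4) rfl N905 D1508
theorem N1213 : nd 1213 = n1509 := ndS (p := 905) (l := 7) rfl N905 D1509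
theorem N1214 : nd 1214 = n1510 := ndS (p := 905) (l := 9) rfl N905 D1510
theorem N1215 : nd 1215 = n1511 := ndS (p := 906) (l := 9) rfl N906 D1511
theorem N1216 : nd 1216 = n1512 := ndS (p := 907) (l := 8) rfl N907 D1512
theorem N1217 : nd 1217 = n1513 := ndS (p := 908) (l := 5) rfl N908 D1513
theorem N1218 : nd 1218 = n1514 := ndS (p := 909) (l := 7) rfl N909 D1514
theorem N1219 : nd 1219 = n1515 := ndS (p := 909) (l := 9) rfl N909 D1515
theorem N1220 : nd 1220 = n1516 := ndS (p := 910) (l := 6) rfl N910 D1516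
theorem N1221 : nd 1221 = n1517 := ndS (p := 910) (l := 9) rfl N910 D1517
theorem N1222 : nd 1222 = n1518 := ndS (p := 911) (l := 8) rfl N911 D1518
theorem N1223 : nd 1223 = n1519 := ndS (p := 912) (l := 8) rfl N912 D1519
theorem N1224 : nd 1224 = n1520 := ndS (p := 913) (l := 5) rfl N913 D1520
theorem N1225 : nd 1225 = n1521 := ndS (p := 914) (l := 4) rfl N914 D1521
theorem N1226 : nd 1226 = n1522 := ndS (p := 914) (l := 6) rfl N914 D1522
theorem N1227 : nd 1227 = n1523 := ndS (p := 915) (l := 9) rfl N915 D1523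
theorem N1228 : nd 1228 = n1524 := ndS (p := 916) (l := 8) rfl N916 D1524
theorem N1229 : nd 1229 = n1525 := ndS (p := 917) (l := 5) rfl N917 D1525
theorem N1230 : nd 1230 = n1526 := ndS (p := 918) (l := 5) rfl N918 D1526
theorem N1231 : nd 1231 = n1527 := ndS (p := 919) (l := 4) rfl N919 D1527
theorem N1232 : nd 1232 = n1528 := ndS (p := 919) (l := 6) rfl N919 D1528
theorem N1233 : nd 1233 = n1529 := ndS (p := 920) (l := 7) rfl N920 D1529
theorem N1234 : nd 1234 = n1533 := ndS (p := 923) (l := 7) rfl N923 D1533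
theorem N1235 : nd 1235 = n1534 := ndS (p := 923) (l := 9) rfl N923 D1534
theorem N1236 : nd 1236 = n1535 := ndS (p := 924) (l := 8) rfl N924 D1535
theorem N1237 : nd 1237 = n1536 := ndS (p := 925) (l := 9) rfl N925 D1536
theorem N1238 : nd 1238 = n1537 := ndS (p := 926) (l := 8) rfl N926 D1537
theorem N1239 : nd 1239 = n1538 := ndS (p := 927) (l := 5) rfl N927 D1538
theorem N1240 : nd 1240 = n1539 := ndS (p := 928) (l := 8) rfl N928 D1539
theorem N1241 : nd 1241 = n1540 := ndS (p := 929) (l := 5) rfl N929 D1540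
theorem N1242 : nd 1242 = n1543 := ndS (p := 931) (l := 5) rfl N931 D1543
theorem N1243 : nd 1243 = n1544 := ndS (p := 932) (l := 4) rfl N932 D1544
theorem N1244 : nd 1244 = n1545 := ndS (p := 932) (l := 6) rfl N932 D1545
theorem N1245 : nd 1245 = n1550 := ndS (p := 936) (l := 3) rfl N936 D1550
theorem N1246 : nd 1246 = n1551 := ndS (p := 936) (l := 6) rfl N936 D1551
theorem N1247 : nd 1247 = n1565 := ndS (p := 939) (l := 5) rfl N939 D1565
theorem N1248 : nd 1248 = n1583 := ndS (p := 942) (l := 2) rfl N942 D1583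
theorem N1249 : nd 1249 = n1584 := ndS (p := 942) (l := 8) rfl N942 D1584
theorem N1250 : nd 1250 = n1585 := ndS (p := 943) (l := 5) rfl N943 D1585
theorem N1251 : nd 1251 = n1586 := ndS (p := 943) (l := 9) rfl N943 D1586
theorem N1252 : nd 1252 = n1587 := ndS (p := 944) (l := 4) rfl N944 D1587
theorem N1253 : nd 1253 = n1589 := ndS (p := 944) (l := 9) rfl N944 D1589
theorem N1254 : nd 1254 = n1590 := ndS (p := 946) (l := 3) rfl N946 D1590
theorem N1255 : nd 1255 = n1592 := ndS (p := 946) (l := 9) rfl N946 D1592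
theorem N1256 : nd 1256 = n1595 := ndS (p := 947) (l := 8) rfl N947 D1595
theorem N1257 : nd 1257 = n1619 := ndS (p := 948) (l := 5) rfl N948 D1619
theorem N1258 : nd 1258 = n1620 := ndS (p := 948) (l := 9) rfl N948 D1620
theorem N1259 : nd 1259 = n1621 := ndS (p := 949) (l := 4) rfl N949 D1621
theorem N1260 : nd 1260 = n1622 := ndS (p := 949) (l := 6) rfl N949 D1622
theorem N1261 : nd 1261 = n1623 := ndS (p := 949) (l := 9) rfl N949 D1623
theorem N1262 : nd 1262 = n1624 := ndS (p := 951) (l := 3) rfl N951 D1624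
theorem N1263 : nd 1263 = n1625 := ndS (p := 951) (l := 6) rfl N951 D1625
theorem N1264 : nd 1264 = n1626 := ndS (p := 951) (l := 9) rfl N951 D1626
theorem N1265 : nd 1265 = n1628 := ndS (p := 952) (l := 9) rfl N952 D1628
theorem N1266 : nd 1266 = n1629 := ndS (p := 953) (l := 8) rfl N953 D1629
theorem N1267 : nd 1267 = n1630 := ndS (p := 954) (l := 2) rfl N954 D1630
theorem N1268 : nd 1268 = n1631 := ndS (p := 954) (l := 6) rfl N954 D1631
theorem N1269 : nd 1269 = n1632 := ndS (p := 954) (l := 9) rfl N954 D1632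
theorem N1270 : nd 1270 = n1635 := ndS (p := 955) (l := 9) rfl N955 D1635
theorem N1271 : nd 1271 = n1636 := ndS (p := 956) (l := 8) rfl N956 D1636
theorem N1272 : nd 1272 = n1638 := ndS (p := 957) (l := 8) rfl N957 D1638
theorem N1273 : nd 1273 = n1650 := ndS (p := 959) (l := 5) rfl N959 D1650
theorem N1274 : nd 1274 = n1668 := ndS (p := 960) (l := 3) rfl N960 D1668
theorem N1275 : nd 1275 = n1669 := ndS (p := 960) (l := 6) rfl N960 D1669
theorem N1276 : nd 1276 = n1670 := ndS (p := 960) (l := 9) rfl N960 D1670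
theorem N1277 : nd 1277 = n1671 := ndS (p := 961) (l := 7) rfl N961 D1671
theorem N1278 : nd 1278 = n1672 := ndS (p := 961) (l := 9) rfl N961 D1672
theorem N1279 : nd 1279 = n1673 := ndS (p := 962) (l := 8) rfl N962 D1673
theorem N1280 : nd 1280 = n1674 := ndS (p := 963) (l := 2) rfl N963 D1674
theorem N1281 : nd 1281 = n1675 := ndS (p := 963) (l := 6) rfl N963 D1675
theorem N1282 : nd 1282 = n1676 := ndS (p := 963) (l := 9) rfl N963 D1676
theorem N1283 : nd 1283 = n1677 := ndS (p := 964) (l := 5) rfl N964 D1677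
theorem N1284 : nd 1284 = n1678 := ndS (p := 964) (l := 7) rfl N964 D1678
theorem N1285 : nd 1285 = n1679 := ndS (p := 964) (l := 9) rfl N964 D1679
theorem N1286 : nd 1286 = n1680 := ndS (p := 965) (l := 8) rfl N965 D1680
theorem N1287 : nd 1287 = n1681 := ndS (p := 966) (l := 9) rfl N966 D1681
theorem N1288 : nd 1288 = n1682 := ndS (p := 967) (l := 8) rfl N967 D1682
theorem N1289 : nd 1289 = n1683 := ndS (p := 969) (l := 1) rfl N969 D1683
theorem N1290 : nd 1290 = n1684 := ndS (p := 969) (l := 6) rfl N969 D1684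
theorem N1291 : nd 1291 = n1685 := ndS (p := 969) (l := 9) rfl N969 D1685
theorem N1292 : nd 1292 = n1686 := ndS (p := 970) (l := 5) rfl N970 D1686
theorem N1293 : nd 1293 = n1687 := ndS (p := 970) (l := 7) rfl N970 D1687
theorem N1294 : nd 1294 = n1688 := ndS (p := 970) (l := 9) rfl N970 D1688
theorem N1295 : nd 1295 = n1689 := ndS (p := 971) (l := 8) rfl N971 D1689
theorem N1296 : nd 1296 = n1691 := ndS (p := 972) (l := 8) rfl N972 D1691
theorem N1297 : nd 1297 = n1692 := ndS (p := 972) (l := 9) rfl N972 D1692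
theorem N1298 : nd 1298 = n1693 := ndS (p := 973) (l := 9) rfl N973 D1693
theorem N1299 : nd 1299 = n1694 := ndS (p := 974) (l := 8) rfl N974 D1694
theorem N1300 : nd 1300 = n1695 := ndS (p := 975) (l := 5) rfl N975 D1695
theorem N1301 : nd 1301 = n1696 := ndS (p := 976) (l := 8) rfl N976 D1696
theorem N1302 : nd 1302 = n1697 := ndS (p := 977) (l := 5) rfl N977 D1697
theorem N1303 : nd 1303 = n1701 := ndS (p := 978) (l := 9) rfl N978 D1701
theorem N1304 : nd 1304 = n1702 := ndS (p := 979) (l := 8) rfl N979 D1702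
theorem N1305 : nd 1305 = n1704 := ndS (p := 980) (l := 5) rfl N980 D1704
theorem N1306 : nd 1306 = n1705 := ndS (p := 981) (l := 6) rfl N981 D1705
theorem N1307 : nd 1307 = n1706 := ndS (p := 982) (l := 5) rfl N982 D1706
theorem N1308 : nd 1308 = n1707 := ndS (p := 983) (l := 4) rfl N983 D1707
theorem N1309 : nd 1309 = n1719 := ndS (p := 984) (l := 6) rfl N984 D1719
theorem N1310 : nd 1310 = n1721 := ndS (p := 985) (l := 1) rfl N985 D1721
theorem N1311 : nd 1311 = n1722 := ndS (p := 985) (l := 6) rfl N985 D1722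
theorem N1312 : nd 1312 = n1723 := ndS (p := 985) (l := 9) rfl N985 D1723
theorem N1313 : nd 1313 = n1724 := ndS (p := 986) (l := 5) rfl N986 D1724
theorem N1314 : nd 1314 = n1725 := ndS (p := 986) (l := 7) rfl N986 D1725
theorem N1315 : nd 1315 = n1726 := ndS (p := 986) (l := 9) rfl N986 D1726
theorem N1316 : nd 1316 = n1727 := ndS (p := 987) (l := 8) rfl N987 D1727
theorem N1317 : nd 1317 = n1728 := ndS (p := 988) (l := 7) rfl N988 D1728
theorem N1318 : nd 1318 = n1729 := ndS (p := 988) (l := 9) rfl N988 D1729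
theorem N1319 : nd 1319 = n1730 := ndS (p := 989) (l := 9) rfl N989 D1730
theorem N1320 : nd 1320 = n1731 := ndS (p := 990) (l := 8) rfl N990 D1731
theorem N1321 : nd 1321 = n1732 := ndS (p := 991) (l := 5) rfl N991 D1732
theorem N1322 : nd 1322 = n1733 := ndS (p := 992) (l := 8) rfl N992 D1733
theorem N1323 : nd 1323 = n1734 := ndS (p := 993) (l := 5) rfl N993 D1734
theorem N1324 : nd 1324 = n1735 := ndS (p := 994) (l := 0) rfl N994 D1735
theorem N1325 : nd 1325 = n1736 := ndS (p := 994) (l := 6) rfl N994 D1736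
theorem N1326 : nd 1326 = n1737 := ndS (p := 994) (l := 9) rfl N994 D1737
theorem N1327 : nd 1327 = n1738 := ndS (p := 995) (l := 7) rfl N995 D1738
theorem N1328 : nd 1328 = n1739 := ndS (p := 995) (l := 9) rfl N995 D1739
theorem N1329 : nd 1329 = n1740 := ndS (p := 996) (l := 8) rfl N996 D1740
theorem N1330 : nd 1330 = n1741 := ndS (p := 997) (l := 9) rfl N997 D1741
theorem N1331 : nd 1331 = n1742 := ndS (p := 998) (l := 8) rfl N998 D1742
theorem N1332 : nd 1332 = n1743 := ndS (p := 999) (l := 5) rfl N999 D1743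
theorem N1333 : nd 1333 = n1744 := ndS (p := 1000) (l := 8) rfl N1000 D1744
theorem N1334 : nd 1334 = n1745 := ndS (p := 1001) (l := 5) rfl N1001 D1745
theorem N1335 : nd 1335 = n1746 := ndS (p := 1002) (l := 6) rfl N1002 D1746
theorem N1336 : nd 1336 = n1747 := ndS (p := 1003) (l := 5) rfl N1003 D1747
theorem N1337 : nd 1337 = n1748 := ndS (p := 1004) (l := 4) rfl N1004 D1748
theorem N1338 : nd 1338 = n1749 := ndS (p := 1005) (l := 4) rfl N1005 D1749
theorem N1339 : nd 1339 = n1750 := ndS (p := 1005) (l := 6) rfl N1005 D1750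
theorem N1340 : nd 1340 = n1751 := ndS (p := 1006) (l := 3) rfl N1006 D1751
theorem N1341 : nd 1341 = n1755 := ndS (p := 1009) (l := 9) rfl N1009 D1755
theorem N1342 : nd 1342 = n1756 := ndS (p := 1010) (l := 8) rfl N1010 D1756
theorem N1343 : nd 1343 = n1757 := ndS (p := 1011) (l := 5) rfl N1011 D1757
theorem N1344 : nd 1344 = n1758 := ndS (p := 1012) (l := 4) rfl N1012 D1758
theorem N1345 : nd 1345 = n1759 := ndS (p := 1012) (l := 6) rfl N1012 D1759
theorem N1346 : nd 1346 = n1760 := ndS (p := 1013) (l := 7) rfl N1013 D1760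
theorem N1347 : nd 1347 = n1761 := ndS (p := 1014) (l := 4) rfl N1014 D1761
theorem N1348 : nd 1348 = n1762 := ndS (p := 1014) (l := 6) rfl N1014 D1762
theorem N1349 : nd 1349 = n1763 := ndS (p := 1014) (l := 9) rfl N1014 D1763
theorem N1350 : nd 1350 = n1764 := ndS (p := 1016) (l := 3) rfl N1016 D1764
theorem N1351 : nd 1351 = n1765 := ndS (p := 1016) (l := 6) rfl N1016 D1765
theorem N1352 : nd 1352 = n1766 := ndS (p := 1016) (l := 9) rfl N1016 D1766
theorem N1353 : nd 1353 = n1767 := ndS (p := 1017) (l := 7) rfl N1017 D1767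
theorem N1354 : nd 1354 = n1768 := ndS (p := 1017) (l := 9) rfl N1017 D1768
theorem N1355 : nd 1355 = n1769 := ndS (p := 1018) (l := 8) rfl N1018 D1769
theorem N1356 : nd 1356 = n1770 := ndS (p := 1019) (l := 2) rfl N1019 D1770
theorem N1357 : nd 1357 = n1771 := ndS (p := 1019) (l := 6) rfl N1019 D1771
theorem N1358 : nd 1358 = n1772 := ndS (p := 1019) (l := 9) rfl N1019 D1772
theorem N1359 : nd 1359 = n1773 := ndS (p := 1020) (l := 5) rfl N1020 D1773
theorem N1360 : nd 1360 = n1775 := ndS (p := 1020) (l := 9) rfl N1020 D1775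
theorem N1361 : nd 1361 = n1776 := ndS (p := 1021) (l := 8) rfl N1021 D1776
theorem N1362 : nd 1362 = n1778 := ndS (p := 1022) (l := 8) rfl N1022 D1778
theorem N1363 : nd 1363 = n1779 := ndS (p := 1024) (l := 1) rfl N1024 D1779
theorem N1364 : nd 1364 = n1780 := ndS (p := 1024) (l := 6) rfl N1024 D1780
theorem N1365 : nd 1365 = n1781 := ndS (p := 1024) (l := 9) rfl N1024 D1781
theorem N1366 : nd 1366 = n1784 := ndS (p := 1025) (l := 9) rfl N1025 D1784
theorem N1367 : nd 1367 = n1785 := ndS (p := 1026) (l := 8) rfl N1026 D1785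
theorem N1368 : nd 1368 = n1790 := ndS (p := 1027) (l := 8) rfl N1027 D1790
theorem N1369 : nd 1369 = n1791 := ndS (p := 1028) (l := 5) rfl N1028 D1791
theorem N1370 : nd 1370 = n1793 := ndS (p := 1029) (l := 5) rfl N1029 D1793
theorem N1371 : nd 1371 = n1810 := ndS (p := 1030) (l := 4) rfl N1030 D1810
theorem N1372 : nd 1372 = n1836 := ndS (p := 1031) (l := 2) rfl N1031 D1836
theorem N1373 : nd 1373 = n1837 := ndS (p := 1031) (l := 6) rfl N1031 D1837
theorem N1374 : nd 1374 = n1838 := ndS (p := 1031) (l := 9) rfl N1031 D1838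
theorem N1375 : nd 1375 = n1839 := ndS (p := 1032) (l := 5) rfl N1032 D1839
theorem N1376 : nd 1376 = n1840 := ndS (p := 1032) (l := 7) rfl N1032 D1840
theorem N1377 : nd 1377 = n1841 := ndS (p := 1032) (l := 9) rfl N1032 D1841
theorem N1378 : nd 1378 = n1842 := ndS (p := 1033) (l := 8) rfl N1033 D1842
theorem N1379 : nd 1379 = n1843 := ndS (p := 1034) (l := 9) rfl N1034 D1843
theorem N1380 : nd 1380 = n1844 := ndS (p := 1035) (l := 8) rfl N1035 D1844
theorem N1381 : nd 1381 = n1845 := ndS (p := 1037) (l := 1) rfl N1037 D1845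
theorem N1382 : nd 1382 = n1846 := ndS (p := 1037) (l := 6) rfl N1037 D1846
theorem N1383 : nd 1383 = n1847 := ndS (p := 1037) (l := 9) rfl N1037 D1847
theorem N1384 : nd 1384 = n1848 := ndS (p := 1038) (l := 5) rfl N1038 D1848
theorem N1385 : nd 1385 = n1849 := ndS (p := 1038) (l := 7) rfl N1038 D1849
theorem N1386 : nd 1386 = n1850 := ndS (p := 1038) (l := 9) rfl N1038 D1850
theorem N1387 : nd 1387 = n1851 := ndS (p := 1039) (l := 8) rfl N1039 D1851
theorem N1388 : nd 1388 = n1852 := ndS (p := 1040) (l := 7) rfl N1040 D1852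
theorem N1389 : nd 1389 = n1853 := ndS (p := 1040) (l := 8) rfl N1040 D1853
theorem N1390 : nd 1390 = n1854 := ndS (p := 1040) (l := 9) rfl N1040 D1854
theorem N1391 : nd 1391 = n1855 := ndS (p := 1041) (l := 9) rfl N1041 D1855
theorem N1392 : nd 1392 = n1856 := ndS (p := 1042) (l := 8) rfl N1042 D1856
theorem N1393 : nd 1393 = n1857 := ndS (p := 1043) (l := 5) rfl N1043 D1857
theorem N1394 : nd 1394 = n1858 := ndS (p := 1044) (l := 8) rfl N1044 D1858
theorem N1395 : nd 1395 = n1859 := ndS (p := 1045) (l := 5) rfl N1045 D1859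
theorem N1396 : nd 1396 = n1860 := ndS (p := 1046) (l := 0) rfl N1046 D1860
theorem N1397 : nd 1397 = n1861 := ndS (p := 1046) (l := 6) rfl N1046 D1861
theorem N1398 : nd 1398 = n1862 := ndS (p := 1046) (l := 9) rfl N1046 D1862
theorem N1399 : nd 1399 = n1863 := ndS (p := 1047) (l := 5) rfl N1047 D1863
theorem N1400 : nd 1400 = n1864 := ndS (p := 1047) (l := 7) rfl N1047 D1864
theorem N1401 : nd 1401 = n1865 := ndS (p := 1047) (l := 9) rfl N1047 D1865
theorem N1402 : nd 1402 = n1866 := ndS (p := 1048) (l := 8) rfl N1048 D1866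
theorem N1403 : nd 1403 = n1868 := ndS (p := 1049) (l := 8) rfl N1049 D1868
theorem N1404 : nd 1404 = n1869 := ndS (p := 1049) (l := 9) rfl N1049 D1869
theorem N1405 : nd 1405 = n1870 := ndS (p := 1050) (l := 9) rfl N1050 D1870
theorem N1406 : nd 1406 = n1871 := ndS (p := 1051) (l := 8) rfl N1051 D1871
theorem N1407 : nd 1407 = n1872 := ndS (p := 1052) (l := 5) rfl N1052 D1872
theorem N1408 : nd 1408 = n1876 := ndS (p := 1053) (l := 9) rfl N1053 D1876
theorem N1409 : nd 1409 = n1877 := ndS (p := 1054) (l := 8) rfl N1054 D1877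
theorem N1410 : nd 1410 = n1878 := ndS (p := 1055) (l := 8) rfl N1055 D1878
theorem N1411 : nd 1411 = n1879 := ndS (p := 1056) (l := 5) rfl N1056 D1879
theorem N1412 : nd 1412 = n1880 := ndS (p := 1057) (l := 6) rfl N1057 D1880
theorem N1413 : nd 1413 = n1881 := ndS (p := 1058) (l := 5) rfl N1058 D1881
theorem N1414 : nd 1414 = n1882 := ndS (p := 1059) (l := 4) rfl N1059 D1882
theorem N1415 : nd 1415 = n1887 := ndS (p := 1060) (l := 8) rfl N1060 D1887
theorem N1416 : nd 1416 = n1888 := ndS (p := 1061) (l := 5) rfl N1061 D1888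
theorem N1417 : nd 1417 = n1890 := ndS (p := 1062) (l := 4) rfl N1062 D1890
theorem N1418 : nd 1418 = n1891 := ndS (p := 1062) (l := 6) rfl N1062 D1891
theorem N1419 : nd 1419 = n1893 := ndS (p := 1064) (l := 4) rfl N1064 D1893
theorem N1420 : nd 1420 = n1894 := ndS (p := 1064) (l := 6) rfl N1064 D1894
theorem N1421 : nd 1421 = n1895 := ndS (p := 1065) (l := 3) rfl N1065 D1895
theorem N1422 : nd 1422 = n1912 := ndS (p := 1067) (l := 0) rfl N1067 D1912
theorem N1423 : nd 1423 = n1913 := ndS (p := 1067) (l := 6) rfl N1067 D1913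
theorem N1424 : nd 1424 = n1914 := ndS (p := 1067) (l := 9) rfl N1067 D1914
theorem N1425 : nd 1425 = n1915 := ndS (p := 1068) (l := 5) rfl N1068 D1915
theorem N1426 : nd 1426 = n1916 := ndS (p := 1068) (l := 7) rfl N1068 D1916
theorem N1427 : nd 1427 = n1917 := ndS (p := 1068) (l := 9) rfl N1068 D1917
theorem N1428 : nd 1428 = n1918 := ndS (p := 1069) (l := 8) rfl N1069 D1918
theorem N1429 : nd 1429 = n1919 := ndS (p := 1070) (l := 4) rfl N1070 D1919
theorem N1430 : nd 1430 = n1920 := ndS (p := 1070) (l := 7) rfl N1070 D1920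
theorem N1431 : nd 1431 = n1921 := ndS (p := 1070) (l := 9) rfl N1070 D1921
theorem N1432 : nd 1432 = n1922 := ndS (p := 1071) (l := 9) rfl N1071 D1922
theorem N1433 : nd 1433 = n1923 := ndS (p := 1072) (l := 8) rfl N1072 D1923
theorem N1434 : nd 1434 = n1924 := ndS (p := 1073) (l := 5) rfl N1073 D1924
theorem N1435 : nd 1435 = n1925 := ndS (p := 1074) (l := 6) rfl N1074 D1925
theorem N1436 : nd 1436 = n1926 := ndS (p := 1074) (l := 9) rfl N1074 D1926
theorem N1437 : nd 1437 = n1927 := ndS (p := 1075) (l := 8) rfl N1075 D1927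
theorem N1438 : nd 1438 = n1928 := ndS (p := 1076) (l := 8) rfl N1076 D1928
theorem N1439 : nd 1439 = n1929 := ndS (p := 1077) (l := 5) rfl N1077 D1929
theorem N1440 : nd 1440 = n1930 := ndS (p := 1078) (l := 6) rfl N1078 D1930
theorem N1441 : nd 1441 = n1931 := ndS (p := 1079) (l := 5) rfl N1079 D1931
theorem N1442 : nd 1442 = n1932 := ndS (p := 1080) (l := 4) rfl N1080 D1932
theorem N1443 : nd 1443 = n1933 := ndS (p := 1081) (l := 6) rfl N1081 D1933
theorem N1444 : nd 1444 = n1934 := ndS (p := 1081) (l := 9) rfl N1081 D1934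
theorem N1445 : nd 1445 = n1935 := ndS (p := 1082) (l := 7) rfl N1082 D1935
theorem N1446 : nd 1446 = n1936 := ndS (p := 1082) (l := 9) rfl N1082 D1936
theorem N1447 : nd 1447 = n1937 := ndS (p := 1083) (l := 8) rfl N1083 D1937
theorem N1448 : nd 1448 = n1938 := ndS (p := 1084) (l := 9) rfl N1084 D1938
theorem N1449 : nd 1449 = n1939 := ndS (p := 1085) (l := 8) rfl N1085 D1939
theorem N1450 : nd 1450 = n1940 := ndS (p := 1086) (l := 5) rfl N1086 D1940
theorem N1451 : nd 1451 = n1941 := ndS (p := 1087) (l := 8) rfl N1087 D1941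
theorem N1452 : nd 1452 = n1942 := ndS (p := 1088) (l := 5) rfl N1088 D1942
theorem N1453 : nd 1453 = n1943 := ndS (p := 1089) (l := 4) rfl N1089 D1943
theorem N1454 : nd 1454 = n1944 := ndS (p := 1089) (l := 6) rfl N1089 D1944
theorem N1455 : nd 1455 = n1945 := ndS (p := 1090) (l := 5) rfl N1090 D1945
theorem N1456 : nd 1456 = n1946 := ndS (p := 1091) (l := 4) rfl N1091 D1946
theorem N1457 : nd 1457 = n1947 := ndS (p := 1091) (l := 6) rfl N1091 D1947
theorem N1458 : nd 1458 = n1948 := ndS (p := 1092) (l := 7) rfl N1092 D1948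
theorem N1459 : nd 1459 = n1949 := ndS (p := 1093) (l := 4) rfl N1093 D1949
theorem N1460 : nd 1460 = n1950 := ndS (p := 1093) (l := 6) rfl N1093 D1950
theorem N1461 : nd 1461 = n1951 := ndS (p := 1094) (l := 3) rfl N1094 D1951
theorem N1462 : nd 1462 = n1952 := ndS (p := 1095) (l := 3) rfl N1095 D1952
theorem N1463 : nd 1463 = n1954 := ndS (p := 1097) (l := 2) rfl N1097 D1954
theorem N1464 : nd 1464 = n1959 := ndS (p := 1098) (l := 8) rfl N1098 D1959
theorem N1465 : nd 1465 = n1960 := ndS (p := 1099) (l := 5) rfl N1099 D1960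
theorem N1466 : nd 1466 = n1961 := ndS (p := 1100) (l := 4) rfl N1100 D1961
theorem N1467 : nd 1467 = n1962 := ndS (p := 1100) (l := 6) rfl N1100 D1962
theorem N1468 : nd 1468 = n1963 := ndS (p := 1101) (l := 6) rfl N1101 D1963
theorem N1469 : nd 1469 = n1964 := ndS (p := 1102) (l := 7) rfl N1102 D1964
theorem N1470 : nd 1470 = n1965 := ndS (p := 1104) (l := 1) rfl N1104 D1965
theorem N1471 : nd 1471 = n1966 := ndS (p := 1104) (l := 6) rfl N1104 D1966
theorem N1472 : nd 1472 = n1967 := ndS (p := 1104) (l := 9) rfl N1104 D1967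
theorem N1473 : nd 1473 = n1968 := ndS (p := 1105) (l := 5) rfl N1105 D1968
theorem N1474 : nd 1474 = n1969 := ndS (p := 1105) (l := 7) rfl N1105 D1969
theorem N1475 : nd 1475 = n1970 := ndS (p := 1105) (l := 9) rfl N1105 D1970
theorem N1476 : nd 1476 = n1971 := ndS (p := 1106) (l := 8) rfl N1106 D1971
theorem N1477 : nd 1477 = n1972 := ndS (p := 1107) (l := 7) rfl N1107 D1972
theorem N1478 : nd 1478 = n1973 := ndS (p := 1107) (l := 8) rfl N1107 D1973
theorem N1479 : nd 1479 = n1974 := ndS (p := 1107) (l := 9) rfl N1107 D1974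
theorem N1480 : nd 1480 = n1975 := ndS (p := 1108) (l := 9) rfl N1108 D1975
theorem N1481 : nd 1481 = n1976 := ndS (p := 1109) (l := 8) rfl N1109 D1976
theorem N1482 : nd 1482 = n1977 := ndS (p := 1110) (l := 5) rfl N1110 D1977
theorem N1483 : nd 1483 = n1978 := ndS (p := 1111) (l := 8) rfl N1111 D1978
theorem N1484 : nd 1484 = n1979 := ndS (p := 1112) (l := 5) rfl N1112 D1979
theorem N1485 : nd 1485 = n1980 := ndS (p := 1113) (l := 0) rfl N1113 D1980
theorem N1486 : nd 1486 = n1981 := ndS (p := 1113) (l := 6) rfl N1113 D1981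
theorem N1487 : nd 1487 = n1982 := ndS (p := 1113) (l := 9) rfl N1113 D1982
theorem N1488 : nd 1488 = n1983 := ndS (p := 1114) (l := 5) rfl N1114 D1983
theorem N1489 : nd 1489 = n1984 := ndS (p := 1114) (l := 7) rfl N1114 D1984
theorem N1490 : nd 1490 = n1985 := ndS (p := 1114) (l := 9) rfl N1114 D1985
theorem N1491 : nd 1491 = n1986 := ndS (p := 1115) (l := 8) rfl N1115 D1986
theorem N1492 : nd 1492 = n1987 := ndS (p := 1116) (l := 4) rfl N1116 D1987
theorem N1493 : nd 1493 = n1988 := ndS (p := 1116) (l := 7) rfl N1116 D1988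
theorem N1494 : nd 1494 = n1989 := ndS (p := 1116) (l := 8) rfl N1116 D1989
theorem N1495 : nd 1495 = n1990 := ndS (p := 1116) (l := 9) rfl N1116 D1990
theorem N1496 : nd 1496 = n1991 := ndS (p := 1117) (l := 9) rfl N1117 D1991
theorem N1497 : nd 1497 = n1992 := ndS (p := 1118) (l := 8) rfl N1118 D1992
theorem N1498 : nd 1498 = n1993 := ndS (p := 1119) (l := 5) rfl N1119 D1993
theorem N1499 : nd 1499 = n1994 := ndS (p := 1120) (l := 6) rfl N1120 D1994
theorem N1500 : nd 1500 = n1995 := ndS (p := 1120) (l := 8) rfl N1120 D1995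
theorem N1501 : nd 1501 = n1996 := ndS (p := 1120) (l := 9) rfl N1120 D1996
theorem N1502 : nd 1502 = n1997 := ndS (p := 1121) (l := 9) rfl N1121 D1997
theorem N1503 : nd 1503 = n1998 := ndS (p := 1122) (l := 8) rfl N1122 D1998
theorem N1504 : nd 1504 = n1999 := ndS (p := 1123) (l := 8) rfl N1123 D1999
theorem N1505 : nd 1505 = n2000 := ndS (p := 1124) (l := 5) rfl N1124 D2000
theorem N1506 : nd 1506 = n2001 := ndS (p := 1125) (l := 6) rfl N1125 D2001
theorem N1507 : nd 1507 = n2002 := ndS (p := 1126) (l := 5) rfl N1126 D2002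
theorem N1508 : nd 1508 = n2003 := ndS (p := 1127) (l := 4) rfl N1127 D2003
theorem N1509 : nd 1509 = n2004 := ndS (p := 1128) (l := 6) rfl N1128 D2004
theorem N1510 : nd 1510 = n2005 := ndS (p := 1128) (l := 9) rfl N1128 D2005
theorem N1511 : nd 1511 = n2006 := ndS (p := 1129) (l := 5) rfl N1129 D2006
theorem N1512 : nd 1512 = n2007 := ndS (p := 1129) (l := 7) rfl N1129 D2007
theorem N1513 : nd 1513 = n2008 := ndS (p := 1129) (l := 9) rfl N1129 D2008
theorem N1514 : nd 1514 = n2009 := ndS (p := 1130) (l := 8) rfl N1130 D2009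
theorem N1515 : nd 1515 = n2010 := ndS (p := 1131) (l := 7) rfl N1131 D2010
theorem N1516 : nd 1516 = n2011 := ndS (p := 1131) (l := 8) rfl N1131 D2011
theorem N1517 : nd 1517 = n2012 := ndS (p := 1131) (l := 9) rfl N1131 D2012
theorem N1518 : nd 1518 = n2013 := ndS (p := 1132) (l := 9) rfl N1132 D2013
theorem N1519 : nd 1519 = n2014 := ndS (p := 1133) (l := 8) rfl N1133 D2014
theorem N1520 : nd 1520 = n2015 := ndS (p := 1134) (l := 5) rfl N1134 D2015
theorem N1521 : nd 1521 = n2017 := ndS (p := 1135) (l := 8) rfl N1135 D2017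
theorem N1522 : nd 1522 = n2018 := ndS (p := 1135) (l := 9) rfl N1135 D2018
theorem N1523 : nd 1523 = n2019 := ndS (p := 1136) (l := 9) rfl N1136 D2019
theorem N1524 : nd 1524 = n2020 := ndS (p := 1137) (l := 8) rfl N1137 D2020
theorem N1525 : nd 1525 = n2021 := ndS (p := 1138) (l := 8) rfl N1138 D2021
theorem N1526 : nd 1526 = n2022 := ndS (p := 1139) (l := 5) rfl N1139 D2022
theorem N1527 : nd 1527 = n2023 := ndS (p := 1140) (l := 4) rfl N1140 D2023
theorem N1528 : nd 1528 = n2024 := ndS (p := 1140) (l := 6) rfl N1140 D2024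
theorem N1529 : nd 1529 = n2027 := ndS (p := 1141) (l := 9) rfl N1141 D2027
theorem N1530 : nd 1530 = n2028 := ndS (p := 1142) (l := 8) rfl N1142 D2028
theorem N1531 : nd 1531 = n2029 := ndS (p := 1143) (l := 8) rfl N1143 D2029
theorem N1532 : nd 1532 = n2030 := ndS (p := 1144) (l := 5) rfl N1144 D2030
theorem N1533 : nd 1533 = n2031 := ndS (p := 1145) (l := 5) rfl N1145 D2031
theorem N1534 : nd 1534 = n2032 := ndS (p := 1146) (l := 4) rfl N1146 D2032
theorem N1535 : nd 1535 = n2033 := ndS (p := 1146) (l := 6) rfl N1146 D2033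
theorem N1536 : nd 1536 = n2034 := ndS (p := 1147) (l := 7) rfl N1147 D2034
theorem N1537 : nd 1537 = n2035 := ndS (p := 1148) (l := 4) rfl N1148 D2035
theorem N1538 : nd 1538 = n2036 := ndS (p := 1148) (l := 6) rfl N1148 D2036
theorem N1539 : nd 1539 = n2037 := ndS (p := 1149) (l := 3) rfl N1149 D2037
theorem N1540 : nd 1540 = n2041 := ndS (p := 1150) (l := 8) rfl N1150 D2041
theorem N1541 : nd 1541 = n2042 := ndS (p := 1151) (l := 5) rfl N1151 D2042
theorem N1542 : nd 1542 = n2043 := ndS (p := 1152) (l := 5) rfl N1152 D2043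
theorem N1543 : nd 1543 = n2044 := ndS (p := 1153) (l := 4) rfl N1153 D2044
theorem N1544 : nd 1544 = n2045 := ndS (p := 1153) (l := 6) rfl N1153 D2045
theorem N1545 : nd 1545 = n2046 := ndS (p := 1154) (l := 4) rfl N1154 D2046
theorem N1546 : nd 1546 = n2048 := ndS (p := 1155) (l := 3) rfl N1155 D2048
theorem N1547 : nd 1547 = n2049 := ndS (p := 1155) (l := 6) rfl N1155 D2049
theorem N1548 : nd 1548 = n2051 := ndS (p := 1157) (l := 3) rfl N1157 D2051
theorem N1549 : nd 1549 = n2052 := ndS (p := 1157) (l := 6) rfl N1157 D2052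
theorem N1550 : nd 1550 = n2053 := ndS (p := 1159) (l := 2) rfl N1159 D2053
theorem N1551 : nd 1551 = n2076 := ndS (p := 1160) (l := 6) rfl N1160 D2076
theorem N1552 : nd 1552 = n2077 := ndS (p := 1160) (l := 9) rfl N1160 D2077
theorem N1553 : nd 1553 = n2078 := ndS (p := 1161) (l := 5) rfl N1161 D2078
theorem N1554 : nd 1554 = n2079 := ndS (p := 1161) (l := 7) rfl N1161 D2079
theorem N1555 : nd 1555 = n2080 := ndS (p := 1161) (l := 9) rfl N1161 D2080
theorem N1556 : nd 1556 = n2081 := ndS (p := 1162) (l := 8) rfl N1162 D2081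
theorem N1557 : nd 1557 = n2082 := ndS (p := 1163) (l := 4) rfl N1163 D2082
theorem N1558 : nd 1558 = n2083 := ndS (p := 1163) (l := 7) rfl N1163 D2083
theorem N1559 : nd 1559 = n2084 := ndS (p := 1163) (l := 9) rfl N1163 D2084
theorem N1560 : nd 1560 = n2085 := ndS (p := 1164) (l := 9) rfl N1164 D2085
theorem N1561 : nd 1561 = n2086 := ndS (p := 1165) (l := 8) rfl N1165 D2086
theorem N1562 : nd 1562 = n2087 := ndS (p := 1166) (l := 5) rfl N1166 D2087
theorem N1563 : nd 1563 = n2088 := ndS (p := 1167) (l := 7) rfl N1167 D2088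
theorem N1564 : nd 1564 = n2089 := ndS (p := 1167) (l := 9) rfl N1167 D2089
theorem N1565 : nd 1565 = n2090 := ndS (p := 1168) (l := 6) rfl N1168 D2090
theorem N1566 : nd 1566 = n2091 := ndS (p := 1168) (l := 9) rfl N1168 D2091
theorem N1567 : nd 1567 = n2092 := ndS (p := 1169) (l := 8) rfl N1169 D2092
theorem N1568 : nd 1568 = n2093 := ndS (p := 1170) (l := 8) rfl N1170 D2093
theorem N1569 : nd 1569 = n2094 := ndS (p := 1171) (l := 5) rfl N1171 D2094
theorem N1570 : nd 1570 = n2095 := ndS (p := 1172) (l := 4) rfl N1172 D2095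
theorem N1571 : nd 1571 = n2096 := ndS (p := 1172) (l := 6) rfl N1172 D2096
theorem N1572 : nd 1572 = n2097 := ndS (p := 1173) (l := 9) rfl N1173 D2097
theorem N1573 : nd 1573 = n2098 := ndS (p := 1174) (l := 8) rfl N1174 D2098
theorem N1574 : nd 1574 = n2099 := ndS (p := 1175) (l := 5) rfl N1175 D2099
theorem N1575 : nd 1575 = n2100 := ndS (p := 1176) (l := 5) rfl N1176 D2100
theorem N1576 : nd 1576 = n2101 := ndS (p := 1177) (l := 4) rfl N1177 D2101
theorem N1577 : nd 1577 = n2102 := ndS (p := 1177) (l := 6) rfl N1177 D2102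
theorem N1578 : nd 1578 = n2103 := ndS (p := 1178) (l := 7) rfl N1178 D2103
theorem N1579 : nd 1579 = n2104 := ndS (p := 1179) (l := 4) rfl N1179 D2104
theorem N1580 : nd 1580 = n2105 := ndS (p := 1179) (l := 6) rfl N1179 D2105
theorem N1581 : nd 1581 = n2106 := ndS (p := 1180) (l := 3) rfl N1180 D2106
theorem N1582 : nd 1582 = n2107 := ndS (p := 1181) (l := 7) rfl N1181 D2107
theorem N1583 : nd 1583 = n2108 := ndS (p := 1181) (l := 9) rfl N1181 D2108
theorem N1584 : nd 1584 = n2109 := ndS (p := 1182) (l := 8) rfl N1182 D2109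
theorem N1585 : nd 1585 = n2110 := ndS (p := 1183) (l := 9) rfl N1183 D2110
theorem N1586 : nd 1586 = n2111 := ndS (p := 1184) (l := 8) rfl N1184 D2111
theorem N1587 : nd 1587 = n2112 := ndS (p := 1185) (l := 5) rfl N1185 D2112
theorem N1588 : nd 1588 = n2113 := ndS (p := 1186) (l := 8) rfl N1186 D2113
theorem N1589 : nd 1589 = n2114 := ndS (p := 1187) (l := 5) rfl N1187 D2114
theorem N1590 : nd 1590 = n2115 := ndS (p := 1188) (l := 4) rfl N1188 D2115
theorem N1591 : nd 1591 = n2116 := ndS (p := 1188) (l := 6) rfl N1188 D2116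
theorem N1592 : nd 1592 = n2117 := ndS (p := 1189) (l := 5) rfl N1189 D2117
theorem N1593 : nd 1593 = n2118 := ndS (p := 1190) (l := 4) rfl N1190 D2118
theorem N1594 : nd 1594 = n2119 := ndS (p := 1190) (l := 6) rfl N1190 D2119
theorem N1595 : nd 1595 = n2120 := ndS (p := 1191) (l := 6) rfl N1191 D2120
theorem N1596 : nd 1596 = n2121 := ndS (p := 1192) (l := 7) rfl N1192 D2121
theorem N1597 : nd 1597 = n2122 := ndS (p := 1193) (l := 4) rfl N1193 D2122
theorem N1598 : nd 1598 = n2123 := ndS (p := 1193) (l := 6) rfl N1193 D2123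
theorem N1599 : nd 1599 = n2124 := ndS (p := 1194) (l := 3) rfl N1194 D2124
theorem N1600 : nd 1600 = n2125 := ndS (p := 1194) (l := 6) rfl N1194 D2125
theorem N1601 : nd 1601 = n2126 := ndS (p := 1195) (l := 7) rfl N1195 D2126
theorem N1602 : nd 1602 = n2139 := ndS (p := 1202) (l := 5) rfl N1202 D2139
theorem N1603 : nd 1603 = n2140 := ndS (p := 1203) (l := 4) rfl N1203 D2140
theorem N1604 : nd 1604 = n2145 := ndS (p := 1205) (l := 5) rfl N1205 D2145
theorem N1605 : nd 1605 = n2147 := ndS (p := 1206) (l := 5) rfl N1206 D2147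
theorem N1606 : nd 1606 = n2148 := ndS (p := 1206) (l := 7) rfl N1206 D2148
theorem N1607 : nd 1607 = n2149 := ndS (p := 1206) (l := 9) rfl N1206 D2149
theorem N1608 : nd 1608 = n2150 := ndS (p := 1207) (l := 8) rfl N1207 D2150
theorem N1609 : nd 1609 = n2151 := ndS (p := 1208) (l := 4) rfl N1208 D2151
theorem N1610 : nd 1610 = n2152 := ndS (p := 1208) (l := 7) rfl N1208 D2152
theorem N1611 : nd 1611 = n2153 := ndS (p := 1208) (l := 9) rfl N1208 D2153
theorem N1612 : nd 1612 = n2154 := ndS (p := 1209) (l := 9) rfl N1209 D2154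
theorem N1613 : nd 1613 = n2155 := ndS (p := 1210) (l := 8) rfl N1210 D2155
theorem N1614 : nd 1614 = n2156 := ndS (p := 1211) (l := 5) rfl N1211 D2156
theorem N1615 : nd 1615 = n2157 := ndS (p := 1212) (l := 3) rfl N1212 D2157
theorem N1616 : nd 1616 = n2158 := ndS (p := 1212) (l := 7) rfl N1212 D2158
theorem N1617 : nd 1617 = n2159 := ndS (p := 1212) (l := 9) rfl N1212 D2159
theorem N1618 : nd 1618 = n2160 := ndS (p := 1213) (l := 6) rfl N1213 D2160
theorem N1619 : nd 1619 = n2161 := ndS (p := 1213) (l := 9) rfl N1213 D2161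
theorem N1620 : nd 1620 = n2162 := ndS (p := 1214) (l := 8) rfl N1214 D2162
theorem N1621 : nd 1621 = n2163 := ndS (p := 1215) (l := 8) rfl N1215 D2163
theorem N1622 : nd 1622 = n2164 := ndS (p := 1216) (l := 5) rfl N1216 D2164
theorem N1623 : nd 1623 = n2167 := ndS (p := 1218) (l := 6) rfl N1218 D2167
theorem N1624 : nd 1624 = n2168 := ndS (p := 1218) (l := 9) rfl N1218 D2168
theorem N1625 : nd 1625 = n2169 := ndS (p := 1219) (l := 8) rfl N1219 D2169
theorem N1626 : nd 1626 = n2170 := ndS (p := 1220) (l := 9) rfl N1220 D2170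
theorem N1627 : nd 1627 = n2171 := ndS (p := 1221) (l := 8) rfl N1221 D2171
theorem N1628 : nd 1628 = n2172 := ndS (p := 1222) (l := 5) rfl N1222 D2172
theorem N1629 : nd 1629 = n2173 := ndS (p := 1223) (l := 5) rfl N1223 D2173
theorem N1630 : nd 1630 = n2174 := ndS (p := 1224) (l := 4) rfl N1224 D2174
theorem N1631 : nd 1631 = n2175 := ndS (p := 1224) (l := 6) rfl N1224 D2175
theorem N1632 : nd 1632 = n2178 := ndS (p := 1227) (l := 8) rfl N1227 D2178
theorem N1633 : nd 1633 = n2179 := ndS (p := 1228) (l := 5) rfl N1228 D2179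
theorem N1634 : nd 1634 = n2180 := ndS (p := 1229) (l := 4) rfl N1229 D2180
theorem N1635 : nd 1635 = n2181 := ndS (p := 1229) (l := 6) rfl N1229 D2181
theorem N1636 : nd 1636 = n2184 := ndS (p := 1231) (l := 3) rfl N1231 D2184
theorem N1637 : nd 1637 = n2185 := ndS (p := 1231) (l := 6) rfl N1231 D2185
theorem N1638 : nd 1638 = n2190 := ndS (p := 1234) (l := 9) rfl N1234 D2190
theorem N1639 : nd 1639 = n2191 := ndS (p := 1235) (l := 8) rfl N1235 D2191
theorem N1640 : nd 1640 = n2192 := ndS (p := 1236) (l := 5) rfl N1236 D2192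
theorem N1641 : nd 1641 = n2193 := ndS (p := 1237) (l := 8) rfl N1237 D2193
theorem N1642 : nd 1642 = n2194 := ndS (p := 1238) (l := 5) rfl N1238 D2194
theorem N1643 : nd 1643 = n2197 := ndS (p := 1240) (l := 5) rfl N1240 D2197
theorem N1644 : nd 1644 = n2203 := ndS (p := 1242) (l := 4) rfl N1242 D2203
theorem N1645 : nd 1645 = n2204 := ndS (p := 1242) (l := 6) rfl N1242 D2204
theorem N1646 : nd 1646 = n2255 := ndS (p := 1248) (l := 8) rfl N1248 D2255
theorem N1647 : nd 1647 = n2256 := ndS (p := 1249) (l := 5) rfl N1249 D2256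
theorem N1648 : nd 1648 = n2257 := ndS (p := 1249) (l := 9) rfl N1249 D2257
theorem N1649 : nd 1649 = n2258 := ndS (p := 1250) (l := 4) rfl N1250 D2258
theorem N1650 : nd 1650 = n2259 := ndS (p := 1250) (l := 6) rfl N1250 D2259
theorem N1651 : nd 1651 = n2260 := ndS (p := 1250) (l := 9) rfl N1250 D2260
theorem N1652 : nd 1652 = n2261 := ndS (p := 1252) (l := 3) rfl N1252 D2261
theorem N1653 : nd 1653 = n2263 := ndS (p := 1252) (l := 9) rfl N1252 D2263
theorem N1654 : nd 1654 = n2266 := ndS (p := 1253) (l := 8) rfl N1253 D2266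
theorem N1655 : nd 1655 = n2267 := ndS (p := 1254) (l := 2) rfl N1254 D2267
theorem N1656 : nd 1656 = n2269 := ndS (p := 1254) (l := 9) rfl N1254 D2269
theorem N1657 : nd 1657 = n2273 := ndS (p := 1255) (l := 8) rfl N1255 D2273
theorem N1658 : nd 1658 = n2311 := ndS (p := 1257) (l := 4) rfl N1257 D2311
theorem N1659 : nd 1659 = n2312 := ndS (p := 1257) (l := 6) rfl N1257 D2312
theorem N1660 : nd 1660 = n2313 := ndS (p := 1257) (l := 9) rfl N1257 D2313
theorem N1661 : nd 1661 = n2314 := ndS (p := 1259) (l := 3) rfl N1259 D2314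
theorem N1662 : nd 1662 = n2315 := ndS (p := 1259) (l := 6) rfl N1259 D2315
theorem N1663 : nd 1663 = n2316 := ndS (p := 1259) (l := 9) rfl N1259 D2316
theorem N1664 : nd 1664 = n2317 := ndS (p := 1260) (l := 7) rfl N1260 D2317
theorem N1665 : nd 1665 = n2318 := ndS (p := 1260) (l := 9) rfl N1260 D2318
theorem N1666 : nd 1666 = n2319 := ndS (p := 1261) (l := 8) rfl N1261 D2319
theorem N1667 : nd 1667 = n2320 := ndS (p := 1262) (l := 2) rfl N1262 D2320
theorem N1668 : nd 1668 = n2321 := ndS (p := 1262) (l := 6) rfl N1262 D2321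
theorem N1669 : nd 1669 = n2322 := ndS (p := 1262) (l := 9) rfl N1262 D2322
theorem N1670 : nd 1670 = n2323 := ndS (p := 1263) (l := 5) rfl N1263 D2323
theorem N1671 : nd 1671 = n2325 := ndS (p := 1263) (l := 9) rfl N1263 D2325
theorem N1672 : nd 1672 = n2326 := ndS (p := 1264) (l := 8) rfl N1264 D2326
theorem N1673 : nd 1673 = n2328 := ndS (p := 1265) (l := 8) rfl N1265 D2328
theorem N1674 : nd 1674 = n2329 := ndS (p := 1267) (l := 1) rfl N1267 D2329
theorem N1675 : nd 1675 = n2330 := ndS (p := 1267) (l := 6) rfl N1267 D2330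
theorem N1676 : nd 1676 = n2331 := ndS (p := 1267) (l := 9) rfl N1267 D2331
theorem N1677 : nd 1677 = n2334 := ndS (p := 1268) (l := 9) rfl N1268 D2334
theorem N1678 : nd 1678 = n2335 := ndS (p := 1269) (l := 8) rfl N1269 D2335
theorem N1679 : nd 1679 = n2340 := ndS (p := 1270) (l := 8) rfl N1270 D2340
theorem N1680 : nd 1680 = n2341 := ndS (p := 1271) (l := 5) rfl N1271 D2341
theorem N1681 : nd 1681 = n2343 := ndS (p := 1272) (l := 5) rfl N1272 D2343
theorem N1682 : nd 1682 = n2360 := ndS (p := 1273) (l := 4) rfl N1273 D2360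
theorem N1683 : nd 1683 = n2386 := ndS (p := 1274) (l := 2) rfl N1274 D2386
theorem N1684 : nd 1684 = n2387 := ndS (p := 1274) (l := 6) rfl N1274 D2387
theorem N1685 : nd 1685 = n2388 := ndS (p := 1274) (l := 9) rfl N1274 D2388
theorem N1686 : nd 1686 = n2389 := ndS (p := 1275) (l := 5) rfl N1275 D2389
theorem N1687 : nd 1687 = n2390 := ndS (p := 1275) (l := 7) rfl N1275 D2390
theorem N1688 : nd 1688 = n2391 := ndS (p := 1275) (l := 9) rfl N1275 D2391
theorem N1689 : nd 1689 = n2392 := ndS (p := 1276) (l := 8) rfl N1276 D2392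
theorem N1690 : nd 1690 = n2393 := ndS (p := 1277) (l := 9) rfl N1277 D2393
theorem N1691 : nd 1691 = n2394 := ndS (p := 1278) (l := 8) rfl N1278 D2394
theorem N1692 : nd 1692 = n2395 := ndS (p := 1280) (l := 1) rfl N1280 D2395
theorem N1693 : nd 1693 = n2396 := ndS (p := 1280) (l := 6) rfl N1280 D2396
theorem N1694 : nd 1694 = n2397 := ndS (p := 1280) (l := 9) rfl N1280 D2397
theorem N1695 : nd 1695 = n2398 := ndS (p := 1281) (l := 5) rfl N1281 D2398
theorem N1696 : nd 1696 = n2399 := ndS (p := 1281) (l := 7) rfl N1281 D2399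
theorem N1697 : nd 1697 = n2400 := ndS (p := 1281) (l := 9) rfl N1281 D2400
theorem N1698 : nd 1698 = n2401 := ndS (p := 1282) (l := 8) rfl N1282 D2401
theorem N1699 : nd 1699 = n2402 := ndS (p := 1283) (l := 7) rfl N1283 D2402
theorem N1700 : nd 1700 = n2403 := ndS (p := 1283) (l := 8) rfl N1283 D2403
theorem N1701 : nd 1701 = n2404 := ndS (p := 1283) (l := 9) rfl N1283 D2404
theorem N1702 : nd 1702 = n2405 := ndS (p := 1284) (l := 9) rfl N1284 D2405
theorem N1703 : nd 1703 = n2406 := ndS (p := 1285) (l := 8) rfl N1285 D2406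
theorem N1704 : nd 1704 = n2407 := ndS (p := 1286) (l := 5) rfl N1286 D2407
theorem N1705 : nd 1705 = n2408 := ndS (p := 1287) (l := 8) rfl N1287 D2408
theorem N1706 : nd 1706 = n2409 := ndS (p := 1288) (l := 5) rfl N1288 D2409
theorem N1707 : nd 1707 = n2410 := ndS (p := 1289) (l := 0) rfl N1289 D2410
theorem N1708 : nd 1708 = n2411 := ndS (p := 1289) (l := 6) rfl N1289 D2411
theorem N1709 : nd 1709 = n2412 := ndS (p := 1289) (l := 9) rfl N1289 D2412
theorem N1710 : nd 1710 = n2413 := ndS (p := 1290) (l := 5) rfl N1290 D2413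
theorem N1711 : nd 1711 = n2414 := ndS (p := 1290) (l := 7) rfl N1290 D2414
theorem N1712 : nd 1712 = n2415 := ndS (p := 1290) (l := 9) rfl N1290 D2415
theorem N1713 : nd 1713 = n2416 := ndS (p := 1291) (l := 8) rfl N1291 D2416
theorem N1714 : nd 1714 = n2418 := ndS (p := 1292) (l := 8) rfl N1292 D2418
theorem N1715 : nd 1715 = n2419 := ndS (p := 1292) (l := 9) rfl N1292 D2419
theorem N1716 : nd 1716 = n2420 := ndS (p := 1293) (l := 9) rfl N1293 D2420
theorem N1717 : nd 1717 = n2421 := ndS (p := 1294) (l := 8) rfl N1294 D2421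
theorem N1718 : nd 1718 = n2422 := ndS (p := 1295) (l := 5) rfl N1295 D2422
theorem N1719 : nd 1719 = n2426 := ndS (p := 1296) (l := 9) rfl N1296 D2426
theorem N1720 : nd 1720 = n2427 := ndS (p := 1297) (l := 8) rfl N1297 D2427
theorem N1721 : nd 1721 = n2428 := ndS (p := 1298) (l := 8) rfl N1298 D2428
theorem N1722 : nd 1722 = n2429 := ndS (p := 1299) (l := 5) rfl N1299 D2429
theorem N1723 : nd 1723 = n2430 := ndS (p := 1300) (l := 6) rfl N1300 D2430
theorem N1724 : nd 1724 = n2431 := ndS (p := 1301) (l := 5) rfl N1301 D2431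
theorem N1725 : nd 1725 = n2432 := ndS (p := 1302) (l := 4) rfl N1302 D2432
theorem N1726 : nd 1726 = n2437 := ndS (p := 1303) (l := 8) rfl N1303 D2437
theorem N1727 : nd 1727 = n2438 := ndS (p := 1304) (l := 5) rfl N1304 D2438
theorem N1728 : nd 1728 = n2440 := ndS (p := 1305) (l := 4) rfl N1305 D2440
theorem N1729 : nd 1729 = n2441 := ndS (p := 1305) (l := 6) rfl N1305 D2441
theorem N1730 : nd 1730 = n2443 := ndS (p := 1307) (l := 4) rfl N1307 D2443
theorem N1731 : nd 1731 = n2444 := ndS (p := 1307) (l := 6) rfl N1307 D2444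
theorem N1732 : nd 1732 = n2445 := ndS (p := 1308) (l := 3) rfl N1308 D2445
theorem N1733 : nd 1733 = n2462 := ndS (p := 1310) (l := 0) rfl N1310 D2462
theorem N1734 : nd 1734 = n2463 := ndS (p := 1310) (l := 6) rfl N1310 D2463
theorem N1735 : nd 1735 = n2464 := ndS (p := 1310) (l := 9) rfl N1310 D2464
theorem N1736 : nd 1736 = n2465 := ndS (p := 1311) (l := 5) rfl N1311 D2465
theorem N1737 : nd 1737 = n2466 := ndS (p := 1311) (l := 7) rfl N1311 D2466
theorem N1738 : nd 1738 = n2467 := ndS (p := 1311) (l := 9) rfl N1311 D2467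
theorem N1739 : nd 1739 = n2468 := ndS (p := 1312) (l := 8) rfl N1312 D2468
theorem N1740 : nd 1740 = n2469 := ndS (p := 1313) (l := 4) rfl N1313 D2469
theorem N1741 : nd 1741 = n2470 := ndS (p := 1313) (l := 7) rfl N1313 D2470
theorem N1742 : nd 1742 = n2471 := ndS (p := 1313) (l := 9) rfl N1313 D2471
theorem N1743 : nd 1743 = n2472 := ndS (p := 1314) (l := 9) rfl N1314 D2472
theorem N1744 : nd 1744 = n2473 := ndS (p := 1315) (l := 8) rfl N1315 D2473
theorem N1745 : nd 1745 = n2474 := ndS (p := 1316) (l := 5) rfl N1316 D2474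
theorem N1746 : nd 1746 = n2475 := ndS (p := 1317) (l := 6) rfl N1317 D2475
theorem N1747 : nd 1747 = n2476 := ndS (p := 1317) (l := 9) rfl N1317 D2476
theorem N1748 : nd 1748 = n2477 := ndS (p := 1318) (l := 8) rfl N1318 D2477
theorem N1749 : nd 1749 = n2478 := ndS (p := 1319) (l := 8) rfl N1319 D2478
theorem N1750 : nd 1750 = n2479 := ndS (p := 1320) (l := 5) rfl N1320 D2479
theorem N1751 : nd 1751 = n2480 := ndS (p := 1321) (l := 6) rfl N1321 D2480
theorem N1752 : nd 1752 = n2481 := ndS (p := 1322) (l := 5) rfl N1322 D2481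
theorem N1753 : nd 1753 = n2482 := ndS (p := 1323) (l := 4) rfl N1323 D2482
theorem N1754 : nd 1754 = n2483 := ndS (p := 1324) (l := 6) rfl N1324 D2483
theorem N1755 : nd 1755 = n2484 := ndS (p := 1324) (l := 9) rfl N1324 D2484
theorem N1756 : nd 1756 = n2485 := ndS (p := 1325) (l := 7) rfl N1325 D2485
theorem N1757 : nd 1757 = n2486 := ndS (p := 1325) (l := 9) rfl N1325 D2486
theorem N1758 : nd 1758 = n2487 := ndS (p := 1326) (l := 8) rfl N1326 D2487
theorem N1759 : nd 1759 = n2488 := ndS (p := 1327) (l := 9) rfl N1327 D2488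
theorem N1760 : nd 1760 = n2489 := ndS (p := 1328) (l := 8) rfl N1328 D2489
theorem N1761 : nd 1761 = n2490 := ndS (p := 1329) (l := 5) rfl N1329 D2490
theorem N1762 : nd 1762 = n2491 := ndS (p := 1330) (l := 8) rfl N1330 D2491
theorem N1763 : nd 1763 = n2492 := ndS (p := 1331) (l := 5) rfl N1331 D2492
theorem N1764 : nd 1764 = n2493 := ndS (p := 1332) (l := 4) rfl N1332 D2493
theorem N1765 : nd 1765 = n2494 := ndS (p := 1332) (l := 6) rfl N1332 D2494
theorem N1766 : nd 1766 = n2495 := ndS (p := 1333) (l := 5) rfl N1333 D2495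
theorem N1767 : nd 1767 = n2496 := ndS (p := 1334) (l := 4) rfl N1334 D2496
theorem N1768 : nd 1768 = n2497 := ndS (p := 1334) (l := 6) rfl N1334 D2497
theorem N1769 : nd 1769 = n2498 := ndS (p := 1335) (l := 7) rfl N1335 D2498
theorem N1770 : nd 1770 = n2499 := ndS (p := 1336) (l := 4) rfl N1336 D2499
theorem N1771 : nd 1771 = n2500 := ndS (p := 1336) (l := 6) rfl N1336 D2500
theorem N1772 : nd 1772 = n2501 := ndS (p := 1337) (l := 3) rfl N1337 D2501
theorem N1773 : nd 1773 = n2502 := ndS (p := 1338) (l := 3) rfl N1338 D2502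
theorem N1774 : nd 1774 = n2504 := ndS (p := 1340) (l := 2) rfl N1340 D2504
theorem N1775 : nd 1775 = n2509 := ndS (p := 1341) (l := 8) rfl N1341 D2509
theorem N1776 : nd 1776 = n2510 := ndS (p := 1342) (l := 5) rfl N1342 D2510
theorem N1777 : nd 1777 = n2511 := ndS (p := 1343) (l := 4) rfl N1343 D2511
theorem N1778 : nd 1778 = n2512 := ndS (p := 1343) (l := 6) rfl N1343 D2512
theorem N1779 : nd 1779 = n2513 := ndS (p := 1344) (l := 6) rfl N1344 D2513
theorem N1780 : nd 1780 = n2514 := ndS (p := 1345) (l := 7) rfl N1345 D2514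
theorem N1781 : nd 1781 = n2515 := ndS (p := 1347) (l := 3) rfl N1347 D2515
theorem N1782 : nd 1782 = n2516 := ndS (p := 1347) (l := 6) rfl N1347 D2516
theorem N1783 : nd 1783 = n2517 := ndS (p := 1347) (l := 9) rfl N1347 D2517
theorem N1784 : nd 1784 = n2518 := ndS (p := 1348) (l := 7) rfl N1348 D2518
theorem N1785 : nd 1785 = n2519 := ndS (p := 1348) (l := 9) rfl N1348 D2519
theorem N1786 : nd 1786 = n2520 := ndS (p := 1349) (l := 8) rfl N1349 D2520
theorem N1787 : nd 1787 = n2521 := ndS (p := 1350) (l := 2) rfl N1350 D2521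
theorem N1788 : nd 1788 = n2522 := ndS (p := 1350) (l := 6) rfl N1350 D2522
theorem N1789 : nd 1789 = n2523 := ndS (p := 1350) (l := 9) rfl N1350 D2523
theorem N1790 : nd 1790 = n2524 := ndS (p := 1351) (l := 5) rfl N1351 D2524
theorem N1791 : nd 1791 = n2525 := ndS (p := 1351) (l := 7) rfl N1351 D2525
theorem N1792 : nd 1792 = n2526 := ndS (p := 1351) (l := 9) rfl N1351 D2526
theorem N1793 : nd 1793 = n2527 := ndS (p := 1352) (l := 8) rfl N1352 D2527
theorem N1794 : nd 1794 = n2528 := ndS (p := 1353) (l := 9) rfl N1353 D2528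
theorem N1795 : nd 1795 = n2529 := ndS (p := 1354) (l := 8) rfl N1354 D2529
theorem N1796 : nd 1796 = n2530 := ndS (p := 1356) (l := 1) rfl N1356 D2530
theorem N1797 : nd 1797 = n2531 := ndS (p := 1356) (l := 6) rfl N1356 D2531
theorem N1798 : nd 1798 = n2532 := ndS (p := 1356) (l := 9) rfl N1356 D2532
theorem N1799 : nd 1799 = n2533 := ndS (p := 1357) (l := 5) rfl N1357 D2533
theorem N1800 : nd 1800 = n2535 := ndS (p := 1357) (l := 9) rfl N1357 D2535
theorem N1801 : nd 1801 = n2536 := ndS (p := 1358) (l := 8) rfl N1358 D2536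
theorem N1802 : nd 1802 = n2539 := ndS (p := 1359) (l := 9) rfl N1359 D2539
theorem N1803 : nd 1803 = n2541 := ndS (p := 1360) (l := 8) rfl N1360 D2541
theorem N1804 : nd 1804 = n2542 := ndS (p := 1361) (l := 5) rfl N1361 D2542
theorem N1805 : nd 1805 = n2544 := ndS (p := 1362) (l := 5) rfl N1362 D2544
theorem N1806 : nd 1806 = n2545 := ndS (p := 1363) (l := 0) rfl N1363 D2545
theorem N1807 : nd 1807 = n2546 := ndS (p := 1363) (l := 6) rfl N1363 D2546
theorem N1808 : nd 1808 = n2547 := ndS (p := 1363) (l := 9) rfl N1363 D2547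
theorem N1809 : nd 1809 = n2550 := ndS (p := 1364) (l := 9) rfl N1364 D2550
theorem N1810 : nd 1810 = n2551 := ndS (p := 1365) (l := 8) rfl N1365 D2551
theorem N1811 : nd 1811 = n2557 := ndS (p := 1366) (l := 8) rfl N1366 D2557
theorem N1812 : nd 1812 = n2558 := ndS (p := 1367) (l := 5) rfl N1367 D2558
theorem N1813 : nd 1813 = n2565 := ndS (p := 1368) (l := 5) rfl N1368 D2565
theorem N1814 : nd 1814 = n2566 := ndS (p := 1369) (l := 6) rfl N1369 D2566
theorem N1815 : nd 1815 = n2568 := ndS (p := 1370) (l := 4) rfl N1370 D2568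
theorem N1816 : nd 1816 = n2593 := ndS (p := 1371) (l := 3) rfl N1371 D2593
theorem N1817 : nd 1817 = n2627 := ndS (p := 1372) (l := 1) rfl N1372 D2627
theorem N1818 : nd 1818 = n2628 := ndS (p := 1372) (l := 6) rfl N1372 D2628
theorem N1819 : nd 1819 = n2629 := ndS (p := 1372) (l := 9) rfl N1372 D2629
theorem N1820 : nd 1820 = n2630 := ndS (p := 1373) (l := 5) rfl N1373 D2630
theorem N1821 : nd 1821 = n2631 := ndS (p := 1373) (l := 7) rfl N1373 D2631
theorem N1822 : nd 1822 = n2632 := ndS (p := 1373) (l := 9) rfl N1373 D2632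
theorem N1823 : nd 1823 = n2633 := ndS (p := 1374) (l := 8) rfl N1374 D2633
theorem N1824 : nd 1824 = n2634 := ndS (p := 1375) (l := 7) rfl N1375 D2634
theorem N1825 : nd 1825 = n2635 := ndS (p := 1375) (l := 8) rfl N1375 D2635
theorem N1826 : nd 1826 = n2636 := ndS (p := 1375) (l := 9) rfl N1375 D2636
theorem N1827 : nd 1827 = n2637 := ndS (p := 1376) (l := 9) rfl N1376 D2637
theorem N1828 : nd 1828 = n2638 := ndS (p := 1377) (l := 8) rfl N1377 D2638
theorem N1829 : nd 1829 = n2639 := ndS (p := 1378) (l := 5) rfl N1378 D2639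
theorem N1830 : nd 1830 = n2640 := ndS (p := 1379) (l := 8) rfl N1379 D2640
theorem N1831 : nd 1831 = n2641 := ndS (p := 1380) (l := 5) rfl N1380 D2641
theorem N1832 : nd 1832 = n2642 := ndS (p := 1381) (l := 0) rfl N1381 D2642
theorem N1833 : nd 1833 = n2643 := ndS (p := 1381) (l := 6) rfl N1381 D2643
theorem N1834 : nd 1834 = n2644 := ndS (p := 1381) (l := 9) rfl N1381 D2644
theorem N1835 : nd 1835 = n2645 := ndS (p := 1382) (l := 5) rfl N1382 D2645
theorem N1836 : nd 1836 = n2646 := ndS (p := 1382) (l := 7) rfl N1382 D2646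
theorem N1837 : nd 1837 = n2647 := ndS (p := 1382) (l := 9) rfl N1382 D2647
theorem N1838 : nd 1838 = n2648 := ndS (p := 1383) (l := 8) rfl N1383 D2648
theorem N1839 : nd 1839 = n2649 := ndS (p := 1384) (l := 4) rfl N1384 D2649
theorem N1840 : nd 1840 = n2650 := ndS (p := 1384) (l := 7) rfl N1384 D2650
theorem N1841 : nd 1841 = n2651 := ndS (p := 1384) (l := 8) rfl N1384 D2651
theorem N1842 : nd 1842 = n2652 := ndS (p := 1384) (l := 9) rfl N1384 D2652
theorem N1843 : nd 1843 = n2653 := ndS (p := 1385) (l := 9) rfl N1385 D2653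
theorem N1844 : nd 1844 = n2654 := ndS (p := 1386) (l := 8) rfl N1386 D2654
theorem N1845 : nd 1845 = n2655 := ndS (p := 1387) (l := 5) rfl N1387 D2655
theorem N1846 : nd 1846 = n2656 := ndS (p := 1388) (l := 6) rfl N1388 D2656
theorem N1847 : nd 1847 = n2658 := ndS (p := 1388) (l := 9) rfl N1388 D2658
theorem N1848 : nd 1848 = n2659 := ndS (p := 1389) (l := 9) rfl N1389 D2659
theorem N1849 : nd 1849 = n2660 := ndS (p := 1390) (l := 8) rfl N1390 D2660
theorem N1850 : nd 1850 = n2661 := ndS (p := 1391) (l := 8) rfl N1391 D2661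
theorem N1851 : nd 1851 = n2662 := ndS (p := 1392) (l := 5) rfl N1392 D2662
theorem N1852 : nd 1852 = n2663 := ndS (p := 1393) (l := 6) rfl N1393 D2663
theorem N1853 : nd 1853 = n2664 := ndS (p := 1394) (l := 5) rfl N1394 D2664
theorem N1854 : nd 1854 = n2665 := ndS (p := 1395) (l := 4) rfl N1395 D2665
theorem N1855 : nd 1855 = n2666 := ndS (p := 1396) (l := 6) rfl N1396 D2666
theorem N1856 : nd 1856 = n2667 := ndS (p := 1396) (l := 9) rfl N1396 D2667
theorem N1857 : nd 1857 = n2668 := ndS (p := 1397) (l := 5) rfl N1397 D2668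
theorem N1858 : nd 1858 = n2669 := ndS (p := 1397) (l := 7) rfl N1397 D2669
theorem N1859 : nd 1859 = n2670 := ndS (p := 1397) (l := 9) rfl N1397 D2670
theorem N1860 : nd 1860 = n2671 := ndS (p := 1398) (l := 8) rfl N1398 D2671
theorem N1861 : nd 1861 = n2673 := ndS (p := 1399) (l := 8) rfl N1399 D2673
theorem N1862 : nd 1862 = n2674 := ndS (p := 1399) (l := 9) rfl N1399 D2674
theorem N1863 : nd 1863 = n2675 := ndS (p := 1400) (l := 9) rfl N1400 D2675
theorem N1864 : nd 1864 = n2676 := ndS (p := 1401) (l := 8) rfl N1401 D2676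
theorem N1865 : nd 1865 = n2677 := ndS (p := 1402) (l := 5) rfl N1402 D2677
theorem N1866 : nd 1866 = n2681 := ndS (p := 1403) (l := 9) rfl N1403 D2681
theorem N1867 : nd 1867 = n2682 := ndS (p := 1404) (l := 8) rfl N1404 D2682
theorem N1868 : nd 1868 = n2683 := ndS (p := 1405) (l := 8) rfl N1405 D2683
theorem N1869 : nd 1869 = n2684 := ndS (p := 1406) (l := 5) rfl N1406 D2684
theorem N1870 : nd 1870 = n2685 := ndS (p := 1407) (l := 4) rfl N1407 D2685
theorem N1871 : nd 1871 = n2686 := ndS (p := 1407) (l := 6) rfl N1407 D2686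
theorem N1872 : nd 1872 = n2691 := ndS (p := 1408) (l := 8) rfl N1408 D2691
theorem N1873 : nd 1873 = n2692 := ndS (p := 1409) (l := 5) rfl N1409 D2692
theorem N1874 : nd 1874 = n2693 := ndS (p := 1410) (l := 5) rfl N1410 D2693
theorem N1875 : nd 1875 = n2694 := ndS (p := 1411) (l := 4) rfl N1411 D2694
theorem N1876 : nd 1876 = n2695 := ndS (p := 1411) (l := 6) rfl N1411 D2695
theorem N1877 : nd 1877 = n2696 := ndS (p := 1412) (l := 7) rfl N1412 D2696
theorem N1878 : nd 1878 = n2697 := ndS (p := 1413) (l := 4) rfl N1413 D2697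
theorem N1879 : nd 1879 = n2698 := ndS (p := 1413) (l := 6) rfl N1413 D2698
theorem N1880 : nd 1880 = n2699 := ndS (p := 1414) (l := 3) rfl N1414 D2699
theorem N1881 : nd 1881 = n2705 := ndS (p := 1415) (l := 5) rfl N1415 D2705
theorem N1882 : nd 1882 = n2706 := ndS (p := 1416) (l := 4) rfl N1416 D2706
theorem N1883 : nd 1883 = n2707 := ndS (p := 1416) (l := 6) rfl N1416 D2707
theorem N1884 : nd 1884 = n2710 := ndS (p := 1417) (l := 3) rfl N1417 D2710
theorem N1885 : nd 1885 = n2711 := ndS (p := 1417) (l := 6) rfl N1417 D2711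
theorem N1886 : nd 1886 = n2713 := ndS (p := 1419) (l := 3) rfl N1419 D2713
theorem N1887 : nd 1887 = n2714 := ndS (p := 1419) (l := 6) rfl N1419 D2714
theorem N1888 : nd 1888 = n2715 := ndS (p := 1421) (l := 2) rfl N1421 D2715
theorem N1889 : nd 1889 = n2738 := ndS (p := 1422) (l := 6) rfl N1422 D2738
theorem N1890 : nd 1890 = n2739 := ndS (p := 1422) (l := 9) rfl N1422 D2739
theorem N1891 : nd 1891 = n2740 := ndS (p := 1423) (l := 5) rfl N1423 D2740
theorem N1892 : nd 1892 = n2741 := ndS (p := 1423) (l := 7) rfl N1423 D2741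
theorem N1893 : nd 1893 = n2742 := ndS (p := 1423) (l := 9) rfl N1423 D2742
theorem N1894 : nd 1894 = n2743 := ndS (p := 1424) (l := 8) rfl N1424 D2743
theorem N1895 : nd 1895 = n2744 := ndS (p := 1425) (l := 4) rfl N1425 D2744
theorem N1896 : nd 1896 = n2745 := ndS (p := 1425) (l := 7) rfl N1425 D2745
theorem N1897 : nd 1897 = n2746 := ndS (p := 1425) (l := 9) rfl N1425 D2746
theorem N1898 : nd 1898 = n2747 := ndS (p := 1426) (l := 9) rfl N1426 D2747
theorem N1899 : nd 1899 = n2748 := ndS (p := 1427) (l := 8) rfl N1427 D2748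
theorem N1900 : nd 1900 = n2749 := ndS (p := 1428) (l := 5) rfl N1428 D2749
theorem N1901 : nd 1901 = n2750 := ndS (p := 1429) (l := 7) rfl N1429 D2750
theorem N1902 : nd 1902 = n2751 := ndS (p := 1429) (l := 9) rfl N1429 D2751
theorem N1903 : nd 1903 = n2752 := ndS (p := 1430) (l := 6) rfl N1430 D2752
theorem N1904 : nd 1904 = n2753 := ndS (p := 1430) (l := 9) rfl N1430 D2753
theorem N1905 : nd 1905 = n2754 := ndS (p := 1431) (l := 8) rfl N1431 D2754
theorem N1906 : nd 1906 = n2755 := ndS (p := 1432) (l := 8) rfl N1432 D2755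
theorem N1907 : nd 1907 = n2756 := ndS (p := 1433) (l := 5) rfl N1433 D2756
theorem N1908 : nd 1908 = n2757 := ndS (p := 1434) (l := 4) rfl N1434 D2757
theorem N1909 : nd 1909 = n2758 := ndS (p := 1434) (l := 6) rfl N1434 D2758
theorem N1910 : nd 1910 = n2759 := ndS (p := 1435) (l := 9) rfl N1435 D2759
theorem N1911 : nd 1911 = n2760 := ndS (p := 1436) (l := 8) rfl N1436 D2760
theorem N1912 : nd 1912 = n2761 := ndS (p := 1437) (l := 5) rfl N1437 D2761
theorem N1913 : nd 1913 = n2762 := ndS (p := 1438) (l := 5) rfl N1438 D2762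
theorem N1914 : nd 1914 = n2763 := ndS (p := 1439) (l := 4) rfl N1439 D2763
theorem N1915 : nd 1915 = n2764 := ndS (p := 1439) (l := 6) rfl N1439 D2764
theorem N1916 : nd 1916 = n2765 := ndS (p := 1440) (l := 7) rfl N1440 D2765
theorem N1917 : nd 1917 = n2766 := ndS (p := 1441) (l := 4) rfl N1441 D2766
theorem N1918 : nd 1918 = n2767 := ndS (p := 1441) (l := 6) rfl N1441 D2767
theorem N1919 : nd 1919 = n2768 := ndS (p := 1442) (l := 3) rfl N1442 D2768
theorem N1920 : nd 1920 = n2769 := ndS (p := 1443) (l := 7) rfl N1443 D2769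
theorem N1921 : nd 1921 = n2770 := ndS (p := 1443) (l := 9) rfl N1443 D2770
theorem N1922 : nd 1922 = n2771 := ndS (p := 1444) (l := 8) rfl N1444 D2771
theorem N1923 : nd 1923 = n2772 := ndS (p := 1445) (l := 9) rfl N1445 D2772
theorem N1924 : nd 1924 = n2773 := ndS (p := 1446) (l := 8) rfl N1446 D2773
theorem N1925 : nd 1925 = n2774 := ndS (p := 1447) (l := 5) rfl N1447 D2774
theorem N1926 : nd 1926 = n2775 := ndS (p := 1448) (l := 8) rfl N1448 D2775
theorem N1927 : nd 1927 = n2776 := ndS (p := 1449) (l := 5) rfl N1449 D2776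
theorem N1928 : nd 1928 = n2777 := ndS (p := 1450) (l := 4) rfl N1450 D2777
theorem N1929 : nd 1929 = n2778 := ndS (p := 1450) (l := 6) rfl N1450 D2778
theorem N1930 : nd 1930 = n2779 := ndS (p := 1451) (l := 5) rfl N1451 D2779
theorem N1931 : nd 1931 = n2780 := ndS (p := 1452) (l := 4) rfl N1452 D2780
theorem N1932 : nd 1932 = n2781 := ndS (p := 1452) (l := 6) rfl N1452 D2781
theorem N1933 : nd 1933 = n2782 := ndS (p := 1453) (l := 6) rfl N1453 D2782
theorem N1934 : nd 1934 = n2783 := ndS (p := 1454) (l := 7) rfl N1454 D2783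
theorem N1935 : nd 1935 = n2784 := ndS (p := 1455) (l := 4) rfl N1455 D2784
theorem N1936 : nd 1936 = n2785 := ndS (p := 1455) (l := 6) rfl N1455 D2785
theorem N1937 : nd 1937 = n2786 := ndS (p := 1456) (l := 3) rfl N1456 D2786
theorem N1938 : nd 1938 = n2787 := ndS (p := 1456) (l := 6) rfl N1456 D2787
theorem N1939 : nd 1939 = n2788 := ndS (p := 1457) (l := 7) rfl N1457 D2788
theorem N1940 : nd 1940 = n2789 := ndS (p := 1459) (l := 3) rfl N1459 D2789
theorem N1941 : nd 1941 = n2791 := ndS (p := 1461) (l := 2) rfl N1461 D2791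
theorem N1942 : nd 1942 = n2792 := ndS (p := 1462) (l := 2) rfl N1462 D2792
theorem N1943 : nd 1943 = n2795 := ndS (p := 1463) (l := 1) rfl N1463 D2795
theorem N1944 : nd 1944 = n2801 := ndS (p := 1464) (l := 5) rfl N1464 D2801
theorem N1945 : nd 1945 = n2802 := ndS (p := 1465) (l := 4) rfl N1465 D2802
theorem N1946 : nd 1946 = n2804 := ndS (p := 1466) (l := 3) rfl N1466 D2804
theorem N1947 : nd 1947 = n2805 := ndS (p := 1466) (l := 6) rfl N1466 D2805
theorem N1948 : nd 1948 = n2807 := ndS (p := 1468) (l := 5) rfl N1468 D2807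
theorem N1949 : nd 1949 = n2808 := ndS (p := 1468) (l := 7) rfl N1468 D2808
theorem N1950 : nd 1950 = n2809 := ndS (p := 1470) (l := 0) rfl N1470 D2809
theorem N1951 : nd 1951 = n2810 := ndS (p := 1470) (l := 6) rfl N1470 D2810
theorem N1952 : nd 1952 = n2811 := ndS (p := 1470) (l := 9) rfl N1470 D2811
theorem N1953 : nd 1953 = n2812 := ndS (p := 1471) (l := 5) rfl N1471 D2812
theorem N1954 : nd 1954 = n2813 := ndS (p := 1471) (l := 7) rfl N1471 D2813
theorem N1955 : nd 1955 = n2814 := ndS (p := 1471) (l := 9) rfl N1471 D2814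
theorem N1956 : nd 1956 = n2815 := ndS (p := 1472) (l := 8) rfl N1472 D2815
theorem N1957 : nd 1957 = n2816 := ndS (p := 1473) (l := 4) rfl N1473 D2816
theorem N1958 : nd 1958 = n2817 := ndS (p := 1473) (l := 7) rfl N1473 D2817
theorem N1959 : nd 1959 = n2818 := ndS (p := 1473) (l := 8) rfl N1473 D2818
theorem N1960 : nd 1960 = n2819 := ndS (p := 1473) (l := 9) rfl N1473 D2819
theorem N1961 : nd 1961 = n2820 := ndS (p := 1474) (l := 9) rfl N1474 D2820
theorem N1962 : nd 1962 = n2821 := ndS (p := 1475) (l := 8) rfl N1475 D2821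
theorem N1963 : nd 1963 = n2822 := ndS (p := 1476) (l := 5) rfl N1476 D2822
theorem N1964 : nd 1964 = n2823 := ndS (p := 1477) (l := 6) rfl N1477 D2823
theorem N1965 : nd 1965 = n2824 := ndS (p := 1477) (l := 8) rfl N1477 D2824
theorem N1966 : nd 1966 = n2825 := ndS (p := 1477) (l := 9) rfl N1477 D2825
theorem N1967 : nd 1967 = n2826 := ndS (p := 1478) (l := 9) rfl N1478 D2826
theorem N1968 : nd 1968 = n2827 := ndS (p := 1479) (l := 8) rfl N1479 D2827
theorem N1969 : nd 1969 = n2828 := ndS (p := 1480) (l := 8) rfl N1480 D2828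
theorem N1970 : nd 1970 = n2829 := ndS (p := 1481) (l := 5) rfl N1481 D2829
theorem N1971 : nd 1971 = n2830 := ndS (p := 1482) (l := 6) rfl N1482 D2830
theorem N1972 : nd 1972 = n2831 := ndS (p := 1483) (l := 5) rfl N1483 D2831
theorem N1973 : nd 1973 = n2832 := ndS (p := 1484) (l := 4) rfl N1484 D2832
theorem N1974 : nd 1974 = n2833 := ndS (p := 1485) (l := 6) rfl N1485 D2833
theorem N1975 : nd 1975 = n2834 := ndS (p := 1485) (l := 9) rfl N1485 D2834
theorem N1976 : nd 1976 = n2835 := ndS (p := 1486) (l := 5) rfl N1486 D2835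
theorem N1977 : nd 1977 = n2836 := ndS (p := 1486) (l := 7) rfl N1486 D2836
theorem N1978 : nd 1978 = n2837 := ndS (p := 1486) (l := 9) rfl N1486 D2837
theorem N1979 : nd 1979 = n2838 := ndS (p := 1487) (l := 8) rfl N1487 D2838
theorem N1980 : nd 1980 = n2839 := ndS (p := 1488) (l := 4) rfl N1488 D2839
theorem N1981 : nd 1981 = n2840 := ndS (p := 1488) (l := 7) rfl N1488 D2840
theorem N1982 : nd 1982 = n2841 := ndS (p := 1488) (l := 8) rfl N1488 D2841
theorem N1983 : nd 1983 = n2842 := ndS (p := 1488) (l := 9) rfl N1488 D2842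
theorem N1984 : nd 1984 = n2843 := ndS (p := 1489) (l := 9) rfl N1489 D2843
theorem N1985 : nd 1985 = n2844 := ndS (p := 1490) (l := 8) rfl N1490 D2844
theorem N1986 : nd 1986 = n2845 := ndS (p := 1491) (l := 5) rfl N1491 D2845
theorem N1987 : nd 1987 = n2846 := ndS (p := 1492) (l := 7) rfl N1492 D2846
theorem N1988 : nd 1988 = n2847 := ndS (p := 1492) (l := 8) rfl N1492 D2847
theorem N1989 : nd 1989 = n2848 := ndS (p := 1492) (l := 9) rfl N1492 D2848
theorem N1990 : nd 1990 = n2849 := ndS (p := 1493) (l := 6) rfl N1493 D2849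
theorem N1991 : nd 1991 = n2850 := ndS (p := 1493) (l := 8) rfl N1493 D2850
theorem N1992 : nd 1992 = n2851 := ndS (p := 1493) (l := 9) rfl N1493 D2851
theorem N1993 : nd 1993 = n2852 := ndS (p := 1494) (l := 9) rfl N1494 D2852
theorem N1994 : nd 1994 = n2853 := ndS (p := 1495) (l := 8) rfl N1495 D2853
theorem N1995 : nd 1995 = n2854 := ndS (p := 1496) (l := 8) rfl N1496 D2854
theorem N1996 : nd 1996 = n2855 := ndS (p := 1497) (l := 5) rfl N1497 D2855
theorem N1997 : nd 1997 = n2856 := ndS (p := 1498) (l := 4) rfl N1498 D2856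
theorem N1998 : nd 1998 = n2857 := ndS (p := 1498) (l := 6) rfl N1498 D2857
theorem N1999 : nd 1999 = n2858 := ndS (p := 1499) (l := 8) rfl N1499 D2858
theorem N2000 : nd 2000 = n2859 := ndS (p := 1499) (l := 9) rfl N1499 D2859
theorem N2001 : nd 2001 = n2860 := ndS (p := 1500) (l := 9) rfl N1500 D2860
theorem N2002 : nd 2002 = n2861 := ndS (p := 1501) (l := 8) rfl N1501 D2861
theorem N2003 : nd 2003 = n2862 := ndS (p := 1502) (l := 8) rfl N1502 D2862
theorem N2004 : nd 2004 = n2863 := ndS (p := 1503) (l := 5) rfl N1503 D2863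
theorem N2005 : nd 2005 = n2864 := ndS (p := 1504) (l := 5) rfl N1504 D2864
theorem N2006 : nd 2006 = n2865 := ndS (p := 1505) (l := 4) rfl N1505 D2865
theorem N2007 : nd 2007 = n2866 := ndS (p := 1505) (l := 6) rfl N1505 D2866
theorem N2008 : nd 2008 = n2867 := ndS (p := 1506) (l := 7) rfl N1506 D2867
theorem N2009 : nd 2009 = n2868 := ndS (p := 1507) (l := 4) rfl N1507 D2868
theorem N2010 : nd 2010 = n2869 := ndS (p := 1507) (l := 6) rfl N1507 D2869
theorem N2011 : nd 2011 = n2870 := ndS (p := 1508) (l := 3) rfl N1508 D2870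
theorem N2012 : nd 2012 = n2871 := ndS (p := 1509) (l := 5) rfl N1509 D2871
theorem N2013 : nd 2013 = n2872 := ndS (p := 1509) (l := 7) rfl N1509 D2872
theorem N2014 : nd 2014 = n2873 := ndS (p := 1509) (l := 9) rfl N1509 D2873
theorem N2015 : nd 2015 = n2874 := ndS (p := 1510) (l := 8) rfl N1510 D2874
theorem N2016 : nd 2016 = n2875 := ndS (p := 1511) (l := 7) rfl N1511 D2875
theorem N2017 : nd 2017 = n2876 := ndS (p := 1511) (l := 8) rfl N1511 D2876
theorem N2018 : nd 2018 = n2877 := ndS (p := 1511) (l := 9) rfl N1511 D2877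
theorem N2019 : nd 2019 = n2878 := ndS (p := 1512) (l := 9) rfl N1512 D2878
theorem N2020 : nd 2020 = n2879 := ndS (p := 1513) (l := 8) rfl N1513 D2879
theorem N2021 : nd 2021 = n2880 := ndS (p := 1514) (l := 5) rfl N1514 D2880
theorem N2022 : nd 2022 = n2882 := ndS (p := 1515) (l := 8) rfl N1515 D2882
theorem N2023 : nd 2023 = n2883 := ndS (p := 1515) (l := 9) rfl N1515 D2883
theorem N2024 : nd 2024 = n2884 := ndS (p := 1516) (l := 9) rfl N1516 D2884
theorem N2025 : nd 2025 = n2885 := ndS (p := 1517) (l := 8) rfl N1517 D2885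
theorem N2026 : nd 2026 = n2886 := ndS (p := 1518) (l := 8) rfl N1518 D2886
theorem N2027 : nd 2027 = n2887 := ndS (p := 1519) (l := 5) rfl N1519 D2887
theorem N2028 : nd 2028 = n2888 := ndS (p := 1520) (l := 4) rfl N1520 D2888
theorem N2029 : nd 2029 = n2889 := ndS (p := 1520) (l := 6) rfl N1520 D2889
theorem N2030 : nd 2030 = n2892 := ndS (p := 1521) (l := 9) rfl N1521 D2892
theorem N2031 : nd 2031 = n2893 := ndS (p := 1522) (l := 8) rfl N1522 D2893
theorem N2032 : nd 2032 = n2894 := ndS (p := 1523) (l := 8) rfl N1523 D2894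
theorem N2033 : nd 2033 = n2895 := ndS (p := 1524) (l := 5) rfl N1524 D2895
theorem N2034 : nd 2034 = n2896 := ndS (p := 1525) (l := 5) rfl N1525 D2896
theorem N2035 : nd 2035 = n2897 := ndS (p := 1526) (l := 4) rfl N1526 D2897
theorem N2036 : nd 2036 = n2898 := ndS (p := 1526) (l := 6) rfl N1526 D2898
theorem N2037 : nd 2037 = n2899 := ndS (p := 1527) (l := 6) rfl N1527 D2899
theorem N2038 : nd 2038 = n2900 := ndS (p := 1528) (l := 7) rfl N1528 D2900
theorem N2039 : nd 2039 = n2904 := ndS (p := 1529) (l := 8) rfl N1529 D2904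
theorem N2040 : nd 2040 = n2905 := ndS (p := 1530) (l := 5) rfl N1530 D2905
theorem N2041 : nd 2041 = n2906 := ndS (p := 1531) (l := 5) rfl N1531 D2906
theorem N2042 : nd 2042 = n2907 := ndS (p := 1532) (l := 4) rfl N1532 D2907
theorem N2043 : nd 2043 = n2908 := ndS (p := 1532) (l := 6) rfl N1532 D2908
theorem N2044 : nd 2044 = n2909 := ndS (p := 1533) (l := 4) rfl N1533 D2909
theorem N2045 : nd 2045 = n2910 := ndS (p := 1533) (l := 6) rfl N1533 D2910
theorem N2046 : nd 2046 = n2911 := ndS (p := 1534) (l := 3) rfl N1534 D2911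
theorem N2047 : nd 2047 = n2912 := ndS (p := 1534) (l := 6) rfl N1534 D2912
theorem N2048 : nd 2048 = n2913 := ndS (p := 1535) (l := 7) rfl N1535 D2913
theorem N2049 : nd 2049 = n2914 := ndS (p := 1537) (l := 3) rfl N1537 D2914
theorem N2050 : nd 2050 = n2915 := ndS (p := 1537) (l := 6) rfl N1537 D2915
theorem N2051 : nd 2051 = n2916 := ndS (p := 1539) (l := 2) rfl N1539 D2916
theorem N2052 : nd 2052 = n2921 := ndS (p := 1540) (l := 5) rfl N1540 D2921
theorem N2053 : nd 2053 = n2922 := ndS (p := 1541) (l := 4) rfl N1541 D2922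
theorem N2054 : nd 2054 = n2924 := ndS (p := 1542) (l := 4) rfl N1542 D2924
theorem N2055 : nd 2055 = n2925 := ndS (p := 1542) (l := 6) rfl N1542 D2925
theorem N2056 : nd 2056 = n2926 := ndS (p := 1543) (l := 3) rfl N1543 D2926
theorem N2057 : nd 2057 = n2927 := ndS (p := 1543) (l := 6) rfl N1543 D2927
theorem N2058 : nd 2058 = n2929 := ndS (p := 1545) (l := 3) rfl N1545 D2929
theorem N2059 : nd 2059 = n2932 := ndS (p := 1546) (l := 2) rfl N1546 D2932
theorem N2060 : nd 2060 = n2933 := ndS (p := 1546) (l := 6) rfl N1546 D2933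
theorem N2061 : nd 2061 = n2969 := ndS (p := 1551) (l := 5) rfl N1551 D2969
theorem N2062 : nd 2062 = n2970 := ndS (p := 1551) (l := 7) rfl N1551 D2970
theorem N2063 : nd 2063 = n2971 := ndS (p := 1551) (l := 9) rfl N1551 D2971
theorem N2064 : nd 2064 = n2972 := ndS (p := 1552) (l := 8) rfl N1552 D2972
theorem N2065 : nd 2065 = n2973 := ndS (p := 1553) (l := 4) rfl N1553 D2973
theorem N2066 : nd 2066 = n2974 := ndS (p := 1553) (l := 7) rfl N1553 D2974
theorem N2067 : nd 2067 = n2975 := ndS (p := 1553) (l := 9) rfl N1553 D2975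
theorem N2068 : nd 2068 = n2976 := ndS (p := 1554) (l := 9) rfl N1554 D2976
theorem N2069 : nd 2069 = n2977 := ndS (p := 1555) (l := 8) rfl N1555 D2977
theorem N2070 : nd 2070 = n2978 := ndS (p := 1556) (l := 5) rfl N1556 D2978
theorem N2071 : nd 2071 = n2979 := ndS (p := 1557) (l := 3) rfl N1557 D2979
theorem N2072 : nd 2072 = n2980 := ndS (p := 1557) (l := 7) rfl N1557 D2980
theorem N2073 : nd 2073 = n2981 := ndS (p := 1557) (l := 9) rfl N1557 D2981
theorem N2074 : nd 2074 = n2982 := ndS (p := 1558) (l := 6) rfl N1558 D2982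
theorem N2075 : nd 2075 = n2983 := ndS (p := 1558) (l := 9) rfl N1558 D2983
theorem N2076 : nd 2076 = n2984 := ndS (p := 1559) (l := 8) rfl N1559 D2984
theorem N2077 : nd 2077 = n2985 := ndS (p := 1560) (l := 8) rfl N1560 D2985
theorem N2078 : nd 2078 = n2986 := ndS (p := 1561) (l := 5) rfl N1561 D2986
theorem N2079 : nd 2079 = n2987 := ndS (p := 1562) (l := 4) rfl N1562 D2987
theorem N2080 : nd 2080 = n2988 := ndS (p := 1562) (l := 6) rfl N1562 D2988
theorem N2081 : nd 2081 = n2989 := ndS (p := 1563) (l := 6) rfl N1563 D2989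
theorem N2082 : nd 2082 = n2990 := ndS (p := 1563) (l := 9) rfl N1563 D2990
theorem N2083 : nd 2083 = n2991 := ndS (p := 1564) (l := 8) rfl N1564 D2991
theorem N2084 : nd 2084 = n2992 := ndS (p := 1565) (l := 9) rfl N1565 D2992
theorem N2085 : nd 2085 = n2993 := ndS (p := 1566) (l := 8) rfl N1566 D2993
theorem N2086 : nd 2086 = n2994 := ndS (p := 1567) (l := 5) rfl N1567 D2994
theorem N2087 : nd 2087 = n2995 := ndS (p := 1568) (l := 5) rfl N1568 D2995
theorem N2088 : nd 2088 = n2996 := ndS (p := 1569) (l := 4) rfl N1569 D2996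
theorem N2089 : nd 2089 = n2997 := ndS (p := 1569) (l := 6) rfl N1569 D2997
theorem N2090 : nd 2090 = n2998 := ndS (p := 1570) (l := 6) rfl N1570 D2998
theorem N2091 : nd 2091 = n2999 := ndS (p := 1571) (l := 7) rfl N1571 D2999
theorem N2092 : nd 2092 = n3000 := ndS (p := 1572) (l := 8) rfl N1572 D3000
theorem N2093 : nd 2093 = n3001 := ndS (p := 1573) (l := 5) rfl N1573 D3001
theorem N2094 : nd 2094 = n3002 := ndS (p := 1574) (l := 4) rfl N1574 D3002
theorem N2095 : nd 2095 = n3003 := ndS (p := 1574) (l := 6) rfl N1574 D3003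
theorem N2096 : nd 2096 = n3004 := ndS (p := 1575) (l := 4) rfl N1575 D3004
theorem N2097 : nd 2097 = n3005 := ndS (p := 1575) (l := 6) rfl N1575 D3005
theorem N2098 : nd 2098 = n3006 := ndS (p := 1576) (l := 3) rfl N1576 D3006
theorem N2099 : nd 2099 = n3007 := ndS (p := 1576) (l := 6) rfl N1576 D3007
theorem N2100 : nd 2100 = n3008 := ndS (p := 1577) (l := 7) rfl N1577 D3008
theorem N2101 : nd 2101 = n3012 := ndS (p := 1582) (l := 9) rfl N1582 D3012
theorem N2102 : nd 2102 = n3013 := ndS (p := 1583) (l := 8) rfl N1583 D3013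
theorem N2103 : nd 2103 = n3014 := ndS (p := 1584) (l := 5) rfl N1584 D3014
theorem N2104 : nd 2104 = n3015 := ndS (p := 1585) (l := 8) rfl N1585 D3015
theorem N2105 : nd 2105 = n3016 := ndS (p := 1586) (l := 5) rfl N1586 D3016
theorem N2106 : nd 2106 = n3017 := ndS (p := 1587) (l := 4) rfl N1587 D3017
theorem N2107 : nd 2107 = n3019 := ndS (p := 1588) (l := 5) rfl N1588 D3019
theorem N2108 : nd 2108 = n3020 := ndS (p := 1589) (l := 4) rfl N1589 D3020
theorem N2109 : nd 2109 = n3021 := ndS (p := 1589) (l := 6) rfl N1589 D3021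
theorem N2110 : nd 2110 = n3025 := ndS (p := 1592) (l := 4) rfl N1592 D3025
theorem N2111 : nd 2111 = n3026 := ndS (p := 1592) (l := 6) rfl N1592 D3026
theorem N2112 : nd 2112 = n3027 := ndS (p := 1593) (l := 3) rfl N1593 D3027
theorem N2113 : nd 2113 = n3028 := ndS (p := 1593) (l := 6) rfl N1593 D3028
theorem N2114 : nd 2114 = n3029 := ndS (p := 1594) (l := 7) rfl N1594 D3029
theorem N2115 : nd 2115 = n3030 := ndS (p := 1595) (l := 5) rfl N1595 D3030
theorem N2116 : nd 2116 = n3034 := ndS (p := 1598) (l := 7) rfl N1598 D3034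
theorem N2117 : nd 2117 = n3036 := ndS (p := 1599) (l := 6) rfl N1599 D3036
theorem N2118 : nd 2118 = n3037 := ndS (p := 1600) (l := 7) rfl N1600 D3037
theorem N2119 : nd 2119 = n3053 := ndS (p := 1602) (l := 4) rfl N1602 D3053
theorem N2120 : nd 2120 = n3062 := ndS (p := 1604) (l := 8) rfl N1604 D3062
theorem N2121 : nd 2121 = n3065 := ndS (p := 1605) (l := 9) rfl N1605 D3065
theorem N2122 : nd 2122 = n3066 := ndS (p := 1606) (l := 9) rfl N1606 D3066
theorem N2123 : nd 2123 = n3067 := ndS (p := 1607) (l := 8) rfl N1607 D3067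
theorem N2124 : nd 2124 = n3068 := ndS (p := 1608) (l := 5) rfl N1608 D3068
theorem N2125 : nd 2125 = n3071 := ndS (p := 1609) (l := 9) rfl N1609 D3071
theorem N2126 : nd 2126 = n3073 := ndS (p := 1610) (l := 9) rfl N1610 D3073
theorem N2127 : nd 2127 = n3074 := ndS (p := 1611) (l := 8) rfl N1611 D3074
theorem N2128 : nd 2128 = n3075 := ndS (p := 1612) (l := 8) rfl N1612 D3075
theorem N2129 : nd 2129 = n3076 := ndS (p := 1613) (l := 5) rfl N1613 D3076
theorem N2130 : nd 2130 = n3080 := ndS (p := 1615) (l := 9) rfl N1615 D3080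
theorem N2131 : nd 2131 = n3082 := ndS (p := 1616) (l := 9) rfl N1616 D3082
theorem N2132 : nd 2132 = n3083 := ndS (p := 1617) (l := 8) rfl N1617 D3083
theorem N2133 : nd 2133 = n3084 := ndS (p := 1618) (l := 9) rfl N1618 D3084
theorem N2134 : nd 2134 = n3085 := ndS (p := 1619) (l := 8) rfl N1619 D3085
theorem N2135 : nd 2135 = n3086 := ndS (p := 1620) (l := 5) rfl N1620 D3086
theorem N2136 : nd 2136 = n3087 := ndS (p := 1621) (l := 5) rfl N1621 D3087
theorem N2137 : nd 2137 = n3094 := ndS (p := 1623) (l := 9) rfl N1623 D3094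
theorem N2138 : nd 2138 = n3095 := ndS (p := 1624) (l := 8) rfl N1624 D3095
theorem N2139 : nd 2139 = n3096 := ndS (p := 1625) (l := 5) rfl N1625 D3096
theorem N2140 : nd 2140 = n3097 := ndS (p := 1626) (l := 8) rfl N1626 D3097
theorem N2141 : nd 2141 = n3098 := ndS (p := 1627) (l := 5) rfl N1627 D3098
theorem N2142 : nd 2142 = n3099 := ndS (p := 1628) (l := 4) rfl N1628 D3099
theorem N2143 : nd 2143 = n3100 := ndS (p := 1628) (l := 6) rfl N1628 D3100
theorem N2144 : nd 2144 = n3101 := ndS (p := 1629) (l := 4) rfl N1629 D3101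
theorem N2145 : nd 2145 = n3102 := ndS (p := 1629) (l := 6) rfl N1629 D3102
theorem N2146 : nd 2146 = n3108 := ndS (p := 1632) (l := 5) rfl N1632 D3108
theorem N2147 : nd 2147 = n3111 := ndS (p := 1634) (l := 3) rfl N1634 D3111
theorem N2148 : nd 2148 = n3112 := ndS (p := 1634) (l := 6) rfl N1634 D3112
theorem N2149 : nd 2149 = n3124 := ndS (p := 1638) (l := 8) rfl N1638 D3124
theorem N2150 : nd 2150 = n3125 := ndS (p := 1639) (l := 5) rfl N1639 D3125
theorem N2151 : nd 2151 = n3128 := ndS (p := 1641) (l := 5) rfl N1641 D3128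
theorem N2152 : nd 2152 = n3207 := ndS (p := 1646) (l := 9) rfl N1646 D3207
theorem N2153 : nd 2153 = n3210 := ndS (p := 1647) (l := 9) rfl N1647 D3210
theorem N2154 : nd 2154 = n3211 := ndS (p := 1649) (l := 3) rfl N1649 D3211
theorem N2155 : nd 2155 = n3212 := ndS (p := 1649) (l := 6) rfl N1649 D3212
theorem N2156 : nd 2156 = n3213 := ndS (p := 1649) (l := 9) rfl N1649 D3213
theorem N2157 : nd 2157 = n3215 := ndS (p := 1650) (l := 9) rfl N1650 D3215
theorem N2158 : nd 2158 = n3216 := ndS (p := 1651) (l := 8) rfl N1651 D3216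
theorem N2159 : nd 2159 = n3217 := ndS (p := 1652) (l := 2) rfl N1652 D3217
theorem N2160 : nd 2160 = n3219 := ndS (p := 1652) (l := 9) rfl N1652 D3219
theorem N2161 : nd 2161 = n3223 := ndS (p := 1653) (l := 8) rfl N1653 D3223
theorem N2162 : nd 2162 = n3226 := ndS (p := 1655) (l := 1) rfl N1655 D3226
theorem N2163 : nd 2163 = n3228 := ndS (p := 1655) (l := 9) rfl N1655 D3228
theorem N2164 : nd 2164 = n3232 := ndS (p := 1656) (l := 8) rfl N1656 D3232
theorem N2165 : nd 2165 = n3238 := ndS (p := 1657) (l := 5) rfl N1657 D3238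
theorem N2166 : nd 2166 = n3294 := ndS (p := 1658) (l := 3) rfl N1658 D3294
theorem N2167 : nd 2167 = n3296 := ndS (p := 1658) (l := 9) rfl N1658 D3296
theorem N2168 : nd 2168 = n3298 := ndS (p := 1659) (l := 9) rfl N1659 D3298
theorem N2169 : nd 2169 = n3299 := ndS (p := 1660) (l := 8) rfl N1660 D3299
theorem N2170 : nd 2170 = n3300 := ndS (p := 1661) (l := 2) rfl N1661 D3300
theorem N2171 : nd 2171 = n3301 := ndS (p := 1661) (l := 6) rfl N1661 D3301
theorem N2172 : nd 2172 = n3302 := ndS (p := 1661) (l := 9) rfl N1661 D3302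
theorem N2173 : nd 2173 = n3303 := ndS (p := 1662) (l := 5) rfl N1662 D3303
theorem N2174 : nd 2174 = n3304 := ndS (p := 1662) (l := 7) rfl N1662 D3304
theorem N2175 : nd 2175 = n3305 := ndS (p := 1662) (l := 9) rfl N1662 D3305
theorem N2176 : nd 2176 = n3306 := ndS (p := 1663) (l := 8) rfl N1663 D3306
theorem N2177 : nd 2177 = n3307 := ndS (p := 1664) (l := 9) rfl N1664 D3307
theorem N2178 : nd 2178 = n3308 := ndS (p := 1665) (l := 8) rfl N1665 D3308
theorem N2179 : nd 2179 = n3309 := ndS (p := 1667) (l := 1) rfl N1667 D3309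
theorem N2180 : nd 2180 = n3310 := ndS (p := 1667) (l := 6) rfl N1667 D3310
theorem N2181 : nd 2181 = n3311 := ndS (p := 1667) (l := 9) rfl N1667 D3311
theorem N2182 : nd 2182 = n3312 := ndS (p := 1668) (l := 5) rfl N1668 D3312
theorem N2183 : nd 2183 = n3314 := ndS (p := 1668) (l := 9) rfl N1668 D3314
theorem N2184 : nd 2184 = n3315 := ndS (p := 1669) (l := 8) rfl N1669 D3315
theorem N2185 : nd 2185 = n3318 := ndS (p := 1670) (l := 9) rfl N1670 D3318
theorem N2186 : nd 2186 = n3320 := ndS (p := 1671) (l := 8) rfl N1671 D3320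
theorem N2187 : nd 2187 = n3321 := ndS (p := 1672) (l := 5) rfl N1672 D3321
theorem N2188 : nd 2188 = n3323 := ndS (p := 1673) (l := 5) rfl N1673 D3323
theorem N2189 : nd 2189 = n3324 := ndS (p := 1674) (l := 0) rfl N1674 D3324
theorem N2190 : nd 2190 = n3325 := ndS (p := 1674) (l := 6) rfl N1674 D3325
theorem N2191 : nd 2191 = n3326 := ndS (p := 1674) (l := 9) rfl N1674 D3326
theorem N2192 : nd 2192 = n3329 := ndS (p := 1675) (l := 9) rfl N1675 D3329
theorem N2193 : nd 2193 = n3330 := ndS (p := 1676) (l := 8) rfl N1676 D3330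
theorem N2194 : nd 2194 = n3336 := ndS (p := 1677) (l := 8) rfl N1677 D3336
theorem N2195 : nd 2195 = n3337 := ndS (p := 1678) (l := 5) rfl N1678 D3337
theorem N2196 : nd 2196 = n3344 := ndS (p := 1679) (l := 5) rfl N1679 D3344
theorem N2197 : nd 2197 = n3345 := ndS (p := 1680) (l := 6) rfl N1680 D3345
theorem N2198 : nd 2198 = n3347 := ndS (p := 1681) (l := 4) rfl N1681 D3347
theorem N2199 : nd 2199 = n3372 := ndS (p := 1682) (l := 3) rfl N1682 D3372
theorem N2200 : nd 2200 = n3406 := ndS (p := 1683) (l := 1) rfl N1683 D3406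
theorem N2201 : nd 2201 = n3407 := ndS (p := 1683) (l := 6) rfl N1683 D3407
theorem N2202 : nd 2202 = n3408 := ndS (p := 1683) (l := 9) rfl N1683 D3408
theorem N2203 : nd 2203 = n3409 := ndS (p := 1684) (l := 5) rfl N1684 D3409
theorem N2204 : nd 2204 = n3410 := ndS (p := 1684) (l := 7) rfl N1684 D3410
theorem N2205 : nd 2205 = n3411 := ndS (p := 1684) (l := 9) rfl N1684 D3411
theorem N2206 : nd 2206 = n3412 := ndS (p := 1685) (l := 8) rfl N1685 D3412
theorem N2207 : nd 2207 = n3413 := ndS (p := 1686) (l := 7) rfl N1686 D3413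
theorem N2208 : nd 2208 = n3414 := ndS (p := 1686) (l := 8) rfl N1686 D3414
theorem N2209 : nd 2209 = n3415 := ndS (p := 1686) (l := 9) rfl N1686 D3415
theorem N2210 : nd 2210 = n3416 := ndS (p := 1687) (l := 9) rfl N1687 D3416
theorem N2211 : nd 2211 = n3417 := ndS (p := 1688) (l := 8) rfl N1688 D3417
theorem N2212 : nd 2212 = n3418 := ndS (p := 1689) (l := 5) rfl N1689 D3418
theorem N2213 : nd 2213 = n3419 := ndS (p := 1690) (l := 8) rfl N1690 D3419
theorem N2214 : nd 2214 = n3420 := ndS (p := 1691) (l := 5) rfl N1691 D3420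
theorem N2215 : nd 2215 = n3421 := ndS (p := 1692) (l := 0) rfl N1692 D3421
theorem N2216 : nd 2216 = n3422 := ndS (p := 1692) (l := 6) rfl N1692 D3422
theorem N2217 : nd 2217 = n3423 := ndS (p := 1692) (l := 9) rfl N1692 D3423
theorem N2218 : nd 2218 = n3424 := ndS (p := 1693) (l := 5) rfl N1693 D3424
theorem N2219 : nd 2219 = n3425 := ndS (p := 1693) (l := 7) rfl N1693 D3425
theorem N2220 : nd 2220 = n3426 := ndS (p := 1693) (l := 9) rfl N1693 D3426
theorem N2221 : nd 2221 = n3427 := ndS (p := 1694) (l := 8) rfl N1694 D3427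
theorem N2222 : nd 2222 = n3428 := ndS (p := 1695) (l := 4) rfl N1695 D3428
theorem N2223 : nd 2223 = n3429 := ndS (p := 1695) (l := 7) rfl N1695 D3429
theorem N2224 : nd 2224 = n3430 := ndS (p := 1695) (l := 8) rfl N1695 D3430
theorem N2225 : nd 2225 = n3431 := ndS (p := 1695) (l := 9) rfl N1695 D3431
theorem N2226 : nd 2226 = n3432 := ndS (p := 1696) (l := 9) rfl N1696 D3432
theorem N2227 : nd 2227 = n3433 := ndS (p := 1697) (l := 8) rfl N1697 D3433
theorem N2228 : nd 2228 = n3434 := ndS (p := 1698) (l := 5) rfl N1698 D3434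
theorem N2229 : nd 2229 = n3435 := ndS (p := 1699) (l := 6) rfl N1699 D3435
theorem N2230 : nd 2230 = n3437 := ndS (p := 1699) (l := 9) rfl N1699 D3437
theorem N2231 : nd 2231 = n3438 := ndS (p := 1700) (l := 9) rfl N1700 D3438
theorem N2232 : nd 2232 = n3439 := ndS (p := 1701) (l := 8) rfl N1701 D3439
theorem N2233 : nd 2233 = n3440 := ndS (p := 1702) (l := 8) rfl N1702 D3440
theorem N2234 : nd 2234 = n3441 := ndS (p := 1703) (l := 5) rfl N1703 D3441
theorem N2235 : nd 2235 = n3442 := ndS (p := 1704) (l := 6) rfl N1704 D3442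
theorem N2236 : nd 2236 = n3443 := ndS (p := 1705) (l := 5) rfl N1705 D3443
theorem N2237 : nd 2237 = n3444 := ndS (p := 1706) (l := 4) rfl N1706 D3444
theorem N2238 : nd 2238 = n3445 := ndS (p := 1707) (l := 6) rfl N1707 D3445
theorem N2239 : nd 2239 = n3446 := ndS (p := 1707) (l := 9) rfl N1707 D3446
theorem N2240 : nd 2240 = n3447 := ndS (p := 1708) (l := 5) rfl N1708 D3447
theorem N2241 : nd 2241 = n3448 := ndS (p := 1708) (l := 7) rfl N1708 D3448
theorem N2242 : nd 2242 = n3449 := ndS (p := 1708) (l := 9) rfl N1708 D3449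
theorem N2243 : nd 2243 = n3450 := ndS (p := 1709) (l := 8) rfl N1709 D3450
theorem N2244 : nd 2244 = n3452 := ndS (p := 1710) (l := 8) rfl N1710 D3452
theorem N2245 : nd 2245 = n3453 := ndS (p := 1710) (l := 9) rfl N1710 D3453
theorem N2246 : nd 2246 = n3454 := ndS (p := 1711) (l := 9) rfl N1711 D3454
theorem N2247 : nd 2247 = n3455 := ndS (p := 1712) (l := 8) rfl N1712 D3455
theorem N2248 : nd 2248 = n3456 := ndS (p := 1713) (l := 5) rfl N1713 D3456
theorem N2249 : nd 2249 = n3460 := ndS (p := 1714) (l := 9) rfl N1714 D3460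
theorem N2250 : nd 2250 = n3461 := ndS (p := 1715) (l := 8) rfl N1715 D3461
theorem N2251 : nd 2251 = n3462 := ndS (p := 1716) (l := 8) rfl N1716 D3462
theorem N2252 : nd 2252 = n3463 := ndS (p := 1717) (l := 5) rfl N1717 D3463
theorem N2253 : nd 2253 = n3464 := ndS (p := 1718) (l := 4) rfl N1718 D3464
theorem N2254 : nd 2254 = n3465 := ndS (p := 1718) (l := 6) rfl N1718 D3465
theorem N2255 : nd 2255 = n3470 := ndS (p := 1719) (l := 8) rfl N1719 D3470
theorem N2256 : nd 2256 = n3471 := ndS (p := 1720) (l := 5) rfl N1720 D3471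
theorem N2257 : nd 2257 = n3472 := ndS (p := 1721) (l := 5) rfl N1721 D3472
theorem N2258 : nd 2258 = n3473 := ndS (p := 1722) (l := 4) rfl N1722 D3473
theorem N2259 : nd 2259 = n3474 := ndS (p := 1722) (l := 6) rfl N1722 D3474
theorem N2260 : nd 2260 = n3475 := ndS (p := 1723) (l := 7) rfl N1723 D3475
theorem N2261 : nd 2261 = n3476 := ndS (p := 1724) (l := 4) rfl N1724 D3476
theorem N2262 : nd 2262 = n3477 := ndS (p := 1724) (l := 6) rfl N1724 D3477
theorem N2263 : nd 2263 = n3478 := ndS (p := 1725) (l := 3) rfl N1725 D3478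
theorem N2264 : nd 2264 = n3484 := ndS (p := 1726) (l := 5) rfl N1726 D3484
theorem N2265 : nd 2265 = n3485 := ndS (p := 1727) (l := 4) rfl N1727 D3485
theorem N2266 : nd 2266 = n3486 := ndS (p := 1727) (l := 6) rfl N1727 D3486
theorem N2267 : nd 2267 = n3489 := ndS (p := 1728) (l := 3) rfl N1728 D3489
theorem N2268 : nd 2268 = n3490 := ndS (p := 1728) (l := 6) rfl N1728 D3490
theorem N2269 : nd 2269 = n3492 := ndS (p := 1730) (l := 3) rfl N1730 D3492
theorem N2270 : nd 2270 = n3493 := ndS (p := 1730) (l := 6) rfl N1730 D3493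
theorem N2271 : nd 2271 = n3494 := ndS (p := 1732) (l := 2) rfl N1732 D3494
theorem N2272 : nd 2272 = n3517 := ndS (p := 1733) (l := 6) rfl N1733 D3517
theorem N2273 : nd 2273 = n3518 := ndS (p := 1733) (l := 9) rfl N1733 D3518
theorem N2274 : nd 2274 = n3519 := ndS (p := 1734) (l := 5) rfl N1734 D3519
theorem N2275 : nd 2275 = n3520 := ndS (p := 1734) (l := 7) rfl N1734 D3520
theorem N2276 : nd 2276 = n3521 := ndS (p := 1734) (l := 9) rfl N1734 D3521
theorem N2277 : nd 2277 = n3522 := ndS (p := 1735) (l := 8) rfl N1735 D3522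
theorem N2278 : nd 2278 = n3523 := ndS (p := 1736) (l := 4) rfl N1736 D3523
theorem N2279 : nd 2279 = n3524 := ndS (p := 1736) (l := 7) rfl N1736 D3524
theorem N2280 : nd 2280 = n3525 := ndS (p := 1736) (l := 9) rfl N1736 D3525
theorem N2281 : nd 2281 = n3526 := ndS (p := 1737) (l := 9) rfl N1737 D3526
theorem N2282 : nd 2282 = n3527 := ndS (p := 1738) (l := 8) rfl N1738 D3527
theorem N2283 : nd 2283 = n3528 := ndS (p := 1739) (l := 5) rfl N1739 D3528
theorem N2284 : nd 2284 = n3529 := ndS (p := 1740) (l := 7) rfl N1740 D3529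
theorem N2285 : nd 2285 = n3530 := ndS (p := 1740) (l := 9) rfl N1740 D3530
theorem N2286 : nd 2286 = n3531 := ndS (p := 1741) (l := 6) rfl N1741 D3531
theorem N2287 : nd 2287 = n3532 := ndS (p := 1741) (l := 9) rfl N1741 D3532
theorem N2288 : nd 2288 = n3533 := ndS (p := 1742) (l := 8) rfl N1742 D3533
theorem N2289 : nd 2289 = n3534 := ndS (p := 1743) (l := 8) rfl N1743 D3534
theorem N2290 : nd 2290 = n3535 := ndS (p := 1744) (l := 5) rfl N1744 D3535
theorem N2291 : nd 2291 = n3536 := ndS (p := 1745) (l := 4) rfl N1745 D3536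
theorem N2292 : nd 2292 = n3537 := ndS (p := 1745) (l := 6) rfl N1745 D3537
theorem N2293 : nd 2293 = n3538 := ndS (p := 1746) (l := 9) rfl N1746 D3538
theorem N2294 : nd 2294 = n3539 := ndS (p := 1747) (l := 8) rfl N1747 D3539
theorem N2295 : nd 2295 = n3540 := ndS (p := 1748) (l := 5) rfl N1748 D3540
theorem N2296 : nd 2296 = n3541 := ndS (p := 1749) (l := 5) rfl N1749 D3541
theorem N2297 : nd 2297 = n3542 := ndS (p := 1750) (l := 4) rfl N1750 D3542
theorem N2298 : nd 2298 = n3543 := ndS (p := 1750) (l := 6) rfl N1750 D3543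
theorem N2299 : nd 2299 = n3544 := ndS (p := 1751) (l := 7) rfl N1751 D3544
theorem N2300 : nd 2300 = n3545 := ndS (p := 1752) (l := 4) rfl N1752 D3545
theorem N2301 : nd 2301 = n3546 := ndS (p := 1752) (l := 6) rfl N1752 D3546
theorem N2302 : nd 2302 = n3547 := ndS (p := 1753) (l := 3) rfl N1753 D3547
theorem N2303 : nd 2303 = n3548 := ndS (p := 1754) (l := 7) rfl N1754 D3548
theorem N2304 : nd 2304 = n3549 := ndS (p := 1754) (l := 9) rfl N1754 D3549
theorem N2305 : nd 2305 = n3550 := ndS (p := 1755) (l := 8) rfl N1755 D3550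
theorem N2306 : nd 2306 = n3551 := ndS (p := 1756) (l := 9) rfl N1756 D3551
theorem N2307 : nd 2307 = n3552 := ndS (p := 1757) (l := 8) rfl N1757 D3552
theorem N2308 : nd 2308 = n3553 := ndS (p := 1758) (l := 5) rfl N1758 D3553
theorem N2309 : nd 2309 = n3554 := ndS (p := 1759) (l := 8) rfl N1759 D3554
theorem N2310 : nd 2310 = n3555 := ndS (p := 1760) (l := 5) rfl N1760 D3555
theorem N2311 : nd 2311 = n3556 := ndS (p := 1761) (l := 4) rfl N1761 D3556
theorem N2312 : nd 2312 = n3557 := ndS (p := 1761) (l := 6) rfl N1761 D3557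
theorem N2313 : nd 2313 = n3558 := ndS (p := 1762) (l := 5) rfl N1762 D3558
theorem N2314 : nd 2314 = n3559 := ndS (p := 1763) (l := 4) rfl N1763 D3559
theorem N2315 : nd 2315 = n3560 := ndS (p := 1763) (l := 6) rfl N1763 D3560
theorem N2316 : nd 2316 = n3561 := ndS (p := 1764) (l := 6) rfl N1764 D3561
theorem N2317 : nd 2317 = n3562 := ndS (p := 1765) (l := 7) rfl N1765 D3562
theorem N2318 : nd 2318 = n3563 := ndS (p := 1766) (l := 4) rfl N1766 D3563
theorem N2319 : nd 2319 = n3564 := ndS (p := 1766) (l := 6) rfl N1766 D3564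
theorem N2320 : nd 2320 = n3565 := ndS (p := 1767) (l := 3) rfl N1767 D3565
theorem N2321 : nd 2321 = n3566 := ndS (p := 1767) (l := 6) rfl N1767 D3566
theorem N2322 : nd 2322 = n3567 := ndS (p := 1768) (l := 7) rfl N1768 D3567
theorem N2323 : nd 2323 = n3568 := ndS (p := 1770) (l := 3) rfl N1770 D3568
theorem N2324 : nd 2324 = n3570 := ndS (p := 1772) (l := 2) rfl N1772 D3570
theorem N2325 : nd 2325 = n3571 := ndS (p := 1773) (l := 2) rfl N1773 D3571
theorem N2326 : nd 2326 = n3574 := ndS (p := 1774) (l := 1) rfl N1774 D3574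
theorem N2327 : nd 2327 = n3580 := ndS (p := 1775) (l := 5) rfl N1775 D3580
theorem N2328 : nd 2328 = n3581 := ndS (p := 1776) (l := 4) rfl N1776 D3581
theorem N2329 : nd 2329 = n3582 := ndS (p := 1776) (l := 6) rfl N1776 D3582
theorem N2330 : nd 2330 = n3583 := ndS (p := 1777) (l := 3) rfl N1777 D3583
theorem N2331 : nd 2331 = n3584 := ndS (p := 1777) (l := 6) rfl N1777 D3584
theorem N2332 : nd 2332 = n3585 := ndS (p := 1778) (l := 7) rfl N1778 D3585
theorem N2333 : nd 2333 = n3586 := ndS (p := 1779) (l := 5) rfl N1779 D3586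
theorem N2334 : nd 2334 = n3587 := ndS (p := 1779) (l := 7) rfl N1779 D3587
theorem N2335 : nd 2335 = n3588 := ndS (p := 1781) (l := 2) rfl N1781 D3588
theorem N2336 : nd 2336 = n3589 := ndS (p := 1781) (l := 6) rfl N1781 D3589
theorem N2337 : nd 2337 = n3590 := ndS (p := 1781) (l := 9) rfl N1781 D3590
theorem N2338 : nd 2338 = n3593 := ndS (p := 1782) (l := 9) rfl N1782 D3593
theorem N2339 : nd 2339 = n3594 := ndS (p := 1783) (l := 8) rfl N1783 D3594
theorem N2340 : nd 2340 = n3595 := ndS (p := 1784) (l := 9) rfl N1784 D3595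
theorem N2341 : nd 2341 = n3596 := ndS (p := 1785) (l := 8) rfl N1785 D3596
theorem N2342 : nd 2342 = n3597 := ndS (p := 1787) (l := 1) rfl N1787 D3597
theorem N2343 : nd 2343 = n3598 := ndS (p := 1787) (l := 6) rfl N1787 D3598
theorem N2344 : nd 2344 = n3599 := ndS (p := 1787) (l := 9) rfl N1787 D3599
theorem N2345 : nd 2345 = n3600 := ndS (p := 1788) (l := 5) rfl N1788 D3600
theorem N2346 : nd 2346 = n3601 := ndS (p := 1788) (l := 7) rfl N1788 D3601
theorem N2347 : nd 2347 = n3602 := ndS (p := 1788) (l := 9) rfl N1788 D3602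
theorem N2348 : nd 2348 = n3603 := ndS (p := 1789) (l := 8) rfl N1789 D3603
theorem N2349 : nd 2349 = n3604 := ndS (p := 1790) (l := 7) rfl N1790 D3604
theorem N2350 : nd 2350 = n3606 := ndS (p := 1790) (l := 9) rfl N1790 D3606
theorem N2351 : nd 2351 = n3607 := ndS (p := 1791) (l := 9) rfl N1791 D3607
theorem N2352 : nd 2352 = n3608 := ndS (p := 1792) (l := 8) rfl N1792 D3608
theorem N2353 : nd 2353 = n3609 := ndS (p := 1793) (l := 5) rfl N1793 D3609
theorem N2354 : nd 2354 = n3610 := ndS (p := 1794) (l := 8) rfl N1794 D3610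
theorem N2355 : nd 2355 = n3611 := ndS (p := 1795) (l := 5) rfl N1795 D3611
theorem N2356 : nd 2356 = n3612 := ndS (p := 1796) (l := 0) rfl N1796 D3612
theorem N2357 : nd 2357 = n3613 := ndS (p := 1796) (l := 6) rfl N1796 D3613
theorem N2358 : nd 2358 = n3614 := ndS (p := 1796) (l := 9) rfl N1796 D3614
theorem N2359 : nd 2359 = n3615 := ndS (p := 1797) (l := 5) rfl N1797 D3615
theorem N2360 : nd 2360 = n3617 := ndS (p := 1797) (l := 9) rfl N1797 D3617
theorem N2361 : nd 2361 = n3618 := ndS (p := 1798) (l := 8) rfl N1798 D3618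
theorem N2362 : nd 2362 = n3619 := ndS (p := 1799) (l := 4) rfl N1799 D3619
theorem N2363 : nd 2363 = n3622 := ndS (p := 1799) (l := 9) rfl N1799 D3622
theorem N2364 : nd 2364 = n3624 := ndS (p := 1800) (l := 8) rfl N1800 D3624
theorem N2365 : nd 2365 = n3625 := ndS (p := 1801) (l := 5) rfl N1801 D3625
theorem N2366 : nd 2366 = n3630 := ndS (p := 1802) (l := 8) rfl N1802 D3630
theorem N2367 : nd 2367 = n3632 := ndS (p := 1803) (l := 5) rfl N1803 D3632
theorem N2368 : nd 2368 = n3633 := ndS (p := 1804) (l := 6) rfl N1804 D3633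
theorem N2369 : nd 2369 = n3635 := ndS (p := 1805) (l := 4) rfl N1805 D3635
theorem N2370 : nd 2370 = n3636 := ndS (p := 1806) (l := 6) rfl N1806 D3636
theorem N2371 : nd 2371 = n3637 := ndS (p := 1806) (l := 9) rfl N1806 D3637
theorem N2372 : nd 2372 = n3640 := ndS (p := 1807) (l := 9) rfl N1807 D3640
theorem N2373 : nd 2373 = n3641 := ndS (p := 1808) (l := 8) rfl N1808 D3641
theorem N2374 : nd 2374 = n3647 := ndS (p := 1809) (l := 8) rfl N1809 D3647
theorem N2375 : nd 2375 = n3648 := ndS (p := 1810) (l := 5) rfl N1810 D3648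
theorem N2376 : nd 2376 = n3658 := ndS (p := 1811) (l := 5) rfl N1811 D3658
theorem N2377 : nd 2377 = n3659 := ndS (p := 1812) (l := 4) rfl N1812 D3659
theorem N2378 : nd 2378 = n3660 := ndS (p := 1812) (l := 6) rfl N1812 D3660
theorem N2379 : nd 2379 = n3668 := ndS (p := 1813) (l := 4) rfl N1813 D3668
theorem N2380 : nd 2380 = n3669 := ndS (p := 1813) (l := 6) rfl N1813 D3669
theorem N2381 : nd 2381 = n3670 := ndS (p := 1814) (l := 7) rfl N1814 D3670
theorem N2382 : nd 2382 = n3673 := ndS (p := 1815) (l := 3) rfl N1815 D3673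
theorem N2383 : nd 2383 = n3706 := ndS (p := 1816) (l := 2) rfl N1816 D3706
theorem N2384 : nd 2384 = n3754 := ndS (p := 1817) (l := 0) rfl N1817 D3754
theorem N2385 : nd 2385 = n3755 := ndS (p := 1817) (l := 6) rfl N1817 D3755
theorem N2386 : nd 2386 = n3756 := ndS (p := 1817) (l := 9) rfl N1817 D3756
theorem N2387 : nd 2387 = n3757 := ndS (p := 1818) (l := 5) rfl N1818 D3757
theorem N2388 : nd 2388 = n3758 := ndS (p := 1818) (l := 7) rfl N1818 D3758
theorem N2389 : nd 2389 = n3759 := ndS (p := 1818) (l := 9) rfl N1818 D3759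
theorem N2390 : nd 2390 = n3760 := ndS (p := 1819) (l := 8) rfl N1819 D3760
theorem N2391 : nd 2391 = n3761 := ndS (p := 1820) (l := 4) rfl N1820 D3761
theorem N2392 : nd 2392 = n3762 := ndS (p := 1820) (l := 7) rfl N1820 D3762
theorem N2393 : nd 2393 = n3763 := ndS (p := 1820) (l := 8) rfl N1820 D3763
theorem N2394 : nd 2394 = n3764 := ndS (p := 1820) (l := 9) rfl N1820 D3764
theorem N2395 : nd 2395 = n3765 := ndS (p := 1821) (l := 9) rfl N1821 D3765
theorem N2396 : nd 2396 = n3766 := ndS (p := 1822) (l := 8) rfl N1822 D3766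
theorem N2397 : nd 2397 = n3767 := ndS (p := 1823) (l := 5) rfl N1823 D3767
theorem N2398 : nd 2398 = n3768 := ndS (p := 1824) (l := 6) rfl N1824 D3768
theorem N2399 : nd 2399 = n3769 := ndS (p := 1824) (l := 8) rfl N1824 D3769
theorem N2400 : nd 2400 = n3770 := ndS (p := 1824) (l := 9) rfl N1824 D3770
theorem N2401 : nd 2401 = n3771 := ndS (p := 1825) (l := 9) rfl N1825 D3771
theorem N2402 : nd 2402 = n3772 := ndS (p := 1826) (l := 8) rfl N1826 D3772
theorem N2403 : nd 2403 = n3773 := ndS (p := 1827) (l := 8) rfl N1827 D3773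
theorem N2404 : nd 2404 = n3774 := ndS (p := 1828) (l := 5) rfl N1828 D3774
theorem N2405 : nd 2405 = n3775 := ndS (p := 1829) (l := 6) rfl N1829 D3775
theorem N2406 : nd 2406 = n3776 := ndS (p := 1830) (l := 5) rfl N1830 D3776
theorem N2407 : nd 2407 = n3777 := ndS (p := 1831) (l := 4) rfl N1831 D3777
theorem N2408 : nd 2408 = n3778 := ndS (p := 1832) (l := 6) rfl N1832 D3778
theorem N2409 : nd 2409 = n3779 := ndS (p := 1832) (l := 9) rfl N1832 D3779
theorem N2410 : nd 2410 = n3780 := ndS (p := 1833) (l := 5) rfl N1833 D3780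
theorem N2411 : nd 2411 = n3781 := ndS (p := 1833) (l := 7) rfl N1833 D3781
theorem N2412 : nd 2412 = n3782 := ndS (p := 1833) (l := 9) rfl N1833 D3782
theorem N2413 : nd 2413 = n3783 := ndS (p := 1834) (l := 8) rfl N1834 D3783
theorem N2414 : nd 2414 = n3784 := ndS (p := 1835) (l := 4) rfl N1835 D3784
theorem N2415 : nd 2415 = n3785 := ndS (p := 1835) (l := 7) rfl N1835 D3785
theorem N2416 : nd 2416 = n3786 := ndS (p := 1835) (l := 8) rfl N1835 D3786
theorem N2417 : nd 2417 = n3787 := ndS (p := 1835) (l := 9) rfl N1835 D3787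
theorem N2418 : nd 2418 = n3788 := ndS (p := 1836) (l := 9) rfl N1836 D3788
theorem N2419 : nd 2419 = n3789 := ndS (p := 1837) (l := 8) rfl N1837 D3789
theorem N2420 : nd 2420 = n3790 := ndS (p := 1838) (l := 5) rfl N1838 D3790
theorem N2421 : nd 2421 = n3791 := ndS (p := 1839) (l := 7) rfl N1839 D3791
theorem N2422 : nd 2422 = n3792 := ndS (p := 1839) (l := 8) rfl N1839 D3792
theorem N2423 : nd 2423 = n3793 := ndS (p := 1839) (l := 9) rfl N1839 D3793
theorem N2424 : nd 2424 = n3794 := ndS (p := 1840) (l := 6) rfl N1840 D3794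
theorem N2425 : nd 2425 = n3796 := ndS (p := 1840) (l := 9) rfl N1840 D3796
theorem N2426 : nd 2426 = n3797 := ndS (p := 1841) (l := 9) rfl N1841 D3797
theorem N2427 : nd 2427 = n3798 := ndS (p := 1842) (l := 8) rfl N1842 D3798
theorem N2428 : nd 2428 = n3799 := ndS (p := 1843) (l := 8) rfl N1843 D3799
theorem N2429 : nd 2429 = n3800 := ndS (p := 1844) (l := 5) rfl N1844 D3800
theorem N2430 : nd 2430 = n3801 := ndS (p := 1845) (l := 4) rfl N1845 D3801
theorem N2431 : nd 2431 = n3802 := ndS (p := 1845) (l := 6) rfl N1845 D3802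
theorem N2432 : nd 2432 = n3804 := ndS (p := 1846) (l := 9) rfl N1846 D3804
theorem N2433 : nd 2433 = n3806 := ndS (p := 1847) (l := 8) rfl N1847 D3806
theorem N2434 : nd 2434 = n3807 := ndS (p := 1848) (l := 8) rfl N1848 D3807
theorem N2435 : nd 2435 = n3808 := ndS (p := 1849) (l := 5) rfl N1849 D3808
theorem N2436 : nd 2436 = n3809 := ndS (p := 1850) (l := 5) rfl N1850 D3809
theorem N2437 : nd 2437 = n3810 := ndS (p := 1851) (l := 4) rfl N1851 D3810
theorem N2438 : nd 2438 = n3811 := ndS (p := 1851) (l := 6) rfl N1851 D3811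
theorem N2439 : nd 2439 = n3812 := ndS (p := 1852) (l := 7) rfl N1852 D3812
theorem N2440 : nd 2440 = n3813 := ndS (p := 1853) (l := 4) rfl N1853 D3813
theorem N2441 : nd 2441 = n3814 := ndS (p := 1853) (l := 6) rfl N1853 D3814
theorem N2442 : nd 2442 = n3815 := ndS (p := 1854) (l := 3) rfl N1854 D3815
theorem N2443 : nd 2443 = n3816 := ndS (p := 1855) (l := 5) rfl N1855 D3816
theorem N2444 : nd 2444 = n3817 := ndS (p := 1855) (l := 7) rfl N1855 D3817
theorem N2445 : nd 2445 = n3818 := ndS (p := 1855) (l := 9) rfl N1855 D3818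
theorem N2446 : nd 2446 = n3819 := ndS (p := 1856) (l := 8) rfl N1856 D3819
theorem N2447 : nd 2447 = n3821 := ndS (p := 1857) (l := 8) rfl N1857 D3821
theorem N2448 : nd 2448 = n3822 := ndS (p := 1857) (l := 9) rfl N1857 D3822
theorem N2449 : nd 2449 = n3823 := ndS (p := 1858) (l := 9) rfl N1858 D3823
theorem N2450 : nd 2450 = n3824 := ndS (p := 1859) (l := 8) rfl N1859 D3824
theorem N2451 : nd 2451 = n3825 := ndS (p := 1860) (l := 5) rfl N1860 D3825
theorem N2452 : nd 2452 = n3829 := ndS (p := 1861) (l := 9) rfl N1861 D3829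
theorem N2453 : nd 2453 = n3830 := ndS (p := 1862) (l := 8) rfl N1862 D3830
theorem N2454 : nd 2454 = n3831 := ndS (p := 1863) (l := 8) rfl N1863 D3831
theorem N2455 : nd 2455 = n3832 := ndS (p := 1864) (l := 5) rfl N1864 D3832
theorem N2456 : nd 2456 = n3833 := ndS (p := 1865) (l := 4) rfl N1865 D3833
theorem N2457 : nd 2457 = n3834 := ndS (p := 1865) (l := 6) rfl N1865 D3834
theorem N2458 : nd 2458 = n3839 := ndS (p := 1866) (l := 8) rfl N1866 D3839
theorem N2459 : nd 2459 = n3840 := ndS (p := 1867) (l := 5) rfl N1867 D3840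
theorem N2460 : nd 2460 = n3841 := ndS (p := 1868) (l := 5) rfl N1868 D3841
theorem N2461 : nd 2461 = n3842 := ndS (p := 1869) (l := 4) rfl N1869 D3842
theorem N2462 : nd 2462 = n3843 := ndS (p := 1869) (l := 6) rfl N1869 D3843
theorem N2463 : nd 2463 = n3844 := ndS (p := 1870) (l := 6) rfl N1870 D3844
theorem N2464 : nd 2464 = n3845 := ndS (p := 1871) (l := 7) rfl N1871 D3845
theorem N2465 : nd 2465 = n3851 := ndS (p := 1872) (l := 5) rfl N1872 D3851
theorem N2466 : nd 2466 = n3852 := ndS (p := 1873) (l := 4) rfl N1873 D3852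
theorem N2467 : nd 2467 = n3853 := ndS (p := 1873) (l := 6) rfl N1873 D3853
theorem N2468 : nd 2468 = n3854 := ndS (p := 1874) (l := 4) rfl N1874 D3854
theorem N2469 : nd 2469 = n3855 := ndS (p := 1874) (l := 6) rfl N1874 D3855
theorem N2470 : nd 2470 = n3856 := ndS (p := 1875) (l := 3) rfl N1875 D3856
theorem N2471 : nd 2471 = n3857 := ndS (p := 1875) (l := 6) rfl N1875 D3857
theorem N2472 : nd 2472 = n3858 := ndS (p := 1876) (l := 7) rfl N1876 D3858
theorem N2473 : nd 2473 = n3859 := ndS (p := 1878) (l := 3) rfl N1878 D3859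
theorem N2474 : nd 2474 = n3860 := ndS (p := 1878) (l := 6) rfl N1878 D3860
theorem N2475 : nd 2475 = n3861 := ndS (p := 1880) (l := 2) rfl N1880 D3861
theorem N2476 : nd 2476 = n3869 := ndS (p := 1881) (l := 4) rfl N1881 D3869
theorem N2477 : nd 2477 = n3870 := ndS (p := 1881) (l := 6) rfl N1881 D3870
theorem N2478 : nd 2478 = n3871 := ndS (p := 1882) (l := 3) rfl N1882 D3871
theorem N2479 : nd 2479 = n3872 := ndS (p := 1882) (l := 6) rfl N1882 D3872
theorem N2480 : nd 2480 = n3877 := ndS (p := 1884) (l := 2) rfl N1884 D3877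
theorem N2481 : nd 2481 = n3878 := ndS (p := 1884) (l := 6) rfl N1884 D3878
theorem N2482 : nd 2482 = n3880 := ndS (p := 1886) (l := 2) rfl N1886 D3880
theorem N2483 : nd 2483 = n3883 := ndS (p := 1888) (l := 1) rfl N1888 D3883
theorem N2484 : nd 2484 = n3914 := ndS (p := 1889) (l := 5) rfl N1889 D3914
theorem N2485 : nd 2485 = n3915 := ndS (p := 1889) (l := 7) rfl N1889 D3915
theorem N2486 : nd 2486 = n3916 := ndS (p := 1889) (l := 9) rfl N1889 D3916
theorem N2487 : nd 2487 = n3917 := ndS (p := 1890) (l := 8) rfl N1890 D3917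
theorem N2488 : nd 2488 = n3918 := ndS (p := 1891) (l := 4) rfl N1891 D3918
theorem N2489 : nd 2489 = n3919 := ndS (p := 1891) (l := 7) rfl N1891 D3919
theorem N2490 : nd 2490 = n3920 := ndS (p := 1891) (l := 9) rfl N1891 D3920
theorem N2491 : nd 2491 = n3921 := ndS (p := 1892) (l := 9) rfl N1892 D3921
theorem N2492 : nd 2492 = n3922 := ndS (p := 1893) (l := 8) rfl N1893 D3922
theorem N2493 : nd 2493 = n3923 := ndS (p := 1894) (l := 5) rfl N1894 D3923
theorem N2494 : nd 2494 = n3924 := ndS (p := 1895) (l := 3) rfl N1895 D3924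
theorem N2495 : nd 2495 = n3925 := ndS (p := 1895) (l := 7) rfl N1895 D3925
theorem N2496 : nd 2496 = n3926 := ndS (p := 1895) (l := 9) rfl N1895 D3926
theorem N2497 : nd 2497 = n3927 := ndS (p := 1896) (l := 6) rfl N1896 D3927
theorem N2498 : nd 2498 = n3928 := ndS (p := 1896) (l := 9) rfl N1896 D3928
theorem N2499 : nd 2499 = n3929 := ndS (p := 1897) (l := 8) rfl N1897 D3929
theorem N2500 : nd 2500 = n3930 := ndS (p := 1898) (l := 8) rfl N1898 D3930
theorem N2501 : nd 2501 = n3931 := ndS (p := 1899) (l := 5) rfl N1899 D3931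
theorem N2502 : nd 2502 = n3932 := ndS (p := 1900) (l := 4) rfl N1900 D3932
theorem N2503 : nd 2503 = n3933 := ndS (p := 1900) (l := 6) rfl N1900 D3933
theorem N2504 : nd 2504 = n3934 := ndS (p := 1901) (l := 6) rfl N1901 D3934
theorem N2505 : nd 2505 = n3935 := ndS (p := 1901) (l := 9) rfl N1901 D3935
theorem N2506 : nd 2506 = n3936 := ndS (p := 1902) (l := 8) rfl N1902 D3936
theorem N2507 : nd 2507 = n3937 := ndS (p := 1903) (l := 9) rfl N1903 D3937
theorem N2508 : nd 2508 = n3938 := ndS (p := 1904) (l := 8) rfl N1904 D3938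
theorem N2509 : nd 2509 = n3939 := ndS (p := 1905) (l := 5) rfl N1905 D3939
theorem N2510 : nd 2510 = n3940 := ndS (p := 1906) (l := 5) rfl N1906 D3940
theorem N2511 : nd 2511 = n3941 := ndS (p := 1907) (l := 4) rfl N1907 D3941
theorem N2512 : nd 2512 = n3942 := ndS (p := 1907) (l := 6) rfl N1907 D3942
theorem N2513 : nd 2513 = n3943 := ndS (p := 1908) (l := 6) rfl N1908 D3943
theorem N2514 : nd 2514 = n3944 := ndS (p := 1909) (l := 7) rfl N1909 D3944
theorem N2515 : nd 2515 = n3945 := ndS (p := 1910) (l := 8) rfl N1910 D3945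
theorem N2516 : nd 2516 = n3946 := ndS (p := 1911) (l := 5) rfl N1911 D3946
theorem N2517 : nd 2517 = n3947 := ndS (p := 1912) (l := 4) rfl N1912 D3947
theorem N2518 : nd 2518 = n3948 := ndS (p := 1912) (l := 6) rfl N1912 D3948
theorem N2519 : nd 2519 = n3949 := ndS (p := 1913) (l := 4) rfl N1913 D3949
theorem N2520 : nd 2520 = n3950 := ndS (p := 1913) (l := 6) rfl N1913 D3950
theorem N2521 : nd 2521 = n3951 := ndS (p := 1914) (l := 3) rfl N1914 D3951
theorem N2522 : nd 2522 = n3952 := ndS (p := 1914) (l := 6) rfl N1914 D3952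
theorem N2523 : nd 2523 = n3953 := ndS (p := 1915) (l := 7) rfl N1915 D3953
theorem N2524 : nd 2524 = n3954 := ndS (p := 1917) (l := 3) rfl N1917 D3954
theorem N2525 : nd 2525 = n3956 := ndS (p := 1919) (l := 2) rfl N1919 D3956
theorem N2526 : nd 2526 = n3957 := ndS (p := 1920) (l := 9) rfl N1920 D3957
theorem N2527 : nd 2527 = n3958 := ndS (p := 1921) (l := 8) rfl N1921 D3958
theorem N2528 : nd 2528 = n3959 := ndS (p := 1922) (l := 5) rfl N1922 D3959
theorem N2529 : nd 2529 = n3960 := ndS (p := 1923) (l := 8) rfl N1923 D3960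
theorem N2530 : nd 2530 = n3961 := ndS (p := 1924) (l := 5) rfl N1924 D3961
theorem N2531 : nd 2531 = n3962 := ndS (p := 1925) (l := 4) rfl N1925 D3962
theorem N2532 : nd 2532 = n3963 := ndS (p := 1925) (l := 6) rfl N1925 D3963
theorem N2533 : nd 2533 = n3964 := ndS (p := 1926) (l := 5) rfl N1926 D3964
theorem N2534 : nd 2534 = n3965 := ndS (p := 1927) (l := 4) rfl N1927 D3965
theorem N2535 : nd 2535 = n3966 := ndS (p := 1927) (l := 6) rfl N1927 D3966
theorem N2536 : nd 2536 = n3967 := ndS (p := 1928) (l := 3) rfl N1928 D3967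
theorem N2537 : nd 2537 = n3968 := ndS (p := 1928) (l := 6) rfl N1928 D3968
theorem N2538 : nd 2538 = n3969 := ndS (p := 1929) (l := 7) rfl N1929 D3969
theorem N2539 : nd 2539 = n3970 := ndS (p := 1930) (l := 4) rfl N1930 D3970
theorem N2540 : nd 2540 = n3971 := ndS (p := 1930) (l := 6) rfl N1930 D3971
theorem N2541 : nd 2541 = n3972 := ndS (p := 1931) (l := 3) rfl N1931 D3972
theorem N2542 : nd 2542 = n3973 := ndS (p := 1931) (l := 6) rfl N1931 D3973
theorem N2543 : nd 2543 = n3974 := ndS (p := 1932) (l := 7) rfl N1932 D3974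
theorem N2544 : nd 2544 = n3975 := ndS (p := 1933) (l := 5) rfl N1933 D3975
theorem N2545 : nd 2545 = n3976 := ndS (p := 1933) (l := 7) rfl N1933 D3976
theorem N2546 : nd 2546 = n3977 := ndS (p := 1935) (l := 3) rfl N1935 D3977
theorem N2547 : nd 2547 = n3979 := ndS (p := 1936) (l := 7) rfl N1936 D3979
theorem N2548 : nd 2548 = n3980 := ndS (p := 1937) (l := 2) rfl N1937 D3980
theorem N2549 : nd 2549 = n3981 := ndS (p := 1937) (l := 6) rfl N1937 D3981
theorem N2550 : nd 2550 = n3982 := ndS (p := 1938) (l := 7) rfl N1938 D3982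
theorem N2551 : nd 2551 = n3998 := ndS (p := 1944) (l := 4) rfl N1944 D3998
theorem N2552 : nd 2552 = n4000 := ndS (p := 1945) (l := 3) rfl N1945 D4000
theorem N2553 : nd 2553 = n4003 := ndS (p := 1946) (l := 6) rfl N1946 D4003
theorem N2554 : nd 2554 = n4004 := ndS (p := 1947) (l := 5) rfl N1947 D4004
theorem N2555 : nd 2555 = n4006 := ndS (p := 1948) (l := 7) rfl N1948 D4006
theorem N2556 : nd 2556 = n4007 := ndS (p := 1948) (l := 8) rfl N1948 D4007
theorem N2557 : nd 2557 = n4008 := ndS (p := 1950) (l := 6) rfl N1950 D4008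
theorem N2558 : nd 2558 = n4009 := ndS (p := 1950) (l := 9) rfl N1950 D4009
theorem N2559 : nd 2559 = n4010 := ndS (p := 1951) (l := 5) rfl N1951 D4010
theorem N2560 : nd 2560 = n4011 := ndS (p := 1951) (l := 7) rfl N1951 D4011
theorem N2561 : nd 2561 = n4012 := ndS (p := 1951) (l := 9) rfl N1951 D4012
theorem N2562 : nd 2562 = n4013 := ndS (p := 1952) (l := 8) rfl N1952 D4013
theorem N2563 : nd 2563 = n4014 := ndS (p := 1953) (l := 4) rfl N1953 D4014
theorem N2564 : nd 2564 = n4015 := ndS (p := 1953) (l := 7) rfl N1953 D4015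
theorem N2565 : nd 2565 = n4016 := ndS (p := 1953) (l := 8) rfl N1953 D4016
theorem N2566 : nd 2566 = n4017 := ndS (p := 1953) (l := 9) rfl N1953 D4017
theorem N2567 : nd 2567 = n4018 := ndS (p := 1954) (l := 9) rfl N1954 D4018
theorem N2568 : nd 2568 = n4019 := ndS (p := 1955) (l := 8) rfl N1955 D4019
theorem N2569 : nd 2569 = n4020 := ndS (p := 1956) (l := 5) rfl N1956 D4020
theorem N2570 : nd 2570 = n4021 := ndS (p := 1957) (l := 9) rfl N1957 D4021
theorem N2571 : nd 2571 = n4022 := ndS (p := 1958) (l := 6) rfl N1958 D4022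
theorem N2572 : nd 2572 = n4023 := ndS (p := 1958) (l := 9) rfl N1958 D4023
theorem N2573 : nd 2573 = n4024 := ndS (p := 1959) (l := 9) rfl N1959 D4024
theorem N2574 : nd 2574 = n4025 := ndS (p := 1960) (l := 8) rfl N1960 D4025
theorem N2575 : nd 2575 = n4026 := ndS (p := 1961) (l := 8) rfl N1961 D4026
theorem N2576 : nd 2576 = n4027 := ndS (p := 1962) (l := 5) rfl N1962 D4027
theorem N2577 : nd 2577 = n4028 := ndS (p := 1963) (l := 4) rfl N1963 D4028
theorem N2578 : nd 2578 = n4029 := ndS (p := 1963) (l := 6) rfl N1963 D4029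
theorem N2579 : nd 2579 = n4030 := ndS (p := 1964) (l := 8) rfl N1964 D4030
theorem N2580 : nd 2580 = n4031 := ndS (p := 1964) (l := 9) rfl N1964 D4031
theorem N2581 : nd 2581 = n4032 := ndS (p := 1965) (l := 9) rfl N1965 D4032
theorem N2582 : nd 2582 = n4033 := ndS (p := 1966) (l := 8) rfl N1966 D4033
theorem N2583 : nd 2583 = n4034 := ndS (p := 1967) (l := 8) rfl N1967 D4034
theorem N2584 : nd 2584 = n4035 := ndS (p := 1968) (l := 5) rfl N1968 D4035
theorem N2585 : nd 2585 = n4036 := ndS (p := 1969) (l := 5) rfl N1969 D4036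
theorem N2586 : nd 2586 = n4037 := ndS (p := 1970) (l := 4) rfl N1970 D4037
theorem N2587 : nd 2587 = n4038 := ndS (p := 1970) (l := 6) rfl N1970 D4038
theorem N2588 : nd 2588 = n4039 := ndS (p := 1971) (l := 7) rfl N1971 D4039
theorem N2589 : nd 2589 = n4040 := ndS (p := 1972) (l := 4) rfl N1972 D4040
theorem N2590 : nd 2590 = n4041 := ndS (p := 1972) (l := 6) rfl N1972 D4041
theorem N2591 : nd 2591 = n4042 := ndS (p := 1973) (l := 3) rfl N1973 D4042
theorem N2592 : nd 2592 = n4043 := ndS (p := 1974) (l := 5) rfl N1974 D4043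
theorem N2593 : nd 2593 = n4044 := ndS (p := 1974) (l := 7) rfl N1974 D4044
theorem N2594 : nd 2594 = n4045 := ndS (p := 1974) (l := 9) rfl N1974 D4045
theorem N2595 : nd 2595 = n4046 := ndS (p := 1975) (l := 8) rfl N1975 D4046
theorem N2596 : nd 2596 = n4047 := ndS (p := 1976) (l := 4) rfl N1976 D4047
theorem N2597 : nd 2597 = n4048 := ndS (p := 1976) (l := 7) rfl N1976 D4048
theorem N2598 : nd 2598 = n4049 := ndS (p := 1976) (l := 8) rfl N1976 D4049
theorem N2599 : nd 2599 = n4050 := ndS (p := 1976) (l := 9) rfl N1976 D4050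
theorem N2600 : nd 2600 = n4051 := ndS (p := 1977) (l := 9) rfl N1977 D4051
theorem N2601 : nd 2601 = n4052 := ndS (p := 1978) (l := 8) rfl N1978 D4052
theorem N2602 : nd 2602 = n4053 := ndS (p := 1979) (l := 5) rfl N1979 D4053
theorem N2603 : nd 2603 = n4054 := ndS (p := 1980) (l := 7) rfl N1980 D4054
theorem N2604 : nd 2604 = n4055 := ndS (p := 1980) (l := 9) rfl N1980 D4055
theorem N2605 : nd 2605 = n4056 := ndS (p := 1981) (l := 6) rfl N1981 D4056
theorem N2606 : nd 2606 = n4057 := ndS (p := 1981) (l := 8) rfl N1981 D4057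
theorem N2607 : nd 2607 = n4058 := ndS (p := 1981) (l := 9) rfl N1981 D4058
theorem N2608 : nd 2608 = n4059 := ndS (p := 1982) (l := 9) rfl N1982 D4059
theorem N2609 : nd 2609 = n4060 := ndS (p := 1983) (l := 8) rfl N1983 D4060
theorem N2610 : nd 2610 = n4061 := ndS (p := 1984) (l := 8) rfl N1984 D4061
theorem N2611 : nd 2611 = n4062 := ndS (p := 1985) (l := 5) rfl N1985 D4062
theorem N2612 : nd 2612 = n4063 := ndS (p := 1986) (l := 4) rfl N1986 D4063
theorem N2613 : nd 2613 = n4064 := ndS (p := 1986) (l := 6) rfl N1986 D4064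
theorem N2614 : nd 2614 = n4065 := ndS (p := 1987) (l := 9) rfl N1987 D4065
theorem N2615 : nd 2615 = n4066 := ndS (p := 1988) (l := 9) rfl N1988 D4066
theorem N2616 : nd 2616 = n4067 := ndS (p := 1989) (l := 8) rfl N1989 D4067
theorem N2617 : nd 2617 = n4068 := ndS (p := 1990) (l := 9) rfl N1990 D4068
theorem N2618 : nd 2618 = n4069 := ndS (p := 1991) (l := 9) rfl N1991 D4069
theorem N2619 : nd 2619 = n4070 := ndS (p := 1992) (l := 8) rfl N1992 D4070
theorem N2620 : nd 2620 = n4071 := ndS (p := 1993) (l := 8) rfl N1993 D4071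
theorem N2621 : nd 2621 = n4072 := ndS (p := 1994) (l := 5) rfl N1994 D4072
theorem N2622 : nd 2622 = n4073 := ndS (p := 1995) (l := 5) rfl N1995 D4073
theorem N2623 : nd 2623 = n4074 := ndS (p := 1996) (l := 4) rfl N1996 D4074
theorem N2624 : nd 2624 = n4075 := ndS (p := 1996) (l := 6) rfl N1996 D4075
theorem N2625 : nd 2625 = n4076 := ndS (p := 1997) (l := 6) rfl N1997 D4076
theorem N2626 : nd 2626 = n4077 := ndS (p := 1998) (l := 7) rfl N1998 D4077
theorem N2627 : nd 2627 = n4079 := ndS (p := 1999) (l := 9) rfl N1999 D4079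
theorem N2628 : nd 2628 = n4080 := ndS (p := 2000) (l := 8) rfl N2000 D4080
theorem N2629 : nd 2629 = n4081 := ndS (p := 2001) (l := 8) rfl N2001 D4081
theorem N2630 : nd 2630 = n4082 := ndS (p := 2002) (l := 5) rfl N2002 D4082
theorem N2631 : nd 2631 = n4083 := ndS (p := 2003) (l := 5) rfl N2003 D4083
theorem N2632 : nd 2632 = n4084 := ndS (p := 2004) (l := 4) rfl N2004 D4084
theorem N2633 : nd 2633 = n4085 := ndS (p := 2004) (l := 6) rfl N2004 D4085
theorem N2634 : nd 2634 = n4086 := ndS (p := 2005) (l := 4) rfl N2005 D4086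
theorem N2635 : nd 2635 = n4087 := ndS (p := 2005) (l := 6) rfl N2005 D4087
theorem N2636 : nd 2636 = n4088 := ndS (p := 2006) (l := 3) rfl N2006 D4088
theorem N2637 : nd 2637 = n4089 := ndS (p := 2006) (l := 6) rfl N2006 D4089
theorem N2638 : nd 2638 = n4090 := ndS (p := 2007) (l := 7) rfl N2007 D4090
theorem N2639 : nd 2639 = n4091 := ndS (p := 2009) (l := 3) rfl N2009 D4091
theorem N2640 : nd 2640 = n4092 := ndS (p := 2009) (l := 6) rfl N2009 D4092
theorem N2641 : nd 2641 = n4093 := ndS (p := 2011) (l := 2) rfl N2011 D4093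
theorem N2642 : nd 2642 = n4094 := ndS (p := 2012) (l := 7) rfl N2012 D4094
theorem N2643 : nd 2643 = n4095 := ndS (p := 2012) (l := 8) rfl N2012 D4095
theorem N2644 : nd 2644 = n4096 := ndS (p := 2012) (l := 9) rfl N2012 D4096
theorem N2645 : nd 2645 = n4097 := ndS (p := 2013) (l := 9) rfl N2013 D4097
theorem N2646 : nd 2646 = n4098 := ndS (p := 2014) (l := 8) rfl N2014 D4098
theorem N2647 : nd 2647 = n4099 := ndS (p := 2015) (l := 5) rfl N2015 D4099
theorem N2648 : nd 2648 = n4101 := ndS (p := 2016) (l := 8) rfl N2016 D4101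
theorem N2649 : nd 2649 = n4102 := ndS (p := 2016) (l := 9) rfl N2016 D4102
theorem N2650 : nd 2650 = n4103 := ndS (p := 2017) (l := 9) rfl N2017 D4103
theorem N2651 : nd 2651 = n4104 := ndS (p := 2018) (l := 8) rfl N2018 D4104
theorem N2652 : nd 2652 = n4105 := ndS (p := 2019) (l := 8) rfl N2019 D4105
theorem N2653 : nd 2653 = n4106 := ndS (p := 2020) (l := 5) rfl N2020 D4106
theorem N2654 : nd 2654 = n4107 := ndS (p := 2021) (l := 4) rfl N2021 D4107
theorem N2655 : nd 2655 = n4108 := ndS (p := 2021) (l := 6) rfl N2021 D4108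
theorem N2656 : nd 2656 = n4111 := ndS (p := 2022) (l := 9) rfl N2022 D4111
theorem N2657 : nd 2657 = n4112 := ndS (p := 2023) (l := 8) rfl N2023 D4112
theorem N2658 : nd 2658 = n4113 := ndS (p := 2024) (l := 8) rfl N2024 D4113
theorem N2659 : nd 2659 = n4114 := ndS (p := 2025) (l := 5) rfl N2025 D4114
theorem N2660 : nd 2660 = n4115 := ndS (p := 2026) (l := 5) rfl N2026 D4115
theorem N2661 : nd 2661 = n4116 := ndS (p := 2027) (l := 4) rfl N2027 D4116
theorem N2662 : nd 2662 = n4117 := ndS (p := 2027) (l := 6) rfl N2027 D4117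
theorem N2663 : nd 2663 = n4118 := ndS (p := 2028) (l := 3) rfl N2028 D4118
theorem N2664 : nd 2664 = n4119 := ndS (p := 2028) (l := 6) rfl N2028 D4119
theorem N2665 : nd 2665 = n4120 := ndS (p := 2029) (l := 7) rfl N2029 D4120
theorem N2666 : nd 2666 = n4124 := ndS (p := 2030) (l := 8) rfl N2030 D4124
theorem N2667 : nd 2667 = n4125 := ndS (p := 2031) (l := 5) rfl N2031 D4125
theorem N2668 : nd 2668 = n4126 := ndS (p := 2032) (l := 5) rfl N2032 D4126
theorem N2669 : nd 2669 = n4127 := ndS (p := 2033) (l := 4) rfl N2033 D4127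
theorem N2670 : nd 2670 = n4128 := ndS (p := 2033) (l := 6) rfl N2033 D4128
theorem N2671 : nd 2671 = n4129 := ndS (p := 2034) (l := 4) rfl N2034 D4129
theorem N2672 : nd 2672 = n4130 := ndS (p := 2034) (l := 6) rfl N2034 D4130
theorem N2673 : nd 2673 = n4131 := ndS (p := 2035) (l := 3) rfl N2035 D4131
theorem N2674 : nd 2674 = n4132 := ndS (p := 2035) (l := 6) rfl N2035 D4132
theorem N2675 : nd 2675 = n4133 := ndS (p := 2036) (l := 7) rfl N2036 D4133
theorem N2676 : nd 2676 = n4134 := ndS (p := 2037) (l := 5) rfl N2037 D4134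
theorem N2677 : nd 2677 = n4135 := ndS (p := 2037) (l := 7) rfl N2037 D4135
theorem N2678 : nd 2678 = n4140 := ndS (p := 2039) (l := 5) rfl N2039 D4140
theorem N2679 : nd 2679 = n4141 := ndS (p := 2040) (l := 4) rfl N2040 D4141
theorem N2680 : nd 2680 = n4142 := ndS (p := 2040) (l := 6) rfl N2040 D4142
theorem N2681 : nd 2681 = n4143 := ndS (p := 2041) (l := 4) rfl N2041 D4143
theorem N2682 : nd 2682 = n4144 := ndS (p := 2041) (l := 6) rfl N2041 D4144
theorem N2683 : nd 2683 = n4145 := ndS (p := 2042) (l := 3) rfl N2042 D4145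
theorem N2684 : nd 2684 = n4146 := ndS (p := 2042) (l := 6) rfl N2042 D4146
theorem N2685 : nd 2685 = n4147 := ndS (p := 2043) (l := 7) rfl N2043 D4147
theorem N2686 : nd 2686 = n4148 := ndS (p := 2044) (l := 3) rfl N2044 D4148
theorem N2687 : nd 2687 = n4149 := ndS (p := 2044) (l := 6) rfl N2044 D4149
theorem N2688 : nd 2688 = n4150 := ndS (p := 2045) (l := 7) rfl N2045 D4150
theorem N2689 : nd 2689 = n4151 := ndS (p := 2046) (l := 2) rfl N2046 D4151
theorem N2690 : nd 2690 = n4152 := ndS (p := 2046) (l := 6) rfl N2046 D4152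
theorem N2691 : nd 2691 = n4153 := ndS (p := 2047) (l := 7) rfl N2047 D4153
theorem N2692 : nd 2692 = n4164 := ndS (p := 2052) (l := 4) rfl N2052 D4164
theorem N2693 : nd 2693 = n4166 := ndS (p := 2053) (l := 3) rfl N2053 D4166
theorem N2694 : nd 2694 = n4169 := ndS (p := 2054) (l := 3) rfl N2054 D4169
theorem N2695 : nd 2695 = n4170 := ndS (p := 2054) (l := 6) rfl N2054 D4170
theorem N2696 : nd 2696 = n4172 := ndS (p := 2056) (l := 2) rfl N2056 D4172
theorem N2697 : nd 2697 = n4173 := ndS (p := 2056) (l := 6) rfl N2056 D4173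
theorem N2698 : nd 2698 = n4174 := ndS (p := 2057) (l := 5) rfl N2057 D4174
theorem N2699 : nd 2699 = n4181 := ndS (p := 2059) (l := 6) rfl N2059 D4181
theorem N2700 : nd 2700 = n4189 := ndS (p := 2061) (l := 9) rfl N2061 D4189
theorem N2701 : nd 2701 = n4190 := ndS (p := 2062) (l := 9) rfl N2062 D4190
theorem N2702 : nd 2702 = n4191 := ndS (p := 2063) (l := 8) rfl N2063 D4191
theorem N2703 : nd 2703 = n4192 := ndS (p := 2064) (l := 5) rfl N2064 D4192
theorem N2704 : nd 2704 = n4193 := ndS (p := 2065) (l := 9) rfl N2065 D4193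
theorem N2705 : nd 2705 = n4194 := ndS (p := 2066) (l := 9) rfl N2066 D4194
theorem N2706 : nd 2706 = n4195 := ndS (p := 2067) (l := 8) rfl N2067 D4195
theorem N2707 : nd 2707 = n4196 := ndS (p := 2068) (l := 8) rfl N2068 D4196
theorem N2708 : nd 2708 = n4197 := ndS (p := 2069) (l := 5) rfl N2069 D4197
theorem N2709 : nd 2709 = n4198 := ndS (p := 2070) (l := 4) rfl N2070 D4198
theorem N2710 : nd 2710 = n4200 := ndS (p := 2071) (l := 9) rfl N2071 D4200
theorem N2711 : nd 2711 = n4201 := ndS (p := 2072) (l := 9) rfl N2072 D4201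
theorem N2712 : nd 2712 = n4202 := ndS (p := 2073) (l := 8) rfl N2073 D4202
theorem N2713 : nd 2713 = n4203 := ndS (p := 2074) (l := 9) rfl N2074 D4203
theorem N2714 : nd 2714 = n4204 := ndS (p := 2075) (l := 8) rfl N2075 D4204
theorem N2715 : nd 2715 = n4205 := ndS (p := 2076) (l := 5) rfl N2076 D4205
theorem N2716 : nd 2716 = n4206 := ndS (p := 2077) (l := 5) rfl N2077 D4206
theorem N2717 : nd 2717 = n4207 := ndS (p := 2078) (l := 4) rfl N2078 D4207
theorem N2718 : nd 2718 = n4208 := ndS (p := 2078) (l := 6) rfl N2078 D4208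
theorem N2719 : nd 2719 = n4212 := ndS (p := 2081) (l := 9) rfl N2081 D4212
theorem N2720 : nd 2720 = n4213 := ndS (p := 2082) (l := 8) rfl N2082 D4213
theorem N2721 : nd 2721 = n4214 := ndS (p := 2083) (l := 5) rfl N2083 D4214
theorem N2722 : nd 2722 = n4215 := ndS (p := 2084) (l := 8) rfl N2084 D4215
theorem N2723 : nd 2723 = n4216 := ndS (p := 2085) (l := 5) rfl N2085 D4216
theorem N2724 : nd 2724 = n4217 := ndS (p := 2086) (l := 4) rfl N2086 D4217
theorem N2725 : nd 2725 = n4218 := ndS (p := 2086) (l := 6) rfl N2086 D4218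
theorem N2726 : nd 2726 = n4219 := ndS (p := 2087) (l := 4) rfl N2087 D4219
theorem N2727 : nd 2727 = n4220 := ndS (p := 2087) (l := 6) rfl N2087 D4220
theorem N2728 : nd 2728 = n4221 := ndS (p := 2088) (l := 3) rfl N2088 D4221
theorem N2729 : nd 2729 = n4222 := ndS (p := 2088) (l := 6) rfl N2088 D4222
theorem N2730 : nd 2730 = n4223 := ndS (p := 2089) (l := 7) rfl N2089 D4223
theorem N2731 : nd 2731 = n4224 := ndS (p := 2090) (l := 5) rfl N2090 D4224
theorem N2732 : nd 2732 = n4226 := ndS (p := 2092) (l := 5) rfl N2092 D4226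
theorem N2733 : nd 2733 = n4227 := ndS (p := 2093) (l := 4) rfl N2093 D4227
theorem N2734 : nd 2734 = n4228 := ndS (p := 2093) (l := 6) rfl N2093 D4228
theorem N2735 : nd 2735 = n4229 := ndS (p := 2094) (l := 3) rfl N2094 D4229
theorem N2736 : nd 2736 = n4230 := ndS (p := 2094) (l := 6) rfl N2094 D4230
theorem N2737 : nd 2737 = n4231 := ndS (p := 2095) (l := 7) rfl N2095 D4231
theorem N2738 : nd 2738 = n4234 := ndS (p := 2097) (l := 7) rfl N2097 D4234
theorem N2739 : nd 2739 = n4236 := ndS (p := 2098) (l := 6) rfl N2098 D4236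
theorem N2740 : nd 2740 = n4237 := ndS (p := 2099) (l := 7) rfl N2099 D4237
theorem N2741 : nd 2741 = n4242 := ndS (p := 2101) (l := 8) rfl N2101 D4242
theorem N2742 : nd 2742 = n4243 := ndS (p := 2102) (l := 5) rfl N2102 D4243
theorem N2743 : nd 2743 = n4244 := ndS (p := 2103) (l := 4) rfl N2103 D4244
theorem N2744 : nd 2744 = n4246 := ndS (p := 2104) (l := 5) rfl N2104 D4246
theorem N2745 : nd 2745 = n4247 := ndS (p := 2105) (l := 4) rfl N2105 D4247
theorem N2746 : nd 2746 = n4252 := ndS (p := 2107) (l := 4) rfl N2107 D4252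
theorem N2747 : nd 2747 = n4253 := ndS (p := 2107) (l := 6) rfl N2107 D4253
theorem N2748 : nd 2748 = n4254 := ndS (p := 2108) (l := 3) rfl N2108 D4254
theorem N2749 : nd 2749 = n4255 := ndS (p := 2108) (l := 6) rfl N2108 D4255
theorem N2750 : nd 2750 = n4262 := ndS (p := 2111) (l := 7) rfl N2111 D4262
theorem N2751 : nd 2751 = n4263 := ndS (p := 2112) (l := 2) rfl N2112 D4263
theorem N2752 : nd 2752 = n4264 := ndS (p := 2112) (l := 6) rfl N2112 D4264
theorem N2753 : nd 2753 = n4265 := ndS (p := 2113) (l := 5) rfl N2113 D4265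
theorem N2754 : nd 2754 = n4268 := ndS (p := 2115) (l := 8) rfl N2115 D4268
theorem N2755 : nd 2755 = n4299 := ndS (p := 2120) (l := 9) rfl N2120 D4299
theorem N2756 : nd 2756 = n4300 := ndS (p := 2121) (l := 8) rfl N2121 D4300
theorem N2757 : nd 2757 = n4301 := ndS (p := 2122) (l := 8) rfl N2122 D4301
theorem N2758 : nd 2758 = n4302 := ndS (p := 2123) (l := 5) rfl N2123 D4302
theorem N2759 : nd 2759 = n4305 := ndS (p := 2125) (l := 8) rfl N2125 D4305
theorem N2760 : nd 2760 = n4306 := ndS (p := 2126) (l := 8) rfl N2126 D4306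
theorem N2761 : nd 2761 = n4307 := ndS (p := 2127) (l := 5) rfl N2127 D4307
theorem N2762 : nd 2762 = n4308 := ndS (p := 2128) (l := 5) rfl N2128 D4308
theorem N2763 : nd 2763 = n4314 := ndS (p := 2130) (l := 8) rfl N2130 D4314
theorem N2764 : nd 2764 = n4315 := ndS (p := 2131) (l := 8) rfl N2131 D4315
theorem N2765 : nd 2765 = n4316 := ndS (p := 2132) (l := 5) rfl N2132 D4316
theorem N2766 : nd 2766 = n4317 := ndS (p := 2133) (l := 8) rfl N2133 D4317
theorem N2767 : nd 2767 = n4318 := ndS (p := 2134) (l := 5) rfl N2134 D4318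
theorem N2768 : nd 2768 = n4329 := ndS (p := 2137) (l := 8) rfl N2137 D4329
theorem N2769 : nd 2769 = n4330 := ndS (p := 2138) (l := 5) rfl N2138 D4330
theorem N2770 : nd 2770 = n4331 := ndS (p := 2139) (l := 4) rfl N2139 D4331
theorem N2771 : nd 2771 = n4332 := ndS (p := 2139) (l := 6) rfl N2139 D4332
theorem N2772 : nd 2772 = n4333 := ndS (p := 2140) (l := 5) rfl N2140 D4333
theorem N2773 : nd 2773 = n4334 := ndS (p := 2141) (l := 4) rfl N2141 D4334
theorem N2774 : nd 2774 = n4335 := ndS (p := 2141) (l := 6) rfl N2141 D4335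
theorem N2775 : nd 2775 = n4355 := ndS (p := 2148) (l := 5) rfl N2148 D4355
theorem N2776 : nd 2776 = n4369 := ndS (p := 2149) (l := 5) rfl N2149 D4369
theorem N2777 : nd 2777 = n4471 := ndS (p := 2153) (l := 8) rfl N2153 D4471
theorem N2778 : nd 2778 = n4472 := ndS (p := 2154) (l := 9) rfl N2154 D4472
theorem N2779 : nd 2779 = n4473 := ndS (p := 2155) (l := 9) rfl N2155 D4473
theorem N2780 : nd 2780 = n4474 := ndS (p := 2156) (l := 8) rfl N2156 D4474
theorem N2781 : nd 2781 = n4475 := ndS (p := 2157) (l := 8) rfl N2157 D4475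
theorem N2782 : nd 2782 = n4476 := ndS (p := 2159) (l := 1) rfl N2159 D4476
theorem N2783 : nd 2783 = n4477 := ndS (p := 2159) (l := 9) rfl N2159 D4477
theorem N2784 : nd 2784 = n4478 := ndS (p := 2160) (l := 8) rfl N2160 D4478
theorem N2785 : nd 2785 = n4479 := ndS (p := 2161) (l := 5) rfl N2161 D4479
theorem N2786 : nd 2786 = n4480 := ndS (p := 2162) (l := 0) rfl N2162 D4480
theorem N2787 : nd 2787 = n4481 := ndS (p := 2162) (l := 9) rfl N2162 D4481
theorem N2788 : nd 2788 = n4482 := ndS (p := 2163) (l := 8) rfl N2163 D4482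
theorem N2789 : nd 2789 = n4483 := ndS (p := 2164) (l := 5) rfl N2164 D4483
theorem N2790 : nd 2790 = n4484 := ndS (p := 2165) (l := 6) rfl N2165 D4484
theorem N2791 : nd 2791 = n4485 := ndS (p := 2166) (l := 2) rfl N2166 D4485
theorem N2792 : nd 2792 = n4486 := ndS (p := 2166) (l := 9) rfl N2166 D4486
theorem N2793 : nd 2793 = n4487 := ndS (p := 2167) (l := 8) rfl N2167 D4487
theorem N2794 : nd 2794 = n4488 := ndS (p := 2168) (l := 8) rfl N2168 D4488
theorem N2795 : nd 2795 = n4489 := ndS (p := 2170) (l := 1) rfl N2170 D4489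
theorem N2796 : nd 2796 = n4490 := ndS (p := 2170) (l := 6) rfl N2170 D4490
theorem N2797 : nd 2797 = n4491 := ndS (p := 2170) (l := 9) rfl N2170 D4491
theorem N2798 : nd 2798 = n4492 := ndS (p := 2171) (l := 5) rfl N2171 D4492
theorem N2799 : nd 2799 = n4493 := ndS (p := 2171) (l := 9) rfl N2171 D4493
theorem N2800 : nd 2800 = n4494 := ndS (p := 2172) (l := 8) rfl N2172 D4494
theorem N2801 : nd 2801 = n4495 := ndS (p := 2173) (l := 7) rfl N2173 D4495
theorem N2802 : nd 2802 = n4496 := ndS (p := 2173) (l := 9) rfl N2173 D4496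
theorem N2803 : nd 2803 = n4497 := ndS (p := 2174) (l := 9) rfl N2174 D4497
theorem N2804 : nd 2804 = n4498 := ndS (p := 2175) (l := 8) rfl N2175 D4498
theorem N2805 : nd 2805 = n4499 := ndS (p := 2176) (l := 5) rfl N2176 D4499
theorem N2806 : nd 2806 = n4500 := ndS (p := 2177) (l := 8) rfl N2177 D4500
theorem N2807 : nd 2807 = n4501 := ndS (p := 2178) (l := 5) rfl N2178 D4501
theorem N2808 : nd 2808 = n4502 := ndS (p := 2179) (l := 0) rfl N2179 D4502
theorem N2809 : nd 2809 = n4503 := ndS (p := 2179) (l := 6) rfl N2179 D4503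
theorem N2810 : nd 2810 = n4504 := ndS (p := 2179) (l := 9) rfl N2179 D4504
theorem N2811 : nd 2811 = n4505 := ndS (p := 2180) (l := 5) rfl N2180 D4505
theorem N2812 : nd 2812 = n4506 := ndS (p := 2180) (l := 9) rfl N2180 D4506
theorem N2813 : nd 2813 = n4507 := ndS (p := 2181) (l := 8) rfl N2181 D4507
theorem N2814 : nd 2814 = n4508 := ndS (p := 2182) (l := 4) rfl N2182 D4508
theorem N2815 : nd 2815 = n4509 := ndS (p := 2182) (l := 9) rfl N2182 D4509
theorem N2816 : nd 2816 = n4510 := ndS (p := 2183) (l := 8) rfl N2183 D4510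
theorem N2817 : nd 2817 = n4511 := ndS (p := 2184) (l := 5) rfl N2184 D4511
theorem N2818 : nd 2818 = n4512 := ndS (p := 2185) (l := 8) rfl N2185 D4512
theorem N2819 : nd 2819 = n4513 := ndS (p := 2186) (l := 5) rfl N2186 D4513
theorem N2820 : nd 2820 = n4514 := ndS (p := 2187) (l := 6) rfl N2187 D4514
theorem N2821 : nd 2821 = n4515 := ndS (p := 2188) (l := 4) rfl N2188 D4515
theorem N2822 : nd 2822 = n4516 := ndS (p := 2189) (l := 6) rfl N2189 D4516
theorem N2823 : nd 2823 = n4517 := ndS (p := 2189) (l := 9) rfl N2189 D4517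
theorem N2824 : nd 2824 = n4518 := ndS (p := 2190) (l := 9) rfl N2190 D4518
theorem N2825 : nd 2825 = n4519 := ndS (p := 2191) (l := 8) rfl N2191 D4519
theorem N2826 : nd 2826 = n4520 := ndS (p := 2192) (l := 8) rfl N2192 D4520
theorem N2827 : nd 2827 = n4521 := ndS (p := 2193) (l := 5) rfl N2193 D4521
theorem N2828 : nd 2828 = n4522 := ndS (p := 2194) (l := 5) rfl N2194 D4522
theorem N2829 : nd 2829 = n4523 := ndS (p := 2195) (l := 4) rfl N2195 D4523
theorem N2830 : nd 2830 = n4524 := ndS (p := 2195) (l := 6) rfl N2195 D4524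
theorem N2831 : nd 2831 = n4525 := ndS (p := 2196) (l := 4) rfl N2196 D4525
theorem N2832 : nd 2832 = n4526 := ndS (p := 2196) (l := 6) rfl N2196 D4526
theorem N2833 : nd 2833 = n4527 := ndS (p := 2197) (l := 7) rfl N2197 D4527
theorem N2834 : nd 2834 = n4528 := ndS (p := 2198) (l := 3) rfl N2198 D4528
theorem N2835 : nd 2835 = n4529 := ndS (p := 2199) (l := 2) rfl N2199 D4529
theorem N2836 : nd 2836 = n4530 := ndS (p := 2200) (l := 0) rfl N2200 D4530
theorem N2837 : nd 2837 = n4531 := ndS (p := 2200) (l := 6) rfl N2200 D4531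
theorem N2838 : nd 2838 = n4532 := ndS (p := 2200) (l := 9) rfl N2200 D4532
theorem N2839 : nd 2839 = n4533 := ndS (p := 2201) (l := 5) rfl N2201 D4533
theorem N2840 : nd 2840 = n4534 := ndS (p := 2201) (l := 7) rfl N2201 D4534
theorem N2841 : nd 2841 = n4535 := ndS (p := 2201) (l := 9) rfl N2201 D4535
theorem N2842 : nd 2842 = n4536 := ndS (p := 2202) (l := 8) rfl N2202 D4536
theorem N2843 : nd 2843 = n4537 := ndS (p := 2203) (l := 4) rfl N2203 D4537
theorem N2844 : nd 2844 = n4538 := ndS (p := 2203) (l := 7) rfl N2203 D4538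
theorem N2845 : nd 2845 = n4539 := ndS (p := 2203) (l := 8) rfl N2203 D4539
theorem N2846 : nd 2846 = n4540 := ndS (p := 2203) (l := 9) rfl N2203 D4540
theorem N2847 : nd 2847 = n4541 := ndS (p := 2204) (l := 9) rfl N2204 D4541
theorem N2848 : nd 2848 = n4542 := ndS (p := 2205) (l := 8) rfl N2205 D4542
theorem N2849 : nd 2849 = n4543 := ndS (p := 2206) (l := 5) rfl N2206 D4543
theorem N2850 : nd 2850 = n4544 := ndS (p := 2207) (l := 6) rfl N2207 D4544
theorem N2851 : nd 2851 = n4545 := ndS (p := 2207) (l := 8) rfl N2207 D4545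
theorem N2852 : nd 2852 = n4546 := ndS (p := 2207) (l := 9) rfl N2207 D4546
theorem N2853 : nd 2853 = n4547 := ndS (p := 2208) (l := 9) rfl N2208 D4547
theorem N2854 : nd 2854 = n4548 := ndS (p := 2209) (l := 8) rfl N2209 D4548
theorem N2855 : nd 2855 = n4549 := ndS (p := 2210) (l := 8) rfl N2210 D4549
theorem N2856 : nd 2856 = n4550 := ndS (p := 2211) (l := 5) rfl N2211 D4550
theorem N2857 : nd 2857 = n4551 := ndS (p := 2212) (l := 6) rfl N2212 D4551
theorem N2858 : nd 2858 = n4552 := ndS (p := 2213) (l := 5) rfl N2213 D4552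
theorem N2859 : nd 2859 = n4553 := ndS (p := 2214) (l := 4) rfl N2214 D4553
theorem N2860 : nd 2860 = n4554 := ndS (p := 2215) (l := 6) rfl N2215 D4554
theorem N2861 : nd 2861 = n4555 := ndS (p := 2215) (l := 9) rfl N2215 D4555
theorem N2862 : nd 2862 = n4556 := ndS (p := 2216) (l := 5) rfl N2216 D4556
theorem N2863 : nd 2863 = n4557 := ndS (p := 2216) (l := 7) rfl N2216 D4557
theorem N2864 : nd 2864 = n4558 := ndS (p := 2216) (l := 9) rfl N2216 D4558
theorem N2865 : nd 2865 = n4559 := ndS (p := 2217) (l := 8) rfl N2217 D4559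
theorem N2866 : nd 2866 = n4560 := ndS (p := 2218) (l := 4) rfl N2218 D4560
theorem N2867 : nd 2867 = n4561 := ndS (p := 2218) (l := 7) rfl N2218 D4561
theorem N2868 : nd 2868 = n4562 := ndS (p := 2218) (l := 8) rfl N2218 D4562
theorem N2869 : nd 2869 = n4563 := ndS (p := 2218) (l := 9) rfl N2218 D4563
theorem N2870 : nd 2870 = n4564 := ndS (p := 2219) (l := 9) rfl N2219 D4564
theorem N2871 : nd 2871 = n4565 := ndS (p := 2220) (l := 8) rfl N2220 D4565
theorem N2872 : nd 2872 = n4566 := ndS (p := 2221) (l := 5) rfl N2221 D4566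
theorem N2873 : nd 2873 = n4567 := ndS (p := 2222) (l := 7) rfl N2222 D4567
theorem N2874 : nd 2874 = n4568 := ndS (p := 2222) (l := 8) rfl N2222 D4568
theorem N2875 : nd 2875 = n4569 := ndS (p := 2222) (l := 9) rfl N2222 D4569
theorem N2876 : nd 2876 = n4570 := ndS (p := 2223) (l := 6) rfl N2223 D4570
theorem N2877 : nd 2877 = n4571 := ndS (p := 2223) (l := 9) rfl N2223 D4571
theorem N2878 : nd 2878 = n4572 := ndS (p := 2224) (l := 9) rfl N2224 D4572
theorem N2879 : nd 2879 = n4573 := ndS (p := 2225) (l := 8) rfl N2225 D4573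
theorem N2880 : nd 2880 = n4574 := ndS (p := 2226) (l := 8) rfl N2226 D4574
theorem N2881 : nd 2881 = n4575 := ndS (p := 2227) (l := 5) rfl N2227 D4575
theorem N2882 : nd 2882 = n4576 := ndS (p := 2228) (l := 4) rfl N2228 D4576
theorem N2883 : nd 2883 = n4577 := ndS (p := 2228) (l := 6) rfl N2228 D4577
theorem N2884 : nd 2884 = n4578 := ndS (p := 2229) (l := 9) rfl N2229 D4578
theorem N2885 : nd 2885 = n4579 := ndS (p := 2230) (l := 8) rfl N2230 D4579
theorem N2886 : nd 2886 = n4580 := ndS (p := 2231) (l := 8) rfl N2231 D4580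
theorem N2887 : nd 2887 = n4581 := ndS (p := 2232) (l := 5) rfl N2232 D4581
theorem N2888 : nd 2888 = n4582 := ndS (p := 2233) (l := 5) rfl N2233 D4582
theorem N2889 : nd 2889 = n4583 := ndS (p := 2234) (l := 4) rfl N2234 D4583
theorem N2890 : nd 2890 = n4584 := ndS (p := 2234) (l := 6) rfl N2234 D4584
theorem N2891 : nd 2891 = n4585 := ndS (p := 2235) (l := 7) rfl N2235 D4585
theorem N2892 : nd 2892 = n4586 := ndS (p := 2236) (l := 4) rfl N2236 D4586
theorem N2893 : nd 2893 = n4587 := ndS (p := 2236) (l := 6) rfl N2236 D4587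
theorem N2894 : nd 2894 = n4588 := ndS (p := 2237) (l := 3) rfl N2237 D4588
theorem N2895 : nd 2895 = n4589 := ndS (p := 2238) (l := 5) rfl N2238 D4589
theorem N2896 : nd 2896 = n4590 := ndS (p := 2238) (l := 7) rfl N2238 D4590
theorem N2897 : nd 2897 = n4591 := ndS (p := 2238) (l := 9) rfl N2238 D4591
theorem N2898 : nd 2898 = n4592 := ndS (p := 2239) (l := 8) rfl N2239 D4592
theorem N2899 : nd 2899 = n4593 := ndS (p := 2240) (l := 8) rfl N2240 D4593
theorem N2900 : nd 2900 = n4594 := ndS (p := 2240) (l := 9) rfl N2240 D4594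
theorem N2901 : nd 2901 = n4595 := ndS (p := 2241) (l := 9) rfl N2241 D4595
theorem N2902 : nd 2902 = n4596 := ndS (p := 2242) (l := 8) rfl N2242 D4596
theorem N2903 : nd 2903 = n4597 := ndS (p := 2243) (l := 5) rfl N2243 D4597
theorem N2904 : nd 2904 = n4598 := ndS (p := 2244) (l := 9) rfl N2244 D4598
theorem N2905 : nd 2905 = n4599 := ndS (p := 2245) (l := 8) rfl N2245 D4599
theorem N2906 : nd 2906 = n4600 := ndS (p := 2246) (l := 8) rfl N2246 D4600
theorem N2907 : nd 2907 = n4601 := ndS (p := 2247) (l := 5) rfl N2247 D4601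
theorem N2908 : nd 2908 = n4602 := ndS (p := 2248) (l := 4) rfl N2248 D4602
theorem N2909 : nd 2909 = n4603 := ndS (p := 2248) (l := 6) rfl N2248 D4603
theorem N2910 : nd 2910 = n4604 := ndS (p := 2249) (l := 8) rfl N2249 D4604
theorem N2911 : nd 2911 = n4605 := ndS (p := 2250) (l := 5) rfl N2250 D4605
theorem N2912 : nd 2912 = n4606 := ndS (p := 2251) (l := 5) rfl N2251 D4606
theorem N2913 : nd 2913 = n4607 := ndS (p := 2252) (l := 4) rfl N2252 D4607
theorem N2914 : nd 2914 = n4608 := ndS (p := 2252) (l := 6) rfl N2252 D4608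
theorem N2915 : nd 2915 = n4609 := ndS (p := 2253) (l := 6) rfl N2253 D4609
theorem N2916 : nd 2916 = n4610 := ndS (p := 2254) (l := 7) rfl N2254 D4610
theorem N2917 : nd 2917 = n4611 := ndS (p := 2255) (l := 5) rfl N2255 D4611
theorem N2918 : nd 2918 = n4612 := ndS (p := 2256) (l := 4) rfl N2256 D4612
theorem N2919 : nd 2919 = n4613 := ndS (p := 2256) (l := 6) rfl N2256 D4613
theorem N2920 : nd 2920 = n4614 := ndS (p := 2257) (l := 4) rfl N2257 D4614
theorem N2921 : nd 2921 = n4615 := ndS (p := 2257) (l := 6) rfl N2257 D4615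
theorem N2922 : nd 2922 = n4616 := ndS (p := 2258) (l := 3) rfl N2258 D4616
theorem N2923 : nd 2923 = n4617 := ndS (p := 2258) (l := 6) rfl N2258 D4617
theorem N2924 : nd 2924 = n4618 := ndS (p := 2259) (l := 7) rfl N2259 D4618
theorem N2925 : nd 2925 = n4619 := ndS (p := 2261) (l := 3) rfl N2261 D4619
theorem N2926 : nd 2926 = n4620 := ndS (p := 2261) (l := 6) rfl N2261 D4620
theorem N2927 : nd 2927 = n4621 := ndS (p := 2263) (l := 2) rfl N2263 D4621
theorem N2928 : nd 2928 = n4622 := ndS (p := 2264) (l := 4) rfl N2264 D4622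
theorem N2929 : nd 2929 = n4623 := ndS (p := 2264) (l := 6) rfl N2264 D4623
theorem N2930 : nd 2930 = n4624 := ndS (p := 2265) (l := 3) rfl N2265 D4624
theorem N2931 : nd 2931 = n4625 := ndS (p := 2265) (l := 6) rfl N2265 D4625
theorem N2932 : nd 2932 = n4626 := ndS (p := 2267) (l := 2) rfl N2267 D4626
theorem N2933 : nd 2933 = n4627 := ndS (p := 2267) (l := 6) rfl N2267 D4627
theorem N2934 : nd 2934 = n4628 := ndS (p := 2269) (l := 2) rfl N2269 D4628
theorem N2935 : nd 2935 = n4630 := ndS (p := 2271) (l := 1) rfl N2271 D4630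
theorem N2936 : nd 2936 = n4631 := ndS (p := 2272) (l := 5) rfl N2272 D4631
theorem N2937 : nd 2937 = n4632 := ndS (p := 2272) (l := 7) rfl N2272 D4632
theorem N2938 : nd 2938 = n4633 := ndS (p := 2272) (l := 9) rfl N2272 D4633
theorem N2939 : nd 2939 = n4634 := ndS (p := 2273) (l := 8) rfl N2273 D4634
theorem N2940 : nd 2940 = n4635 := ndS (p := 2274) (l := 4) rfl N2274 D4635
theorem N2941 : nd 2941 = n4636 := ndS (p := 2274) (l := 7) rfl N2274 D4636
theorem N2942 : nd 2942 = n4637 := ndS (p := 2274) (l := 9) rfl N2274 D4637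
theorem N2943 : nd 2943 = n4638 := ndS (p := 2275) (l := 9) rfl N2275 D4638
theorem N2944 : nd 2944 = n4639 := ndS (p := 2276) (l := 8) rfl N2276 D4639
theorem N2945 : nd 2945 = n4640 := ndS (p := 2277) (l := 5) rfl N2277 D4640
theorem N2946 : nd 2946 = n4641 := ndS (p := 2278) (l := 3) rfl N2278 D4641
theorem N2947 : nd 2947 = n4642 := ndS (p := 2278) (l := 7) rfl N2278 D4642
theorem N2948 : nd 2948 = n4643 := ndS (p := 2278) (l := 9) rfl N2278 D4643
theorem N2949 : nd 2949 = n4644 := ndS (p := 2279) (l := 6) rfl N2279 D4644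
theorem N2950 : nd 2950 = n4645 := ndS (p := 2279) (l := 9) rfl N2279 D4645
theorem N2951 : nd 2951 = n4646 := ndS (p := 2280) (l := 8) rfl N2280 D4646
theorem N2952 : nd 2952 = n4647 := ndS (p := 2281) (l := 8) rfl N2281 D4647
theorem N2953 : nd 2953 = n4648 := ndS (p := 2282) (l := 5) rfl N2282 D4648
theorem N2954 : nd 2954 = n4649 := ndS (p := 2283) (l := 4) rfl N2283 D4649
theorem N2955 : nd 2955 = n4650 := ndS (p := 2283) (l := 6) rfl N2283 D4650
theorem N2956 : nd 2956 = n4651 := ndS (p := 2284) (l := 6) rfl N2284 D4651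
theorem N2957 : nd 2957 = n4652 := ndS (p := 2284) (l := 9) rfl N2284 D4652
theorem N2958 : nd 2958 = n4653 := ndS (p := 2285) (l := 8) rfl N2285 D4653
theorem N2959 : nd 2959 = n4654 := ndS (p := 2286) (l := 9) rfl N2286 D4654
theorem N2960 : nd 2960 = n4655 := ndS (p := 2287) (l := 8) rfl N2287 D4655
theorem N2961 : nd 2961 = n4656 := ndS (p := 2288) (l := 5) rfl N2288 D4656
theorem N2962 : nd 2962 = n4657 := ndS (p := 2289) (l := 5) rfl N2289 D4657
theorem N2963 : nd 2963 = n4658 := ndS (p := 2290) (l := 4) rfl N2290 D4658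
theorem N2964 : nd 2964 = n4659 := ndS (p := 2290) (l := 6) rfl N2290 D4659
theorem N2965 : nd 2965 = n4660 := ndS (p := 2291) (l := 6) rfl N2291 D4660
theorem N2966 : nd 2966 = n4661 := ndS (p := 2292) (l := 7) rfl N2292 D4661
theorem N2967 : nd 2967 = n4662 := ndS (p := 2293) (l := 8) rfl N2293 D4662
theorem N2968 : nd 2968 = n4663 := ndS (p := 2294) (l := 5) rfl N2294 D4663
theorem N2969 : nd 2969 = n4664 := ndS (p := 2295) (l := 4) rfl N2295 D4664
theorem N2970 : nd 2970 = n4665 := ndS (p := 2295) (l := 6) rfl N2295 D4665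
theorem N2971 : nd 2971 = n4666 := ndS (p := 2296) (l := 4) rfl N2296 D4666
theorem N2972 : nd 2972 = n4667 := ndS (p := 2296) (l := 6) rfl N2296 D4667
theorem N2973 : nd 2973 = n4668 := ndS (p := 2297) (l := 3) rfl N2297 D4668
theorem N2974 : nd 2974 = n4669 := ndS (p := 2297) (l := 6) rfl N2297 D4669
theorem N2975 : nd 2975 = n4670 := ndS (p := 2298) (l := 7) rfl N2298 D4670
theorem N2976 : nd 2976 = n4671 := ndS (p := 2300) (l := 3) rfl N2300 D4671
theorem N2977 : nd 2977 = n4673 := ndS (p := 2302) (l := 2) rfl N2302 D4673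
theorem N2978 : nd 2978 = n4674 := ndS (p := 2303) (l := 9) rfl N2303 D4674
theorem N2979 : nd 2979 = n4675 := ndS (p := 2304) (l := 8) rfl N2304 D4675
theorem N2980 : nd 2980 = n4676 := ndS (p := 2305) (l := 5) rfl N2305 D4676
theorem N2981 : nd 2981 = n4677 := ndS (p := 2306) (l := 8) rfl N2306 D4677
theorem N2982 : nd 2982 = n4678 := ndS (p := 2307) (l := 5) rfl N2307 D4678
theorem N2983 : nd 2983 = n4679 := ndS (p := 2308) (l := 4) rfl N2308 D4679
theorem N2984 : nd 2984 = n4680 := ndS (p := 2308) (l := 6) rfl N2308 D4680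
theorem N2985 : nd 2985 = n4681 := ndS (p := 2309) (l := 5) rfl N2309 D4681
theorem N2986 : nd 2986 = n4682 := ndS (p := 2310) (l := 4) rfl N2310 D4682
theorem N2987 : nd 2987 = n4683 := ndS (p := 2310) (l := 6) rfl N2310 D4683
theorem N2988 : nd 2988 = n4684 := ndS (p := 2311) (l := 3) rfl N2311 D4684
theorem N2989 : nd 2989 = n4685 := ndS (p := 2311) (l := 6) rfl N2311 D4685
theorem N2990 : nd 2990 = n4686 := ndS (p := 2312) (l := 7) rfl N2312 D4686
theorem N2991 : nd 2991 = n4687 := ndS (p := 2313) (l := 4) rfl N2313 D4687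
theorem N2992 : nd 2992 = n4688 := ndS (p := 2313) (l := 6) rfl N2313 D4688
theorem N2993 : nd 2993 = n4689 := ndS (p := 2314) (l := 3) rfl N2314 D4689
theorem N2994 : nd 2994 = n4690 := ndS (p := 2314) (l := 6) rfl N2314 D4690
theorem N2995 : nd 2995 = n4691 := ndS (p := 2315) (l := 7) rfl N2315 D4691
theorem N2996 : nd 2996 = n4692 := ndS (p := 2316) (l := 5) rfl N2316 D4692
theorem N2997 : nd 2997 = n4693 := ndS (p := 2316) (l := 7) rfl N2316 D4693
theorem N2998 : nd 2998 = n4694 := ndS (p := 2318) (l := 3) rfl N2318 D4694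
theorem N2999 : nd 2999 = n4696 := ndS (p := 2319) (l := 7) rfl N2319 D4696
theorem N3000 : nd 3000 = n4697 := ndS (p := 2320) (l := 2) rfl N2320 D4697
theorem N3001 : nd 3001 = n4698 := ndS (p := 2320) (l := 6) rfl N2320 D4698
theorem N3002 : nd 3002 = n4699 := ndS (p := 2321) (l := 7) rfl N2321 D4699
theorem N3003 : nd 3003 = n4700 := ndS (p := 2323) (l := 2) rfl N2323 D4700
theorem N3004 : nd 3004 = n4703 := ndS (p := 2324) (l := 1) rfl N2324 D4703
theorem N3005 : nd 3005 = n4704 := ndS (p := 2325) (l := 1) rfl N2325 D4704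
theorem N3006 : nd 3006 = n4708 := ndS (p := 2326) (l := 0) rfl N2326 D4708
theorem N3007 : nd 3007 = n4710 := ndS (p := 2327) (l := 4) rfl N2327 D4710
theorem N3008 : nd 3008 = n4712 := ndS (p := 2328) (l := 3) rfl N2328 D4712
theorem N3009 : nd 3009 = n4713 := ndS (p := 2328) (l := 6) rfl N2328 D4713
theorem N3010 : nd 3010 = n4715 := ndS (p := 2330) (l := 6) rfl N2330 D4715
theorem N3011 : nd 3011 = n4716 := ndS (p := 2331) (l := 5) rfl N2331 D4716
theorem N3012 : nd 3012 = n4717 := ndS (p := 2331) (l := 7) rfl N2331 D4717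
theorem N3013 : nd 3013 = n4718 := ndS (p := 2333) (l := 7) rfl N2333 D4718
theorem N3014 : nd 3014 = n4719 := ndS (p := 2333) (l := 8) rfl N2333 D4719
theorem N3015 : nd 3015 = n4720 := ndS (p := 2335) (l := 1) rfl N2335 D4720
theorem N3016 : nd 3016 = n4721 := ndS (p := 2335) (l := 6) rfl N2335 D4721
theorem N3017 : nd 3017 = n4722 := ndS (p := 2335) (l := 9) rfl N2335 D4722
theorem N3018 : nd 3018 = n4723 := ndS (p := 2336) (l := 9) rfl N2336 D4723
theorem N3019 : nd 3019 = n4724 := ndS (p := 2337) (l := 8) rfl N2337 D4724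
theorem N3020 : nd 3020 = n4725 := ndS (p := 2338) (l := 8) rfl N2338 D4725
theorem N3021 : nd 3021 = n4726 := ndS (p := 2339) (l := 5) rfl N2339 D4726
theorem N3022 : nd 3022 = n4727 := ndS (p := 2340) (l := 8) rfl N2340 D4727
theorem N3023 : nd 3023 = n4728 := ndS (p := 2341) (l := 5) rfl N2341 D4728
theorem N3024 : nd 3024 = n4729 := ndS (p := 2342) (l := 0) rfl N2342 D4729
theorem N3025 : nd 3025 = n4730 := ndS (p := 2342) (l := 6) rfl N2342 D4730
theorem N3026 : nd 3026 = n4731 := ndS (p := 2342) (l := 9) rfl N2342 D4731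
theorem N3027 : nd 3027 = n4732 := ndS (p := 2343) (l := 5) rfl N2343 D4732
theorem N3028 : nd 3028 = n4733 := ndS (p := 2343) (l := 7) rfl N2343 D4733
theorem N3029 : nd 3029 = n4734 := ndS (p := 2343) (l := 9) rfl N2343 D4734
theorem N3030 : nd 3030 = n4735 := ndS (p := 2344) (l := 8) rfl N2344 D4735
theorem N3031 : nd 3031 = n4736 := ndS (p := 2345) (l := 4) rfl N2345 D4736
theorem N3032 : nd 3032 = n4737 := ndS (p := 2345) (l := 7) rfl N2345 D4737
theorem N3033 : nd 3033 = n4738 := ndS (p := 2345) (l := 9) rfl N2345 D4738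
theorem N3034 : nd 3034 = n4739 := ndS (p := 2346) (l := 9) rfl N2346 D4739
theorem N3035 : nd 3035 = n4740 := ndS (p := 2347) (l := 8) rfl N2347 D4740
theorem N3036 : nd 3036 = n4741 := ndS (p := 2348) (l := 5) rfl N2348 D4741
theorem N3037 : nd 3037 = n4742 := ndS (p := 2349) (l := 9) rfl N2349 D4742
theorem N3038 : nd 3038 = n4743 := ndS (p := 2350) (l := 8) rfl N2350 D4743
theorem N3039 : nd 3039 = n4744 := ndS (p := 2351) (l := 8) rfl N2351 D4744
theorem N3040 : nd 3040 = n4745 := ndS (p := 2352) (l := 5) rfl N2352 D4745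
theorem N3041 : nd 3041 = n4746 := ndS (p := 2353) (l := 6) rfl N2353 D4746
theorem N3042 : nd 3042 = n4747 := ndS (p := 2354) (l := 5) rfl N2354 D4747
theorem N3043 : nd 3043 = n4748 := ndS (p := 2355) (l := 4) rfl N2355 D4748
theorem N3044 : nd 3044 = n4749 := ndS (p := 2356) (l := 6) rfl N2356 D4749
theorem N3045 : nd 3045 = n4750 := ndS (p := 2356) (l := 9) rfl N2356 D4750
theorem N3046 : nd 3046 = n4751 := ndS (p := 2357) (l := 5) rfl N2357 D4751
theorem N3047 : nd 3047 = n4752 := ndS (p := 2357) (l := 9) rfl N2357 D4752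
theorem N3048 : nd 3048 = n4753 := ndS (p := 2358) (l := 8) rfl N2358 D4753
theorem N3049 : nd 3049 = n4754 := ndS (p := 2359) (l := 4) rfl N2359 D4754
theorem N3050 : nd 3050 = n4755 := ndS (p := 2359) (l := 9) rfl N2359 D4755
theorem N3051 : nd 3051 = n4756 := ndS (p := 2360) (l := 8) rfl N2360 D4756
theorem N3052 : nd 3052 = n4757 := ndS (p := 2361) (l := 5) rfl N2361 D4757
theorem N3053 : nd 3053 = n4758 := ndS (p := 2362) (l := 9) rfl N2362 D4758
theorem N3054 : nd 3054 = n4759 := ndS (p := 2363) (l := 8) rfl N2363 D4759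
theorem N3055 : nd 3055 = n4760 := ndS (p := 2364) (l := 5) rfl N2364 D4760
theorem N3056 : nd 3056 = n4761 := ndS (p := 2365) (l := 4) rfl N2365 D4761
theorem N3057 : nd 3057 = n4762 := ndS (p := 2365) (l := 6) rfl N2365 D4762
theorem N3058 : nd 3058 = n4763 := ndS (p := 2366) (l := 5) rfl N2366 D4763
theorem N3059 : nd 3059 = n4764 := ndS (p := 2367) (l := 4) rfl N2367 D4764
theorem N3060 : nd 3060 = n4765 := ndS (p := 2367) (l := 6) rfl N2367 D4765
theorem N3061 : nd 3061 = n4766 := ndS (p := 2368) (l := 7) rfl N2368 D4766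
theorem N3062 : nd 3062 = n4767 := ndS (p := 2369) (l := 3) rfl N2369 D4767
theorem N3063 : nd 3063 = n4768 := ndS (p := 2370) (l := 9) rfl N2370 D4768
theorem N3064 : nd 3064 = n4769 := ndS (p := 2371) (l := 8) rfl N2371 D4769
theorem N3065 : nd 3065 = n4770 := ndS (p := 2372) (l := 8) rfl N2372 D4770
theorem N3066 : nd 3066 = n4771 := ndS (p := 2373) (l := 5) rfl N2373 D4771
theorem N3067 : nd 3067 = n4772 := ndS (p := 2374) (l := 5) rfl N2374 D4772
theorem N3068 : nd 3068 = n4773 := ndS (p := 2375) (l := 4) rfl N2375 D4773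
theorem N3069 : nd 3069 = n4774 := ndS (p := 2375) (l := 6) rfl N2375 D4774
theorem N3070 : nd 3070 = n4775 := ndS (p := 2376) (l := 4) rfl N2376 D4775
theorem N3071 : nd 3071 = n4776 := ndS (p := 2376) (l := 6) rfl N2376 D4776
theorem N3072 : nd 3072 = n4777 := ndS (p := 2377) (l := 6) rfl N2377 D4777
theorem N3073 : nd 3073 = n4778 := ndS (p := 2378) (l := 7) rfl N2378 D4778
theorem N3074 : nd 3074 = n4779 := ndS (p := 2379) (l := 3) rfl N2379 D4779
theorem N3075 : nd 3075 = n4780 := ndS (p := 2379) (l := 6) rfl N2379 D4780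
theorem N3076 : nd 3076 = n4781 := ndS (p := 2380) (l := 7) rfl N2380 D4781
theorem N3077 : nd 3077 = n4782 := ndS (p := 2382) (l := 2) rfl N2382 D4782
theorem N3078 : nd 3078 = n4783 := ndS (p := 2383) (l := 1) rfl N2383 D4783
theorem N3079 : nd 3079 = n4784 := ndS (p := 2384) (l := 6) rfl N2384 D4784
theorem N3080 : nd 3080 = n4785 := ndS (p := 2384) (l := 9) rfl N2384 D4785
theorem N3081 : nd 3081 = n4786 := ndS (p := 2385) (l := 5) rfl N2385 D4786
theorem N3082 : nd 3082 = n4787 := ndS (p := 2385) (l := 7) rfl N2385 D4787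
theorem N3083 : nd 3083 = n4788 := ndS (p := 2385) (l := 9) rfl N2385 D4788
theorem N3084 : nd 3084 = n4789 := ndS (p := 2386) (l := 8) rfl N2386 D4789
theorem N3085 : nd 3085 = n4790 := ndS (p := 2387) (l := 4) rfl N2387 D4790
theorem N3086 : nd 3086 = n4791 := ndS (p := 2387) (l := 7) rfl N2387 D4791
theorem N3087 : nd 3087 = n4792 := ndS (p := 2387) (l := 8) rfl N2387 D4792
theorem N3088 : nd 3088 = n4793 := ndS (p := 2387) (l := 9) rfl N2387 D4793
theorem N3089 : nd 3089 = n4794 := ndS (p := 2388) (l := 9) rfl N2388 D4794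
theorem N3090 : nd 3090 = n4795 := ndS (p := 2389) (l := 8) rfl N2389 D4795
theorem N3091 : nd 3091 = n4796 := ndS (p := 2390) (l := 5) rfl N2390 D4796
theorem N3092 : nd 3092 = n4797 := ndS (p := 2391) (l := 7) rfl N2391 D4797
theorem N3093 : nd 3093 = n4798 := ndS (p := 2391) (l := 8) rfl N2391 D4798
theorem N3094 : nd 3094 = n4799 := ndS (p := 2391) (l := 9) rfl N2391 D4799
theorem N3095 : nd 3095 = n4800 := ndS (p := 2392) (l := 6) rfl N2392 D4800
theorem N3096 : nd 3096 = n4801 := ndS (p := 2392) (l := 8) rfl N2392 D4801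
theorem N3097 : nd 3097 = n4802 := ndS (p := 2392) (l := 9) rfl N2392 D4802
theorem N3098 : nd 3098 = n4803 := ndS (p := 2393) (l := 9) rfl N2393 D4803
theorem N3099 : nd 3099 = n4804 := ndS (p := 2394) (l := 8) rfl N2394 D4804
theorem N3100 : nd 3100 = n4805 := ndS (p := 2395) (l := 8) rfl N2395 D4805
theorem N3101 : nd 3101 = n4806 := ndS (p := 2396) (l := 5) rfl N2396 D4806
theorem N3102 : nd 3102 = n4807 := ndS (p := 2397) (l := 4) rfl N2397 D4807
theorem N3103 : nd 3103 = n4808 := ndS (p := 2397) (l := 6) rfl N2397 D4808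
theorem N3104 : nd 3104 = n4809 := ndS (p := 2398) (l := 9) rfl N2398 D4809
theorem N3105 : nd 3105 = n4810 := ndS (p := 2399) (l := 9) rfl N2399 D4810
theorem N3106 : nd 3106 = n4811 := ndS (p := 2400) (l := 8) rfl N2400 D4811
theorem N3107 : nd 3107 = n4812 := ndS (p := 2401) (l := 8) rfl N2401 D4812
theorem N3108 : nd 3108 = n4813 := ndS (p := 2402) (l := 5) rfl N2402 D4813
theorem N3109 : nd 3109 = n4814 := ndS (p := 2403) (l := 5) rfl N2403 D4814
theorem N3110 : nd 3110 = n4815 := ndS (p := 2404) (l := 4) rfl N2404 D4815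
theorem N3111 : nd 3111 = n4816 := ndS (p := 2404) (l := 6) rfl N2404 D4816
theorem N3112 : nd 3112 = n4817 := ndS (p := 2405) (l := 7) rfl N2405 D4817
theorem N3113 : nd 3113 = n4818 := ndS (p := 2406) (l := 4) rfl N2406 D4818
theorem N3114 : nd 3114 = n4819 := ndS (p := 2406) (l := 6) rfl N2406 D4819
theorem N3115 : nd 3115 = n4820 := ndS (p := 2407) (l := 3) rfl N2407 D4820
theorem N3116 : nd 3116 = n4821 := ndS (p := 2408) (l := 5) rfl N2408 D4821
theorem N3117 : nd 3117 = n4822 := ndS (p := 2408) (l := 7) rfl N2408 D4822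
theorem N3118 : nd 3118 = n4823 := ndS (p := 2408) (l := 9) rfl N2408 D4823
theorem N3119 : nd 3119 = n4824 := ndS (p := 2409) (l := 8) rfl N2409 D4824
theorem N3120 : nd 3120 = n4825 := ndS (p := 2410) (l := 4) rfl N2410 D4825
theorem N3121 : nd 3121 = n4826 := ndS (p := 2410) (l := 7) rfl N2410 D4826
theorem N3122 : nd 3122 = n4827 := ndS (p := 2410) (l := 8) rfl N2410 D4827
theorem N3123 : nd 3123 = n4828 := ndS (p := 2410) (l := 9) rfl N2410 D4828
theorem N3124 : nd 3124 = n4829 := ndS (p := 2411) (l := 9) rfl N2411 D4829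
theorem N3125 : nd 3125 = n4830 := ndS (p := 2412) (l := 8) rfl N2412 D4830
theorem N3126 : nd 3126 = n4831 := ndS (p := 2413) (l := 5) rfl N2413 D4831
theorem N3127 : nd 3127 = n4832 := ndS (p := 2414) (l := 3) rfl N2414 D4832
theorem N3128 : nd 3128 = n4833 := ndS (p := 2414) (l := 7) rfl N2414 D4833
theorem N3129 : nd 3129 = n4834 := ndS (p := 2414) (l := 8) rfl N2414 D4834
theorem N3130 : nd 3130 = n4835 := ndS (p := 2414) (l := 9) rfl N2414 D4835
theorem N3131 : nd 3131 = n4836 := ndS (p := 2415) (l := 6) rfl N2415 D4836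
theorem N3132 : nd 3132 = n4837 := ndS (p := 2415) (l := 9) rfl N2415 D4837
theorem N3133 : nd 3133 = n4838 := ndS (p := 2416) (l := 9) rfl N2416 D4838
theorem N3134 : nd 3134 = n4839 := ndS (p := 2417) (l := 8) rfl N2417 D4839
theorem N3135 : nd 3135 = n4840 := ndS (p := 2418) (l := 8) rfl N2418 D4840
theorem N3136 : nd 3136 = n4841 := ndS (p := 2419) (l := 5) rfl N2419 D4841
theorem N3137 : nd 3137 = n4842 := ndS (p := 2420) (l := 4) rfl N2420 D4842
theorem N3138 : nd 3138 = n4843 := ndS (p := 2420) (l := 6) rfl N2420 D4843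
theorem N3139 : nd 3139 = n4844 := ndS (p := 2421) (l := 6) rfl N2421 D4844
theorem N3140 : nd 3140 = n4845 := ndS (p := 2421) (l := 9) rfl N2421 D4845
theorem N3141 : nd 3141 = n4846 := ndS (p := 2422) (l := 9) rfl N2422 D4846
theorem N3142 : nd 3142 = n4847 := ndS (p := 2423) (l := 8) rfl N2423 D4847
theorem N3143 : nd 3143 = n4848 := ndS (p := 2424) (l := 9) rfl N2424 D4848
theorem N3144 : nd 3144 = n4849 := ndS (p := 2425) (l := 8) rfl N2425 D4849
theorem N3145 : nd 3145 = n4850 := ndS (p := 2426) (l := 8) rfl N2426 D4850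
theorem N3146 : nd 3146 = n4851 := ndS (p := 2427) (l := 5) rfl N2427 D4851
theorem N3147 : nd 3147 = n4852 := ndS (p := 2428) (l := 5) rfl N2428 D4852
theorem N3148 : nd 3148 = n4853 := ndS (p := 2429) (l := 4) rfl N2429 D4853
theorem N3149 : nd 3149 = n4854 := ndS (p := 2429) (l := 6) rfl N2429 D4854
theorem N3150 : nd 3150 = n4855 := ndS (p := 2430) (l := 6) rfl N2430 D4855
theorem N3151 : nd 3151 = n4856 := ndS (p := 2431) (l := 7) rfl N2431 D4856
theorem N3152 : nd 3152 = n4857 := ndS (p := 2432) (l := 8) rfl N2432 D4857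
theorem N3153 : nd 3153 = n4858 := ndS (p := 2433) (l := 5) rfl N2433 D4858
theorem N3154 : nd 3154 = n4859 := ndS (p := 2434) (l := 5) rfl N2434 D4859
theorem N3155 : nd 3155 = n4860 := ndS (p := 2435) (l := 4) rfl N2435 D4860
theorem N3156 : nd 3156 = n4861 := ndS (p := 2435) (l := 6) rfl N2435 D4861
theorem N3157 : nd 3157 = n4862 := ndS (p := 2436) (l := 4) rfl N2436 D4862
theorem N3158 : nd 3158 = n4863 := ndS (p := 2436) (l := 6) rfl N2436 D4863
theorem N3159 : nd 3159 = n4864 := ndS (p := 2437) (l := 3) rfl N2437 D4864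
theorem N3160 : nd 3160 = n4865 := ndS (p := 2437) (l := 6) rfl N2437 D4865
theorem N3161 : nd 3161 = n4866 := ndS (p := 2438) (l := 7) rfl N2438 D4866
theorem N3162 : nd 3162 = n4867 := ndS (p := 2440) (l := 3) rfl N2440 D4867
theorem N3163 : nd 3163 = n4868 := ndS (p := 2440) (l := 6) rfl N2440 D4868
theorem N3164 : nd 3164 = n4869 := ndS (p := 2442) (l := 2) rfl N2442 D4869
theorem N3165 : nd 3165 = n4870 := ndS (p := 2443) (l := 8) rfl N2443 D4870
theorem N3166 : nd 3166 = n4871 := ndS (p := 2443) (l := 9) rfl N2443 D4871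
theorem N3167 : nd 3167 = n4872 := ndS (p := 2444) (l := 9) rfl N2444 D4872
theorem N3168 : nd 3168 = n4873 := ndS (p := 2445) (l := 8) rfl N2445 D4873
theorem N3169 : nd 3169 = n4874 := ndS (p := 2446) (l := 5) rfl N2446 D4874
theorem N3170 : nd 3170 = n4875 := ndS (p := 2447) (l := 9) rfl N2447 D4875
theorem N3171 : nd 3171 = n4876 := ndS (p := 2448) (l := 8) rfl N2448 D4876
theorem N3172 : nd 3172 = n4877 := ndS (p := 2449) (l := 8) rfl N2449 D4877
theorem N3173 : nd 3173 = n4878 := ndS (p := 2450) (l := 5) rfl N2450 D4878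
theorem N3174 : nd 3174 = n4879 := ndS (p := 2451) (l := 4) rfl N2451 D4879
theorem N3175 : nd 3175 = n4880 := ndS (p := 2451) (l := 6) rfl N2451 D4880
theorem N3176 : nd 3176 = n4881 := ndS (p := 2452) (l := 8) rfl N2452 D4881
theorem N3177 : nd 3177 = n4882 := ndS (p := 2453) (l := 5) rfl N2453 D4882
theorem N3178 : nd 3178 = n4883 := ndS (p := 2454) (l := 5) rfl N2454 D4883
theorem N3179 : nd 3179 = n4884 := ndS (p := 2455) (l := 4) rfl N2455 D4884
theorem N3180 : nd 3180 = n4885 := ndS (p := 2455) (l := 6) rfl N2455 D4885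
theorem N3181 : nd 3181 = n4886 := ndS (p := 2456) (l := 3) rfl N2456 D4886
theorem N3182 : nd 3182 = n4887 := ndS (p := 2456) (l := 6) rfl N2456 D4887
theorem N3183 : nd 3183 = n4888 := ndS (p := 2457) (l := 7) rfl N2457 D4888
theorem N3184 : nd 3184 = n4889 := ndS (p := 2458) (l := 5) rfl N2458 D4889
theorem N3185 : nd 3185 = n4890 := ndS (p := 2459) (l := 4) rfl N2459 D4890
theorem N3186 : nd 3186 = n4891 := ndS (p := 2459) (l := 6) rfl N2459 D4891
theorem N3187 : nd 3187 = n4892 := ndS (p := 2460) (l := 4) rfl N2460 D4892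
theorem N3188 : nd 3188 = n4893 := ndS (p := 2460) (l := 6) rfl N2460 D4893
theorem N3189 : nd 3189 = n4894 := ndS (p := 2461) (l := 3) rfl N2461 D4894
theorem N3190 : nd 3190 = n4895 := ndS (p := 2461) (l := 6) rfl N2461 D4895
theorem N3191 : nd 3191 = n4896 := ndS (p := 2462) (l := 7) rfl N2462 D4896
theorem N3192 : nd 3192 = n4897 := ndS (p := 2463) (l := 5) rfl N2463 D4897
theorem N3193 : nd 3193 = n4898 := ndS (p := 2463) (l := 7) rfl N2463 D4898
theorem N3194 : nd 3194 = n4899 := ndS (p := 2465) (l := 4) rfl N2465 D4899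
theorem N3195 : nd 3195 = n4900 := ndS (p := 2465) (l := 6) rfl N2465 D4900
theorem N3196 : nd 3196 = n4901 := ndS (p := 2466) (l := 3) rfl N2466 D4901
theorem N3197 : nd 3197 = n4902 := ndS (p := 2466) (l := 6) rfl N2466 D4902
theorem N3198 : nd 3198 = n4903 := ndS (p := 2467) (l := 7) rfl N2467 D4903
theorem N3199 : nd 3199 = n4904 := ndS (p := 2468) (l := 3) rfl N2468 D4904
theorem N3200 : nd 3200 = n4905 := ndS (p := 2468) (l := 6) rfl N2468 D4905
theorem N3201 : nd 3201 = n4906 := ndS (p := 2469) (l := 7) rfl N2469 D4906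
theorem N3202 : nd 3202 = n4907 := ndS (p := 2470) (l := 2) rfl N2470 D4907
theorem N3203 : nd 3203 = n4908 := ndS (p := 2470) (l := 6) rfl N2470 D4908
theorem N3204 : nd 3204 = n4909 := ndS (p := 2471) (l := 7) rfl N2471 D4909
theorem N3205 : nd 3205 = n4910 := ndS (p := 2473) (l := 2) rfl N2473 D4910
theorem N3206 : nd 3206 = n4912 := ndS (p := 2474) (l := 5) rfl N2474 D4912
theorem N3207 : nd 3207 = n4913 := ndS (p := 2475) (l := 1) rfl N2475 D4913
theorem N3208 : nd 3208 = n4914 := ndS (p := 2476) (l := 3) rfl N2476 D4914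
theorem N3209 : nd 3209 = n4915 := ndS (p := 2476) (l := 6) rfl N2476 D4915
theorem N3210 : nd 3210 = n4916 := ndS (p := 2478) (l := 2) rfl N2478 D4916
theorem N3211 : nd 3211 = n4917 := ndS (p := 2478) (l := 6) rfl N2478 D4917
theorem N3212 : nd 3212 = n4918 := ndS (p := 2479) (l := 5) rfl N2479 D4918
theorem N3213 : nd 3213 = n4919 := ndS (p := 2480) (l := 1) rfl N2480 D4919
theorem N3214 : nd 3214 = n4920 := ndS (p := 2480) (l := 6) rfl N2480 D4920
theorem N3215 : nd 3215 = n4924 := ndS (p := 2484) (l := 9) rfl N2484 D4924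
theorem N3216 : nd 3216 = n4925 := ndS (p := 2485) (l := 9) rfl N2485 D4925
theorem N3217 : nd 3217 = n4926 := ndS (p := 2486) (l := 8) rfl N2486 D4926
theorem N3218 : nd 3218 = n4927 := ndS (p := 2487) (l := 5) rfl N2487 D4927
theorem N3219 : nd 3219 = n4928 := ndS (p := 2488) (l := 9) rfl N2488 D4928
theorem N3220 : nd 3220 = n4929 := ndS (p := 2489) (l := 9) rfl N2489 D4929
theorem N3221 : nd 3221 = n4930 := ndS (p := 2490) (l := 8) rfl N2490 D4930
theorem N3222 : nd 3222 = n4931 := ndS (p := 2491) (l := 8) rfl N2491 D4931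
theorem N3223 : nd 3223 = n4932 := ndS (p := 2492) (l := 5) rfl N2492 D4932
theorem N3224 : nd 3224 = n4933 := ndS (p := 2493) (l := 4) rfl N2493 D4933
theorem N3225 : nd 3225 = n4934 := ndS (p := 2493) (l := 6) rfl N2493 D4934
theorem N3226 : nd 3226 = n4935 := ndS (p := 2494) (l := 9) rfl N2494 D4935
theorem N3227 : nd 3227 = n4936 := ndS (p := 2495) (l := 9) rfl N2495 D4936
theorem N3228 : nd 3228 = n4937 := ndS (p := 2496) (l := 8) rfl N2496 D4937
theorem N3229 : nd 3229 = n4938 := ndS (p := 2497) (l := 9) rfl N2497 D4938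
theorem N3230 : nd 3230 = n4939 := ndS (p := 2498) (l := 8) rfl N2498 D4939
theorem N3231 : nd 3231 = n4940 := ndS (p := 2499) (l := 5) rfl N2499 D4940
theorem N3232 : nd 3232 = n4941 := ndS (p := 2500) (l := 5) rfl N2500 D4941
theorem N3233 : nd 3233 = n4942 := ndS (p := 2501) (l := 4) rfl N2501 D4942
theorem N3234 : nd 3234 = n4943 := ndS (p := 2501) (l := 6) rfl N2501 D4943
theorem N3235 : nd 3235 = n4944 := ndS (p := 2502) (l := 3) rfl N2502 D4944
theorem N3236 : nd 3236 = n4945 := ndS (p := 2502) (l := 6) rfl N2502 D4945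
theorem N3237 : nd 3237 = n4946 := ndS (p := 2503) (l := 7) rfl N2503 D4946
theorem N3238 : nd 3238 = n4947 := ndS (p := 2504) (l := 9) rfl N2504 D4947
theorem N3239 : nd 3239 = n4948 := ndS (p := 2505) (l := 8) rfl N2505 D4948
theorem N3240 : nd 3240 = n4949 := ndS (p := 2506) (l := 5) rfl N2506 D4949
theorem N3241 : nd 3241 = n4950 := ndS (p := 2507) (l := 8) rfl N2507 D4950
theorem N3242 : nd 3242 = n4951 := ndS (p := 2508) (l := 5) rfl N2508 D4951
theorem N3243 : nd 3243 = n4952 := ndS (p := 2509) (l := 4) rfl N2509 D4952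
theorem N3244 : nd 3244 = n4953 := ndS (p := 2509) (l := 6) rfl N2509 D4953
theorem N3245 : nd 3245 = n4954 := ndS (p := 2510) (l := 4) rfl N2510 D4954
theorem N3246 : nd 3246 = n4955 := ndS (p := 2510) (l := 6) rfl N2510 D4955
theorem N3247 : nd 3247 = n4956 := ndS (p := 2511) (l := 3) rfl N2511 D4956
theorem N3248 : nd 3248 = n4957 := ndS (p := 2511) (l := 6) rfl N2511 D4957
theorem N3249 : nd 3249 = n4958 := ndS (p := 2512) (l := 7) rfl N2512 D4958
theorem N3250 : nd 3250 = n4959 := ndS (p := 2513) (l := 5) rfl N2513 D4959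
theorem N3251 : nd 3251 = n4960 := ndS (p := 2513) (l := 7) rfl N2513 D4960
theorem N3252 : nd 3252 = n4961 := ndS (p := 2515) (l := 5) rfl N2515 D4961
theorem N3253 : nd 3253 = n4962 := ndS (p := 2516) (l := 4) rfl N2516 D4962
theorem N3254 : nd 3254 = n4963 := ndS (p := 2516) (l := 6) rfl N2516 D4963
theorem N3255 : nd 3255 = n4964 := ndS (p := 2517) (l := 3) rfl N2517 D4964
theorem N3256 : nd 3256 = n4965 := ndS (p := 2517) (l := 6) rfl N2517 D4965
theorem N3257 : nd 3257 = n4966 := ndS (p := 2518) (l := 7) rfl N2518 D4966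
theorem N3258 : nd 3258 = n4967 := ndS (p := 2519) (l := 3) rfl N2519 D4967
theorem N3259 : nd 3259 = n4969 := ndS (p := 2520) (l := 7) rfl N2520 D4969
theorem N3260 : nd 3260 = n4970 := ndS (p := 2521) (l := 2) rfl N2521 D4970
theorem N3261 : nd 3261 = n4971 := ndS (p := 2521) (l := 6) rfl N2521 D4971
theorem N3262 : nd 3262 = n4972 := ndS (p := 2522) (l := 7) rfl N2522 D4972
theorem N3263 : nd 3263 = n4977 := ndS (p := 2526) (l := 8) rfl N2526 D4977
theorem N3264 : nd 3264 = n4978 := ndS (p := 2527) (l := 5) rfl N2527 D4978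
theorem N3265 : nd 3265 = n4979 := ndS (p := 2528) (l := 4) rfl N2528 D4979
theorem N3266 : nd 3266 = n4981 := ndS (p := 2529) (l := 5) rfl N2529 D4981
theorem N3267 : nd 3267 = n4982 := ndS (p := 2530) (l := 4) rfl N2530 D4982
theorem N3268 : nd 3268 = n4983 := ndS (p := 2530) (l := 6) rfl N2530 D4983
theorem N3269 : nd 3269 = n4984 := ndS (p := 2531) (l := 3) rfl N2531 D4984
theorem N3270 : nd 3270 = n4987 := ndS (p := 2533) (l := 4) rfl N2533 D4987
theorem N3271 : nd 3271 = n4988 := ndS (p := 2533) (l := 6) rfl N2533 D4988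
theorem N3272 : nd 3272 = n4989 := ndS (p := 2534) (l := 3) rfl N2534 D4989
theorem N3273 : nd 3273 = n4990 := ndS (p := 2534) (l := 6) rfl N2534 D4990
theorem N3274 : nd 3274 = n4991 := ndS (p := 2535) (l := 7) rfl N2535 D4991
theorem N3275 : nd 3275 = n4992 := ndS (p := 2536) (l := 6) rfl N2536 D4992
theorem N3276 : nd 3276 = n4993 := ndS (p := 2537) (l := 5) rfl N2537 D4993
theorem N3277 : nd 3277 = n4995 := ndS (p := 2539) (l := 3) rfl N2539 D4995
theorem N3278 : nd 3278 = n4996 := ndS (p := 2539) (l := 6) rfl N2539 D4996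
theorem N3279 : nd 3279 = n4997 := ndS (p := 2540) (l := 7) rfl N2540 D4997
theorem N3280 : nd 3280 = n4998 := ndS (p := 2541) (l := 2) rfl N2541 D4998
theorem N3281 : nd 3281 = n4999 := ndS (p := 2541) (l := 6) rfl N2541 D4999
theorem N3282 : nd 3282 = n5000 := ndS (p := 2542) (l := 5) rfl N2542 D5000
theorem N3283 : nd 3283 = n5001 := ndS (p := 2542) (l := 7) rfl N2542 D5001
theorem N3284 : nd 3284 = n5002 := ndS (p := 2544) (l := 7) rfl N2544 D5002
theorem N3285 : nd 3285 = n5003 := ndS (p := 2544) (l := 8) rfl N2544 D5003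
theorem N3286 : nd 3286 = n5009 := ndS (p := 2548) (l := 6) rfl N2548 D5009
theorem N3287 : nd 3287 = n5010 := ndS (p := 2549) (l := 7) rfl N2549 D5010
theorem N3288 : nd 3288 = n5031 := ndS (p := 2554) (l := 8) rfl N2554 D5031
theorem N3289 : nd 3289 = n5032 := ndS (p := 2555) (l := 6) rfl N2555 D5032
theorem N3290 : nd 3290 = n5033 := ndS (p := 2555) (l := 8) rfl N2555 D5033
theorem N3291 : nd 3291 = n5034 := ndS (p := 2556) (l := 9) rfl N2556 D5034
theorem N3292 : nd 3292 = n5035 := ndS (p := 2557) (l := 5) rfl N2557 D5035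
theorem N3293 : nd 3293 = n5036 := ndS (p := 2557) (l := 7) rfl N2557 D5036
theorem N3294 : nd 3294 = n5037 := ndS (p := 2557) (l := 9) rfl N2557 D5037
theorem N3295 : nd 3295 = n5038 := ndS (p := 2558) (l := 8) rfl N2558 D5038
theorem N3296 : nd 3296 = n5039 := ndS (p := 2559) (l := 9) rfl N2559 D5039
theorem N3297 : nd 3297 = n5040 := ndS (p := 2560) (l := 9) rfl N2560 D5040
theorem N3298 : nd 3298 = n5041 := ndS (p := 2561) (l := 8) rfl N2561 D5041
theorem N3299 : nd 3299 = n5042 := ndS (p := 2562) (l := 5) rfl N2562 D5042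
theorem N3300 : nd 3300 = n5043 := ndS (p := 2563) (l := 9) rfl N2563 D5043
theorem N3301 : nd 3301 = n5044 := ndS (p := 2564) (l := 9) rfl N2564 D5044
theorem N3302 : nd 3302 = n5045 := ndS (p := 2565) (l := 9) rfl N2565 D5045
theorem N3303 : nd 3303 = n5046 := ndS (p := 2566) (l := 8) rfl N2566 D5046
theorem N3304 : nd 3304 = n5047 := ndS (p := 2567) (l := 8) rfl N2567 D5047
theorem N3305 : nd 3305 = n5048 := ndS (p := 2568) (l := 5) rfl N2568 D5048
theorem N3306 : nd 3306 = n5049 := ndS (p := 2569) (l := 4) rfl N2569 D5049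
theorem N3307 : nd 3307 = n5050 := ndS (p := 2569) (l := 6) rfl N2569 D5050
theorem N3308 : nd 3308 = n5051 := ndS (p := 2570) (l := 8) rfl N2570 D5051
theorem N3309 : nd 3309 = n5052 := ndS (p := 2571) (l := 9) rfl N2571 D5052
theorem N3310 : nd 3310 = n5053 := ndS (p := 2572) (l := 8) rfl N2572 D5053
theorem N3311 : nd 3311 = n5054 := ndS (p := 2573) (l := 8) rfl N2573 D5054
theorem N3312 : nd 3312 = n5055 := ndS (p := 2574) (l := 5) rfl N2574 D5055
theorem N3313 : nd 3313 = n5056 := ndS (p := 2575) (l := 5) rfl N2575 D5056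
theorem N3314 : nd 3314 = n5057 := ndS (p := 2576) (l := 4) rfl N2576 D5057
theorem N3315 : nd 3315 = n5058 := ndS (p := 2576) (l := 6) rfl N2576 D5058
theorem N3316 : nd 3316 = n5059 := ndS (p := 2577) (l := 6) rfl N2577 D5059
theorem N3317 : nd 3317 = n5060 := ndS (p := 2578) (l := 7) rfl N2578 D5060
theorem N3318 : nd 3318 = n5061 := ndS (p := 2579) (l := 9) rfl N2579 D5061
theorem N3319 : nd 3319 = n5062 := ndS (p := 2580) (l := 8) rfl N2580 D5062
theorem N3320 : nd 3320 = n5063 := ndS (p := 2581) (l := 8) rfl N2581 D5063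
theorem N3321 : nd 3321 = n5064 := ndS (p := 2582) (l := 5) rfl N2582 D5064
theorem N3322 : nd 3322 = n5065 := ndS (p := 2583) (l := 5) rfl N2583 D5065
theorem N3323 : nd 3323 = n5066 := ndS (p := 2584) (l := 4) rfl N2584 D5066
theorem N3324 : nd 3324 = n5067 := ndS (p := 2584) (l := 6) rfl N2584 D5067
theorem N3325 : nd 3325 = n5068 := ndS (p := 2585) (l := 4) rfl N2585 D5068
theorem N3326 : nd 3326 = n5069 := ndS (p := 2585) (l := 6) rfl N2585 D5069
theorem N3327 : nd 3327 = n5070 := ndS (p := 2586) (l := 3) rfl N2586 D5070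
theorem N3328 : nd 3328 = n5071 := ndS (p := 2586) (l := 6) rfl N2586 D5071
theorem N3329 : nd 3329 = n5072 := ndS (p := 2587) (l := 7) rfl N2587 D5072
theorem N3330 : nd 3330 = n5073 := ndS (p := 2589) (l := 3) rfl N2589 D5073
theorem N3331 : nd 3331 = n5074 := ndS (p := 2589) (l := 6) rfl N2589 D5074
theorem N3332 : nd 3332 = n5075 := ndS (p := 2591) (l := 2) rfl N2591 D5075
theorem N3333 : nd 3333 = n5076 := ndS (p := 2592) (l := 8) rfl N2592 D5076
theorem N3334 : nd 3334 = n5077 := ndS (p := 2592) (l := 9) rfl N2592 D5077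
theorem N3335 : nd 3335 = n5078 := ndS (p := 2593) (l := 9) rfl N2593 D5078
theorem N3336 : nd 3336 = n5079 := ndS (p := 2594) (l := 8) rfl N2594 D5079
theorem N3337 : nd 3337 = n5080 := ndS (p := 2595) (l := 5) rfl N2595 D5080
theorem N3338 : nd 3338 = n5081 := ndS (p := 2596) (l := 9) rfl N2596 D5081
theorem N3339 : nd 3339 = n5082 := ndS (p := 2597) (l := 9) rfl N2597 D5082
theorem N3340 : nd 3340 = n5083 := ndS (p := 2598) (l := 9) rfl N2598 D5083
theorem N3341 : nd 3341 = n5084 := ndS (p := 2599) (l := 8) rfl N2599 D5084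
theorem N3342 : nd 3342 = n5085 := ndS (p := 2600) (l := 8) rfl N2600 D5085
theorem N3343 : nd 3343 = n5086 := ndS (p := 2601) (l := 5) rfl N2601 D5086
theorem N3344 : nd 3344 = n5087 := ndS (p := 2602) (l := 4) rfl N2602 D5087
theorem N3345 : nd 3345 = n5088 := ndS (p := 2602) (l := 6) rfl N2602 D5088
theorem N3346 : nd 3346 = n5089 := ndS (p := 2603) (l := 9) rfl N2603 D5089
theorem N3347 : nd 3347 = n5090 := ndS (p := 2604) (l := 8) rfl N2604 D5090
theorem N3348 : nd 3348 = n5091 := ndS (p := 2605) (l := 9) rfl N2605 D5091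
theorem N3349 : nd 3349 = n5092 := ndS (p := 2606) (l := 9) rfl N2606 D5092
theorem N3350 : nd 3350 = n5093 := ndS (p := 2607) (l := 8) rfl N2607 D5093
theorem N3351 : nd 3351 = n5094 := ndS (p := 2608) (l := 8) rfl N2608 D5094
theorem N3352 : nd 3352 = n5095 := ndS (p := 2609) (l := 5) rfl N2609 D5095
theorem N3353 : nd 3353 = n5096 := ndS (p := 2610) (l := 5) rfl N2610 D5096
theorem N3354 : nd 3354 = n5097 := ndS (p := 2611) (l := 4) rfl N2611 D5097
theorem N3355 : nd 3355 = n5098 := ndS (p := 2611) (l := 6) rfl N2611 D5098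
theorem N3356 : nd 3356 = n5099 := ndS (p := 2612) (l := 3) rfl N2612 D5099
theorem N3357 : nd 3357 = n5100 := ndS (p := 2612) (l := 6) rfl N2612 D5100
theorem N3358 : nd 3358 = n5101 := ndS (p := 2613) (l := 7) rfl N2613 D5101
theorem N3359 : nd 3359 = n5102 := ndS (p := 2614) (l := 8) rfl N2614 D5102
theorem N3360 : nd 3360 = n5103 := ndS (p := 2615) (l := 8) rfl N2615 D5103
theorem N3361 : nd 3361 = n5104 := ndS (p := 2616) (l := 5) rfl N2616 D5104
theorem N3362 : nd 3362 = n5105 := ndS (p := 2617) (l := 8) rfl N2617 D5105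
theorem N3363 : nd 3363 = n5106 := ndS (p := 2618) (l := 8) rfl N2618 D5106
theorem N3364 : nd 3364 = n5107 := ndS (p := 2619) (l := 5) rfl N2619 D5107
theorem N3365 : nd 3365 = n5108 := ndS (p := 2620) (l := 5) rfl N2620 D5108
theorem N3366 : nd 3366 = n5109 := ndS (p := 2621) (l := 4) rfl N2621 D5109
theorem N3367 : nd 3367 = n5110 := ndS (p := 2621) (l := 6) rfl N2621 D5110
theorem N3368 : nd 3368 = n5111 := ndS (p := 2622) (l := 4) rfl N2622 D5111
theorem N3369 : nd 3369 = n5112 := ndS (p := 2622) (l := 6) rfl N2622 D5112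
theorem N3370 : nd 3370 = n5113 := ndS (p := 2623) (l := 3) rfl N2623 D5113
theorem N3371 : nd 3371 = n5114 := ndS (p := 2623) (l := 6) rfl N2623 D5114
theorem N3372 : nd 3372 = n5115 := ndS (p := 2624) (l := 7) rfl N2624 D5115
theorem N3373 : nd 3373 = n5116 := ndS (p := 2625) (l := 5) rfl N2625 D5116
theorem N3374 : nd 3374 = n5117 := ndS (p := 2625) (l := 7) rfl N2625 D5117
theorem N3375 : nd 3375 = n5118 := ndS (p := 2627) (l := 8) rfl N2627 D5118
theorem N3376 : nd 3376 = n5119 := ndS (p := 2628) (l := 5) rfl N2628 D5119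
theorem N3377 : nd 3377 = n5120 := ndS (p := 2629) (l := 5) rfl N2629 D5120
theorem N3378 : nd 3378 = n5121 := ndS (p := 2630) (l := 4) rfl N2630 D5121
theorem N3379 : nd 3379 = n5122 := ndS (p := 2630) (l := 6) rfl N2630 D5122
theorem N3380 : nd 3380 = n5123 := ndS (p := 2631) (l := 4) rfl N2631 D5123
theorem N3381 : nd 3381 = n5124 := ndS (p := 2631) (l := 6) rfl N2631 D5124
theorem N3382 : nd 3382 = n5125 := ndS (p := 2632) (l := 3) rfl N2632 D5125
theorem N3383 : nd 3383 = n5126 := ndS (p := 2632) (l := 6) rfl N2632 D5126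
theorem N3384 : nd 3384 = n5127 := ndS (p := 2633) (l := 7) rfl N2633 D5127
theorem N3385 : nd 3385 = n5128 := ndS (p := 2634) (l := 3) rfl N2634 D5128
theorem N3386 : nd 3386 = n5129 := ndS (p := 2634) (l := 6) rfl N2634 D5129
theorem N3387 : nd 3387 = n5130 := ndS (p := 2635) (l := 7) rfl N2635 D5130
theorem N3388 : nd 3388 = n5131 := ndS (p := 2636) (l := 2) rfl N2636 D5131
theorem N3389 : nd 3389 = n5132 := ndS (p := 2636) (l := 6) rfl N2636 D5132
theorem N3390 : nd 3390 = n5133 := ndS (p := 2637) (l := 7) rfl N2637 D5133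
theorem N3391 : nd 3391 = n5138 := ndS (p := 2642) (l := 8) rfl N2642 D5138
theorem N3392 : nd 3392 = n5139 := ndS (p := 2642) (l := 9) rfl N2642 D5139
theorem N3393 : nd 3393 = n5140 := ndS (p := 2643) (l := 9) rfl N2643 D5140
theorem N3394 : nd 3394 = n5141 := ndS (p := 2644) (l := 8) rfl N2644 D5141
theorem N3395 : nd 3395 = n5142 := ndS (p := 2645) (l := 8) rfl N2645 D5142
theorem N3396 : nd 3396 = n5143 := ndS (p := 2646) (l := 5) rfl N2646 D5143
theorem N3397 : nd 3397 = n5144 := ndS (p := 2647) (l := 4) rfl N2647 D5144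
theorem N3398 : nd 3398 = n5145 := ndS (p := 2647) (l := 6) rfl N2647 D5145
theorem N3399 : nd 3399 = n5146 := ndS (p := 2648) (l := 9) rfl N2648 D5146
theorem N3400 : nd 3400 = n5147 := ndS (p := 2649) (l := 8) rfl N2649 D5147
theorem N3401 : nd 3401 = n5148 := ndS (p := 2650) (l := 8) rfl N2650 D5148
theorem N3402 : nd 3402 = n5149 := ndS (p := 2651) (l := 5) rfl N2651 D5149
theorem N3403 : nd 3403 = n5150 := ndS (p := 2652) (l := 5) rfl N2652 D5150
theorem N3404 : nd 3404 = n5151 := ndS (p := 2653) (l := 4) rfl N2653 D5151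
theorem N3405 : nd 3405 = n5152 := ndS (p := 2653) (l := 6) rfl N2653 D5152
theorem N3406 : nd 3406 = n5154 := ndS (p := 2654) (l := 6) rfl N2654 D5154
theorem N3407 : nd 3407 = n5155 := ndS (p := 2655) (l := 7) rfl N2655 D5155
theorem N3408 : nd 3408 = n5156 := ndS (p := 2656) (l := 8) rfl N2656 D5156
theorem N3409 : nd 3409 = n5157 := ndS (p := 2657) (l := 5) rfl N2657 D5157
theorem N3410 : nd 3410 = n5158 := ndS (p := 2658) (l := 5) rfl N2658 D5158
theorem N3411 : nd 3411 = n5159 := ndS (p := 2659) (l := 4) rfl N2659 D5159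
theorem N3412 : nd 3412 = n5160 := ndS (p := 2659) (l := 6) rfl N2659 D5160
theorem N3413 : nd 3413 = n5161 := ndS (p := 2660) (l := 4) rfl N2660 D5161
theorem N3414 : nd 3414 = n5162 := ndS (p := 2660) (l := 6) rfl N2660 D5162
theorem N3415 : nd 3415 = n5163 := ndS (p := 2661) (l := 3) rfl N2661 D5163
theorem N3416 : nd 3416 = n5164 := ndS (p := 2661) (l := 6) rfl N2661 D5164
theorem N3417 : nd 3417 = n5165 := ndS (p := 2662) (l := 7) rfl N2662 D5165
theorem N3418 : nd 3418 = n5166 := ndS (p := 2663) (l := 6) rfl N2663 D5166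
theorem N3419 : nd 3419 = n5167 := ndS (p := 2664) (l := 5) rfl N2664 D5167
theorem N3420 : nd 3420 = n5168 := ndS (p := 2664) (l := 7) rfl N2664 D5168
theorem N3421 : nd 3421 = n5169 := ndS (p := 2666) (l := 5) rfl N2666 D5169
theorem N3422 : nd 3422 = n5170 := ndS (p := 2667) (l := 4) rfl N2667 D5170
theorem N3423 : nd 3423 = n5171 := ndS (p := 2667) (l := 6) rfl N2667 D5171
theorem N3424 : nd 3424 = n5172 := ndS (p := 2668) (l := 4) rfl N2668 D5172
theorem N3425 : nd 3425 = n5173 := ndS (p := 2668) (l := 6) rfl N2668 D5173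
theorem N3426 : nd 3426 = n5174 := ndS (p := 2669) (l := 3) rfl N2669 D5174
theorem N3427 : nd 3427 = n5175 := ndS (p := 2669) (l := 6) rfl N2669 D5175
theorem N3428 : nd 3428 = n5176 := ndS (p := 2670) (l := 7) rfl N2670 D5176
theorem N3429 : nd 3429 = n5177 := ndS (p := 2671) (l := 3) rfl N2671 D5177
theorem N3430 : nd 3430 = n5178 := ndS (p := 2671) (l := 6) rfl N2671 D5178
theorem N3431 : nd 3431 = n5179 := ndS (p := 2672) (l := 7) rfl N2672 D5179
theorem N3432 : nd 3432 = n5180 := ndS (p := 2673) (l := 2) rfl N2673 D5180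
theorem N3433 : nd 3433 = n5181 := ndS (p := 2673) (l := 6) rfl N2673 D5181
theorem N3434 : nd 3434 = n5182 := ndS (p := 2674) (l := 5) rfl N2674 D5182
theorem N3435 : nd 3435 = n5183 := ndS (p := 2674) (l := 7) rfl N2674 D5183
theorem N3436 : nd 3436 = n5184 := ndS (p := 2676) (l := 7) rfl N2676 D5184
theorem N3437 : nd 3437 = n5185 := ndS (p := 2676) (l := 8) rfl N2676 D5185
theorem N3438 : nd 3438 = n5186 := ndS (p := 2678) (l := 4) rfl N2678 D5186
theorem N3439 : nd 3439 = n5187 := ndS (p := 2678) (l := 6) rfl N2678 D5187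
theorem N3440 : nd 3440 = n5188 := ndS (p := 2679) (l := 3) rfl N2679 D5188
theorem N3441 : nd 3441 = n5189 := ndS (p := 2679) (l := 6) rfl N2679 D5189
theorem N3442 : nd 3442 = n5190 := ndS (p := 2680) (l := 7) rfl N2680 D5190
theorem N3443 : nd 3443 = n5191 := ndS (p := 2681) (l := 3) rfl N2681 D5191
theorem N3444 : nd 3444 = n5192 := ndS (p := 2681) (l := 6) rfl N2681 D5192
theorem N3445 : nd 3445 = n5193 := ndS (p := 2682) (l := 7) rfl N2682 D5193
theorem N3446 : nd 3446 = n5194 := ndS (p := 2683) (l := 2) rfl N2683 D5194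
theorem N3447 : nd 3447 = n5195 := ndS (p := 2683) (l := 6) rfl N2683 D5195
theorem N3448 : nd 3448 = n5196 := ndS (p := 2684) (l := 5) rfl N2684 D5196
theorem N3449 : nd 3449 = n5197 := ndS (p := 2684) (l := 7) rfl N2684 D5197
theorem N3450 : nd 3450 = n5201 := ndS (p := 2687) (l := 7) rfl N2687 D5201
theorem N3451 : nd 3451 = n5203 := ndS (p := 2689) (l := 6) rfl N2689 D5203
theorem N3452 : nd 3452 = n5204 := ndS (p := 2690) (l := 7) rfl N2690 D5204
theorem N3453 : nd 3453 = n5209 := ndS (p := 2692) (l := 3) rfl N2692 D5209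
theorem N3454 : nd 3454 = n5211 := ndS (p := 2694) (l := 2) rfl N2694 D5211
theorem N3455 : nd 3455 = n5212 := ndS (p := 2694) (l := 6) rfl N2694 D5212
theorem N3456 : nd 3456 = n5213 := ndS (p := 2695) (l := 5) rfl N2695 D5213
theorem N3457 : nd 3457 = n5215 := ndS (p := 2696) (l := 6) rfl N2696 D5215
theorem N3458 : nd 3458 = n5216 := ndS (p := 2697) (l := 5) rfl N2697 D5216
theorem N3459 : nd 3459 = n5222 := ndS (p := 2700) (l := 8) rfl N2700 D5222
theorem N3460 : nd 3460 = n5223 := ndS (p := 2701) (l := 8) rfl N2701 D5223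
theorem N3461 : nd 3461 = n5224 := ndS (p := 2702) (l := 5) rfl N2702 D5224
theorem N3462 : nd 3462 = n5225 := ndS (p := 2703) (l := 4) rfl N2703 D5225
theorem N3463 : nd 3463 = n5227 := ndS (p := 2704) (l := 8) rfl N2704 D5227
theorem N3464 : nd 3464 = n5228 := ndS (p := 2705) (l := 8) rfl N2705 D5228
theorem N3465 : nd 3465 = n5229 := ndS (p := 2706) (l := 5) rfl N2706 D5229
theorem N3466 : nd 3466 = n5230 := ndS (p := 2707) (l := 5) rfl N2707 D5230
theorem N3467 : nd 3467 = n5231 := ndS (p := 2708) (l := 4) rfl N2708 D5231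
theorem N3468 : nd 3468 = n5236 := ndS (p := 2710) (l := 8) rfl N2710 D5236
theorem N3469 : nd 3469 = n5237 := ndS (p := 2711) (l := 8) rfl N2711 D5237
theorem N3470 : nd 3470 = n5238 := ndS (p := 2712) (l := 5) rfl N2712 D5238
theorem N3471 : nd 3471 = n5239 := ndS (p := 2713) (l := 8) rfl N2713 D5239
theorem N3472 : nd 3472 = n5240 := ndS (p := 2714) (l := 5) rfl N2714 D5240
theorem N3473 : nd 3473 = n5241 := ndS (p := 2715) (l := 4) rfl N2715 D5241
theorem N3474 : nd 3474 = n5242 := ndS (p := 2715) (l := 6) rfl N2715 D5242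
theorem N3475 : nd 3475 = n5243 := ndS (p := 2716) (l := 4) rfl N2716 D5243
theorem N3476 : nd 3476 = n5244 := ndS (p := 2716) (l := 6) rfl N2716 D5244
theorem N3477 : nd 3477 = n5245 := ndS (p := 2717) (l := 3) rfl N2717 D5245
theorem N3478 : nd 3478 = n5246 := ndS (p := 2717) (l := 6) rfl N2717 D5246
theorem N3479 : nd 3479 = n5251 := ndS (p := 2719) (l := 8) rfl N2719 D5251
theorem N3480 : nd 3480 = n5252 := ndS (p := 2720) (l := 5) rfl N2720 D5252
theorem N3481 : nd 3481 = n5253 := ndS (p := 2721) (l := 4) rfl N2721 D5253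
theorem N3482 : nd 3482 = n5254 := ndS (p := 2721) (l := 6) rfl N2721 D5254
theorem N3483 : nd 3483 = n5255 := ndS (p := 2722) (l := 5) rfl N2722 D5255
theorem N3484 : nd 3484 = n5256 := ndS (p := 2723) (l := 4) rfl N2723 D5256
theorem N3485 : nd 3485 = n5257 := ndS (p := 2723) (l := 6) rfl N2723 D5257
theorem N3486 : nd 3486 = n5258 := ndS (p := 2724) (l := 3) rfl N2724 D5258
theorem N3487 : nd 3487 = n5259 := ndS (p := 2724) (l := 6) rfl N2724 D5259
theorem N3488 : nd 3488 = n5260 := ndS (p := 2725) (l := 7) rfl N2725 D5260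
theorem N3489 : nd 3489 = n5263 := ndS (p := 2727) (l := 7) rfl N2727 D5263
theorem N3490 : nd 3490 = n5264 := ndS (p := 2728) (l := 2) rfl N2728 D5264
theorem N3491 : nd 3491 = n5265 := ndS (p := 2728) (l := 6) rfl N2728 D5265
theorem N3492 : nd 3492 = n5266 := ndS (p := 2729) (l := 5) rfl N2729 D5266
theorem N3493 : nd 3493 = n5269 := ndS (p := 2731) (l := 8) rfl N2731 D5269
theorem N3494 : nd 3494 = n5270 := ndS (p := 2732) (l := 4) rfl N2732 D5270
theorem N3495 : nd 3495 = n5271 := ndS (p := 2732) (l := 6) rfl N2732 D5271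
theorem N3496 : nd 3496 = n5274 := ndS (p := 2734) (l := 7) rfl N2734 D5274
theorem N3497 : nd 3497 = n5276 := ndS (p := 2735) (l := 6) rfl N2735 D5276
theorem N3498 : nd 3498 = n5277 := ndS (p := 2736) (l := 5) rfl N2736 D5277
theorem N3499 : nd 3499 = n5278 := ndS (p := 2736) (l := 7) rfl N2736 D5278
theorem N3500 : nd 3500 = n5291 := ndS (p := 2741) (l := 5) rfl N2741 D5291
theorem N3501 : nd 3501 = n5292 := ndS (p := 2742) (l := 4) rfl N2742 D5292
theorem N3502 : nd 3502 = n5297 := ndS (p := 2744) (l := 4) rfl N2744 D5297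
theorem N3503 : nd 3503 = n5306 := ndS (p := 2746) (l := 3) rfl N2746 D5306
theorem N3504 : nd 3504 = n5307 := ndS (p := 2746) (l := 6) rfl N2746 D5307
theorem N3505 : nd 3505 = n5323 := ndS (p := 2752) (l := 5) rfl N2752 D5323
theorem N3506 : nd 3506 = n5326 := ndS (p := 2753) (l := 8) rfl N2753 D5326
theorem N3507 : nd 3507 = n5329 := ndS (p := 2754) (l := 9) rfl N2754 D5329
theorem N3508 : nd 3508 = n5366 := ndS (p := 2756) (l := 5) rfl N2756 D5366
theorem N3509 : nd 3509 = n5367 := ndS (p := 2757) (l := 5) rfl N2757 D5367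
theorem N3510 : nd 3510 = n5373 := ndS (p := 2759) (l := 5) rfl N2759 D5373
theorem N3511 : nd 3511 = n5374 := ndS (p := 2760) (l := 5) rfl N2760 D5374
theorem N3512 : nd 3512 = n5386 := ndS (p := 2763) (l := 5) rfl N2763 D5386
theorem N3513 : nd 3513 = n5387 := ndS (p := 2764) (l := 5) rfl N2764 D5387
theorem N3514 : nd 3514 = n5390 := ndS (p := 2766) (l := 5) rfl N2766 D5390
theorem N3515 : nd 3515 = n5407 := ndS (p := 2769) (l := 4) rfl N2769 D5407
theorem N3516 : nd 3516 = n5408 := ndS (p := 2770) (l := 3) rfl N2770 D5408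
theorem N3517 : nd 3517 = n5589 := ndS (p := 2778) (l := 8) rfl N2778 D5589
theorem N3518 : nd 3518 = n5590 := ndS (p := 2779) (l := 8) rfl N2779 D5590
theorem N3519 : nd 3519 = n5591 := ndS (p := 2780) (l := 5) rfl N2780 D5591
theorem N3520 : nd 3520 = n5592 := ndS (p := 2781) (l := 5) rfl N2781 D5592
theorem N3521 : nd 3521 = n5593 := ndS (p := 2782) (l := 0) rfl N2782 D5593
theorem N3522 : nd 3522 = n5594 := ndS (p := 2782) (l := 9) rfl N2782 D5594
theorem N3523 : nd 3523 = n5595 := ndS (p := 2783) (l := 8) rfl N2783 D5595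
theorem N3524 : nd 3524 = n5596 := ndS (p := 2784) (l := 5) rfl N2784 D5596
theorem N3525 : nd 3525 = n5597 := ndS (p := 2785) (l := 6) rfl N2785 D5597
theorem N3526 : nd 3526 = n5598 := ndS (p := 2786) (l := 9) rfl N2786 D5598
theorem N3527 : nd 3527 = n5599 := ndS (p := 2787) (l := 8) rfl N2787 D5599
theorem N3528 : nd 3528 = n5600 := ndS (p := 2788) (l := 5) rfl N2788 D5600
theorem N3529 : nd 3529 = n5601 := ndS (p := 2789) (l := 4) rfl N2789 D5601
theorem N3530 : nd 3530 = n5602 := ndS (p := 2789) (l := 6) rfl N2789 D5602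
theorem N3531 : nd 3531 = n5603 := ndS (p := 2790) (l := 7) rfl N2790 D5603
theorem N3532 : nd 3532 = n5604 := ndS (p := 2791) (l := 9) rfl N2791 D5604
theorem N3533 : nd 3533 = n5605 := ndS (p := 2792) (l := 8) rfl N2792 D5605
theorem N3534 : nd 3534 = n5606 := ndS (p := 2793) (l := 5) rfl N2793 D5606
theorem N3535 : nd 3535 = n5607 := ndS (p := 2794) (l := 5) rfl N2794 D5607
theorem N3536 : nd 3536 = n5608 := ndS (p := 2795) (l := 0) rfl N2795 D5608
theorem N3537 : nd 3537 = n5609 := ndS (p := 2795) (l := 9) rfl N2795 D5609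
theorem N3538 : nd 3538 = n5610 := ndS (p := 2796) (l := 5) rfl N2796 D5610
theorem N3539 : nd 3539 = n5611 := ndS (p := 2796) (l := 9) rfl N2796 D5611
theorem N3540 : nd 3540 = n5612 := ndS (p := 2797) (l := 8) rfl N2797 D5612
theorem N3541 : nd 3541 = n5613 := ndS (p := 2798) (l := 9) rfl N2798 D5613
theorem N3542 : nd 3542 = n5614 := ndS (p := 2799) (l := 8) rfl N2799 D5614
theorem N3543 : nd 3543 = n5615 := ndS (p := 2800) (l := 5) rfl N2800 D5615
theorem N3544 : nd 3544 = n5616 := ndS (p := 2801) (l := 9) rfl N2801 D5616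
theorem N3545 : nd 3545 = n5617 := ndS (p := 2802) (l := 8) rfl N2802 D5617
theorem N3546 : nd 3546 = n5618 := ndS (p := 2803) (l := 8) rfl N2803 D5618
theorem N3547 : nd 3547 = n5619 := ndS (p := 2804) (l := 5) rfl N2804 D5619
theorem N3548 : nd 3548 = n5620 := ndS (p := 2805) (l := 6) rfl N2805 D5620
theorem N3549 : nd 3549 = n5621 := ndS (p := 2806) (l := 5) rfl N2806 D5621
theorem N3550 : nd 3550 = n5622 := ndS (p := 2807) (l := 4) rfl N2807 D5622
theorem N3551 : nd 3551 = n5623 := ndS (p := 2808) (l := 6) rfl N2808 D5623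
theorem N3552 : nd 3552 = n5624 := ndS (p := 2808) (l := 9) rfl N2808 D5624
theorem N3553 : nd 3553 = n5625 := ndS (p := 2809) (l := 5) rfl N2809 D5625
theorem N3554 : nd 3554 = n5626 := ndS (p := 2809) (l := 9) rfl N2809 D5626
theorem N3555 : nd 3555 = n5627 := ndS (p := 2810) (l := 8) rfl N2810 D5627
theorem N3556 : nd 3556 = n5628 := ndS (p := 2811) (l := 4) rfl N2811 D5628
theorem N3557 : nd 3557 = n5629 := ndS (p := 2811) (l := 9) rfl N2811 D5629
theorem N3558 : nd 3558 = n5630 := ndS (p := 2812) (l := 8) rfl N2812 D5630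
theorem N3559 : nd 3559 = n5631 := ndS (p := 2813) (l := 5) rfl N2813 D5631
theorem N3560 : nd 3560 = n5632 := ndS (p := 2814) (l := 9) rfl N2814 D5632
theorem N3561 : nd 3561 = n5633 := ndS (p := 2815) (l := 8) rfl N2815 D5633
theorem N3562 : nd 3562 = n5634 := ndS (p := 2816) (l := 5) rfl N2816 D5634
theorem N3563 : nd 3563 = n5635 := ndS (p := 2817) (l := 4) rfl N2817 D5635
theorem N3564 : nd 3564 = n5636 := ndS (p := 2817) (l := 6) rfl N2817 D5636
theorem N3565 : nd 3565 = n5637 := ndS (p := 2818) (l := 5) rfl N2818 D5637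
theorem N3566 : nd 3566 = n5638 := ndS (p := 2819) (l := 4) rfl N2819 D5638
theorem N3567 : nd 3567 = n5639 := ndS (p := 2819) (l := 6) rfl N2819 D5639
theorem N3568 : nd 3568 = n5640 := ndS (p := 2820) (l := 7) rfl N2820 D5640
theorem N3569 : nd 3569 = n5641 := ndS (p := 2821) (l := 3) rfl N2821 D5641
theorem N3570 : nd 3570 = n5642 := ndS (p := 2822) (l := 9) rfl N2822 D5642
theorem N3571 : nd 3571 = n5643 := ndS (p := 2823) (l := 8) rfl N2823 D5643
theorem N3572 : nd 3572 = n5644 := ndS (p := 2824) (l := 8) rfl N2824 D5644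
theorem N3573 : nd 3573 = n5645 := ndS (p := 2825) (l := 5) rfl N2825 D5645
theorem N3574 : nd 3574 = n5646 := ndS (p := 2826) (l := 5) rfl N2826 D5646
theorem N3575 : nd 3575 = n5647 := ndS (p := 2827) (l := 4) rfl N2827 D5647
theorem N3576 : nd 3576 = n5648 := ndS (p := 2827) (l := 6) rfl N2827 D5648
theorem N3577 : nd 3577 = n5649 := ndS (p := 2828) (l := 4) rfl N2828 D5649
theorem N3578 : nd 3578 = n5650 := ndS (p := 2828) (l := 6) rfl N2828 D5650
theorem N3579 : nd 3579 = n5651 := ndS (p := 2829) (l := 6) rfl N2829 D5651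
theorem N3580 : nd 3580 = n5652 := ndS (p := 2830) (l := 7) rfl N2830 D5652
theorem N3581 : nd 3581 = n5653 := ndS (p := 2831) (l := 3) rfl N2831 D5653
theorem N3582 : nd 3582 = n5654 := ndS (p := 2831) (l := 6) rfl N2831 D5654
theorem N3583 : nd 3583 = n5655 := ndS (p := 2832) (l := 7) rfl N2832 D5655
theorem N3584 : nd 3584 = n5656 := ndS (p := 2834) (l := 2) rfl N2834 D5656
theorem N3585 : nd 3585 = n5658 := ndS (p := 2836) (l := 6) rfl N2836 D5658
theorem N3586 : nd 3586 = n5659 := ndS (p := 2836) (l := 9) rfl N2836 D5659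
theorem N3587 : nd 3587 = n5660 := ndS (p := 2837) (l := 5) rfl N2837 D5660
theorem N3588 : nd 3588 = n5661 := ndS (p := 2837) (l := 9) rfl N2837 D5661
theorem N3589 : nd 3589 = n5662 := ndS (p := 2838) (l := 8) rfl N2838 D5662
theorem N3590 : nd 3590 = n5663 := ndS (p := 2839) (l := 4) rfl N2839 D5663
theorem N3591 : nd 3591 = n5664 := ndS (p := 2839) (l := 7) rfl N2839 D5664
theorem N3592 : nd 3592 = n5665 := ndS (p := 2839) (l := 8) rfl N2839 D5665
theorem N3593 : nd 3593 = n5666 := ndS (p := 2839) (l := 9) rfl N2839 D5666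
theorem N3594 : nd 3594 = n5667 := ndS (p := 2840) (l := 9) rfl N2840 D5667
theorem N3595 : nd 3595 = n5668 := ndS (p := 2841) (l := 8) rfl N2841 D5668
theorem N3596 : nd 3596 = n5669 := ndS (p := 2842) (l := 5) rfl N2842 D5669
theorem N3597 : nd 3597 = n5670 := ndS (p := 2843) (l := 7) rfl N2843 D5670
theorem N3598 : nd 3598 = n5671 := ndS (p := 2843) (l := 8) rfl N2843 D5671
theorem N3599 : nd 3599 = n5672 := ndS (p := 2843) (l := 9) rfl N2843 D5672
theorem N3600 : nd 3600 = n5673 := ndS (p := 2844) (l := 6) rfl N2844 D5673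
theorem N3601 : nd 3601 = n5674 := ndS (p := 2844) (l := 8) rfl N2844 D5674
theorem N3602 : nd 3602 = n5675 := ndS (p := 2844) (l := 9) rfl N2844 D5675
theorem N3603 : nd 3603 = n5676 := ndS (p := 2845) (l := 9) rfl N2845 D5676
theorem N3604 : nd 3604 = n5677 := ndS (p := 2846) (l := 8) rfl N2846 D5677
theorem N3605 : nd 3605 = n5678 := ndS (p := 2847) (l := 8) rfl N2847 D5678
theorem N3606 : nd 3606 = n5679 := ndS (p := 2848) (l := 5) rfl N2848 D5679
theorem N3607 : nd 3607 = n5680 := ndS (p := 2849) (l := 4) rfl N2849 D5680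
theorem N3608 : nd 3608 = n5681 := ndS (p := 2849) (l := 6) rfl N2849 D5681
theorem N3609 : nd 3609 = n5682 := ndS (p := 2850) (l := 9) rfl N2850 D5682
theorem N3610 : nd 3610 = n5683 := ndS (p := 2851) (l := 9) rfl N2851 D5683
theorem N3611 : nd 3611 = n5684 := ndS (p := 2852) (l := 8) rfl N2852 D5684
theorem N3612 : nd 3612 = n5685 := ndS (p := 2853) (l := 8) rfl N2853 D5685
theorem N3613 : nd 3613 = n5686 := ndS (p := 2854) (l := 5) rfl N2854 D5686
theorem N3614 : nd 3614 = n5687 := ndS (p := 2855) (l := 5) rfl N2855 D5687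
theorem N3615 : nd 3615 = n5688 := ndS (p := 2856) (l := 4) rfl N2856 D5688
theorem N3616 : nd 3616 = n5689 := ndS (p := 2856) (l := 6) rfl N2856 D5689
theorem N3617 : nd 3617 = n5690 := ndS (p := 2857) (l := 7) rfl N2857 D5690
theorem N3618 : nd 3618 = n5691 := ndS (p := 2858) (l := 4) rfl N2858 D5691
theorem N3619 : nd 3619 = n5692 := ndS (p := 2858) (l := 6) rfl N2858 D5692
theorem N3620 : nd 3620 = n5693 := ndS (p := 2859) (l := 3) rfl N2859 D5693
theorem N3621 : nd 3621 = n5694 := ndS (p := 2860) (l := 5) rfl N2860 D5694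
theorem N3622 : nd 3622 = n5695 := ndS (p := 2860) (l := 7) rfl N2860 D5695
theorem N3623 : nd 3623 = n5696 := ndS (p := 2860) (l := 9) rfl N2860 D5696
theorem N3624 : nd 3624 = n5697 := ndS (p := 2861) (l := 8) rfl N2861 D5697
theorem N3625 : nd 3625 = n5698 := ndS (p := 2862) (l := 4) rfl N2862 D5698
theorem N3626 : nd 3626 = n5699 := ndS (p := 2862) (l := 7) rfl N2862 D5699
theorem N3627 : nd 3627 = n5700 := ndS (p := 2862) (l := 8) rfl N2862 D5700
theorem N3628 : nd 3628 = n5701 := ndS (p := 2862) (l := 9) rfl N2862 D5701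
theorem N3629 : nd 3629 = n5702 := ndS (p := 2863) (l := 9) rfl N2863 D5702
theorem N3630 : nd 3630 = n5703 := ndS (p := 2864) (l := 8) rfl N2864 D5703
theorem N3631 : nd 3631 = n5704 := ndS (p := 2865) (l := 5) rfl N2865 D5704
theorem N3632 : nd 3632 = n5705 := ndS (p := 2866) (l := 3) rfl N2866 D5705
theorem N3633 : nd 3633 = n5706 := ndS (p := 2866) (l := 7) rfl N2866 D5706
theorem N3634 : nd 3634 = n5707 := ndS (p := 2866) (l := 8) rfl N2866 D5707
theorem N3635 : nd 3635 = n5708 := ndS (p := 2866) (l := 9) rfl N2866 D5708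
theorem N3636 : nd 3636 = n5709 := ndS (p := 2867) (l := 6) rfl N2867 D5709
theorem N3637 : nd 3637 = n5710 := ndS (p := 2867) (l := 9) rfl N2867 D5710
theorem N3638 : nd 3638 = n5711 := ndS (p := 2868) (l := 9) rfl N2868 D5711
theorem N3639 : nd 3639 = n5712 := ndS (p := 2869) (l := 8) rfl N2869 D5712
theorem N3640 : nd 3640 = n5713 := ndS (p := 2870) (l := 8) rfl N2870 D5713
theorem N3641 : nd 3641 = n5714 := ndS (p := 2871) (l := 5) rfl N2871 D5714
theorem N3642 : nd 3642 = n5715 := ndS (p := 2872) (l := 4) rfl N2872 D5715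
theorem N3643 : nd 3643 = n5716 := ndS (p := 2872) (l := 6) rfl N2872 D5716
theorem N3644 : nd 3644 = n5717 := ndS (p := 2873) (l := 6) rfl N2873 D5717
theorem N3645 : nd 3645 = n5718 := ndS (p := 2873) (l := 9) rfl N2873 D5718
theorem N3646 : nd 3646 = n5719 := ndS (p := 2874) (l := 9) rfl N2874 D5719
theorem N3647 : nd 3647 = n5720 := ndS (p := 2875) (l := 8) rfl N2875 D5720
theorem N3648 : nd 3648 = n5721 := ndS (p := 2876) (l := 9) rfl N2876 D5721
theorem N3649 : nd 3649 = n5722 := ndS (p := 2877) (l := 8) rfl N2877 D5722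
theorem N3650 : nd 3650 = n5723 := ndS (p := 2878) (l := 8) rfl N2878 D5723
theorem N3651 : nd 3651 = n5724 := ndS (p := 2879) (l := 5) rfl N2879 D5724
theorem N3652 : nd 3652 = n5725 := ndS (p := 2880) (l := 5) rfl N2880 D5725
theorem N3653 : nd 3653 = n5726 := ndS (p := 2881) (l := 4) rfl N2881 D5726
theorem N3654 : nd 3654 = n5727 := ndS (p := 2881) (l := 6) rfl N2881 D5727
theorem N3655 : nd 3655 = n5728 := ndS (p := 2882) (l := 6) rfl N2882 D5728
theorem N3656 : nd 3656 = n5729 := ndS (p := 2883) (l := 7) rfl N2883 D5729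
theorem N3657 : nd 3657 = n5730 := ndS (p := 2884) (l := 8) rfl N2884 D5730
theorem N3658 : nd 3658 = n5731 := ndS (p := 2885) (l := 5) rfl N2885 D5731
theorem N3659 : nd 3659 = n5732 := ndS (p := 2886) (l := 5) rfl N2886 D5732
theorem N3660 : nd 3660 = n5733 := ndS (p := 2887) (l := 4) rfl N2887 D5733
theorem N3661 : nd 3661 = n5734 := ndS (p := 2887) (l := 6) rfl N2887 D5734
theorem N3662 : nd 3662 = n5735 := ndS (p := 2888) (l := 4) rfl N2888 D5735
theorem N3663 : nd 3663 = n5736 := ndS (p := 2888) (l := 6) rfl N2888 D5736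
theorem N3664 : nd 3664 = n5737 := ndS (p := 2889) (l := 3) rfl N2889 D5737
theorem N3665 : nd 3665 = n5738 := ndS (p := 2889) (l := 6) rfl N2889 D5738
theorem N3666 : nd 3666 = n5739 := ndS (p := 2890) (l := 7) rfl N2890 D5739
theorem N3667 : nd 3667 = n5740 := ndS (p := 2892) (l := 3) rfl N2892 D5740
theorem N3668 : nd 3668 = n5741 := ndS (p := 2892) (l := 6) rfl N2892 D5741
theorem N3669 : nd 3669 = n5742 := ndS (p := 2894) (l := 2) rfl N2894 D5742
theorem N3670 : nd 3670 = n5743 := ndS (p := 2895) (l := 8) rfl N2895 D5743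
theorem N3671 : nd 3671 = n5744 := ndS (p := 2895) (l := 9) rfl N2895 D5744
theorem N3672 : nd 3672 = n5745 := ndS (p := 2896) (l := 9) rfl N2896 D5745
theorem N3673 : nd 3673 = n5746 := ndS (p := 2897) (l := 8) rfl N2897 D5746
theorem N3674 : nd 3674 = n5747 := ndS (p := 2898) (l := 5) rfl N2898 D5747
theorem N3675 : nd 3675 = n5748 := ndS (p := 2899) (l := 9) rfl N2899 D5748
theorem N3676 : nd 3676 = n5749 := ndS (p := 2900) (l := 8) rfl N2900 D5749
theorem N3677 : nd 3677 = n5750 := ndS (p := 2901) (l := 8) rfl N2901 D5750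
theorem N3678 : nd 3678 = n5751 := ndS (p := 2902) (l := 5) rfl N2902 D5751
theorem N3679 : nd 3679 = n5752 := ndS (p := 2903) (l := 4) rfl N2903 D5752
theorem N3680 : nd 3680 = n5753 := ndS (p := 2903) (l := 6) rfl N2903 D5753
theorem N3681 : nd 3681 = n5754 := ndS (p := 2904) (l := 8) rfl N2904 D5754
theorem N3682 : nd 3682 = n5755 := ndS (p := 2905) (l := 5) rfl N2905 D5755
theorem N3683 : nd 3683 = n5756 := ndS (p := 2906) (l := 5) rfl N2906 D5756
theorem N3684 : nd 3684 = n5757 := ndS (p := 2907) (l := 4) rfl N2907 D5757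
theorem N3685 : nd 3685 = n5758 := ndS (p := 2907) (l := 6) rfl N2907 D5758
theorem N3686 : nd 3686 = n5759 := ndS (p := 2908) (l := 3) rfl N2908 D5759
theorem N3687 : nd 3687 = n5760 := ndS (p := 2908) (l := 6) rfl N2908 D5760
theorem N3688 : nd 3688 = n5761 := ndS (p := 2909) (l := 7) rfl N2909 D5761
theorem N3689 : nd 3689 = n5762 := ndS (p := 2910) (l := 5) rfl N2910 D5762
theorem N3690 : nd 3690 = n5763 := ndS (p := 2911) (l := 4) rfl N2911 D5763
theorem N3691 : nd 3691 = n5764 := ndS (p := 2911) (l := 6) rfl N2911 D5764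
theorem N3692 : nd 3692 = n5765 := ndS (p := 2912) (l := 4) rfl N2912 D5765
theorem N3693 : nd 3693 = n5766 := ndS (p := 2912) (l := 6) rfl N2912 D5766
theorem N3694 : nd 3694 = n5767 := ndS (p := 2913) (l := 3) rfl N2913 D5767
theorem N3695 : nd 3695 = n5768 := ndS (p := 2913) (l := 6) rfl N2913 D5768
theorem N3696 : nd 3696 = n5769 := ndS (p := 2914) (l := 7) rfl N2914 D5769
theorem N3697 : nd 3697 = n5770 := ndS (p := 2915) (l := 5) rfl N2915 D5770
theorem N3698 : nd 3698 = n5771 := ndS (p := 2915) (l := 7) rfl N2915 D5771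
theorem N3699 : nd 3699 = n5772 := ndS (p := 2917) (l := 4) rfl N2917 D5772
theorem N3700 : nd 3700 = n5773 := ndS (p := 2917) (l := 6) rfl N2917 D5773
theorem N3701 : nd 3701 = n5774 := ndS (p := 2918) (l := 3) rfl N2918 D5774
theorem N3702 : nd 3702 = n5775 := ndS (p := 2918) (l := 6) rfl N2918 D5775
theorem N3703 : nd 3703 = n5776 := ndS (p := 2919) (l := 7) rfl N2919 D5776
theorem N3704 : nd 3704 = n5777 := ndS (p := 2920) (l := 3) rfl N2920 D5777
theorem N3705 : nd 3705 = n5778 := ndS (p := 2920) (l := 6) rfl N2920 D5778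
theorem N3706 : nd 3706 = n5779 := ndS (p := 2921) (l := 7) rfl N2921 D5779
theorem N3707 : nd 3707 = n5780 := ndS (p := 2922) (l := 2) rfl N2922 D5780
theorem N3708 : nd 3708 = n5781 := ndS (p := 2922) (l := 6) rfl N2922 D5781
theorem N3709 : nd 3709 = n5782 := ndS (p := 2923) (l := 7) rfl N2923 D5782
theorem N3710 : nd 3710 = n5783 := ndS (p := 2925) (l := 2) rfl N2925 D5783
theorem N3711 : nd 3711 = n5785 := ndS (p := 2926) (l := 5) rfl N2926 D5785
theorem N3712 : nd 3712 = n5786 := ndS (p := 2927) (l := 1) rfl N2927 D5786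
theorem N3713 : nd 3713 = n5787 := ndS (p := 2928) (l := 3) rfl N2928 D5787
theorem N3714 : nd 3714 = n5788 := ndS (p := 2928) (l := 6) rfl N2928 D5788
theorem N3715 : nd 3715 = n5789 := ndS (p := 2930) (l := 2) rfl N2930 D5789
theorem N3716 : nd 3716 = n5790 := ndS (p := 2930) (l := 6) rfl N2930 D5790
theorem N3717 : nd 3717 = n5791 := ndS (p := 2931) (l := 5) rfl N2931 D5791
theorem N3718 : nd 3718 = n5794 := ndS (p := 2934) (l := 1) rfl N2934 D5794
theorem N3719 : nd 3719 = n5796 := ndS (p := 2935) (l := 0) rfl N2935 D5796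
theorem N3720 : nd 3720 = n5797 := ndS (p := 2936) (l := 4) rfl N2936 D5797
theorem N3721 : nd 3721 = n5798 := ndS (p := 2936) (l := 7) rfl N2936 D5798
theorem N3722 : nd 3722 = n5799 := ndS (p := 2936) (l := 9) rfl N2936 D5799
theorem N3723 : nd 3723 = n5800 := ndS (p := 2937) (l := 9) rfl N2937 D5800
theorem N3724 : nd 3724 = n5801 := ndS (p := 2938) (l := 8) rfl N2938 D5801
theorem N3725 : nd 3725 = n5802 := ndS (p := 2939) (l := 5) rfl N2939 D5802
theorem N3726 : nd 3726 = n5803 := ndS (p := 2940) (l := 3) rfl N2940 D5803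
theorem N3727 : nd 3727 = n5804 := ndS (p := 2940) (l := 7) rfl N2940 D5804
theorem N3728 : nd 3728 = n5805 := ndS (p := 2940) (l := 9) rfl N2940 D5805
theorem N3729 : nd 3729 = n5806 := ndS (p := 2941) (l := 6) rfl N2941 D5806
theorem N3730 : nd 3730 = n5807 := ndS (p := 2941) (l := 9) rfl N2941 D5807
theorem N3731 : nd 3731 = n5808 := ndS (p := 2942) (l := 8) rfl N2942 D5808
theorem N3732 : nd 3732 = n5809 := ndS (p := 2943) (l := 8) rfl N2943 D5809
theorem N3733 : nd 3733 = n5810 := ndS (p := 2944) (l := 5) rfl N2944 D5810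
theorem N3734 : nd 3734 = n5811 := ndS (p := 2945) (l := 4) rfl N2945 D5811
theorem N3735 : nd 3735 = n5812 := ndS (p := 2945) (l := 6) rfl N2945 D5812
theorem N3736 : nd 3736 = n5813 := ndS (p := 2946) (l := 9) rfl N2946 D5813
theorem N3737 : nd 3737 = n5814 := ndS (p := 2947) (l := 9) rfl N2947 D5814
theorem N3738 : nd 3738 = n5815 := ndS (p := 2948) (l := 8) rfl N2948 D5815
theorem N3739 : nd 3739 = n5816 := ndS (p := 2949) (l := 9) rfl N2949 D5816
theorem N3740 : nd 3740 = n5817 := ndS (p := 2950) (l := 8) rfl N2950 D5817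
theorem N3741 : nd 3741 = n5818 := ndS (p := 2951) (l := 5) rfl N2951 D5818
theorem N3742 : nd 3742 = n5819 := ndS (p := 2952) (l := 5) rfl N2952 D5819
theorem N3743 : nd 3743 = n5820 := ndS (p := 2953) (l := 4) rfl N2953 D5820
theorem N3744 : nd 3744 = n5821 := ndS (p := 2953) (l := 6) rfl N2953 D5821
theorem N3745 : nd 3745 = n5822 := ndS (p := 2954) (l := 3) rfl N2954 D5822
theorem N3746 : nd 3746 = n5823 := ndS (p := 2954) (l := 6) rfl N2954 D5823
theorem N3747 : nd 3747 = n5824 := ndS (p := 2955) (l := 7) rfl N2955 D5824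
theorem N3748 : nd 3748 = n5825 := ndS (p := 2956) (l := 9) rfl N2956 D5825
theorem N3749 : nd 3749 = n5826 := ndS (p := 2957) (l := 8) rfl N2957 D5826
theorem N3750 : nd 3750 = n5827 := ndS (p := 2958) (l := 5) rfl N2958 D5827
theorem N3751 : nd 3751 = n5828 := ndS (p := 2959) (l := 8) rfl N2959 D5828
theorem N3752 : nd 3752 = n5829 := ndS (p := 2960) (l := 5) rfl N2960 D5829
theorem N3753 : nd 3753 = n5830 := ndS (p := 2961) (l := 4) rfl N2961 D5830
theorem N3754 : nd 3754 = n5831 := ndS (p := 2961) (l := 6) rfl N2961 D5831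
theorem N3755 : nd 3755 = n5832 := ndS (p := 2962) (l := 4) rfl N2962 D5832
theorem N3756 : nd 3756 = n5833 := ndS (p := 2962) (l := 6) rfl N2962 D5833
theorem N3757 : nd 3757 = n5834 := ndS (p := 2963) (l := 3) rfl N2963 D5834
theorem N3758 : nd 3758 = n5835 := ndS (p := 2963) (l := 6) rfl N2963 D5835
theorem N3759 : nd 3759 = n5836 := ndS (p := 2964) (l := 7) rfl N2964 D5836
theorem N3760 : nd 3760 = n5837 := ndS (p := 2965) (l := 5) rfl N2965 D5837
theorem N3761 : nd 3761 = n5838 := ndS (p := 2965) (l := 7) rfl N2965 D5838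
theorem N3762 : nd 3762 = n5839 := ndS (p := 2967) (l := 5) rfl N2967 D5839
theorem N3763 : nd 3763 = n5840 := ndS (p := 2968) (l := 4) rfl N2968 D5840
theorem N3764 : nd 3764 = n5841 := ndS (p := 2968) (l := 6) rfl N2968 D5841
theorem N3765 : nd 3765 = n5842 := ndS (p := 2969) (l := 3) rfl N2969 D5842
theorem N3766 : nd 3766 = n5843 := ndS (p := 2969) (l := 6) rfl N2969 D5843
theorem N3767 : nd 3767 = n5844 := ndS (p := 2970) (l := 7) rfl N2970 D5844
theorem N3768 : nd 3768 = n5845 := ndS (p := 2971) (l := 3) rfl N2971 D5845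
theorem N3769 : nd 3769 = n5847 := ndS (p := 2972) (l := 7) rfl N2972 D5847
theorem N3770 : nd 3770 = n5848 := ndS (p := 2973) (l := 2) rfl N2973 D5848
theorem N3771 : nd 3771 = n5849 := ndS (p := 2973) (l := 6) rfl N2973 D5849
theorem N3772 : nd 3772 = n5850 := ndS (p := 2974) (l := 7) rfl N2974 D5850
theorem N3773 : nd 3773 = n5851 := ndS (p := 2976) (l := 2) rfl N2976 D5851
theorem N3774 : nd 3774 = n5854 := ndS (p := 2977) (l := 1) rfl N2977 D5854
theorem N3775 : nd 3775 = n5855 := ndS (p := 2978) (l := 8) rfl N2978 D5855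
theorem N3776 : nd 3776 = n5856 := ndS (p := 2979) (l := 5) rfl N2979 D5856
theorem N3777 : nd 3777 = n5857 := ndS (p := 2980) (l := 4) rfl N2980 D5857
theorem N3778 : nd 3778 = n5858 := ndS (p := 2980) (l := 6) rfl N2980 D5858
theorem N3779 : nd 3779 = n5859 := ndS (p := 2981) (l := 5) rfl N2981 D5859
theorem N3780 : nd 3780 = n5860 := ndS (p := 2982) (l := 4) rfl N2982 D5860
theorem N3781 : nd 3781 = n5861 := ndS (p := 2982) (l := 6) rfl N2982 D5861
theorem N3782 : nd 3782 = n5862 := ndS (p := 2983) (l := 3) rfl N2983 D5862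
theorem N3783 : nd 3783 = n5863 := ndS (p := 2983) (l := 6) rfl N2983 D5863
theorem N3784 : nd 3784 = n5864 := ndS (p := 2984) (l := 7) rfl N2984 D5864
theorem N3785 : nd 3785 = n5865 := ndS (p := 2985) (l := 4) rfl N2985 D5865
theorem N3786 : nd 3786 = n5866 := ndS (p := 2985) (l := 6) rfl N2985 D5866
theorem N3787 : nd 3787 = n5867 := ndS (p := 2986) (l := 3) rfl N2986 D5867
theorem N3788 : nd 3788 = n5868 := ndS (p := 2986) (l := 6) rfl N2986 D5868
theorem N3789 : nd 3789 = n5869 := ndS (p := 2987) (l := 7) rfl N2987 D5869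
theorem N3790 : nd 3790 = n5870 := ndS (p := 2988) (l := 6) rfl N2988 D5870
theorem N3791 : nd 3791 = n5871 := ndS (p := 2989) (l := 5) rfl N2989 D5871
theorem N3792 : nd 3792 = n5872 := ndS (p := 2989) (l := 7) rfl N2989 D5872
theorem N3793 : nd 3793 = n5873 := ndS (p := 2991) (l := 3) rfl N2991 D5873
theorem N3794 : nd 3794 = n5874 := ndS (p := 2991) (l := 6) rfl N2991 D5874
theorem N3795 : nd 3795 = n5875 := ndS (p := 2992) (l := 7) rfl N2992 D5875
theorem N3796 : nd 3796 = n5876 := ndS (p := 2993) (l := 2) rfl N2993 D5876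
theorem N3797 : nd 3797 = n5877 := ndS (p := 2993) (l := 6) rfl N2993 D5877
theorem N3798 : nd 3798 = n5878 := ndS (p := 2994) (l := 5) rfl N2994 D5878
theorem N3799 : nd 3799 = n5879 := ndS (p := 2994) (l := 7) rfl N2994 D5879
theorem N3800 : nd 3800 = n5880 := ndS (p := 2996) (l := 7) rfl N2996 D5880
theorem N3801 : nd 3801 = n5881 := ndS (p := 2996) (l := 8) rfl N2996 D5881
theorem N3802 : nd 3802 = n5882 := ndS (p := 2998) (l := 2) rfl N2998 D5882
theorem N3803 : nd 3803 = n5886 := ndS (p := 3000) (l := 1) rfl N3000 D5886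
theorem N3804 : nd 3804 = n5887 := ndS (p := 3000) (l := 6) rfl N3000 D5887
theorem N3805 : nd 3805 = n5888 := ndS (p := 3001) (l := 7) rfl N3001 D5888
theorem N3806 : nd 3806 = n5899 := ndS (p := 3007) (l := 3) rfl N3007 D5899
theorem N3807 : nd 3807 = n5902 := ndS (p := 3008) (l := 2) rfl N3008 D5902
theorem N3808 : nd 3808 = n5903 := ndS (p := 3008) (l := 6) rfl N3008 D5903
theorem N3809 : nd 3809 = n5904 := ndS (p := 3009) (l := 5) rfl N3009 D5904
theorem N3810 : nd 3810 = n5909 := ndS (p := 3011) (l := 8) rfl N3011 D5909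
theorem N3811 : nd 3811 = n5911 := ndS (p := 3013) (l := 8) rfl N3013 D5911
theorem N3812 : nd 3812 = n5912 := ndS (p := 3014) (l := 9) rfl N3014 D5912
theorem N3813 : nd 3813 = n5913 := ndS (p := 3015) (l := 9) rfl N3015 D5913
theorem N3814 : nd 3814 = n5914 := ndS (p := 3016) (l := 9) rfl N3016 D5914
theorem N3815 : nd 3815 = n5915 := ndS (p := 3017) (l := 8) rfl N3017 D5915
theorem N3816 : nd 3816 = n5916 := ndS (p := 3018) (l := 8) rfl N3018 D5916
theorem N3817 : nd 3817 = n5917 := ndS (p := 3019) (l := 5) rfl N3019 D5917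
theorem N3818 : nd 3818 = n5918 := ndS (p := 3020) (l := 5) rfl N3020 D5918
theorem N3819 : nd 3819 = n5919 := ndS (p := 3021) (l := 6) rfl N3021 D5919
theorem N3820 : nd 3820 = n5920 := ndS (p := 3022) (l := 5) rfl N3022 D5920
theorem N3821 : nd 3821 = n5921 := ndS (p := 3023) (l := 4) rfl N3023 D5921
theorem N3822 : nd 3822 = n5922 := ndS (p := 3024) (l := 9) rfl N3024 D5922
theorem N3823 : nd 3823 = n5923 := ndS (p := 3025) (l := 5) rfl N3025 D5923
theorem N3824 : nd 3824 = n5924 := ndS (p := 3025) (l := 9) rfl N3025 D5924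
theorem N3825 : nd 3825 = n5925 := ndS (p := 3026) (l := 8) rfl N3026 D5925
theorem N3826 : nd 3826 = n5926 := ndS (p := 3027) (l := 4) rfl N3027 D5926
theorem N3827 : nd 3827 = n5927 := ndS (p := 3027) (l := 7) rfl N3027 D5927
theorem N3828 : nd 3828 = n5928 := ndS (p := 3027) (l := 9) rfl N3027 D5928
theorem N3829 : nd 3829 = n5929 := ndS (p := 3028) (l := 9) rfl N3028 D5929
theorem N3830 : nd 3830 = n5930 := ndS (p := 3029) (l := 8) rfl N3029 D5930
theorem N3831 : nd 3831 = n5931 := ndS (p := 3030) (l := 5) rfl N3030 D5931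
theorem N3832 : nd 3832 = n5932 := ndS (p := 3031) (l := 9) rfl N3031 D5932
theorem N3833 : nd 3833 = n5933 := ndS (p := 3032) (l := 9) rfl N3032 D5933
theorem N3834 : nd 3834 = n5934 := ndS (p := 3033) (l := 8) rfl N3033 D5934
theorem N3835 : nd 3835 = n5935 := ndS (p := 3034) (l := 8) rfl N3034 D5935
theorem N3836 : nd 3836 = n5936 := ndS (p := 3035) (l := 5) rfl N3035 D5936
theorem N3837 : nd 3837 = n5937 := ndS (p := 3036) (l := 4) rfl N3036 D5937
theorem N3838 : nd 3838 = n5938 := ndS (p := 3036) (l := 6) rfl N3036 D5938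
theorem N3839 : nd 3839 = n5939 := ndS (p := 3037) (l := 8) rfl N3037 D5939
theorem N3840 : nd 3840 = n5940 := ndS (p := 3038) (l := 5) rfl N3038 D5940
theorem N3841 : nd 3841 = n5941 := ndS (p := 3039) (l := 5) rfl N3039 D5941
theorem N3842 : nd 3842 = n5942 := ndS (p := 3040) (l := 4) rfl N3040 D5942
theorem N3843 : nd 3843 = n5943 := ndS (p := 3040) (l := 6) rfl N3040 D5943
theorem N3844 : nd 3844 = n5944 := ndS (p := 3041) (l := 7) rfl N3041 D5944
theorem N3845 : nd 3845 = n5945 := ndS (p := 3042) (l := 4) rfl N3042 D5945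
theorem N3846 : nd 3846 = n5946 := ndS (p := 3042) (l := 6) rfl N3042 D5946
theorem N3847 : nd 3847 = n5947 := ndS (p := 3043) (l := 3) rfl N3043 D5947
theorem N3848 : nd 3848 = n5948 := ndS (p := 3044) (l := 5) rfl N3044 D5948
theorem N3849 : nd 3849 = n5949 := ndS (p := 3044) (l := 9) rfl N3044 D5949
theorem N3850 : nd 3850 = n5950 := ndS (p := 3045) (l := 8) rfl N3045 D5950
theorem N3851 : nd 3851 = n5951 := ndS (p := 3046) (l := 4) rfl N3046 D5951
theorem N3852 : nd 3852 = n5952 := ndS (p := 3046) (l := 9) rfl N3046 D5952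
theorem N3853 : nd 3853 = n5953 := ndS (p := 3047) (l := 8) rfl N3047 D5953
theorem N3854 : nd 3854 = n5954 := ndS (p := 3048) (l := 5) rfl N3048 D5954
theorem N3855 : nd 3855 = n5955 := ndS (p := 3049) (l := 3) rfl N3049 D5955
theorem N3856 : nd 3856 = n5956 := ndS (p := 3049) (l := 9) rfl N3049 D5956
theorem N3857 : nd 3857 = n5957 := ndS (p := 3050) (l := 8) rfl N3050 D5957
theorem N3858 : nd 3858 = n5958 := ndS (p := 3051) (l := 5) rfl N3051 D5958
theorem N3859 : nd 3859 = n5959 := ndS (p := 3052) (l := 4) rfl N3052 D5959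
theorem N3860 : nd 3860 = n5960 := ndS (p := 3052) (l := 6) rfl N3052 D5960
theorem N3861 : nd 3861 = n5961 := ndS (p := 3053) (l := 8) rfl N3053 D5961
theorem N3862 : nd 3862 = n5962 := ndS (p := 3054) (l := 5) rfl N3054 D5962
theorem N3863 : nd 3863 = n5963 := ndS (p := 3055) (l := 4) rfl N3055 D5963
theorem N3864 : nd 3864 = n5964 := ndS (p := 3055) (l := 6) rfl N3055 D5964
theorem N3865 : nd 3865 = n5965 := ndS (p := 3056) (l := 6) rfl N3056 D5965
theorem N3866 : nd 3866 = n5966 := ndS (p := 3057) (l := 7) rfl N3057 D5966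
theorem N3867 : nd 3867 = n5967 := ndS (p := 3058) (l := 4) rfl N3058 D5967
theorem N3868 : nd 3868 = n5968 := ndS (p := 3058) (l := 6) rfl N3058 D5968
theorem N3869 : nd 3869 = n5969 := ndS (p := 3059) (l := 3) rfl N3059 D5969
theorem N3870 : nd 3870 = n5970 := ndS (p := 3059) (l := 6) rfl N3059 D5970
theorem N3871 : nd 3871 = n5971 := ndS (p := 3060) (l := 7) rfl N3060 D5971
theorem N3872 : nd 3872 = n5972 := ndS (p := 3062) (l := 2) rfl N3062 D5972
theorem N3873 : nd 3873 = n5973 := ndS (p := 3063) (l := 8) rfl N3063 D5973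
theorem N3874 : nd 3874 = n5974 := ndS (p := 3064) (l := 5) rfl N3064 D5974
theorem N3875 : nd 3875 = n5975 := ndS (p := 3065) (l := 5) rfl N3065 D5975
theorem N3876 : nd 3876 = n5976 := ndS (p := 3066) (l := 4) rfl N3066 D5976
theorem N3877 : nd 3877 = n5977 := ndS (p := 3066) (l := 6) rfl N3066 D5977
theorem N3878 : nd 3878 = n5978 := ndS (p := 3067) (l := 4) rfl N3067 D5978
theorem N3879 : nd 3879 = n5979 := ndS (p := 3067) (l := 6) rfl N3067 D5979
theorem N3880 : nd 3880 = n5980 := ndS (p := 3068) (l := 3) rfl N3068 D5980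
theorem N3881 : nd 3881 = n5981 := ndS (p := 3068) (l := 6) rfl N3068 D5981
theorem N3882 : nd 3882 = n5982 := ndS (p := 3069) (l := 7) rfl N3069 D5982
theorem N3883 : nd 3883 = n5983 := ndS (p := 3070) (l := 3) rfl N3070 D5983
theorem N3884 : nd 3884 = n5984 := ndS (p := 3070) (l := 6) rfl N3070 D5984
theorem N3885 : nd 3885 = n5985 := ndS (p := 3071) (l := 7) rfl N3071 D5985
theorem N3886 : nd 3886 = n5986 := ndS (p := 3072) (l := 5) rfl N3072 D5986
theorem N3887 : nd 3887 = n5987 := ndS (p := 3072) (l := 7) rfl N3072 D5987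
theorem N3888 : nd 3888 = n5988 := ndS (p := 3074) (l := 2) rfl N3074 D5988
theorem N3889 : nd 3889 = n5989 := ndS (p := 3074) (l := 6) rfl N3074 D5989
theorem N3890 : nd 3890 = n5990 := ndS (p := 3075) (l := 7) rfl N3075 D5990
theorem N3891 : nd 3891 = n5991 := ndS (p := 3077) (l := 1) rfl N3077 D5991
theorem N3892 : nd 3892 = n5993 := ndS (p := 3079) (l := 5) rfl N3079 D5993
theorem N3893 : nd 3893 = n5994 := ndS (p := 3079) (l := 9) rfl N3079 D5994
theorem N3894 : nd 3894 = n5995 := ndS (p := 3080) (l := 8) rfl N3080 D5995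
theorem N3895 : nd 3895 = n5996 := ndS (p := 3081) (l := 4) rfl N3081 D5996
theorem N3896 : nd 3896 = n5997 := ndS (p := 3081) (l := 7) rfl N3081 D5997
theorem N3897 : nd 3897 = n5998 := ndS (p := 3081) (l := 8) rfl N3081 D5998
theorem N3898 : nd 3898 = n5999 := ndS (p := 3081) (l := 9) rfl N3081 D5999
theorem N3899 : nd 3899 = n6000 := ndS (p := 3082) (l := 9) rfl N3082 D6000
theorem N3900 : nd 3900 = n6001 := ndS (p := 3083) (l := 8) rfl N3083 D6001
theorem N3901 : nd 3901 = n6002 := ndS (p := 3084) (l := 5) rfl N3084 D6002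
theorem N3902 : nd 3902 = n6003 := ndS (p := 3085) (l := 3) rfl N3085 D6003
theorem N3903 : nd 3903 = n6004 := ndS (p := 3085) (l := 9) rfl N3085 D6004
theorem N3904 : nd 3904 = n6005 := ndS (p := 3086) (l := 6) rfl N3086 D6005
theorem N3905 : nd 3905 = n6006 := ndS (p := 3086) (l := 9) rfl N3086 D6006
theorem N3906 : nd 3906 = n6007 := ndS (p := 3087) (l := 9) rfl N3087 D6007
theorem N3907 : nd 3907 = n6008 := ndS (p := 3088) (l := 8) rfl N3088 D6008
theorem N3908 : nd 3908 = n6009 := ndS (p := 3089) (l := 8) rfl N3089 D6009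
theorem N3909 : nd 3909 = n6010 := ndS (p := 3090) (l := 5) rfl N3090 D6010
theorem N3910 : nd 3910 = n6011 := ndS (p := 3091) (l := 4) rfl N3091 D6011
theorem N3911 : nd 3911 = n6012 := ndS (p := 3091) (l := 6) rfl N3091 D6012
theorem N3912 : nd 3912 = n6013 := ndS (p := 3092) (l := 9) rfl N3092 D6013
theorem N3913 : nd 3913 = n6014 := ndS (p := 3093) (l := 9) rfl N3093 D6014
theorem N3914 : nd 3914 = n6015 := ndS (p := 3094) (l := 8) rfl N3094 D6015
theorem N3915 : nd 3915 = n6016 := ndS (p := 3095) (l := 9) rfl N3095 D6016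
theorem N3916 : nd 3916 = n6017 := ndS (p := 3096) (l := 9) rfl N3096 D6017
theorem N3917 : nd 3917 = n6018 := ndS (p := 3097) (l := 8) rfl N3097 D6018
theorem N3918 : nd 3918 = n6019 := ndS (p := 3098) (l := 8) rfl N3098 D6019
theorem N3919 : nd 3919 = n6020 := ndS (p := 3099) (l := 5) rfl N3099 D6020
theorem N3920 : nd 3920 = n6021 := ndS (p := 3100) (l := 5) rfl N3100 D6021
theorem N3921 : nd 3921 = n6022 := ndS (p := 3101) (l := 4) rfl N3101 D6022
theorem N3922 : nd 3922 = n6023 := ndS (p := 3101) (l := 6) rfl N3101 D6023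
theorem N3923 : nd 3923 = n6024 := ndS (p := 3102) (l := 6) rfl N3102 D6024
theorem N3924 : nd 3924 = n6025 := ndS (p := 3103) (l := 7) rfl N3103 D6025
theorem N3925 : nd 3925 = n6026 := ndS (p := 3104) (l := 8) rfl N3104 D6026
theorem N3926 : nd 3926 = n6027 := ndS (p := 3105) (l := 8) rfl N3105 D6027
theorem N3927 : nd 3927 = n6028 := ndS (p := 3106) (l := 5) rfl N3106 D6028
theorem N3928 : nd 3928 = n6029 := ndS (p := 3107) (l := 5) rfl N3107 D6029
theorem N3929 : nd 3929 = n6030 := ndS (p := 3108) (l := 4) rfl N3108 D6030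
theorem N3930 : nd 3930 = n6031 := ndS (p := 3108) (l := 6) rfl N3108 D6031
theorem N3931 : nd 3931 = n6032 := ndS (p := 3109) (l := 4) rfl N3109 D6032
theorem N3932 : nd 3932 = n6033 := ndS (p := 3109) (l := 6) rfl N3109 D6033
theorem N3933 : nd 3933 = n6034 := ndS (p := 3110) (l := 3) rfl N3110 D6034
theorem N3934 : nd 3934 = n6035 := ndS (p := 3110) (l := 6) rfl N3110 D6035
theorem N3935 : nd 3935 = n6036 := ndS (p := 3111) (l := 7) rfl N3111 D6036
theorem N3936 : nd 3936 = n6037 := ndS (p := 3113) (l := 3) rfl N3113 D6037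
theorem N3937 : nd 3937 = n6038 := ndS (p := 3113) (l := 6) rfl N3113 D6038
theorem N3938 : nd 3938 = n6039 := ndS (p := 3115) (l := 2) rfl N3115 D6039
theorem N3939 : nd 3939 = n6040 := ndS (p := 3116) (l := 8) rfl N3116 D6040
theorem N3940 : nd 3940 = n6041 := ndS (p := 3116) (l := 9) rfl N3116 D6041
theorem N3941 : nd 3941 = n6042 := ndS (p := 3117) (l := 9) rfl N3117 D6042
theorem N3942 : nd 3942 = n6043 := ndS (p := 3118) (l := 8) rfl N3118 D6043
theorem N3943 : nd 3943 = n6044 := ndS (p := 3119) (l := 5) rfl N3119 D6044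
theorem N3944 : nd 3944 = n6045 := ndS (p := 3120) (l := 9) rfl N3120 D6045
theorem N3945 : nd 3945 = n6046 := ndS (p := 3121) (l := 9) rfl N3121 D6046
theorem N3946 : nd 3946 = n6047 := ndS (p := 3122) (l := 9) rfl N3122 D6047
theorem N3947 : nd 3947 = n6048 := ndS (p := 3123) (l := 8) rfl N3123 D6048
theorem N3948 : nd 3948 = n6049 := ndS (p := 3124) (l := 8) rfl N3124 D6049
theorem N3949 : nd 3949 = n6050 := ndS (p := 3125) (l := 5) rfl N3125 D6050
theorem N3950 : nd 3950 = n6051 := ndS (p := 3126) (l := 4) rfl N3126 D6051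
theorem N3951 : nd 3951 = n6052 := ndS (p := 3126) (l := 6) rfl N3126 D6052
theorem N3952 : nd 3952 = n6053 := ndS (p := 3127) (l := 8) rfl N3127 D6053
theorem N3953 : nd 3953 = n6054 := ndS (p := 3127) (l := 9) rfl N3127 D6054
theorem N3954 : nd 3954 = n6055 := ndS (p := 3128) (l := 9) rfl N3128 D6055
theorem N3955 : nd 3955 = n6056 := ndS (p := 3129) (l := 9) rfl N3129 D6056
theorem N3956 : nd 3956 = n6057 := ndS (p := 3130) (l := 8) rfl N3130 D6057
theorem N3957 : nd 3957 = n6058 := ndS (p := 3131) (l := 9) rfl N3131 D6058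
theorem N3958 : nd 3958 = n6059 := ndS (p := 3132) (l := 8) rfl N3132 D6059
theorem N3959 : nd 3959 = n6060 := ndS (p := 3133) (l := 8) rfl N3133 D6060
theorem N3960 : nd 3960 = n6061 := ndS (p := 3134) (l := 5) rfl N3134 D6061
theorem N3961 : nd 3961 = n6062 := ndS (p := 3135) (l := 5) rfl N3135 D6062
theorem N3962 : nd 3962 = n6063 := ndS (p := 3136) (l := 4) rfl N3136 D6063
theorem N3963 : nd 3963 = n6064 := ndS (p := 3136) (l := 6) rfl N3136 D6064
theorem N3964 : nd 3964 = n6065 := ndS (p := 3137) (l := 3) rfl N3137 D6065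
theorem N3965 : nd 3965 = n6066 := ndS (p := 3137) (l := 6) rfl N3137 D6066
theorem N3966 : nd 3966 = n6067 := ndS (p := 3138) (l := 7) rfl N3138 D6067
theorem N3967 : nd 3967 = n6068 := ndS (p := 3139) (l := 9) rfl N3139 D6068
theorem N3968 : nd 3968 = n6069 := ndS (p := 3140) (l := 8) rfl N3140 D6069
theorem N3969 : nd 3969 = n6070 := ndS (p := 3141) (l := 8) rfl N3141 D6070
theorem N3970 : nd 3970 = n6071 := ndS (p := 3142) (l := 5) rfl N3142 D6071
theorem N3971 : nd 3971 = n6072 := ndS (p := 3143) (l := 8) rfl N3143 D6072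
theorem N3972 : nd 3972 = n6073 := ndS (p := 3144) (l := 5) rfl N3144 D6073
theorem N3973 : nd 3973 = n6074 := ndS (p := 3145) (l := 5) rfl N3145 D6074
theorem N3974 : nd 3974 = n6075 := ndS (p := 3146) (l := 4) rfl N3146 D6075
theorem N3975 : nd 3975 = n6076 := ndS (p := 3146) (l := 6) rfl N3146 D6076
theorem N3976 : nd 3976 = n6077 := ndS (p := 3147) (l := 4) rfl N3147 D6077
theorem N3977 : nd 3977 = n6078 := ndS (p := 3147) (l := 6) rfl N3147 D6078
theorem N3978 : nd 3978 = n6079 := ndS (p := 3148) (l := 3) rfl N3148 D6079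
theorem N3979 : nd 3979 = n6080 := ndS (p := 3148) (l := 6) rfl N3148 D6080
theorem N3980 : nd 3980 = n6081 := ndS (p := 3149) (l := 7) rfl N3149 D6081
theorem N3981 : nd 3981 = n6082 := ndS (p := 3150) (l := 5) rfl N3150 D6082
theorem N3982 : nd 3982 = n6083 := ndS (p := 3150) (l := 7) rfl N3150 D6083
theorem N3983 : nd 3983 = n6084 := ndS (p := 3152) (l := 5) rfl N3152 D6084
theorem N3984 : nd 3984 = n6085 := ndS (p := 3153) (l := 4) rfl N3153 D6085
theorem N3985 : nd 3985 = n6086 := ndS (p := 3153) (l := 6) rfl N3153 D6086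
theorem N3986 : nd 3986 = n6087 := ndS (p := 3154) (l := 4) rfl N3154 D6087
theorem N3987 : nd 3987 = n6088 := ndS (p := 3154) (l := 6) rfl N3154 D6088
theorem N3988 : nd 3988 = n6089 := ndS (p := 3155) (l := 3) rfl N3155 D6089
theorem N3989 : nd 3989 = n6090 := ndS (p := 3155) (l := 6) rfl N3155 D6090
theorem N3990 : nd 3990 = n6091 := ndS (p := 3156) (l := 7) rfl N3156 D6091
theorem N3991 : nd 3991 = n6092 := ndS (p := 3157) (l := 3) rfl N3157 D6092
theorem N3992 : nd 3992 = n6093 := ndS (p := 3157) (l := 6) rfl N3157 D6093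
theorem N3993 : nd 3993 = n6094 := ndS (p := 3158) (l := 7) rfl N3158 D6094
theorem N3994 : nd 3994 = n6095 := ndS (p := 3159) (l := 2) rfl N3159 D6095
theorem N3995 : nd 3995 = n6096 := ndS (p := 3159) (l := 6) rfl N3159 D6096
theorem N3996 : nd 3996 = n6097 := ndS (p := 3160) (l := 7) rfl N3160 D6097
theorem N3997 : nd 3997 = n6098 := ndS (p := 3162) (l := 2) rfl N3162 D6098
theorem N3998 : nd 3998 = n6100 := ndS (p := 3163) (l := 5) rfl N3163 D6100
theorem N3999 : nd 3999 = n6101 := ndS (p := 3164) (l := 1) rfl N3164 D6101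
theorem N4000 : nd 4000 = n6102 := ndS (p := 3165) (l := 9) rfl N3165 D6102
theorem N4001 : nd 4001 = n6103 := ndS (p := 3166) (l := 8) rfl N3166 D6103
theorem N4002 : nd 4002 = n6104 := ndS (p := 3167) (l := 8) rfl N3167 D6104
theorem N4003 : nd 4003 = n6105 := ndS (p := 3168) (l := 5) rfl N3168 D6105
theorem N4004 : nd 4004 = n6106 := ndS (p := 3169) (l := 4) rfl N3169 D6106
theorem N4005 : nd 4005 = n6107 := ndS (p := 3169) (l := 6) rfl N3169 D6107
theorem N4006 : nd 4006 = n6108 := ndS (p := 3170) (l := 8) rfl N3170 D6108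
theorem N4007 : nd 4007 = n6109 := ndS (p := 3171) (l := 5) rfl N3171 D6109
theorem N4008 : nd 4008 = n6110 := ndS (p := 3172) (l := 5) rfl N3172 D6110
theorem N4009 : nd 4009 = n6111 := ndS (p := 3173) (l := 4) rfl N3173 D6111
theorem N4010 : nd 4010 = n6112 := ndS (p := 3173) (l := 6) rfl N3173 D6112
theorem N4011 : nd 4011 = n6113 := ndS (p := 3174) (l := 3) rfl N3174 D6113
theorem N4012 : nd 4012 = n6114 := ndS (p := 3174) (l := 6) rfl N3174 D6114
theorem N4013 : nd 4013 = n6115 := ndS (p := 3175) (l := 7) rfl N3175 D6115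
theorem N4014 : nd 4014 = n6116 := ndS (p := 3176) (l := 5) rfl N3176 D6116
theorem N4015 : nd 4015 = n6117 := ndS (p := 3177) (l := 4) rfl N3177 D6117
theorem N4016 : nd 4016 = n6118 := ndS (p := 3177) (l := 6) rfl N3177 D6118
theorem N4017 : nd 4017 = n6119 := ndS (p := 3178) (l := 4) rfl N3178 D6119
theorem N4018 : nd 4018 = n6120 := ndS (p := 3178) (l := 6) rfl N3178 D6120
theorem N4019 : nd 4019 = n6121 := ndS (p := 3179) (l := 3) rfl N3179 D6121
theorem N4020 : nd 4020 = n6122 := ndS (p := 3179) (l := 6) rfl N3179 D6122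
theorem N4021 : nd 4021 = n6123 := ndS (p := 3180) (l := 7) rfl N3180 D6123
theorem N4022 : nd 4022 = n6124 := ndS (p := 3181) (l := 6) rfl N3181 D6124
theorem N4023 : nd 4023 = n6125 := ndS (p := 3182) (l := 5) rfl N3182 D6125
theorem N4024 : nd 4024 = n6126 := ndS (p := 3182) (l := 7) rfl N3182 D6126
theorem N4025 : nd 4025 = n6127 := ndS (p := 3184) (l := 4) rfl N3184 D6127
theorem N4026 : nd 4026 = n6128 := ndS (p := 3184) (l := 6) rfl N3184 D6128
theorem N4027 : nd 4027 = n6129 := ndS (p := 3185) (l := 3) rfl N3185 D6129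
theorem N4028 : nd 4028 = n6130 := ndS (p := 3185) (l := 6) rfl N3185 D6130
theorem N4029 : nd 4029 = n6131 := ndS (p := 3186) (l := 7) rfl N3186 D6131
theorem N4030 : nd 4030 = n6132 := ndS (p := 3187) (l := 3) rfl N3187 D6132
theorem N4031 : nd 4031 = n6133 := ndS (p := 3187) (l := 6) rfl N3187 D6133
theorem N4032 : nd 4032 = n6134 := ndS (p := 3188) (l := 7) rfl N3188 D6134
theorem N4033 : nd 4033 = n6135 := ndS (p := 3189) (l := 2) rfl N3189 D6135
theorem N4034 : nd 4034 = n6136 := ndS (p := 3189) (l := 6) rfl N3189 D6136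
theorem N4035 : nd 4035 = n6137 := ndS (p := 3190) (l := 5) rfl N3190 D6137
theorem N4036 : nd 4036 = n6138 := ndS (p := 3190) (l := 7) rfl N3190 D6138
theorem N4037 : nd 4037 = n6139 := ndS (p := 3192) (l := 7) rfl N3192 D6139
theorem N4038 : nd 4038 = n6140 := ndS (p := 3192) (l := 8) rfl N3192 D6140
theorem N4039 : nd 4039 = n6141 := ndS (p := 3194) (l := 3) rfl N3194 D6141
theorem N4040 : nd 4040 = n6142 := ndS (p := 3194) (l := 6) rfl N3194 D6142
theorem N4041 : nd 4041 = n6143 := ndS (p := 3195) (l := 7) rfl N3195 D6143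
theorem N4042 : nd 4042 = n6144 := ndS (p := 3196) (l := 2) rfl N3196 D6144
theorem N4043 : nd 4043 = n6145 := ndS (p := 3196) (l := 6) rfl N3196 D6145
theorem N4044 : nd 4044 = n6146 := ndS (p := 3197) (l := 5) rfl N3197 D6146
theorem N4045 : nd 4045 = n6147 := ndS (p := 3197) (l := 7) rfl N3197 D6147
theorem N4046 : nd 4046 = n6148 := ndS (p := 3199) (l := 2) rfl N3199 D6148
theorem N4047 : nd 4047 = n6149 := ndS (p := 3199) (l := 6) rfl N3199 D6149
theorem N4048 : nd 4048 = n6150 := ndS (p := 3200) (l := 5) rfl N3200 D6150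
theorem N4049 : nd 4049 = n6151 := ndS (p := 3200) (l := 7) rfl N3200 D6151
theorem N4050 : nd 4050 = n6152 := ndS (p := 3202) (l := 1) rfl N3202 D6152
theorem N4051 : nd 4051 = n6153 := ndS (p := 3202) (l := 6) rfl N3202 D6153
theorem N4052 : nd 4052 = n6154 := ndS (p := 3203) (l := 7) rfl N3203 D6154
theorem N4053 : nd 4053 = n6159 := ndS (p := 3208) (l := 2) rfl N3208 D6159
theorem N4054 : nd 4054 = n6160 := ndS (p := 3208) (l := 6) rfl N3208 D6160
theorem N4055 : nd 4055 = n6161 := ndS (p := 3209) (l := 5) rfl N3209 D6161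
theorem N4056 : nd 4056 = n6162 := ndS (p := 3210) (l := 1) rfl N3210 D6162
theorem N4057 : nd 4057 = n6163 := ndS (p := 3210) (l := 6) rfl N3210 D6163
theorem N4058 : nd 4058 = n6164 := ndS (p := 3211) (l := 5) rfl N3211 D6164
theorem N4059 : nd 4059 = n6169 := ndS (p := 3215) (l := 8) rfl N3215 D6169
theorem N4060 : nd 4060 = n6170 := ndS (p := 3216) (l := 8) rfl N3216 D6170
theorem N4061 : nd 4061 = n6171 := ndS (p := 3217) (l := 5) rfl N3217 D6171
theorem N4062 : nd 4062 = n6172 := ndS (p := 3218) (l := 4) rfl N3218 D6172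
theorem N4063 : nd 4063 = n6174 := ndS (p := 3219) (l := 8) rfl N3219 D6174
theorem N4064 : nd 4064 = n6175 := ndS (p := 3220) (l := 8) rfl N3220 D6175
theorem N4065 : nd 4065 = n6176 := ndS (p := 3221) (l := 5) rfl N3221 D6176
theorem N4066 : nd 4066 = n6177 := ndS (p := 3222) (l := 5) rfl N3222 D6177
theorem N4067 : nd 4067 = n6178 := ndS (p := 3223) (l := 4) rfl N3223 D6178
theorem N4068 : nd 4068 = n6179 := ndS (p := 3223) (l := 6) rfl N3223 D6179
theorem N4069 : nd 4069 = n6180 := ndS (p := 3224) (l := 3) rfl N3224 D6180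
theorem N4070 : nd 4070 = n6183 := ndS (p := 3226) (l := 8) rfl N3226 D6183
theorem N4071 : nd 4071 = n6184 := ndS (p := 3227) (l := 8) rfl N3227 D6184
theorem N4072 : nd 4072 = n6185 := ndS (p := 3228) (l := 5) rfl N3228 D6185
theorem N4073 : nd 4073 = n6186 := ndS (p := 3229) (l := 8) rfl N3229 D6186
theorem N4074 : nd 4074 = n6187 := ndS (p := 3230) (l := 5) rfl N3230 D6187
theorem N4075 : nd 4075 = n6188 := ndS (p := 3231) (l := 4) rfl N3231 D6188
theorem N4076 : nd 4076 = n6189 := ndS (p := 3231) (l := 6) rfl N3231 D6189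
theorem N4077 : nd 4077 = n6190 := ndS (p := 3232) (l := 4) rfl N3232 D6190
theorem N4078 : nd 4078 = n6191 := ndS (p := 3232) (l := 6) rfl N3232 D6191
theorem N4079 : nd 4079 = n6192 := ndS (p := 3233) (l := 3) rfl N3233 D6192
theorem N4080 : nd 4080 = n6193 := ndS (p := 3233) (l := 6) rfl N3233 D6193
theorem N4081 : nd 4081 = n6194 := ndS (p := 3234) (l := 7) rfl N3234 D6194
theorem N4082 : nd 4082 = n6195 := ndS (p := 3235) (l := 6) rfl N3235 D6195
theorem N4083 : nd 4083 = n6196 := ndS (p := 3236) (l := 5) rfl N3236 D6196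
theorem N4084 : nd 4084 = n6198 := ndS (p := 3238) (l := 8) rfl N3238 D6198
theorem N4085 : nd 4085 = n6199 := ndS (p := 3239) (l := 5) rfl N3239 D6199
theorem N4086 : nd 4086 = n6200 := ndS (p := 3240) (l := 4) rfl N3240 D6200
theorem N4087 : nd 4087 = n6201 := ndS (p := 3240) (l := 6) rfl N3240 D6201
theorem N4088 : nd 4088 = n6202 := ndS (p := 3241) (l := 5) rfl N3241 D6202
theorem N4089 : nd 4089 = n6203 := ndS (p := 3242) (l := 4) rfl N3242 D6203
theorem N4090 : nd 4090 = n6204 := ndS (p := 3242) (l := 6) rfl N3242 D6204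
theorem N4091 : nd 4091 = n6205 := ndS (p := 3243) (l := 3) rfl N3243 D6205
theorem N4092 : nd 4092 = n6206 := ndS (p := 3243) (l := 6) rfl N3243 D6206
theorem N4093 : nd 4093 = n6207 := ndS (p := 3244) (l := 7) rfl N3244 D6207
theorem N4094 : nd 4094 = n6208 := ndS (p := 3245) (l := 3) rfl N3245 D6208
theorem N4095 : nd 4095 = n6209 := ndS (p := 3245) (l := 6) rfl N3245 D6209
theorem N4096 : nd 4096 = n6210 := ndS (p := 3246) (l := 7) rfl N3246 D6210
theorem N4097 : nd 4097 = n6211 := ndS (p := 3247) (l := 2) rfl N3247 D6211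
theorem N4098 : nd 4098 = n6212 := ndS (p := 3247) (l := 6) rfl N3247 D6212
theorem N4099 : nd 4099 = n6213 := ndS (p := 3248) (l := 5) rfl N3248 D6213
theorem N4100 : nd 4100 = n6214 := ndS (p := 3248) (l := 7) rfl N3248 D6214
theorem N4101 : nd 4101 = n6215 := ndS (p := 3250) (l := 7) rfl N3250 D6215
theorem N4102 : nd 4102 = n6216 := ndS (p := 3250) (l := 8) rfl N3250 D6216
theorem N4103 : nd 4103 = n6217 := ndS (p := 3252) (l := 4) rfl N3252 D6217
theorem N4104 : nd 4104 = n6218 := ndS (p := 3252) (l := 6) rfl N3252 D6218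
theorem N4105 : nd 4105 = n6219 := ndS (p := 3253) (l := 3) rfl N3253 D6219
theorem N4106 : nd 4106 = n6221 := ndS (p := 3254) (l := 7) rfl N3254 D6221
theorem N4107 : nd 4107 = n6222 := ndS (p := 3255) (l := 2) rfl N3255 D6222
theorem N4108 : nd 4108 = n6223 := ndS (p := 3255) (l := 6) rfl N3255 D6223
theorem N4109 : nd 4109 = n6224 := ndS (p := 3256) (l := 5) rfl N3256 D6224
theorem N4110 : nd 4110 = n6225 := ndS (p := 3256) (l := 7) rfl N3256 D6225
theorem N4111 : nd 4111 = n6231 := ndS (p := 3260) (l := 6) rfl N3260 D6231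
theorem N4112 : nd 4112 = n6232 := ndS (p := 3261) (l := 7) rfl N3261 D6232
theorem N4113 : nd 4113 = n6238 := ndS (p := 3263) (l := 5) rfl N3263 D6238
theorem N4114 : nd 4114 = n6239 := ndS (p := 3264) (l := 4) rfl N3264 D6239
theorem N4115 : nd 4115 = n6244 := ndS (p := 3266) (l := 4) rfl N3266 D6244
theorem N4116 : nd 4116 = n6245 := ndS (p := 3266) (l := 6) rfl N3266 D6245
theorem N4117 : nd 4117 = n6246 := ndS (p := 3267) (l := 3) rfl N3267 D6246
theorem N4118 : nd 4118 = n6247 := ndS (p := 3267) (l := 6) rfl N3267 D6247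
theorem N4119 : nd 4119 = n6253 := ndS (p := 3270) (l := 3) rfl N3270 D6253
theorem N4120 : nd 4120 = n6254 := ndS (p := 3270) (l := 6) rfl N3270 D6254
theorem N4121 : nd 4121 = n6255 := ndS (p := 3271) (l := 7) rfl N3271 D6255
theorem N4122 : nd 4122 = n6256 := ndS (p := 3272) (l := 2) rfl N3272 D6256
theorem N4123 : nd 4123 = n6257 := ndS (p := 3272) (l := 6) rfl N3272 D6257
theorem N4124 : nd 4124 = n6258 := ndS (p := 3273) (l := 5) rfl N3273 D6258
theorem N4125 : nd 4125 = n6259 := ndS (p := 3273) (l := 7) rfl N3273 D6259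
theorem N4126 : nd 4126 = n6260 := ndS (p := 3275) (l := 5) rfl N3275 D6260
theorem N4127 : nd 4127 = n6263 := ndS (p := 3276) (l := 8) rfl N3276 D6263
theorem N4128 : nd 4128 = n6266 := ndS (p := 3278) (l := 5) rfl N3278 D6266
theorem N4129 : nd 4129 = n6267 := ndS (p := 3278) (l := 7) rfl N3278 D6267
theorem N4130 : nd 4130 = n6269 := ndS (p := 3280) (l := 6) rfl N3280 D6269
theorem N4131 : nd 4131 = n6270 := ndS (p := 3281) (l := 5) rfl N3281 D6270
theorem N4132 : nd 4132 = n6271 := ndS (p := 3281) (l := 7) rfl N3281 D6271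
theorem N4133 : nd 4133 = n6272 := ndS (p := 3282) (l := 7) rfl N3282 D6272
theorem N4134 : nd 4134 = n6273 := ndS (p := 3282) (l := 8) rfl N3282 D6273
theorem N4135 : nd 4135 = n6274 := ndS (p := 3284) (l := 6) rfl N3284 D6274
theorem N4136 : nd 4136 = n6275 := ndS (p := 3284) (l := 8) rfl N3284 D6275
theorem N4137 : nd 4137 = n6276 := ndS (p := 3285) (l := 9) rfl N3285 D6276
theorem N4138 : nd 4138 = n6310 := ndS (p := 3288) (l := 9) rfl N3288 D6310
theorem N4139 : nd 4139 = n6311 := ndS (p := 3289) (l := 8) rfl N3289 D6311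
theorem N4140 : nd 4140 = n6312 := ndS (p := 3290) (l := 9) rfl N3290 D6312
theorem N4141 : nd 4141 = n6313 := ndS (p := 3292) (l := 9) rfl N3292 D6313
theorem N4142 : nd 4142 = n6314 := ndS (p := 3293) (l := 9) rfl N3293 D6314
theorem N4143 : nd 4143 = n6315 := ndS (p := 3294) (l := 8) rfl N3294 D6315
theorem N4144 : nd 4144 = n6316 := ndS (p := 3295) (l := 5) rfl N3295 D6316
theorem N4145 : nd 4145 = n6317 := ndS (p := 3296) (l := 8) rfl N3296 D6317
theorem N4146 : nd 4146 = n6318 := ndS (p := 3297) (l := 8) rfl N3297 D6318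
theorem N4147 : nd 4147 = n6319 := ndS (p := 3298) (l := 5) rfl N3298 D6319
theorem N4148 : nd 4148 = n6320 := ndS (p := 3299) (l := 4) rfl N3299 D6320
theorem N4149 : nd 4149 = n6321 := ndS (p := 3299) (l := 6) rfl N3299 D6321
theorem N4150 : nd 4150 = n6322 := ndS (p := 3300) (l := 8) rfl N3300 D6322
theorem N4151 : nd 4151 = n6323 := ndS (p := 3301) (l := 8) rfl N3301 D6323
theorem N4152 : nd 4152 = n6324 := ndS (p := 3302) (l := 8) rfl N3302 D6324
theorem N4153 : nd 4153 = n6325 := ndS (p := 3303) (l := 5) rfl N3303 D6325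
theorem N4154 : nd 4154 = n6326 := ndS (p := 3304) (l := 5) rfl N3304 D6326
theorem N4155 : nd 4155 = n6327 := ndS (p := 3305) (l := 4) rfl N3305 D6327
theorem N4156 : nd 4156 = n6328 := ndS (p := 3305) (l := 6) rfl N3305 D6328
theorem N4157 : nd 4157 = n6329 := ndS (p := 3306) (l := 3) rfl N3306 D6329
theorem N4158 : nd 4158 = n6330 := ndS (p := 3306) (l := 6) rfl N3306 D6330
theorem N4159 : nd 4159 = n6331 := ndS (p := 3307) (l := 7) rfl N3307 D6331
theorem N4160 : nd 4160 = n6332 := ndS (p := 3308) (l := 5) rfl N3308 D6332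
theorem N4161 : nd 4161 = n6333 := ndS (p := 3309) (l := 8) rfl N3309 D6333
theorem N4162 : nd 4162 = n6334 := ndS (p := 3310) (l := 5) rfl N3310 D6334
theorem N4163 : nd 4163 = n6335 := ndS (p := 3311) (l := 5) rfl N3311 D6335
theorem N4164 : nd 4164 = n6336 := ndS (p := 3312) (l := 4) rfl N3312 D6336
theorem N4165 : nd 4165 = n6337 := ndS (p := 3312) (l := 6) rfl N3312 D6337
theorem N4166 : nd 4166 = n6338 := ndS (p := 3313) (l := 4) rfl N3313 D6338
theorem N4167 : nd 4167 = n6339 := ndS (p := 3313) (l := 6) rfl N3313 D6339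
theorem N4168 : nd 4168 = n6340 := ndS (p := 3314) (l := 3) rfl N3314 D6340
theorem N4169 : nd 4169 = n6341 := ndS (p := 3314) (l := 6) rfl N3314 D6341
theorem N4170 : nd 4170 = n6342 := ndS (p := 3315) (l := 7) rfl N3315 D6342
theorem N4171 : nd 4171 = n6343 := ndS (p := 3316) (l := 5) rfl N3316 D6343
theorem N4172 : nd 4172 = n6344 := ndS (p := 3316) (l := 7) rfl N3316 D6344
theorem N4173 : nd 4173 = n6345 := ndS (p := 3318) (l := 8) rfl N3318 D6345
theorem N4174 : nd 4174 = n6346 := ndS (p := 3319) (l := 5) rfl N3319 D6346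
theorem N4175 : nd 4175 = n6347 := ndS (p := 3320) (l := 5) rfl N3320 D6347
theorem N4176 : nd 4176 = n6348 := ndS (p := 3321) (l := 4) rfl N3321 D6348
theorem N4177 : nd 4177 = n6349 := ndS (p := 3321) (l := 6) rfl N3321 D6349
theorem N4178 : nd 4178 = n6350 := ndS (p := 3322) (l := 4) rfl N3322 D6350
theorem N4179 : nd 4179 = n6351 := ndS (p := 3322) (l := 6) rfl N3322 D6351
theorem N4180 : nd 4180 = n6352 := ndS (p := 3323) (l := 3) rfl N3323 D6352
theorem N4181 : nd 4181 = n6353 := ndS (p := 3323) (l := 6) rfl N3323 D6353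
theorem N4182 : nd 4182 = n6354 := ndS (p := 3324) (l := 7) rfl N3324 D6354
theorem N4183 : nd 4183 = n6355 := ndS (p := 3325) (l := 3) rfl N3325 D6355
theorem N4184 : nd 4184 = n6356 := ndS (p := 3325) (l := 6) rfl N3325 D6356
theorem N4185 : nd 4185 = n6357 := ndS (p := 3326) (l := 7) rfl N3326 D6357
theorem N4186 : nd 4186 = n6358 := ndS (p := 3327) (l := 2) rfl N3327 D6358
theorem N4187 : nd 4187 = n6359 := ndS (p := 3327) (l := 6) rfl N3327 D6359
theorem N4188 : nd 4188 = n6360 := ndS (p := 3328) (l := 7) rfl N3328 D6360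
theorem N4189 : nd 4189 = n6361 := ndS (p := 3330) (l := 2) rfl N3330 D6361
theorem N4190 : nd 4190 = n6362 := ndS (p := 3330) (l := 6) rfl N3330 D6362
theorem N4191 : nd 4191 = n6363 := ndS (p := 3331) (l := 5) rfl N3331 D6363
theorem N4192 : nd 4192 = n6364 := ndS (p := 3332) (l := 1) rfl N3332 D6364
theorem N4193 : nd 4193 = n6365 := ndS (p := 3333) (l := 9) rfl N3333 D6365
theorem N4194 : nd 4194 = n6366 := ndS (p := 3334) (l := 8) rfl N3334 D6366
theorem N4195 : nd 4195 = n6367 := ndS (p := 3335) (l := 8) rfl N3335 D6367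
theorem N4196 : nd 4196 = n6368 := ndS (p := 3336) (l := 5) rfl N3336 D6368
theorem N4197 : nd 4197 = n6369 := ndS (p := 3337) (l := 4) rfl N3337 D6369
theorem N4198 : nd 4198 = n6370 := ndS (p := 3337) (l := 6) rfl N3337 D6370
theorem N4199 : nd 4199 = n6371 := ndS (p := 3338) (l := 8) rfl N3338 D6371
theorem N4200 : nd 4200 = n6372 := ndS (p := 3339) (l := 8) rfl N3339 D6372
theorem N4201 : nd 4201 = n6373 := ndS (p := 3340) (l := 8) rfl N3340 D6373
theorem N4202 : nd 4202 = n6374 := ndS (p := 3341) (l := 5) rfl N3341 D6374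
theorem N4203 : nd 4203 = n6375 := ndS (p := 3342) (l := 5) rfl N3342 D6375
theorem N4204 : nd 4204 = n6376 := ndS (p := 3343) (l := 4) rfl N3343 D6376
theorem N4205 : nd 4205 = n6377 := ndS (p := 3343) (l := 6) rfl N3343 D6377
theorem N4206 : nd 4206 = n6379 := ndS (p := 3344) (l := 6) rfl N3344 D6379
theorem N4207 : nd 4207 = n6380 := ndS (p := 3345) (l := 7) rfl N3345 D6380
theorem N4208 : nd 4208 = n6381 := ndS (p := 3346) (l := 8) rfl N3346 D6381
theorem N4209 : nd 4209 = n6382 := ndS (p := 3347) (l := 5) rfl N3347 D6382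
theorem N4210 : nd 4210 = n6383 := ndS (p := 3348) (l := 8) rfl N3348 D6383
theorem N4211 : nd 4211 = n6384 := ndS (p := 3349) (l := 8) rfl N3349 D6384
theorem N4212 : nd 4212 = n6385 := ndS (p := 3350) (l := 5) rfl N3350 D6385
theorem N4213 : nd 4213 = n6386 := ndS (p := 3351) (l := 5) rfl N3351 D6386
theorem N4214 : nd 4214 = n6387 := ndS (p := 3352) (l := 4) rfl N3352 D6387
theorem N4215 : nd 4215 = n6388 := ndS (p := 3352) (l := 6) rfl N3352 D6388
theorem N4216 : nd 4216 = n6389 := ndS (p := 3353) (l := 4) rfl N3353 D6389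
theorem N4217 : nd 4217 = n6390 := ndS (p := 3353) (l := 6) rfl N3353 D6390
theorem N4218 : nd 4218 = n6391 := ndS (p := 3354) (l := 3) rfl N3354 D6391
theorem N4219 : nd 4219 = n6392 := ndS (p := 3354) (l := 6) rfl N3354 D6392
theorem N4220 : nd 4220 = n6393 := ndS (p := 3355) (l := 7) rfl N3355 D6393
theorem N4221 : nd 4221 = n6394 := ndS (p := 3356) (l := 6) rfl N3356 D6394
theorem N4222 : nd 4222 = n6395 := ndS (p := 3357) (l := 5) rfl N3357 D6395
theorem N4223 : nd 4223 = n6396 := ndS (p := 3357) (l := 7) rfl N3357 D6396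
theorem N4224 : nd 4224 = n6397 := ndS (p := 3359) (l := 5) rfl N3359 D6397
theorem N4225 : nd 4225 = n6398 := ndS (p := 3360) (l := 5) rfl N3360 D6398
theorem N4226 : nd 4226 = n6399 := ndS (p := 3361) (l := 4) rfl N3361 D6399
theorem N4227 : nd 4227 = n6400 := ndS (p := 3361) (l := 6) rfl N3361 D6400
theorem N4228 : nd 4228 = n6401 := ndS (p := 3362) (l := 5) rfl N3362 D6401
theorem N4229 : nd 4229 = n6402 := ndS (p := 3363) (l := 5) rfl N3363 D6402
theorem N4230 : nd 4230 = n6403 := ndS (p := 3364) (l := 4) rfl N3364 D6403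
theorem N4231 : nd 4231 = n6404 := ndS (p := 3364) (l := 6) rfl N3364 D6404
theorem N4232 : nd 4232 = n6405 := ndS (p := 3365) (l := 4) rfl N3365 D6405
theorem N4233 : nd 4233 = n6406 := ndS (p := 3365) (l := 6) rfl N3365 D6406
theorem N4234 : nd 4234 = n6407 := ndS (p := 3366) (l := 3) rfl N3366 D6407
theorem N4235 : nd 4235 = n6408 := ndS (p := 3366) (l := 6) rfl N3366 D6408
theorem N4236 : nd 4236 = n6409 := ndS (p := 3367) (l := 7) rfl N3367 D6409
theorem N4237 : nd 4237 = n6410 := ndS (p := 3368) (l := 3) rfl N3368 D6410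
theorem N4238 : nd 4238 = n6411 := ndS (p := 3368) (l := 6) rfl N3368 D6411
theorem N4239 : nd 4239 = n6412 := ndS (p := 3369) (l := 7) rfl N3369 D6412
theorem N4240 : nd 4240 = n6413 := ndS (p := 3370) (l := 2) rfl N3370 D6413
theorem N4241 : nd 4241 = n6414 := ndS (p := 3370) (l := 6) rfl N3370 D6414
theorem N4242 : nd 4242 = n6415 := ndS (p := 3371) (l := 5) rfl N3371 D6415
theorem N4243 : nd 4243 = n6416 := ndS (p := 3371) (l := 7) rfl N3371 D6416
theorem N4244 : nd 4244 = n6417 := ndS (p := 3373) (l := 7) rfl N3373 D6417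
theorem N4245 : nd 4245 = n6418 := ndS (p := 3373) (l := 8) rfl N3373 D6418
theorem N4246 : nd 4246 = n6419 := ndS (p := 3375) (l := 5) rfl N3375 D6419
theorem N4247 : nd 4247 = n6420 := ndS (p := 3376) (l := 4) rfl N3376 D6420
theorem N4248 : nd 4248 = n6421 := ndS (p := 3376) (l := 6) rfl N3376 D6421
theorem N4249 : nd 4249 = n6422 := ndS (p := 3377) (l := 4) rfl N3377 D6422
theorem N4250 : nd 4250 = n6423 := ndS (p := 3377) (l := 6) rfl N3377 D6423
theorem N4251 : nd 4251 = n6424 := ndS (p := 3378) (l := 3) rfl N3378 D6424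
theorem N4252 : nd 4252 = n6425 := ndS (p := 3378) (l := 6) rfl N3378 D6425
theorem N4253 : nd 4253 = n6426 := ndS (p := 3379) (l := 7) rfl N3379 D6426
theorem N4254 : nd 4254 = n6427 := ndS (p := 3380) (l := 3) rfl N3380 D6427
theorem N4255 : nd 4255 = n6428 := ndS (p := 3380) (l := 6) rfl N3380 D6428
theorem N4256 : nd 4256 = n6429 := ndS (p := 3381) (l := 7) rfl N3381 D6429
theorem N4257 : nd 4257 = n6430 := ndS (p := 3382) (l := 2) rfl N3382 D6430
theorem N4258 : nd 4258 = n6431 := ndS (p := 3382) (l := 6) rfl N3382 D6431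
theorem N4259 : nd 4259 = n6432 := ndS (p := 3383) (l := 5) rfl N3383 D6432
theorem N4260 : nd 4260 = n6433 := ndS (p := 3383) (l := 7) rfl N3383 D6433
theorem N4261 : nd 4261 = n6437 := ndS (p := 3386) (l := 7) rfl N3386 D6437
theorem N4262 : nd 4262 = n6439 := ndS (p := 3388) (l := 6) rfl N3388 D6439
theorem N4263 : nd 4263 = n6440 := ndS (p := 3389) (l := 7) rfl N3389 D6440
theorem N4264 : nd 4264 = n6446 := ndS (p := 3391) (l := 9) rfl N3391 D6446
theorem N4265 : nd 4265 = n6447 := ndS (p := 3392) (l := 8) rfl N3392 D6447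
theorem N4266 : nd 4266 = n6448 := ndS (p := 3393) (l := 8) rfl N3393 D6448
theorem N4267 : nd 4267 = n6449 := ndS (p := 3394) (l := 5) rfl N3394 D6449
theorem N4268 : nd 4268 = n6450 := ndS (p := 3395) (l := 5) rfl N3395 D6450
theorem N4269 : nd 4269 = n6451 := ndS (p := 3396) (l := 4) rfl N3396 D6451
theorem N4270 : nd 4270 = n6452 := ndS (p := 3396) (l := 6) rfl N3396 D6452
theorem N4271 : nd 4271 = n6454 := ndS (p := 3397) (l := 6) rfl N3397 D6454
theorem N4272 : nd 4272 = n6455 := ndS (p := 3398) (l := 7) rfl N3398 D6455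
theorem N4273 : nd 4273 = n6456 := ndS (p := 3399) (l := 8) rfl N3399 D6456
theorem N4274 : nd 4274 = n6457 := ndS (p := 3400) (l := 5) rfl N3400 D6457
theorem N4275 : nd 4275 = n6458 := ndS (p := 3401) (l := 5) rfl N3401 D6458
theorem N4276 : nd 4276 = n6459 := ndS (p := 3402) (l := 4) rfl N3402 D6459
theorem N4277 : nd 4277 = n6460 := ndS (p := 3402) (l := 6) rfl N3402 D6460
theorem N4278 : nd 4278 = n6461 := ndS (p := 3403) (l := 4) rfl N3403 D6461
theorem N4279 : nd 4279 = n6462 := ndS (p := 3403) (l := 6) rfl N3403 D6462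
theorem N4280 : nd 4280 = n6464 := ndS (p := 3404) (l := 6) rfl N3404 D6464
theorem N4281 : nd 4281 = n6465 := ndS (p := 3405) (l := 7) rfl N3405 D6465
theorem N4282 : nd 4282 = n6469 := ndS (p := 3406) (l := 7) rfl N3406 D6469
theorem N4283 : nd 4283 = n6470 := ndS (p := 3408) (l := 5) rfl N3408 D6470
theorem N4284 : nd 4284 = n6471 := ndS (p := 3409) (l := 4) rfl N3409 D6471
theorem N4285 : nd 4285 = n6472 := ndS (p := 3409) (l := 6) rfl N3409 D6472
theorem N4286 : nd 4286 = n6473 := ndS (p := 3410) (l := 4) rfl N3410 D6473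
theorem N4287 : nd 4287 = n6474 := ndS (p := 3410) (l := 6) rfl N3410 D6474
theorem N4288 : nd 4288 = n6475 := ndS (p := 3411) (l := 3) rfl N3411 D6475
theorem N4289 : nd 4289 = n6476 := ndS (p := 3411) (l := 6) rfl N3411 D6476
theorem N4290 : nd 4290 = n6477 := ndS (p := 3412) (l := 7) rfl N3412 D6477
theorem N4291 : nd 4291 = n6478 := ndS (p := 3413) (l := 3) rfl N3413 D6478
theorem N4292 : nd 4292 = n6479 := ndS (p := 3413) (l := 6) rfl N3413 D6479
theorem N4293 : nd 4293 = n6480 := ndS (p := 3414) (l := 7) rfl N3414 D6480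
theorem N4294 : nd 4294 = n6481 := ndS (p := 3415) (l := 2) rfl N3415 D6481
theorem N4295 : nd 4295 = n6482 := ndS (p := 3415) (l := 6) rfl N3415 D6482
theorem N4296 : nd 4296 = n6483 := ndS (p := 3416) (l := 5) rfl N3416 D6483
theorem N4297 : nd 4297 = n6484 := ndS (p := 3416) (l := 7) rfl N3416 D6484
theorem N4298 : nd 4298 = n6486 := ndS (p := 3418) (l := 7) rfl N3418 D6486
theorem N4299 : nd 4299 = n6487 := ndS (p := 3419) (l := 7) rfl N3419 D6487
theorem N4300 : nd 4300 = n6488 := ndS (p := 3419) (l := 8) rfl N3419 D6488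
theorem N4301 : nd 4301 = n6489 := ndS (p := 3421) (l := 4) rfl N3421 D6489
theorem N4302 : nd 4302 = n6490 := ndS (p := 3421) (l := 6) rfl N3421 D6490
theorem N4303 : nd 4303 = n6491 := ndS (p := 3422) (l := 3) rfl N3422 D6491
theorem N4304 : nd 4304 = n6492 := ndS (p := 3422) (l := 6) rfl N3422 D6492
theorem N4305 : nd 4305 = n6493 := ndS (p := 3423) (l := 7) rfl N3423 D6493
theorem N4306 : nd 4306 = n6494 := ndS (p := 3424) (l := 3) rfl N3424 D6494
theorem N4307 : nd 4307 = n6495 := ndS (p := 3424) (l := 6) rfl N3424 D6495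
theorem N4308 : nd 4308 = n6496 := ndS (p := 3425) (l := 7) rfl N3425 D6496
theorem N4309 : nd 4309 = n6497 := ndS (p := 3426) (l := 2) rfl N3426 D6497
theorem N4310 : nd 4310 = n6498 := ndS (p := 3426) (l := 6) rfl N3426 D6498
theorem N4311 : nd 4311 = n6499 := ndS (p := 3427) (l := 5) rfl N3427 D6499
theorem N4312 : nd 4312 = n6500 := ndS (p := 3427) (l := 7) rfl N3427 D6500
theorem N4313 : nd 4313 = n6504 := ndS (p := 3430) (l := 7) rfl N3430 D6504
theorem N4314 : nd 4314 = n6506 := ndS (p := 3432) (l := 6) rfl N3432 D6506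
theorem N4315 : nd 4315 = n6507 := ndS (p := 3433) (l := 5) rfl N3433 D6507
theorem N4316 : nd 4316 = n6508 := ndS (p := 3433) (l := 7) rfl N3433 D6508
theorem N4317 : nd 4317 = n6509 := ndS (p := 3434) (l := 7) rfl N3434 D6509
theorem N4318 : nd 4318 = n6510 := ndS (p := 3434) (l := 8) rfl N3434 D6510
theorem N4319 : nd 4319 = n6511 := ndS (p := 3436) (l := 6) rfl N3436 D6511
theorem N4320 : nd 4320 = n6512 := ndS (p := 3436) (l := 8) rfl N3436 D6512
theorem N4321 : nd 4321 = n6513 := ndS (p := 3437) (l := 9) rfl N3437 D6513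
theorem N4322 : nd 4322 = n6514 := ndS (p := 3438) (l := 3) rfl N3438 D6514
theorem N4323 : nd 4323 = n6515 := ndS (p := 3438) (l := 6) rfl N3438 D6515
theorem N4324 : nd 4324 = n6516 := ndS (p := 3439) (l := 7) rfl N3439 D6516
theorem N4325 : nd 4325 = n6519 := ndS (p := 3441) (l := 7) rfl N3441 D6519
theorem N4326 : nd 4326 = n6520 := ndS (p := 3443) (l := 2) rfl N3443 D6520
theorem N4327 : nd 4327 = n6521 := ndS (p := 3443) (l := 6) rfl N3443 D6521
theorem N4328 : nd 4328 = n6522 := ndS (p := 3444) (l := 5) rfl N3444 D6522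
theorem N4329 : nd 4329 = n6523 := ndS (p := 3444) (l := 7) rfl N3444 D6523
theorem N4330 : nd 4330 = n6525 := ndS (p := 3446) (l := 6) rfl N3446 D6525
theorem N4331 : nd 4331 = n6526 := ndS (p := 3447) (l := 5) rfl N3447 D6526
theorem N4332 : nd 4332 = n6527 := ndS (p := 3447) (l := 7) rfl N3447 D6527
theorem N4333 : nd 4333 = n6528 := ndS (p := 3448) (l := 7) rfl N3448 D6528
theorem N4334 : nd 4334 = n6544 := ndS (p := 3454) (l := 6) rfl N3454 D6544
theorem N4335 : nd 4335 = n6545 := ndS (p := 3455) (l := 5) rfl N3455 D6545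
theorem N4336 : nd 4336 = n6546 := ndS (p := 3456) (l := 8) rfl N3456 D6546
theorem N4337 : nd 4337 = n6549 := ndS (p := 3457) (l := 5) rfl N3457 D6549
theorem N4338 : nd 4338 = n6550 := ndS (p := 3458) (l := 4) rfl N3458 D6550
theorem N4339 : nd 4339 = n6554 := ndS (p := 3459) (l := 5) rfl N3459 D6554
theorem N4340 : nd 4340 = n6555 := ndS (p := 3460) (l := 5) rfl N3460 D6555
theorem N4341 : nd 4341 = n6556 := ndS (p := 3461) (l := 4) rfl N3461 D6556
theorem N4342 : nd 4342 = n6561 := ndS (p := 3463) (l := 5) rfl N3463 D6561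
theorem N4343 : nd 4343 = n6562 := ndS (p := 3464) (l := 5) rfl N3464 D6562
theorem N4344 : nd 4344 = n6563 := ndS (p := 3465) (l := 4) rfl N3465 D6563
theorem N4345 : nd 4345 = n6565 := ndS (p := 3466) (l := 4) rfl N3466 D6565
theorem N4346 : nd 4346 = n6574 := ndS (p := 3468) (l := 5) rfl N3468 D6574
theorem N4347 : nd 4347 = n6575 := ndS (p := 3469) (l := 5) rfl N3469 D6575
theorem N4348 : nd 4348 = n6576 := ndS (p := 3470) (l := 4) rfl N3470 D6576
theorem N4349 : nd 4349 = n6577 := ndS (p := 3470) (l := 6) rfl N3470 D6577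
theorem N4350 : nd 4350 = n6578 := ndS (p := 3471) (l := 5) rfl N3471 D6578
theorem N4351 : nd 4351 = n6579 := ndS (p := 3472) (l := 4) rfl N3472 D6579
theorem N4352 : nd 4352 = n6580 := ndS (p := 3472) (l := 6) rfl N3472 D6580
theorem N4353 : nd 4353 = n6581 := ndS (p := 3473) (l := 3) rfl N3473 D6581
theorem N4354 : nd 4354 = n6582 := ndS (p := 3473) (l := 6) rfl N3473 D6582
theorem N4355 : nd 4355 = n6584 := ndS (p := 3475) (l := 3) rfl N3475 D6584
theorem N4356 : nd 4356 = n6585 := ndS (p := 3475) (l := 6) rfl N3475 D6585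
theorem N4357 : nd 4357 = n6595 := ndS (p := 3479) (l := 5) rfl N3479 D6595
theorem N4358 : nd 4358 = n6596 := ndS (p := 3480) (l := 4) rfl N3480 D6596
theorem N4359 : nd 4359 = n6597 := ndS (p := 3480) (l := 6) rfl N3480 D6597
theorem N4360 : nd 4360 = n6598 := ndS (p := 3481) (l := 3) rfl N3481 D6598
theorem N4361 : nd 4361 = n6599 := ndS (p := 3481) (l := 6) rfl N3481 D6599
theorem N4362 : nd 4362 = n6600 := ndS (p := 3482) (l := 7) rfl N3482 D6600
theorem N4363 : nd 4363 = n6601 := ndS (p := 3483) (l := 4) rfl N3483 D6601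
theorem N4364 : nd 4364 = n6602 := ndS (p := 3483) (l := 6) rfl N3483 D6602
theorem N4365 : nd 4365 = n6605 := ndS (p := 3485) (l := 7) rfl N3485 D6605
theorem N4366 : nd 4366 = n6606 := ndS (p := 3486) (l := 2) rfl N3486 D6606
theorem N4367 : nd 4367 = n6607 := ndS (p := 3486) (l := 6) rfl N3486 D6607
theorem N4368 : nd 4368 = n6608 := ndS (p := 3487) (l := 5) rfl N3487 D6608
theorem N4369 : nd 4369 = n6616 := ndS (p := 3491) (l := 5) rfl N3491 D6616
theorem N4370 : nd 4370 = n6619 := ndS (p := 3492) (l := 8) rfl N3492 D6619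
theorem N4371 : nd 4371 = n6622 := ndS (p := 3493) (l := 9) rfl N3493 D6622
theorem N4372 : nd 4372 = n6623 := ndS (p := 3494) (l := 3) rfl N3494 D6623
theorem N4373 : nd 4373 = n6625 := ndS (p := 3495) (l := 7) rfl N3495 D6625
theorem N4374 : nd 4374 = n6632 := ndS (p := 3497) (l := 5) rfl N3497 D6632
theorem N4375 : nd 4375 = n6634 := ndS (p := 3498) (l := 7) rfl N3498 D6634
theorem N4376 : nd 4376 = n6650 := ndS (p := 3500) (l := 4) rfl N3500 D6650
theorem N4377 : nd 4377 = n6698 := ndS (p := 3505) (l := 8) rfl N3505 D6698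
theorem N4378 : nd 4378 = n6701 := ndS (p := 3506) (l := 9) rfl N3506 D6701
theorem N4379 : nd 4379 = n6777 := ndS (p := 3512) (l := 4) rfl N3512 D6777
theorem N4380 : nd 4380 = n7042 := ndS (p := 3517) (l := 5) rfl N3517 D7042
theorem N4381 : nd 4381 = n7043 := ndS (p := 3518) (l := 5) rfl N3518 D7043
theorem N4382 : nd 4382 = n7044 := ndS (p := 3519) (l := 6) rfl N3519 D7044
theorem N4383 : nd 4383 = n7045 := ndS (p := 3520) (l := 4) rfl N3520 D7045
theorem N4384 : nd 4384 = n7046 := ndS (p := 3521) (l := 9) rfl N3521 D7046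
theorem N4385 : nd 4385 = n7047 := ndS (p := 3522) (l := 8) rfl N3522 D7047
theorem N4386 : nd 4386 = n7048 := ndS (p := 3523) (l := 5) rfl N3523 D7048
theorem N4387 : nd 4387 = n7049 := ndS (p := 3524) (l := 4) rfl N3524 D7049
theorem N4388 : nd 4388 = n7050 := ndS (p := 3524) (l := 6) rfl N3524 D7050
theorem N4389 : nd 4389 = n7051 := ndS (p := 3525) (l := 7) rfl N3525 D7051
theorem N4390 : nd 4390 = n7052 := ndS (p := 3526) (l := 8) rfl N3526 D7052
theorem N4391 : nd 4391 = n7053 := ndS (p := 3527) (l := 5) rfl N3527 D7053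
theorem N4392 : nd 4392 = n7054 := ndS (p := 3528) (l := 4) rfl N3528 D7054
theorem N4393 : nd 4393 = n7055 := ndS (p := 3528) (l := 6) rfl N3528 D7055
theorem N4394 : nd 4394 = n7056 := ndS (p := 3529) (l := 6) rfl N3529 D7056
theorem N4395 : nd 4395 = n7057 := ndS (p := 3530) (l := 7) rfl N3530 D7057
theorem N4396 : nd 4396 = n7058 := ndS (p := 3532) (l := 8) rfl N3532 D7058
theorem N4397 : nd 4397 = n7059 := ndS (p := 3533) (l := 5) rfl N3533 D7059
theorem N4398 : nd 4398 = n7060 := ndS (p := 3534) (l := 6) rfl N3534 D7060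
theorem N4399 : nd 4399 = n7061 := ndS (p := 3535) (l := 4) rfl N3535 D7061
theorem N4400 : nd 4400 = n7062 := ndS (p := 3536) (l := 9) rfl N3536 D7062
theorem N4401 : nd 4401 = n7063 := ndS (p := 3537) (l := 8) rfl N3537 D7063
theorem N4402 : nd 4402 = n7064 := ndS (p := 3538) (l := 9) rfl N3538 D7064
theorem N4403 : nd 4403 = n7065 := ndS (p := 3539) (l := 8) rfl N3539 D7065
theorem N4404 : nd 4404 = n7066 := ndS (p := 3540) (l := 5) rfl N3540 D7066
theorem N4405 : nd 4405 = n7067 := ndS (p := 3541) (l := 8) rfl N3541 D7067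
theorem N4406 : nd 4406 = n7068 := ndS (p := 3542) (l := 5) rfl N3542 D7068
theorem N4407 : nd 4407 = n7069 := ndS (p := 3543) (l := 4) rfl N3543 D7069
theorem N4408 : nd 4408 = n7070 := ndS (p := 3543) (l := 6) rfl N3543 D7070
theorem N4409 : nd 4409 = n7071 := ndS (p := 3544) (l := 8) rfl N3544 D7071
theorem N4410 : nd 4410 = n7072 := ndS (p := 3545) (l := 5) rfl N3545 D7072
theorem N4411 : nd 4411 = n7073 := ndS (p := 3546) (l := 5) rfl N3546 D7073
theorem N4412 : nd 4412 = n7074 := ndS (p := 3547) (l := 4) rfl N3547 D7074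
theorem N4413 : nd 4413 = n7075 := ndS (p := 3547) (l := 6) rfl N3547 D7075
theorem N4414 : nd 4414 = n7076 := ndS (p := 3548) (l := 7) rfl N3548 D7076
theorem N4415 : nd 4415 = n7077 := ndS (p := 3549) (l := 4) rfl N3549 D7077
theorem N4416 : nd 4416 = n7078 := ndS (p := 3549) (l := 6) rfl N3549 D7078
theorem N4417 : nd 4417 = n7079 := ndS (p := 3550) (l := 3) rfl N3550 D7079
theorem N4418 : nd 4418 = n7080 := ndS (p := 3551) (l := 5) rfl N3551 D7080
theorem N4419 : nd 4419 = n7081 := ndS (p := 3551) (l := 9) rfl N3551 D7081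
theorem N4420 : nd 4420 = n7082 := ndS (p := 3552) (l := 8) rfl N3552 D7082
theorem N4421 : nd 4421 = n7083 := ndS (p := 3553) (l := 9) rfl N3553 D7083
theorem N4422 : nd 4422 = n7084 := ndS (p := 3554) (l := 8) rfl N3554 D7084
theorem N4423 : nd 4423 = n7085 := ndS (p := 3555) (l := 5) rfl N3555 D7085
theorem N4424 : nd 4424 = n7086 := ndS (p := 3556) (l := 3) rfl N3556 D7086
theorem N4425 : nd 4425 = n7087 := ndS (p := 3556) (l := 9) rfl N3556 D7087
theorem N4426 : nd 4426 = n7088 := ndS (p := 3557) (l := 8) rfl N3557 D7088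
theorem N4427 : nd 4427 = n7089 := ndS (p := 3558) (l := 5) rfl N3558 D7089
theorem N4428 : nd 4428 = n7090 := ndS (p := 3559) (l := 4) rfl N3559 D7090
theorem N4429 : nd 4429 = n7091 := ndS (p := 3559) (l := 6) rfl N3559 D7091
theorem N4430 : nd 4430 = n7092 := ndS (p := 3560) (l := 8) rfl N3560 D7092
theorem N4431 : nd 4431 = n7093 := ndS (p := 3561) (l := 5) rfl N3561 D7093
theorem N4432 : nd 4432 = n7094 := ndS (p := 3562) (l := 4) rfl N3562 D7094
theorem N4433 : nd 4433 = n7095 := ndS (p := 3562) (l := 6) rfl N3562 D7095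
theorem N4434 : nd 4434 = n7096 := ndS (p := 3563) (l := 6) rfl N3563 D7096
theorem N4435 : nd 4435 = n7097 := ndS (p := 3564) (l := 7) rfl N3564 D7097
theorem N4436 : nd 4436 = n7098 := ndS (p := 3565) (l := 4) rfl N3565 D7098
theorem N4437 : nd 4437 = n7099 := ndS (p := 3565) (l := 6) rfl N3565 D7099
theorem N4438 : nd 4438 = n7100 := ndS (p := 3566) (l := 3) rfl N3566 D7100
theorem N4439 : nd 4439 = n7101 := ndS (p := 3566) (l := 6) rfl N3566 D7101
theorem N4440 : nd 4440 = n7102 := ndS (p := 3567) (l := 7) rfl N3567 D7102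
theorem N4441 : nd 4441 = n7103 := ndS (p := 3569) (l := 2) rfl N3569 D7103
theorem N4442 : nd 4442 = n7104 := ndS (p := 3570) (l := 8) rfl N3570 D7104
theorem N4443 : nd 4443 = n7105 := ndS (p := 3571) (l := 5) rfl N3571 D7105
theorem N4444 : nd 4444 = n7106 := ndS (p := 3572) (l := 5) rfl N3572 D7106
theorem N4445 : nd 4445 = n7107 := ndS (p := 3573) (l := 4) rfl N3573 D7107
theorem N4446 : nd 4446 = n7108 := ndS (p := 3573) (l := 6) rfl N3573 D7108
theorem N4447 : nd 4447 = n7109 := ndS (p := 3574) (l := 4) rfl N3574 D7109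
theorem N4448 : nd 4448 = n7110 := ndS (p := 3574) (l := 6) rfl N3574 D7110
theorem N4449 : nd 4449 = n7111 := ndS (p := 3575) (l := 3) rfl N3575 D7111
theorem N4450 : nd 4450 = n7112 := ndS (p := 3575) (l := 6) rfl N3575 D7112
theorem N4451 : nd 4451 = n7113 := ndS (p := 3576) (l := 7) rfl N3576 D7113
theorem N4452 : nd 4452 = n7114 := ndS (p := 3577) (l := 3) rfl N3577 D7114
theorem N4453 : nd 4453 = n7115 := ndS (p := 3577) (l := 6) rfl N3577 D7115
theorem N4454 : nd 4454 = n7116 := ndS (p := 3578) (l := 7) rfl N3578 D7116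
theorem N4455 : nd 4455 = n7117 := ndS (p := 3579) (l := 5) rfl N3579 D7117
theorem N4456 : nd 4456 = n7118 := ndS (p := 3579) (l := 7) rfl N3579 D7118
theorem N4457 : nd 4457 = n7119 := ndS (p := 3581) (l := 2) rfl N3581 D7119
theorem N4458 : nd 4458 = n7120 := ndS (p := 3581) (l := 6) rfl N3581 D7120
theorem N4459 : nd 4459 = n7121 := ndS (p := 3582) (l := 7) rfl N3582 D7121
theorem N4460 : nd 4460 = n7124 := ndS (p := 3585) (l := 5) rfl N3585 D7124
theorem N4461 : nd 4461 = n7125 := ndS (p := 3585) (l := 9) rfl N3585 D7125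
theorem N4462 : nd 4462 = n7126 := ndS (p := 3586) (l := 8) rfl N3586 D7126
theorem N4463 : nd 4463 = n7127 := ndS (p := 3587) (l := 4) rfl N3587 D7127
theorem N4464 : nd 4464 = n7128 := ndS (p := 3587) (l := 9) rfl N3587 D7128
theorem N4465 : nd 4465 = n7129 := ndS (p := 3588) (l := 8) rfl N3588 D7129
theorem N4466 : nd 4466 = n7130 := ndS (p := 3589) (l := 5) rfl N3589 D7130
theorem N4467 : nd 4467 = n7131 := ndS (p := 3590) (l := 3) rfl N3590 D7131
theorem N4468 : nd 4468 = n7132 := ndS (p := 3590) (l := 7) rfl N3590 D7132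
theorem N4469 : nd 4469 = n7133 := ndS (p := 3590) (l := 8) rfl N3590 D7133
theorem N4470 : nd 4470 = n7134 := ndS (p := 3590) (l := 9) rfl N3590 D7134
theorem N4471 : nd 4471 = n7135 := ndS (p := 3591) (l := 6) rfl N3591 D7135
theorem N4472 : nd 4472 = n7136 := ndS (p := 3591) (l := 8) rfl N3591 D7136
theorem N4473 : nd 4473 = n7137 := ndS (p := 3591) (l := 9) rfl N3591 D7137
theorem N4474 : nd 4474 = n7138 := ndS (p := 3592) (l := 9) rfl N3592 D7138
theorem N4475 : nd 4475 = n7139 := ndS (p := 3593) (l := 8) rfl N3593 D7139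
theorem N4476 : nd 4476 = n7140 := ndS (p := 3594) (l := 8) rfl N3594 D7140
theorem N4477 : nd 4477 = n7141 := ndS (p := 3595) (l := 5) rfl N3595 D7141
theorem N4478 : nd 4478 = n7142 := ndS (p := 3596) (l := 4) rfl N3596 D7142
theorem N4479 : nd 4479 = n7143 := ndS (p := 3596) (l := 6) rfl N3596 D7143
theorem N4480 : nd 4480 = n7144 := ndS (p := 3597) (l := 9) rfl N3597 D7144
theorem N4481 : nd 4481 = n7145 := ndS (p := 3598) (l := 9) rfl N3598 D7145
theorem N4482 : nd 4482 = n7146 := ndS (p := 3599) (l := 8) rfl N3599 D7146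
theorem N4483 : nd 4483 = n7147 := ndS (p := 3600) (l := 9) rfl N3600 D7147
theorem N4484 : nd 4484 = n7148 := ndS (p := 3601) (l := 9) rfl N3601 D7148
theorem N4485 : nd 4485 = n7149 := ndS (p := 3602) (l := 8) rfl N3602 D7149
theorem N4486 : nd 4486 = n7150 := ndS (p := 3603) (l := 8) rfl N3603 D7150
theorem N4487 : nd 4487 = n7151 := ndS (p := 3604) (l := 5) rfl N3604 D7151
theorem N4488 : nd 4488 = n7152 := ndS (p := 3605) (l := 5) rfl N3605 D7152
theorem N4489 : nd 4489 = n7153 := ndS (p := 3606) (l := 4) rfl N3606 D7153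
theorem N4490 : nd 4490 = n7154 := ndS (p := 3606) (l := 6) rfl N3606 D7154
theorem N4491 : nd 4491 = n7155 := ndS (p := 3607) (l := 6) rfl N3607 D7155
theorem N4492 : nd 4492 = n7156 := ndS (p := 3608) (l := 7) rfl N3608 D7156
theorem N4493 : nd 4493 = n7157 := ndS (p := 3609) (l := 8) rfl N3609 D7157
theorem N4494 : nd 4494 = n7158 := ndS (p := 3610) (l := 8) rfl N3610 D7158
theorem N4495 : nd 4495 = n7159 := ndS (p := 3611) (l := 5) rfl N3611 D7159
theorem N4496 : nd 4496 = n7160 := ndS (p := 3612) (l := 5) rfl N3612 D7160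
theorem N4497 : nd 4497 = n7161 := ndS (p := 3613) (l := 4) rfl N3613 D7161
theorem N4498 : nd 4498 = n7162 := ndS (p := 3613) (l := 6) rfl N3613 D7162
theorem N4499 : nd 4499 = n7163 := ndS (p := 3614) (l := 4) rfl N3614 D7163
theorem N4500 : nd 4500 = n7164 := ndS (p := 3614) (l := 6) rfl N3614 D7164
theorem N4501 : nd 4501 = n7165 := ndS (p := 3615) (l := 3) rfl N3615 D7165
theorem N4502 : nd 4502 = n7166 := ndS (p := 3615) (l := 6) rfl N3615 D7166
theorem N4503 : nd 4503 = n7167 := ndS (p := 3616) (l := 7) rfl N3616 D7167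
theorem N4504 : nd 4504 = n7168 := ndS (p := 3618) (l := 3) rfl N3618 D7168
theorem N4505 : nd 4505 = n7169 := ndS (p := 3618) (l := 6) rfl N3618 D7169
theorem N4506 : nd 4506 = n7170 := ndS (p := 3620) (l := 2) rfl N3620 D7170
theorem N4507 : nd 4507 = n7171 := ndS (p := 3621) (l := 4) rfl N3621 D7171
theorem N4508 : nd 4508 = n7172 := ndS (p := 3621) (l := 7) rfl N3621 D7172
theorem N4509 : nd 4509 = n7173 := ndS (p := 3621) (l := 8) rfl N3621 D7173
theorem N4510 : nd 4510 = n7174 := ndS (p := 3621) (l := 9) rfl N3621 D7174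
theorem N4511 : nd 4511 = n7175 := ndS (p := 3622) (l := 9) rfl N3622 D7175
theorem N4512 : nd 4512 = n7176 := ndS (p := 3623) (l := 8) rfl N3623 D7176
theorem N4513 : nd 4513 = n7177 := ndS (p := 3624) (l := 5) rfl N3624 D7177
theorem N4514 : nd 4514 = n7178 := ndS (p := 3625) (l := 7) rfl N3625 D7178
theorem N4515 : nd 4515 = n7179 := ndS (p := 3625) (l := 9) rfl N3625 D7179
theorem N4516 : nd 4516 = n7180 := ndS (p := 3626) (l := 6) rfl N3626 D7180
theorem N4517 : nd 4517 = n7181 := ndS (p := 3626) (l := 9) rfl N3626 D7181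
theorem N4518 : nd 4518 = n7182 := ndS (p := 3627) (l := 9) rfl N3627 D7182
theorem N4519 : nd 4519 = n7183 := ndS (p := 3628) (l := 8) rfl N3628 D7183
theorem N4520 : nd 4520 = n7184 := ndS (p := 3629) (l := 8) rfl N3629 D7184
theorem N4521 : nd 4521 = n7185 := ndS (p := 3630) (l := 5) rfl N3630 D7185
theorem N4522 : nd 4522 = n7186 := ndS (p := 3631) (l := 4) rfl N3631 D7186
theorem N4523 : nd 4523 = n7187 := ndS (p := 3631) (l := 6) rfl N3631 D7187
theorem N4524 : nd 4524 = n7188 := ndS (p := 3632) (l := 9) rfl N3632 D7188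
theorem N4525 : nd 4525 = n7189 := ndS (p := 3633) (l := 9) rfl N3633 D7189
theorem N4526 : nd 4526 = n7190 := ndS (p := 3634) (l := 9) rfl N3634 D7190
theorem N4527 : nd 4527 = n7191 := ndS (p := 3635) (l := 8) rfl N3635 D7191
theorem N4528 : nd 4528 = n7192 := ndS (p := 3636) (l := 9) rfl N3636 D7192
theorem N4529 : nd 4529 = n7193 := ndS (p := 3637) (l := 8) rfl N3637 D7193
theorem N4530 : nd 4530 = n7194 := ndS (p := 3638) (l := 8) rfl N3638 D7194
theorem N4531 : nd 4531 = n7195 := ndS (p := 3639) (l := 5) rfl N3639 D7195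
theorem N4532 : nd 4532 = n7196 := ndS (p := 3640) (l := 5) rfl N3640 D7196
theorem N4533 : nd 4533 = n7197 := ndS (p := 3641) (l := 4) rfl N3641 D7197
theorem N4534 : nd 4534 = n7198 := ndS (p := 3641) (l := 6) rfl N3641 D7198
theorem N4535 : nd 4535 = n7199 := ndS (p := 3642) (l := 3) rfl N3642 D7199
theorem N4536 : nd 4536 = n7200 := ndS (p := 3642) (l := 6) rfl N3642 D7200
theorem N4537 : nd 4537 = n7201 := ndS (p := 3643) (l := 7) rfl N3643 D7201
theorem N4538 : nd 4538 = n7202 := ndS (p := 3644) (l := 9) rfl N3644 D7202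
theorem N4539 : nd 4539 = n7203 := ndS (p := 3645) (l := 8) rfl N3645 D7203
theorem N4540 : nd 4540 = n7204 := ndS (p := 3646) (l := 8) rfl N3646 D7204
theorem N4541 : nd 4541 = n7205 := ndS (p := 3647) (l := 5) rfl N3647 D7205
theorem N4542 : nd 4542 = n7206 := ndS (p := 3648) (l := 8) rfl N3648 D7206
theorem N4543 : nd 4543 = n7207 := ndS (p := 3649) (l := 5) rfl N3649 D7207
theorem N4544 : nd 4544 = n7208 := ndS (p := 3650) (l := 5) rfl N3650 D7208
theorem N4545 : nd 4545 = n7209 := ndS (p := 3651) (l := 4) rfl N3651 D7209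
theorem N4546 : nd 4546 = n7210 := ndS (p := 3651) (l := 6) rfl N3651 D7210
theorem N4547 : nd 4547 = n7211 := ndS (p := 3652) (l := 4) rfl N3652 D7211
theorem N4548 : nd 4548 = n7212 := ndS (p := 3652) (l := 6) rfl N3652 D7212
theorem N4549 : nd 4549 = n7213 := ndS (p := 3653) (l := 3) rfl N3653 D7213
theorem N4550 : nd 4550 = n7214 := ndS (p := 3653) (l := 6) rfl N3653 D7214
theorem N4551 : nd 4551 = n7215 := ndS (p := 3654) (l := 7) rfl N3654 D7215
theorem N4552 : nd 4552 = n7216 := ndS (p := 3655) (l := 5) rfl N3655 D7216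
theorem N4553 : nd 4553 = n7217 := ndS (p := 3655) (l := 7) rfl N3655 D7217
theorem N4554 : nd 4554 = n7218 := ndS (p := 3657) (l := 5) rfl N3657 D7218
theorem N4555 : nd 4555 = n7219 := ndS (p := 3658) (l := 4) rfl N3658 D7219
theorem N4556 : nd 4556 = n7220 := ndS (p := 3658) (l := 6) rfl N3658 D7220
theorem N4557 : nd 4557 = n7221 := ndS (p := 3659) (l := 4) rfl N3659 D7221
theorem N4558 : nd 4558 = n7222 := ndS (p := 3659) (l := 6) rfl N3659 D7222
theorem N4559 : nd 4559 = n7223 := ndS (p := 3660) (l := 3) rfl N3660 D7223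
theorem N4560 : nd 4560 = n7224 := ndS (p := 3660) (l := 6) rfl N3660 D7224
theorem N4561 : nd 4561 = n7225 := ndS (p := 3661) (l := 7) rfl N3661 D7225
theorem N4562 : nd 4562 = n7226 := ndS (p := 3662) (l := 3) rfl N3662 D7226
theorem N4563 : nd 4563 = n7227 := ndS (p := 3662) (l := 6) rfl N3662 D7227
theorem N4564 : nd 4564 = n7228 := ndS (p := 3663) (l := 7) rfl N3663 D7228
theorem N4565 : nd 4565 = n7229 := ndS (p := 3664) (l := 2) rfl N3664 D7229
theorem N4566 : nd 4566 = n7230 := ndS (p := 3664) (l := 6) rfl N3664 D7230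
theorem N4567 : nd 4567 = n7231 := ndS (p := 3665) (l := 7) rfl N3665 D7231
theorem N4568 : nd 4568 = n7232 := ndS (p := 3667) (l := 2) rfl N3667 D7232
theorem N4569 : nd 4569 = n7234 := ndS (p := 3668) (l := 5) rfl N3668 D7234
theorem N4570 : nd 4570 = n7235 := ndS (p := 3669) (l := 1) rfl N3669 D7235
theorem N4571 : nd 4571 = n7236 := ndS (p := 3670) (l := 9) rfl N3670 D7236
theorem N4572 : nd 4572 = n7237 := ndS (p := 3671) (l := 8) rfl N3671 D7237
theorem N4573 : nd 4573 = n7238 := ndS (p := 3672) (l := 8) rfl N3672 D7238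
theorem N4574 : nd 4574 = n7239 := ndS (p := 3673) (l := 5) rfl N3673 D7239
theorem N4575 : nd 4575 = n7240 := ndS (p := 3674) (l := 4) rfl N3674 D7240
theorem N4576 : nd 4576 = n7241 := ndS (p := 3674) (l := 6) rfl N3674 D7241
theorem N4577 : nd 4577 = n7242 := ndS (p := 3675) (l := 8) rfl N3675 D7242
theorem N4578 : nd 4578 = n7243 := ndS (p := 3676) (l := 5) rfl N3676 D7243
theorem N4579 : nd 4579 = n7244 := ndS (p := 3677) (l := 5) rfl N3677 D7244
theorem N4580 : nd 4580 = n7245 := ndS (p := 3678) (l := 4) rfl N3678 D7245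
theorem N4581 : nd 4581 = n7246 := ndS (p := 3678) (l := 6) rfl N3678 D7246
theorem N4582 : nd 4582 = n7247 := ndS (p := 3679) (l := 3) rfl N3679 D7247
theorem N4583 : nd 4583 = n7248 := ndS (p := 3679) (l := 6) rfl N3679 D7248
theorem N4584 : nd 4584 = n7249 := ndS (p := 3680) (l := 7) rfl N3680 D7249
theorem N4585 : nd 4585 = n7250 := ndS (p := 3681) (l := 5) rfl N3681 D7250
theorem N4586 : nd 4586 = n7251 := ndS (p := 3682) (l := 4) rfl N3682 D7251
theorem N4587 : nd 4587 = n7252 := ndS (p := 3682) (l := 6) rfl N3682 D7252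
theorem N4588 : nd 4588 = n7253 := ndS (p := 3683) (l := 4) rfl N3683 D7253
theorem N4589 : nd 4589 = n7254 := ndS (p := 3683) (l := 6) rfl N3683 D7254
theorem N4590 : nd 4590 = n7255 := ndS (p := 3684) (l := 3) rfl N3684 D7255
theorem N4591 : nd 4591 = n7256 := ndS (p := 3684) (l := 6) rfl N3684 D7256
theorem N4592 : nd 4592 = n7257 := ndS (p := 3685) (l := 7) rfl N3685 D7257
theorem N4593 : nd 4593 = n7258 := ndS (p := 3686) (l := 6) rfl N3686 D7258
theorem N4594 : nd 4594 = n7259 := ndS (p := 3687) (l := 5) rfl N3687 D7259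
theorem N4595 : nd 4595 = n7260 := ndS (p := 3687) (l := 7) rfl N3687 D7260
theorem N4596 : nd 4596 = n7261 := ndS (p := 3689) (l := 4) rfl N3689 D7261
theorem N4597 : nd 4597 = n7262 := ndS (p := 3689) (l := 6) rfl N3689 D7262
theorem N4598 : nd 4598 = n7263 := ndS (p := 3690) (l := 3) rfl N3690 D7263
theorem N4599 : nd 4599 = n7264 := ndS (p := 3690) (l := 6) rfl N3690 D7264
theorem N4600 : nd 4600 = n7265 := ndS (p := 3691) (l := 7) rfl N3691 D7265
theorem N4601 : nd 4601 = n7266 := ndS (p := 3692) (l := 3) rfl N3692 D7266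
theorem N4602 : nd 4602 = n7267 := ndS (p := 3692) (l := 6) rfl N3692 D7267
theorem N4603 : nd 4603 = n7268 := ndS (p := 3693) (l := 7) rfl N3693 D7268
theorem N4604 : nd 4604 = n7269 := ndS (p := 3694) (l := 2) rfl N3694 D7269
theorem N4605 : nd 4605 = n7270 := ndS (p := 3694) (l := 6) rfl N3694 D7270
theorem N4606 : nd 4606 = n7271 := ndS (p := 3695) (l := 5) rfl N3695 D7271
theorem N4607 : nd 4607 = n7272 := ndS (p := 3695) (l := 7) rfl N3695 D7272
theorem N4608 : nd 4608 = n7273 := ndS (p := 3697) (l := 7) rfl N3697 D7273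
theorem N4609 : nd 4609 = n7274 := ndS (p := 3697) (l := 8) rfl N3697 D7274
theorem N4610 : nd 4610 = n7275 := ndS (p := 3699) (l := 3) rfl N3699 D7275
theorem N4611 : nd 4611 = n7276 := ndS (p := 3699) (l := 6) rfl N3699 D7276
theorem N4612 : nd 4612 = n7277 := ndS (p := 3700) (l := 7) rfl N3700 D7277
theorem N4613 : nd 4613 = n7278 := ndS (p := 3701) (l := 2) rfl N3701 D7278
theorem N4614 : nd 4614 = n7279 := ndS (p := 3701) (l := 6) rfl N3701 D7279
theorem N4615 : nd 4615 = n7280 := ndS (p := 3702) (l := 5) rfl N3702 D7280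
theorem N4616 : nd 4616 = n7281 := ndS (p := 3702) (l := 7) rfl N3702 D7281
theorem N4617 : nd 4617 = n7282 := ndS (p := 3704) (l := 2) rfl N3704 D7282
theorem N4618 : nd 4618 = n7283 := ndS (p := 3704) (l := 6) rfl N3704 D7283
theorem N4619 : nd 4619 = n7284 := ndS (p := 3705) (l := 5) rfl N3705 D7284
theorem N4620 : nd 4620 = n7285 := ndS (p := 3705) (l := 7) rfl N3705 D7285
theorem N4621 : nd 4621 = n7286 := ndS (p := 3707) (l := 1) rfl N3707 D7286
theorem N4622 : nd 4622 = n7287 := ndS (p := 3707) (l := 6) rfl N3707 D7287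
theorem N4623 : nd 4623 = n7288 := ndS (p := 3708) (l := 7) rfl N3708 D7288
theorem N4624 : nd 4624 = n7289 := ndS (p := 3710) (l := 1) rfl N3710 D7289
theorem N4625 : nd 4625 = n7292 := ndS (p := 3712) (l := 0) rfl N3712 D7292
theorem N4626 : nd 4626 = n7293 := ndS (p := 3713) (l := 2) rfl N3713 D7293
theorem N4627 : nd 4627 = n7294 := ndS (p := 3713) (l := 6) rfl N3713 D7294
theorem N4628 : nd 4628 = n7295 := ndS (p := 3714) (l := 5) rfl N3714 D7295
theorem N4629 : nd 4629 = n7298 := ndS (p := 3716) (l := 5) rfl N3716 D7298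
theorem N4630 : nd 4630 = n7303 := ndS (p := 3720) (l := 9) rfl N3720 D7303
theorem N4631 : nd 4631 = n7304 := ndS (p := 3721) (l := 9) rfl N3721 D7304
theorem N4632 : nd 4632 = n7305 := ndS (p := 3722) (l := 8) rfl N3722 D7305
theorem N4633 : nd 4633 = n7306 := ndS (p := 3723) (l := 8) rfl N3723 D7306
theorem N4634 : nd 4634 = n7307 := ndS (p := 3724) (l := 5) rfl N3724 D7307
theorem N4635 : nd 4635 = n7308 := ndS (p := 3725) (l := 4) rfl N3725 D7308
theorem N4636 : nd 4636 = n7309 := ndS (p := 3725) (l := 6) rfl N3725 D7309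
theorem N4637 : nd 4637 = n7310 := ndS (p := 3726) (l := 9) rfl N3726 D7310
theorem N4638 : nd 4638 = n7311 := ndS (p := 3727) (l := 9) rfl N3727 D7311
theorem N4639 : nd 4639 = n7312 := ndS (p := 3728) (l := 8) rfl N3728 D7312
theorem N4640 : nd 4640 = n7313 := ndS (p := 3729) (l := 9) rfl N3729 D7313
theorem N4641 : nd 4641 = n7314 := ndS (p := 3730) (l := 8) rfl N3730 D7314
theorem N4642 : nd 4642 = n7315 := ndS (p := 3731) (l := 5) rfl N3731 D7315
theorem N4643 : nd 4643 = n7316 := ndS (p := 3732) (l := 5) rfl N3732 D7316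
theorem N4644 : nd 4644 = n7317 := ndS (p := 3733) (l := 4) rfl N3733 D7317
theorem N4645 : nd 4645 = n7318 := ndS (p := 3733) (l := 6) rfl N3733 D7318
theorem N4646 : nd 4646 = n7319 := ndS (p := 3734) (l := 3) rfl N3734 D7319
theorem N4647 : nd 4647 = n7320 := ndS (p := 3734) (l := 6) rfl N3734 D7320
theorem N4648 : nd 4648 = n7321 := ndS (p := 3735) (l := 7) rfl N3735 D7321
theorem N4649 : nd 4649 = n7322 := ndS (p := 3736) (l := 8) rfl N3736 D7322
theorem N4650 : nd 4650 = n7323 := ndS (p := 3737) (l := 8) rfl N3737 D7323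
theorem N4651 : nd 4651 = n7324 := ndS (p := 3738) (l := 5) rfl N3738 D7324
theorem N4652 : nd 4652 = n7325 := ndS (p := 3739) (l := 8) rfl N3739 D7325
theorem N4653 : nd 4653 = n7326 := ndS (p := 3740) (l := 5) rfl N3740 D7326
theorem N4654 : nd 4654 = n7327 := ndS (p := 3741) (l := 4) rfl N3741 D7327
theorem N4655 : nd 4655 = n7328 := ndS (p := 3741) (l := 6) rfl N3741 D7328
theorem N4656 : nd 4656 = n7329 := ndS (p := 3742) (l := 4) rfl N3742 D7329
theorem N4657 : nd 4657 = n7330 := ndS (p := 3742) (l := 6) rfl N3742 D7330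
theorem N4658 : nd 4658 = n7331 := ndS (p := 3743) (l := 3) rfl N3743 D7331
theorem N4659 : nd 4659 = n7332 := ndS (p := 3743) (l := 6) rfl N3743 D7332
theorem N4660 : nd 4660 = n7333 := ndS (p := 3744) (l := 7) rfl N3744 D7333
theorem N4661 : nd 4661 = n7334 := ndS (p := 3745) (l := 6) rfl N3745 D7334
theorem N4662 : nd 4662 = n7335 := ndS (p := 3746) (l := 5) rfl N3746 D7335
theorem N4663 : nd 4663 = n7336 := ndS (p := 3746) (l := 7) rfl N3746 D7336
theorem N4664 : nd 4664 = n7337 := ndS (p := 3748) (l := 8) rfl N3748 D7337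
theorem N4665 : nd 4665 = n7338 := ndS (p := 3749) (l := 5) rfl N3749 D7338
theorem N4666 : nd 4666 = n7339 := ndS (p := 3750) (l := 4) rfl N3750 D7339
theorem N4667 : nd 4667 = n7340 := ndS (p := 3750) (l := 6) rfl N3750 D7340
theorem N4668 : nd 4668 = n7341 := ndS (p := 3751) (l := 5) rfl N3751 D7341
theorem N4669 : nd 4669 = n7342 := ndS (p := 3752) (l := 4) rfl N3752 D7342
theorem N4670 : nd 4670 = n7343 := ndS (p := 3752) (l := 6) rfl N3752 D7343
theorem N4671 : nd 4671 = n7344 := ndS (p := 3753) (l := 3) rfl N3753 D7344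
theorem N4672 : nd 4672 = n7345 := ndS (p := 3753) (l := 6) rfl N3753 D7345
theorem N4673 : nd 4673 = n7346 := ndS (p := 3754) (l := 7) rfl N3754 D7346
theorem N4674 : nd 4674 = n7347 := ndS (p := 3755) (l := 3) rfl N3755 D7347
theorem N4675 : nd 4675 = n7348 := ndS (p := 3755) (l := 6) rfl N3755 D7348
theorem N4676 : nd 4676 = n7349 := ndS (p := 3756) (l := 7) rfl N3756 D7349
theorem N4677 : nd 4677 = n7350 := ndS (p := 3757) (l := 2) rfl N3757 D7350
theorem N4678 : nd 4678 = n7351 := ndS (p := 3757) (l := 6) rfl N3757 D7351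
theorem N4679 : nd 4679 = n7352 := ndS (p := 3758) (l := 5) rfl N3758 D7352
theorem N4680 : nd 4680 = n7353 := ndS (p := 3758) (l := 7) rfl N3758 D7353
theorem N4681 : nd 4681 = n7354 := ndS (p := 3760) (l := 7) rfl N3760 D7354
theorem N4682 : nd 4682 = n7355 := ndS (p := 3760) (l := 8) rfl N3760 D7355
theorem N4683 : nd 4683 = n7356 := ndS (p := 3762) (l := 4) rfl N3762 D7356
theorem N4684 : nd 4684 = n7357 := ndS (p := 3762) (l := 6) rfl N3762 D7357
theorem N4685 : nd 4685 = n7358 := ndS (p := 3763) (l := 3) rfl N3763 D7358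
theorem N4686 : nd 4686 = n7360 := ndS (p := 3764) (l := 7) rfl N3764 D7360
theorem N4687 : nd 4687 = n7361 := ndS (p := 3765) (l := 2) rfl N3765 D7361
theorem N4688 : nd 4688 = n7362 := ndS (p := 3765) (l := 6) rfl N3765 D7362
theorem N4689 : nd 4689 = n7363 := ndS (p := 3766) (l := 5) rfl N3766 D7363
theorem N4690 : nd 4690 = n7364 := ndS (p := 3766) (l := 7) rfl N3766 D7364
theorem N4691 : nd 4691 = n7365 := ndS (p := 3768) (l := 2) rfl N3768 D7365
theorem N4692 : nd 4692 = n7369 := ndS (p := 3770) (l := 1) rfl N3770 D7369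
theorem N4693 : nd 4693 = n7370 := ndS (p := 3770) (l := 6) rfl N3770 D7370
theorem N4694 : nd 4694 = n7371 := ndS (p := 3771) (l := 7) rfl N3771 D7371
theorem N4695 : nd 4695 = n7377 := ndS (p := 3775) (l := 5) rfl N3775 D7377
theorem N4696 : nd 4696 = n7378 := ndS (p := 3776) (l := 4) rfl N3776 D7378
theorem N4697 : nd 4697 = n7379 := ndS (p := 3776) (l := 6) rfl N3776 D7379
theorem N4698 : nd 4698 = n7380 := ndS (p := 3777) (l := 3) rfl N3777 D7380
theorem N4699 : nd 4699 = n7383 := ndS (p := 3779) (l := 4) rfl N3779 D7383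
theorem N4700 : nd 4700 = n7384 := ndS (p := 3779) (l := 6) rfl N3779 D7384
theorem N4701 : nd 4701 = n7385 := ndS (p := 3780) (l := 3) rfl N3780 D7385
theorem N4702 : nd 4702 = n7386 := ndS (p := 3780) (l := 6) rfl N3780 D7386
theorem N4703 : nd 4703 = n7387 := ndS (p := 3781) (l := 7) rfl N3781 D7387
theorem N4704 : nd 4704 = n7388 := ndS (p := 3782) (l := 2) rfl N3782 D7388
theorem N4705 : nd 4705 = n7389 := ndS (p := 3782) (l := 6) rfl N3782 D7389
theorem N4706 : nd 4706 = n7390 := ndS (p := 3783) (l := 5) rfl N3783 D7390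
theorem N4707 : nd 4707 = n7392 := ndS (p := 3785) (l := 3) rfl N3785 D7392
theorem N4708 : nd 4708 = n7393 := ndS (p := 3785) (l := 6) rfl N3785 D7393
theorem N4709 : nd 4709 = n7394 := ndS (p := 3786) (l := 7) rfl N3786 D7394
theorem N4710 : nd 4710 = n7395 := ndS (p := 3787) (l := 2) rfl N3787 D7395
theorem N4711 : nd 4711 = n7396 := ndS (p := 3787) (l := 6) rfl N3787 D7396
theorem N4712 : nd 4712 = n7397 := ndS (p := 3788) (l := 5) rfl N3788 D7397
theorem N4713 : nd 4713 = n7398 := ndS (p := 3788) (l := 7) rfl N3788 D7398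
theorem N4714 : nd 4714 = n7399 := ndS (p := 3790) (l := 5) rfl N3790 D7399
theorem N4715 : nd 4715 = n7400 := ndS (p := 3790) (l := 7) rfl N3790 D7400
theorem N4716 : nd 4716 = n7401 := ndS (p := 3791) (l := 7) rfl N3791 D7401
theorem N4717 : nd 4717 = n7402 := ndS (p := 3791) (l := 8) rfl N3791 D7402
theorem N4718 : nd 4718 = n7403 := ndS (p := 3793) (l := 2) rfl N3793 D7403
theorem N4719 : nd 4719 = n7405 := ndS (p := 3794) (l := 5) rfl N3794 D7405
theorem N4720 : nd 4720 = n7406 := ndS (p := 3794) (l := 7) rfl N3794 D7406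
theorem N4721 : nd 4721 = n7407 := ndS (p := 3796) (l := 1) rfl N3796 D7407
theorem N4722 : nd 4722 = n7408 := ndS (p := 3796) (l := 6) rfl N3796 D7408
theorem N4723 : nd 4723 = n7409 := ndS (p := 3797) (l := 5) rfl N3797 D7409
theorem N4724 : nd 4724 = n7410 := ndS (p := 3797) (l := 7) rfl N3797 D7410
theorem N4725 : nd 4725 = n7411 := ndS (p := 3798) (l := 7) rfl N3798 D7411
theorem N4726 : nd 4726 = n7412 := ndS (p := 3798) (l := 8) rfl N3798 D7412
theorem N4727 : nd 4727 = n7413 := ndS (p := 3800) (l := 6) rfl N3800 D7413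
theorem N4728 : nd 4728 = n7414 := ndS (p := 3800) (l := 8) rfl N3800 D7414
theorem N4729 : nd 4729 = n7415 := ndS (p := 3801) (l := 9) rfl N3801 D7415
theorem N4730 : nd 4730 = n7423 := ndS (p := 3803) (l := 6) rfl N3803 D7423
theorem N4731 : nd 4731 = n7424 := ndS (p := 3804) (l := 7) rfl N3804 D7424
theorem N4732 : nd 4732 = n7449 := ndS (p := 3810) (l := 9) rfl N3810 D7449
theorem N4733 : nd 4733 = n7451 := ndS (p := 3811) (l := 9) rfl N3811 D7451
theorem N4734 : nd 4734 = n7452 := ndS (p := 3813) (l := 8) rfl N3813 D7452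
theorem N4735 : nd 4735 = n7453 := ndS (p := 3814) (l := 8) rfl N3814 D7453
theorem N4736 : nd 4736 = n7454 := ndS (p := 3815) (l := 5) rfl N3815 D7454
theorem N4737 : nd 4737 = n7455 := ndS (p := 3816) (l := 5) rfl N3816 D7455
theorem N4738 : nd 4738 = n7456 := ndS (p := 3817) (l := 4) rfl N3817 D7456
theorem N4739 : nd 4739 = n7457 := ndS (p := 3817) (l := 6) rfl N3817 D7457
theorem N4740 : nd 4740 = n7463 := ndS (p := 3821) (l := 3) rfl N3821 D7463
theorem N4741 : nd 4741 = n7464 := ndS (p := 3822) (l := 8) rfl N3822 D7464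
theorem N4742 : nd 4742 = n7465 := ndS (p := 3823) (l := 9) rfl N3823 D7465
theorem N4743 : nd 4743 = n7466 := ndS (p := 3824) (l := 8) rfl N3824 D7466
theorem N4744 : nd 4744 = n7467 := ndS (p := 3825) (l := 5) rfl N3825 D7467
theorem N4745 : nd 4745 = n7468 := ndS (p := 3826) (l := 9) rfl N3826 D7468
theorem N4746 : nd 4746 = n7469 := ndS (p := 3827) (l := 9) rfl N3827 D7469
theorem N4747 : nd 4747 = n7470 := ndS (p := 3828) (l := 8) rfl N3828 D7470
theorem N4748 : nd 4748 = n7471 := ndS (p := 3829) (l := 8) rfl N3829 D7471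
theorem N4749 : nd 4749 = n7472 := ndS (p := 3830) (l := 5) rfl N3830 D7472
theorem N4750 : nd 4750 = n7473 := ndS (p := 3831) (l := 4) rfl N3831 D7473
theorem N4751 : nd 4751 = n7474 := ndS (p := 3831) (l := 6) rfl N3831 D7474
theorem N4752 : nd 4752 = n7475 := ndS (p := 3832) (l := 8) rfl N3832 D7475
theorem N4753 : nd 4753 = n7476 := ndS (p := 3833) (l := 8) rfl N3833 D7476
theorem N4754 : nd 4754 = n7477 := ndS (p := 3834) (l := 5) rfl N3834 D7477
theorem N4755 : nd 4755 = n7478 := ndS (p := 3835) (l := 5) rfl N3835 D7478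
theorem N4756 : nd 4756 = n7479 := ndS (p := 3836) (l := 4) rfl N3836 D7479
theorem N4757 : nd 4757 = n7480 := ndS (p := 3836) (l := 6) rfl N3836 D7480
theorem N4758 : nd 4758 = n7481 := ndS (p := 3837) (l := 6) rfl N3837 D7481
theorem N4759 : nd 4759 = n7482 := ndS (p := 3838) (l := 7) rfl N3838 D7482
theorem N4760 : nd 4760 = n7483 := ndS (p := 3839) (l := 5) rfl N3839 D7483
theorem N4761 : nd 4761 = n7484 := ndS (p := 3840) (l := 4) rfl N3840 D7484
theorem N4762 : nd 4762 = n7485 := ndS (p := 3840) (l := 6) rfl N3840 D7485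
theorem N4763 : nd 4763 = n7486 := ndS (p := 3841) (l := 4) rfl N3841 D7486
theorem N4764 : nd 4764 = n7487 := ndS (p := 3841) (l := 6) rfl N3841 D7487
theorem N4765 : nd 4765 = n7488 := ndS (p := 3842) (l := 3) rfl N3842 D7488
theorem N4766 : nd 4766 = n7489 := ndS (p := 3842) (l := 6) rfl N3842 D7489
theorem N4767 : nd 4767 = n7490 := ndS (p := 3843) (l := 7) rfl N3843 D7490
theorem N4768 : nd 4768 = n7491 := ndS (p := 3845) (l := 3) rfl N3845 D7491
theorem N4769 : nd 4769 = n7492 := ndS (p := 3845) (l := 6) rfl N3845 D7492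
theorem N4770 : nd 4770 = n7493 := ndS (p := 3847) (l := 2) rfl N3847 D7493
theorem N4771 : nd 4771 = n7494 := ndS (p := 3848) (l := 9) rfl N3848 D7494
theorem N4772 : nd 4772 = n7495 := ndS (p := 3849) (l := 8) rfl N3849 D7495
theorem N4773 : nd 4773 = n7496 := ndS (p := 3850) (l := 5) rfl N3850 D7496
theorem N4774 : nd 4774 = n7497 := ndS (p := 3851) (l := 9) rfl N3851 D7497
theorem N4775 : nd 4775 = n7498 := ndS (p := 3852) (l := 8) rfl N3852 D7498
theorem N4776 : nd 4776 = n7499 := ndS (p := 3853) (l := 5) rfl N3853 D7499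
theorem N4777 : nd 4777 = n7500 := ndS (p := 3854) (l := 4) rfl N3854 D7500
theorem N4778 : nd 4778 = n7501 := ndS (p := 3854) (l := 6) rfl N3854 D7501
theorem N4779 : nd 4779 = n7502 := ndS (p := 3855) (l := 9) rfl N3855 D7502
theorem N4780 : nd 4780 = n7503 := ndS (p := 3856) (l := 8) rfl N3856 D7503
theorem N4781 : nd 4781 = n7504 := ndS (p := 3857) (l := 5) rfl N3857 D7504
theorem N4782 : nd 4782 = n7505 := ndS (p := 3858) (l := 4) rfl N3858 D7505
theorem N4783 : nd 4783 = n7506 := ndS (p := 3858) (l := 6) rfl N3858 D7506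
theorem N4784 : nd 4784 = n7507 := ndS (p := 3859) (l := 3) rfl N3859 D7507
theorem N4785 : nd 4785 = n7508 := ndS (p := 3859) (l := 6) rfl N3859 D7508
theorem N4786 : nd 4786 = n7509 := ndS (p := 3860) (l := 7) rfl N3860 D7509
theorem N4787 : nd 4787 = n7510 := ndS (p := 3861) (l := 5) rfl N3861 D7510
theorem N4788 : nd 4788 = n7511 := ndS (p := 3862) (l := 4) rfl N3862 D7511
theorem N4789 : nd 4789 = n7512 := ndS (p := 3862) (l := 6) rfl N3862 D7512
theorem N4790 : nd 4790 = n7513 := ndS (p := 3863) (l := 3) rfl N3863 D7513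
theorem N4791 : nd 4791 = n7514 := ndS (p := 3863) (l := 6) rfl N3863 D7514
theorem N4792 : nd 4792 = n7515 := ndS (p := 3864) (l := 7) rfl N3864 D7515
theorem N4793 : nd 4793 = n7516 := ndS (p := 3865) (l := 5) rfl N3865 D7516
theorem N4794 : nd 4794 = n7517 := ndS (p := 3865) (l := 7) rfl N3865 D7517
theorem N4795 : nd 4795 = n7518 := ndS (p := 3867) (l := 3) rfl N3867 D7518
theorem N4796 : nd 4796 = n7519 := ndS (p := 3867) (l := 6) rfl N3867 D7519
theorem N4797 : nd 4797 = n7520 := ndS (p := 3868) (l := 7) rfl N3868 D7520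
theorem N4798 : nd 4798 = n7521 := ndS (p := 3869) (l := 2) rfl N3869 D7521
theorem N4799 : nd 4799 = n7522 := ndS (p := 3869) (l := 6) rfl N3869 D7522
theorem N4800 : nd 4800 = n7523 := ndS (p := 3870) (l := 7) rfl N3870 D7523
theorem N4801 : nd 4801 = n7524 := ndS (p := 3872) (l := 1) rfl N3872 D7524
theorem N4802 : nd 4802 = n7525 := ndS (p := 3873) (l := 5) rfl N3873 D7525
theorem N4803 : nd 4803 = n7526 := ndS (p := 3874) (l := 4) rfl N3874 D7526
theorem N4804 : nd 4804 = n7527 := ndS (p := 3874) (l := 6) rfl N3874 D7527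
theorem N4805 : nd 4805 = n7528 := ndS (p := 3875) (l := 4) rfl N3875 D7528
theorem N4806 : nd 4806 = n7529 := ndS (p := 3875) (l := 6) rfl N3875 D7529
theorem N4807 : nd 4807 = n7530 := ndS (p := 3876) (l := 3) rfl N3876 D7530
theorem N4808 : nd 4808 = n7531 := ndS (p := 3876) (l := 6) rfl N3876 D7531
theorem N4809 : nd 4809 = n7532 := ndS (p := 3877) (l := 7) rfl N3877 D7532
theorem N4810 : nd 4810 = n7533 := ndS (p := 3878) (l := 3) rfl N3878 D7533
theorem N4811 : nd 4811 = n7534 := ndS (p := 3878) (l := 6) rfl N3878 D7534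
theorem N4812 : nd 4812 = n7535 := ndS (p := 3879) (l := 7) rfl N3879 D7535
theorem N4813 : nd 4813 = n7536 := ndS (p := 3880) (l := 6) rfl N3880 D7536
theorem N4814 : nd 4814 = n7537 := ndS (p := 3881) (l := 5) rfl N3881 D7537
theorem N4815 : nd 4815 = n7538 := ndS (p := 3881) (l := 7) rfl N3881 D7538
theorem N4816 : nd 4816 = n7539 := ndS (p := 3883) (l := 2) rfl N3883 D7539
theorem N4817 : nd 4817 = n7540 := ndS (p := 3883) (l := 6) rfl N3883 D7540
theorem N4818 : nd 4818 = n7541 := ndS (p := 3884) (l := 5) rfl N3884 D7541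
theorem N4819 : nd 4819 = n7542 := ndS (p := 3884) (l := 7) rfl N3884 D7542
theorem N4820 : nd 4820 = n7543 := ndS (p := 3886) (l := 7) rfl N3886 D7543
theorem N4821 : nd 4821 = n7544 := ndS (p := 3886) (l := 8) rfl N3886 D7544
theorem N4822 : nd 4822 = n7545 := ndS (p := 3888) (l := 1) rfl N3888 D7545
theorem N4823 : nd 4823 = n7546 := ndS (p := 3888) (l := 6) rfl N3888 D7546
theorem N4824 : nd 4824 = n7547 := ndS (p := 3889) (l := 7) rfl N3889 D7547
theorem N4825 : nd 4825 = n7549 := ndS (p := 3892) (l := 9) rfl N3892 D7549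
theorem N4826 : nd 4826 = n7550 := ndS (p := 3893) (l := 8) rfl N3893 D7550
theorem N4827 : nd 4827 = n7551 := ndS (p := 3894) (l := 5) rfl N3894 D7551
theorem N4828 : nd 4828 = n7552 := ndS (p := 3895) (l := 9) rfl N3895 D7552
theorem N4829 : nd 4829 = n7553 := ndS (p := 3896) (l := 9) rfl N3896 D7553
theorem N4830 : nd 4830 = n7554 := ndS (p := 3897) (l := 9) rfl N3897 D7554
theorem N4831 : nd 4831 = n7555 := ndS (p := 3898) (l := 8) rfl N3898 D7555
theorem N4832 : nd 4832 = n7556 := ndS (p := 3899) (l := 8) rfl N3899 D7556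
theorem N4833 : nd 4833 = n7557 := ndS (p := 3900) (l := 5) rfl N3900 D7557
theorem N4834 : nd 4834 = n7558 := ndS (p := 3901) (l := 4) rfl N3901 D7558
theorem N4835 : nd 4835 = n7559 := ndS (p := 3901) (l := 6) rfl N3901 D7559
theorem N4836 : nd 4836 = n7560 := ndS (p := 3902) (l := 9) rfl N3902 D7560
theorem N4837 : nd 4837 = n7561 := ndS (p := 3903) (l := 8) rfl N3903 D7561
theorem N4838 : nd 4838 = n7562 := ndS (p := 3904) (l := 9) rfl N3904 D7562
theorem N4839 : nd 4839 = n7563 := ndS (p := 3905) (l := 8) rfl N3905 D7563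
theorem N4840 : nd 4840 = n7564 := ndS (p := 3906) (l := 8) rfl N3906 D7564
theorem N4841 : nd 4841 = n7565 := ndS (p := 3907) (l := 5) rfl N3907 D7565
theorem N4842 : nd 4842 = n7566 := ndS (p := 3908) (l := 5) rfl N3908 D7566
theorem N4843 : nd 4843 = n7567 := ndS (p := 3909) (l := 4) rfl N3909 D7567
theorem N4844 : nd 4844 = n7568 := ndS (p := 3909) (l := 6) rfl N3909 D7568
theorem N4845 : nd 4845 = n7569 := ndS (p := 3910) (l := 3) rfl N3910 D7569
theorem N4846 : nd 4846 = n7570 := ndS (p := 3910) (l := 6) rfl N3910 D7570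
theorem N4847 : nd 4847 = n7571 := ndS (p := 3911) (l := 7) rfl N3911 D7571
theorem N4848 : nd 4848 = n7572 := ndS (p := 3912) (l := 8) rfl N3912 D7572
theorem N4849 : nd 4849 = n7573 := ndS (p := 3913) (l := 8) rfl N3913 D7573
theorem N4850 : nd 4850 = n7574 := ndS (p := 3914) (l := 5) rfl N3914 D7574
theorem N4851 : nd 4851 = n7575 := ndS (p := 3915) (l := 8) rfl N3915 D7575
theorem N4852 : nd 4852 = n7576 := ndS (p := 3916) (l := 8) rfl N3916 D7576
theorem N4853 : nd 4853 = n7577 := ndS (p := 3917) (l := 5) rfl N3917 D7577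
theorem N4854 : nd 4854 = n7578 := ndS (p := 3918) (l := 5) rfl N3918 D7578
theorem N4855 : nd 4855 = n7579 := ndS (p := 3919) (l := 4) rfl N3919 D7579
theorem N4856 : nd 4856 = n7580 := ndS (p := 3919) (l := 6) rfl N3919 D7580
theorem N4857 : nd 4857 = n7581 := ndS (p := 3920) (l := 4) rfl N3920 D7581
theorem N4858 : nd 4858 = n7582 := ndS (p := 3920) (l := 6) rfl N3920 D7582
theorem N4859 : nd 4859 = n7583 := ndS (p := 3921) (l := 3) rfl N3921 D7583
theorem N4860 : nd 4860 = n7584 := ndS (p := 3921) (l := 6) rfl N3921 D7584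
theorem N4861 : nd 4861 = n7585 := ndS (p := 3922) (l := 7) rfl N3922 D7585
theorem N4862 : nd 4862 = n7586 := ndS (p := 3923) (l := 5) rfl N3923 D7586
theorem N4863 : nd 4863 = n7587 := ndS (p := 3923) (l := 7) rfl N3923 D7587
theorem N4864 : nd 4864 = n7588 := ndS (p := 3925) (l := 5) rfl N3925 D7588
theorem N4865 : nd 4865 = n7589 := ndS (p := 3926) (l := 5) rfl N3926 D7589
theorem N4866 : nd 4866 = n7590 := ndS (p := 3927) (l := 4) rfl N3927 D7590
theorem N4867 : nd 4867 = n7591 := ndS (p := 3927) (l := 6) rfl N3927 D7591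
theorem N4868 : nd 4868 = n7592 := ndS (p := 3928) (l := 4) rfl N3928 D7592
theorem N4869 : nd 4869 = n7593 := ndS (p := 3928) (l := 6) rfl N3928 D7593
theorem N4870 : nd 4870 = n7594 := ndS (p := 3929) (l := 3) rfl N3929 D7594
theorem N4871 : nd 4871 = n7595 := ndS (p := 3929) (l := 6) rfl N3929 D7595
theorem N4872 : nd 4872 = n7596 := ndS (p := 3930) (l := 7) rfl N3930 D7596
theorem N4873 : nd 4873 = n7597 := ndS (p := 3931) (l := 3) rfl N3931 D7597
theorem N4874 : nd 4874 = n7598 := ndS (p := 3931) (l := 6) rfl N3931 D7598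
theorem N4875 : nd 4875 = n7599 := ndS (p := 3932) (l := 7) rfl N3932 D7599
theorem N4876 : nd 4876 = n7600 := ndS (p := 3933) (l := 2) rfl N3933 D7600
theorem N4877 : nd 4877 = n7601 := ndS (p := 3933) (l := 6) rfl N3933 D7601
theorem N4878 : nd 4878 = n7602 := ndS (p := 3934) (l := 7) rfl N3934 D7602
theorem N4879 : nd 4879 = n7603 := ndS (p := 3936) (l := 2) rfl N3936 D7603
theorem N4880 : nd 4880 = n7604 := ndS (p := 3936) (l := 6) rfl N3936 D7604
theorem N4881 : nd 4881 = n7605 := ndS (p := 3937) (l := 5) rfl N3937 D7605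
theorem N4882 : nd 4882 = n7606 := ndS (p := 3938) (l := 1) rfl N3938 D7606
theorem N4883 : nd 4883 = n7607 := ndS (p := 3939) (l := 9) rfl N3939 D7607
theorem N4884 : nd 4884 = n7608 := ndS (p := 3940) (l := 8) rfl N3940 D7608
theorem N4885 : nd 4885 = n7609 := ndS (p := 3941) (l := 8) rfl N3941 D7609
theorem N4886 : nd 4886 = n7610 := ndS (p := 3942) (l := 5) rfl N3942 D7610
theorem N4887 : nd 4887 = n7611 := ndS (p := 3943) (l := 4) rfl N3943 D7611
theorem N4888 : nd 4888 = n7612 := ndS (p := 3943) (l := 6) rfl N3943 D7612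
theorem N4889 : nd 4889 = n7613 := ndS (p := 3944) (l := 8) rfl N3944 D7613
theorem N4890 : nd 4890 = n7614 := ndS (p := 3945) (l := 8) rfl N3945 D7614
theorem N4891 : nd 4891 = n7615 := ndS (p := 3946) (l := 8) rfl N3946 D7615
theorem N4892 : nd 4892 = n7616 := ndS (p := 3947) (l := 5) rfl N3947 D7616
theorem N4893 : nd 4893 = n7617 := ndS (p := 3948) (l := 5) rfl N3948 D7617
theorem N4894 : nd 4894 = n7618 := ndS (p := 3949) (l := 4) rfl N3949 D7618
theorem N4895 : nd 4895 = n7619 := ndS (p := 3949) (l := 6) rfl N3949 D7619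
theorem N4896 : nd 4896 = n7620 := ndS (p := 3950) (l := 3) rfl N3950 D7620
theorem N4897 : nd 4897 = n7621 := ndS (p := 3950) (l := 6) rfl N3950 D7621
theorem N4898 : nd 4898 = n7622 := ndS (p := 3951) (l := 7) rfl N3951 D7622
theorem N4899 : nd 4899 = n7623 := ndS (p := 3952) (l := 9) rfl N3952 D7623
theorem N4900 : nd 4900 = n7624 := ndS (p := 3953) (l := 8) rfl N3953 D7624
theorem N4901 : nd 4901 = n7625 := ndS (p := 3954) (l := 8) rfl N3954 D7625
theorem N4902 : nd 4902 = n7626 := ndS (p := 3955) (l := 8) rfl N3955 D7626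
theorem N4903 : nd 4903 = n7627 := ndS (p := 3956) (l := 5) rfl N3956 D7627
theorem N4904 : nd 4904 = n7628 := ndS (p := 3957) (l := 8) rfl N3957 D7628
theorem N4905 : nd 4905 = n7629 := ndS (p := 3958) (l := 5) rfl N3958 D7629
theorem N4906 : nd 4906 = n7630 := ndS (p := 3959) (l := 5) rfl N3959 D7630
theorem N4907 : nd 4907 = n7631 := ndS (p := 3960) (l := 4) rfl N3960 D7631
theorem N4908 : nd 4908 = n7632 := ndS (p := 3960) (l := 6) rfl N3960 D7632
theorem N4909 : nd 4909 = n7633 := ndS (p := 3961) (l := 4) rfl N3961 D7633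
theorem N4910 : nd 4910 = n7634 := ndS (p := 3961) (l := 6) rfl N3961 D7634
theorem N4911 : nd 4911 = n7635 := ndS (p := 3962) (l := 3) rfl N3962 D7635
theorem N4912 : nd 4912 = n7636 := ndS (p := 3962) (l := 6) rfl N3962 D7636
theorem N4913 : nd 4913 = n7637 := ndS (p := 3963) (l := 7) rfl N3963 D7637
theorem N4914 : nd 4914 = n7638 := ndS (p := 3964) (l := 6) rfl N3964 D7638
theorem N4915 : nd 4915 = n7639 := ndS (p := 3965) (l := 5) rfl N3965 D7639
theorem N4916 : nd 4916 = n7640 := ndS (p := 3965) (l := 7) rfl N3965 D7640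
theorem N4917 : nd 4917 = n7641 := ndS (p := 3967) (l := 8) rfl N3967 D7641
theorem N4918 : nd 4918 = n7642 := ndS (p := 3968) (l := 5) rfl N3968 D7642
theorem N4919 : nd 4919 = n7643 := ndS (p := 3969) (l := 5) rfl N3969 D7643
theorem N4920 : nd 4920 = n7644 := ndS (p := 3970) (l := 4) rfl N3970 D7644
theorem N4921 : nd 4921 = n7645 := ndS (p := 3970) (l := 6) rfl N3970 D7645
theorem N4922 : nd 4922 = n7646 := ndS (p := 3971) (l := 5) rfl N3971 D7646
theorem N4923 : nd 4923 = n7647 := ndS (p := 3972) (l := 4) rfl N3972 D7647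
theorem N4924 : nd 4924 = n7648 := ndS (p := 3972) (l := 6) rfl N3972 D7648
theorem N4925 : nd 4925 = n7649 := ndS (p := 3973) (l := 4) rfl N3973 D7649
theorem N4926 : nd 4926 = n7650 := ndS (p := 3973) (l := 6) rfl N3973 D7650
theorem N4927 : nd 4927 = n7651 := ndS (p := 3974) (l := 3) rfl N3974 D7651
theorem N4928 : nd 4928 = n7652 := ndS (p := 3974) (l := 6) rfl N3974 D7652
theorem N4929 : nd 4929 = n7653 := ndS (p := 3975) (l := 7) rfl N3975 D7653
theorem N4930 : nd 4930 = n7654 := ndS (p := 3976) (l := 3) rfl N3976 D7654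
theorem N4931 : nd 4931 = n7655 := ndS (p := 3976) (l := 6) rfl N3976 D7655
theorem N4932 : nd 4932 = n7656 := ndS (p := 3977) (l := 7) rfl N3977 D7656
theorem N4933 : nd 4933 = n7657 := ndS (p := 3978) (l := 2) rfl N3978 D7657
theorem N4934 : nd 4934 = n7658 := ndS (p := 3978) (l := 6) rfl N3978 D7658
theorem N4935 : nd 4935 = n7659 := ndS (p := 3979) (l := 5) rfl N3979 D7659
theorem N4936 : nd 4936 = n7660 := ndS (p := 3979) (l := 7) rfl N3979 D7660
theorem N4937 : nd 4937 = n7661 := ndS (p := 3981) (l := 7) rfl N3981 D7661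
theorem N4938 : nd 4938 = n7662 := ndS (p := 3981) (l := 8) rfl N3981 D7662
theorem N4939 : nd 4939 = n7663 := ndS (p := 3983) (l := 4) rfl N3983 D7663
theorem N4940 : nd 4940 = n7664 := ndS (p := 3983) (l := 6) rfl N3983 D7664
theorem N4941 : nd 4941 = n7665 := ndS (p := 3984) (l := 3) rfl N3984 D7665
theorem N4942 : nd 4942 = n7666 := ndS (p := 3984) (l := 6) rfl N3984 D7666
theorem N4943 : nd 4943 = n7667 := ndS (p := 3985) (l := 7) rfl N3985 D7667
theorem N4944 : nd 4944 = n7668 := ndS (p := 3986) (l := 3) rfl N3986 D7668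
theorem N4945 : nd 4945 = n7669 := ndS (p := 3986) (l := 6) rfl N3986 D7669
theorem N4946 : nd 4946 = n7670 := ndS (p := 3987) (l := 7) rfl N3987 D7670
theorem N4947 : nd 4947 = n7671 := ndS (p := 3988) (l := 2) rfl N3988 D7671
theorem N4948 : nd 4948 = n7672 := ndS (p := 3988) (l := 6) rfl N3988 D7672
theorem N4949 : nd 4949 = n7673 := ndS (p := 3989) (l := 5) rfl N3989 D7673
theorem N4950 : nd 4950 = n7674 := ndS (p := 3989) (l := 7) rfl N3989 D7674
theorem N4951 : nd 4951 = n7675 := ndS (p := 3991) (l := 2) rfl N3991 D7675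
theorem N4952 : nd 4952 = n7676 := ndS (p := 3991) (l := 6) rfl N3991 D7676
theorem N4953 : nd 4953 = n7677 := ndS (p := 3992) (l := 5) rfl N3992 D7677
theorem N4954 : nd 4954 = n7678 := ndS (p := 3992) (l := 7) rfl N3992 D7678
theorem N4955 : nd 4955 = n7679 := ndS (p := 3994) (l := 1) rfl N3994 D7679
theorem N4956 : nd 4956 = n7680 := ndS (p := 3994) (l := 6) rfl N3994 D7680
theorem N4957 : nd 4957 = n7681 := ndS (p := 3995) (l := 7) rfl N3995 D7681
theorem N4958 : nd 4958 = n7685 := ndS (p := 3998) (l := 8) rfl N3998 D7685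
theorem N4959 : nd 4959 = n7687 := ndS (p := 4000) (l := 8) rfl N4000 D7687
theorem N4960 : nd 4960 = n7688 := ndS (p := 4001) (l := 5) rfl N4001 D7688
theorem N4961 : nd 4961 = n7689 := ndS (p := 4002) (l := 5) rfl N4002 D7689
theorem N4962 : nd 4962 = n7690 := ndS (p := 4003) (l := 4) rfl N4003 D7690
theorem N4963 : nd 4963 = n7691 := ndS (p := 4003) (l := 6) rfl N4003 D7691
theorem N4964 : nd 4964 = n7692 := ndS (p := 4004) (l := 3) rfl N4004 D7692
theorem N4965 : nd 4965 = n7693 := ndS (p := 4004) (l := 6) rfl N4004 D7693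
theorem N4966 : nd 4966 = n7694 := ndS (p := 4005) (l := 7) rfl N4005 D7694
theorem N4967 : nd 4967 = n7695 := ndS (p := 4006) (l := 5) rfl N4006 D7695
theorem N4968 : nd 4968 = n7696 := ndS (p := 4007) (l := 4) rfl N4007 D7696
theorem N4969 : nd 4969 = n7697 := ndS (p := 4007) (l := 6) rfl N4007 D7697
theorem N4970 : nd 4970 = n7698 := ndS (p := 4008) (l := 4) rfl N4008 D7698
theorem N4971 : nd 4971 = n7699 := ndS (p := 4008) (l := 6) rfl N4008 D7699
theorem N4972 : nd 4972 = n7700 := ndS (p := 4009) (l := 3) rfl N4009 D7700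
theorem N4973 : nd 4973 = n7701 := ndS (p := 4009) (l := 6) rfl N4009 D7701
theorem N4974 : nd 4974 = n7702 := ndS (p := 4010) (l := 7) rfl N4010 D7702
theorem N4975 : nd 4975 = n7704 := ndS (p := 4011) (l := 6) rfl N4011 D7704
theorem N4976 : nd 4976 = n7705 := ndS (p := 4012) (l := 5) rfl N4012 D7705
theorem N4977 : nd 4977 = n7706 := ndS (p := 4012) (l := 7) rfl N4012 D7706
theorem N4978 : nd 4978 = n7707 := ndS (p := 4014) (l := 4) rfl N4014 D7707
theorem N4979 : nd 4979 = n7708 := ndS (p := 4014) (l := 6) rfl N4014 D7708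
theorem N4980 : nd 4980 = n7709 := ndS (p := 4015) (l := 3) rfl N4015 D7709
theorem N4981 : nd 4981 = n7710 := ndS (p := 4015) (l := 6) rfl N4015 D7710
theorem N4982 : nd 4982 = n7711 := ndS (p := 4016) (l := 7) rfl N4016 D7711
theorem N4983 : nd 4983 = n7712 := ndS (p := 4017) (l := 3) rfl N4017 D7712
theorem N4984 : nd 4984 = n7713 := ndS (p := 4017) (l := 6) rfl N4017 D7713
theorem N4985 : nd 4985 = n7714 := ndS (p := 4018) (l := 7) rfl N4018 D7714
theorem N4986 : nd 4986 = n7715 := ndS (p := 4019) (l := 2) rfl N4019 D7715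
theorem N4987 : nd 4987 = n7716 := ndS (p := 4019) (l := 6) rfl N4019 D7716
theorem N4988 : nd 4988 = n7717 := ndS (p := 4020) (l := 5) rfl N4020 D7717
theorem N4989 : nd 4989 = n7718 := ndS (p := 4020) (l := 7) rfl N4020 D7718
theorem N4990 : nd 4990 = n7719 := ndS (p := 4022) (l := 5) rfl N4022 D7719
theorem N4991 : nd 4991 = n7720 := ndS (p := 4022) (l := 7) rfl N4022 D7720
theorem N4992 : nd 4992 = n7721 := ndS (p := 4023) (l := 7) rfl N4023 D7721
theorem N4993 : nd 4993 = n7722 := ndS (p := 4023) (l := 8) rfl N4023 D7722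
theorem N4994 : nd 4994 = n7723 := ndS (p := 4025) (l := 3) rfl N4025 D7723
theorem N4995 : nd 4995 = n7724 := ndS (p := 4025) (l := 6) rfl N4025 D7724
theorem N4996 : nd 4996 = n7725 := ndS (p := 4026) (l := 7) rfl N4026 D7725
theorem N4997 : nd 4997 = n7726 := ndS (p := 4027) (l := 2) rfl N4027 D7726
theorem N4998 : nd 4998 = n7727 := ndS (p := 4027) (l := 6) rfl N4027 D7727
theorem N4999 : nd 4999 = n7728 := ndS (p := 4028) (l := 5) rfl N4028 D7728
theorem N5000 : nd 5000 = n7729 := ndS (p := 4028) (l := 7) rfl N4028 D7729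
theorem N5001 : nd 5001 = n7730 := ndS (p := 4030) (l := 2) rfl N4030 D7730
theorem N5002 : nd 5002 = n7731 := ndS (p := 4030) (l := 6) rfl N4030 D7731
theorem N5003 : nd 5003 = n7732 := ndS (p := 4031) (l := 5) rfl N4031 D7732
theorem N5004 : nd 5004 = n7733 := ndS (p := 4031) (l := 7) rfl N4031 D7733
theorem N5005 : nd 5005 = n7734 := ndS (p := 4033) (l := 1) rfl N4033 D7734
theorem N5006 : nd 5006 = n7735 := ndS (p := 4033) (l := 6) rfl N4033 D7735
theorem N5007 : nd 5007 = n7736 := ndS (p := 4034) (l := 5) rfl N4034 D7736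
theorem N5008 : nd 5008 = n7737 := ndS (p := 4034) (l := 7) rfl N4034 D7737
theorem N5009 : nd 5009 = n7738 := ndS (p := 4035) (l := 7) rfl N4035 D7738
theorem N5010 : nd 5010 = n7739 := ndS (p := 4035) (l := 8) rfl N4035 D7739
theorem N5011 : nd 5011 = n7740 := ndS (p := 4037) (l := 6) rfl N4037 D7740
theorem N5012 : nd 5012 = n7741 := ndS (p := 4037) (l := 8) rfl N4037 D7741
theorem N5013 : nd 5013 = n7742 := ndS (p := 4038) (l := 9) rfl N4038 D7742
theorem N5014 : nd 5014 = n7743 := ndS (p := 4039) (l := 2) rfl N4039 D7743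
theorem N5015 : nd 5015 = n7744 := ndS (p := 4039) (l := 6) rfl N4039 D7744
theorem N5016 : nd 5016 = n7745 := ndS (p := 4040) (l := 5) rfl N4040 D7745
theorem N5017 : nd 5017 = n7746 := ndS (p := 4040) (l := 7) rfl N4040 D7746
theorem N5018 : nd 5018 = n7747 := ndS (p := 4042) (l := 1) rfl N4042 D7747
theorem N5019 : nd 5019 = n7748 := ndS (p := 4042) (l := 6) rfl N4042 D7748
theorem N5020 : nd 5020 = n7749 := ndS (p := 4043) (l := 5) rfl N4043 D7749
theorem N5021 : nd 5021 = n7750 := ndS (p := 4043) (l := 7) rfl N4043 D7750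
theorem N5022 : nd 5022 = n7751 := ndS (p := 4044) (l := 7) rfl N4044 D7751
theorem N5023 : nd 5023 = n7755 := ndS (p := 4047) (l := 7) rfl N4047 D7755
theorem N5024 : nd 5024 = n7756 := ndS (p := 4048) (l := 7) rfl N4048 D7756
theorem N5025 : nd 5025 = n7758 := ndS (p := 4050) (l := 6) rfl N4050 D7758
theorem N5026 : nd 5026 = n7759 := ndS (p := 4051) (l := 7) rfl N4051 D7759
theorem N5027 : nd 5027 = n7764 := ndS (p := 4053) (l := 1) rfl N4053 D7764
theorem N5028 : nd 5028 = n7765 := ndS (p := 4053) (l := 6) rfl N4053 D7765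
theorem N5029 : nd 5029 = n7766 := ndS (p := 4054) (l := 5) rfl N4054 D7766
theorem N5030 : nd 5030 = n7767 := ndS (p := 4055) (l := 8) rfl N4055 D7767
theorem N5031 : nd 5031 = n7771 := ndS (p := 4058) (l := 4) rfl N4058 D7771
theorem N5032 : nd 5032 = n7774 := ndS (p := 4059) (l := 5) rfl N4059 D7774
theorem N5033 : nd 5033 = n7775 := ndS (p := 4060) (l := 5) rfl N4060 D7775
theorem N5034 : nd 5034 = n7776 := ndS (p := 4061) (l := 4) rfl N4061 D7776
theorem N5035 : nd 5035 = n7781 := ndS (p := 4063) (l := 5) rfl N4063 D7781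
theorem N5036 : nd 5036 = n7782 := ndS (p := 4064) (l := 5) rfl N4064 D7782
theorem N5037 : nd 5037 = n7783 := ndS (p := 4065) (l := 4) rfl N4065 D7783
theorem N5038 : nd 5038 = n7784 := ndS (p := 4065) (l := 6) rfl N4065 D7784
theorem N5039 : nd 5039 = n7785 := ndS (p := 4066) (l := 4) rfl N4066 D7785
theorem N5040 : nd 5040 = n7786 := ndS (p := 4066) (l := 6) rfl N4066 D7786
theorem N5041 : nd 5041 = n7787 := ndS (p := 4067) (l := 3) rfl N4067 D7787
theorem N5042 : nd 5042 = n7788 := ndS (p := 4067) (l := 6) rfl N4067 D7788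
theorem N5043 : nd 5043 = n7794 := ndS (p := 4070) (l := 5) rfl N4070 D7794
theorem N5044 : nd 5044 = n7795 := ndS (p := 4071) (l := 5) rfl N4071 D7795
theorem N5045 : nd 5045 = n7796 := ndS (p := 4072) (l := 4) rfl N4072 D7796
theorem N5046 : nd 5046 = n7797 := ndS (p := 4072) (l := 6) rfl N4072 D7797
theorem N5047 : nd 5047 = n7798 := ndS (p := 4073) (l := 5) rfl N4073 D7798
theorem N5048 : nd 5048 = n7799 := ndS (p := 4074) (l := 4) rfl N4074 D7799
theorem N5049 : nd 5049 = n7800 := ndS (p := 4074) (l := 6) rfl N4074 D7800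
theorem N5050 : nd 5050 = n7801 := ndS (p := 4075) (l := 3) rfl N4075 D7801
theorem N5051 : nd 5051 = n7802 := ndS (p := 4075) (l := 6) rfl N4075 D7802
theorem N5052 : nd 5052 = n7803 := ndS (p := 4076) (l := 7) rfl N4076 D7803
theorem N5053 : nd 5053 = n7804 := ndS (p := 4077) (l := 3) rfl N4077 D7804
theorem N5054 : nd 5054 = n7805 := ndS (p := 4077) (l := 6) rfl N4077 D7805
theorem N5055 : nd 5055 = n7806 := ndS (p := 4078) (l := 7) rfl N4078 D7806
theorem N5056 : nd 5056 = n7807 := ndS (p := 4079) (l := 2) rfl N4079 D7807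
theorem N5057 : nd 5057 = n7808 := ndS (p := 4079) (l := 6) rfl N4079 D7808
theorem N5058 : nd 5058 = n7809 := ndS (p := 4080) (l := 5) rfl N4080 D7809
theorem N5059 : nd 5059 = n7810 := ndS (p := 4080) (l := 7) rfl N4080 D7810
theorem N5060 : nd 5060 = n7811 := ndS (p := 4082) (l := 5) rfl N4082 D7811
theorem N5061 : nd 5061 = n7814 := ndS (p := 4083) (l := 8) rfl N4083 D7814
theorem N5062 : nd 5062 = n7815 := ndS (p := 4084) (l := 5) rfl N4084 D7815
theorem N5063 : nd 5063 = n7816 := ndS (p := 4085) (l := 4) rfl N4085 D7816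
theorem N5064 : nd 5064 = n7817 := ndS (p := 4085) (l := 6) rfl N4085 D7817
theorem N5065 : nd 5065 = n7818 := ndS (p := 4086) (l := 3) rfl N4086 D7818
theorem N5066 : nd 5066 = n7819 := ndS (p := 4086) (l := 6) rfl N4086 D7819
theorem N5067 : nd 5067 = n7820 := ndS (p := 4087) (l := 7) rfl N4087 D7820
theorem N5068 : nd 5068 = n7821 := ndS (p := 4088) (l := 4) rfl N4088 D7821
theorem N5069 : nd 5069 = n7822 := ndS (p := 4088) (l := 6) rfl N4088 D7822
theorem N5070 : nd 5070 = n7823 := ndS (p := 4089) (l := 3) rfl N4089 D7823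
theorem N5071 : nd 5071 = n7824 := ndS (p := 4089) (l := 6) rfl N4089 D7824
theorem N5072 : nd 5072 = n7825 := ndS (p := 4090) (l := 7) rfl N4090 D7825
theorem N5073 : nd 5073 = n7826 := ndS (p := 4091) (l := 2) rfl N4091 D7826
theorem N5074 : nd 5074 = n7827 := ndS (p := 4091) (l := 6) rfl N4091 D7827
theorem N5075 : nd 5075 = n7828 := ndS (p := 4092) (l := 5) rfl N4092 D7828
theorem N5076 : nd 5076 = n7829 := ndS (p := 4092) (l := 7) rfl N4092 D7829
theorem N5077 : nd 5077 = n7832 := ndS (p := 4095) (l := 5) rfl N4095 D7832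
theorem N5078 : nd 5078 = n7833 := ndS (p := 4095) (l := 7) rfl N4095 D7833
theorem N5079 : nd 5079 = n7835 := ndS (p := 4097) (l := 6) rfl N4097 D7835
theorem N5080 : nd 5080 = n7836 := ndS (p := 4098) (l := 5) rfl N4098 D7836
theorem N5081 : nd 5081 = n7837 := ndS (p := 4098) (l := 7) rfl N4098 D7837
theorem N5082 : nd 5082 = n7838 := ndS (p := 4099) (l := 7) rfl N4099 D7838
theorem N5083 : nd 5083 = n7839 := ndS (p := 4099) (l := 8) rfl N4099 D7839
theorem N5084 : nd 5084 = n7840 := ndS (p := 4101) (l := 6) rfl N4101 D7840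
theorem N5085 : nd 5085 = n7841 := ndS (p := 4101) (l := 8) rfl N4101 D7841
theorem N5086 : nd 5086 = n7842 := ndS (p := 4102) (l := 9) rfl N4102 D7842
theorem N5087 : nd 5087 = n7851 := ndS (p := 4107) (l := 6) rfl N4107 D7851
theorem N5088 : nd 5088 = n7852 := ndS (p := 4108) (l := 5) rfl N4108 D7852
theorem N5089 : nd 5089 = n7853 := ndS (p := 4108) (l := 7) rfl N4108 D7853
theorem N5090 : nd 5090 = n7870 := ndS (p := 4113) (l := 4) rfl N4113 D7870
theorem N5091 : nd 5091 = n7872 := ndS (p := 4114) (l := 3) rfl N4114 D7872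
theorem N5092 : nd 5092 = n7879 := ndS (p := 4115) (l := 3) rfl N4115 D7879
theorem N5093 : nd 5093 = n7880 := ndS (p := 4115) (l := 6) rfl N4115 D7880
theorem N5094 : nd 5094 = n7882 := ndS (p := 4117) (l := 2) rfl N4117 D7882
theorem N5095 : nd 5095 = n7883 := ndS (p := 4117) (l := 6) rfl N4117 D7883
theorem N5096 : nd 5096 = n7893 := ndS (p := 4120) (l := 5) rfl N4120 D7893
theorem N5097 : nd 5097 = n7894 := ndS (p := 4120) (l := 7) rfl N4120 D7894
theorem N5098 : nd 5098 = n7895 := ndS (p := 4122) (l := 1) rfl N4122 D7895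
theorem N5099 : nd 5099 = n7896 := ndS (p := 4122) (l := 6) rfl N4122 D7896
theorem N5100 : nd 5100 = n7897 := ndS (p := 4123) (l := 5) rfl N4123 D7897
theorem N5101 : nd 5101 = n7900 := ndS (p := 4124) (l := 8) rfl N4124 D7900
theorem N5102 : nd 5102 = n7901 := ndS (p := 4126) (l := 4) rfl N4126 D7901
theorem N5103 : nd 5103 = n7906 := ndS (p := 4127) (l := 9) rfl N4127 D7906
theorem N5104 : nd 5104 = n7911 := ndS (p := 4128) (l := 7) rfl N4128 D7911
theorem N5105 : nd 5105 = n7912 := ndS (p := 4128) (l := 8) rfl N4128 D7912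
theorem N5106 : nd 5106 = n7915 := ndS (p := 4130) (l := 5) rfl N4130 D7915
theorem N5107 : nd 5107 = n7917 := ndS (p := 4131) (l := 7) rfl N4131 D7917
theorem N5108 : nd 5108 = n7918 := ndS (p := 4131) (l := 8) rfl N4131 D7918
theorem N5109 : nd 5109 = n7919 := ndS (p := 4133) (l := 6) rfl N4133 D7919
theorem N5110 : nd 5110 = n7920 := ndS (p := 4133) (l := 8) rfl N4133 D7920
theorem N5111 : nd 5111 = n7921 := ndS (p := 4134) (l := 9) rfl N4134 D7921
theorem N5112 : nd 5112 = n7922 := ndS (p := 4135) (l := 8) rfl N4135 D7922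
theorem N5113 : nd 5113 = n7923 := ndS (p := 4136) (l := 9) rfl N4136 D7923
theorem N5114 : nd 5114 = n7965 := ndS (p := 4139) (l := 5) rfl N4139 D7965
theorem N5115 : nd 5115 = n7966 := ndS (p := 4139) (l := 9) rfl N4139 D7966
theorem N5116 : nd 5116 = n7967 := ndS (p := 4141) (l := 8) rfl N4141 D7967
theorem N5117 : nd 5117 = n7968 := ndS (p := 4142) (l := 8) rfl N4142 D7968
theorem N5118 : nd 5118 = n7969 := ndS (p := 4143) (l := 5) rfl N4143 D7969
theorem N5119 : nd 5119 = n7970 := ndS (p := 4144) (l := 4) rfl N4144 D7970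
theorem N5120 : nd 5120 = n7971 := ndS (p := 4144) (l := 6) rfl N4144 D7971
theorem N5121 : nd 5121 = n7972 := ndS (p := 4145) (l := 5) rfl N4145 D7972
theorem N5122 : nd 5122 = n7973 := ndS (p := 4146) (l := 5) rfl N4146 D7973
theorem N5123 : nd 5123 = n7974 := ndS (p := 4147) (l := 4) rfl N4147 D7974
theorem N5124 : nd 5124 = n7975 := ndS (p := 4147) (l := 6) rfl N4147 D7975
theorem N5125 : nd 5125 = n7977 := ndS (p := 4148) (l := 6) rfl N4148 D7977
theorem N5126 : nd 5126 = n7978 := ndS (p := 4149) (l := 7) rfl N4149 D7978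
theorem N5127 : nd 5127 = n7979 := ndS (p := 4150) (l := 5) rfl N4150 D7979
theorem N5128 : nd 5128 = n7980 := ndS (p := 4151) (l := 5) rfl N4151 D7980
theorem N5129 : nd 5129 = n7981 := ndS (p := 4152) (l := 5) rfl N4152 D7981
theorem N5130 : nd 5130 = n7982 := ndS (p := 4153) (l := 4) rfl N4153 D7982
theorem N5131 : nd 5131 = n7983 := ndS (p := 4153) (l := 6) rfl N4153 D7983
theorem N5132 : nd 5132 = n7984 := ndS (p := 4154) (l := 4) rfl N4154 D7984
theorem N5133 : nd 5133 = n7985 := ndS (p := 4154) (l := 6) rfl N4154 D7985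
theorem N5134 : nd 5134 = n7986 := ndS (p := 4155) (l := 3) rfl N4155 D7986
theorem N5135 : nd 5135 = n7987 := ndS (p := 4155) (l := 6) rfl N4155 D7987
theorem N5136 : nd 5136 = n7988 := ndS (p := 4156) (l := 7) rfl N4156 D7988
theorem N5137 : nd 5137 = n7989 := ndS (p := 4157) (l := 6) rfl N4157 D7989
theorem N5138 : nd 5138 = n7990 := ndS (p := 4158) (l := 5) rfl N4158 D7990
theorem N5139 : nd 5139 = n7991 := ndS (p := 4158) (l := 7) rfl N4158 D7991
theorem N5140 : nd 5140 = n7992 := ndS (p := 4160) (l := 4) rfl N4160 D7992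
theorem N5141 : nd 5141 = n7993 := ndS (p := 4160) (l := 6) rfl N4160 D7993
theorem N5142 : nd 5142 = n7994 := ndS (p := 4161) (l := 5) rfl N4161 D7994
theorem N5143 : nd 5143 = n7995 := ndS (p := 4162) (l := 4) rfl N4162 D7995
theorem N5144 : nd 5144 = n7996 := ndS (p := 4162) (l := 6) rfl N4162 D7996
theorem N5145 : nd 5145 = n7997 := ndS (p := 4163) (l := 4) rfl N4163 D7997
theorem N5146 : nd 5146 = n7998 := ndS (p := 4163) (l := 6) rfl N4163 D7998
theorem N5147 : nd 5147 = n7999 := ndS (p := 4164) (l := 3) rfl N4164 D7999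
theorem N5148 : nd 5148 = n8000 := ndS (p := 4164) (l := 6) rfl N4164 D8000
theorem N5149 : nd 5149 = n8001 := ndS (p := 4165) (l := 7) rfl N4165 D8001
theorem N5150 : nd 5150 = n8002 := ndS (p := 4166) (l := 3) rfl N4166 D8002
theorem N5151 : nd 5151 = n8003 := ndS (p := 4166) (l := 6) rfl N4166 D8003
theorem N5152 : nd 5152 = n8004 := ndS (p := 4167) (l := 7) rfl N4167 D8004
theorem N5153 : nd 5153 = n8005 := ndS (p := 4168) (l := 2) rfl N4168 D8005
theorem N5154 : nd 5154 = n8006 := ndS (p := 4168) (l := 6) rfl N4168 D8006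
theorem N5155 : nd 5155 = n8007 := ndS (p := 4169) (l := 5) rfl N4169 D8007
theorem N5156 : nd 5156 = n8008 := ndS (p := 4169) (l := 7) rfl N4169 D8008
theorem N5157 : nd 5157 = n8009 := ndS (p := 4171) (l := 7) rfl N4171 D8009
theorem N5158 : nd 5158 = n8010 := ndS (p := 4171) (l := 8) rfl N4171 D8010
theorem N5159 : nd 5159 = n8011 := ndS (p := 4173) (l := 5) rfl N4173 D8011
theorem N5160 : nd 5160 = n8012 := ndS (p := 4174) (l := 4) rfl N4174 D8012
theorem N5161 : nd 5161 = n8013 := ndS (p := 4174) (l := 6) rfl N4174 D8013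
theorem N5162 : nd 5162 = n8014 := ndS (p := 4175) (l := 4) rfl N4175 D8014
theorem N5163 : nd 5163 = n8015 := ndS (p := 4175) (l := 6) rfl N4175 D8015
theorem N5164 : nd 5164 = n8016 := ndS (p := 4176) (l := 3) rfl N4176 D8016
theorem N5165 : nd 5165 = n8017 := ndS (p := 4176) (l := 6) rfl N4176 D8017
theorem N5166 : nd 5166 = n8018 := ndS (p := 4177) (l := 7) rfl N4177 D8018
theorem N5167 : nd 5167 = n8019 := ndS (p := 4178) (l := 3) rfl N4178 D8019
theorem N5168 : nd 5168 = n8020 := ndS (p := 4178) (l := 6) rfl N4178 D8020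
theorem N5169 : nd 5169 = n8021 := ndS (p := 4179) (l := 7) rfl N4179 D8021
theorem N5170 : nd 5170 = n8022 := ndS (p := 4180) (l := 2) rfl N4180 D8022
theorem N5171 : nd 5171 = n8023 := ndS (p := 4180) (l := 6) rfl N4180 D8023
theorem N5172 : nd 5172 = n8024 := ndS (p := 4181) (l := 5) rfl N4181 D8024
theorem N5173 : nd 5173 = n8025 := ndS (p := 4181) (l := 7) rfl N4181 D8025
theorem N5174 : nd 5174 = n8026 := ndS (p := 4183) (l := 2) rfl N4183 D8026
theorem N5175 : nd 5175 = n8027 := ndS (p := 4183) (l := 6) rfl N4183 D8027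
theorem N5176 : nd 5176 = n8028 := ndS (p := 4184) (l := 5) rfl N4184 D8028
theorem N5177 : nd 5177 = n8029 := ndS (p := 4184) (l := 7) rfl N4184 D8029
theorem N5178 : nd 5178 = n8030 := ndS (p := 4186) (l := 1) rfl N4186 D8030
theorem N5179 : nd 5179 = n8031 := ndS (p := 4186) (l := 6) rfl N4186 D8031
theorem N5180 : nd 5180 = n8032 := ndS (p := 4187) (l := 7) rfl N4187 D8032
theorem N5181 : nd 5181 = n8033 := ndS (p := 4189) (l := 1) rfl N4189 D8033
theorem N5182 : nd 5182 = n8034 := ndS (p := 4189) (l := 6) rfl N4189 D8034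
theorem N5183 : nd 5183 = n8035 := ndS (p := 4190) (l := 5) rfl N4190 D8035
theorem N5184 : nd 5184 = n8036 := ndS (p := 4191) (l := 8) rfl N4191 D8036
theorem N5185 : nd 5185 = n8037 := ndS (p := 4192) (l := 0) rfl N4192 D8037
theorem N5186 : nd 5186 = n8038 := ndS (p := 4193) (l := 8) rfl N4193 D8038
theorem N5187 : nd 5187 = n8039 := ndS (p := 4194) (l := 5) rfl N4194 D8039
theorem N5188 : nd 5188 = n8040 := ndS (p := 4195) (l := 5) rfl N4195 D8040
theorem N5189 : nd 5189 = n8041 := ndS (p := 4196) (l := 4) rfl N4196 D8041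
theorem N5190 : nd 5190 = n8042 := ndS (p := 4196) (l := 6) rfl N4196 D8042
theorem N5191 : nd 5191 = n8044 := ndS (p := 4197) (l := 6) rfl N4197 D8044
theorem N5192 : nd 5192 = n8045 := ndS (p := 4198) (l := 7) rfl N4198 D8045
theorem N5193 : nd 5193 = n8046 := ndS (p := 4199) (l := 5) rfl N4199 D8046
theorem N5194 : nd 5194 = n8047 := ndS (p := 4200) (l := 5) rfl N4200 D8047
theorem N5195 : nd 5195 = n8048 := ndS (p := 4201) (l := 5) rfl N4201 D8048
theorem N5196 : nd 5196 = n8049 := ndS (p := 4202) (l := 4) rfl N4202 D8049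
theorem N5197 : nd 5197 = n8050 := ndS (p := 4202) (l := 6) rfl N4202 D8050
theorem N5198 : nd 5198 = n8051 := ndS (p := 4203) (l := 4) rfl N4203 D8051
theorem N5199 : nd 5199 = n8052 := ndS (p := 4203) (l := 6) rfl N4203 D8052
theorem N5200 : nd 5200 = n8054 := ndS (p := 4204) (l := 6) rfl N4204 D8054
theorem N5201 : nd 5201 = n8055 := ndS (p := 4205) (l := 7) rfl N4205 D8055
theorem N5202 : nd 5202 = n8059 := ndS (p := 4206) (l := 7) rfl N4206 D8059
theorem N5203 : nd 5203 = n8060 := ndS (p := 4208) (l := 5) rfl N4208 D8060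
theorem N5204 : nd 5204 = n8061 := ndS (p := 4209) (l := 4) rfl N4209 D8061
theorem N5205 : nd 5205 = n8062 := ndS (p := 4209) (l := 6) rfl N4209 D8062
theorem N5206 : nd 5206 = n8063 := ndS (p := 4210) (l := 5) rfl N4210 D8063
theorem N5207 : nd 5207 = n8064 := ndS (p := 4211) (l := 5) rfl N4211 D8064
theorem N5208 : nd 5208 = n8065 := ndS (p := 4212) (l := 4) rfl N4212 D8065
theorem N5209 : nd 5209 = n8066 := ndS (p := 4212) (l := 6) rfl N4212 D8066
theorem N5210 : nd 5210 = n8067 := ndS (p := 4213) (l := 4) rfl N4213 D8067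
theorem N5211 : nd 5211 = n8068 := ndS (p := 4213) (l := 6) rfl N4213 D8068
theorem N5212 : nd 5212 = n8069 := ndS (p := 4214) (l := 3) rfl N4214 D8069
theorem N5213 : nd 5213 = n8070 := ndS (p := 4214) (l := 6) rfl N4214 D8070
theorem N5214 : nd 5214 = n8071 := ndS (p := 4215) (l := 7) rfl N4215 D8071
theorem N5215 : nd 5215 = n8072 := ndS (p := 4216) (l := 3) rfl N4216 D8072
theorem N5216 : nd 5216 = n8073 := ndS (p := 4216) (l := 6) rfl N4216 D8073
theorem N5217 : nd 5217 = n8074 := ndS (p := 4217) (l := 7) rfl N4217 D8074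
theorem N5218 : nd 5218 = n8075 := ndS (p := 4218) (l := 2) rfl N4218 D8075
theorem N5219 : nd 5219 = n8076 := ndS (p := 4218) (l := 6) rfl N4218 D8076
theorem N5220 : nd 5220 = n8077 := ndS (p := 4219) (l := 5) rfl N4219 D8077
theorem N5221 : nd 5221 = n8078 := ndS (p := 4219) (l := 7) rfl N4219 D8078
theorem N5222 : nd 5222 = n8080 := ndS (p := 4221) (l := 7) rfl N4221 D8080
theorem N5223 : nd 5223 = n8081 := ndS (p := 4222) (l := 7) rfl N4222 D8081
theorem N5224 : nd 5224 = n8082 := ndS (p := 4222) (l := 8) rfl N4222 D8082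
theorem N5225 : nd 5225 = n8083 := ndS (p := 4224) (l := 4) rfl N4224 D8083
theorem N5226 : nd 5226 = n8084 := ndS (p := 4224) (l := 6) rfl N4224 D8084
theorem N5227 : nd 5227 = n8085 := ndS (p := 4225) (l := 4) rfl N4225 D8085
theorem N5228 : nd 5228 = n8086 := ndS (p := 4225) (l := 6) rfl N4225 D8086
theorem N5229 : nd 5229 = n8087 := ndS (p := 4226) (l := 3) rfl N4226 D8087
theorem N5230 : nd 5230 = n8088 := ndS (p := 4226) (l := 6) rfl N4226 D8088
theorem N5231 : nd 5231 = n8089 := ndS (p := 4227) (l := 7) rfl N4227 D8089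
theorem N5232 : nd 5232 = n8090 := ndS (p := 4228) (l := 4) rfl N4228 D8090
theorem N5233 : nd 5233 = n8091 := ndS (p := 4228) (l := 6) rfl N4228 D8091
theorem N5234 : nd 5234 = n8092 := ndS (p := 4229) (l := 4) rfl N4229 D8092
theorem N5235 : nd 5235 = n8093 := ndS (p := 4229) (l := 6) rfl N4229 D8093
theorem N5236 : nd 5236 = n8094 := ndS (p := 4230) (l := 3) rfl N4230 D8094
theorem N5237 : nd 5237 = n8095 := ndS (p := 4230) (l := 6) rfl N4230 D8095
theorem N5238 : nd 5238 = n8096 := ndS (p := 4231) (l := 7) rfl N4231 D8096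
theorem N5239 : nd 5239 = n8097 := ndS (p := 4232) (l := 3) rfl N4232 D8097
theorem N5240 : nd 5240 = n8098 := ndS (p := 4232) (l := 6) rfl N4232 D8098
theorem N5241 : nd 5241 = n8099 := ndS (p := 4233) (l := 7) rfl N4233 D8099
theorem N5242 : nd 5242 = n8100 := ndS (p := 4234) (l := 2) rfl N4234 D8100
theorem N5243 : nd 5243 = n8101 := ndS (p := 4234) (l := 6) rfl N4234 D8101
theorem N5244 : nd 5244 = n8102 := ndS (p := 4235) (l := 5) rfl N4235 D8102
theorem N5245 : nd 5245 = n8103 := ndS (p := 4235) (l := 7) rfl N4235 D8103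
theorem N5246 : nd 5246 = n8107 := ndS (p := 4238) (l := 7) rfl N4238 D8107
theorem N5247 : nd 5247 = n8109 := ndS (p := 4240) (l := 6) rfl N4240 D8109
theorem N5248 : nd 5248 = n8110 := ndS (p := 4241) (l := 5) rfl N4241 D8110
theorem N5249 : nd 5249 = n8111 := ndS (p := 4241) (l := 7) rfl N4241 D8111
theorem N5250 : nd 5250 = n8112 := ndS (p := 4242) (l := 7) rfl N4242 D8112
theorem N5251 : nd 5251 = n8113 := ndS (p := 4242) (l := 8) rfl N4242 D8113
theorem N5252 : nd 5252 = n8114 := ndS (p := 4244) (l := 6) rfl N4244 D8114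
theorem N5253 : nd 5253 = n8115 := ndS (p := 4244) (l := 8) rfl N4244 D8115
theorem N5254 : nd 5254 = n8116 := ndS (p := 4245) (l := 9) rfl N4245 D8116
theorem N5255 : nd 5255 = n8117 := ndS (p := 4246) (l := 4) rfl N4246 D8117
theorem N5256 : nd 5256 = n8118 := ndS (p := 4246) (l := 6) rfl N4246 D8118
theorem N5257 : nd 5257 = n8119 := ndS (p := 4247) (l := 3) rfl N4247 D8119
theorem N5258 : nd 5258 = n8120 := ndS (p := 4247) (l := 6) rfl N4247 D8120
theorem N5259 : nd 5259 = n8121 := ndS (p := 4248) (l := 7) rfl N4248 D8121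
theorem N5260 : nd 5260 = n8122 := ndS (p := 4249) (l := 3) rfl N4249 D8122
theorem N5261 : nd 5261 = n8123 := ndS (p := 4249) (l := 6) rfl N4249 D8123
theorem N5262 : nd 5262 = n8124 := ndS (p := 4250) (l := 7) rfl N4250 D8124
theorem N5263 : nd 5263 = n8127 := ndS (p := 4252) (l := 5) rfl N4252 D8127
theorem N5264 : nd 5264 = n8128 := ndS (p := 4252) (l := 7) rfl N4252 D8128
theorem N5265 : nd 5265 = n8129 := ndS (p := 4254) (l := 2) rfl N4254 D8129
theorem N5266 : nd 5266 = n8130 := ndS (p := 4254) (l := 6) rfl N4254 D8130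
theorem N5267 : nd 5267 = n8131 := ndS (p := 4255) (l := 5) rfl N4255 D8131
theorem N5268 : nd 5268 = n8132 := ndS (p := 4255) (l := 7) rfl N4255 D8132
theorem N5269 : nd 5269 = n8134 := ndS (p := 4257) (l := 6) rfl N4257 D8134
theorem N5270 : nd 5270 = n8135 := ndS (p := 4258) (l := 5) rfl N4258 D8135
theorem N5271 : nd 5271 = n8136 := ndS (p := 4258) (l := 7) rfl N4258 D8136
theorem N5272 : nd 5272 = n8137 := ndS (p := 4259) (l := 7) rfl N4259 D8137
theorem N5273 : nd 5273 = n8152 := ndS (p := 4264) (l := 8) rfl N4264 D8152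
theorem N5274 : nd 5274 = n8153 := ndS (p := 4265) (l := 5) rfl N4265 D8153
theorem N5275 : nd 5275 = n8154 := ndS (p := 4266) (l := 5) rfl N4266 D8154
theorem N5276 : nd 5276 = n8155 := ndS (p := 4267) (l := 4) rfl N4267 D8155
theorem N5277 : nd 5277 = n8156 := ndS (p := 4267) (l := 6) rfl N4267 D8156
theorem N5278 : nd 5278 = n8157 := ndS (p := 4268) (l := 4) rfl N4268 D8157
theorem N5279 : nd 5279 = n8158 := ndS (p := 4268) (l := 6) rfl N4268 D8158
theorem N5280 : nd 5280 = n8160 := ndS (p := 4269) (l := 6) rfl N4269 D8160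
theorem N5281 : nd 5281 = n8161 := ndS (p := 4270) (l := 7) rfl N4270 D8161
theorem N5282 : nd 5282 = n8165 := ndS (p := 4271) (l := 7) rfl N4271 D8165
theorem N5283 : nd 5283 = n8166 := ndS (p := 4273) (l := 5) rfl N4273 D8166
theorem N5284 : nd 5284 = n8167 := ndS (p := 4274) (l := 4) rfl N4274 D8167
theorem N5285 : nd 5285 = n8168 := ndS (p := 4274) (l := 6) rfl N4274 D8168
theorem N5286 : nd 5286 = n8169 := ndS (p := 4275) (l := 4) rfl N4275 D8169
theorem N5287 : nd 5287 = n8170 := ndS (p := 4275) (l := 6) rfl N4275 D8170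
theorem N5288 : nd 5288 = n8172 := ndS (p := 4276) (l := 6) rfl N4276 D8172
theorem N5289 : nd 5289 = n8173 := ndS (p := 4277) (l := 7) rfl N4277 D8173
theorem N5290 : nd 5290 = n8175 := ndS (p := 4278) (l := 6) rfl N4278 D8175
theorem N5291 : nd 5291 = n8176 := ndS (p := 4279) (l := 7) rfl N4279 D8176
theorem N5292 : nd 5292 = n8180 := ndS (p := 4280) (l := 7) rfl N4280 D8180
theorem N5293 : nd 5293 = n8186 := ndS (p := 4283) (l := 4) rfl N4283 D8186
theorem N5294 : nd 5294 = n8187 := ndS (p := 4283) (l := 6) rfl N4283 D8187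
theorem N5295 : nd 5295 = n8188 := ndS (p := 4284) (l := 3) rfl N4284 D8188
theorem N5296 : nd 5296 = n8189 := ndS (p := 4284) (l := 6) rfl N4284 D8189
theorem N5297 : nd 5297 = n8190 := ndS (p := 4285) (l := 7) rfl N4285 D8190
theorem N5298 : nd 5298 = n8191 := ndS (p := 4286) (l := 3) rfl N4286 D8191
theorem N5299 : nd 5299 = n8192 := ndS (p := 4286) (l := 6) rfl N4286 D8192
theorem N5300 : nd 5300 = n8193 := ndS (p := 4287) (l := 7) rfl N4287 D8193
theorem N5301 : nd 5301 = n8194 := ndS (p := 4288) (l := 2) rfl N4288 D8194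
theorem N5302 : nd 5302 = n8195 := ndS (p := 4288) (l := 6) rfl N4288 D8195
theorem N5303 : nd 5303 = n8196 := ndS (p := 4289) (l := 5) rfl N4289 D8196
theorem N5304 : nd 5304 = n8197 := ndS (p := 4289) (l := 7) rfl N4289 D8197
theorem N5305 : nd 5305 = n8199 := ndS (p := 4291) (l := 6) rfl N4291 D8199
theorem N5306 : nd 5306 = n8200 := ndS (p := 4292) (l := 5) rfl N4292 D8200
theorem N5307 : nd 5307 = n8201 := ndS (p := 4292) (l := 7) rfl N4292 D8201
theorem N5308 : nd 5308 = n8205 := ndS (p := 4295) (l := 7) rfl N4295 D8205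
theorem N5309 : nd 5309 = n8206 := ndS (p := 4296) (l := 7) rfl N4296 D8206
theorem N5310 : nd 5310 = n8207 := ndS (p := 4296) (l := 8) rfl N4296 D8207
theorem N5311 : nd 5311 = n8212 := ndS (p := 4299) (l := 8) rfl N4299 D8212
theorem N5312 : nd 5312 = n8213 := ndS (p := 4300) (l := 9) rfl N4300 D8213
theorem N5313 : nd 5313 = n8214 := ndS (p := 4301) (l := 3) rfl N4301 D8214
theorem N5314 : nd 5314 = n8215 := ndS (p := 4301) (l := 6) rfl N4301 D8215
theorem N5315 : nd 5315 = n8216 := ndS (p := 4302) (l := 7) rfl N4302 D8216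
theorem N5316 : nd 5316 = n8219 := ndS (p := 4304) (l := 5) rfl N4304 D8219
theorem N5317 : nd 5317 = n8220 := ndS (p := 4304) (l := 7) rfl N4304 D8220
theorem N5318 : nd 5318 = n8221 := ndS (p := 4306) (l := 2) rfl N4306 D8221
theorem N5319 : nd 5319 = n8222 := ndS (p := 4306) (l := 6) rfl N4306 D8222
theorem N5320 : nd 5320 = n8223 := ndS (p := 4307) (l := 5) rfl N4307 D8223
theorem N5321 : nd 5321 = n8224 := ndS (p := 4307) (l := 7) rfl N4307 D8224
theorem N5322 : nd 5322 = n8226 := ndS (p := 4309) (l := 6) rfl N4309 D8226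
theorem N5323 : nd 5323 = n8227 := ndS (p := 4310) (l := 5) rfl N4310 D8227
theorem N5324 : nd 5324 = n8228 := ndS (p := 4310) (l := 7) rfl N4310 D8228
theorem N5325 : nd 5325 = n8229 := ndS (p := 4311) (l := 7) rfl N4311 D8229
theorem N5326 : nd 5326 = n8230 := ndS (p := 4311) (l := 8) rfl N4311 D8230
theorem N5327 : nd 5327 = n8240 := ndS (p := 4314) (l := 7) rfl N4314 D8240
theorem N5328 : nd 5328 = n8241 := ndS (p := 4315) (l := 7) rfl N4315 D8241
theorem N5329 : nd 5329 = n8242 := ndS (p := 4315) (l := 8) rfl N4315 D8242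
theorem N5330 : nd 5330 = n8244 := ndS (p := 4317) (l := 8) rfl N4317 D8244
theorem N5331 : nd 5331 = n8245 := ndS (p := 4318) (l := 9) rfl N4318 D8245
theorem N5332 : nd 5332 = n8246 := ndS (p := 4319) (l := 8) rfl N4319 D8246
theorem N5333 : nd 5333 = n8247 := ndS (p := 4320) (l := 9) rfl N4320 D8247
theorem N5334 : nd 5334 = n8250 := ndS (p := 4323) (l := 7) rfl N4323 D8250
theorem N5335 : nd 5335 = n8255 := ndS (p := 4326) (l := 6) rfl N4326 D8255
theorem N5336 : nd 5336 = n8256 := ndS (p := 4327) (l := 5) rfl N4327 D8256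
theorem N5337 : nd 5337 = n8257 := ndS (p := 4327) (l := 7) rfl N4327 D8257
theorem N5338 : nd 5338 = n8258 := ndS (p := 4328) (l := 7) rfl N4328 D8258
theorem N5339 : nd 5339 = n8259 := ndS (p := 4328) (l := 8) rfl N4328 D8259
theorem N5340 : nd 5340 = n8262 := ndS (p := 4330) (l := 5) rfl N4330 D8262
theorem N5341 : nd 5341 = n8264 := ndS (p := 4331) (l := 4) rfl N4331 D8264
theorem N5342 : nd 5342 = n8265 := ndS (p := 4331) (l := 7) rfl N4331 D8265
theorem N5343 : nd 5343 = n8281 := ndS (p := 4334) (l := 5) rfl N4334 D8281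
theorem N5344 : nd 5344 = n8282 := ndS (p := 4335) (l := 4) rfl N4335 D8282
theorem N5345 : nd 5345 = n8283 := ndS (p := 4335) (l := 8) rfl N4335 D8283
theorem N5346 : nd 5346 = n8286 := ndS (p := 4337) (l := 4) rfl N4337 D8286
theorem N5347 : nd 5347 = n8287 := ndS (p := 4339) (l := 4) rfl N4339 D8287
theorem N5348 : nd 5348 = n8289 := ndS (p := 4340) (l := 4) rfl N4340 D8289
theorem N5349 : nd 5349 = n8298 := ndS (p := 4342) (l := 4) rfl N4342 D8298
theorem N5350 : nd 5350 = n8299 := ndS (p := 4342) (l := 6) rfl N4342 D8299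
theorem N5351 : nd 5351 = n8300 := ndS (p := 4343) (l := 4) rfl N4343 D8300
theorem N5352 : nd 5352 = n8317 := ndS (p := 4346) (l := 4) rfl N4346 D8317
theorem N5353 : nd 5353 = n8318 := ndS (p := 4346) (l := 6) rfl N4346 D8318
theorem N5354 : nd 5354 = n8319 := ndS (p := 4347) (l := 4) rfl N4347 D8319
theorem N5355 : nd 5355 = n8320 := ndS (p := 4347) (l := 6) rfl N4347 D8320
theorem N5356 : nd 5356 = n8321 := ndS (p := 4348) (l := 3) rfl N4348 D8321
theorem N5357 : nd 5357 = n8322 := ndS (p := 4348) (l := 6) rfl N4348 D8322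
theorem N5358 : nd 5358 = n8323 := ndS (p := 4349) (l := 7) rfl N4349 D8323
theorem N5359 : nd 5359 = n8324 := ndS (p := 4350) (l := 4) rfl N4350 D8324
theorem N5360 : nd 5360 = n8325 := ndS (p := 4350) (l := 6) rfl N4350 D8325
theorem N5361 : nd 5361 = n8326 := ndS (p := 4351) (l := 3) rfl N4351 D8326
theorem N5362 : nd 5362 = n8327 := ndS (p := 4351) (l := 6) rfl N4351 D8327
theorem N5363 : nd 5363 = n8331 := ndS (p := 4354) (l := 5) rfl N4354 D8331
theorem N5364 : nd 5364 = n8349 := ndS (p := 4357) (l := 4) rfl N4357 D8349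
theorem N5365 : nd 5365 = n8350 := ndS (p := 4357) (l := 6) rfl N4357 D8350
theorem N5366 : nd 5366 = n8352 := ndS (p := 4358) (l := 6) rfl N4358 D8352
theorem N5367 : nd 5367 = n8353 := ndS (p := 4359) (l := 7) rfl N4359 D8353
theorem N5368 : nd 5368 = n8354 := ndS (p := 4360) (l := 2) rfl N4360 D8354
theorem N5369 : nd 5369 = n8355 := ndS (p := 4360) (l := 6) rfl N4360 D8355
theorem N5370 : nd 5370 = n8356 := ndS (p := 4361) (l := 5) rfl N4361 D8356
theorem N5371 : nd 5371 = n8357 := ndS (p := 4361) (l := 7) rfl N4361 D8357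
theorem N5372 : nd 5372 = n8358 := ndS (p := 4363) (l := 3) rfl N4363 D8358
theorem N5373 : nd 5373 = n8359 := ndS (p := 4363) (l := 6) rfl N4363 D8359
theorem N5374 : nd 5374 = n8360 := ndS (p := 4364) (l := 7) rfl N4364 D8360
theorem N5375 : nd 5375 = n8367 := ndS (p := 4367) (l := 5) rfl N4367 D8367
theorem N5376 : nd 5376 = n8370 := ndS (p := 4368) (l := 8) rfl N4368 D8370
theorem N5377 : nd 5377 = n8382 := ndS (p := 4369) (l := 8) rfl N4369 D8382
theorem N5378 : nd 5378 = n8385 := ndS (p := 4370) (l := 9) rfl N4370 D8385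
theorem N5379 : nd 5379 = n8401 := ndS (p := 4374) (l := 4) rfl N4374 D8401
theorem N5380 : nd 5380 = n8492 := ndS (p := 4377) (l := 9) rfl N4377 D8492
theorem N5381 : nd 5381 = n8919 := ndS (p := 4380) (l := 4) rfl N4380 D8919
theorem N5382 : nd 5382 = n8920 := ndS (p := 4380) (l := 6) rfl N4380 D8920
theorem N5383 : nd 5383 = n8921 := ndS (p := 4381) (l := 4) rfl N4381 D8921
theorem N5384 : nd 5384 = n8922 := ndS (p := 4381) (l := 6) rfl N4381 D8922
theorem N5385 : nd 5385 = n8923 := ndS (p := 4382) (l := 7) rfl N4382 D8923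
theorem N5386 : nd 5386 = n8924 := ndS (p := 4383) (l := 3) rfl N4383 D8924
theorem N5387 : nd 5387 = n8925 := ndS (p := 4384) (l := 8) rfl N4384 D8925
theorem N5388 : nd 5388 = n8926 := ndS (p := 4385) (l := 5) rfl N4385 D8926
theorem N5389 : nd 5389 = n8927 := ndS (p := 4386) (l := 4) rfl N4386 D8927
theorem N5390 : nd 5390 = n8928 := ndS (p := 4386) (l := 6) rfl N4386 D8928
theorem N5391 : nd 5391 = n8929 := ndS (p := 4387) (l := 6) rfl N4387 D8929
theorem N5392 : nd 5392 = n8930 := ndS (p := 4388) (l := 7) rfl N4388 D8930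
theorem N5393 : nd 5393 = n8931 := ndS (p := 4390) (l := 5) rfl N4390 D8931
theorem N5394 : nd 5394 = n8932 := ndS (p := 4391) (l := 4) rfl N4391 D8932
theorem N5395 : nd 5395 = n8933 := ndS (p := 4391) (l := 6) rfl N4391 D8933
theorem N5396 : nd 5396 = n8934 := ndS (p := 4392) (l := 3) rfl N4392 D8934
theorem N5397 : nd 5397 = n8935 := ndS (p := 4392) (l := 6) rfl N4392 D8935
theorem N5398 : nd 5398 = n8936 := ndS (p := 4393) (l := 7) rfl N4393 D8936
theorem N5399 : nd 5399 = n8937 := ndS (p := 4394) (l := 5) rfl N4394 D8937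
theorem N5400 : nd 5400 = n8938 := ndS (p := 4394) (l := 7) rfl N4394 D8938
theorem N5401 : nd 5401 = n8939 := ndS (p := 4396) (l := 5) rfl N4396 D8939
theorem N5402 : nd 5402 = n8940 := ndS (p := 4397) (l := 4) rfl N4397 D8940
theorem N5403 : nd 5403 = n8941 := ndS (p := 4397) (l := 6) rfl N4397 D8941
theorem N5404 : nd 5404 = n8943 := ndS (p := 4399) (l := 3) rfl N4399 D8943
theorem N5405 : nd 5405 = n8944 := ndS (p := 4400) (l := 8) rfl N4400 D8944
theorem N5406 : nd 5406 = n8945 := ndS (p := 4401) (l := 5) rfl N4401 D8945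
theorem N5407 : nd 5407 = n8946 := ndS (p := 4402) (l := 8) rfl N4402 D8946
theorem N5408 : nd 5408 = n8947 := ndS (p := 4403) (l := 5) rfl N4403 D8947
theorem N5409 : nd 5409 = n8948 := ndS (p := 4404) (l := 4) rfl N4404 D8948
theorem N5410 : nd 5410 = n8949 := ndS (p := 4404) (l := 6) rfl N4404 D8949
theorem N5411 : nd 5411 = n8950 := ndS (p := 4405) (l := 5) rfl N4405 D8950
theorem N5412 : nd 5412 = n8951 := ndS (p := 4406) (l := 4) rfl N4406 D8951
theorem N5413 : nd 5413 = n8952 := ndS (p := 4406) (l := 6) rfl N4406 D8952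
theorem N5414 : nd 5414 = n8953 := ndS (p := 4407) (l := 6) rfl N4407 D8953
theorem N5415 : nd 5415 = n8954 := ndS (p := 4408) (l := 7) rfl N4408 D8954
theorem N5416 : nd 5416 = n8955 := ndS (p := 4409) (l := 5) rfl N4409 D8955
theorem N5417 : nd 5417 = n8956 := ndS (p := 4410) (l := 4) rfl N4410 D8956
theorem N5418 : nd 5418 = n8957 := ndS (p := 4410) (l := 6) rfl N4410 D8957
theorem N5419 : nd 5419 = n8958 := ndS (p := 4411) (l := 4) rfl N4411 D8958
theorem N5420 : nd 5420 = n8959 := ndS (p := 4411) (l := 6) rfl N4411 D8959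
theorem N5421 : nd 5421 = n8960 := ndS (p := 4412) (l := 3) rfl N4412 D8960
theorem N5422 : nd 5422 = n8961 := ndS (p := 4412) (l := 6) rfl N4412 D8961
theorem N5423 : nd 5423 = n8962 := ndS (p := 4413) (l := 7) rfl N4413 D8962
theorem N5424 : nd 5424 = n8963 := ndS (p := 4415) (l := 3) rfl N4415 D8963
theorem N5425 : nd 5425 = n8964 := ndS (p := 4415) (l := 6) rfl N4415 D8964
theorem N5426 : nd 5426 = n8965 := ndS (p := 4417) (l := 2) rfl N4417 D8965
theorem N5427 : nd 5427 = n8966 := ndS (p := 4418) (l := 9) rfl N4418 D8966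
theorem N5428 : nd 5428 = n8967 := ndS (p := 4419) (l := 8) rfl N4419 D8967
theorem N5429 : nd 5429 = n8968 := ndS (p := 4420) (l := 5) rfl N4420 D8968
theorem N5430 : nd 5430 = n8969 := ndS (p := 4421) (l := 8) rfl N4421 D8969
theorem N5431 : nd 5431 = n8970 := ndS (p := 4422) (l := 5) rfl N4422 D8970
theorem N5432 : nd 5432 = n8971 := ndS (p := 4423) (l := 4) rfl N4423 D8971
theorem N5433 : nd 5433 = n8972 := ndS (p := 4423) (l := 6) rfl N4423 D8972
theorem N5434 : nd 5434 = n8973 := ndS (p := 4424) (l := 9) rfl N4424 D8973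
theorem N5435 : nd 5435 = n8974 := ndS (p := 4425) (l := 8) rfl N4425 D8974
theorem N5436 : nd 5436 = n8975 := ndS (p := 4426) (l := 5) rfl N4426 D8975
theorem N5437 : nd 5437 = n8976 := ndS (p := 4427) (l := 4) rfl N4427 D8976
theorem N5438 : nd 5438 = n8977 := ndS (p := 4427) (l := 6) rfl N4427 D8977
theorem N5439 : nd 5439 = n8978 := ndS (p := 4428) (l := 3) rfl N4428 D8978
theorem N5440 : nd 5440 = n8979 := ndS (p := 4428) (l := 6) rfl N4428 D8979
theorem N5441 : nd 5441 = n8980 := ndS (p := 4429) (l := 7) rfl N4429 D8980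
theorem N5442 : nd 5442 = n8981 := ndS (p := 4430) (l := 5) rfl N4430 D8981
theorem N5443 : nd 5443 = n8982 := ndS (p := 4431) (l := 4) rfl N4431 D8982
theorem N5444 : nd 5444 = n8983 := ndS (p := 4431) (l := 6) rfl N4431 D8983
theorem N5445 : nd 5445 = n8984 := ndS (p := 4432) (l := 3) rfl N4432 D8984
theorem N5446 : nd 5446 = n8985 := ndS (p := 4432) (l := 6) rfl N4432 D8985
theorem N5447 : nd 5447 = n8986 := ndS (p := 4433) (l := 7) rfl N4433 D8986
theorem N5448 : nd 5448 = n8987 := ndS (p := 4434) (l := 5) rfl N4434 D8987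
theorem N5449 : nd 5449 = n8988 := ndS (p := 4434) (l := 7) rfl N4434 D8988
theorem N5450 : nd 5450 = n8989 := ndS (p := 4436) (l := 3) rfl N4436 D8989
theorem N5451 : nd 5451 = n8990 := ndS (p := 4436) (l := 6) rfl N4436 D8990
theorem N5452 : nd 5452 = n8991 := ndS (p := 4437) (l := 7) rfl N4437 D8991
theorem N5453 : nd 5453 = n8992 := ndS (p := 4438) (l := 2) rfl N4438 D8992
theorem N5454 : nd 5454 = n8993 := ndS (p := 4438) (l := 6) rfl N4438 D8993
theorem N5455 : nd 5455 = n8994 := ndS (p := 4439) (l := 7) rfl N4439 D8994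
theorem N5456 : nd 5456 = n8996 := ndS (p := 4442) (l := 5) rfl N4442 D8996
theorem N5457 : nd 5457 = n8997 := ndS (p := 4443) (l := 4) rfl N4443 D8997
theorem N5458 : nd 5458 = n8998 := ndS (p := 4443) (l := 6) rfl N4443 D8998
theorem N5459 : nd 5459 = n8999 := ndS (p := 4444) (l := 4) rfl N4444 D8999
theorem N5460 : nd 5460 = n9000 := ndS (p := 4444) (l := 6) rfl N4444 D9000
theorem N5461 : nd 5461 = n9001 := ndS (p := 4445) (l := 3) rfl N4445 D9001
theorem N5462 : nd 5462 = n9002 := ndS (p := 4445) (l := 6) rfl N4445 D9002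
theorem N5463 : nd 5463 = n9003 := ndS (p := 4446) (l := 7) rfl N4446 D9003
theorem N5464 : nd 5464 = n9004 := ndS (p := 4447) (l := 3) rfl N4447 D9004
theorem N5465 : nd 5465 = n9005 := ndS (p := 4447) (l := 6) rfl N4447 D9005
theorem N5466 : nd 5466 = n9006 := ndS (p := 4448) (l := 7) rfl N4448 D9006
theorem N5467 : nd 5467 = n9007 := ndS (p := 4449) (l := 6) rfl N4449 D9007
theorem N5468 : nd 5468 = n9008 := ndS (p := 4450) (l := 5) rfl N4450 D9008
theorem N5469 : nd 5469 = n9009 := ndS (p := 4450) (l := 7) rfl N4450 D9009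
theorem N5470 : nd 5470 = n9010 := ndS (p := 4452) (l := 2) rfl N4452 D9010
theorem N5471 : nd 5471 = n9011 := ndS (p := 4452) (l := 6) rfl N4452 D9011
theorem N5472 : nd 5472 = n9012 := ndS (p := 4453) (l := 5) rfl N4453 D9012
theorem N5473 : nd 5473 = n9013 := ndS (p := 4453) (l := 7) rfl N4453 D9013
theorem N5474 : nd 5474 = n9014 := ndS (p := 4455) (l := 7) rfl N4455 D9014
theorem N5475 : nd 5475 = n9015 := ndS (p := 4455) (l := 8) rfl N4455 D9015
theorem N5476 : nd 5476 = n9017 := ndS (p := 4457) (l := 6) rfl N4457 D9017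
theorem N5477 : nd 5477 = n9018 := ndS (p := 4458) (l := 7) rfl N4458 D9018
theorem N5478 : nd 5478 = n9020 := ndS (p := 4460) (l := 9) rfl N4460 D9020
theorem N5479 : nd 5479 = n9021 := ndS (p := 4461) (l := 8) rfl N4461 D9021
theorem N5480 : nd 5480 = n9022 := ndS (p := 4462) (l := 5) rfl N4462 D9022
theorem N5481 : nd 5481 = n9023 := ndS (p := 4463) (l := 9) rfl N4463 D9023
theorem N5482 : nd 5482 = n9024 := ndS (p := 4464) (l := 8) rfl N4464 D9024
theorem N5483 : nd 5483 = n9025 := ndS (p := 4465) (l := 5) rfl N4465 D9025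
theorem N5484 : nd 5484 = n9026 := ndS (p := 4466) (l := 4) rfl N4466 D9026
theorem N5485 : nd 5485 = n9027 := ndS (p := 4466) (l := 6) rfl N4466 D9027
theorem N5486 : nd 5486 = n9028 := ndS (p := 4467) (l := 9) rfl N4467 D9028
theorem N5487 : nd 5487 = n9029 := ndS (p := 4468) (l := 9) rfl N4468 D9029
theorem N5488 : nd 5488 = n9030 := ndS (p := 4469) (l := 9) rfl N4469 D9030
theorem N5489 : nd 5489 = n9031 := ndS (p := 4470) (l := 8) rfl N4470 D9031
theorem N5490 : nd 5490 = n9032 := ndS (p := 4471) (l := 9) rfl N4471 D9032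
theorem N5491 : nd 5491 = n9033 := ndS (p := 4472) (l := 9) rfl N4472 D9033
theorem N5492 : nd 5492 = n9034 := ndS (p := 4473) (l := 8) rfl N4473 D9034
theorem N5493 : nd 5493 = n9035 := ndS (p := 4474) (l := 8) rfl N4474 D9035
theorem N5494 : nd 5494 = n9036 := ndS (p := 4475) (l := 5) rfl N4475 D9036
theorem N5495 : nd 5495 = n9037 := ndS (p := 4476) (l := 5) rfl N4476 D9037
theorem N5496 : nd 5496 = n9038 := ndS (p := 4477) (l := 4) rfl N4477 D9038
theorem N5497 : nd 5497 = n9039 := ndS (p := 4477) (l := 6) rfl N4477 D9039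
theorem N5498 : nd 5498 = n9040 := ndS (p := 4478) (l := 3) rfl N4478 D9040
theorem N5499 : nd 5499 = n9041 := ndS (p := 4478) (l := 6) rfl N4478 D9041
theorem N5500 : nd 5500 = n9042 := ndS (p := 4479) (l := 7) rfl N4479 D9042
theorem N5501 : nd 5501 = n9043 := ndS (p := 4480) (l := 8) rfl N4480 D9043
theorem N5502 : nd 5502 = n9044 := ndS (p := 4481) (l := 8) rfl N4481 D9044
theorem N5503 : nd 5503 = n9045 := ndS (p := 4482) (l := 5) rfl N4482 D9045
theorem N5504 : nd 5504 = n9046 := ndS (p := 4483) (l := 8) rfl N4483 D9046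
theorem N5505 : nd 5505 = n9047 := ndS (p := 4484) (l := 8) rfl N4484 D9047
theorem N5506 : nd 5506 = n9048 := ndS (p := 4485) (l := 5) rfl N4485 D9048
theorem N5507 : nd 5507 = n9049 := ndS (p := 4486) (l := 5) rfl N4486 D9049
theorem N5508 : nd 5508 = n9050 := ndS (p := 4487) (l := 4) rfl N4487 D9050
theorem N5509 : nd 5509 = n9051 := ndS (p := 4487) (l := 6) rfl N4487 D9051
theorem N5510 : nd 5510 = n9052 := ndS (p := 4488) (l := 4) rfl N4488 D9052
theorem N5511 : nd 5511 = n9053 := ndS (p := 4488) (l := 6) rfl N4488 D9053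
theorem N5512 : nd 5512 = n9054 := ndS (p := 4489) (l := 3) rfl N4489 D9054
theorem N5513 : nd 5513 = n9055 := ndS (p := 4489) (l := 6) rfl N4489 D9055
theorem N5514 : nd 5514 = n9056 := ndS (p := 4490) (l := 7) rfl N4490 D9056
theorem N5515 : nd 5515 = n9057 := ndS (p := 4491) (l := 5) rfl N4491 D9057
theorem N5516 : nd 5516 = n9058 := ndS (p := 4491) (l := 7) rfl N4491 D9058
theorem N5517 : nd 5517 = n9059 := ndS (p := 4493) (l := 5) rfl N4493 D9059
theorem N5518 : nd 5518 = n9060 := ndS (p := 4494) (l := 5) rfl N4494 D9060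
theorem N5519 : nd 5519 = n9061 := ndS (p := 4495) (l := 4) rfl N4495 D9061
theorem N5520 : nd 5520 = n9062 := ndS (p := 4495) (l := 6) rfl N4495 D9062
theorem N5521 : nd 5521 = n9063 := ndS (p := 4496) (l := 4) rfl N4496 D9063
theorem N5522 : nd 5522 = n9064 := ndS (p := 4496) (l := 6) rfl N4496 D9064
theorem N5523 : nd 5523 = n9065 := ndS (p := 4497) (l := 3) rfl N4497 D9065
theorem N5524 : nd 5524 = n9066 := ndS (p := 4497) (l := 6) rfl N4497 D9066
theorem N5525 : nd 5525 = n9067 := ndS (p := 4498) (l := 7) rfl N4498 D9067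
theorem N5526 : nd 5526 = n9068 := ndS (p := 4499) (l := 3) rfl N4499 D9068
theorem N5527 : nd 5527 = n9069 := ndS (p := 4499) (l := 6) rfl N4499 D9069
theorem N5528 : nd 5528 = n9070 := ndS (p := 4500) (l := 7) rfl N4500 D9070
theorem N5529 : nd 5529 = n9071 := ndS (p := 4501) (l := 2) rfl N4501 D9071
theorem N5530 : nd 5530 = n9072 := ndS (p := 4501) (l := 6) rfl N4501 D9072
theorem N5531 : nd 5531 = n9073 := ndS (p := 4502) (l := 7) rfl N4502 D9073
theorem N5532 : nd 5532 = n9074 := ndS (p := 4504) (l := 2) rfl N4504 D9074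
theorem N5533 : nd 5533 = n9075 := ndS (p := 4504) (l := 6) rfl N4504 D9075
theorem N5534 : nd 5534 = n9076 := ndS (p := 4505) (l := 5) rfl N4505 D9076
theorem N5535 : nd 5535 = n9077 := ndS (p := 4506) (l := 1) rfl N4506 D9077
theorem N5536 : nd 5536 = n9078 := ndS (p := 4507) (l := 9) rfl N4507 D9078
theorem N5537 : nd 5537 = n9079 := ndS (p := 4508) (l := 9) rfl N4508 D9079
theorem N5538 : nd 5538 = n9080 := ndS (p := 4509) (l := 9) rfl N4509 D9080
theorem N5539 : nd 5539 = n9081 := ndS (p := 4510) (l := 8) rfl N4510 D9081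
theorem N5540 : nd 5540 = n9082 := ndS (p := 4511) (l := 8) rfl N4511 D9082
theorem N5541 : nd 5541 = n9083 := ndS (p := 4512) (l := 5) rfl N4512 D9083
theorem N5542 : nd 5542 = n9084 := ndS (p := 4513) (l := 4) rfl N4513 D9084
theorem N5543 : nd 5543 = n9085 := ndS (p := 4513) (l := 6) rfl N4513 D9085
theorem N5544 : nd 5544 = n9086 := ndS (p := 4514) (l := 9) rfl N4514 D9086
theorem N5545 : nd 5545 = n9087 := ndS (p := 4515) (l := 8) rfl N4515 D9087
theorem N5546 : nd 5546 = n9088 := ndS (p := 4516) (l := 9) rfl N4516 D9088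
theorem N5547 : nd 5547 = n9089 := ndS (p := 4517) (l := 8) rfl N4517 D9089
theorem N5548 : nd 5548 = n9090 := ndS (p := 4518) (l := 8) rfl N4518 D9090
theorem N5549 : nd 5549 = n9091 := ndS (p := 4519) (l := 5) rfl N4519 D9091
theorem N5550 : nd 5550 = n9092 := ndS (p := 4520) (l := 5) rfl N4520 D9092
theorem N5551 : nd 5551 = n9093 := ndS (p := 4521) (l := 4) rfl N4521 D9093
theorem N5552 : nd 5552 = n9094 := ndS (p := 4521) (l := 6) rfl N4521 D9094
theorem N5553 : nd 5553 = n9095 := ndS (p := 4522) (l := 3) rfl N4522 D9095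
theorem N5554 : nd 5554 = n9096 := ndS (p := 4522) (l := 6) rfl N4522 D9096
theorem N5555 : nd 5555 = n9097 := ndS (p := 4523) (l := 7) rfl N4523 D9097
theorem N5556 : nd 5556 = n9098 := ndS (p := 4524) (l := 8) rfl N4524 D9098
theorem N5557 : nd 5557 = n9099 := ndS (p := 4525) (l := 8) rfl N4525 D9099
theorem N5558 : nd 5558 = n9100 := ndS (p := 4526) (l := 8) rfl N4526 D9100
theorem N5559 : nd 5559 = n9101 := ndS (p := 4527) (l := 5) rfl N4527 D9101
theorem N5560 : nd 5560 = n9102 := ndS (p := 4528) (l := 8) rfl N4528 D9102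
theorem N5561 : nd 5561 = n9103 := ndS (p := 4529) (l := 5) rfl N4529 D9103
theorem N5562 : nd 5562 = n9104 := ndS (p := 4530) (l := 5) rfl N4530 D9104
theorem N5563 : nd 5563 = n9105 := ndS (p := 4531) (l := 4) rfl N4531 D9105
theorem N5564 : nd 5564 = n9106 := ndS (p := 4531) (l := 6) rfl N4531 D9106
theorem N5565 : nd 5565 = n9107 := ndS (p := 4532) (l := 4) rfl N4532 D9107
theorem N5566 : nd 5566 = n9108 := ndS (p := 4532) (l := 6) rfl N4532 D9108
theorem N5567 : nd 5567 = n9109 := ndS (p := 4533) (l := 3) rfl N4533 D9109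
theorem N5568 : nd 5568 = n9110 := ndS (p := 4533) (l := 6) rfl N4533 D9110
theorem N5569 : nd 5569 = n9111 := ndS (p := 4534) (l := 7) rfl N4534 D9111
theorem N5570 : nd 5570 = n9112 := ndS (p := 4535) (l := 6) rfl N4535 D9112
theorem N5571 : nd 5571 = n9113 := ndS (p := 4536) (l := 5) rfl N4536 D9113
theorem N5572 : nd 5572 = n9114 := ndS (p := 4536) (l := 7) rfl N4536 D9114
theorem N5573 : nd 5573 = n9115 := ndS (p := 4538) (l := 8) rfl N4538 D9115
theorem N5574 : nd 5574 = n9116 := ndS (p := 4539) (l := 5) rfl N4539 D9116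
theorem N5575 : nd 5575 = n9117 := ndS (p := 4540) (l := 5) rfl N4540 D9117
theorem N5576 : nd 5576 = n9118 := ndS (p := 4541) (l := 4) rfl N4541 D9118
theorem N5577 : nd 5577 = n9119 := ndS (p := 4541) (l := 6) rfl N4541 D9119
theorem N5578 : nd 5578 = n9120 := ndS (p := 4542) (l := 5) rfl N4542 D9120
theorem N5579 : nd 5579 = n9121 := ndS (p := 4543) (l := 4) rfl N4543 D9121
theorem N5580 : nd 5580 = n9122 := ndS (p := 4543) (l := 6) rfl N4543 D9122
theorem N5581 : nd 5581 = n9123 := ndS (p := 4544) (l := 4) rfl N4544 D9123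
theorem N5582 : nd 5582 = n9124 := ndS (p := 4544) (l := 6) rfl N4544 D9124
theorem N5583 : nd 5583 = n9125 := ndS (p := 4545) (l := 3) rfl N4545 D9125
theorem N5584 : nd 5584 = n9126 := ndS (p := 4545) (l := 6) rfl N4545 D9126
theorem N5585 : nd 5585 = n9127 := ndS (p := 4546) (l := 7) rfl N4546 D9127
theorem N5586 : nd 5586 = n9128 := ndS (p := 4547) (l := 3) rfl N4547 D9128
theorem N5587 : nd 5587 = n9129 := ndS (p := 4547) (l := 6) rfl N4547 D9129
theorem N5588 : nd 5588 = n9130 := ndS (p := 4548) (l := 7) rfl N4548 D9130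
theorem N5589 : nd 5589 = n9131 := ndS (p := 4549) (l := 2) rfl N4549 D9131
theorem N5590 : nd 5590 = n9132 := ndS (p := 4549) (l := 6) rfl N4549 D9132
theorem N5591 : nd 5591 = n9133 := ndS (p := 4550) (l := 5) rfl N4550 D9133
theorem N5592 : nd 5592 = n9134 := ndS (p := 4550) (l := 7) rfl N4550 D9134
theorem N5593 : nd 5593 = n9135 := ndS (p := 4552) (l := 7) rfl N4552 D9135
theorem N5594 : nd 5594 = n9136 := ndS (p := 4552) (l := 8) rfl N4552 D9136
theorem N5595 : nd 5595 = n9137 := ndS (p := 4554) (l := 4) rfl N4554 D9137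
theorem N5596 : nd 5596 = n9138 := ndS (p := 4554) (l := 6) rfl N4554 D9138
theorem N5597 : nd 5597 = n9139 := ndS (p := 4555) (l := 3) rfl N4555 D9139
theorem N5598 : nd 5598 = n9140 := ndS (p := 4555) (l := 6) rfl N4555 D9140
theorem N5599 : nd 5599 = n9141 := ndS (p := 4556) (l := 7) rfl N4556 D9141
theorem N5600 : nd 5600 = n9142 := ndS (p := 4557) (l := 3) rfl N4557 D9142
theorem N5601 : nd 5601 = n9143 := ndS (p := 4557) (l := 6) rfl N4557 D9143
theorem N5602 : nd 5602 = n9144 := ndS (p := 4558) (l := 7) rfl N4558 D9144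
theorem N5603 : nd 5603 = n9145 := ndS (p := 4559) (l := 2) rfl N4559 D9145
theorem N5604 : nd 5604 = n9146 := ndS (p := 4559) (l := 6) rfl N4559 D9146
theorem N5605 : nd 5605 = n9147 := ndS (p := 4560) (l := 5) rfl N4560 D9147
theorem N5606 : nd 5606 = n9148 := ndS (p := 4560) (l := 7) rfl N4560 D9148
theorem N5607 : nd 5607 = n9149 := ndS (p := 4562) (l := 2) rfl N4562 D9149
theorem N5608 : nd 5608 = n9150 := ndS (p := 4562) (l := 6) rfl N4562 D9150
theorem N5609 : nd 5609 = n9151 := ndS (p := 4563) (l := 5) rfl N4563 D9151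
theorem N5610 : nd 5610 = n9152 := ndS (p := 4563) (l := 7) rfl N4563 D9152
theorem N5611 : nd 5611 = n9153 := ndS (p := 4565) (l := 1) rfl N4565 D9153
theorem N5612 : nd 5612 = n9154 := ndS (p := 4565) (l := 6) rfl N4565 D9154
theorem N5613 : nd 5613 = n9155 := ndS (p := 4566) (l := 7) rfl N4566 D9155
theorem N5614 : nd 5614 = n9156 := ndS (p := 4568) (l := 1) rfl N4568 D9156
theorem N5615 : nd 5615 = n9159 := ndS (p := 4569) (l := 8) rfl N4569 D9159
theorem N5616 : nd 5616 = n9160 := ndS (p := 4570) (l := 0) rfl N4570 D9160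
theorem N5617 : nd 5617 = n9161 := ndS (p := 4571) (l := 8) rfl N4571 D9161
theorem N5618 : nd 5618 = n9162 := ndS (p := 4572) (l := 5) rfl N4572 D9162
theorem N5619 : nd 5619 = n9163 := ndS (p := 4573) (l := 5) rfl N4573 D9163
theorem N5620 : nd 5620 = n9164 := ndS (p := 4574) (l := 4) rfl N4574 D9164
theorem N5621 : nd 5621 = n9165 := ndS (p := 4574) (l := 6) rfl N4574 D9165
theorem N5622 : nd 5622 = n9166 := ndS (p := 4575) (l := 3) rfl N4575 D9166
theorem N5623 : nd 5623 = n9167 := ndS (p := 4575) (l := 6) rfl N4575 D9167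
theorem N5624 : nd 5624 = n9168 := ndS (p := 4576) (l := 7) rfl N4576 D9168
theorem N5625 : nd 5625 = n9169 := ndS (p := 4577) (l := 5) rfl N4577 D9169
theorem N5626 : nd 5626 = n9170 := ndS (p := 4578) (l := 4) rfl N4578 D9170
theorem N5627 : nd 5627 = n9171 := ndS (p := 4578) (l := 6) rfl N4578 D9171
theorem N5628 : nd 5628 = n9172 := ndS (p := 4579) (l := 4) rfl N4579 D9172
theorem N5629 : nd 5629 = n9173 := ndS (p := 4579) (l := 6) rfl N4579 D9173
theorem N5630 : nd 5630 = n9174 := ndS (p := 4580) (l := 3) rfl N4580 D9174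
theorem N5631 : nd 5631 = n9175 := ndS (p := 4580) (l := 6) rfl N4580 D9175
theorem N5632 : nd 5632 = n9176 := ndS (p := 4581) (l := 7) rfl N4581 D9176
theorem N5633 : nd 5633 = n9177 := ndS (p := 4582) (l := 2) rfl N4582 D9177
theorem N5634 : nd 5634 = n9178 := ndS (p := 4582) (l := 6) rfl N4582 D9178
theorem N5635 : nd 5635 = n9179 := ndS (p := 4583) (l := 5) rfl N4583 D9179
theorem N5636 : nd 5636 = n9180 := ndS (p := 4583) (l := 7) rfl N4583 D9180
theorem N5637 : nd 5637 = n9181 := ndS (p := 4585) (l := 4) rfl N4585 D9181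
theorem N5638 : nd 5638 = n9182 := ndS (p := 4585) (l := 6) rfl N4585 D9182
theorem N5639 : nd 5639 = n9183 := ndS (p := 4586) (l := 3) rfl N4586 D9183
theorem N5640 : nd 5640 = n9184 := ndS (p := 4586) (l := 6) rfl N4586 D9184
theorem N5641 : nd 5641 = n9185 := ndS (p := 4587) (l := 7) rfl N4587 D9185
theorem N5642 : nd 5642 = n9186 := ndS (p := 4588) (l := 3) rfl N4588 D9186
theorem N5643 : nd 5643 = n9187 := ndS (p := 4588) (l := 6) rfl N4588 D9187
theorem N5644 : nd 5644 = n9188 := ndS (p := 4589) (l := 7) rfl N4589 D9188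
theorem N5645 : nd 5645 = n9189 := ndS (p := 4590) (l := 2) rfl N4590 D9189
theorem N5646 : nd 5646 = n9190 := ndS (p := 4590) (l := 6) rfl N4590 D9190
theorem N5647 : nd 5647 = n9191 := ndS (p := 4591) (l := 5) rfl N4591 D9191
theorem N5648 : nd 5648 = n9192 := ndS (p := 4591) (l := 7) rfl N4591 D9192
theorem N5649 : nd 5649 = n9193 := ndS (p := 4593) (l := 5) rfl N4593 D9193
theorem N5650 : nd 5650 = n9194 := ndS (p := 4593) (l := 7) rfl N4593 D9194
theorem N5651 : nd 5651 = n9195 := ndS (p := 4594) (l := 7) rfl N4594 D9195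
theorem N5652 : nd 5652 = n9196 := ndS (p := 4594) (l := 8) rfl N4594 D9196
theorem N5653 : nd 5653 = n9197 := ndS (p := 4596) (l := 3) rfl N4596 D9197
theorem N5654 : nd 5654 = n9198 := ndS (p := 4596) (l := 6) rfl N4596 D9198
theorem N5655 : nd 5655 = n9199 := ndS (p := 4597) (l := 7) rfl N4597 D9199
theorem N5656 : nd 5656 = n9200 := ndS (p := 4598) (l := 2) rfl N4598 D9200
theorem N5657 : nd 5657 = n9201 := ndS (p := 4598) (l := 6) rfl N4598 D9201
theorem N5658 : nd 5658 = n9202 := ndS (p := 4599) (l := 5) rfl N4599 D9202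
theorem N5659 : nd 5659 = n9203 := ndS (p := 4599) (l := 7) rfl N4599 D9203
theorem N5660 : nd 5660 = n9204 := ndS (p := 4601) (l := 2) rfl N4601 D9204
theorem N5661 : nd 5661 = n9205 := ndS (p := 4601) (l := 6) rfl N4601 D9205
theorem N5662 : nd 5662 = n9206 := ndS (p := 4602) (l := 5) rfl N4602 D9206
theorem N5663 : nd 5663 = n9207 := ndS (p := 4602) (l := 7) rfl N4602 D9207
theorem N5664 : nd 5664 = n9208 := ndS (p := 4604) (l := 1) rfl N4604 D9208
theorem N5665 : nd 5665 = n9209 := ndS (p := 4604) (l := 6) rfl N4604 D9209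
theorem N5666 : nd 5666 = n9210 := ndS (p := 4605) (l := 5) rfl N4605 D9210
theorem N5667 : nd 5667 = n9211 := ndS (p := 4605) (l := 7) rfl N4605 D9211
theorem N5668 : nd 5668 = n9212 := ndS (p := 4606) (l := 7) rfl N4606 D9212
theorem N5669 : nd 5669 = n9213 := ndS (p := 4606) (l := 8) rfl N4606 D9213
theorem N5670 : nd 5670 = n9214 := ndS (p := 4608) (l := 6) rfl N4608 D9214
theorem N5671 : nd 5671 = n9215 := ndS (p := 4608) (l := 8) rfl N4608 D9215
theorem N5672 : nd 5672 = n9216 := ndS (p := 4609) (l := 9) rfl N4609 D9216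
theorem N5673 : nd 5673 = n9217 := ndS (p := 4610) (l := 2) rfl N4610 D9217
theorem N5674 : nd 5674 = n9218 := ndS (p := 4610) (l := 6) rfl N4610 D9218
theorem N5675 : nd 5675 = n9219 := ndS (p := 4611) (l := 5) rfl N4611 D9219
theorem N5676 : nd 5676 = n9220 := ndS (p := 4611) (l := 7) rfl N4611 D9220
theorem N5677 : nd 5677 = n9222 := ndS (p := 4613) (l := 6) rfl N4613 D9222
theorem N5678 : nd 5678 = n9223 := ndS (p := 4614) (l := 5) rfl N4614 D9223
theorem N5679 : nd 5679 = n9224 := ndS (p := 4614) (l := 7) rfl N4614 D9224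
theorem N5680 : nd 5680 = n9225 := ndS (p := 4615) (l := 7) rfl N4615 D9225
theorem N5681 : nd 5681 = n9226 := ndS (p := 4617) (l := 1) rfl N4617 D9226
theorem N5682 : nd 5682 = n9227 := ndS (p := 4617) (l := 6) rfl N4617 D9227
theorem N5683 : nd 5683 = n9229 := ndS (p := 4618) (l := 7) rfl N4618 D9229
theorem N5684 : nd 5684 = n9230 := ndS (p := 4619) (l := 7) rfl N4619 D9230
theorem N5685 : nd 5685 = n9231 := ndS (p := 4621) (l := 0) rfl N4621 D9231
theorem N5686 : nd 5686 = n9232 := ndS (p := 4621) (l := 6) rfl N4621 D9232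
theorem N5687 : nd 5687 = n9233 := ndS (p := 4622) (l := 7) rfl N4622 D9233
theorem N5688 : nd 5688 = n9240 := ndS (p := 4627) (l := 5) rfl N4627 D9240
theorem N5689 : nd 5689 = n9241 := ndS (p := 4628) (l := 8) rfl N4628 D9241
theorem N5690 : nd 5690 = n9245 := ndS (p := 4629) (l := 4) rfl N4629 D9245
theorem N5691 : nd 5691 = n9248 := ndS (p := 4630) (l := 8) rfl N4630 D9248
theorem N5692 : nd 5692 = n9249 := ndS (p := 4631) (l := 8) rfl N4631 D9249
theorem N5693 : nd 5693 = n9250 := ndS (p := 4632) (l := 5) rfl N4632 D9250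
theorem N5694 : nd 5694 = n9251 := ndS (p := 4633) (l := 5) rfl N4633 D9251
theorem N5695 : nd 5695 = n9252 := ndS (p := 4634) (l := 4) rfl N4634 D9252
theorem N5696 : nd 5696 = n9253 := ndS (p := 4634) (l := 6) rfl N4634 D9253
theorem N5697 : nd 5697 = n9254 := ndS (p := 4635) (l := 3) rfl N4635 D9254
theorem N5698 : nd 5698 = n9257 := ndS (p := 4637) (l := 8) rfl N4637 D9257
theorem N5699 : nd 5699 = n9258 := ndS (p := 4638) (l := 8) rfl N4638 D9258
theorem N5700 : nd 5700 = n9259 := ndS (p := 4639) (l := 5) rfl N4639 D9259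
theorem N5701 : nd 5701 = n9260 := ndS (p := 4640) (l := 8) rfl N4640 D9260
theorem N5702 : nd 5702 = n9261 := ndS (p := 4641) (l := 5) rfl N4641 D9261
theorem N5703 : nd 5703 = n9262 := ndS (p := 4642) (l := 4) rfl N4642 D9262
theorem N5704 : nd 5704 = n9263 := ndS (p := 4642) (l := 6) rfl N4642 D9263
theorem N5705 : nd 5705 = n9264 := ndS (p := 4643) (l := 4) rfl N4643 D9264
theorem N5706 : nd 5706 = n9265 := ndS (p := 4643) (l := 6) rfl N4643 D9265
theorem N5707 : nd 5707 = n9266 := ndS (p := 4644) (l := 3) rfl N4644 D9266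
theorem N5708 : nd 5708 = n9267 := ndS (p := 4644) (l := 6) rfl N4644 D9267
theorem N5709 : nd 5709 = n9268 := ndS (p := 4645) (l := 7) rfl N4645 D9268
theorem N5710 : nd 5710 = n9269 := ndS (p := 4646) (l := 2) rfl N4646 D9269
theorem N5711 : nd 5711 = n9270 := ndS (p := 4646) (l := 6) rfl N4646 D9270
theorem N5712 : nd 5712 = n9271 := ndS (p := 4647) (l := 5) rfl N4647 D9271
theorem N5713 : nd 5713 = n9273 := ndS (p := 4649) (l := 5) rfl N4649 D9273
theorem N5714 : nd 5714 = n9274 := ndS (p := 4650) (l := 5) rfl N4650 D9274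
theorem N5715 : nd 5715 = n9275 := ndS (p := 4651) (l := 4) rfl N4651 D9275
theorem N5716 : nd 5716 = n9276 := ndS (p := 4651) (l := 6) rfl N4651 D9276
theorem N5717 : nd 5717 = n9277 := ndS (p := 4652) (l := 5) rfl N4652 D9277
theorem N5718 : nd 5718 = n9278 := ndS (p := 4653) (l := 4) rfl N4653 D9278
theorem N5719 : nd 5719 = n9279 := ndS (p := 4653) (l := 6) rfl N4653 D9279
theorem N5720 : nd 5720 = n9280 := ndS (p := 4654) (l := 3) rfl N4654 D9280
theorem N5721 : nd 5721 = n9281 := ndS (p := 4654) (l := 6) rfl N4654 D9281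
theorem N5722 : nd 5722 = n9282 := ndS (p := 4655) (l := 7) rfl N4655 D9282
theorem N5723 : nd 5723 = n9283 := ndS (p := 4656) (l := 3) rfl N4656 D9283
theorem N5724 : nd 5724 = n9284 := ndS (p := 4656) (l := 6) rfl N4656 D9284
theorem N5725 : nd 5725 = n9285 := ndS (p := 4657) (l := 7) rfl N4657 D9285
theorem N5726 : nd 5726 = n9286 := ndS (p := 4658) (l := 2) rfl N4658 D9286
theorem N5727 : nd 5727 = n9287 := ndS (p := 4658) (l := 6) rfl N4658 D9287
theorem N5728 : nd 5728 = n9288 := ndS (p := 4659) (l := 5) rfl N4659 D9288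
theorem N5729 : nd 5729 = n9289 := ndS (p := 4659) (l := 7) rfl N4659 D9289
theorem N5730 : nd 5730 = n9290 := ndS (p := 4661) (l := 5) rfl N4661 D9290
theorem N5731 : nd 5731 = n9291 := ndS (p := 4661) (l := 7) rfl N4661 D9291
theorem N5732 : nd 5732 = n9292 := ndS (p := 4662) (l := 7) rfl N4662 D9292
theorem N5733 : nd 5733 = n9293 := ndS (p := 4662) (l := 8) rfl N4662 D9293
theorem N5734 : nd 5734 = n9294 := ndS (p := 4664) (l := 5) rfl N4664 D9294
theorem N5735 : nd 5735 = n9295 := ndS (p := 4665) (l := 4) rfl N4665 D9295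
theorem N5736 : nd 5736 = n9296 := ndS (p := 4665) (l := 6) rfl N4665 D9296
theorem N5737 : nd 5737 = n9297 := ndS (p := 4666) (l := 3) rfl N4666 D9297
theorem N5738 : nd 5738 = n9298 := ndS (p := 4666) (l := 6) rfl N4666 D9298
theorem N5739 : nd 5739 = n9299 := ndS (p := 4667) (l := 7) rfl N4667 D9299
theorem N5740 : nd 5740 = n9300 := ndS (p := 4668) (l := 4) rfl N4668 D9300
theorem N5741 : nd 5741 = n9301 := ndS (p := 4668) (l := 6) rfl N4668 D9301
theorem N5742 : nd 5742 = n9302 := ndS (p := 4669) (l := 3) rfl N4669 D9302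
theorem N5743 : nd 5743 = n9303 := ndS (p := 4669) (l := 6) rfl N4669 D9303
theorem N5744 : nd 5744 = n9304 := ndS (p := 4670) (l := 7) rfl N4670 D9304
theorem N5745 : nd 5745 = n9305 := ndS (p := 4671) (l := 2) rfl N4671 D9305
theorem N5746 : nd 5746 = n9306 := ndS (p := 4671) (l := 6) rfl N4671 D9306
theorem N5747 : nd 5747 = n9307 := ndS (p := 4672) (l := 5) rfl N4672 D9307
theorem N5748 : nd 5748 = n9308 := ndS (p := 4672) (l := 7) rfl N4672 D9308
theorem N5749 : nd 5749 = n9309 := ndS (p := 4674) (l := 2) rfl N4674 D9309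
theorem N5750 : nd 5750 = n9311 := ndS (p := 4675) (l := 5) rfl N4675 D9311
theorem N5751 : nd 5751 = n9312 := ndS (p := 4675) (l := 7) rfl N4675 D9312
theorem N5752 : nd 5752 = n9313 := ndS (p := 4677) (l := 1) rfl N4677 D9313
theorem N5753 : nd 5753 = n9314 := ndS (p := 4677) (l := 6) rfl N4677 D9314
theorem N5754 : nd 5754 = n9315 := ndS (p := 4678) (l := 5) rfl N4678 D9315
theorem N5755 : nd 5755 = n9316 := ndS (p := 4678) (l := 7) rfl N4678 D9316
theorem N5756 : nd 5756 = n9317 := ndS (p := 4679) (l := 7) rfl N4679 D9317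
theorem N5757 : nd 5757 = n9318 := ndS (p := 4679) (l := 8) rfl N4679 D9318
theorem N5758 : nd 5758 = n9319 := ndS (p := 4681) (l := 6) rfl N4681 D9319
theorem N5759 : nd 5759 = n9320 := ndS (p := 4681) (l := 8) rfl N4681 D9320
theorem N5760 : nd 5760 = n9321 := ndS (p := 4682) (l := 9) rfl N4682 D9321
theorem N5761 : nd 5761 = n9325 := ndS (p := 4685) (l := 2) rfl N4685 D9325
theorem N5762 : nd 5762 = n9329 := ndS (p := 4687) (l := 1) rfl N4687 D9329
theorem N5763 : nd 5763 = n9330 := ndS (p := 4687) (l := 6) rfl N4687 D9330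
theorem N5764 : nd 5764 = n9331 := ndS (p := 4688) (l := 5) rfl N4688 D9331
theorem N5765 : nd 5765 = n9332 := ndS (p := 4688) (l := 7) rfl N4688 D9332
theorem N5766 : nd 5766 = n9341 := ndS (p := 4692) (l := 6) rfl N4692 D9341
theorem N5767 : nd 5767 = n9342 := ndS (p := 4693) (l := 7) rfl N4693 D9342
theorem N5768 : nd 5768 = n9349 := ndS (p := 4695) (l := 4) rfl N4695 D9349
theorem N5769 : nd 5769 = n9350 := ndS (p := 4695) (l := 6) rfl N4695 D9350
theorem N5770 : nd 5770 = n9351 := ndS (p := 4696) (l := 3) rfl N4696 D9351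
theorem N5771 : nd 5771 = n9352 := ndS (p := 4696) (l := 6) rfl N4696 D9352
theorem N5772 : nd 5772 = n9358 := ndS (p := 4699) (l := 3) rfl N4699 D9358
theorem N5773 : nd 5773 = n9359 := ndS (p := 4699) (l := 6) rfl N4699 D9359
theorem N5774 : nd 5774 = n9360 := ndS (p := 4700) (l := 7) rfl N4700 D9360
theorem N5775 : nd 5775 = n9361 := ndS (p := 4701) (l := 2) rfl N4701 D9361
theorem N5776 : nd 5776 = n9362 := ndS (p := 4701) (l := 6) rfl N4701 D9362
theorem N5777 : nd 5777 = n9363 := ndS (p := 4702) (l := 5) rfl N4702 D9363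
theorem N5778 : nd 5778 = n9364 := ndS (p := 4702) (l := 7) rfl N4702 D9364
theorem N5779 : nd 5779 = n9366 := ndS (p := 4705) (l := 5) rfl N4705 D9366
theorem N5780 : nd 5780 = n9369 := ndS (p := 4706) (l := 8) rfl N4706 D9369
theorem N5781 : nd 5781 = n9370 := ndS (p := 4707) (l := 2) rfl N4707 D9370
theorem N5782 : nd 5782 = n9371 := ndS (p := 4707) (l := 6) rfl N4707 D9371
theorem N5783 : nd 5783 = n9372 := ndS (p := 4708) (l := 5) rfl N4708 D9372
theorem N5784 : nd 5784 = n9373 := ndS (p := 4708) (l := 7) rfl N4708 D9373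
theorem N5785 : nd 5785 = n9374 := ndS (p := 4710) (l := 1) rfl N4710 D9374
theorem N5786 : nd 5786 = n9375 := ndS (p := 4710) (l := 6) rfl N4710 D9375
theorem N5787 : nd 5787 = n9376 := ndS (p := 4711) (l := 5) rfl N4711 D9376
theorem N5788 : nd 5788 = n9377 := ndS (p := 4711) (l := 7) rfl N4711 D9377
theorem N5789 : nd 5789 = n9378 := ndS (p := 4712) (l := 7) rfl N4712 D9378
theorem N5790 : nd 5790 = n9379 := ndS (p := 4712) (l := 8) rfl N4712 D9379
theorem N5791 : nd 5791 = n9380 := ndS (p := 4714) (l := 4) rfl N4714 D9380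
theorem N5792 : nd 5792 = n9383 := ndS (p := 4716) (l := 6) rfl N4716 D9383
theorem N5793 : nd 5793 = n9385 := ndS (p := 4717) (l := 9) rfl N4717 D9385
theorem N5794 : nd 5794 = n9390 := ndS (p := 4719) (l := 7) rfl N4719 D9390
theorem N5795 : nd 5795 = n9391 := ndS (p := 4719) (l := 8) rfl N4719 D9391
theorem N5796 : nd 5796 = n9393 := ndS (p := 4721) (l := 6) rfl N4721 D9393
theorem N5797 : nd 5797 = n9394 := ndS (p := 4722) (l := 5) rfl N4722 D9394
theorem N5798 : nd 5798 = n9395 := ndS (p := 4722) (l := 7) rfl N4722 D9395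
theorem N5799 : nd 5799 = n9396 := ndS (p := 4723) (l := 7) rfl N4723 D9396
theorem N5800 : nd 5800 = n9397 := ndS (p := 4723) (l := 8) rfl N4723 D9397
theorem N5801 : nd 5801 = n9398 := ndS (p := 4725) (l := 6) rfl N4725 D9398
theorem N5802 : nd 5802 = n9399 := ndS (p := 4725) (l := 8) rfl N4725 D9399
theorem N5803 : nd 5803 = n9400 := ndS (p := 4726) (l := 9) rfl N4726 D9400
theorem N5804 : nd 5804 = n9401 := ndS (p := 4727) (l := 8) rfl N4727 D9401
theorem N5805 : nd 5805 = n9402 := ndS (p := 4728) (l := 9) rfl N4728 D9402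
theorem N5806 : nd 5806 = n9446 := ndS (p := 4734) (l := 5) rfl N4734 D9446
theorem N5807 : nd 5807 = n9447 := ndS (p := 4735) (l := 5) rfl N4735 D9447
theorem N5808 : nd 5808 = n9448 := ndS (p := 4736) (l := 4) rfl N4736 D9448
theorem N5809 : nd 5809 = n9449 := ndS (p := 4736) (l := 6) rfl N4736 D9449
theorem N5810 : nd 5810 = n9450 := ndS (p := 4737) (l := 4) rfl N4737 D9450
theorem N5811 : nd 5811 = n9452 := ndS (p := 4738) (l := 6) rfl N4738 D9452
theorem N5812 : nd 5812 = n9459 := ndS (p := 4740) (l := 2) rfl N4740 D9459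
theorem N5813 : nd 5813 = n9460 := ndS (p := 4741) (l := 5) rfl N4741 D9460
theorem N5814 : nd 5814 = n9461 := ndS (p := 4742) (l := 8) rfl N4742 D9461
theorem N5815 : nd 5815 = n9462 := ndS (p := 4743) (l := 5) rfl N4743 D9462
theorem N5816 : nd 5816 = n9463 := ndS (p := 4744) (l := 4) rfl N4744 D9463
theorem N5817 : nd 5817 = n9464 := ndS (p := 4744) (l := 6) rfl N4744 D9464
theorem N5818 : nd 5818 = n9465 := ndS (p := 4745) (l := 8) rfl N4745 D9465
theorem N5819 : nd 5819 = n9466 := ndS (p := 4746) (l := 8) rfl N4746 D9466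
theorem N5820 : nd 5820 = n9467 := ndS (p := 4747) (l := 5) rfl N4747 D9467
theorem N5821 : nd 5821 = n9468 := ndS (p := 4748) (l := 5) rfl N4748 D9468
theorem N5822 : nd 5822 = n9469 := ndS (p := 4749) (l := 4) rfl N4749 D9469
theorem N5823 : nd 5823 = n9470 := ndS (p := 4749) (l := 6) rfl N4749 D9470
theorem N5824 : nd 5824 = n9471 := ndS (p := 4750) (l := 3) rfl N4750 D9471
theorem N5825 : nd 5825 = n9472 := ndS (p := 4750) (l := 6) rfl N4750 D9472
theorem N5826 : nd 5826 = n9473 := ndS (p := 4751) (l := 7) rfl N4751 D9473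
theorem N5827 : nd 5827 = n9474 := ndS (p := 4752) (l := 5) rfl N4752 D9474
theorem N5828 : nd 5828 = n9475 := ndS (p := 4753) (l := 5) rfl N4753 D9475
theorem N5829 : nd 5829 = n9476 := ndS (p := 4754) (l := 4) rfl N4754 D9476
theorem N5830 : nd 5830 = n9477 := ndS (p := 4754) (l := 6) rfl N4754 D9477
theorem N5831 : nd 5831 = n9478 := ndS (p := 4755) (l := 4) rfl N4755 D9478
theorem N5832 : nd 5832 = n9479 := ndS (p := 4755) (l := 6) rfl N4755 D9479
theorem N5833 : nd 5833 = n9480 := ndS (p := 4756) (l := 3) rfl N4756 D9480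
theorem N5834 : nd 5834 = n9481 := ndS (p := 4756) (l := 6) rfl N4756 D9481
theorem N5835 : nd 5835 = n9482 := ndS (p := 4757) (l := 7) rfl N4757 D9482
theorem N5836 : nd 5836 = n9483 := ndS (p := 4758) (l := 5) rfl N4758 D9483
theorem N5837 : nd 5837 = n9484 := ndS (p := 4758) (l := 7) rfl N4758 D9484
theorem N5838 : nd 5838 = n9485 := ndS (p := 4760) (l := 4) rfl N4760 D9485
theorem N5839 : nd 5839 = n9486 := ndS (p := 4760) (l := 6) rfl N4760 D9486
theorem N5840 : nd 5840 = n9487 := ndS (p := 4761) (l := 3) rfl N4761 D9487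
theorem N5841 : nd 5841 = n9488 := ndS (p := 4761) (l := 6) rfl N4761 D9488
theorem N5842 : nd 5842 = n9489 := ndS (p := 4762) (l := 7) rfl N4762 D9489
theorem N5843 : nd 5843 = n9490 := ndS (p := 4763) (l := 3) rfl N4763 D9490
theorem N5844 : nd 5844 = n9491 := ndS (p := 4763) (l := 6) rfl N4763 D9491
theorem N5845 : nd 5845 = n9492 := ndS (p := 4764) (l := 7) rfl N4764 D9492
theorem N5846 : nd 5846 = n9493 := ndS (p := 4765) (l := 2) rfl N4765 D9493
theorem N5847 : nd 5847 = n9494 := ndS (p := 4765) (l := 6) rfl N4765 D9494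
theorem N5848 : nd 5848 = n9495 := ndS (p := 4766) (l := 7) rfl N4766 D9495
theorem N5849 : nd 5849 = n9496 := ndS (p := 4768) (l := 2) rfl N4768 D9496
theorem N5850 : nd 5850 = n9498 := ndS (p := 4769) (l := 5) rfl N4769 D9498
theorem N5851 : nd 5851 = n9499 := ndS (p := 4770) (l := 1) rfl N4770 D9499
theorem N5852 : nd 5852 = n9500 := ndS (p := 4771) (l := 8) rfl N4771 D9500
theorem N5853 : nd 5853 = n9501 := ndS (p := 4772) (l := 5) rfl N4772 D9501
theorem N5854 : nd 5854 = n9502 := ndS (p := 4773) (l := 4) rfl N4773 D9502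
theorem N5855 : nd 5855 = n9503 := ndS (p := 4773) (l := 6) rfl N4773 D9503
theorem N5856 : nd 5856 = n9504 := ndS (p := 4774) (l := 8) rfl N4774 D9504
theorem N5857 : nd 5857 = n9505 := ndS (p := 4775) (l := 5) rfl N4775 D9505
theorem N5858 : nd 5858 = n9506 := ndS (p := 4776) (l := 4) rfl N4776 D9506
theorem N5859 : nd 5859 = n9507 := ndS (p := 4776) (l := 6) rfl N4776 D9507
theorem N5860 : nd 5860 = n9508 := ndS (p := 4777) (l := 3) rfl N4777 D9508
theorem N5861 : nd 5861 = n9509 := ndS (p := 4777) (l := 6) rfl N4777 D9509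
theorem N5862 : nd 5862 = n9510 := ndS (p := 4778) (l := 7) rfl N4778 D9510
theorem N5863 : nd 5863 = n9511 := ndS (p := 4779) (l := 8) rfl N4779 D9511
theorem N5864 : nd 5864 = n9512 := ndS (p := 4780) (l := 5) rfl N4780 D9512
theorem N5865 : nd 5865 = n9513 := ndS (p := 4781) (l := 4) rfl N4781 D9513
theorem N5866 : nd 5866 = n9514 := ndS (p := 4781) (l := 6) rfl N4781 D9514
theorem N5867 : nd 5867 = n9515 := ndS (p := 4782) (l := 3) rfl N4782 D9515
theorem N5868 : nd 5868 = n9516 := ndS (p := 4782) (l := 6) rfl N4782 D9516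
theorem N5869 : nd 5869 = n9517 := ndS (p := 4783) (l := 7) rfl N4783 D9517
theorem N5870 : nd 5870 = n9518 := ndS (p := 4784) (l := 6) rfl N4784 D9518
theorem N5871 : nd 5871 = n9519 := ndS (p := 4785) (l := 5) rfl N4785 D9519
theorem N5872 : nd 5872 = n9520 := ndS (p := 4785) (l := 7) rfl N4785 D9520
theorem N5873 : nd 5873 = n9521 := ndS (p := 4787) (l := 4) rfl N4787 D9521
theorem N5874 : nd 5874 = n9522 := ndS (p := 4787) (l := 6) rfl N4787 D9522
theorem N5875 : nd 5875 = n9523 := ndS (p := 4788) (l := 3) rfl N4788 D9523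
theorem N5876 : nd 5876 = n9524 := ndS (p := 4788) (l := 6) rfl N4788 D9524
theorem N5877 : nd 5877 = n9525 := ndS (p := 4789) (l := 7) rfl N4789 D9525
theorem N5878 : nd 5878 = n9526 := ndS (p := 4790) (l := 2) rfl N4790 D9526
theorem N5879 : nd 5879 = n9527 := ndS (p := 4790) (l := 6) rfl N4790 D9527
theorem N5880 : nd 5880 = n9528 := ndS (p := 4791) (l := 5) rfl N4791 D9528
theorem N5881 : nd 5881 = n9529 := ndS (p := 4791) (l := 7) rfl N4791 D9529
theorem N5882 : nd 5882 = n9530 := ndS (p := 4793) (l := 7) rfl N4793 D9530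
theorem N5883 : nd 5883 = n9531 := ndS (p := 4793) (l := 8) rfl N4793 D9531
theorem N5884 : nd 5884 = n9532 := ndS (p := 4795) (l := 2) rfl N4795 D9532
theorem N5885 : nd 5885 = n9533 := ndS (p := 4795) (l := 6) rfl N4795 D9533
theorem N5886 : nd 5886 = n9534 := ndS (p := 4796) (l := 5) rfl N4796 D9534
theorem N5887 : nd 5887 = n9535 := ndS (p := 4796) (l := 7) rfl N4796 D9535
theorem N5888 : nd 5888 = n9536 := ndS (p := 4798) (l := 1) rfl N4798 D9536
theorem N5889 : nd 5889 = n9537 := ndS (p := 4798) (l := 6) rfl N4798 D9537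
theorem N5890 : nd 5890 = n9538 := ndS (p := 4799) (l := 7) rfl N4799 D9538
theorem N5891 : nd 5891 = n9540 := ndS (p := 4802) (l := 4) rfl N4802 D9540
theorem N5892 : nd 5892 = n9541 := ndS (p := 4802) (l := 6) rfl N4802 D9541
theorem N5893 : nd 5893 = n9542 := ndS (p := 4803) (l := 3) rfl N4803 D9542
theorem N5894 : nd 5894 = n9543 := ndS (p := 4803) (l := 6) rfl N4803 D9543
theorem N5895 : nd 5895 = n9544 := ndS (p := 4804) (l := 7) rfl N4804 D9544
theorem N5896 : nd 5896 = n9545 := ndS (p := 4805) (l := 3) rfl N4805 D9545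
theorem N5897 : nd 5897 = n9546 := ndS (p := 4805) (l := 6) rfl N4805 D9546
theorem N5898 : nd 5898 = n9547 := ndS (p := 4806) (l := 7) rfl N4806 D9547
theorem N5899 : nd 5899 = n9549 := ndS (p := 4807) (l := 6) rfl N4807 D9549
theorem N5900 : nd 5900 = n9550 := ndS (p := 4808) (l := 5) rfl N4808 D9550
theorem N5901 : nd 5901 = n9551 := ndS (p := 4808) (l := 7) rfl N4808 D9551
theorem N5902 : nd 5902 = n9552 := ndS (p := 4810) (l := 2) rfl N4810 D9552
theorem N5903 : nd 5903 = n9553 := ndS (p := 4810) (l := 6) rfl N4810 D9553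
theorem N5904 : nd 5904 = n9554 := ndS (p := 4811) (l := 5) rfl N4811 D9554
theorem N5905 : nd 5905 = n9555 := ndS (p := 4811) (l := 7) rfl N4811 D9555
theorem N5906 : nd 5906 = n9556 := ndS (p := 4813) (l := 5) rfl N4813 D9556
theorem N5907 : nd 5907 = n9557 := ndS (p := 4813) (l := 7) rfl N4813 D9557
theorem N5908 : nd 5908 = n9558 := ndS (p := 4814) (l := 7) rfl N4814 D9558
theorem N5909 : nd 5909 = n9559 := ndS (p := 4814) (l := 8) rfl N4814 D9559
theorem N5910 : nd 5910 = n9560 := ndS (p := 4816) (l := 1) rfl N4816 D9560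
theorem N5911 : nd 5911 = n9561 := ndS (p := 4816) (l := 6) rfl N4816 D9561
theorem N5912 : nd 5912 = n9562 := ndS (p := 4817) (l := 5) rfl N4817 D9562
theorem N5913 : nd 5913 = n9563 := ndS (p := 4817) (l := 7) rfl N4817 D9563
theorem N5914 : nd 5914 = n9564 := ndS (p := 4818) (l := 7) rfl N4818 D9564
theorem N5915 : nd 5915 = n9565 := ndS (p := 4818) (l := 8) rfl N4818 D9565
theorem N5916 : nd 5916 = n9566 := ndS (p := 4820) (l := 6) rfl N4820 D9566
theorem N5917 : nd 5917 = n9567 := ndS (p := 4820) (l := 8) rfl N4820 D9567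
theorem N5918 : nd 5918 = n9568 := ndS (p := 4821) (l := 9) rfl N4821 D9568
theorem N5919 : nd 5919 = n9570 := ndS (p := 4822) (l := 6) rfl N4822 D9570
theorem N5920 : nd 5920 = n9571 := ndS (p := 4823) (l := 7) rfl N4823 D9571
theorem N5921 : nd 5921 = n9572 := ndS (p := 4825) (l := 8) rfl N4825 D9572
theorem N5922 : nd 5922 = n9573 := ndS (p := 4826) (l := 5) rfl N4826 D9573
theorem N5923 : nd 5923 = n9574 := ndS (p := 4827) (l := 4) rfl N4827 D9574
theorem N5924 : nd 5924 = n9575 := ndS (p := 4827) (l := 6) rfl N4827 D9575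
theorem N5925 : nd 5925 = n9576 := ndS (p := 4828) (l := 8) rfl N4828 D9576
theorem N5926 : nd 5926 = n9577 := ndS (p := 4829) (l := 8) rfl N4829 D9577
theorem N5927 : nd 5927 = n9578 := ndS (p := 4830) (l := 8) rfl N4830 D9578
theorem N5928 : nd 5928 = n9579 := ndS (p := 4831) (l := 5) rfl N4831 D9579
theorem N5929 : nd 5929 = n9580 := ndS (p := 4832) (l := 5) rfl N4832 D9580
theorem N5930 : nd 5930 = n9581 := ndS (p := 4833) (l := 4) rfl N4833 D9581
theorem N5931 : nd 5931 = n9582 := ndS (p := 4833) (l := 6) rfl N4833 D9582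
theorem N5932 : nd 5932 = n9583 := ndS (p := 4834) (l := 3) rfl N4834 D9583
theorem N5933 : nd 5933 = n9584 := ndS (p := 4834) (l := 6) rfl N4834 D9584
theorem N5934 : nd 5934 = n9585 := ndS (p := 4835) (l := 7) rfl N4835 D9585
theorem N5935 : nd 5935 = n9586 := ndS (p := 4836) (l := 8) rfl N4836 D9586
theorem N5936 : nd 5936 = n9587 := ndS (p := 4837) (l := 5) rfl N4837 D9587
theorem N5937 : nd 5937 = n9588 := ndS (p := 4838) (l := 8) rfl N4838 D9588
theorem N5938 : nd 5938 = n9589 := ndS (p := 4839) (l := 5) rfl N4839 D9589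
theorem N5939 : nd 5939 = n9590 := ndS (p := 4840) (l := 5) rfl N4840 D9590
theorem N5940 : nd 5940 = n9591 := ndS (p := 4841) (l := 4) rfl N4841 D9591
theorem N5941 : nd 5941 = n9592 := ndS (p := 4841) (l := 6) rfl N4841 D9592
theorem N5942 : nd 5942 = n9593 := ndS (p := 4842) (l := 4) rfl N4842 D9593
theorem N5943 : nd 5943 = n9594 := ndS (p := 4842) (l := 6) rfl N4842 D9594
theorem N5944 : nd 5944 = n9595 := ndS (p := 4843) (l := 3) rfl N4843 D9595
theorem N5945 : nd 5945 = n9596 := ndS (p := 4843) (l := 6) rfl N4843 D9596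
theorem N5946 : nd 5946 = n9597 := ndS (p := 4844) (l := 7) rfl N4844 D9597
theorem N5947 : nd 5947 = n9598 := ndS (p := 4845) (l := 6) rfl N4845 D9598
theorem N5948 : nd 5948 = n9599 := ndS (p := 4846) (l := 5) rfl N4846 D9599
theorem N5949 : nd 5949 = n9600 := ndS (p := 4846) (l := 7) rfl N4846 D9600
theorem N5950 : nd 5950 = n9601 := ndS (p := 4848) (l := 5) rfl N4848 D9601
theorem N5951 : nd 5951 = n9602 := ndS (p := 4849) (l := 5) rfl N4849 D9602
theorem N5952 : nd 5952 = n9603 := ndS (p := 4850) (l := 4) rfl N4850 D9603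
theorem N5953 : nd 5953 = n9604 := ndS (p := 4850) (l := 6) rfl N4850 D9604
theorem N5954 : nd 5954 = n9605 := ndS (p := 4851) (l := 5) rfl N4851 D9605
theorem N5955 : nd 5955 = n9606 := ndS (p := 4852) (l := 5) rfl N4852 D9606
theorem N5956 : nd 5956 = n9607 := ndS (p := 4853) (l := 4) rfl N4853 D9607
theorem N5957 : nd 5957 = n9608 := ndS (p := 4853) (l := 6) rfl N4853 D9608
theorem N5958 : nd 5958 = n9609 := ndS (p := 4854) (l := 4) rfl N4854 D9609
theorem N5959 : nd 5959 = n9610 := ndS (p := 4854) (l := 6) rfl N4854 D9610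
theorem N5960 : nd 5960 = n9611 := ndS (p := 4855) (l := 3) rfl N4855 D9611
theorem N5961 : nd 5961 = n9612 := ndS (p := 4855) (l := 6) rfl N4855 D9612
theorem N5962 : nd 5962 = n9613 := ndS (p := 4856) (l := 7) rfl N4856 D9613
theorem N5963 : nd 5963 = n9614 := ndS (p := 4857) (l := 3) rfl N4857 D9614
theorem N5964 : nd 5964 = n9615 := ndS (p := 4857) (l := 6) rfl N4857 D9615
theorem N5965 : nd 5965 = n9616 := ndS (p := 4858) (l := 7) rfl N4858 D9616
theorem N5966 : nd 5966 = n9617 := ndS (p := 4859) (l := 2) rfl N4859 D9617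
theorem N5967 : nd 5967 = n9618 := ndS (p := 4859) (l := 6) rfl N4859 D9618
theorem N5968 : nd 5968 = n9619 := ndS (p := 4860) (l := 5) rfl N4860 D9619
theorem N5969 : nd 5969 = n9620 := ndS (p := 4860) (l := 7) rfl N4860 D9620
theorem N5970 : nd 5970 = n9621 := ndS (p := 4862) (l := 7) rfl N4862 D9621
theorem N5971 : nd 5971 = n9622 := ndS (p := 4862) (l := 8) rfl N4862 D9622
theorem N5972 : nd 5972 = n9623 := ndS (p := 4864) (l := 4) rfl N4864 D9623
theorem N5973 : nd 5973 = n9624 := ndS (p := 4864) (l := 6) rfl N4864 D9624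
theorem N5974 : nd 5974 = n9625 := ndS (p := 4865) (l := 4) rfl N4865 D9625
theorem N5975 : nd 5975 = n9626 := ndS (p := 4865) (l := 6) rfl N4865 D9626
theorem N5976 : nd 5976 = n9627 := ndS (p := 4866) (l := 3) rfl N4866 D9627
theorem N5977 : nd 5977 = n9628 := ndS (p := 4866) (l := 6) rfl N4866 D9628
theorem N5978 : nd 5978 = n9629 := ndS (p := 4867) (l := 7) rfl N4867 D9629
theorem N5979 : nd 5979 = n9630 := ndS (p := 4868) (l := 3) rfl N4868 D9630
theorem N5980 : nd 5980 = n9631 := ndS (p := 4868) (l := 6) rfl N4868 D9631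
theorem N5981 : nd 5981 = n9632 := ndS (p := 4869) (l := 7) rfl N4869 D9632
theorem N5982 : nd 5982 = n9633 := ndS (p := 4870) (l := 2) rfl N4870 D9633
theorem N5983 : nd 5983 = n9634 := ndS (p := 4870) (l := 6) rfl N4870 D9634
theorem N5984 : nd 5984 = n9635 := ndS (p := 4871) (l := 5) rfl N4871 D9635
theorem N5985 : nd 5985 = n9636 := ndS (p := 4871) (l := 7) rfl N4871 D9636
theorem N5986 : nd 5986 = n9637 := ndS (p := 4873) (l := 2) rfl N4873 D9637
theorem N5987 : nd 5987 = n9638 := ndS (p := 4873) (l := 6) rfl N4873 D9638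
theorem N5988 : nd 5988 = n9639 := ndS (p := 4874) (l := 5) rfl N4874 D9639
theorem N5989 : nd 5989 = n9640 := ndS (p := 4874) (l := 7) rfl N4874 D9640
theorem N5990 : nd 5990 = n9641 := ndS (p := 4876) (l := 1) rfl N4876 D9641
theorem N5991 : nd 5991 = n9642 := ndS (p := 4876) (l := 6) rfl N4876 D9642
theorem N5992 : nd 5992 = n9643 := ndS (p := 4877) (l := 7) rfl N4877 D9643
theorem N5993 : nd 5993 = n9644 := ndS (p := 4879) (l := 1) rfl N4879 D9644
theorem N5994 : nd 5994 = n9645 := ndS (p := 4879) (l := 6) rfl N4879 D9645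
theorem N5995 : nd 5995 = n9646 := ndS (p := 4880) (l := 5) rfl N4880 D9646
theorem N5996 : nd 5996 = n9647 := ndS (p := 4881) (l := 8) rfl N4881 D9647
theorem N5997 : nd 5997 = n9648 := ndS (p := 4882) (l := 0) rfl N4882 D9648
theorem N5998 : nd 5998 = n9649 := ndS (p := 4883) (l := 8) rfl N4883 D9649
theorem N5999 : nd 5999 = n9650 := ndS (p := 4884) (l := 5) rfl N4884 D9650
theorem N6000 : nd 6000 = n9651 := ndS (p := 4885) (l := 5) rfl N4885 D9651
theorem N6001 : nd 6001 = n9652 := ndS (p := 4886) (l := 4) rfl N4886 D9652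
theorem N6002 : nd 6002 = n9653 := ndS (p := 4886) (l := 6) rfl N4886 D9653
theorem N6003 : nd 6003 = n9654 := ndS (p := 4887) (l := 3) rfl N4887 D9654
theorem N6004 : nd 6004 = n9655 := ndS (p := 4887) (l := 6) rfl N4887 D9655
theorem N6005 : nd 6005 = n9656 := ndS (p := 4888) (l := 7) rfl N4888 D9656
theorem N6006 : nd 6006 = n9657 := ndS (p := 4889) (l := 5) rfl N4889 D9657
theorem N6007 : nd 6007 = n9658 := ndS (p := 4890) (l := 5) rfl N4890 D9658
theorem N6008 : nd 6008 = n9659 := ndS (p := 4891) (l := 5) rfl N4891 D9659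
theorem N6009 : nd 6009 = n9660 := ndS (p := 4892) (l := 4) rfl N4892 D9660
theorem N6010 : nd 6010 = n9661 := ndS (p := 4892) (l := 6) rfl N4892 D9661
theorem N6011 : nd 6011 = n9662 := ndS (p := 4893) (l := 4) rfl N4893 D9662
theorem N6012 : nd 6012 = n9663 := ndS (p := 4893) (l := 6) rfl N4893 D9663
theorem N6013 : nd 6013 = n9664 := ndS (p := 4894) (l := 3) rfl N4894 D9664
theorem N6014 : nd 6014 = n9665 := ndS (p := 4894) (l := 6) rfl N4894 D9665
theorem N6015 : nd 6015 = n9666 := ndS (p := 4895) (l := 7) rfl N4895 D9666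
theorem N6016 : nd 6016 = n9668 := ndS (p := 4896) (l := 6) rfl N4896 D9668
theorem N6017 : nd 6017 = n9669 := ndS (p := 4897) (l := 5) rfl N4897 D9669
theorem N6018 : nd 6018 = n9670 := ndS (p := 4897) (l := 7) rfl N4897 D9670
theorem N6019 : nd 6019 = n9671 := ndS (p := 4899) (l := 8) rfl N4899 D9671
theorem N6020 : nd 6020 = n9672 := ndS (p := 4900) (l := 5) rfl N4900 D9672
theorem N6021 : nd 6021 = n9673 := ndS (p := 4901) (l := 5) rfl N4901 D9673
theorem N6022 : nd 6022 = n9674 := ndS (p := 4902) (l := 5) rfl N4902 D9674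
theorem N6023 : nd 6023 = n9675 := ndS (p := 4903) (l := 4) rfl N4903 D9675
theorem N6024 : nd 6024 = n9676 := ndS (p := 4903) (l := 6) rfl N4903 D9676
theorem N6025 : nd 6025 = n9677 := ndS (p := 4904) (l := 5) rfl N4904 D9677
theorem N6026 : nd 6026 = n9678 := ndS (p := 4905) (l := 4) rfl N4905 D9678
theorem N6027 : nd 6027 = n9679 := ndS (p := 4905) (l := 6) rfl N4905 D9679
theorem N6028 : nd 6028 = n9680 := ndS (p := 4906) (l := 4) rfl N4906 D9680
theorem N6029 : nd 6029 = n9681 := ndS (p := 4906) (l := 6) rfl N4906 D9681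
theorem N6030 : nd 6030 = n9682 := ndS (p := 4907) (l := 3) rfl N4907 D9682
theorem N6031 : nd 6031 = n9683 := ndS (p := 4907) (l := 6) rfl N4907 D9683
theorem N6032 : nd 6032 = n9684 := ndS (p := 4908) (l := 7) rfl N4908 D9684
theorem N6033 : nd 6033 = n9685 := ndS (p := 4909) (l := 3) rfl N4909 D9685
theorem N6034 : nd 6034 = n9686 := ndS (p := 4909) (l := 6) rfl N4909 D9686
theorem N6035 : nd 6035 = n9687 := ndS (p := 4910) (l := 7) rfl N4910 D9687
theorem N6036 : nd 6036 = n9688 := ndS (p := 4911) (l := 2) rfl N4911 D9688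
theorem N6037 : nd 6037 = n9689 := ndS (p := 4911) (l := 6) rfl N4911 D9689
theorem N6038 : nd 6038 = n9690 := ndS (p := 4912) (l := 5) rfl N4912 D9690
theorem N6039 : nd 6039 = n9691 := ndS (p := 4912) (l := 7) rfl N4912 D9691
theorem N6040 : nd 6040 = n9692 := ndS (p := 4914) (l := 5) rfl N4914 D9692
theorem N6041 : nd 6041 = n9693 := ndS (p := 4914) (l := 7) rfl N4914 D9693
theorem N6042 : nd 6042 = n9694 := ndS (p := 4915) (l := 7) rfl N4915 D9694
theorem N6043 : nd 6043 = n9695 := ndS (p := 4915) (l := 8) rfl N4915 D9695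
theorem N6044 : nd 6044 = n9696 := ndS (p := 4917) (l := 5) rfl N4917 D9696
theorem N6045 : nd 6045 = n9697 := ndS (p := 4918) (l := 4) rfl N4918 D9697
theorem N6046 : nd 6046 = n9698 := ndS (p := 4918) (l := 6) rfl N4918 D9698
theorem N6047 : nd 6047 = n9699 := ndS (p := 4919) (l := 4) rfl N4919 D9699
theorem N6048 : nd 6048 = n9700 := ndS (p := 4919) (l := 6) rfl N4919 D9700
theorem N6049 : nd 6049 = n9701 := ndS (p := 4920) (l := 3) rfl N4920 D9701
theorem N6050 : nd 6050 = n9702 := ndS (p := 4920) (l := 6) rfl N4920 D9702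
theorem N6051 : nd 6051 = n9703 := ndS (p := 4921) (l := 7) rfl N4921 D9703
theorem N6052 : nd 6052 = n9704 := ndS (p := 4922) (l := 4) rfl N4922 D9704
theorem N6053 : nd 6053 = n9705 := ndS (p := 4922) (l := 6) rfl N4922 D9705
theorem N6054 : nd 6054 = n9706 := ndS (p := 4923) (l := 3) rfl N4923 D9706
theorem N6055 : nd 6055 = n9707 := ndS (p := 4923) (l := 6) rfl N4923 D9707
theorem N6056 : nd 6056 = n9708 := ndS (p := 4924) (l := 7) rfl N4924 D9708
theorem N6057 : nd 6057 = n9709 := ndS (p := 4925) (l := 3) rfl N4925 D9709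
theorem N6058 : nd 6058 = n9710 := ndS (p := 4925) (l := 6) rfl N4925 D9710
theorem N6059 : nd 6059 = n9711 := ndS (p := 4926) (l := 7) rfl N4926 D9711
theorem N6060 : nd 6060 = n9712 := ndS (p := 4927) (l := 2) rfl N4927 D9712
theorem N6061 : nd 6061 = n9713 := ndS (p := 4927) (l := 6) rfl N4927 D9713
theorem N6062 : nd 6062 = n9714 := ndS (p := 4928) (l := 5) rfl N4928 D9714
theorem N6063 : nd 6063 = n9715 := ndS (p := 4928) (l := 7) rfl N4928 D9715
theorem N6064 : nd 6064 = n9716 := ndS (p := 4930) (l := 2) rfl N4930 D9716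
theorem N6065 : nd 6065 = n9717 := ndS (p := 4930) (l := 6) rfl N4930 D9717
theorem N6066 : nd 6066 = n9718 := ndS (p := 4931) (l := 5) rfl N4931 D9718
theorem N6067 : nd 6067 = n9719 := ndS (p := 4931) (l := 7) rfl N4931 D9719
theorem N6068 : nd 6068 = n9720 := ndS (p := 4933) (l := 1) rfl N4933 D9720
theorem N6069 : nd 6069 = n9721 := ndS (p := 4933) (l := 6) rfl N4933 D9721
theorem N6070 : nd 6070 = n9722 := ndS (p := 4934) (l := 5) rfl N4934 D9722
theorem N6071 : nd 6071 = n9723 := ndS (p := 4934) (l := 7) rfl N4934 D9723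
theorem N6072 : nd 6072 = n9724 := ndS (p := 4935) (l := 7) rfl N4935 D9724
theorem N6073 : nd 6073 = n9725 := ndS (p := 4935) (l := 8) rfl N4935 D9725
theorem N6074 : nd 6074 = n9726 := ndS (p := 4937) (l := 6) rfl N4937 D9726
theorem N6075 : nd 6075 = n9727 := ndS (p := 4937) (l := 8) rfl N4937 D9727
theorem N6076 : nd 6076 = n9728 := ndS (p := 4938) (l := 9) rfl N4938 D9728
theorem N6077 : nd 6077 = n9729 := ndS (p := 4939) (l := 3) rfl N4939 D9729
theorem N6078 : nd 6078 = n9730 := ndS (p := 4939) (l := 6) rfl N4939 D9730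
theorem N6079 : nd 6079 = n9731 := ndS (p := 4940) (l := 7) rfl N4940 D9731
theorem N6080 : nd 6080 = n9732 := ndS (p := 4941) (l := 2) rfl N4941 D9732
theorem N6081 : nd 6081 = n9733 := ndS (p := 4941) (l := 6) rfl N4941 D9733
theorem N6082 : nd 6082 = n9734 := ndS (p := 4942) (l := 5) rfl N4942 D9734
theorem N6083 : nd 6083 = n9735 := ndS (p := 4942) (l := 7) rfl N4942 D9735
theorem N6084 : nd 6084 = n9736 := ndS (p := 4944) (l := 2) rfl N4944 D9736
theorem N6085 : nd 6085 = n9737 := ndS (p := 4944) (l := 6) rfl N4944 D9737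
theorem N6086 : nd 6086 = n9738 := ndS (p := 4945) (l := 5) rfl N4945 D9738
theorem N6087 : nd 6087 = n9739 := ndS (p := 4945) (l := 7) rfl N4945 D9739
theorem N6088 : nd 6088 = n9740 := ndS (p := 4947) (l := 1) rfl N4947 D9740
theorem N6089 : nd 6089 = n9741 := ndS (p := 4947) (l := 6) rfl N4947 D9741
theorem N6090 : nd 6090 = n9742 := ndS (p := 4948) (l := 5) rfl N4948 D9742
theorem N6091 : nd 6091 = n9743 := ndS (p := 4948) (l := 7) rfl N4948 D9743
theorem N6092 : nd 6092 = n9744 := ndS (p := 4949) (l := 7) rfl N4949 D9744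
theorem N6093 : nd 6093 = n9748 := ndS (p := 4952) (l := 7) rfl N4952 D9748
theorem N6094 : nd 6094 = n9749 := ndS (p := 4953) (l := 7) rfl N4953 D9749
theorem N6095 : nd 6095 = n9750 := ndS (p := 4953) (l := 8) rfl N4953 D9750
theorem N6096 : nd 6096 = n9752 := ndS (p := 4955) (l := 6) rfl N4955 D9752
theorem N6097 : nd 6097 = n9753 := ndS (p := 4956) (l := 7) rfl N4956 D9753
theorem N6098 : nd 6098 = n9759 := ndS (p := 4959) (l := 5) rfl N4959 D9759
theorem N6099 : nd 6099 = n9760 := ndS (p := 4960) (l := 4) rfl N4960 D9760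
theorem N6100 : nd 6100 = n9761 := ndS (p := 4960) (l := 6) rfl N4960 D9761
theorem N6101 : nd 6101 = n9762 := ndS (p := 4961) (l := 4) rfl N4961 D9762
theorem N6102 : nd 6102 = n9763 := ndS (p := 4961) (l := 6) rfl N4961 D9763
theorem N6103 : nd 6103 = n9764 := ndS (p := 4962) (l := 3) rfl N4962 D9764
theorem N6104 : nd 6104 = n9765 := ndS (p := 4962) (l := 6) rfl N4962 D9765
theorem N6105 : nd 6105 = n9766 := ndS (p := 4963) (l := 7) rfl N4963 D9766
theorem N6106 : nd 6106 = n9768 := ndS (p := 4964) (l := 6) rfl N4964 D9768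
theorem N6107 : nd 6107 = n9770 := ndS (p := 4965) (l := 7) rfl N4965 D9770
theorem N6108 : nd 6108 = n9771 := ndS (p := 4967) (l := 4) rfl N4967 D9771
theorem N6109 : nd 6109 = n9772 := ndS (p := 4967) (l := 6) rfl N4967 D9772
theorem N6110 : nd 6110 = n9773 := ndS (p := 4968) (l := 3) rfl N4968 D9773
theorem N6111 : nd 6111 = n9774 := ndS (p := 4968) (l := 6) rfl N4968 D9774
theorem N6112 : nd 6112 = n9775 := ndS (p := 4969) (l := 7) rfl N4969 D9775
theorem N6113 : nd 6113 = n9776 := ndS (p := 4970) (l := 3) rfl N4970 D9776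
theorem N6114 : nd 6114 = n9777 := ndS (p := 4970) (l := 6) rfl N4970 D9777
theorem N6115 : nd 6115 = n9778 := ndS (p := 4971) (l := 7) rfl N4971 D9778
theorem N6116 : nd 6116 = n9779 := ndS (p := 4972) (l := 2) rfl N4972 D9779
theorem N6117 : nd 6117 = n9780 := ndS (p := 4972) (l := 6) rfl N4972 D9780
theorem N6118 : nd 6118 = n9781 := ndS (p := 4973) (l := 5) rfl N4973 D9781
theorem N6119 : nd 6119 = n9782 := ndS (p := 4973) (l := 7) rfl N4973 D9782
theorem N6120 : nd 6120 = n9785 := ndS (p := 4975) (l := 7) rfl N4975 D9785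
theorem N6121 : nd 6121 = n9786 := ndS (p := 4976) (l := 7) rfl N4976 D9786
theorem N6122 : nd 6122 = n9788 := ndS (p := 4978) (l := 3) rfl N4978 D9788
theorem N6123 : nd 6123 = n9789 := ndS (p := 4978) (l := 6) rfl N4978 D9789
theorem N6124 : nd 6124 = n9790 := ndS (p := 4979) (l := 7) rfl N4979 D9790
theorem N6125 : nd 6125 = n9791 := ndS (p := 4980) (l := 2) rfl N4980 D9791
theorem N6126 : nd 6126 = n9792 := ndS (p := 4980) (l := 6) rfl N4980 D9792
theorem N6127 : nd 6127 = n9793 := ndS (p := 4981) (l := 5) rfl N4981 D9793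
theorem N6128 : nd 6128 = n9794 := ndS (p := 4981) (l := 7) rfl N4981 D9794
theorem N6129 : nd 6129 = n9795 := ndS (p := 4983) (l := 2) rfl N4983 D9795
theorem N6130 : nd 6130 = n9796 := ndS (p := 4983) (l := 6) rfl N4983 D9796
theorem N6131 : nd 6131 = n9797 := ndS (p := 4984) (l := 5) rfl N4984 D9797
theorem N6132 : nd 6132 = n9798 := ndS (p := 4984) (l := 7) rfl N4984 D9798
theorem N6133 : nd 6133 = n9799 := ndS (p := 4986) (l := 1) rfl N4986 D9799
theorem N6134 : nd 6134 = n9800 := ndS (p := 4986) (l := 6) rfl N4986 D9800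
theorem N6135 : nd 6135 = n9801 := ndS (p := 4987) (l := 5) rfl N4987 D9801
theorem N6136 : nd 6136 = n9802 := ndS (p := 4987) (l := 7) rfl N4987 D9802
theorem N6137 : nd 6137 = n9803 := ndS (p := 4988) (l := 7) rfl N4988 D9803
theorem N6138 : nd 6138 = n9804 := ndS (p := 4988) (l := 8) rfl N4988 D9804
theorem N6139 : nd 6139 = n9805 := ndS (p := 4990) (l := 4) rfl N4990 D9805
theorem N6140 : nd 6140 = n9806 := ndS (p := 4990) (l := 7) rfl N4990 D9806
theorem N6141 : nd 6141 = n9808 := ndS (p := 4992) (l := 6) rfl N4992 D9808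
theorem N6142 : nd 6142 = n9809 := ndS (p := 4992) (l := 8) rfl N4992 D9809
theorem N6143 : nd 6143 = n9810 := ndS (p := 4993) (l := 9) rfl N4993 D9810
theorem N6144 : nd 6144 = n9811 := ndS (p := 4994) (l := 2) rfl N4994 D9811
theorem N6145 : nd 6145 = n9812 := ndS (p := 4994) (l := 6) rfl N4994 D9812
theorem N6146 : nd 6146 = n9813 := ndS (p := 4995) (l := 5) rfl N4995 D9813
theorem N6147 : nd 6147 = n9814 := ndS (p := 4995) (l := 7) rfl N4995 D9814
theorem N6148 : nd 6148 = n9815 := ndS (p := 4997) (l := 1) rfl N4997 D9815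
theorem N6149 : nd 6149 = n9816 := ndS (p := 4997) (l := 6) rfl N4997 D9816
theorem N6150 : nd 6150 = n9817 := ndS (p := 4998) (l := 5) rfl N4998 D9817
theorem N6151 : nd 6151 = n9818 := ndS (p := 4998) (l := 7) rfl N4998 D9818
theorem N6152 : nd 6152 = n9819 := ndS (p := 4999) (l := 7) rfl N4999 D9819
theorem N6153 : nd 6153 = n9820 := ndS (p := 4999) (l := 8) rfl N4999 D9820
theorem N6154 : nd 6154 = n9824 := ndS (p := 5002) (l := 7) rfl N5002 D9824
theorem N6155 : nd 6155 = n9825 := ndS (p := 5003) (l := 7) rfl N5003 D9825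
theorem N6156 : nd 6156 = n9826 := ndS (p := 5003) (l := 8) rfl N5003 D9826
theorem N6157 : nd 6157 = n9828 := ndS (p := 5005) (l := 6) rfl N5005 D9828
theorem N6158 : nd 6158 = n9829 := ndS (p := 5006) (l := 5) rfl N5006 D9829
theorem N6159 : nd 6159 = n9830 := ndS (p := 5006) (l := 7) rfl N5006 D9830
theorem N6160 : nd 6160 = n9831 := ndS (p := 5007) (l := 7) rfl N5007 D9831
theorem N6161 : nd 6161 = n9832 := ndS (p := 5007) (l := 8) rfl N5007 D9832
theorem N6162 : nd 6162 = n9833 := ndS (p := 5009) (l := 6) rfl N5009 D9833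
theorem N6163 : nd 6163 = n9834 := ndS (p := 5009) (l := 8) rfl N5009 D9834
theorem N6164 : nd 6164 = n9835 := ndS (p := 5010) (l := 9) rfl N5010 D9835
theorem N6165 : nd 6165 = n9836 := ndS (p := 5011) (l := 8) rfl N5011 D9836
theorem N6166 : nd 6166 = n9837 := ndS (p := 5012) (l := 9) rfl N5012 D9837
theorem N6167 : nd 6167 = n9838 := ndS (p := 5014) (l := 1) rfl N5014 D9838
theorem N6168 : nd 6168 = n9839 := ndS (p := 5014) (l := 6) rfl N5014 D9839
theorem N6169 : nd 6169 = n9840 := ndS (p := 5015) (l := 5) rfl N5015 D9840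
theorem N6170 : nd 6170 = n9841 := ndS (p := 5015) (l := 7) rfl N5015 D9841
theorem N6171 : nd 6171 = n9842 := ndS (p := 5016) (l := 7) rfl N5016 D9842
theorem N6172 : nd 6172 = n9843 := ndS (p := 5016) (l := 8) rfl N5016 D9843
theorem N6173 : nd 6173 = n9845 := ndS (p := 5018) (l := 6) rfl N5018 D9845
theorem N6174 : nd 6174 = n9847 := ndS (p := 5019) (l := 7) rfl N5019 D9847
theorem N6175 : nd 6175 = n9848 := ndS (p := 5020) (l := 4) rfl N5020 D9848
theorem N6176 : nd 6176 = n9849 := ndS (p := 5020) (l := 7) rfl N5020 D9849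
theorem N6177 : nd 6177 = n9864 := ndS (p := 5029) (l := 4) rfl N5029 D9864
theorem N6178 : nd 6178 = n9865 := ndS (p := 5029) (l := 8) rfl N5029 D9865
theorem N6179 : nd 6179 = n9869 := ndS (p := 5032) (l := 4) rfl N5032 D9869
theorem N6180 : nd 6180 = n9871 := ndS (p := 5033) (l := 4) rfl N5033 D9871
theorem N6181 : nd 6181 = n9873 := ndS (p := 5034) (l := 3) rfl N5034 D9873
theorem N6182 : nd 6182 = n9880 := ndS (p := 5035) (l := 4) rfl N5035 D9880
theorem N6183 : nd 6183 = n9881 := ndS (p := 5035) (l := 6) rfl N5035 D9881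
theorem N6184 : nd 6184 = n9882 := ndS (p := 5036) (l := 4) rfl N5036 D9882
theorem N6185 : nd 6185 = n9883 := ndS (p := 5036) (l := 6) rfl N5036 D9883
theorem N6186 : nd 6186 = n9884 := ndS (p := 5037) (l := 3) rfl N5037 D9884
theorem N6187 : nd 6187 = n9885 := ndS (p := 5037) (l := 6) rfl N5037 D9885
theorem N6188 : nd 6188 = n9887 := ndS (p := 5039) (l := 3) rfl N5039 D9887
theorem N6189 : nd 6189 = n9888 := ndS (p := 5039) (l := 6) rfl N5039 D9888
theorem N6190 : nd 6190 = n9890 := ndS (p := 5041) (l := 2) rfl N5041 D9890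
theorem N6191 : nd 6191 = n9891 := ndS (p := 5041) (l := 6) rfl N5041 D9891
theorem N6192 : nd 6192 = n9899 := ndS (p := 5043) (l := 4) rfl N5043 D9899
theorem N6193 : nd 6193 = n9900 := ndS (p := 5043) (l := 6) rfl N5043 D9900
theorem N6194 : nd 6194 = n9901 := ndS (p := 5044) (l := 4) rfl N5044 D9901
theorem N6195 : nd 6195 = n9902 := ndS (p := 5044) (l := 6) rfl N5044 D9902
theorem N6196 : nd 6196 = n9903 := ndS (p := 5045) (l := 3) rfl N5045 D9903
theorem N6197 : nd 6197 = n9904 := ndS (p := 5045) (l := 6) rfl N5045 D9904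
theorem N6198 : nd 6198 = n9905 := ndS (p := 5046) (l := 7) rfl N5046 D9905
theorem N6199 : nd 6199 = n9906 := ndS (p := 5047) (l := 4) rfl N5047 D9906
theorem N6200 : nd 6200 = n9907 := ndS (p := 5047) (l := 6) rfl N5047 D9907
theorem N6201 : nd 6201 = n9908 := ndS (p := 5048) (l := 3) rfl N5048 D9908
theorem N6202 : nd 6202 = n9909 := ndS (p := 5048) (l := 6) rfl N5048 D9909
theorem N6203 : nd 6203 = n9910 := ndS (p := 5049) (l := 7) rfl N5049 D9910
theorem N6204 : nd 6204 = n9911 := ndS (p := 5050) (l := 2) rfl N5050 D9911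
theorem N6205 : nd 6205 = n9912 := ndS (p := 5050) (l := 6) rfl N5050 D9912
theorem N6206 : nd 6206 = n9913 := ndS (p := 5051) (l := 5) rfl N5051 D9913
theorem N6207 : nd 6207 = n9914 := ndS (p := 5051) (l := 7) rfl N5051 D9914
theorem N6208 : nd 6208 = n9917 := ndS (p := 5054) (l := 5) rfl N5054 D9917
theorem N6209 : nd 6209 = n9918 := ndS (p := 5054) (l := 7) rfl N5054 D9918
theorem N6210 : nd 6210 = n9919 := ndS (p := 5056) (l := 1) rfl N5056 D9919
theorem N6211 : nd 6211 = n9920 := ndS (p := 5056) (l := 6) rfl N5056 D9920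
theorem N6212 : nd 6212 = n9921 := ndS (p := 5057) (l := 5) rfl N5057 D9921
theorem N6213 : nd 6213 = n9924 := ndS (p := 5058) (l := 8) rfl N5058 D9924
theorem N6214 : nd 6214 = n9925 := ndS (p := 5060) (l := 4) rfl N5060 D9925
theorem N6215 : nd 6215 = n9927 := ndS (p := 5060) (l := 8) rfl N5060 D9927
theorem N6216 : nd 6216 = n9930 := ndS (p := 5061) (l := 9) rfl N5061 D9930
theorem N6217 : nd 6217 = n9931 := ndS (p := 5062) (l := 4) rfl N5062 D9931
theorem N6218 : nd 6218 = n9932 := ndS (p := 5062) (l := 6) rfl N5062 D9932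
theorem N6219 : nd 6219 = n9933 := ndS (p := 5063) (l := 3) rfl N5063 D9933
theorem N6220 : nd 6220 = n9934 := ndS (p := 5063) (l := 6) rfl N5063 D9934
theorem N6221 : nd 6221 = n9935 := ndS (p := 5064) (l := 7) rfl N5064 D9935
theorem N6222 : nd 6222 = n9936 := ndS (p := 5065) (l := 2) rfl N5065 D9936
theorem N6223 : nd 6223 = n9937 := ndS (p := 5065) (l := 6) rfl N5065 D9937
theorem N6224 : nd 6224 = n9938 := ndS (p := 5066) (l := 5) rfl N5066 D9938
theorem N6225 : nd 6225 = n9939 := ndS (p := 5066) (l := 7) rfl N5066 D9939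
theorem N6226 : nd 6226 = n9945 := ndS (p := 5071) (l := 5) rfl N5071 D9945
theorem N6227 : nd 6227 = n9946 := ndS (p := 5071) (l := 7) rfl N5071 D9946
theorem N6228 : nd 6228 = n9948 := ndS (p := 5073) (l := 6) rfl N5073 D9948
theorem N6229 : nd 6229 = n9949 := ndS (p := 5074) (l := 5) rfl N5074 D9949
theorem N6230 : nd 6230 = n9950 := ndS (p := 5074) (l := 7) rfl N5074 D9950
theorem N6231 : nd 6231 = n9951 := ndS (p := 5075) (l := 7) rfl N5075 D9951
theorem N6232 : nd 6232 = n9952 := ndS (p := 5075) (l := 8) rfl N5075 D9952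
theorem N6233 : nd 6233 = n9957 := ndS (p := 5077) (l := 7) rfl N5077 D9957
theorem N6234 : nd 6234 = n9958 := ndS (p := 5077) (l := 8) rfl N5077 D9958
theorem N6235 : nd 6235 = n9961 := ndS (p := 5079) (l := 5) rfl N5079 D9961
theorem N6236 : nd 6236 = n9963 := ndS (p := 5080) (l := 7) rfl N5080 D9963
theorem N6237 : nd 6237 = n9964 := ndS (p := 5080) (l := 8) rfl N5080 D9964
theorem N6238 : nd 6238 = n9965 := ndS (p := 5082) (l := 6) rfl N5082 D9965
theorem N6239 : nd 6239 = n9966 := ndS (p := 5082) (l := 8) rfl N5082 D9966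
theorem N6240 : nd 6240 = n9967 := ndS (p := 5083) (l := 9) rfl N5083 D9967
theorem N6241 : nd 6241 = n9968 := ndS (p := 5084) (l := 8) rfl N5084 D9968
theorem N6242 : nd 6242 = n9969 := ndS (p := 5085) (l := 9) rfl N5085 D9969
theorem N6243 : nd 6243 = n9982 := ndS (p := 5087) (l := 5) rfl N5087 D9982
theorem N6244 : nd 6244 = n9984 := ndS (p := 5088) (l := 4) rfl N5088 D9984
theorem N6245 : nd 6245 = n10004 := ndS (p := 5090) (l := 3) rfl N5090 D10004
theorem N6246 : nd 6246 = n10017 := ndS (p := 5092) (l := 2) rfl N5092 D10017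
theorem N6247 : nd 6247 = n10018 := ndS (p := 5092) (l := 6) rfl N5092 D10018
theorem N6248 : nd 6248 = n10019 := ndS (p := 5093) (l := 5) rfl N5093 D10019
theorem N6249 : nd 6249 = n10039 := ndS (p := 5096) (l := 7) rfl N5096 D10039
theorem N6250 : nd 6250 = n10040 := ndS (p := 5096) (l := 8) rfl N5096 D10040
theorem N6251 : nd 6251 = n10043 := ndS (p := 5099) (l := 5) rfl N5099 D10043
theorem N6252 : nd 6252 = n10045 := ndS (p := 5100) (l := 4) rfl N5100 D10045
theorem N6253 : nd 6253 = n10047 := ndS (p := 5100) (l := 8) rfl N5100 D10047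
theorem N6254 : nd 6254 = n10050 := ndS (p := 5101) (l := 9) rfl N5101 D10050
theorem N6255 : nd 6255 = n10065 := ndS (p := 5104) (l := 6) rfl N5104 D10065
theorem N6256 : nd 6256 = n10066 := ndS (p := 5104) (l := 8) rfl N5104 D10066
theorem N6257 : nd 6257 = n10067 := ndS (p := 5105) (l := 9) rfl N5105 D10067
theorem N6258 : nd 6258 = n10072 := ndS (p := 5106) (l := 8) rfl N5106 D10072
theorem N6259 : nd 6259 = n10073 := ndS (p := 5107) (l := 6) rfl N5107 D10073
theorem N6260 : nd 6260 = n10074 := ndS (p := 5107) (l := 8) rfl N5107 D10074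
theorem N6261 : nd 6261 = n10075 := ndS (p := 5108) (l := 9) rfl N5108 D10075
theorem N6262 : nd 6262 = n10076 := ndS (p := 5109) (l := 8) rfl N5109 D10076
theorem N6263 : nd 6263 = n10077 := ndS (p := 5110) (l := 9) rfl N5110 D10077
theorem N6264 : nd 6264 = n10078 := ndS (p := 5112) (l := 5) rfl N5112 D10078
theorem N6265 : nd 6265 = n10079 := ndS (p := 5112) (l := 9) rfl N5112 D10079
theorem N6266 : nd 6266 = n10128 := ndS (p := 5114) (l := 4) rfl N5114 D10128
theorem N6267 : nd 6267 = n10129 := ndS (p := 5114) (l := 9) rfl N5114 D10129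
theorem N6268 : nd 6268 = n10130 := ndS (p := 5116) (l := 5) rfl N5116 D10130
theorem N6269 : nd 6269 = n10131 := ndS (p := 5117) (l := 5) rfl N5117 D10131
theorem N6270 : nd 6270 = n10132 := ndS (p := 5118) (l := 4) rfl N5118 D10132
theorem N6271 : nd 6271 = n10133 := ndS (p := 5118) (l := 6) rfl N5118 D10133
theorem N6272 : nd 6272 = n10135 := ndS (p := 5119) (l := 6) rfl N5119 D10135
theorem N6273 : nd 6273 = n10136 := ndS (p := 5120) (l := 7) rfl N5120 D10136
theorem N6274 : nd 6274 = n10137 := ndS (p := 5121) (l := 4) rfl N5121 D10137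
theorem N6275 : nd 6275 = n10138 := ndS (p := 5121) (l := 6) rfl N5121 D10138
theorem N6276 : nd 6276 = n10139 := ndS (p := 5122) (l := 4) rfl N5122 D10139
theorem N6277 : nd 6277 = n10140 := ndS (p := 5122) (l := 6) rfl N5122 D10140
theorem N6278 : nd 6278 = n10141 := ndS (p := 5123) (l := 3) rfl N5123 D10141
theorem N6279 : nd 6279 = n10142 := ndS (p := 5123) (l := 6) rfl N5123 D10142
theorem N6280 : nd 6280 = n10143 := ndS (p := 5124) (l := 7) rfl N5124 D10143
theorem N6281 : nd 6281 = n10146 := ndS (p := 5125) (l := 5) rfl N5125 D10146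
theorem N6282 : nd 6282 = n10147 := ndS (p := 5125) (l := 7) rfl N5125 D10147
theorem N6283 : nd 6283 = n10148 := ndS (p := 5127) (l := 4) rfl N5127 D10148
theorem N6284 : nd 6284 = n10149 := ndS (p := 5127) (l := 6) rfl N5127 D10149
theorem N6285 : nd 6285 = n10150 := ndS (p := 5128) (l := 4) rfl N5128 D10150
theorem N6286 : nd 6286 = n10151 := ndS (p := 5128) (l := 6) rfl N5128 D10151
theorem N6287 : nd 6287 = n10152 := ndS (p := 5129) (l := 4) rfl N5129 D10152
theorem N6288 : nd 6288 = n10153 := ndS (p := 5129) (l := 6) rfl N5129 D10153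
theorem N6289 : nd 6289 = n10154 := ndS (p := 5130) (l := 3) rfl N5130 D10154
theorem N6290 : nd 6290 = n10155 := ndS (p := 5130) (l := 6) rfl N5130 D10155
theorem N6291 : nd 6291 = n10156 := ndS (p := 5131) (l := 7) rfl N5131 D10156
theorem N6292 : nd 6292 = n10157 := ndS (p := 5132) (l := 3) rfl N5132 D10157
theorem N6293 : nd 6293 = n10158 := ndS (p := 5132) (l := 6) rfl N5132 D10158
theorem N6294 : nd 6294 = n10159 := ndS (p := 5133) (l := 7) rfl N5133 D10159
theorem N6295 : nd 6295 = n10160 := ndS (p := 5134) (l := 2) rfl N5134 D10160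
theorem N6296 : nd 6296 = n10161 := ndS (p := 5134) (l := 6) rfl N5134 D10161
theorem N6297 : nd 6297 = n10162 := ndS (p := 5135) (l := 5) rfl N5135 D10162
theorem N6298 : nd 6298 = n10163 := ndS (p := 5135) (l := 7) rfl N5135 D10163
theorem N6299 : nd 6299 = n10164 := ndS (p := 5137) (l := 5) rfl N5137 D10164
theorem N6300 : nd 6300 = n10165 := ndS (p := 5137) (l := 7) rfl N5137 D10165
theorem N6301 : nd 6301 = n10166 := ndS (p := 5138) (l := 7) rfl N5138 D10166
theorem N6302 : nd 6302 = n10167 := ndS (p := 5138) (l := 8) rfl N5138 D10167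
theorem N6303 : nd 6303 = n10168 := ndS (p := 5140) (l := 3) rfl N5140 D10168
theorem N6304 : nd 6304 = n10169 := ndS (p := 5140) (l := 6) rfl N5140 D10169
theorem N6305 : nd 6305 = n10170 := ndS (p := 5141) (l := 7) rfl N5141 D10170
theorem N6306 : nd 6306 = n10171 := ndS (p := 5142) (l := 4) rfl N5142 D10171
theorem N6307 : nd 6307 = n10172 := ndS (p := 5142) (l := 6) rfl N5142 D10172
theorem N6308 : nd 6308 = n10173 := ndS (p := 5143) (l := 3) rfl N5143 D10173
theorem N6309 : nd 6309 = n10174 := ndS (p := 5143) (l := 6) rfl N5143 D10174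
theorem N6310 : nd 6310 = n10175 := ndS (p := 5144) (l := 7) rfl N5144 D10175
theorem N6311 : nd 6311 = n10176 := ndS (p := 5145) (l := 3) rfl N5145 D10176
theorem N6312 : nd 6312 = n10177 := ndS (p := 5145) (l := 6) rfl N5145 D10177
theorem N6313 : nd 6313 = n10178 := ndS (p := 5146) (l := 7) rfl N5146 D10178
theorem N6314 : nd 6314 = n10179 := ndS (p := 5147) (l := 2) rfl N5147 D10179
theorem N6315 : nd 6315 = n10180 := ndS (p := 5147) (l := 6) rfl N5147 D10180
theorem N6316 : nd 6316 = n10181 := ndS (p := 5148) (l := 5) rfl N5148 D10181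
theorem N6317 : nd 6317 = n10182 := ndS (p := 5148) (l := 7) rfl N5148 D10182
theorem N6318 : nd 6318 = n10183 := ndS (p := 5150) (l := 2) rfl N5150 D10183
theorem N6319 : nd 6319 = n10184 := ndS (p := 5150) (l := 6) rfl N5150 D10184
theorem N6320 : nd 6320 = n10185 := ndS (p := 5151) (l := 5) rfl N5151 D10185
theorem N6321 : nd 6321 = n10186 := ndS (p := 5151) (l := 7) rfl N5151 D10186
theorem N6322 : nd 6322 = n10187 := ndS (p := 5153) (l := 1) rfl N5153 D10187
theorem N6323 : nd 6323 = n10188 := ndS (p := 5153) (l := 6) rfl N5153 D10188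
theorem N6324 : nd 6324 = n10189 := ndS (p := 5154) (l := 5) rfl N5154 D10189
theorem N6325 : nd 6325 = n10190 := ndS (p := 5154) (l := 7) rfl N5154 D10190
theorem N6326 : nd 6326 = n10191 := ndS (p := 5155) (l := 7) rfl N5155 D10191
theorem N6327 : nd 6327 = n10192 := ndS (p := 5155) (l := 8) rfl N5155 D10192
theorem N6328 : nd 6328 = n10193 := ndS (p := 5157) (l := 6) rfl N5157 D10193
theorem N6329 : nd 6329 = n10194 := ndS (p := 5157) (l := 8) rfl N5157 D10194
theorem N6330 : nd 6330 = n10195 := ndS (p := 5158) (l := 9) rfl N5158 D10195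
theorem N6331 : nd 6331 = n10196 := ndS (p := 5159) (l := 4) rfl N5159 D10196
theorem N6332 : nd 6332 = n10197 := ndS (p := 5159) (l := 6) rfl N5159 D10197
theorem N6333 : nd 6333 = n10198 := ndS (p := 5160) (l := 3) rfl N5160 D10198
theorem N6334 : nd 6334 = n10199 := ndS (p := 5160) (l := 6) rfl N5160 D10199
theorem N6335 : nd 6335 = n10200 := ndS (p := 5161) (l := 7) rfl N5161 D10200
theorem N6336 : nd 6336 = n10201 := ndS (p := 5162) (l := 3) rfl N5162 D10201
theorem N6337 : nd 6337 = n10202 := ndS (p := 5162) (l := 6) rfl N5162 D10202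
theorem N6338 : nd 6338 = n10203 := ndS (p := 5163) (l := 7) rfl N5163 D10203
theorem N6339 : nd 6339 = n10204 := ndS (p := 5164) (l := 2) rfl N5164 D10204
theorem N6340 : nd 6340 = n10205 := ndS (p := 5164) (l := 6) rfl N5164 D10205
theorem N6341 : nd 6341 = n10206 := ndS (p := 5165) (l := 5) rfl N5165 D10206
theorem N6342 : nd 6342 = n10207 := ndS (p := 5165) (l := 7) rfl N5165 D10207
theorem N6343 : nd 6343 = n10208 := ndS (p := 5167) (l := 2) rfl N5167 D10208
theorem N6344 : nd 6344 = n10209 := ndS (p := 5167) (l := 6) rfl N5167 D10209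
theorem N6345 : nd 6345 = n10210 := ndS (p := 5168) (l := 5) rfl N5168 D10210
theorem N6346 : nd 6346 = n10211 := ndS (p := 5168) (l := 7) rfl N5168 D10211
theorem N6347 : nd 6347 = n10212 := ndS (p := 5170) (l := 1) rfl N5170 D10212
theorem N6348 : nd 6348 = n10213 := ndS (p := 5170) (l := 6) rfl N5170 D10213
theorem N6349 : nd 6349 = n10214 := ndS (p := 5171) (l := 5) rfl N5171 D10214
theorem N6350 : nd 6350 = n10215 := ndS (p := 5171) (l := 7) rfl N5171 D10215
theorem N6351 : nd 6351 = n10216 := ndS (p := 5172) (l := 7) rfl N5172 D10216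
theorem N6352 : nd 6352 = n10217 := ndS (p := 5174) (l := 1) rfl N5174 D10217
theorem N6353 : nd 6353 = n10218 := ndS (p := 5174) (l := 6) rfl N5174 D10218
theorem N6354 : nd 6354 = n10219 := ndS (p := 5175) (l := 5) rfl N5175 D10219
theorem N6355 : nd 6355 = n10220 := ndS (p := 5175) (l := 7) rfl N5175 D10220
theorem N6356 : nd 6356 = n10221 := ndS (p := 5176) (l := 7) rfl N5176 D10221
theorem N6357 : nd 6357 = n10222 := ndS (p := 5176) (l := 8) rfl N5176 D10222
theorem N6358 : nd 6358 = n10223 := ndS (p := 5178) (l := 0) rfl N5178 D10223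
theorem N6359 : nd 6359 = n10224 := ndS (p := 5178) (l := 6) rfl N5178 D10224
theorem N6360 : nd 6360 = n10225 := ndS (p := 5179) (l := 7) rfl N5179 D10225
theorem N6361 : nd 6361 = n10226 := ndS (p := 5181) (l := 0) rfl N5181 D10226
theorem N6362 : nd 6362 = n10227 := ndS (p := 5181) (l := 6) rfl N5181 D10227
theorem N6363 : nd 6363 = n10228 := ndS (p := 5182) (l := 5) rfl N5182 D10228
theorem N6364 : nd 6364 = n10229 := ndS (p := 5183) (l := 4) rfl N5183 D10229
theorem N6365 : nd 6365 = n10230 := ndS (p := 5183) (l := 8) rfl N5183 D10230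
theorem N6366 : nd 6366 = n10231 := ndS (p := 5184) (l := 9) rfl N5184 D10231
theorem N6367 : nd 6367 = n10232 := ndS (p := 5186) (l := 5) rfl N5186 D10232
theorem N6368 : nd 6368 = n10233 := ndS (p := 5187) (l := 4) rfl N5187 D10233
theorem N6369 : nd 6369 = n10234 := ndS (p := 5187) (l := 6) rfl N5187 D10234
theorem N6370 : nd 6370 = n10235 := ndS (p := 5188) (l := 4) rfl N5188 D10235
theorem N6371 : nd 6371 = n10236 := ndS (p := 5188) (l := 6) rfl N5188 D10236
theorem N6372 : nd 6372 = n10238 := ndS (p := 5189) (l := 6) rfl N5189 D10238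
theorem N6373 : nd 6373 = n10239 := ndS (p := 5190) (l := 7) rfl N5190 D10239
theorem N6374 : nd 6374 = n10243 := ndS (p := 5191) (l := 7) rfl N5191 D10243
theorem N6375 : nd 6375 = n10244 := ndS (p := 5193) (l := 4) rfl N5193 D10244
theorem N6376 : nd 6376 = n10245 := ndS (p := 5193) (l := 6) rfl N5193 D10245
theorem N6377 : nd 6377 = n10246 := ndS (p := 5194) (l := 4) rfl N5194 D10246
theorem N6378 : nd 6378 = n10247 := ndS (p := 5194) (l := 6) rfl N5194 D10247
theorem N6379 : nd 6379 = n10248 := ndS (p := 5195) (l := 4) rfl N5195 D10248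
theorem N6380 : nd 6380 = n10249 := ndS (p := 5195) (l := 6) rfl N5195 D10249
theorem N6381 : nd 6381 = n10251 := ndS (p := 5196) (l := 6) rfl N5196 D10251
theorem N6382 : nd 6382 = n10252 := ndS (p := 5197) (l := 7) rfl N5197 D10252
theorem N6383 : nd 6383 = n10254 := ndS (p := 5198) (l := 6) rfl N5198 D10254
theorem N6384 : nd 6384 = n10255 := ndS (p := 5199) (l := 7) rfl N5199 D10255
theorem N6385 : nd 6385 = n10259 := ndS (p := 5200) (l := 7) rfl N5200 D10259
theorem N6386 : nd 6386 = n10265 := ndS (p := 5203) (l := 4) rfl N5203 D10265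
theorem N6387 : nd 6387 = n10266 := ndS (p := 5203) (l := 6) rfl N5203 D10266
theorem N6388 : nd 6388 = n10267 := ndS (p := 5204) (l := 3) rfl N5204 D10267
theorem N6389 : nd 6389 = n10268 := ndS (p := 5204) (l := 6) rfl N5204 D10268
theorem N6390 : nd 6390 = n10269 := ndS (p := 5205) (l := 7) rfl N5205 D10269
theorem N6391 : nd 6391 = n10270 := ndS (p := 5206) (l := 4) rfl N5206 D10270
theorem N6392 : nd 6392 = n10271 := ndS (p := 5206) (l := 6) rfl N5206 D10271
theorem N6393 : nd 6393 = n10272 := ndS (p := 5207) (l := 4) rfl N5207 D10272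
theorem N6394 : nd 6394 = n10273 := ndS (p := 5207) (l := 6) rfl N5207 D10273
theorem N6395 : nd 6395 = n10274 := ndS (p := 5208) (l := 3) rfl N5208 D10274
theorem N6396 : nd 6396 = n10275 := ndS (p := 5208) (l := 6) rfl N5208 D10275
theorem N6397 : nd 6397 = n10276 := ndS (p := 5209) (l := 7) rfl N5209 D10276
theorem N6398 : nd 6398 = n10277 := ndS (p := 5210) (l := 3) rfl N5210 D10277
theorem N6399 : nd 6399 = n10278 := ndS (p := 5210) (l := 6) rfl N5210 D10278
theorem N6400 : nd 6400 = n10279 := ndS (p := 5211) (l := 7) rfl N5211 D10279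
theorem N6401 : nd 6401 = n10280 := ndS (p := 5212) (l := 2) rfl N5212 D10280
theorem N6402 : nd 6402 = n10281 := ndS (p := 5212) (l := 6) rfl N5212 D10281
theorem N6403 : nd 6403 = n10282 := ndS (p := 5213) (l := 5) rfl N5213 D10282
theorem N6404 : nd 6404 = n10283 := ndS (p := 5213) (l := 7) rfl N5213 D10283
theorem N6405 : nd 6405 = n10285 := ndS (p := 5215) (l := 6) rfl N5215 D10285
theorem N6406 : nd 6406 = n10286 := ndS (p := 5216) (l := 5) rfl N5216 D10286
theorem N6407 : nd 6407 = n10287 := ndS (p := 5216) (l := 7) rfl N5216 D10287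
theorem N6408 : nd 6408 = n10291 := ndS (p := 5219) (l := 7) rfl N5219 D10291
theorem N6409 : nd 6409 = n10292 := ndS (p := 5220) (l := 7) rfl N5220 D10292
theorem N6410 : nd 6410 = n10293 := ndS (p := 5220) (l := 8) rfl N5220 D10293
theorem N6411 : nd 6411 = n10298 := ndS (p := 5223) (l := 8) rfl N5223 D10298
theorem N6412 : nd 6412 = n10299 := ndS (p := 5224) (l := 9) rfl N5224 D10299
theorem N6413 : nd 6413 = n10300 := ndS (p := 5225) (l := 3) rfl N5225 D10300
theorem N6414 : nd 6414 = n10301 := ndS (p := 5225) (l := 6) rfl N5225 D10301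
theorem N6415 : nd 6415 = n10302 := ndS (p := 5226) (l := 7) rfl N5226 D10302
theorem N6416 : nd 6416 = n10303 := ndS (p := 5227) (l := 3) rfl N5227 D10303
theorem N6417 : nd 6417 = n10304 := ndS (p := 5227) (l := 6) rfl N5227 D10304
theorem N6418 : nd 6418 = n10305 := ndS (p := 5228) (l := 7) rfl N5228 D10305
theorem N6419 : nd 6419 = n10306 := ndS (p := 5229) (l := 2) rfl N5229 D10306
theorem N6420 : nd 6420 = n10307 := ndS (p := 5229) (l := 6) rfl N5229 D10307
theorem N6421 : nd 6421 = n10308 := ndS (p := 5230) (l := 5) rfl N5230 D10308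
theorem N6422 : nd 6422 = n10309 := ndS (p := 5230) (l := 7) rfl N5230 D10309
theorem N6423 : nd 6423 = n10310 := ndS (p := 5232) (l := 3) rfl N5232 D10310
theorem N6424 : nd 6424 = n10311 := ndS (p := 5232) (l := 6) rfl N5232 D10311
theorem N6425 : nd 6425 = n10312 := ndS (p := 5233) (l := 7) rfl N5233 D10312
theorem N6426 : nd 6426 = n10313 := ndS (p := 5234) (l := 3) rfl N5234 D10313
theorem N6427 : nd 6427 = n10314 := ndS (p := 5234) (l := 6) rfl N5234 D10314
theorem N6428 : nd 6428 = n10315 := ndS (p := 5235) (l := 7) rfl N5235 D10315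
theorem N6429 : nd 6429 = n10318 := ndS (p := 5237) (l := 5) rfl N5237 D10318
theorem N6430 : nd 6430 = n10319 := ndS (p := 5237) (l := 7) rfl N5237 D10319
theorem N6431 : nd 6431 = n10320 := ndS (p := 5239) (l := 2) rfl N5239 D10320
theorem N6432 : nd 6432 = n10321 := ndS (p := 5239) (l := 6) rfl N5239 D10321
theorem N6433 : nd 6433 = n10322 := ndS (p := 5240) (l := 5) rfl N5240 D10322
theorem N6434 : nd 6434 = n10323 := ndS (p := 5240) (l := 7) rfl N5240 D10323
theorem N6435 : nd 6435 = n10325 := ndS (p := 5242) (l := 6) rfl N5242 D10325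
theorem N6436 : nd 6436 = n10326 := ndS (p := 5243) (l := 5) rfl N5243 D10326
theorem N6437 : nd 6437 = n10327 := ndS (p := 5243) (l := 7) rfl N5243 D10327
theorem N6438 : nd 6438 = n10328 := ndS (p := 5244) (l := 7) rfl N5244 D10328
theorem N6439 : nd 6439 = n10329 := ndS (p := 5244) (l := 8) rfl N5244 D10329
theorem N6440 : nd 6440 = n10339 := ndS (p := 5247) (l := 7) rfl N5247 D10339
theorem N6441 : nd 6441 = n10340 := ndS (p := 5248) (l := 7) rfl N5248 D10340
theorem N6442 : nd 6442 = n10341 := ndS (p := 5248) (l := 8) rfl N5248 D10341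
theorem N6443 : nd 6443 = n10343 := ndS (p := 5250) (l := 8) rfl N5250 D10343
theorem N6444 : nd 6444 = n10344 := ndS (p := 5251) (l := 9) rfl N5251 D10344
theorem N6445 : nd 6445 = n10345 := ndS (p := 5252) (l := 8) rfl N5252 D10345
theorem N6446 : nd 6446 = n10346 := ndS (p := 5253) (l := 9) rfl N5253 D10346
theorem N6447 : nd 6447 = n10347 := ndS (p := 5255) (l := 3) rfl N5255 D10347
theorem N6448 : nd 6448 = n10348 := ndS (p := 5255) (l := 6) rfl N5255 D10348
theorem N6449 : nd 6449 = n10349 := ndS (p := 5256) (l := 7) rfl N5256 D10349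
theorem N6450 : nd 6450 = n10350 := ndS (p := 5257) (l := 2) rfl N5257 D10350
theorem N6451 : nd 6451 = n10351 := ndS (p := 5257) (l := 6) rfl N5257 D10351
theorem N6452 : nd 6452 = n10352 := ndS (p := 5258) (l := 5) rfl N5258 D10352
theorem N6453 : nd 6453 = n10353 := ndS (p := 5258) (l := 7) rfl N5258 D10353
theorem N6454 : nd 6454 = n10356 := ndS (p := 5261) (l := 5) rfl N5261 D10356
theorem N6455 : nd 6455 = n10357 := ndS (p := 5261) (l := 7) rfl N5261 D10357
theorem N6456 : nd 6456 = n10362 := ndS (p := 5263) (l := 7) rfl N5263 D10362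
theorem N6457 : nd 6457 = n10365 := ndS (p := 5265) (l := 6) rfl N5265 D10365
theorem N6458 : nd 6458 = n10366 := ndS (p := 5266) (l := 5) rfl N5266 D10366
theorem N6459 : nd 6459 = n10367 := ndS (p := 5266) (l := 7) rfl N5266 D10367
theorem N6460 : nd 6460 = n10368 := ndS (p := 5267) (l := 7) rfl N5267 D10368
theorem N6461 : nd 6461 = n10369 := ndS (p := 5267) (l := 8) rfl N5267 D10369
theorem N6462 : nd 6462 = n10372 := ndS (p := 5269) (l := 5) rfl N5269 D10372
theorem N6463 : nd 6463 = n10374 := ndS (p := 5270) (l := 4) rfl N5270 D10374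
theorem N6464 : nd 6464 = n10375 := ndS (p := 5270) (l := 7) rfl N5270 D10375
theorem N6465 : nd 6465 = n10376 := ndS (p := 5272) (l := 6) rfl N5272 D10376
theorem N6466 : nd 6466 = n10392 := ndS (p := 5273) (l := 5) rfl N5273 D10392
theorem N6467 : nd 6467 = n10393 := ndS (p := 5274) (l := 4) rfl N5274 D10393
theorem N6468 : nd 6468 = n10394 := ndS (p := 5274) (l := 6) rfl N5274 D10394
theorem N6469 : nd 6469 = n10395 := ndS (p := 5275) (l := 4) rfl N5275 D10395
theorem N6470 : nd 6470 = n10396 := ndS (p := 5275) (l := 6) rfl N5275 D10396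
theorem N6471 : nd 6471 = n10398 := ndS (p := 5276) (l := 6) rfl N5276 D10398
theorem N6472 : nd 6472 = n10399 := ndS (p := 5277) (l := 7) rfl N5277 D10399
theorem N6473 : nd 6473 = n10401 := ndS (p := 5278) (l := 6) rfl N5278 D10401
theorem N6474 : nd 6474 = n10402 := ndS (p := 5279) (l := 7) rfl N5279 D10402
theorem N6475 : nd 6475 = n10406 := ndS (p := 5280) (l := 7) rfl N5280 D10406
theorem N6476 : nd 6476 = n10413 := ndS (p := 5283) (l := 4) rfl N5283 D10413
theorem N6477 : nd 6477 = n10414 := ndS (p := 5283) (l := 6) rfl N5283 D10414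
theorem N6478 : nd 6478 = n10416 := ndS (p := 5284) (l := 6) rfl N5284 D10416
theorem N6479 : nd 6479 = n10417 := ndS (p := 5285) (l := 7) rfl N5285 D10417
theorem N6480 : nd 6480 = n10419 := ndS (p := 5286) (l := 6) rfl N5286 D10419
theorem N6481 : nd 6481 = n10420 := ndS (p := 5287) (l := 7) rfl N5287 D10420
theorem N6482 : nd 6482 = n10423 := ndS (p := 5288) (l := 5) rfl N5288 D10423
theorem N6483 : nd 6483 = n10424 := ndS (p := 5288) (l := 7) rfl N5288 D10424
theorem N6484 : nd 6484 = n10428 := ndS (p := 5290) (l := 7) rfl N5290 D10428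
theorem N6485 : nd 6485 = n10443 := ndS (p := 5293) (l := 3) rfl N5293 D10443
theorem N6486 : nd 6486 = n10444 := ndS (p := 5293) (l := 6) rfl N5293 D10444
theorem N6487 : nd 6487 = n10445 := ndS (p := 5294) (l := 7) rfl N5294 D10445
theorem N6488 : nd 6488 = n10447 := ndS (p := 5295) (l := 6) rfl N5295 D10447
theorem N6489 : nd 6489 = n10448 := ndS (p := 5296) (l := 5) rfl N5296 D10448
theorem N6490 : nd 6490 = n10449 := ndS (p := 5296) (l := 7) rfl N5296 D10449
theorem N6491 : nd 6491 = n10450 := ndS (p := 5298) (l := 2) rfl N5298 D10450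
theorem N6492 : nd 6492 = n10451 := ndS (p := 5298) (l := 6) rfl N5298 D10451
theorem N6493 : nd 6493 = n10452 := ndS (p := 5299) (l := 5) rfl N5299 D10452
theorem N6494 : nd 6494 = n10453 := ndS (p := 5299) (l := 7) rfl N5299 D10453
theorem N6495 : nd 6495 = n10455 := ndS (p := 5301) (l := 6) rfl N5301 D10455
theorem N6496 : nd 6496 = n10456 := ndS (p := 5302) (l := 5) rfl N5302 D10456
theorem N6497 : nd 6497 = n10457 := ndS (p := 5302) (l := 7) rfl N5302 D10457
theorem N6498 : nd 6498 = n10458 := ndS (p := 5303) (l := 7) rfl N5303 D10458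
theorem N6499 : nd 6499 = n10459 := ndS (p := 5303) (l := 8) rfl N5303 D10459
theorem N6500 : nd 6500 = n10463 := ndS (p := 5305) (l := 7) rfl N5305 D10463
theorem N6501 : nd 6501 = n10464 := ndS (p := 5306) (l := 7) rfl N5306 D10464
theorem N6502 : nd 6502 = n10474 := ndS (p := 5309) (l := 8) rfl N5309 D10474
theorem N6503 : nd 6503 = n10475 := ndS (p := 5310) (l := 9) rfl N5310 D10475
theorem N6504 : nd 6504 = n10482 := ndS (p := 5311) (l := 9) rfl N5311 D10482
theorem N6505 : nd 6505 = n10485 := ndS (p := 5314) (l := 5) rfl N5314 D10485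
theorem N6506 : nd 6506 = n10486 := ndS (p := 5314) (l := 7) rfl N5314 D10486
theorem N6507 : nd 6507 = n10491 := ndS (p := 5316) (l := 7) rfl N5316 D10491
theorem N6508 : nd 6508 = n10494 := ndS (p := 5318) (l := 6) rfl N5318 D10494
theorem N6509 : nd 6509 = n10495 := ndS (p := 5319) (l := 5) rfl N5319 D10495
theorem N6510 : nd 6510 = n10496 := ndS (p := 5319) (l := 7) rfl N5319 D10496
theorem N6511 : nd 6511 = n10497 := ndS (p := 5320) (l := 7) rfl N5320 D10497
theorem N6512 : nd 6512 = n10498 := ndS (p := 5320) (l := 8) rfl N5320 D10498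
theorem N6513 : nd 6513 = n10501 := ndS (p := 5322) (l := 5) rfl N5322 D10501
theorem N6514 : nd 6514 = n10502 := ndS (p := 5322) (l := 7) rfl N5322 D10502
theorem N6515 : nd 6515 = n10503 := ndS (p := 5323) (l := 4) rfl N5323 D10503
theorem N6516 : nd 6516 = n10504 := ndS (p := 5323) (l := 7) rfl N5323 D10504
theorem N6517 : nd 6517 = n10505 := ndS (p := 5323) (l := 8) rfl N5323 D10505
theorem N6518 : nd 6518 = n10506 := ndS (p := 5325) (l := 6) rfl N5325 D10506
theorem N6519 : nd 6519 = n10507 := ndS (p := 5325) (l := 8) rfl N5325 D10507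
theorem N6520 : nd 6520 = n10508 := ndS (p := 5326) (l := 9) rfl N5326 D10508
theorem N6521 : nd 6521 = n10525 := ndS (p := 5328) (l := 8) rfl N5328 D10525
theorem N6522 : nd 6522 = n10526 := ndS (p := 5329) (l := 9) rfl N5329 D10526
theorem N6523 : nd 6523 = n10528 := ndS (p := 5330) (l := 9) rfl N5330 D10528
theorem N6524 : nd 6524 = n10529 := ndS (p := 5332) (l := 5) rfl N5332 D10529
theorem N6525 : nd 6525 = n10530 := ndS (p := 5332) (l := 9) rfl N5332 D10530
theorem N6526 : nd 6526 = n10539 := ndS (p := 5335) (l := 5) rfl N5335 D10539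
theorem N6527 : nd 6527 = n10541 := ndS (p := 5336) (l := 4) rfl N5336 D10541
theorem N6528 : nd 6528 = n10542 := ndS (p := 5336) (l := 7) rfl N5336 D10542
theorem N6529 : nd 6529 = n10543 := ndS (p := 5336) (l := 8) rfl N5336 D10543
theorem N6530 : nd 6530 = n10544 := ndS (p := 5338) (l := 8) rfl N5338 D10544
theorem N6531 : nd 6531 = n10548 := ndS (p := 5340) (l := 4) rfl N5340 D10548
theorem N6532 : nd 6532 = n10550 := ndS (p := 5341) (l := 7) rfl N5341 D10550
theorem N6533 : nd 6533 = n10587 := ndS (p := 5349) (l := 6) rfl N5349 D10587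
theorem N6534 : nd 6534 = n10588 := ndS (p := 5350) (l := 7) rfl N5350 D10588
theorem N6535 : nd 6535 = n10614 := ndS (p := 5352) (l := 3) rfl N5352 D10614
theorem N6536 : nd 6536 = n10615 := ndS (p := 5352) (l := 6) rfl N5352 D10615
theorem N6537 : nd 6537 = n10616 := ndS (p := 5353) (l := 7) rfl N5353 D10616
theorem N6538 : nd 6538 = n10617 := ndS (p := 5354) (l := 3) rfl N5354 D10617
theorem N6539 : nd 6539 = n10618 := ndS (p := 5354) (l := 6) rfl N5354 D10618
theorem N6540 : nd 6540 = n10619 := ndS (p := 5355) (l := 7) rfl N5355 D10619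
theorem N6541 : nd 6541 = n10620 := ndS (p := 5356) (l := 2) rfl N5356 D10620
theorem N6542 : nd 6542 = n10621 := ndS (p := 5356) (l := 6) rfl N5356 D10621
theorem N6543 : nd 6543 = n10622 := ndS (p := 5357) (l := 5) rfl N5357 D10622
theorem N6544 : nd 6544 = n10623 := ndS (p := 5357) (l := 7) rfl N5357 D10623
theorem N6545 : nd 6545 = n10624 := ndS (p := 5359) (l := 6) rfl N5359 D10624
theorem N6546 : nd 6546 = n10659 := ndS (p := 5364) (l := 3) rfl N5364 D10659
theorem N6547 : nd 6547 = n10660 := ndS (p := 5364) (l := 6) rfl N5364 D10660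
theorem N6548 : nd 6548 = n10661 := ndS (p := 5365) (l := 7) rfl N5365 D10661
theorem N6549 : nd 6549 = n10665 := ndS (p := 5366) (l := 7) rfl N5366 D10665
theorem N6550 : nd 6550 = n10667 := ndS (p := 5368) (l := 6) rfl N5368 D10667
theorem N6551 : nd 6551 = n10668 := ndS (p := 5369) (l := 5) rfl N5369 D10668
theorem N6552 : nd 6552 = n10669 := ndS (p := 5369) (l := 7) rfl N5369 D10669
theorem N6553 : nd 6553 = n10670 := ndS (p := 5370) (l := 7) rfl N5370 D10670
theorem N6554 : nd 6554 = n10671 := ndS (p := 5370) (l := 8) rfl N5370 D10671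
theorem N6555 : nd 6555 = n10685 := ndS (p := 5375) (l := 4) rfl N5375 D10685
theorem N6556 : nd 6556 = n10687 := ndS (p := 5375) (l := 8) rfl N5375 D10687
theorem N6557 : nd 6557 = n10690 := ndS (p := 5376) (l := 9) rfl N5376 D10690
theorem N6558 : nd 6558 = n10708 := ndS (p := 5377) (l := 9) rfl N5377 D10708
theorem N6559 : nd 6559 = n11375 := ndS (p := 5381) (l := 6) rfl N5381 D11375
theorem N6560 : nd 6560 = n11376 := ndS (p := 5382) (l := 7) rfl N5382 D11376
theorem N6561 : nd 6561 = n11377 := ndS (p := 5383) (l := 3) rfl N5383 D11377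
theorem N6562 : nd 6562 = n11378 := ndS (p := 5383) (l := 6) rfl N5383 D11378
theorem N6563 : nd 6563 = n11379 := ndS (p := 5384) (l := 7) rfl N5384 D11379
theorem N6564 : nd 6564 = n11381 := ndS (p := 5387) (l := 5) rfl N5387 D11381
theorem N6565 : nd 6565 = n11382 := ndS (p := 5388) (l := 4) rfl N5388 D11382
theorem N6566 : nd 6566 = n11383 := ndS (p := 5388) (l := 6) rfl N5388 D11383
theorem N6567 : nd 6567 = n11384 := ndS (p := 5389) (l := 3) rfl N5389 D11384
theorem N6568 : nd 6568 = n11385 := ndS (p := 5389) (l := 6) rfl N5389 D11385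
theorem N6569 : nd 6569 = n11386 := ndS (p := 5390) (l := 7) rfl N5390 D11386
theorem N6570 : nd 6570 = n11387 := ndS (p := 5391) (l := 5) rfl N5391 D11387
theorem N6571 : nd 6571 = n11388 := ndS (p := 5391) (l := 7) rfl N5391 D11388
theorem N6572 : nd 6572 = n11389 := ndS (p := 5393) (l := 4) rfl N5393 D11389
theorem N6573 : nd 6573 = n11390 := ndS (p := 5393) (l := 6) rfl N5393 D11390
theorem N6574 : nd 6574 = n11391 := ndS (p := 5394) (l := 3) rfl N5394 D11391
theorem N6575 : nd 6575 = n11392 := ndS (p := 5394) (l := 6) rfl N5394 D11392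
theorem N6576 : nd 6576 = n11393 := ndS (p := 5395) (l := 7) rfl N5395 D11393
theorem N6577 : nd 6577 = n11394 := ndS (p := 5396) (l := 6) rfl N5396 D11394
theorem N6578 : nd 6578 = n11395 := ndS (p := 5397) (l := 5) rfl N5397 D11395
theorem N6579 : nd 6579 = n11396 := ndS (p := 5397) (l := 7) rfl N5397 D11396
theorem N6580 : nd 6580 = n11397 := ndS (p := 5399) (l := 7) rfl N5399 D11397
theorem N6581 : nd 6581 = n11398 := ndS (p := 5399) (l := 8) rfl N5399 D11398
theorem N6582 : nd 6582 = n11399 := ndS (p := 5401) (l := 4) rfl N5401 D11399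
theorem N6583 : nd 6583 = n11400 := ndS (p := 5401) (l := 6) rfl N5401 D11400
theorem N6584 : nd 6584 = n11401 := ndS (p := 5402) (l := 6) rfl N5402 D11401
theorem N6585 : nd 6585 = n11403 := ndS (p := 5404) (l := 2) rfl N5404 D11403
theorem N6586 : nd 6586 = n11404 := ndS (p := 5405) (l := 5) rfl N5405 D11404
theorem N6587 : nd 6587 = n11405 := ndS (p := 5406) (l := 4) rfl N5406 D11405
theorem N6588 : nd 6588 = n11406 := ndS (p := 5406) (l := 6) rfl N5406 D11406
theorem N6589 : nd 6589 = n11407 := ndS (p := 5407) (l := 5) rfl N5407 D11407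
theorem N6590 : nd 6590 = n11408 := ndS (p := 5408) (l := 4) rfl N5408 D11408
theorem N6591 : nd 6591 = n11409 := ndS (p := 5408) (l := 6) rfl N5408 D11409
theorem N6592 : nd 6592 = n11410 := ndS (p := 5409) (l := 3) rfl N5409 D11410
theorem N6593 : nd 6593 = n11411 := ndS (p := 5409) (l := 6) rfl N5409 D11411
theorem N6594 : nd 6594 = n11412 := ndS (p := 5410) (l := 7) rfl N5410 D11412
theorem N6595 : nd 6595 = n11413 := ndS (p := 5411) (l := 4) rfl N5411 D11413
theorem N6596 : nd 6596 = n11414 := ndS (p := 5411) (l := 6) rfl N5411 D11414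
theorem N6597 : nd 6597 = n11415 := ndS (p := 5412) (l := 3) rfl N5412 D11415
theorem N6598 : nd 6598 = n11416 := ndS (p := 5412) (l := 6) rfl N5412 D11416
theorem N6599 : nd 6599 = n11417 := ndS (p := 5413) (l := 7) rfl N5413 D11417
theorem N6600 : nd 6600 = n11418 := ndS (p := 5414) (l := 5) rfl N5414 D11418
theorem N6601 : nd 6601 = n11419 := ndS (p := 5414) (l := 7) rfl N5414 D11419
theorem N6602 : nd 6602 = n11420 := ndS (p := 5416) (l := 4) rfl N5416 D11420
theorem N6603 : nd 6603 = n11421 := ndS (p := 5416) (l := 6) rfl N5416 D11421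
theorem N6604 : nd 6604 = n11422 := ndS (p := 5417) (l := 3) rfl N5417 D11422
theorem N6605 : nd 6605 = n11423 := ndS (p := 5417) (l := 6) rfl N5417 D11423
theorem N6606 : nd 6606 = n11424 := ndS (p := 5418) (l := 7) rfl N5418 D11424
theorem N6607 : nd 6607 = n11425 := ndS (p := 5419) (l := 3) rfl N5419 D11425
theorem N6608 : nd 6608 = n11426 := ndS (p := 5419) (l := 6) rfl N5419 D11426
theorem N6609 : nd 6609 = n11427 := ndS (p := 5420) (l := 7) rfl N5420 D11427
theorem N6610 : nd 6610 = n11428 := ndS (p := 5421) (l := 2) rfl N5421 D11428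
theorem N6611 : nd 6611 = n11429 := ndS (p := 5421) (l := 6) rfl N5421 D11429
theorem N6612 : nd 6612 = n11430 := ndS (p := 5422) (l := 7) rfl N5422 D11430
theorem N6613 : nd 6613 = n11431 := ndS (p := 5424) (l := 2) rfl N5424 D11431
theorem N6614 : nd 6614 = n11433 := ndS (p := 5425) (l := 5) rfl N5425 D11433
theorem N6615 : nd 6615 = n11434 := ndS (p := 5426) (l := 1) rfl N5426 D11434
theorem N6616 : nd 6616 = n11435 := ndS (p := 5427) (l := 8) rfl N5427 D11435
theorem N6617 : nd 6617 = n11436 := ndS (p := 5428) (l := 5) rfl N5428 D11436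
theorem N6618 : nd 6618 = n11437 := ndS (p := 5429) (l := 4) rfl N5429 D11437
theorem N6619 : nd 6619 = n11438 := ndS (p := 5429) (l := 6) rfl N5429 D11438
theorem N6620 : nd 6620 = n11439 := ndS (p := 5430) (l := 5) rfl N5430 D11439
theorem N6621 : nd 6621 = n11440 := ndS (p := 5431) (l := 4) rfl N5431 D11440
theorem N6622 : nd 6622 = n11441 := ndS (p := 5431) (l := 6) rfl N5431 D11441
theorem N6623 : nd 6623 = n11442 := ndS (p := 5432) (l := 3) rfl N5432 D11442
theorem N6624 : nd 6624 = n11443 := ndS (p := 5432) (l := 6) rfl N5432 D11443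
theorem N6625 : nd 6625 = n11444 := ndS (p := 5433) (l := 7) rfl N5433 D11444
theorem N6626 : nd 6626 = n11445 := ndS (p := 5434) (l := 8) rfl N5434 D11445
theorem N6627 : nd 6627 = n11446 := ndS (p := 5435) (l := 5) rfl N5435 D11446
theorem N6628 : nd 6628 = n11447 := ndS (p := 5436) (l := 4) rfl N5436 D11447
theorem N6629 : nd 6629 = n11448 := ndS (p := 5436) (l := 6) rfl N5436 D11448
theorem N6630 : nd 6630 = n11449 := ndS (p := 5437) (l := 3) rfl N5437 D11449
theorem N6631 : nd 6631 = n11450 := ndS (p := 5437) (l := 6) rfl N5437 D11450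
theorem N6632 : nd 6632 = n11451 := ndS (p := 5438) (l := 7) rfl N5438 D11451
theorem N6633 : nd 6633 = n11452 := ndS (p := 5439) (l := 6) rfl N5439 D11452
theorem N6634 : nd 6634 = n11453 := ndS (p := 5440) (l := 5) rfl N5440 D11453
theorem N6635 : nd 6635 = n11454 := ndS (p := 5440) (l := 7) rfl N5440 D11454
theorem N6636 : nd 6636 = n11455 := ndS (p := 5442) (l := 4) rfl N5442 D11455
theorem N6637 : nd 6637 = n11456 := ndS (p := 5442) (l := 6) rfl N5442 D11456
theorem N6638 : nd 6638 = n11457 := ndS (p := 5443) (l := 3) rfl N5443 D11457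
theorem N6639 : nd 6639 = n11458 := ndS (p := 5443) (l := 6) rfl N5443 D11458
theorem N6640 : nd 6640 = n11459 := ndS (p := 5444) (l := 7) rfl N5444 D11459
theorem N6641 : nd 6641 = n11460 := ndS (p := 5445) (l := 2) rfl N5445 D11460
theorem N6642 : nd 6642 = n11461 := ndS (p := 5445) (l := 6) rfl N5445 D11461
theorem N6643 : nd 6643 = n11462 := ndS (p := 5446) (l := 5) rfl N5446 D11462
theorem N6644 : nd 6644 = n11463 := ndS (p := 5446) (l := 7) rfl N5446 D11463
theorem N6645 : nd 6645 = n11464 := ndS (p := 5448) (l := 7) rfl N5448 D11464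
theorem N6646 : nd 6646 = n11465 := ndS (p := 5448) (l := 8) rfl N5448 D11465
theorem N6647 : nd 6647 = n11466 := ndS (p := 5450) (l := 2) rfl N5450 D11466
theorem N6648 : nd 6648 = n11467 := ndS (p := 5450) (l := 6) rfl N5450 D11467
theorem N6649 : nd 6649 = n11468 := ndS (p := 5451) (l := 5) rfl N5451 D11468
theorem N6650 : nd 6650 = n11469 := ndS (p := 5451) (l := 7) rfl N5451 D11469
theorem N6651 : nd 6651 = n11471 := ndS (p := 5453) (l := 6) rfl N5453 D11471
theorem N6652 : nd 6652 = n11472 := ndS (p := 5454) (l := 7) rfl N5454 D11472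
theorem N6653 : nd 6653 = n11474 := ndS (p := 5456) (l := 4) rfl N5456 D11474
theorem N6654 : nd 6654 = n11475 := ndS (p := 5456) (l := 6) rfl N5456 D11475
theorem N6655 : nd 6655 = n11476 := ndS (p := 5457) (l := 3) rfl N5457 D11476
theorem N6656 : nd 6656 = n11477 := ndS (p := 5457) (l := 6) rfl N5457 D11477
theorem N6657 : nd 6657 = n11478 := ndS (p := 5458) (l := 7) rfl N5458 D11478
theorem N6658 : nd 6658 = n11479 := ndS (p := 5459) (l := 3) rfl N5459 D11479
theorem N6659 : nd 6659 = n11480 := ndS (p := 5459) (l := 6) rfl N5459 D11480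
theorem N6660 : nd 6660 = n11481 := ndS (p := 5460) (l := 7) rfl N5460 D11481
theorem N6661 : nd 6661 = n11482 := ndS (p := 5461) (l := 2) rfl N5461 D11482
theorem N6662 : nd 6662 = n11483 := ndS (p := 5461) (l := 6) rfl N5461 D11483
theorem N6663 : nd 6663 = n11484 := ndS (p := 5462) (l := 5) rfl N5462 D11484
theorem N6664 : nd 6664 = n11485 := ndS (p := 5462) (l := 7) rfl N5462 D11485
theorem N6665 : nd 6665 = n11486 := ndS (p := 5464) (l := 2) rfl N5464 D11486
theorem N6666 : nd 6666 = n11487 := ndS (p := 5464) (l := 6) rfl N5464 D11487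
theorem N6667 : nd 6667 = n11488 := ndS (p := 5465) (l := 5) rfl N5465 D11488
theorem N6668 : nd 6668 = n11489 := ndS (p := 5465) (l := 7) rfl N5465 D11489
theorem N6669 : nd 6669 = n11490 := ndS (p := 5467) (l := 5) rfl N5467 D11490
theorem N6670 : nd 6670 = n11491 := ndS (p := 5467) (l := 7) rfl N5467 D11491
theorem N6671 : nd 6671 = n11492 := ndS (p := 5468) (l := 7) rfl N5468 D11492
theorem N6672 : nd 6672 = n11493 := ndS (p := 5468) (l := 8) rfl N5468 D11493
theorem N6673 : nd 6673 = n11495 := ndS (p := 5470) (l := 6) rfl N5470 D11495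
theorem N6674 : nd 6674 = n11496 := ndS (p := 5471) (l := 5) rfl N5471 D11496
theorem N6675 : nd 6675 = n11497 := ndS (p := 5471) (l := 7) rfl N5471 D11497
theorem N6676 : nd 6676 = n11498 := ndS (p := 5472) (l := 7) rfl N5472 D11498
theorem N6677 : nd 6677 = n11499 := ndS (p := 5472) (l := 8) rfl N5472 D11499
theorem N6678 : nd 6678 = n11500 := ndS (p := 5474) (l := 6) rfl N5474 D11500
theorem N6679 : nd 6679 = n11501 := ndS (p := 5474) (l := 8) rfl N5474 D11501
theorem N6680 : nd 6680 = n11502 := ndS (p := 5475) (l := 9) rfl N5475 D11502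
theorem N6681 : nd 6681 = n11505 := ndS (p := 5476) (l := 7) rfl N5476 D11505
theorem N6682 : nd 6682 = n11506 := ndS (p := 5478) (l := 8) rfl N5478 D11506
theorem N6683 : nd 6683 = n11507 := ndS (p := 5479) (l := 5) rfl N5479 D11507
theorem N6684 : nd 6684 = n11508 := ndS (p := 5480) (l := 4) rfl N5480 D11508
theorem N6685 : nd 6685 = n11509 := ndS (p := 5480) (l := 6) rfl N5480 D11509
theorem N6686 : nd 6686 = n11510 := ndS (p := 5481) (l := 8) rfl N5481 D11510
theorem N6687 : nd 6687 = n11511 := ndS (p := 5482) (l := 5) rfl N5482 D11511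
theorem N6688 : nd 6688 = n11512 := ndS (p := 5483) (l := 4) rfl N5483 D11512
theorem N6689 : nd 6689 = n11513 := ndS (p := 5483) (l := 6) rfl N5483 D11513
theorem N6690 : nd 6690 = n11514 := ndS (p := 5484) (l := 3) rfl N5484 D11514
theorem N6691 : nd 6691 = n11515 := ndS (p := 5484) (l := 6) rfl N5484 D11515
theorem N6692 : nd 6692 = n11516 := ndS (p := 5485) (l := 7) rfl N5485 D11516
theorem N6693 : nd 6693 = n11517 := ndS (p := 5486) (l := 8) rfl N5486 D11517
theorem N6694 : nd 6694 = n11518 := ndS (p := 5487) (l := 8) rfl N5487 D11518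
theorem N6695 : nd 6695 = n11519 := ndS (p := 5488) (l := 8) rfl N5488 D11519
theorem N6696 : nd 6696 = n11520 := ndS (p := 5489) (l := 5) rfl N5489 D11520
theorem N6697 : nd 6697 = n11521 := ndS (p := 5490) (l := 8) rfl N5490 D11521
theorem N6698 : nd 6698 = n11522 := ndS (p := 5491) (l := 8) rfl N5491 D11522
theorem N6699 : nd 6699 = n11523 := ndS (p := 5492) (l := 5) rfl N5492 D11523
theorem N6700 : nd 6700 = n11524 := ndS (p := 5493) (l := 5) rfl N5493 D11524
theorem N6701 : nd 6701 = n11525 := ndS (p := 5494) (l := 4) rfl N5494 D11525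
theorem N6702 : nd 6702 = n11526 := ndS (p := 5494) (l := 6) rfl N5494 D11526
theorem N6703 : nd 6703 = n11527 := ndS (p := 5495) (l := 4) rfl N5495 D11527
theorem N6704 : nd 6704 = n11528 := ndS (p := 5495) (l := 6) rfl N5495 D11528
theorem N6705 : nd 6705 = n11529 := ndS (p := 5496) (l := 3) rfl N5496 D11529
theorem N6706 : nd 6706 = n11530 := ndS (p := 5496) (l := 6) rfl N5496 D11530
theorem N6707 : nd 6707 = n11531 := ndS (p := 5497) (l := 7) rfl N5497 D11531
theorem N6708 : nd 6708 = n11532 := ndS (p := 5498) (l := 6) rfl N5498 D11532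
theorem N6709 : nd 6709 = n11533 := ndS (p := 5499) (l := 5) rfl N5499 D11533
theorem N6710 : nd 6710 = n11534 := ndS (p := 5499) (l := 7) rfl N5499 D11534
theorem N6711 : nd 6711 = n11535 := ndS (p := 5501) (l := 5) rfl N5501 D11535
theorem N6712 : nd 6712 = n11536 := ndS (p := 5502) (l := 5) rfl N5502 D11536
theorem N6713 : nd 6713 = n11537 := ndS (p := 5503) (l := 4) rfl N5503 D11537
theorem N6714 : nd 6714 = n11538 := ndS (p := 5503) (l := 6) rfl N5503 D11538
theorem N6715 : nd 6715 = n11539 := ndS (p := 5504) (l := 5) rfl N5504 D11539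
theorem N6716 : nd 6716 = n11540 := ndS (p := 5505) (l := 5) rfl N5505 D11540
theorem N6717 : nd 6717 = n11541 := ndS (p := 5506) (l := 4) rfl N5506 D11541
theorem N6718 : nd 6718 = n11542 := ndS (p := 5506) (l := 6) rfl N5506 D11542
theorem N6719 : nd 6719 = n11543 := ndS (p := 5507) (l := 4) rfl N5507 D11543
theorem N6720 : nd 6720 = n11544 := ndS (p := 5507) (l := 6) rfl N5507 D11544
theorem N6721 : nd 6721 = n11545 := ndS (p := 5508) (l := 3) rfl N5508 D11545
theorem N6722 : nd 6722 = n11546 := ndS (p := 5508) (l := 6) rfl N5508 D11546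
theorem N6723 : nd 6723 = n11547 := ndS (p := 5509) (l := 7) rfl N5509 D11547
theorem N6724 : nd 6724 = n11548 := ndS (p := 5510) (l := 3) rfl N5510 D11548
theorem N6725 : nd 6725 = n11549 := ndS (p := 5510) (l := 6) rfl N5510 D11549
theorem N6726 : nd 6726 = n11550 := ndS (p := 5511) (l := 7) rfl N5511 D11550
theorem N6727 : nd 6727 = n11551 := ndS (p := 5512) (l := 2) rfl N5512 D11551
theorem N6728 : nd 6728 = n11552 := ndS (p := 5512) (l := 6) rfl N5512 D11552
theorem N6729 : nd 6729 = n11553 := ndS (p := 5513) (l := 5) rfl N5513 D11553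
theorem N6730 : nd 6730 = n11554 := ndS (p := 5513) (l := 7) rfl N5513 D11554
theorem N6731 : nd 6731 = n11555 := ndS (p := 5515) (l := 7) rfl N5515 D11555
theorem N6732 : nd 6732 = n11556 := ndS (p := 5515) (l := 8) rfl N5515 D11556
theorem N6733 : nd 6733 = n11557 := ndS (p := 5517) (l := 4) rfl N5517 D11557
theorem N6734 : nd 6734 = n11558 := ndS (p := 5517) (l := 6) rfl N5517 D11558
theorem N6735 : nd 6735 = n11559 := ndS (p := 5518) (l := 4) rfl N5518 D11559
theorem N6736 : nd 6736 = n11560 := ndS (p := 5518) (l := 6) rfl N5518 D11560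
theorem N6737 : nd 6737 = n11561 := ndS (p := 5519) (l := 3) rfl N5519 D11561
theorem N6738 : nd 6738 = n11562 := ndS (p := 5519) (l := 6) rfl N5519 D11562
theorem N6739 : nd 6739 = n11563 := ndS (p := 5520) (l := 7) rfl N5520 D11563
theorem N6740 : nd 6740 = n11564 := ndS (p := 5521) (l := 3) rfl N5521 D11564
theorem N6741 : nd 6741 = n11565 := ndS (p := 5521) (l := 6) rfl N5521 D11565
theorem N6742 : nd 6742 = n11566 := ndS (p := 5522) (l := 7) rfl N5522 D11566
theorem N6743 : nd 6743 = n11567 := ndS (p := 5523) (l := 2) rfl N5523 D11567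
theorem N6744 : nd 6744 = n11568 := ndS (p := 5523) (l := 6) rfl N5523 D11568
theorem N6745 : nd 6745 = n11569 := ndS (p := 5524) (l := 5) rfl N5524 D11569
theorem N6746 : nd 6746 = n11570 := ndS (p := 5524) (l := 7) rfl N5524 D11570
theorem N6747 : nd 6747 = n11571 := ndS (p := 5526) (l := 2) rfl N5526 D11571
theorem N6748 : nd 6748 = n11572 := ndS (p := 5526) (l := 6) rfl N5526 D11572
theorem N6749 : nd 6749 = n11573 := ndS (p := 5527) (l := 5) rfl N5527 D11573
theorem N6750 : nd 6750 = n11574 := ndS (p := 5527) (l := 7) rfl N5527 D11574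
theorem N6751 : nd 6751 = n11575 := ndS (p := 5529) (l := 1) rfl N5529 D11575
theorem N6752 : nd 6752 = n11576 := ndS (p := 5529) (l := 6) rfl N5529 D11576
theorem N6753 : nd 6753 = n11577 := ndS (p := 5530) (l := 7) rfl N5530 D11577
theorem N6754 : nd 6754 = n11578 := ndS (p := 5532) (l := 1) rfl N5532 D11578
theorem N6755 : nd 6755 = n11579 := ndS (p := 5532) (l := 6) rfl N5532 D11579
theorem N6756 : nd 6756 = n11580 := ndS (p := 5533) (l := 5) rfl N5533 D11580
theorem N6757 : nd 6757 = n11581 := ndS (p := 5534) (l := 8) rfl N5534 D11581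
theorem N6758 : nd 6758 = n11582 := ndS (p := 5535) (l := 0) rfl N5535 D11582
theorem N6759 : nd 6759 = n11583 := ndS (p := 5536) (l := 8) rfl N5536 D11583
theorem N6760 : nd 6760 = n11584 := ndS (p := 5537) (l := 8) rfl N5537 D11584
theorem N6761 : nd 6761 = n11585 := ndS (p := 5538) (l := 8) rfl N5538 D11585
theorem N6762 : nd 6762 = n11586 := ndS (p := 5539) (l := 5) rfl N5539 D11586
theorem N6763 : nd 6763 = n11587 := ndS (p := 5540) (l := 5) rfl N5540 D11587
theorem N6764 : nd 6764 = n11588 := ndS (p := 5541) (l := 4) rfl N5541 D11588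
theorem N6765 : nd 6765 = n11589 := ndS (p := 5541) (l := 6) rfl N5541 D11589
theorem N6766 : nd 6766 = n11590 := ndS (p := 5542) (l := 3) rfl N5542 D11590
theorem N6767 : nd 6767 = n11591 := ndS (p := 5542) (l := 6) rfl N5542 D11591
theorem N6768 : nd 6768 = n11592 := ndS (p := 5543) (l := 7) rfl N5543 D11592
theorem N6769 : nd 6769 = n11593 := ndS (p := 5544) (l := 8) rfl N5544 D11593
theorem N6770 : nd 6770 = n11594 := ndS (p := 5545) (l := 5) rfl N5545 D11594
theorem N6771 : nd 6771 = n11595 := ndS (p := 5546) (l := 8) rfl N5546 D11595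
theorem N6772 : nd 6772 = n11596 := ndS (p := 5547) (l := 5) rfl N5547 D11596
theorem N6773 : nd 6773 = n11597 := ndS (p := 5548) (l := 5) rfl N5548 D11597
theorem N6774 : nd 6774 = n11598 := ndS (p := 5549) (l := 4) rfl N5549 D11598
theorem N6775 : nd 6775 = n11599 := ndS (p := 5549) (l := 6) rfl N5549 D11599
theorem N6776 : nd 6776 = n11600 := ndS (p := 5550) (l := 4) rfl N5550 D11600
theorem N6777 : nd 6777 = n11601 := ndS (p := 5550) (l := 6) rfl N5550 D11601
theorem N6778 : nd 6778 = n11602 := ndS (p := 5551) (l := 3) rfl N5551 D11602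
theorem N6779 : nd 6779 = n11603 := ndS (p := 5551) (l := 6) rfl N5551 D11603
theorem N6780 : nd 6780 = n11604 := ndS (p := 5552) (l := 7) rfl N5552 D11604
theorem N6781 : nd 6781 = n11605 := ndS (p := 5553) (l := 2) rfl N5553 D11605
theorem N6782 : nd 6782 = n11606 := ndS (p := 5553) (l := 6) rfl N5553 D11606
theorem N6783 : nd 6783 = n11607 := ndS (p := 5554) (l := 5) rfl N5554 D11607
theorem N6784 : nd 6784 = n11608 := ndS (p := 5554) (l := 7) rfl N5554 D11608
theorem N6785 : nd 6785 = n11609 := ndS (p := 5556) (l := 5) rfl N5556 D11609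
theorem N6786 : nd 6786 = n11610 := ndS (p := 5557) (l := 5) rfl N5557 D11610
theorem N6787 : nd 6787 = n11611 := ndS (p := 5558) (l := 5) rfl N5558 D11611
theorem N6788 : nd 6788 = n11612 := ndS (p := 5559) (l := 4) rfl N5559 D11612
theorem N6789 : nd 6789 = n11613 := ndS (p := 5559) (l := 6) rfl N5559 D11613
theorem N6790 : nd 6790 = n11614 := ndS (p := 5560) (l := 5) rfl N5560 D11614
theorem N6791 : nd 6791 = n11615 := ndS (p := 5561) (l := 4) rfl N5561 D11615
theorem N6792 : nd 6792 = n11616 := ndS (p := 5561) (l := 6) rfl N5561 D11616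
theorem N6793 : nd 6793 = n11617 := ndS (p := 5562) (l := 4) rfl N5562 D11617
theorem N6794 : nd 6794 = n11618 := ndS (p := 5562) (l := 6) rfl N5562 D11618
theorem N6795 : nd 6795 = n11619 := ndS (p := 5563) (l := 3) rfl N5563 D11619
theorem N6796 : nd 6796 = n11620 := ndS (p := 5563) (l := 6) rfl N5563 D11620
theorem N6797 : nd 6797 = n11621 := ndS (p := 5564) (l := 7) rfl N5564 D11621
theorem N6798 : nd 6798 = n11622 := ndS (p := 5565) (l := 3) rfl N5565 D11622
theorem N6799 : nd 6799 = n11623 := ndS (p := 5565) (l := 6) rfl N5565 D11623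
theorem N6800 : nd 6800 = n11624 := ndS (p := 5566) (l := 7) rfl N5566 D11624
theorem N6801 : nd 6801 = n11625 := ndS (p := 5567) (l := 2) rfl N5567 D11625
theorem N6802 : nd 6802 = n11626 := ndS (p := 5567) (l := 6) rfl N5567 D11626
theorem N6803 : nd 6803 = n11627 := ndS (p := 5568) (l := 5) rfl N5568 D11627
theorem N6804 : nd 6804 = n11628 := ndS (p := 5568) (l := 7) rfl N5568 D11628
theorem N6805 : nd 6805 = n11629 := ndS (p := 5570) (l := 5) rfl N5570 D11629
theorem N6806 : nd 6806 = n11630 := ndS (p := 5570) (l := 7) rfl N5570 D11630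
theorem N6807 : nd 6807 = n11631 := ndS (p := 5571) (l := 7) rfl N5571 D11631
theorem N6808 : nd 6808 = n11632 := ndS (p := 5571) (l := 8) rfl N5571 D11632
theorem N6809 : nd 6809 = n11633 := ndS (p := 5573) (l := 5) rfl N5573 D11633
theorem N6810 : nd 6810 = n11634 := ndS (p := 5574) (l := 4) rfl N5574 D11634
theorem N6811 : nd 6811 = n11635 := ndS (p := 5574) (l := 6) rfl N5574 D11635
theorem N6812 : nd 6812 = n11636 := ndS (p := 5575) (l := 4) rfl N5575 D11636
theorem N6813 : nd 6813 = n11637 := ndS (p := 5575) (l := 6) rfl N5575 D11637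
theorem N6814 : nd 6814 = n11638 := ndS (p := 5576) (l := 3) rfl N5576 D11638
theorem N6815 : nd 6815 = n11639 := ndS (p := 5576) (l := 6) rfl N5576 D11639
theorem N6816 : nd 6816 = n11640 := ndS (p := 5577) (l := 7) rfl N5577 D11640
theorem N6817 : nd 6817 = n11641 := ndS (p := 5578) (l := 4) rfl N5578 D11641
theorem N6818 : nd 6818 = n11642 := ndS (p := 5578) (l := 6) rfl N5578 D11642
theorem N6819 : nd 6819 = n11643 := ndS (p := 5579) (l := 3) rfl N5579 D11643
theorem N6820 : nd 6820 = n11644 := ndS (p := 5579) (l := 6) rfl N5579 D11644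
theorem N6821 : nd 6821 = n11645 := ndS (p := 5580) (l := 7) rfl N5580 D11645
theorem N6822 : nd 6822 = n11646 := ndS (p := 5581) (l := 3) rfl N5581 D11646
theorem N6823 : nd 6823 = n11647 := ndS (p := 5581) (l := 6) rfl N5581 D11647
theorem N6824 : nd 6824 = n11648 := ndS (p := 5582) (l := 7) rfl N5582 D11648
theorem N6825 : nd 6825 = n11649 := ndS (p := 5583) (l := 2) rfl N5583 D11649
theorem N6826 : nd 6826 = n11650 := ndS (p := 5583) (l := 6) rfl N5583 D11650
theorem N6827 : nd 6827 = n11651 := ndS (p := 5584) (l := 5) rfl N5584 D11651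
theorem N6828 : nd 6828 = n11652 := ndS (p := 5584) (l := 7) rfl N5584 D11652
theorem N6829 : nd 6829 = n11653 := ndS (p := 5586) (l := 2) rfl N5586 D11653
theorem N6830 : nd 6830 = n11654 := ndS (p := 5586) (l := 6) rfl N5586 D11654
theorem N6831 : nd 6831 = n11655 := ndS (p := 5587) (l := 5) rfl N5587 D11655
theorem N6832 : nd 6832 = n11656 := ndS (p := 5587) (l := 7) rfl N5587 D11656
theorem N6833 : nd 6833 = n11657 := ndS (p := 5589) (l := 1) rfl N5589 D11657
theorem N6834 : nd 6834 = n11658 := ndS (p := 5589) (l := 6) rfl N5589 D11658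
theorem N6835 : nd 6835 = n11659 := ndS (p := 5590) (l := 5) rfl N5590 D11659
theorem N6836 : nd 6836 = n11660 := ndS (p := 5590) (l := 7) rfl N5590 D11660
theorem N6837 : nd 6837 = n11661 := ndS (p := 5591) (l := 7) rfl N5591 D11661
theorem N6838 : nd 6838 = n11662 := ndS (p := 5591) (l := 8) rfl N5591 D11662
theorem N6839 : nd 6839 = n11663 := ndS (p := 5593) (l := 6) rfl N5593 D11663
theorem N6840 : nd 6840 = n11664 := ndS (p := 5593) (l := 8) rfl N5593 D11664
theorem N6841 : nd 6841 = n11665 := ndS (p := 5594) (l := 9) rfl N5594 D11665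
theorem N6842 : nd 6842 = n11666 := ndS (p := 5595) (l := 3) rfl N5595 D11666
theorem N6843 : nd 6843 = n11667 := ndS (p := 5595) (l := 6) rfl N5595 D11667
theorem N6844 : nd 6844 = n11668 := ndS (p := 5596) (l := 7) rfl N5596 D11668
theorem N6845 : nd 6845 = n11669 := ndS (p := 5597) (l := 2) rfl N5597 D11669
theorem N6846 : nd 6846 = n11670 := ndS (p := 5597) (l := 6) rfl N5597 D11670
theorem N6847 : nd 6847 = n11671 := ndS (p := 5598) (l := 5) rfl N5598 D11671
theorem N6848 : nd 6848 = n11672 := ndS (p := 5598) (l := 7) rfl N5598 D11672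
theorem N6849 : nd 6849 = n11673 := ndS (p := 5600) (l := 2) rfl N5600 D11673
theorem N6850 : nd 6850 = n11674 := ndS (p := 5600) (l := 6) rfl N5600 D11674
theorem N6851 : nd 6851 = n11675 := ndS (p := 5601) (l := 5) rfl N5601 D11675
theorem N6852 : nd 6852 = n11676 := ndS (p := 5601) (l := 7) rfl N5601 D11676
theorem N6853 : nd 6853 = n11677 := ndS (p := 5603) (l := 1) rfl N5603 D11677
theorem N6854 : nd 6854 = n11678 := ndS (p := 5603) (l := 6) rfl N5603 D11678
theorem N6855 : nd 6855 = n11679 := ndS (p := 5604) (l := 5) rfl N5604 D11679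
theorem N6856 : nd 6856 = n11680 := ndS (p := 5604) (l := 7) rfl N5604 D11680
theorem N6857 : nd 6857 = n11681 := ndS (p := 5605) (l := 7) rfl N5605 D11681
theorem N6858 : nd 6858 = n11682 := ndS (p := 5607) (l := 1) rfl N5607 D11682
theorem N6859 : nd 6859 = n11683 := ndS (p := 5607) (l := 6) rfl N5607 D11683
theorem N6860 : nd 6860 = n11685 := ndS (p := 5608) (l := 7) rfl N5608 D11685
theorem N6861 : nd 6861 = n11686 := ndS (p := 5609) (l := 7) rfl N5609 D11686
theorem N6862 : nd 6862 = n11687 := ndS (p := 5609) (l := 8) rfl N5609 D11687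
theorem N6863 : nd 6863 = n11688 := ndS (p := 5611) (l := 0) rfl N5611 D11688
theorem N6864 : nd 6864 = n11689 := ndS (p := 5611) (l := 6) rfl N5611 D11689
theorem N6865 : nd 6865 = n11690 := ndS (p := 5612) (l := 7) rfl N5612 D11690
theorem N6866 : nd 6866 = n11696 := ndS (p := 5617) (l := 5) rfl N5617 D11696
theorem N6867 : nd 6867 = n11697 := ndS (p := 5618) (l := 4) rfl N5618 D11697
theorem N6868 : nd 6868 = n11698 := ndS (p := 5618) (l := 6) rfl N5618 D11698
theorem N6869 : nd 6869 = n11699 := ndS (p := 5619) (l := 4) rfl N5619 D11699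
theorem N6870 : nd 6870 = n11700 := ndS (p := 5619) (l := 6) rfl N5619 D11700
theorem N6871 : nd 6871 = n11701 := ndS (p := 5620) (l := 3) rfl N5620 D11701
theorem N6872 : nd 6872 = n11702 := ndS (p := 5620) (l := 6) rfl N5620 D11702
theorem N6873 : nd 6873 = n11703 := ndS (p := 5621) (l := 7) rfl N5621 D11703
theorem N6874 : nd 6874 = n11705 := ndS (p := 5622) (l := 6) rfl N5622 D11705
theorem N6875 : nd 6875 = n11706 := ndS (p := 5623) (l := 5) rfl N5623 D11706
theorem N6876 : nd 6876 = n11707 := ndS (p := 5623) (l := 7) rfl N5623 D11707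
theorem N6877 : nd 6877 = n11708 := ndS (p := 5625) (l := 4) rfl N5625 D11708
theorem N6878 : nd 6878 = n11709 := ndS (p := 5625) (l := 6) rfl N5625 D11709
theorem N6879 : nd 6879 = n11710 := ndS (p := 5626) (l := 3) rfl N5626 D11710
theorem N6880 : nd 6880 = n11711 := ndS (p := 5626) (l := 6) rfl N5626 D11711
theorem N6881 : nd 6881 = n11712 := ndS (p := 5627) (l := 7) rfl N5627 D11712
theorem N6882 : nd 6882 = n11713 := ndS (p := 5628) (l := 3) rfl N5628 D11713
theorem N6883 : nd 6883 = n11714 := ndS (p := 5628) (l := 6) rfl N5628 D11714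
theorem N6884 : nd 6884 = n11715 := ndS (p := 5629) (l := 7) rfl N5629 D11715
theorem N6885 : nd 6885 = n11716 := ndS (p := 5630) (l := 2) rfl N5630 D11716
theorem N6886 : nd 6886 = n11717 := ndS (p := 5630) (l := 6) rfl N5630 D11717
theorem N6887 : nd 6887 = n11718 := ndS (p := 5631) (l := 5) rfl N5631 D11718
theorem N6888 : nd 6888 = n11719 := ndS (p := 5631) (l := 7) rfl N5631 D11719
theorem N6889 : nd 6889 = n11720 := ndS (p := 5633) (l := 6) rfl N5633 D11720
theorem N6890 : nd 6890 = n11721 := ndS (p := 5634) (l := 5) rfl N5634 D11721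
theorem N6891 : nd 6891 = n11722 := ndS (p := 5634) (l := 7) rfl N5634 D11722
theorem N6892 : nd 6892 = n11723 := ndS (p := 5635) (l := 7) rfl N5635 D11723
theorem N6893 : nd 6893 = n11724 := ndS (p := 5635) (l := 8) rfl N5635 D11724
theorem N6894 : nd 6894 = n11725 := ndS (p := 5637) (l := 3) rfl N5637 D11725
theorem N6895 : nd 6895 = n11726 := ndS (p := 5637) (l := 6) rfl N5637 D11726
theorem N6896 : nd 6896 = n11727 := ndS (p := 5638) (l := 7) rfl N5638 D11727
theorem N6897 : nd 6897 = n11728 := ndS (p := 5639) (l := 2) rfl N5639 D11728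
theorem N6898 : nd 6898 = n11729 := ndS (p := 5639) (l := 6) rfl N5639 D11729
theorem N6899 : nd 6899 = n11730 := ndS (p := 5640) (l := 5) rfl N5640 D11730
theorem N6900 : nd 6900 = n11731 := ndS (p := 5640) (l := 7) rfl N5640 D11731
theorem N6901 : nd 6901 = n11732 := ndS (p := 5642) (l := 2) rfl N5642 D11732
theorem N6902 : nd 6902 = n11733 := ndS (p := 5642) (l := 6) rfl N5642 D11733
theorem N6903 : nd 6903 = n11734 := ndS (p := 5643) (l := 5) rfl N5643 D11734
theorem N6904 : nd 6904 = n11735 := ndS (p := 5643) (l := 7) rfl N5643 D11735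
theorem N6905 : nd 6905 = n11736 := ndS (p := 5645) (l := 1) rfl N5645 D11736
theorem N6906 : nd 6906 = n11737 := ndS (p := 5645) (l := 6) rfl N5645 D11737
theorem N6907 : nd 6907 = n11738 := ndS (p := 5646) (l := 5) rfl N5646 D11738
theorem N6908 : nd 6908 = n11739 := ndS (p := 5646) (l := 7) rfl N5646 D11739
theorem N6909 : nd 6909 = n11740 := ndS (p := 5647) (l := 7) rfl N5647 D11740
theorem N6910 : nd 6910 = n11741 := ndS (p := 5647) (l := 8) rfl N5647 D11741
theorem N6911 : nd 6911 = n11742 := ndS (p := 5649) (l := 4) rfl N5649 D11742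
theorem N6912 : nd 6912 = n11743 := ndS (p := 5649) (l := 7) rfl N5649 D11743
theorem N6913 : nd 6913 = n11744 := ndS (p := 5649) (l := 8) rfl N5649 D11744
theorem N6914 : nd 6914 = n11745 := ndS (p := 5651) (l := 6) rfl N5651 D11745
theorem N6915 : nd 6915 = n11746 := ndS (p := 5651) (l := 8) rfl N5651 D11746
theorem N6916 : nd 6916 = n11747 := ndS (p := 5652) (l := 9) rfl N5652 D11747
theorem N6917 : nd 6917 = n11748 := ndS (p := 5653) (l := 2) rfl N5653 D11748
theorem N6918 : nd 6918 = n11749 := ndS (p := 5653) (l := 6) rfl N5653 D11749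
theorem N6919 : nd 6919 = n11750 := ndS (p := 5654) (l := 5) rfl N5654 D11750
theorem N6920 : nd 6920 = n11751 := ndS (p := 5654) (l := 7) rfl N5654 D11751
theorem N6921 : nd 6921 = n11753 := ndS (p := 5656) (l := 6) rfl N5656 D11753
theorem N6922 : nd 6922 = n11754 := ndS (p := 5657) (l := 5) rfl N5657 D11754
theorem N6923 : nd 6923 = n11755 := ndS (p := 5657) (l := 7) rfl N5657 D11755
theorem N6924 : nd 6924 = n11756 := ndS (p := 5658) (l := 7) rfl N5658 D11756
theorem N6925 : nd 6925 = n11757 := ndS (p := 5658) (l := 8) rfl N5658 D11757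
theorem N6926 : nd 6926 = n11758 := ndS (p := 5660) (l := 1) rfl N5660 D11758
theorem N6927 : nd 6927 = n11759 := ndS (p := 5660) (l := 6) rfl N5660 D11759
theorem N6928 : nd 6928 = n11761 := ndS (p := 5661) (l := 7) rfl N5661 D11761
theorem N6929 : nd 6929 = n11762 := ndS (p := 5662) (l := 7) rfl N5662 D11762
theorem N6930 : nd 6930 = n11763 := ndS (p := 5662) (l := 8) rfl N5662 D11763
theorem N6931 : nd 6931 = n11764 := ndS (p := 5664) (l := 0) rfl N5664 D11764
theorem N6932 : nd 6932 = n11765 := ndS (p := 5664) (l := 6) rfl N5664 D11765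
theorem N6933 : nd 6933 = n11766 := ndS (p := 5665) (l := 5) rfl N5665 D11766
theorem N6934 : nd 6934 = n11767 := ndS (p := 5665) (l := 7) rfl N5665 D11767
theorem N6935 : nd 6935 = n11768 := ndS (p := 5666) (l := 7) rfl N5666 D11768
theorem N6936 : nd 6936 = n11769 := ndS (p := 5666) (l := 8) rfl N5666 D11769
theorem N6937 : nd 6937 = n11770 := ndS (p := 5668) (l := 6) rfl N5668 D11770
theorem N6938 : nd 6938 = n11771 := ndS (p := 5668) (l := 8) rfl N5668 D11771
theorem N6939 : nd 6939 = n11772 := ndS (p := 5669) (l := 9) rfl N5669 D11772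
theorem N6940 : nd 6940 = n11773 := ndS (p := 5670) (l := 8) rfl N5670 D11773
theorem N6941 : nd 6941 = n11774 := ndS (p := 5671) (l := 9) rfl N5671 D11774
theorem N6942 : nd 6942 = n11776 := ndS (p := 5673) (l := 6) rfl N5673 D11776
theorem N6943 : nd 6943 = n11777 := ndS (p := 5674) (l := 5) rfl N5674 D11777
theorem N6944 : nd 6944 = n11778 := ndS (p := 5674) (l := 7) rfl N5674 D11778
theorem N6945 : nd 6945 = n11779 := ndS (p := 5675) (l := 7) rfl N5675 D11779
theorem N6946 : nd 6946 = n11780 := ndS (p := 5675) (l := 8) rfl N5675 D11780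
theorem N6947 : nd 6947 = n11784 := ndS (p := 5677) (l := 7) rfl N5677 D11784
theorem N6948 : nd 6948 = n11785 := ndS (p := 5678) (l := 4) rfl N5678 D11785
theorem N6949 : nd 6949 = n11786 := ndS (p := 5678) (l := 7) rfl N5678 D11786
theorem N6950 : nd 6950 = n11790 := ndS (p := 5682) (l := 7) rfl N5682 D11790
theorem N6951 : nd 6951 = n11794 := ndS (p := 5686) (l := 7) rfl N5686 D11794
theorem N6952 : nd 6952 = n11801 := ndS (p := 5688) (l := 4) rfl N5688 D11801
theorem N6953 : nd 6953 = n11802 := ndS (p := 5688) (l := 8) rfl N5688 D11802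
theorem N6954 : nd 6954 = n11806 := ndS (p := 5691) (l := 5) rfl N5691 D11806
theorem N6955 : nd 6955 = n11807 := ndS (p := 5692) (l := 5) rfl N5692 D11807
theorem N6956 : nd 6956 = n11808 := ndS (p := 5693) (l := 4) rfl N5693 D11808
theorem N6957 : nd 6957 = n11809 := ndS (p := 5693) (l := 6) rfl N5693 D11809
theorem N6958 : nd 6958 = n11810 := ndS (p := 5694) (l := 4) rfl N5694 D11810
theorem N6959 : nd 6959 = n11811 := ndS (p := 5694) (l := 6) rfl N5694 D11811
theorem N6960 : nd 6960 = n11812 := ndS (p := 5695) (l := 3) rfl N5695 D11812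
theorem N6961 : nd 6961 = n11813 := ndS (p := 5695) (l := 6) rfl N5695 D11813
theorem N6962 : nd 6962 = n11819 := ndS (p := 5698) (l := 5) rfl N5698 D11819
theorem N6963 : nd 6963 = n11820 := ndS (p := 5699) (l := 5) rfl N5699 D11820
theorem N6964 : nd 6964 = n11821 := ndS (p := 5700) (l := 4) rfl N5700 D11821
theorem N6965 : nd 6965 = n11822 := ndS (p := 5700) (l := 6) rfl N5700 D11822
theorem N6966 : nd 6966 = n11823 := ndS (p := 5701) (l := 5) rfl N5701 D11823
theorem N6967 : nd 6967 = n11824 := ndS (p := 5702) (l := 4) rfl N5702 D11824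
theorem N6968 : nd 6968 = n11825 := ndS (p := 5702) (l := 6) rfl N5702 D11825
theorem N6969 : nd 6969 = n11826 := ndS (p := 5703) (l := 3) rfl N5703 D11826
theorem N6970 : nd 6970 = n11827 := ndS (p := 5703) (l := 6) rfl N5703 D11827
theorem N6971 : nd 6971 = n11828 := ndS (p := 5704) (l := 7) rfl N5704 D11828
theorem N6972 : nd 6972 = n11829 := ndS (p := 5705) (l := 3) rfl N5705 D11829
theorem N6973 : nd 6973 = n11830 := ndS (p := 5705) (l := 6) rfl N5705 D11830
theorem N6974 : nd 6974 = n11831 := ndS (p := 5706) (l := 7) rfl N5706 D11831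
theorem N6975 : nd 6975 = n11832 := ndS (p := 5707) (l := 2) rfl N5707 D11832
theorem N6976 : nd 6976 = n11833 := ndS (p := 5707) (l := 6) rfl N5707 D11833
theorem N6977 : nd 6977 = n11834 := ndS (p := 5708) (l := 5) rfl N5708 D11834
theorem N6978 : nd 6978 = n11835 := ndS (p := 5708) (l := 7) rfl N5708 D11835
theorem N6979 : nd 6979 = n11837 := ndS (p := 5711) (l := 5) rfl N5711 D11837
theorem N6980 : nd 6980 = n11840 := ndS (p := 5712) (l := 8) rfl N5712 D11840
theorem N6981 : nd 6981 = n11841 := ndS (p := 5713) (l := 4) rfl N5713 D11841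
theorem N6982 : nd 6982 = n11842 := ndS (p := 5713) (l := 6) rfl N5713 D11842
theorem N6983 : nd 6983 = n11843 := ndS (p := 5714) (l := 4) rfl N5714 D11843
theorem N6984 : nd 6984 = n11844 := ndS (p := 5714) (l := 6) rfl N5714 D11844
theorem N6985 : nd 6985 = n11845 := ndS (p := 5715) (l := 3) rfl N5715 D11845
theorem N6986 : nd 6986 = n11846 := ndS (p := 5715) (l := 6) rfl N5715 D11846
theorem N6987 : nd 6987 = n11847 := ndS (p := 5716) (l := 7) rfl N5716 D11847
theorem N6988 : nd 6988 = n11848 := ndS (p := 5717) (l := 4) rfl N5717 D11848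
theorem N6989 : nd 6989 = n11849 := ndS (p := 5717) (l := 6) rfl N5717 D11849
theorem N6990 : nd 6990 = n11850 := ndS (p := 5718) (l := 3) rfl N5718 D11850
theorem N6991 : nd 6991 = n11851 := ndS (p := 5718) (l := 6) rfl N5718 D11851
theorem N6992 : nd 6992 = n11852 := ndS (p := 5719) (l := 7) rfl N5719 D11852
theorem N6993 : nd 6993 = n11853 := ndS (p := 5720) (l := 2) rfl N5720 D11853
theorem N6994 : nd 6994 = n11854 := ndS (p := 5720) (l := 6) rfl N5720 D11854
theorem N6995 : nd 6995 = n11855 := ndS (p := 5721) (l := 5) rfl N5721 D11855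
theorem N6996 : nd 6996 = n11856 := ndS (p := 5721) (l := 7) rfl N5721 D11856
theorem N6997 : nd 6997 = n11857 := ndS (p := 5723) (l := 2) rfl N5723 D11857
theorem N6998 : nd 6998 = n11858 := ndS (p := 5723) (l := 6) rfl N5723 D11858
theorem N6999 : nd 6999 = n11859 := ndS (p := 5724) (l := 5) rfl N5724 D11859
theorem N7000 : nd 7000 = n11860 := ndS (p := 5724) (l := 7) rfl N5724 D11860
theorem N7001 : nd 7001 = n11861 := ndS (p := 5726) (l := 1) rfl N5726 D11861
theorem N7002 : nd 7002 = n11862 := ndS (p := 5726) (l := 6) rfl N5726 D11862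
theorem N7003 : nd 7003 = n11863 := ndS (p := 5727) (l := 5) rfl N5727 D11863
theorem N7004 : nd 7004 = n11864 := ndS (p := 5727) (l := 7) rfl N5727 D11864
theorem N7005 : nd 7005 = n11865 := ndS (p := 5728) (l := 7) rfl N5728 D11865
theorem N7006 : nd 7006 = n11866 := ndS (p := 5728) (l := 8) rfl N5728 D11866
theorem N7007 : nd 7007 = n11867 := ndS (p := 5730) (l := 4) rfl N5730 D11867
theorem N7008 : nd 7008 = n11868 := ndS (p := 5730) (l := 7) rfl N5730 D11868
theorem N7009 : nd 7009 = n11869 := ndS (p := 5730) (l := 8) rfl N5730 D11869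
theorem N7010 : nd 7010 = n11870 := ndS (p := 5732) (l := 6) rfl N5732 D11870
theorem N7011 : nd 7011 = n11871 := ndS (p := 5732) (l := 8) rfl N5732 D11871
theorem N7012 : nd 7012 = n11872 := ndS (p := 5733) (l := 9) rfl N5733 D11872
theorem N7013 : nd 7013 = n11873 := ndS (p := 5734) (l := 4) rfl N5734 D11873
theorem N7014 : nd 7014 = n11874 := ndS (p := 5734) (l := 6) rfl N5734 D11874
theorem N7015 : nd 7015 = n11875 := ndS (p := 5735) (l := 3) rfl N5735 D11875
theorem N7016 : nd 7016 = n11876 := ndS (p := 5735) (l := 6) rfl N5735 D11876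
theorem N7017 : nd 7017 = n11877 := ndS (p := 5736) (l := 7) rfl N5736 D11877
theorem N7018 : nd 7018 = n11878 := ndS (p := 5737) (l := 2) rfl N5737 D11878
theorem N7019 : nd 7019 = n11879 := ndS (p := 5737) (l := 6) rfl N5737 D11879
theorem N7020 : nd 7020 = n11880 := ndS (p := 5738) (l := 5) rfl N5738 D11880
theorem N7021 : nd 7021 = n11881 := ndS (p := 5738) (l := 7) rfl N5738 D11881
theorem N7022 : nd 7022 = n11885 := ndS (p := 5742) (l := 2) rfl N5742 D11885
theorem N7023 : nd 7023 = n11887 := ndS (p := 5743) (l := 5) rfl N5743 D11887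
theorem N7024 : nd 7024 = n11888 := ndS (p := 5743) (l := 7) rfl N5743 D11888
theorem N7025 : nd 7025 = n11889 := ndS (p := 5745) (l := 1) rfl N5745 D11889
theorem N7026 : nd 7026 = n11890 := ndS (p := 5745) (l := 6) rfl N5745 D11890
theorem N7027 : nd 7027 = n11891 := ndS (p := 5746) (l := 5) rfl N5746 D11891
theorem N7028 : nd 7028 = n11892 := ndS (p := 5746) (l := 7) rfl N5746 D11892
theorem N7029 : nd 7029 = n11893 := ndS (p := 5747) (l := 7) rfl N5747 D11893
theorem N7030 : nd 7030 = n11894 := ndS (p := 5747) (l := 8) rfl N5747 D11894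
theorem N7031 : nd 7031 = n11899 := ndS (p := 5750) (l := 7) rfl N5750 D11899
theorem N7032 : nd 7032 = n11900 := ndS (p := 5750) (l := 8) rfl N5750 D11900
theorem N7033 : nd 7033 = n11902 := ndS (p := 5752) (l := 6) rfl N5752 D11902
theorem N7034 : nd 7034 = n11903 := ndS (p := 5753) (l := 5) rfl N5753 D11903
theorem N7035 : nd 7035 = n11904 := ndS (p := 5753) (l := 7) rfl N5753 D11904
theorem N7036 : nd 7036 = n11905 := ndS (p := 5754) (l := 7) rfl N5754 D11905
theorem N7037 : nd 7037 = n11906 := ndS (p := 5754) (l := 8) rfl N5754 D11906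
theorem N7038 : nd 7038 = n11907 := ndS (p := 5756) (l := 6) rfl N5756 D11907
theorem N7039 : nd 7039 = n11908 := ndS (p := 5756) (l := 8) rfl N5756 D11908
theorem N7040 : nd 7040 = n11909 := ndS (p := 5757) (l := 9) rfl N5757 D11909
theorem N7041 : nd 7041 = n11910 := ndS (p := 5758) (l := 8) rfl N5758 D11910
theorem N7042 : nd 7042 = n11911 := ndS (p := 5759) (l := 9) rfl N5759 D11911
theorem N7043 : nd 7043 = n11923 := ndS (p := 5762) (l := 6) rfl N5762 D11923
theorem N7044 : nd 7044 = n11924 := ndS (p := 5763) (l := 5) rfl N5763 D11924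
theorem N7045 : nd 7045 = n11925 := ndS (p := 5763) (l := 7) rfl N5763 D11925
theorem N7046 : nd 7046 = n11926 := ndS (p := 5764) (l := 4) rfl N5764 D11926
theorem N7047 : nd 7047 = n11946 := ndS (p := 5768) (l := 3) rfl N5768 D11946
theorem N7048 : nd 7048 = n11947 := ndS (p := 5768) (l := 6) rfl N5768 D11947
theorem N7049 : nd 7049 = n11949 := ndS (p := 5770) (l := 2) rfl N5770 D11949
theorem N7050 : nd 7050 = n11950 := ndS (p := 5770) (l := 6) rfl N5770 D11950
theorem N7051 : nd 7051 = n11959 := ndS (p := 5772) (l := 2) rfl N5772 D11959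
theorem N7052 : nd 7052 = n11960 := ndS (p := 5772) (l := 6) rfl N5772 D11960
theorem N7053 : nd 7053 = n11961 := ndS (p := 5773) (l := 5) rfl N5773 D11961
theorem N7054 : nd 7054 = n11962 := ndS (p := 5773) (l := 7) rfl N5773 D11962
theorem N7055 : nd 7055 = n11963 := ndS (p := 5775) (l := 1) rfl N5775 D11963
theorem N7056 : nd 7056 = n11964 := ndS (p := 5775) (l := 6) rfl N5775 D11964
theorem N7057 : nd 7057 = n11965 := ndS (p := 5776) (l := 5) rfl N5776 D11965
theorem N7058 : nd 7058 = n11966 := ndS (p := 5776) (l := 7) rfl N5776 D11966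
theorem N7059 : nd 7059 = n11968 := ndS (p := 5777) (l := 8) rfl N5777 D11968
theorem N7060 : nd 7060 = n11971 := ndS (p := 5779) (l := 4) rfl N5779 D11971
theorem N7061 : nd 7061 = n11979 := ndS (p := 5782) (l := 5) rfl N5782 D11979
theorem N7062 : nd 7062 = n11980 := ndS (p := 5782) (l := 7) rfl N5782 D11980
theorem N7063 : nd 7063 = n11981 := ndS (p := 5783) (l := 7) rfl N5783 D11981
theorem N7064 : nd 7064 = n11982 := ndS (p := 5783) (l := 8) rfl N5783 D11982
theorem N7065 : nd 7065 = n11984 := ndS (p := 5785) (l := 6) rfl N5785 D11984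
theorem N7066 : nd 7066 = n11985 := ndS (p := 5786) (l := 5) rfl N5786 D11985
theorem N7067 : nd 7067 = n11986 := ndS (p := 5786) (l := 7) rfl N5786 D11986
theorem N7068 : nd 7068 = n11987 := ndS (p := 5787) (l := 4) rfl N5787 D11987
theorem N7069 : nd 7069 = n11988 := ndS (p := 5787) (l := 7) rfl N5787 D11988
theorem N7070 : nd 7070 = n11989 := ndS (p := 5787) (l := 8) rfl N5787 D11989
theorem N7071 : nd 7071 = n11990 := ndS (p := 5789) (l := 6) rfl N5789 D11990
theorem N7072 : nd 7072 = n11992 := ndS (p := 5790) (l := 9) rfl N5790 D11992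
theorem N7073 : nd 7073 = n12007 := ndS (p := 5794) (l := 6) rfl N5794 D12007
theorem N7074 : nd 7074 = n12008 := ndS (p := 5794) (l := 8) rfl N5794 D12008
theorem N7075 : nd 7075 = n12009 := ndS (p := 5795) (l := 9) rfl N5795 D12009
theorem N7076 : nd 7076 = n12011 := ndS (p := 5796) (l := 5) rfl N5796 D12011
theorem N7077 : nd 7077 = n12013 := ndS (p := 5797) (l := 7) rfl N5797 D12013
theorem N7078 : nd 7078 = n12014 := ndS (p := 5797) (l := 8) rfl N5797 D12014
theorem N7079 : nd 7079 = n12015 := ndS (p := 5799) (l := 6) rfl N5799 D12015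
theorem N7080 : nd 7080 = n12016 := ndS (p := 5799) (l := 8) rfl N5799 D12016
theorem N7081 : nd 7081 = n12017 := ndS (p := 5800) (l := 9) rfl N5800 D12017
theorem N7082 : nd 7082 = n12018 := ndS (p := 5801) (l := 8) rfl N5801 D12018
theorem N7083 : nd 7083 = n12019 := ndS (p := 5802) (l := 9) rfl N5802 D12019
theorem N7084 : nd 7084 = n12021 := ndS (p := 5804) (l := 9) rfl N5804 D12021
theorem N7085 : nd 7085 = n12072 := ndS (p := 5806) (l := 4) rfl N5806 D12072
theorem N7086 : nd 7086 = n12073 := ndS (p := 5806) (l := 6) rfl N5806 D12073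
theorem N7087 : nd 7087 = n12074 := ndS (p := 5807) (l := 4) rfl N5807 D12074
theorem N7088 : nd 7088 = n12076 := ndS (p := 5808) (l := 3) rfl N5808 D12076
theorem N7089 : nd 7089 = n12077 := ndS (p := 5808) (l := 6) rfl N5808 D12077
theorem N7090 : nd 7090 = n12082 := ndS (p := 5811) (l := 5) rfl N5811 D12082
theorem N7091 : nd 7091 = n12090 := ndS (p := 5812) (l := 1) rfl N5812 D12090
theorem N7092 : nd 7092 = n12091 := ndS (p := 5813) (l := 4) rfl N5813 D12091
theorem N7093 : nd 7093 = n12092 := ndS (p := 5813) (l := 6) rfl N5813 D12092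
theorem N7094 : nd 7094 = n12093 := ndS (p := 5814) (l := 5) rfl N5814 D12093
theorem N7095 : nd 7095 = n12094 := ndS (p := 5815) (l := 4) rfl N5815 D12094
theorem N7096 : nd 7096 = n12095 := ndS (p := 5815) (l := 6) rfl N5815 D12095
theorem N7097 : nd 7097 = n12096 := ndS (p := 5816) (l := 3) rfl N5816 D12096
theorem N7098 : nd 7098 = n12097 := ndS (p := 5816) (l := 6) rfl N5816 D12097
theorem N7099 : nd 7099 = n12098 := ndS (p := 5817) (l := 7) rfl N5817 D12098
theorem N7100 : nd 7100 = n12099 := ndS (p := 5818) (l := 5) rfl N5818 D12099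
theorem N7101 : nd 7101 = n12100 := ndS (p := 5819) (l := 5) rfl N5819 D12100
theorem N7102 : nd 7102 = n12101 := ndS (p := 5820) (l := 4) rfl N5820 D12101
theorem N7103 : nd 7103 = n12102 := ndS (p := 5820) (l := 6) rfl N5820 D12102
theorem N7104 : nd 7104 = n12103 := ndS (p := 5821) (l := 4) rfl N5821 D12103
theorem N7105 : nd 7105 = n12104 := ndS (p := 5821) (l := 6) rfl N5821 D12104
theorem N7106 : nd 7106 = n12105 := ndS (p := 5822) (l := 3) rfl N5822 D12105
theorem N7107 : nd 7107 = n12106 := ndS (p := 5822) (l := 6) rfl N5822 D12106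
theorem N7108 : nd 7108 = n12107 := ndS (p := 5823) (l := 7) rfl N5823 D12107
theorem N7109 : nd 7109 = n12108 := ndS (p := 5824) (l := 6) rfl N5824 D12108
theorem N7110 : nd 7110 = n12109 := ndS (p := 5825) (l := 5) rfl N5825 D12109
theorem N7111 : nd 7111 = n12110 := ndS (p := 5825) (l := 7) rfl N5825 D12110
theorem N7112 : nd 7112 = n12111 := ndS (p := 5827) (l := 4) rfl N5827 D12111
theorem N7113 : nd 7113 = n12112 := ndS (p := 5827) (l := 6) rfl N5827 D12112
theorem N7114 : nd 7114 = n12113 := ndS (p := 5828) (l := 4) rfl N5828 D12113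
theorem N7115 : nd 7115 = n12114 := ndS (p := 5828) (l := 6) rfl N5828 D12114
theorem N7116 : nd 7116 = n12115 := ndS (p := 5829) (l := 3) rfl N5829 D12115
theorem N7117 : nd 7117 = n12116 := ndS (p := 5829) (l := 6) rfl N5829 D12116
theorem N7118 : nd 7118 = n12117 := ndS (p := 5830) (l := 7) rfl N5830 D12117
theorem N7119 : nd 7119 = n12119 := ndS (p := 5831) (l := 6) rfl N5831 D12119
theorem N7120 : nd 7120 = n12120 := ndS (p := 5832) (l := 7) rfl N5832 D12120
theorem N7121 : nd 7121 = n12121 := ndS (p := 5833) (l := 2) rfl N5833 D12121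
theorem N7122 : nd 7122 = n12122 := ndS (p := 5833) (l := 6) rfl N5833 D12122
theorem N7123 : nd 7123 = n12123 := ndS (p := 5834) (l := 5) rfl N5834 D12123
theorem N7124 : nd 7124 = n12124 := ndS (p := 5834) (l := 7) rfl N5834 D12124
theorem N7125 : nd 7125 = n12125 := ndS (p := 5836) (l := 7) rfl N5836 D12125
theorem N7126 : nd 7126 = n12126 := ndS (p := 5836) (l := 8) rfl N5836 D12126
theorem N7127 : nd 7127 = n12127 := ndS (p := 5838) (l := 3) rfl N5838 D12127
theorem N7128 : nd 7128 = n12128 := ndS (p := 5838) (l := 6) rfl N5838 D12128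
theorem N7129 : nd 7129 = n12129 := ndS (p := 5839) (l := 7) rfl N5839 D12129
theorem N7130 : nd 7130 = n12130 := ndS (p := 5840) (l := 2) rfl N5840 D12130
theorem N7131 : nd 7131 = n12131 := ndS (p := 5840) (l := 6) rfl N5840 D12131
theorem N7132 : nd 7132 = n12132 := ndS (p := 5841) (l := 5) rfl N5841 D12132
theorem N7133 : nd 7133 = n12133 := ndS (p := 5841) (l := 7) rfl N5841 D12133
theorem N7134 : nd 7134 = n12134 := ndS (p := 5843) (l := 2) rfl N5843 D12134
theorem N7135 : nd 7135 = n12135 := ndS (p := 5843) (l := 6) rfl N5843 D12135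
theorem N7136 : nd 7136 = n12136 := ndS (p := 5844) (l := 5) rfl N5844 D12136
theorem N7137 : nd 7137 = n12137 := ndS (p := 5844) (l := 7) rfl N5844 D12137
theorem N7138 : nd 7138 = n12138 := ndS (p := 5846) (l := 1) rfl N5846 D12138
theorem N7139 : nd 7139 = n12139 := ndS (p := 5846) (l := 6) rfl N5846 D12139
theorem N7140 : nd 7140 = n12140 := ndS (p := 5847) (l := 7) rfl N5847 D12140
theorem N7141 : nd 7141 = n12141 := ndS (p := 5849) (l := 1) rfl N5849 D12141
theorem N7142 : nd 7142 = n12144 := ndS (p := 5850) (l := 8) rfl N5850 D12144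
theorem N7143 : nd 7143 = n12145 := ndS (p := 5851) (l := 0) rfl N5851 D12145
theorem N7144 : nd 7144 = n12146 := ndS (p := 5852) (l := 5) rfl N5852 D12146
theorem N7145 : nd 7145 = n12147 := ndS (p := 5853) (l := 4) rfl N5853 D12147
theorem N7146 : nd 7146 = n12148 := ndS (p := 5853) (l := 6) rfl N5853 D12148
theorem N7147 : nd 7147 = n12149 := ndS (p := 5854) (l := 3) rfl N5854 D12149
theorem N7148 : nd 7148 = n12150 := ndS (p := 5854) (l := 6) rfl N5854 D12150
theorem N7149 : nd 7149 = n12151 := ndS (p := 5855) (l := 7) rfl N5855 D12151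
theorem N7150 : nd 7150 = n12152 := ndS (p := 5856) (l := 5) rfl N5856 D12152
theorem N7151 : nd 7151 = n12153 := ndS (p := 5857) (l := 4) rfl N5857 D12153
theorem N7152 : nd 7152 = n12154 := ndS (p := 5857) (l := 6) rfl N5857 D12154
theorem N7153 : nd 7153 = n12155 := ndS (p := 5858) (l := 3) rfl N5858 D12155
theorem N7154 : nd 7154 = n12156 := ndS (p := 5858) (l := 6) rfl N5858 D12156
theorem N7155 : nd 7155 = n12157 := ndS (p := 5859) (l := 7) rfl N5859 D12157
theorem N7156 : nd 7156 = n12159 := ndS (p := 5860) (l := 6) rfl N5860 D12159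
theorem N7157 : nd 7157 = n12160 := ndS (p := 5861) (l := 5) rfl N5861 D12160
theorem N7158 : nd 7158 = n12161 := ndS (p := 5861) (l := 7) rfl N5861 D12161
theorem N7159 : nd 7159 = n12162 := ndS (p := 5863) (l := 5) rfl N5863 D12162
theorem N7160 : nd 7160 = n12163 := ndS (p := 5864) (l := 4) rfl N5864 D12163
theorem N7161 : nd 7161 = n12164 := ndS (p := 5864) (l := 6) rfl N5864 D12164
theorem N7162 : nd 7162 = n12165 := ndS (p := 5865) (l := 3) rfl N5865 D12165
theorem N7163 : nd 7163 = n12166 := ndS (p := 5865) (l := 6) rfl N5865 D12166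
theorem N7164 : nd 7164 = n12167 := ndS (p := 5866) (l := 7) rfl N5866 D12167
theorem N7165 : nd 7165 = n12168 := ndS (p := 5867) (l := 2) rfl N5867 D12168
theorem N7166 : nd 7166 = n12169 := ndS (p := 5867) (l := 6) rfl N5867 D12169
theorem N7167 : nd 7167 = n12170 := ndS (p := 5868) (l := 5) rfl N5868 D12170
theorem N7168 : nd 7168 = n12171 := ndS (p := 5868) (l := 7) rfl N5868 D12171
theorem N7169 : nd 7169 = n12172 := ndS (p := 5870) (l := 5) rfl N5870 D12172
theorem N7170 : nd 7170 = n12173 := ndS (p := 5870) (l := 7) rfl N5870 D12173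
theorem N7171 : nd 7171 = n12174 := ndS (p := 5871) (l := 7) rfl N5871 D12174
theorem N7172 : nd 7172 = n12175 := ndS (p := 5871) (l := 8) rfl N5871 D12175
theorem N7173 : nd 7173 = n12176 := ndS (p := 5873) (l := 3) rfl N5873 D12176
theorem N7174 : nd 7174 = n12177 := ndS (p := 5873) (l := 6) rfl N5873 D12177
theorem N7175 : nd 7175 = n12178 := ndS (p := 5874) (l := 7) rfl N5874 D12178
theorem N7176 : nd 7176 = n12179 := ndS (p := 5875) (l := 2) rfl N5875 D12179
theorem N7177 : nd 7177 = n12180 := ndS (p := 5875) (l := 6) rfl N5875 D12180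
theorem N7178 : nd 7178 = n12181 := ndS (p := 5876) (l := 5) rfl N5876 D12181
theorem N7179 : nd 7179 = n12182 := ndS (p := 5876) (l := 7) rfl N5876 D12182
theorem N7180 : nd 7180 = n12183 := ndS (p := 5878) (l := 1) rfl N5878 D12183
theorem N7181 : nd 7181 = n12184 := ndS (p := 5878) (l := 6) rfl N5878 D12184
theorem N7182 : nd 7182 = n12185 := ndS (p := 5879) (l := 5) rfl N5879 D12185
theorem N7183 : nd 7183 = n12186 := ndS (p := 5879) (l := 7) rfl N5879 D12186
theorem N7184 : nd 7184 = n12187 := ndS (p := 5880) (l := 7) rfl N5880 D12187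
theorem N7185 : nd 7185 = n12188 := ndS (p := 5880) (l := 8) rfl N5880 D12188
theorem N7186 : nd 7186 = n12189 := ndS (p := 5882) (l := 6) rfl N5882 D12189
theorem N7187 : nd 7187 = n12190 := ndS (p := 5882) (l := 8) rfl N5882 D12190
theorem N7188 : nd 7188 = n12191 := ndS (p := 5883) (l := 9) rfl N5883 D12191
theorem N7189 : nd 7189 = n12192 := ndS (p := 5884) (l := 1) rfl N5884 D12192
theorem N7190 : nd 7190 = n12193 := ndS (p := 5884) (l := 6) rfl N5884 D12193
theorem N7191 : nd 7191 = n12194 := ndS (p := 5885) (l := 5) rfl N5885 D12194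
theorem N7192 : nd 7192 = n12195 := ndS (p := 5885) (l := 7) rfl N5885 D12195
theorem N7193 : nd 7193 = n12196 := ndS (p := 5886) (l := 7) rfl N5886 D12196
theorem N7194 : nd 7194 = n12198 := ndS (p := 5888) (l := 6) rfl N5888 D12198
theorem N7195 : nd 7195 = n12199 := ndS (p := 5889) (l := 7) rfl N5889 D12199
theorem N7196 : nd 7196 = n12200 := ndS (p := 5891) (l := 3) rfl N5891 D12200
theorem N7197 : nd 7197 = n12201 := ndS (p := 5891) (l := 6) rfl N5891 D12201
theorem N7198 : nd 7198 = n12202 := ndS (p := 5892) (l := 7) rfl N5892 D12202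
theorem N7199 : nd 7199 = n12204 := ndS (p := 5893) (l := 6) rfl N5893 D12204
theorem N7200 : nd 7200 = n12205 := ndS (p := 5894) (l := 5) rfl N5894 D12205
theorem N7201 : nd 7201 = n12206 := ndS (p := 5894) (l := 7) rfl N5894 D12206
theorem N7202 : nd 7202 = n12207 := ndS (p := 5896) (l := 2) rfl N5896 D12207
theorem N7203 : nd 7203 = n12208 := ndS (p := 5896) (l := 6) rfl N5896 D12208
theorem N7204 : nd 7204 = n12209 := ndS (p := 5897) (l := 5) rfl N5897 D12209
theorem N7205 : nd 7205 = n12210 := ndS (p := 5897) (l := 7) rfl N5897 D12210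
theorem N7206 : nd 7206 = n12212 := ndS (p := 5899) (l := 5) rfl N5899 D12212
theorem N7207 : nd 7207 = n12213 := ndS (p := 5899) (l := 7) rfl N5899 D12213
theorem N7208 : nd 7208 = n12214 := ndS (p := 5900) (l := 7) rfl N5900 D12214
theorem N7209 : nd 7209 = n12215 := ndS (p := 5900) (l := 8) rfl N5900 D12215
theorem N7210 : nd 7210 = n12216 := ndS (p := 5902) (l := 1) rfl N5902 D12216
theorem N7211 : nd 7211 = n12217 := ndS (p := 5902) (l := 6) rfl N5902 D12217
theorem N7212 : nd 7212 = n12218 := ndS (p := 5903) (l := 5) rfl N5903 D12218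
theorem N7213 : nd 7213 = n12219 := ndS (p := 5903) (l := 7) rfl N5903 D12219
theorem N7214 : nd 7214 = n12220 := ndS (p := 5904) (l := 7) rfl N5904 D12220
theorem N7215 : nd 7215 = n12221 := ndS (p := 5904) (l := 8) rfl N5904 D12221
theorem N7216 : nd 7216 = n12222 := ndS (p := 5906) (l := 4) rfl N5906 D12222
theorem N7217 : nd 7217 = n12223 := ndS (p := 5906) (l := 7) rfl N5906 D12223
theorem N7218 : nd 7218 = n12224 := ndS (p := 5906) (l := 8) rfl N5906 D12224
theorem N7219 : nd 7219 = n12225 := ndS (p := 5908) (l := 6) rfl N5908 D12225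
theorem N7220 : nd 7220 = n12226 := ndS (p := 5908) (l := 8) rfl N5908 D12226
theorem N7221 : nd 7221 = n12227 := ndS (p := 5909) (l := 9) rfl N5909 D12227
theorem N7222 : nd 7222 = n12229 := ndS (p := 5910) (l := 6) rfl N5910 D12229
theorem N7223 : nd 7223 = n12230 := ndS (p := 5911) (l := 5) rfl N5911 D12230
theorem N7224 : nd 7224 = n12231 := ndS (p := 5911) (l := 7) rfl N5911 D12231
theorem N7225 : nd 7225 = n12232 := ndS (p := 5912) (l := 7) rfl N5912 D12232
theorem N7226 : nd 7226 = n12233 := ndS (p := 5912) (l := 8) rfl N5912 D12233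
theorem N7227 : nd 7227 = n12234 := ndS (p := 5914) (l := 6) rfl N5914 D12234
theorem N7228 : nd 7228 = n12235 := ndS (p := 5914) (l := 8) rfl N5914 D12235
theorem N7229 : nd 7229 = n12236 := ndS (p := 5915) (l := 9) rfl N5915 D12236
theorem N7230 : nd 7230 = n12237 := ndS (p := 5916) (l := 8) rfl N5916 D12237
theorem N7231 : nd 7231 = n12238 := ndS (p := 5917) (l := 9) rfl N5917 D12238
theorem N7232 : nd 7232 = n12240 := ndS (p := 5919) (l := 7) rfl N5919 D12240
theorem N7233 : nd 7233 = n12241 := ndS (p := 5921) (l := 5) rfl N5921 D12241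
theorem N7234 : nd 7234 = n12242 := ndS (p := 5922) (l := 4) rfl N5922 D12242
theorem N7235 : nd 7235 = n12243 := ndS (p := 5922) (l := 6) rfl N5922 D12243
theorem N7236 : nd 7236 = n12244 := ndS (p := 5923) (l := 3) rfl N5923 D12244
theorem N7237 : nd 7237 = n12245 := ndS (p := 5923) (l := 6) rfl N5923 D12245
theorem N7238 : nd 7238 = n12246 := ndS (p := 5924) (l := 7) rfl N5924 D12246
theorem N7239 : nd 7239 = n12247 := ndS (p := 5925) (l := 5) rfl N5925 D12247
theorem N7240 : nd 7240 = n12248 := ndS (p := 5926) (l := 5) rfl N5926 D12248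
theorem N7241 : nd 7241 = n12249 := ndS (p := 5927) (l := 5) rfl N5927 D12249
theorem N7242 : nd 7242 = n12250 := ndS (p := 5928) (l := 4) rfl N5928 D12250
theorem N7243 : nd 7243 = n12251 := ndS (p := 5928) (l := 6) rfl N5928 D12251
theorem N7244 : nd 7244 = n12252 := ndS (p := 5929) (l := 4) rfl N5929 D12252
theorem N7245 : nd 7245 = n12253 := ndS (p := 5929) (l := 6) rfl N5929 D12253
theorem N7246 : nd 7246 = n12254 := ndS (p := 5930) (l := 3) rfl N5930 D12254
theorem N7247 : nd 7247 = n12255 := ndS (p := 5930) (l := 6) rfl N5930 D12255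
theorem N7248 : nd 7248 = n12256 := ndS (p := 5931) (l := 7) rfl N5931 D12256
theorem N7249 : nd 7249 = n12258 := ndS (p := 5932) (l := 6) rfl N5932 D12258
theorem N7250 : nd 7250 = n12259 := ndS (p := 5933) (l := 5) rfl N5933 D12259
theorem N7251 : nd 7251 = n12260 := ndS (p := 5933) (l := 7) rfl N5933 D12260
theorem N7252 : nd 7252 = n12261 := ndS (p := 5935) (l := 5) rfl N5935 D12261
theorem N7253 : nd 7253 = n12262 := ndS (p := 5936) (l := 4) rfl N5936 D12262
theorem N7254 : nd 7254 = n12263 := ndS (p := 5936) (l := 6) rfl N5936 D12263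
theorem N7255 : nd 7255 = n12264 := ndS (p := 5937) (l := 5) rfl N5937 D12264
theorem N7256 : nd 7256 = n12265 := ndS (p := 5938) (l := 4) rfl N5938 D12265
theorem N7257 : nd 7257 = n12266 := ndS (p := 5938) (l := 6) rfl N5938 D12266
theorem N7258 : nd 7258 = n12267 := ndS (p := 5939) (l := 4) rfl N5939 D12267
theorem N7259 : nd 7259 = n12268 := ndS (p := 5939) (l := 6) rfl N5939 D12268
theorem N7260 : nd 7260 = n12269 := ndS (p := 5940) (l := 3) rfl N5940 D12269
theorem N7261 : nd 7261 = n12270 := ndS (p := 5940) (l := 6) rfl N5940 D12270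
theorem N7262 : nd 7262 = n12271 := ndS (p := 5941) (l := 7) rfl N5941 D12271
theorem N7263 : nd 7263 = n12272 := ndS (p := 5942) (l := 3) rfl N5942 D12272
theorem N7264 : nd 7264 = n12273 := ndS (p := 5942) (l := 6) rfl N5942 D12273
theorem N7265 : nd 7265 = n12274 := ndS (p := 5943) (l := 7) rfl N5943 D12274
theorem N7266 : nd 7266 = n12275 := ndS (p := 5944) (l := 2) rfl N5944 D12275
theorem N7267 : nd 7267 = n12276 := ndS (p := 5944) (l := 6) rfl N5944 D12276
theorem N7268 : nd 7268 = n12277 := ndS (p := 5945) (l := 5) rfl N5945 D12277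
theorem N7269 : nd 7269 = n12278 := ndS (p := 5945) (l := 7) rfl N5945 D12278
theorem N7270 : nd 7270 = n12279 := ndS (p := 5947) (l := 5) rfl N5947 D12279
theorem N7271 : nd 7271 = n12280 := ndS (p := 5947) (l := 7) rfl N5947 D12280
theorem N7272 : nd 7272 = n12281 := ndS (p := 5948) (l := 7) rfl N5948 D12281
theorem N7273 : nd 7273 = n12282 := ndS (p := 5948) (l := 8) rfl N5948 D12282
theorem N7274 : nd 7274 = n12283 := ndS (p := 5950) (l := 4) rfl N5950 D12283
theorem N7275 : nd 7275 = n12284 := ndS (p := 5950) (l := 6) rfl N5950 D12284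
theorem N7276 : nd 7276 = n12285 := ndS (p := 5951) (l := 4) rfl N5951 D12285
theorem N7277 : nd 7277 = n12286 := ndS (p := 5951) (l := 6) rfl N5951 D12286
theorem N7278 : nd 7278 = n12287 := ndS (p := 5952) (l := 3) rfl N5952 D12287
theorem N7279 : nd 7279 = n12288 := ndS (p := 5952) (l := 6) rfl N5952 D12288
theorem N7280 : nd 7280 = n12289 := ndS (p := 5953) (l := 7) rfl N5953 D12289
theorem N7281 : nd 7281 = n12290 := ndS (p := 5954) (l := 4) rfl N5954 D12290
theorem N7282 : nd 7282 = n12291 := ndS (p := 5954) (l := 6) rfl N5954 D12291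
theorem N7283 : nd 7283 = n12292 := ndS (p := 5955) (l := 4) rfl N5955 D12292
theorem N7284 : nd 7284 = n12293 := ndS (p := 5955) (l := 6) rfl N5955 D12293
theorem N7285 : nd 7285 = n12294 := ndS (p := 5956) (l := 3) rfl N5956 D12294
theorem N7286 : nd 7286 = n12295 := ndS (p := 5956) (l := 6) rfl N5956 D12295
theorem N7287 : nd 7287 = n12296 := ndS (p := 5957) (l := 7) rfl N5957 D12296
theorem N7288 : nd 7288 = n12297 := ndS (p := 5958) (l := 3) rfl N5958 D12297
theorem N7289 : nd 7289 = n12298 := ndS (p := 5958) (l := 6) rfl N5958 D12298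
theorem N7290 : nd 7290 = n12299 := ndS (p := 5959) (l := 7) rfl N5959 D12299
theorem N7291 : nd 7291 = n12300 := ndS (p := 5960) (l := 2) rfl N5960 D12300
theorem N7292 : nd 7292 = n12301 := ndS (p := 5960) (l := 6) rfl N5960 D12301
theorem N7293 : nd 7293 = n12302 := ndS (p := 5961) (l := 5) rfl N5961 D12302
theorem N7294 : nd 7294 = n12303 := ndS (p := 5961) (l := 7) rfl N5961 D12303
theorem N7295 : nd 7295 = n12304 := ndS (p := 5963) (l := 2) rfl N5963 D12304
theorem N7296 : nd 7296 = n12305 := ndS (p := 5963) (l := 6) rfl N5963 D12305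
theorem N7297 : nd 7297 = n12306 := ndS (p := 5964) (l := 5) rfl N5964 D12306
theorem N7298 : nd 7298 = n12307 := ndS (p := 5964) (l := 7) rfl N5964 D12307
theorem N7299 : nd 7299 = n12308 := ndS (p := 5966) (l := 1) rfl N5966 D12308
theorem N7300 : nd 7300 = n12309 := ndS (p := 5966) (l := 6) rfl N5966 D12309
theorem N7301 : nd 7301 = n12310 := ndS (p := 5967) (l := 5) rfl N5967 D12310
theorem N7302 : nd 7302 = n12311 := ndS (p := 5967) (l := 7) rfl N5967 D12311
theorem N7303 : nd 7303 = n12312 := ndS (p := 5968) (l := 7) rfl N5968 D12312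
theorem N7304 : nd 7304 = n12313 := ndS (p := 5968) (l := 8) rfl N5968 D12313
theorem N7305 : nd 7305 = n12314 := ndS (p := 5970) (l := 6) rfl N5970 D12314
theorem N7306 : nd 7306 = n12315 := ndS (p := 5970) (l := 8) rfl N5970 D12315
theorem N7307 : nd 7307 = n12316 := ndS (p := 5971) (l := 9) rfl N5971 D12316
theorem N7308 : nd 7308 = n12317 := ndS (p := 5972) (l := 3) rfl N5972 D12317
theorem N7309 : nd 7309 = n12318 := ndS (p := 5972) (l := 6) rfl N5972 D12318
theorem N7310 : nd 7310 = n12319 := ndS (p := 5973) (l := 7) rfl N5973 D12319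
theorem N7311 : nd 7311 = n12320 := ndS (p := 5974) (l := 3) rfl N5974 D12320
theorem N7312 : nd 7312 = n12321 := ndS (p := 5974) (l := 6) rfl N5974 D12321
theorem N7313 : nd 7313 = n12322 := ndS (p := 5975) (l := 7) rfl N5975 D12322
theorem N7314 : nd 7314 = n12323 := ndS (p := 5976) (l := 2) rfl N5976 D12323
theorem N7315 : nd 7315 = n12324 := ndS (p := 5976) (l := 6) rfl N5976 D12324
theorem N7316 : nd 7316 = n12325 := ndS (p := 5977) (l := 5) rfl N5977 D12325
theorem N7317 : nd 7317 = n12326 := ndS (p := 5977) (l := 7) rfl N5977 D12326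
theorem N7318 : nd 7318 = n12327 := ndS (p := 5979) (l := 2) rfl N5979 D12327
theorem N7319 : nd 7319 = n12328 := ndS (p := 5979) (l := 6) rfl N5979 D12328
theorem N7320 : nd 7320 = n12329 := ndS (p := 5980) (l := 5) rfl N5980 D12329
theorem N7321 : nd 7321 = n12330 := ndS (p := 5980) (l := 7) rfl N5980 D12330
theorem N7322 : nd 7322 = n12331 := ndS (p := 5982) (l := 1) rfl N5982 D12331
theorem N7323 : nd 7323 = n12332 := ndS (p := 5982) (l := 6) rfl N5982 D12332
theorem N7324 : nd 7324 = n12333 := ndS (p := 5983) (l := 5) rfl N5983 D12333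
theorem N7325 : nd 7325 = n12334 := ndS (p := 5983) (l := 7) rfl N5983 D12334
theorem N7326 : nd 7326 = n12335 := ndS (p := 5984) (l := 7) rfl N5984 D12335
theorem N7327 : nd 7327 = n12336 := ndS (p := 5986) (l := 1) rfl N5986 D12336
theorem N7328 : nd 7328 = n12337 := ndS (p := 5986) (l := 6) rfl N5986 D12337
theorem N7329 : nd 7329 = n12338 := ndS (p := 5987) (l := 5) rfl N5987 D12338
theorem N7330 : nd 7330 = n12339 := ndS (p := 5987) (l := 7) rfl N5987 D12339
theorem N7331 : nd 7331 = n12340 := ndS (p := 5988) (l := 7) rfl N5988 D12340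
theorem N7332 : nd 7332 = n12341 := ndS (p := 5988) (l := 8) rfl N5988 D12341
theorem N7333 : nd 7333 = n12342 := ndS (p := 5990) (l := 0) rfl N5990 D12342
theorem N7334 : nd 7334 = n12343 := ndS (p := 5990) (l := 6) rfl N5990 D12343
theorem N7335 : nd 7335 = n12344 := ndS (p := 5991) (l := 7) rfl N5991 D12344
theorem N7336 : nd 7336 = n12345 := ndS (p := 5993) (l := 0) rfl N5993 D12345
theorem N7337 : nd 7337 = n12346 := ndS (p := 5993) (l := 6) rfl N5993 D12346
theorem N7338 : nd 7338 = n12347 := ndS (p := 5994) (l := 5) rfl N5994 D12347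
theorem N7339 : nd 7339 = n12348 := ndS (p := 5995) (l := 4) rfl N5995 D12348
theorem N7340 : nd 7340 = n12349 := ndS (p := 5995) (l := 8) rfl N5995 D12349
theorem N7341 : nd 7341 = n12350 := ndS (p := 5996) (l := 9) rfl N5996 D12350
theorem N7342 : nd 7342 = n12351 := ndS (p := 5998) (l := 5) rfl N5998 D12351
theorem N7343 : nd 7343 = n12352 := ndS (p := 5999) (l := 4) rfl N5999 D12352
theorem N7344 : nd 7344 = n12353 := ndS (p := 5999) (l := 6) rfl N5999 D12353
theorem N7345 : nd 7345 = n12354 := ndS (p := 6000) (l := 4) rfl N6000 D12354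
theorem N7346 : nd 7346 = n12355 := ndS (p := 6000) (l := 6) rfl N6000 D12355
theorem N7347 : nd 7347 = n12356 := ndS (p := 6001) (l := 3) rfl N6001 D12356
theorem N7348 : nd 7348 = n12357 := ndS (p := 6001) (l := 6) rfl N6001 D12357
theorem N7349 : nd 7349 = n12358 := ndS (p := 6002) (l := 7) rfl N6002 D12358
theorem N7350 : nd 7350 = n12360 := ndS (p := 6003) (l := 6) rfl N6003 D12360
theorem N7351 : nd 7351 = n12362 := ndS (p := 6004) (l := 7) rfl N6004 D12362
theorem N7352 : nd 7352 = n12363 := ndS (p := 6006) (l := 4) rfl N6006 D12363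
theorem N7353 : nd 7353 = n12364 := ndS (p := 6006) (l := 6) rfl N6006 D12364
theorem N7354 : nd 7354 = n12365 := ndS (p := 6007) (l := 4) rfl N6007 D12365
theorem N7355 : nd 7355 = n12366 := ndS (p := 6007) (l := 6) rfl N6007 D12366
theorem N7356 : nd 7356 = n12367 := ndS (p := 6008) (l := 4) rfl N6008 D12367
theorem N7357 : nd 7357 = n12368 := ndS (p := 6008) (l := 6) rfl N6008 D12368
theorem N7358 : nd 7358 = n12369 := ndS (p := 6009) (l := 3) rfl N6009 D12369
theorem N7359 : nd 7359 = n12370 := ndS (p := 6009) (l := 6) rfl N6009 D12370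
theorem N7360 : nd 7360 = n12371 := ndS (p := 6010) (l := 7) rfl N6010 D12371
theorem N7361 : nd 7361 = n12372 := ndS (p := 6011) (l := 3) rfl N6011 D12372
theorem N7362 : nd 7362 = n12373 := ndS (p := 6011) (l := 6) rfl N6011 D12373
theorem N7363 : nd 7363 = n12374 := ndS (p := 6012) (l := 7) rfl N6012 D12374
theorem N7364 : nd 7364 = n12375 := ndS (p := 6013) (l := 2) rfl N6013 D12375
theorem N7365 : nd 7365 = n12376 := ndS (p := 6013) (l := 6) rfl N6013 D12376
theorem N7366 : nd 7366 = n12377 := ndS (p := 6014) (l := 5) rfl N6014 D12377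
theorem N7367 : nd 7367 = n12378 := ndS (p := 6014) (l := 7) rfl N6014 D12378
theorem N7368 : nd 7368 = n12381 := ndS (p := 6016) (l := 7) rfl N6016 D12381
theorem N7369 : nd 7369 = n12382 := ndS (p := 6017) (l := 7) rfl N6017 D12382
theorem N7370 : nd 7370 = n12383 := ndS (p := 6017) (l := 8) rfl N6017 D12383
theorem N7371 : nd 7371 = n12384 := ndS (p := 6019) (l := 5) rfl N6019 D12384
theorem N7372 : nd 7372 = n12385 := ndS (p := 6020) (l := 4) rfl N6020 D12385
theorem N7373 : nd 7373 = n12386 := ndS (p := 6020) (l := 6) rfl N6020 D12386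
theorem N7374 : nd 7374 = n12387 := ndS (p := 6021) (l := 4) rfl N6021 D12387
theorem N7375 : nd 7375 = n12388 := ndS (p := 6021) (l := 6) rfl N6021 D12388
theorem N7376 : nd 7376 = n12389 := ndS (p := 6022) (l := 4) rfl N6022 D12389
theorem N7377 : nd 7377 = n12390 := ndS (p := 6022) (l := 6) rfl N6022 D12390
theorem N7378 : nd 7378 = n12391 := ndS (p := 6023) (l := 3) rfl N6023 D12391
theorem N7379 : nd 7379 = n12392 := ndS (p := 6023) (l := 6) rfl N6023 D12392
theorem N7380 : nd 7380 = n12393 := ndS (p := 6024) (l := 7) rfl N6024 D12393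
theorem N7381 : nd 7381 = n12394 := ndS (p := 6025) (l := 4) rfl N6025 D12394
theorem N7382 : nd 7382 = n12395 := ndS (p := 6025) (l := 6) rfl N6025 D12395
theorem N7383 : nd 7383 = n12396 := ndS (p := 6026) (l := 3) rfl N6026 D12396
theorem N7384 : nd 7384 = n12397 := ndS (p := 6026) (l := 6) rfl N6026 D12397
theorem N7385 : nd 7385 = n12398 := ndS (p := 6027) (l := 7) rfl N6027 D12398
theorem N7386 : nd 7386 = n12399 := ndS (p := 6028) (l := 3) rfl N6028 D12399
theorem N7387 : nd 7387 = n12400 := ndS (p := 6028) (l := 6) rfl N6028 D12400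
theorem N7388 : nd 7388 = n12401 := ndS (p := 6029) (l := 7) rfl N6029 D12401
theorem N7389 : nd 7389 = n12402 := ndS (p := 6030) (l := 2) rfl N6030 D12402
theorem N7390 : nd 7390 = n12403 := ndS (p := 6030) (l := 6) rfl N6030 D12403
theorem N7391 : nd 7391 = n12404 := ndS (p := 6031) (l := 5) rfl N6031 D12404
theorem N7392 : nd 7392 = n12405 := ndS (p := 6031) (l := 7) rfl N6031 D12405
theorem N7393 : nd 7393 = n12406 := ndS (p := 6033) (l := 2) rfl N6033 D12406
theorem N7394 : nd 7394 = n12407 := ndS (p := 6033) (l := 6) rfl N6033 D12407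
theorem N7395 : nd 7395 = n12408 := ndS (p := 6034) (l := 5) rfl N6034 D12408
theorem N7396 : nd 7396 = n12409 := ndS (p := 6034) (l := 7) rfl N6034 D12409
theorem N7397 : nd 7397 = n12410 := ndS (p := 6036) (l := 1) rfl N6036 D12410
theorem N7398 : nd 7398 = n12411 := ndS (p := 6036) (l := 6) rfl N6036 D12411
theorem N7399 : nd 7399 = n12412 := ndS (p := 6037) (l := 5) rfl N6037 D12412
theorem N7400 : nd 7400 = n12413 := ndS (p := 6037) (l := 7) rfl N6037 D12413
theorem N7401 : nd 7401 = n12414 := ndS (p := 6038) (l := 7) rfl N6038 D12414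
theorem N7402 : nd 7402 = n12415 := ndS (p := 6038) (l := 8) rfl N6038 D12415
theorem N7403 : nd 7403 = n12416 := ndS (p := 6040) (l := 4) rfl N6040 D12416
theorem N7404 : nd 7404 = n12417 := ndS (p := 6040) (l := 7) rfl N6040 D12417
theorem N7405 : nd 7405 = n12418 := ndS (p := 6040) (l := 8) rfl N6040 D12418
theorem N7406 : nd 7406 = n12419 := ndS (p := 6042) (l := 6) rfl N6042 D12419
theorem N7407 : nd 7407 = n12420 := ndS (p := 6042) (l := 8) rfl N6042 D12420
theorem N7408 : nd 7408 = n12421 := ndS (p := 6043) (l := 9) rfl N6043 D12421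
theorem N7409 : nd 7409 = n12422 := ndS (p := 6044) (l := 4) rfl N6044 D12422
theorem N7410 : nd 7410 = n12423 := ndS (p := 6044) (l := 6) rfl N6044 D12423
theorem N7411 : nd 7411 = n12424 := ndS (p := 6045) (l := 3) rfl N6045 D12424
theorem N7412 : nd 7412 = n12425 := ndS (p := 6045) (l := 6) rfl N6045 D12425
theorem N7413 : nd 7413 = n12426 := ndS (p := 6046) (l := 7) rfl N6046 D12426
theorem N7414 : nd 7414 = n12427 := ndS (p := 6047) (l := 3) rfl N6047 D12427
theorem N7415 : nd 7415 = n12428 := ndS (p := 6047) (l := 6) rfl N6047 D12428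
theorem N7416 : nd 7416 = n12429 := ndS (p := 6048) (l := 7) rfl N6048 D12429
theorem N7417 : nd 7417 = n12430 := ndS (p := 6049) (l := 2) rfl N6049 D12430
theorem N7418 : nd 7418 = n12431 := ndS (p := 6049) (l := 6) rfl N6049 D12431
theorem N7419 : nd 7419 = n12432 := ndS (p := 6050) (l := 5) rfl N6050 D12432
theorem N7420 : nd 7420 = n12433 := ndS (p := 6050) (l := 7) rfl N6050 D12433
theorem N7421 : nd 7421 = n12434 := ndS (p := 6052) (l := 3) rfl N6052 D12434
theorem N7422 : nd 7422 = n12435 := ndS (p := 6052) (l := 6) rfl N6052 D12435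
theorem N7423 : nd 7423 = n12436 := ndS (p := 6053) (l := 7) rfl N6053 D12436
theorem N7424 : nd 7424 = n12437 := ndS (p := 6054) (l := 2) rfl N6054 D12437
theorem N7425 : nd 7425 = n12438 := ndS (p := 6054) (l := 6) rfl N6054 D12438
theorem N7426 : nd 7426 = n12439 := ndS (p := 6055) (l := 5) rfl N6055 D12439
theorem N7427 : nd 7427 = n12440 := ndS (p := 6055) (l := 7) rfl N6055 D12440
theorem N7428 : nd 7428 = n12441 := ndS (p := 6057) (l := 2) rfl N6057 D12441
theorem N7429 : nd 7429 = n12442 := ndS (p := 6057) (l := 6) rfl N6057 D12442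
theorem N7430 : nd 7430 = n12443 := ndS (p := 6058) (l := 5) rfl N6058 D12443
theorem N7431 : nd 7431 = n12444 := ndS (p := 6058) (l := 7) rfl N6058 D12444
theorem N7432 : nd 7432 = n12445 := ndS (p := 6060) (l := 1) rfl N6060 D12445
theorem N7433 : nd 7433 = n12446 := ndS (p := 6060) (l := 6) rfl N6060 D12446
theorem N7434 : nd 7434 = n12447 := ndS (p := 6061) (l := 5) rfl N6061 D12447
theorem N7435 : nd 7435 = n12448 := ndS (p := 6061) (l := 7) rfl N6061 D12448
theorem N7436 : nd 7436 = n12449 := ndS (p := 6062) (l := 7) rfl N6062 D12449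
theorem N7437 : nd 7437 = n12450 := ndS (p := 6062) (l := 8) rfl N6062 D12450
theorem N7438 : nd 7438 = n12454 := ndS (p := 6065) (l := 7) rfl N6065 D12454
theorem N7439 : nd 7439 = n12455 := ndS (p := 6066) (l := 7) rfl N6066 D12455
theorem N7440 : nd 7440 = n12456 := ndS (p := 6066) (l := 8) rfl N6066 D12456
theorem N7441 : nd 7441 = n12458 := ndS (p := 6068) (l := 6) rfl N6068 D12458
theorem N7442 : nd 7442 = n12459 := ndS (p := 6069) (l := 5) rfl N6069 D12459
theorem N7443 : nd 7443 = n12460 := ndS (p := 6069) (l := 7) rfl N6069 D12460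
theorem N7444 : nd 7444 = n12461 := ndS (p := 6070) (l := 7) rfl N6070 D12461
theorem N7445 : nd 7445 = n12462 := ndS (p := 6070) (l := 8) rfl N6070 D12462
theorem N7446 : nd 7446 = n12463 := ndS (p := 6072) (l := 6) rfl N6072 D12463
theorem N7447 : nd 7447 = n12464 := ndS (p := 6072) (l := 8) rfl N6072 D12464
theorem N7448 : nd 7448 = n12465 := ndS (p := 6073) (l := 9) rfl N6073 D12465
theorem N7449 : nd 7449 = n12466 := ndS (p := 6074) (l := 8) rfl N6074 D12466
theorem N7450 : nd 7450 = n12467 := ndS (p := 6075) (l := 9) rfl N6075 D12467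
theorem N7451 : nd 7451 = n12468 := ndS (p := 6077) (l := 2) rfl N6077 D12468
theorem N7452 : nd 7452 = n12469 := ndS (p := 6077) (l := 6) rfl N6077 D12469
theorem N7453 : nd 7453 = n12470 := ndS (p := 6078) (l := 5) rfl N6078 D12470
theorem N7454 : nd 7454 = n12471 := ndS (p := 6078) (l := 7) rfl N6078 D12471
theorem N7455 : nd 7455 = n12474 := ndS (p := 6081) (l := 5) rfl N6081 D12474
theorem N7456 : nd 7456 = n12475 := ndS (p := 6081) (l := 7) rfl N6081 D12475
theorem N7457 : nd 7457 = n12476 := ndS (p := 6082) (l := 7) rfl N6082 D12476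
theorem N7458 : nd 7458 = n12477 := ndS (p := 6082) (l := 8) rfl N6082 D12477
theorem N7459 : nd 7459 = n12478 := ndS (p := 6084) (l := 1) rfl N6084 D12478
theorem N7460 : nd 7460 = n12479 := ndS (p := 6084) (l := 6) rfl N6084 D12479
theorem N7461 : nd 7461 = n12480 := ndS (p := 6085) (l := 5) rfl N6085 D12480
theorem N7462 : nd 7462 = n12481 := ndS (p := 6085) (l := 7) rfl N6085 D12481
theorem N7463 : nd 7463 = n12482 := ndS (p := 6086) (l := 7) rfl N6086 D12482
theorem N7464 : nd 7464 = n12483 := ndS (p := 6086) (l := 8) rfl N6086 D12483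
theorem N7465 : nd 7465 = n12485 := ndS (p := 6088) (l := 6) rfl N6088 D12485
theorem N7466 : nd 7466 = n12486 := ndS (p := 6089) (l := 5) rfl N6089 D12486
theorem N7467 : nd 7467 = n12487 := ndS (p := 6089) (l := 7) rfl N6089 D12487
theorem N7468 : nd 7468 = n12488 := ndS (p := 6090) (l := 4) rfl N6090 D12488
theorem N7469 : nd 7469 = n12489 := ndS (p := 6090) (l := 7) rfl N6090 D12489
theorem N7470 : nd 7470 = n12490 := ndS (p := 6092) (l := 6) rfl N6092 D12490
theorem N7471 : nd 7471 = n12498 := ndS (p := 6094) (l := 8) rfl N6094 D12498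
theorem N7472 : nd 7472 = n12506 := ndS (p := 6098) (l := 4) rfl N6098 D12506
theorem N7473 : nd 7473 = n12507 := ndS (p := 6098) (l := 6) rfl N6098 D12507
theorem N7474 : nd 7474 = n12508 := ndS (p := 6099) (l := 3) rfl N6099 D12508
theorem N7475 : nd 7475 = n12509 := ndS (p := 6099) (l := 6) rfl N6099 D12509
theorem N7476 : nd 7476 = n12510 := ndS (p := 6100) (l := 7) rfl N6100 D12510
theorem N7477 : nd 7477 = n12511 := ndS (p := 6101) (l := 3) rfl N6101 D12511
theorem N7478 : nd 7478 = n12512 := ndS (p := 6101) (l := 6) rfl N6101 D12512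
theorem N7479 : nd 7479 = n12513 := ndS (p := 6102) (l := 7) rfl N6102 D12513
theorem N7480 : nd 7480 = n12515 := ndS (p := 6103) (l := 6) rfl N6103 D12515
theorem N7481 : nd 7481 = n12517 := ndS (p := 6104) (l := 7) rfl N6104 D12517
theorem N7482 : nd 7482 = n12521 := ndS (p := 6106) (l := 7) rfl N6106 D12521
theorem N7483 : nd 7483 = n12524 := ndS (p := 6108) (l := 3) rfl N6108 D12524
theorem N7484 : nd 7484 = n12525 := ndS (p := 6108) (l := 6) rfl N6108 D12525
theorem N7485 : nd 7485 = n12526 := ndS (p := 6109) (l := 7) rfl N6109 D12526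
theorem N7486 : nd 7486 = n12527 := ndS (p := 6110) (l := 2) rfl N6110 D12527
theorem N7487 : nd 7487 = n12528 := ndS (p := 6110) (l := 6) rfl N6110 D12528
theorem N7488 : nd 7488 = n12529 := ndS (p := 6111) (l := 5) rfl N6111 D12529
theorem N7489 : nd 7489 = n12530 := ndS (p := 6111) (l := 7) rfl N6111 D12530
theorem N7490 : nd 7490 = n12531 := ndS (p := 6113) (l := 2) rfl N6113 D12531
theorem N7491 : nd 7491 = n12532 := ndS (p := 6113) (l := 6) rfl N6113 D12532
theorem N7492 : nd 7492 = n12533 := ndS (p := 6114) (l := 5) rfl N6114 D12533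
theorem N7493 : nd 7493 = n12534 := ndS (p := 6114) (l := 7) rfl N6114 D12534
theorem N7494 : nd 7494 = n12535 := ndS (p := 6116) (l := 1) rfl N6116 D12535
theorem N7495 : nd 7495 = n12536 := ndS (p := 6116) (l := 6) rfl N6116 D12536
theorem N7496 : nd 7496 = n12537 := ndS (p := 6117) (l := 5) rfl N6117 D12537
theorem N7497 : nd 7497 = n12538 := ndS (p := 6117) (l := 7) rfl N6117 D12538
theorem N7498 : nd 7498 = n12539 := ndS (p := 6118) (l := 7) rfl N6118 D12539
theorem N7499 : nd 7499 = n12549 := ndS (p := 6122) (l := 2) rfl N6122 D12549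
theorem N7500 : nd 7500 = n12550 := ndS (p := 6122) (l := 6) rfl N6122 D12550
theorem N7501 : nd 7501 = n12551 := ndS (p := 6123) (l := 5) rfl N6123 D12551
theorem N7502 : nd 7502 = n12552 := ndS (p := 6123) (l := 7) rfl N6123 D12552
theorem N7503 : nd 7503 = n12553 := ndS (p := 6125) (l := 1) rfl N6125 D12553
theorem N7504 : nd 7504 = n12554 := ndS (p := 6125) (l := 6) rfl N6125 D12554
theorem N7505 : nd 7505 = n12555 := ndS (p := 6126) (l := 5) rfl N6126 D12555
theorem N7506 : nd 7506 = n12556 := ndS (p := 6126) (l := 7) rfl N6126 D12556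
theorem N7507 : nd 7507 = n12557 := ndS (p := 6127) (l := 7) rfl N6127 D12557
theorem N7508 : nd 7508 = n12558 := ndS (p := 6127) (l := 8) rfl N6127 D12558
theorem N7509 : nd 7509 = n12562 := ndS (p := 6130) (l := 7) rfl N6130 D12562
theorem N7510 : nd 7510 = n12563 := ndS (p := 6131) (l := 7) rfl N6131 D12563
theorem N7511 : nd 7511 = n12564 := ndS (p := 6131) (l := 8) rfl N6131 D12564
theorem N7512 : nd 7512 = n12566 := ndS (p := 6133) (l := 6) rfl N6133 D12566
theorem N7513 : nd 7513 = n12567 := ndS (p := 6134) (l := 5) rfl N6134 D12567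
theorem N7514 : nd 7514 = n12568 := ndS (p := 6134) (l := 7) rfl N6134 D12568
theorem N7515 : nd 7515 = n12569 := ndS (p := 6135) (l := 4) rfl N6135 D12569
theorem N7516 : nd 7516 = n12570 := ndS (p := 6135) (l := 7) rfl N6135 D12570
theorem N7517 : nd 7517 = n12571 := ndS (p := 6135) (l := 8) rfl N6135 D12571
theorem N7518 : nd 7518 = n12572 := ndS (p := 6137) (l := 6) rfl N6137 D12572
theorem N7519 : nd 7519 = n12573 := ndS (p := 6137) (l := 8) rfl N6137 D12573
theorem N7520 : nd 7520 = n12574 := ndS (p := 6138) (l := 9) rfl N6138 D12574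
theorem N7521 : nd 7521 = n12575 := ndS (p := 6139) (l := 7) rfl N6139 D12575
theorem N7522 : nd 7522 = n12580 := ndS (p := 6141) (l := 8) rfl N6141 D12580
theorem N7523 : nd 7523 = n12581 := ndS (p := 6142) (l := 9) rfl N6142 D12581
theorem N7524 : nd 7524 = n12582 := ndS (p := 6144) (l := 1) rfl N6144 D12582
theorem N7525 : nd 7525 = n12583 := ndS (p := 6144) (l := 6) rfl N6144 D12583
theorem N7526 : nd 7526 = n12584 := ndS (p := 6145) (l := 5) rfl N6145 D12584
theorem N7527 : nd 7527 = n12585 := ndS (p := 6145) (l := 7) rfl N6145 D12585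
theorem N7528 : nd 7528 = n12586 := ndS (p := 6146) (l := 7) rfl N6146 D12586
theorem N7529 : nd 7529 = n12587 := ndS (p := 6146) (l := 8) rfl N6146 D12587
theorem N7530 : nd 7530 = n12589 := ndS (p := 6148) (l := 6) rfl N6148 D12589
theorem N7531 : nd 7531 = n12590 := ndS (p := 6149) (l := 5) rfl N6149 D12590
theorem N7532 : nd 7532 = n12591 := ndS (p := 6149) (l := 7) rfl N6149 D12591
theorem N7533 : nd 7533 = n12592 := ndS (p := 6150) (l := 4) rfl N6150 D12592
theorem N7534 : nd 7534 = n12593 := ndS (p := 6150) (l := 7) rfl N6150 D12593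
theorem N7535 : nd 7535 = n12594 := ndS (p := 6150) (l := 8) rfl N6150 D12594
theorem N7536 : nd 7536 = n12595 := ndS (p := 6152) (l := 6) rfl N6152 D12595
theorem N7537 : nd 7537 = n12596 := ndS (p := 6152) (l := 8) rfl N6152 D12596
theorem N7538 : nd 7538 = n12597 := ndS (p := 6153) (l := 9) rfl N6153 D12597
theorem N7539 : nd 7539 = n12605 := ndS (p := 6155) (l := 6) rfl N6155 D12605
theorem N7540 : nd 7540 = n12606 := ndS (p := 6155) (l := 8) rfl N6155 D12606
theorem N7541 : nd 7541 = n12607 := ndS (p := 6156) (l := 9) rfl N6156 D12607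
theorem N7542 : nd 7542 = n12609 := ndS (p := 6157) (l := 5) rfl N6157 D12609
theorem N7543 : nd 7543 = n12611 := ndS (p := 6158) (l := 7) rfl N6158 D12611
theorem N7544 : nd 7544 = n12612 := ndS (p := 6158) (l := 8) rfl N6158 D12612
theorem N7545 : nd 7545 = n12613 := ndS (p := 6160) (l := 6) rfl N6160 D12613
theorem N7546 : nd 7546 = n12614 := ndS (p := 6160) (l := 8) rfl N6160 D12614
theorem N7547 : nd 7547 = n12615 := ndS (p := 6161) (l := 9) rfl N6161 D12615
theorem N7548 : nd 7548 = n12616 := ndS (p := 6162) (l := 8) rfl N6162 D12616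
theorem N7549 : nd 7549 = n12617 := ndS (p := 6163) (l := 9) rfl N6163 D12617
theorem N7550 : nd 7550 = n12618 := ndS (p := 6165) (l := 5) rfl N6165 D12618
theorem N7551 : nd 7551 = n12619 := ndS (p := 6165) (l := 9) rfl N6165 D12619
theorem N7552 : nd 7552 = n12621 := ndS (p := 6167) (l := 6) rfl N6167 D12621
theorem N7553 : nd 7553 = n12623 := ndS (p := 6168) (l := 7) rfl N6168 D12623
theorem N7554 : nd 7554 = n12624 := ndS (p := 6169) (l := 4) rfl N6169 D12624
theorem N7555 : nd 7555 = n12625 := ndS (p := 6169) (l := 7) rfl N6169 D12625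
theorem N7556 : nd 7556 = n12626 := ndS (p := 6169) (l := 8) rfl N6169 D12626
theorem N7557 : nd 7557 = n12627 := ndS (p := 6171) (l := 8) rfl N6171 D12627
theorem N7558 : nd 7558 = n12633 := ndS (p := 6175) (l := 7) rfl N6175 D12633
theorem N7559 : nd 7559 = n12648 := ndS (p := 6177) (l := 8) rfl N6177 D12648
theorem N7560 : nd 7560 = n12652 := ndS (p := 6179) (l := 3) rfl N6179 D12652
theorem N7561 : nd 7561 = n12655 := ndS (p := 6180) (l := 3) rfl N6180 D12655
theorem N7562 : nd 7562 = n12668 := ndS (p := 6182) (l := 3) rfl N6182 D12668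
theorem N7563 : nd 7563 = n12669 := ndS (p := 6182) (l := 6) rfl N6182 D12669
theorem N7564 : nd 7564 = n12670 := ndS (p := 6183) (l := 7) rfl N6183 D12670
theorem N7565 : nd 7565 = n12671 := ndS (p := 6184) (l := 3) rfl N6184 D12671
theorem N7566 : nd 7566 = n12672 := ndS (p := 6184) (l := 6) rfl N6184 D12672
theorem N7567 : nd 7567 = n12674 := ndS (p := 6186) (l := 2) rfl N6186 D12674
theorem N7568 : nd 7568 = n12675 := ndS (p := 6186) (l := 6) rfl N6186 D12675
theorem N7569 : nd 7569 = n12676 := ndS (p := 6187) (l := 5) rfl N6187 D12676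
theorem N7570 : nd 7570 = n12678 := ndS (p := 6188) (l := 2) rfl N6188 D12678
theorem N7571 : nd 7571 = n12679 := ndS (p := 6188) (l := 6) rfl N6188 D12679
theorem N7572 : nd 7572 = n12680 := ndS (p := 6189) (l := 5) rfl N6189 D12680
theorem N7573 : nd 7573 = n12696 := ndS (p := 6192) (l := 3) rfl N6192 D12696
theorem N7574 : nd 7574 = n12697 := ndS (p := 6192) (l := 6) rfl N6192 D12697
theorem N7575 : nd 7575 = n12698 := ndS (p := 6193) (l := 7) rfl N6193 D12698
theorem N7576 : nd 7576 = n12699 := ndS (p := 6194) (l := 3) rfl N6194 D12699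
theorem N7577 : nd 7577 = n12700 := ndS (p := 6194) (l := 6) rfl N6194 D12700
theorem N7578 : nd 7578 = n12701 := ndS (p := 6195) (l := 7) rfl N6195 D12701
theorem N7579 : nd 7579 = n12702 := ndS (p := 6196) (l := 2) rfl N6196 D12702
theorem N7580 : nd 7580 = n12703 := ndS (p := 6196) (l := 6) rfl N6196 D12703
theorem N7581 : nd 7581 = n12704 := ndS (p := 6197) (l := 5) rfl N6197 D12704
theorem N7582 : nd 7582 = n12705 := ndS (p := 6197) (l := 7) rfl N6197 D12705
theorem N7583 : nd 7583 = n12711 := ndS (p := 6202) (l := 5) rfl N6202 D12711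
theorem N7584 : nd 7584 = n12712 := ndS (p := 6202) (l := 7) rfl N6202 D12712
theorem N7585 : nd 7585 = n12713 := ndS (p := 6204) (l := 1) rfl N6204 D12713
theorem N7586 : nd 7586 = n12714 := ndS (p := 6204) (l := 6) rfl N6204 D12714
theorem N7587 : nd 7587 = n12715 := ndS (p := 6205) (l := 5) rfl N6205 D12715
theorem N7588 : nd 7588 = n12717 := ndS (p := 6206) (l := 7) rfl N6206 D12717
theorem N7589 : nd 7589 = n12718 := ndS (p := 6206) (l := 8) rfl N6206 D12718
theorem N7590 : nd 7590 = n12723 := ndS (p := 6208) (l := 7) rfl N6208 D12723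
theorem N7591 : nd 7591 = n12724 := ndS (p := 6208) (l := 8) rfl N6208 D12724
theorem N7592 : nd 7592 = n12727 := ndS (p := 6211) (l := 5) rfl N6211 D12727
theorem N7593 : nd 7593 = n12729 := ndS (p := 6212) (l := 4) rfl N6212 D12729
theorem N7594 : nd 7594 = n12731 := ndS (p := 6212) (l := 8) rfl N6212 D12731
theorem N7595 : nd 7595 = n12734 := ndS (p := 6213) (l := 9) rfl N6213 D12734
theorem N7596 : nd 7596 = n12736 := ndS (p := 6214) (l := 8) rfl N6214 D12736
theorem N7597 : nd 7597 = n12743 := ndS (p := 6217) (l := 6) rfl N6217 D12743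
theorem N7598 : nd 7598 = n12744 := ndS (p := 6218) (l := 7) rfl N6218 D12744
theorem N7599 : nd 7599 = n12746 := ndS (p := 6219) (l := 6) rfl N6219 D12746
theorem N7600 : nd 7600 = n12747 := ndS (p := 6220) (l := 5) rfl N6220 D12747
theorem N7601 : nd 7601 = n12748 := ndS (p := 6220) (l := 7) rfl N6220 D12748
theorem N7602 : nd 7602 = n12750 := ndS (p := 6222) (l := 6) rfl N6222 D12750
theorem N7603 : nd 7603 = n12751 := ndS (p := 6223) (l := 5) rfl N6223 D12751
theorem N7604 : nd 7604 = n12752 := ndS (p := 6223) (l := 7) rfl N6223 D12752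
theorem N7605 : nd 7605 = n12753 := ndS (p := 6224) (l := 7) rfl N6224 D12753
theorem N7606 : nd 7606 = n12754 := ndS (p := 6224) (l := 8) rfl N6224 D12754
theorem N7607 : nd 7607 = n12764 := ndS (p := 6226) (l := 8) rfl N6226 D12764
theorem N7608 : nd 7608 = n12767 := ndS (p := 6228) (l := 5) rfl N6228 D12767
theorem N7609 : nd 7609 = n12769 := ndS (p := 6229) (l := 4) rfl N6229 D12769
theorem N7610 : nd 7610 = n12770 := ndS (p := 6229) (l := 7) rfl N6229 D12770
theorem N7611 : nd 7611 = n12771 := ndS (p := 6229) (l := 8) rfl N6229 D12771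
theorem N7612 : nd 7612 = n12772 := ndS (p := 6231) (l := 6) rfl N6231 D12772
theorem N7613 : nd 7613 = n12773 := ndS (p := 6231) (l := 8) rfl N6231 D12773
theorem N7614 : nd 7614 = n12774 := ndS (p := 6232) (l := 9) rfl N6232 D12774
theorem N7615 : nd 7615 = n12782 := ndS (p := 6233) (l := 6) rfl N6233 D12782
theorem N7616 : nd 7616 = n12783 := ndS (p := 6233) (l := 8) rfl N6233 D12783
theorem N7617 : nd 7617 = n12784 := ndS (p := 6234) (l := 9) rfl N6234 D12784
theorem N7618 : nd 7618 = n12789 := ndS (p := 6235) (l := 8) rfl N6235 D12789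
theorem N7619 : nd 7619 = n12790 := ndS (p := 6236) (l := 6) rfl N6236 D12790
theorem N7620 : nd 7620 = n12791 := ndS (p := 6236) (l := 8) rfl N6236 D12791
theorem N7621 : nd 7621 = n12792 := ndS (p := 6237) (l := 9) rfl N6237 D12792
theorem N7622 : nd 7622 = n12793 := ndS (p := 6238) (l := 8) rfl N6238 D12793
theorem N7623 : nd 7623 = n12794 := ndS (p := 6239) (l := 9) rfl N6239 D12794
theorem N7624 : nd 7624 = n12795 := ndS (p := 6241) (l := 5) rfl N6241 D12795
theorem N7625 : nd 7625 = n12796 := ndS (p := 6241) (l := 9) rfl N6241 D12796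
theorem N7626 : nd 7626 = n12863 := ndS (p := 6248) (l := 8) rfl N6248 D12863
theorem N7627 : nd 7627 = n12892 := ndS (p := 6249) (l := 8) rfl N6249 D12892
theorem N7628 : nd 7628 = n12893 := ndS (p := 6250) (l := 9) rfl N6250 D12893
theorem N7629 : nd 7629 = n12897 := ndS (p := 6251) (l := 4) rfl N6251 D12897
theorem N7630 : nd 7630 = n12899 := ndS (p := 6251) (l := 8) rfl N6251 D12899
theorem N7631 : nd 7631 = n12904 := ndS (p := 6253) (l := 9) rfl N6253 D12904
theorem N7632 : nd 7632 = n12926 := ndS (p := 6255) (l := 8) rfl N6255 D12926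
theorem N7633 : nd 7633 = n12927 := ndS (p := 6256) (l := 9) rfl N6256 D12927
theorem N7634 : nd 7634 = n12934 := ndS (p := 6258) (l := 9) rfl N6258 D12934
theorem N7635 : nd 7635 = n12935 := ndS (p := 6259) (l := 8) rfl N6259 D12935
theorem N7636 : nd 7636 = n12936 := ndS (p := 6260) (l := 9) rfl N6260 D12936
theorem N7637 : nd 7637 = n12937 := ndS (p := 6262) (l := 5) rfl N6262 D12937
theorem N7638 : nd 7638 = n12938 := ndS (p := 6262) (l := 9) rfl N6262 D12938
theorem N7639 : nd 7639 = n12939 := ndS (p := 6264) (l := 4) rfl N6264 D12939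
theorem N7640 : nd 7640 = n12940 := ndS (p := 6264) (l := 9) rfl N6264 D12940
theorem N7641 : nd 7641 = n13002 := ndS (p := 6268) (l := 4) rfl N6268 D13002
theorem N7642 : nd 7642 = n13003 := ndS (p := 6268) (l := 6) rfl N6268 D13003
theorem N7643 : nd 7643 = n13004 := ndS (p := 6269) (l := 4) rfl N6269 D13004
theorem N7644 : nd 7644 = n13005 := ndS (p := 6269) (l := 6) rfl N6269 D13005
theorem N7645 : nd 7645 = n13006 := ndS (p := 6270) (l := 3) rfl N6270 D13006
theorem N7646 : nd 7646 = n13007 := ndS (p := 6270) (l := 6) rfl N6270 D13007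
theorem N7647 : nd 7647 = n13008 := ndS (p := 6271) (l := 7) rfl N6271 D13008
theorem N7648 : nd 7648 = n13011 := ndS (p := 6272) (l := 5) rfl N6272 D13011
theorem N7649 : nd 7649 = n13012 := ndS (p := 6272) (l := 7) rfl N6272 D13012
theorem N7650 : nd 7650 = n13013 := ndS (p := 6274) (l := 3) rfl N6274 D13013
theorem N7651 : nd 7651 = n13014 := ndS (p := 6274) (l := 6) rfl N6274 D13014
theorem N7652 : nd 7652 = n13015 := ndS (p := 6275) (l := 7) rfl N6275 D13015
theorem N7653 : nd 7653 = n13016 := ndS (p := 6276) (l := 3) rfl N6276 D13016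
theorem N7654 : nd 7654 = n13017 := ndS (p := 6276) (l := 6) rfl N6276 D13017
theorem N7655 : nd 7655 = n13018 := ndS (p := 6277) (l := 7) rfl N6277 D13018
theorem N7656 : nd 7656 = n13019 := ndS (p := 6278) (l := 2) rfl N6278 D13019
theorem N7657 : nd 7657 = n13020 := ndS (p := 6278) (l := 6) rfl N6278 D13020
theorem N7658 : nd 7658 = n13021 := ndS (p := 6279) (l := 5) rfl N6279 D13021
theorem N7659 : nd 7659 = n13022 := ndS (p := 6279) (l := 7) rfl N6279 D13022
theorem N7660 : nd 7660 = n13026 := ndS (p := 6281) (l := 7) rfl N6281 D13026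
theorem N7661 : nd 7661 = n13028 := ndS (p := 6283) (l := 3) rfl N6283 D13028
theorem N7662 : nd 7662 = n13029 := ndS (p := 6283) (l := 6) rfl N6283 D13029
theorem N7663 : nd 7663 = n13030 := ndS (p := 6284) (l := 7) rfl N6284 D13030
theorem N7664 : nd 7664 = n13031 := ndS (p := 6285) (l := 3) rfl N6285 D13031
theorem N7665 : nd 7665 = n13032 := ndS (p := 6285) (l := 6) rfl N6285 D13032
theorem N7666 : nd 7666 = n13033 := ndS (p := 6286) (l := 7) rfl N6286 D13033
theorem N7667 : nd 7667 = n13034 := ndS (p := 6287) (l := 3) rfl N6287 D13034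
theorem N7668 : nd 7668 = n13035 := ndS (p := 6287) (l := 6) rfl N6287 D13035
theorem N7669 : nd 7669 = n13036 := ndS (p := 6288) (l := 7) rfl N6288 D13036
theorem N7670 : nd 7670 = n13037 := ndS (p := 6289) (l := 2) rfl N6289 D13037
theorem N7671 : nd 7671 = n13038 := ndS (p := 6289) (l := 6) rfl N6289 D13038
theorem N7672 : nd 7672 = n13039 := ndS (p := 6290) (l := 5) rfl N6290 D13039
theorem N7673 : nd 7673 = n13040 := ndS (p := 6290) (l := 7) rfl N6290 D13040
theorem N7674 : nd 7674 = n13041 := ndS (p := 6292) (l := 2) rfl N6292 D13041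
theorem N7675 : nd 7675 = n13042 := ndS (p := 6292) (l := 6) rfl N6292 D13042
theorem N7676 : nd 7676 = n13043 := ndS (p := 6293) (l := 5) rfl N6293 D13043
theorem N7677 : nd 7677 = n13044 := ndS (p := 6293) (l := 7) rfl N6293 D13044
theorem N7678 : nd 7678 = n13045 := ndS (p := 6295) (l := 1) rfl N6295 D13045
theorem N7679 : nd 7679 = n13046 := ndS (p := 6295) (l := 6) rfl N6295 D13046
theorem N7680 : nd 7680 = n13047 := ndS (p := 6296) (l := 5) rfl N6296 D13047
theorem N7681 : nd 7681 = n13048 := ndS (p := 6296) (l := 7) rfl N6296 D13048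
theorem N7682 : nd 7682 = n13049 := ndS (p := 6297) (l := 7) rfl N6297 D13049
theorem N7683 : nd 7683 = n13050 := ndS (p := 6297) (l := 8) rfl N6297 D13050
theorem N7684 : nd 7684 = n13051 := ndS (p := 6299) (l := 4) rfl N6299 D13051
theorem N7685 : nd 7685 = n13052 := ndS (p := 6299) (l := 7) rfl N6299 D13052
theorem N7686 : nd 7686 = n13054 := ndS (p := 6301) (l := 6) rfl N6301 D13054
theorem N7687 : nd 7687 = n13055 := ndS (p := 6301) (l := 8) rfl N6301 D13055
theorem N7688 : nd 7688 = n13056 := ndS (p := 6302) (l := 9) rfl N6302 D13056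
theorem N7689 : nd 7689 = n13057 := ndS (p := 6303) (l := 2) rfl N6303 D13057
theorem N7690 : nd 7690 = n13058 := ndS (p := 6303) (l := 6) rfl N6303 D13058
theorem N7691 : nd 7691 = n13059 := ndS (p := 6304) (l := 5) rfl N6304 D13059
theorem N7692 : nd 7692 = n13060 := ndS (p := 6304) (l := 7) rfl N6304 D13060
theorem N7693 : nd 7693 = n13061 := ndS (p := 6306) (l := 3) rfl N6306 D13061
theorem N7694 : nd 7694 = n13062 := ndS (p := 6306) (l := 6) rfl N6306 D13062
theorem N7695 : nd 7695 = n13063 := ndS (p := 6307) (l := 7) rfl N6307 D13063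
theorem N7696 : nd 7696 = n13064 := ndS (p := 6308) (l := 2) rfl N6308 D13064
theorem N7697 : nd 7697 = n13065 := ndS (p := 6308) (l := 6) rfl N6308 D13065
theorem N7698 : nd 7698 = n13066 := ndS (p := 6309) (l := 5) rfl N6309 D13066
theorem N7699 : nd 7699 = n13067 := ndS (p := 6309) (l := 7) rfl N6309 D13067
theorem N7700 : nd 7700 = n13068 := ndS (p := 6311) (l := 2) rfl N6311 D13068
theorem N7701 : nd 7701 = n13069 := ndS (p := 6311) (l := 6) rfl N6311 D13069
theorem N7702 : nd 7702 = n13070 := ndS (p := 6312) (l := 5) rfl N6312 D13070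
theorem N7703 : nd 7703 = n13071 := ndS (p := 6312) (l := 7) rfl N6312 D13071
theorem N7704 : nd 7704 = n13072 := ndS (p := 6314) (l := 1) rfl N6314 D13072
theorem N7705 : nd 7705 = n13073 := ndS (p := 6314) (l := 6) rfl N6314 D13073
theorem N7706 : nd 7706 = n13074 := ndS (p := 6315) (l := 5) rfl N6315 D13074
theorem N7707 : nd 7707 = n13075 := ndS (p := 6315) (l := 7) rfl N6315 D13075
theorem N7708 : nd 7708 = n13076 := ndS (p := 6316) (l := 7) rfl N6316 D13076
theorem N7709 : nd 7709 = n13077 := ndS (p := 6316) (l := 8) rfl N6316 D13077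
theorem N7710 : nd 7710 = n13078 := ndS (p := 6318) (l := 1) rfl N6318 D13078
theorem N7711 : nd 7711 = n13079 := ndS (p := 6318) (l := 6) rfl N6318 D13079
theorem N7712 : nd 7712 = n13080 := ndS (p := 6319) (l := 5) rfl N6319 D13080
theorem N7713 : nd 7713 = n13081 := ndS (p := 6319) (l := 7) rfl N6319 D13081
theorem N7714 : nd 7714 = n13082 := ndS (p := 6320) (l := 7) rfl N6320 D13082
theorem N7715 : nd 7715 = n13083 := ndS (p := 6320) (l := 8) rfl N6320 D13083
theorem N7716 : nd 7716 = n13084 := ndS (p := 6322) (l := 0) rfl N6322 D13084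
theorem N7717 : nd 7717 = n13085 := ndS (p := 6322) (l := 6) rfl N6322 D13085
theorem N7718 : nd 7718 = n13086 := ndS (p := 6323) (l := 5) rfl N6323 D13086
theorem N7719 : nd 7719 = n13087 := ndS (p := 6323) (l := 7) rfl N6323 D13087
theorem N7720 : nd 7720 = n13088 := ndS (p := 6324) (l := 7) rfl N6324 D13088
theorem N7721 : nd 7721 = n13089 := ndS (p := 6324) (l := 8) rfl N6324 D13089
theorem N7722 : nd 7722 = n13090 := ndS (p := 6326) (l := 6) rfl N6326 D13090
theorem N7723 : nd 7723 = n13091 := ndS (p := 6326) (l := 8) rfl N6326 D13091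
theorem N7724 : nd 7724 = n13092 := ndS (p := 6327) (l := 9) rfl N6327 D13092
theorem N7725 : nd 7725 = n13093 := ndS (p := 6328) (l := 8) rfl N6328 D13093
theorem N7726 : nd 7726 = n13094 := ndS (p := 6329) (l := 9) rfl N6329 D13094
theorem N7727 : nd 7727 = n13095 := ndS (p := 6331) (l := 3) rfl N6331 D13095
theorem N7728 : nd 7728 = n13096 := ndS (p := 6331) (l := 6) rfl N6331 D13096
theorem N7729 : nd 7729 = n13097 := ndS (p := 6332) (l := 7) rfl N6332 D13097
theorem N7730 : nd 7730 = n13098 := ndS (p := 6333) (l := 2) rfl N6333 D13098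
theorem N7731 : nd 7731 = n13099 := ndS (p := 6333) (l := 6) rfl N6333 D13099
theorem N7732 : nd 7732 = n13100 := ndS (p := 6334) (l := 5) rfl N6334 D13100
theorem N7733 : nd 7733 = n13101 := ndS (p := 6334) (l := 7) rfl N6334 D13101
theorem N7734 : nd 7734 = n13102 := ndS (p := 6336) (l := 2) rfl N6336 D13102
theorem N7735 : nd 7735 = n13103 := ndS (p := 6336) (l := 6) rfl N6336 D13103
theorem N7736 : nd 7736 = n13104 := ndS (p := 6337) (l := 5) rfl N6337 D13104
theorem N7737 : nd 7737 = n13105 := ndS (p := 6337) (l := 7) rfl N6337 D13105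
theorem N7738 : nd 7738 = n13106 := ndS (p := 6339) (l := 1) rfl N6339 D13106
theorem N7739 : nd 7739 = n13107 := ndS (p := 6339) (l := 6) rfl N6339 D13107
theorem N7740 : nd 7740 = n13108 := ndS (p := 6340) (l := 5) rfl N6340 D13108
theorem N7741 : nd 7741 = n13109 := ndS (p := 6340) (l := 7) rfl N6340 D13109
theorem N7742 : nd 7742 = n13110 := ndS (p := 6341) (l := 7) rfl N6341 D13110
theorem N7743 : nd 7743 = n13111 := ndS (p := 6341) (l := 8) rfl N6341 D13111
theorem N7744 : nd 7744 = n13112 := ndS (p := 6343) (l := 1) rfl N6343 D13112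
theorem N7745 : nd 7745 = n13113 := ndS (p := 6343) (l := 6) rfl N6343 D13113
theorem N7746 : nd 7746 = n13114 := ndS (p := 6344) (l := 5) rfl N6344 D13114
theorem N7747 : nd 7747 = n13115 := ndS (p := 6344) (l := 7) rfl N6344 D13115
theorem N7748 : nd 7748 = n13116 := ndS (p := 6345) (l := 7) rfl N6345 D13116
theorem N7749 : nd 7749 = n13117 := ndS (p := 6345) (l := 8) rfl N6345 D13117
theorem N7750 : nd 7750 = n13118 := ndS (p := 6347) (l := 0) rfl N6347 D13118
theorem N7751 : nd 7751 = n13119 := ndS (p := 6347) (l := 6) rfl N6347 D13119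
theorem N7752 : nd 7752 = n13120 := ndS (p := 6348) (l := 5) rfl N6348 D13120
theorem N7753 : nd 7753 = n13121 := ndS (p := 6348) (l := 7) rfl N6348 D13121
theorem N7754 : nd 7754 = n13122 := ndS (p := 6349) (l := 4) rfl N6349 D13122
theorem N7755 : nd 7755 = n13123 := ndS (p := 6349) (l := 7) rfl N6349 D13123
theorem N7756 : nd 7756 = n13124 := ndS (p := 6351) (l := 6) rfl N6351 D13124
theorem N7757 : nd 7757 = n13125 := ndS (p := 6352) (l := 0) rfl N6352 D13125
theorem N7758 : nd 7758 = n13126 := ndS (p := 6352) (l := 6) rfl N6352 D13126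
theorem N7759 : nd 7759 = n13127 := ndS (p := 6353) (l := 5) rfl N6353 D13127
theorem N7760 : nd 7760 = n13128 := ndS (p := 6353) (l := 7) rfl N6353 D13128
theorem N7761 : nd 7761 = n13129 := ndS (p := 6354) (l := 4) rfl N6354 D13129
theorem N7762 : nd 7762 = n13130 := ndS (p := 6354) (l := 7) rfl N6354 D13130
theorem N7763 : nd 7763 = n13131 := ndS (p := 6354) (l := 8) rfl N6354 D13131
theorem N7764 : nd 7764 = n13132 := ndS (p := 6356) (l := 8) rfl N6356 D13132
theorem N7765 : nd 7765 = n13133 := ndS (p := 6357) (l := 9) rfl N6357 D13133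
theorem N7766 : nd 7766 = n13134 := ndS (p := 6358) (l := 6) rfl N6358 D13134
theorem N7767 : nd 7767 = n13135 := ndS (p := 6359) (l := 7) rfl N6359 D13135
theorem N7768 : nd 7768 = n13136 := ndS (p := 6361) (l := 6) rfl N6361 D13136
theorem N7769 : nd 7769 = n13137 := ndS (p := 6367) (l := 4) rfl N6367 D13137
theorem N7770 : nd 7770 = n13138 := ndS (p := 6367) (l := 6) rfl N6367 D13138
theorem N7771 : nd 7771 = n13140 := ndS (p := 6368) (l := 6) rfl N6368 D13140
theorem N7772 : nd 7772 = n13141 := ndS (p := 6369) (l := 7) rfl N6369 D13141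
theorem N7773 : nd 7773 = n13143 := ndS (p := 6370) (l := 6) rfl N6370 D13143
theorem N7774 : nd 7774 = n13144 := ndS (p := 6371) (l := 7) rfl N6371 D13144
theorem N7775 : nd 7775 = n13148 := ndS (p := 6372) (l := 7) rfl N6372 D13148
theorem N7776 : nd 7776 = n13156 := ndS (p := 6375) (l := 6) rfl N6375 D13156
theorem N7777 : nd 7777 = n13157 := ndS (p := 6376) (l := 7) rfl N6376 D13157
theorem N7778 : nd 7778 = n13159 := ndS (p := 6377) (l := 6) rfl N6377 D13159
theorem N7779 : nd 7779 = n13160 := ndS (p := 6378) (l := 7) rfl N6378 D13160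
theorem N7780 : nd 7780 = n13162 := ndS (p := 6379) (l := 6) rfl N6379 D13162
theorem N7781 : nd 7781 = n13163 := ndS (p := 6380) (l := 7) rfl N6380 D13163
theorem N7782 : nd 7782 = n13166 := ndS (p := 6381) (l := 5) rfl N6381 D13166
theorem N7783 : nd 7783 = n13167 := ndS (p := 6381) (l := 7) rfl N6381 D13167
theorem N7784 : nd 7784 = n13171 := ndS (p := 6383) (l := 7) rfl N6383 D13171
theorem N7785 : nd 7785 = n13186 := ndS (p := 6386) (l := 3) rfl N6386 D13186
theorem N7786 : nd 7786 = n13187 := ndS (p := 6386) (l := 6) rfl N6386 D13187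
theorem N7787 : nd 7787 = n13188 := ndS (p := 6387) (l := 7) rfl N6387 D13188
theorem N7788 : nd 7788 = n13189 := ndS (p := 6388) (l := 2) rfl N6388 D13189
theorem N7789 : nd 7789 = n13190 := ndS (p := 6388) (l := 6) rfl N6388 D13190
theorem N7790 : nd 7790 = n13191 := ndS (p := 6389) (l := 5) rfl N6389 D13191
theorem N7791 : nd 7791 = n13192 := ndS (p := 6389) (l := 7) rfl N6389 D13192
theorem N7792 : nd 7792 = n13193 := ndS (p := 6391) (l := 3) rfl N6391 D13193
theorem N7793 : nd 7793 = n13194 := ndS (p := 6391) (l := 6) rfl N6391 D13194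
theorem N7794 : nd 7794 = n13195 := ndS (p := 6392) (l := 7) rfl N6392 D13195
theorem N7795 : nd 7795 = n13196 := ndS (p := 6393) (l := 3) rfl N6393 D13196
theorem N7796 : nd 7796 = n13197 := ndS (p := 6393) (l := 6) rfl N6393 D13197
theorem N7797 : nd 7797 = n13198 := ndS (p := 6394) (l := 7) rfl N6394 D13198
theorem N7798 : nd 7798 = n13200 := ndS (p := 6395) (l := 6) rfl N6395 D13200
theorem N7799 : nd 7799 = n13201 := ndS (p := 6396) (l := 5) rfl N6396 D13201
theorem N7800 : nd 7800 = n13202 := ndS (p := 6396) (l := 7) rfl N6396 D13202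
theorem N7801 : nd 7801 = n13203 := ndS (p := 6398) (l := 2) rfl N6398 D13203
theorem N7802 : nd 7802 = n13204 := ndS (p := 6398) (l := 6) rfl N6398 D13204
theorem N7803 : nd 7803 = n13205 := ndS (p := 6399) (l := 5) rfl N6399 D13205
theorem N7804 : nd 7804 = n13206 := ndS (p := 6399) (l := 7) rfl N6399 D13206
theorem N7805 : nd 7805 = n13208 := ndS (p := 6401) (l := 6) rfl N6401 D13208
theorem N7806 : nd 7806 = n13209 := ndS (p := 6402) (l := 5) rfl N6402 D13209
theorem N7807 : nd 7807 = n13210 := ndS (p := 6402) (l := 7) rfl N6402 D13210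
theorem N7808 : nd 7808 = n13211 := ndS (p := 6403) (l := 7) rfl N6403 D13211
theorem N7809 : nd 7809 = n13212 := ndS (p := 6403) (l := 8) rfl N6403 D13212
theorem N7810 : nd 7810 = n13216 := ndS (p := 6405) (l := 7) rfl N6405 D13216
theorem N7811 : nd 7811 = n13217 := ndS (p := 6406) (l := 7) rfl N6406 D13217
theorem N7812 : nd 7812 = n13227 := ndS (p := 6409) (l := 8) rfl N6409 D13227
theorem N7813 : nd 7813 = n13228 := ndS (p := 6410) (l := 9) rfl N6410 D13228
theorem N7814 : nd 7814 = n13235 := ndS (p := 6411) (l := 9) rfl N6411 D13235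
theorem N7815 : nd 7815 = n13237 := ndS (p := 6413) (l := 6) rfl N6413 D13237
theorem N7816 : nd 7816 = n13238 := ndS (p := 6414) (l := 5) rfl N6414 D13238
theorem N7817 : nd 7817 = n13239 := ndS (p := 6414) (l := 7) rfl N6414 D13239
theorem N7818 : nd 7818 = n13240 := ndS (p := 6416) (l := 2) rfl N6416 D13240
theorem N7819 : nd 7819 = n13241 := ndS (p := 6416) (l := 6) rfl N6416 D13241
theorem N7820 : nd 7820 = n13242 := ndS (p := 6417) (l := 5) rfl N6417 D13242
theorem N7821 : nd 7821 = n13243 := ndS (p := 6417) (l := 7) rfl N6417 D13243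
theorem N7822 : nd 7822 = n13245 := ndS (p := 6419) (l := 6) rfl N6419 D13245
theorem N7823 : nd 7823 = n13246 := ndS (p := 6420) (l := 5) rfl N6420 D13246
theorem N7824 : nd 7824 = n13247 := ndS (p := 6420) (l := 7) rfl N6420 D13247
theorem N7825 : nd 7825 = n13248 := ndS (p := 6421) (l := 7) rfl N6421 D13248
theorem N7826 : nd 7826 = n13249 := ndS (p := 6421) (l := 8) rfl N6421 D13249
theorem N7827 : nd 7827 = n13250 := ndS (p := 6423) (l := 2) rfl N6423 D13250
theorem N7828 : nd 7828 = n13251 := ndS (p := 6423) (l := 6) rfl N6423 D13251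
theorem N7829 : nd 7829 = n13252 := ndS (p := 6424) (l := 5) rfl N6424 D13252
theorem N7830 : nd 7830 = n13253 := ndS (p := 6424) (l := 7) rfl N6424 D13253
theorem N7831 : nd 7831 = n13256 := ndS (p := 6427) (l := 5) rfl N6427 D13256
theorem N7832 : nd 7832 = n13257 := ndS (p := 6427) (l := 7) rfl N6427 D13257
theorem N7833 : nd 7833 = n13262 := ndS (p := 6429) (l := 7) rfl N6429 D13262
theorem N7834 : nd 7834 = n13265 := ndS (p := 6431) (l := 6) rfl N6431 D13265
theorem N7835 : nd 7835 = n13266 := ndS (p := 6432) (l := 5) rfl N6432 D13266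
theorem N7836 : nd 7836 = n13267 := ndS (p := 6432) (l := 7) rfl N6432 D13267
theorem N7837 : nd 7837 = n13268 := ndS (p := 6433) (l := 7) rfl N6433 D13268
theorem N7838 : nd 7838 = n13269 := ndS (p := 6433) (l := 8) rfl N6433 D13269
theorem N7839 : nd 7839 = n13272 := ndS (p := 6435) (l := 5) rfl N6435 D13272
theorem N7840 : nd 7840 = n13273 := ndS (p := 6435) (l := 7) rfl N6435 D13273
theorem N7841 : nd 7841 = n13274 := ndS (p := 6436) (l := 4) rfl N6436 D13274
theorem N7842 : nd 7842 = n13275 := ndS (p := 6436) (l := 7) rfl N6436 D13275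
theorem N7843 : nd 7843 = n13276 := ndS (p := 6436) (l := 8) rfl N6436 D13276
theorem N7844 : nd 7844 = n13277 := ndS (p := 6438) (l := 6) rfl N6438 D13277
theorem N7845 : nd 7845 = n13278 := ndS (p := 6438) (l := 8) rfl N6438 D13278
theorem N7846 : nd 7846 = n13279 := ndS (p := 6439) (l := 9) rfl N6439 D13279
theorem N7847 : nd 7847 = n13296 := ndS (p := 6441) (l := 8) rfl N6441 D13296
theorem N7848 : nd 7848 = n13297 := ndS (p := 6442) (l := 9) rfl N6442 D13297
theorem N7849 : nd 7849 = n13299 := ndS (p := 6443) (l := 9) rfl N6443 D13299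
theorem N7850 : nd 7850 = n13300 := ndS (p := 6445) (l := 5) rfl N6445 D13300
theorem N7851 : nd 7851 = n13301 := ndS (p := 6445) (l := 9) rfl N6445 D13301
theorem N7852 : nd 7852 = n13302 := ndS (p := 6447) (l := 2) rfl N6447 D13302
theorem N7853 : nd 7853 = n13303 := ndS (p := 6447) (l := 6) rfl N6447 D13303
theorem N7854 : nd 7854 = n13304 := ndS (p := 6448) (l := 5) rfl N6448 D13304
theorem N7855 : nd 7855 = n13305 := ndS (p := 6448) (l := 7) rfl N6448 D13305
theorem N7856 : nd 7856 = n13306 := ndS (p := 6450) (l := 1) rfl N6450 D13306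
theorem N7857 : nd 7857 = n13307 := ndS (p := 6450) (l := 6) rfl N6450 D13307
theorem N7858 : nd 7858 = n13308 := ndS (p := 6451) (l := 5) rfl N6451 D13308
theorem N7859 : nd 7859 = n13309 := ndS (p := 6451) (l := 7) rfl N6451 D13309
theorem N7860 : nd 7860 = n13310 := ndS (p := 6452) (l := 7) rfl N6452 D13310
theorem N7861 : nd 7861 = n13316 := ndS (p := 6454) (l := 7) rfl N6454 D13316
theorem N7862 : nd 7862 = n13324 := ndS (p := 6456) (l := 6) rfl N6456 D13324
theorem N7863 : nd 7863 = n13328 := ndS (p := 6457) (l := 5) rfl N6457 D13328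
theorem N7864 : nd 7864 = n13330 := ndS (p := 6458) (l := 4) rfl N6458 D13330
theorem N7865 : nd 7865 = n13331 := ndS (p := 6458) (l := 7) rfl N6458 D13331
theorem N7866 : nd 7866 = n13332 := ndS (p := 6458) (l := 8) rfl N6458 D13332
theorem N7867 : nd 7867 = n13333 := ndS (p := 6460) (l := 6) rfl N6460 D13333
theorem N7868 : nd 7868 = n13334 := ndS (p := 6460) (l := 8) rfl N6460 D13334
theorem N7869 : nd 7869 = n13338 := ndS (p := 6462) (l := 4) rfl N6462 D13338
theorem N7870 : nd 7870 = n13340 := ndS (p := 6463) (l := 7) rfl N6463 D13340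
theorem N7871 : nd 7871 = n13341 := ndS (p := 6464) (l := 6) rfl N6464 D13341
theorem N7872 : nd 7872 = n13358 := ndS (p := 6466) (l := 4) rfl N6466 D13358
theorem N7873 : nd 7873 = n13359 := ndS (p := 6466) (l := 6) rfl N6466 D13359
theorem N7874 : nd 7874 = n13361 := ndS (p := 6467) (l := 6) rfl N6467 D13361
theorem N7875 : nd 7875 = n13362 := ndS (p := 6468) (l := 7) rfl N6468 D13362
theorem N7876 : nd 7876 = n13364 := ndS (p := 6469) (l := 6) rfl N6469 D13364
theorem N7877 : nd 7877 = n13365 := ndS (p := 6470) (l := 7) rfl N6470 D13365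
theorem N7878 : nd 7878 = n13369 := ndS (p := 6471) (l := 7) rfl N6471 D13369
theorem N7879 : nd 7879 = n13373 := ndS (p := 6473) (l := 7) rfl N6473 D13373
theorem N7880 : nd 7880 = n13390 := ndS (p := 6476) (l := 6) rfl N6476 D13390
theorem N7881 : nd 7881 = n13391 := ndS (p := 6477) (l := 7) rfl N6477 D13391
theorem N7882 : nd 7882 = n13394 := ndS (p := 6478) (l := 5) rfl N6478 D13394
theorem N7883 : nd 7883 = n13395 := ndS (p := 6478) (l := 7) rfl N6478 D13395
theorem N7884 : nd 7884 = n13398 := ndS (p := 6480) (l := 5) rfl N6480 D13398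
theorem N7885 : nd 7885 = n13399 := ndS (p := 6480) (l := 7) rfl N6480 D13399
theorem N7886 : nd 7886 = n13404 := ndS (p := 6482) (l := 7) rfl N6482 D13404
theorem N7887 : nd 7887 = n13433 := ndS (p := 6485) (l := 6) rfl N6485 D13433
theorem N7888 : nd 7888 = n13434 := ndS (p := 6486) (l := 5) rfl N6486 D13434
theorem N7889 : nd 7889 = n13435 := ndS (p := 6486) (l := 7) rfl N6486 D13435
theorem N7890 : nd 7890 = n13438 := ndS (p := 6488) (l := 5) rfl N6488 D13438
theorem N7891 : nd 7891 = n13439 := ndS (p := 6488) (l := 7) rfl N6488 D13439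
theorem N7892 : nd 7892 = n13440 := ndS (p := 6489) (l := 7) rfl N6489 D13440
theorem N7893 : nd 7893 = n13441 := ndS (p := 6489) (l := 8) rfl N6489 D13441
theorem N7894 : nd 7894 = n13443 := ndS (p := 6491) (l := 6) rfl N6491 D13443
theorem N7895 : nd 7895 = n13444 := ndS (p := 6492) (l := 5) rfl N6492 D13444
theorem N7896 : nd 7896 = n13445 := ndS (p := 6492) (l := 7) rfl N6492 D13445
theorem N7897 : nd 7897 = n13446 := ndS (p := 6493) (l := 7) rfl N6493 D13446
theorem N7898 : nd 7898 = n13447 := ndS (p := 6493) (l := 8) rfl N6493 D13447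
theorem N7899 : nd 7899 = n13451 := ndS (p := 6495) (l := 7) rfl N6495 D13451
theorem N7900 : nd 7900 = n13453 := ndS (p := 6496) (l := 7) rfl N6496 D13453
theorem N7901 : nd 7901 = n13455 := ndS (p := 6498) (l := 6) rfl N6498 D13455
theorem N7902 : nd 7902 = n13456 := ndS (p := 6498) (l := 8) rfl N6498 D13456
theorem N7903 : nd 7903 = n13457 := ndS (p := 6499) (l := 9) rfl N6499 D13457
theorem N7904 : nd 7904 = n13480 := ndS (p := 6502) (l := 9) rfl N6502 D13480
theorem N7905 : nd 7905 = n13493 := ndS (p := 6505) (l := 7) rfl N6505 D13493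
theorem N7906 : nd 7906 = n13494 := ndS (p := 6505) (l := 8) rfl N6505 D13494
theorem N7907 : nd 7907 = n13501 := ndS (p := 6507) (l := 6) rfl N6507 D13501
theorem N7908 : nd 7908 = n13506 := ndS (p := 6508) (l := 5) rfl N6508 D13506
theorem N7909 : nd 7909 = n13507 := ndS (p := 6508) (l := 7) rfl N6508 D13507
theorem N7910 : nd 7910 = n13508 := ndS (p := 6509) (l := 4) rfl N6509 D13508
theorem N7911 : nd 7911 = n13509 := ndS (p := 6509) (l := 7) rfl N6509 D13509
theorem N7912 : nd 7912 = n13510 := ndS (p := 6509) (l := 8) rfl N6509 D13510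
theorem N7913 : nd 7913 = n13511 := ndS (p := 6511) (l := 6) rfl N6511 D13511
theorem N7914 : nd 7914 = n13512 := ndS (p := 6511) (l := 8) rfl N6511 D13512
theorem N7915 : nd 7915 = n13513 := ndS (p := 6512) (l := 9) rfl N6512 D13513
theorem N7916 : nd 7916 = n13517 := ndS (p := 6513) (l := 4) rfl N6513 D13517
theorem N7917 : nd 7917 = n13518 := ndS (p := 6513) (l := 7) rfl N6513 D13518
theorem N7918 : nd 7918 = n13520 := ndS (p := 6515) (l := 7) rfl N6515 D13520
theorem N7919 : nd 7919 = n13521 := ndS (p := 6515) (l := 8) rfl N6515 D13521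
theorem N7920 : nd 7920 = n13522 := ndS (p := 6516) (l := 6) rfl N6516 D13522
theorem N7921 : nd 7921 = n13523 := ndS (p := 6516) (l := 8) rfl N6516 D13523
theorem N7922 : nd 7922 = n13524 := ndS (p := 6517) (l := 9) rfl N6517 D13524
theorem N7923 : nd 7923 = n13525 := ndS (p := 6518) (l := 8) rfl N6518 D13525
theorem N7924 : nd 7924 = n13526 := ndS (p := 6519) (l := 9) rfl N6519 D13526
theorem N7925 : nd 7925 = n13548 := ndS (p := 6521) (l := 9) rfl N6521 D13548
theorem N7926 : nd 7926 = n13551 := ndS (p := 6524) (l := 4) rfl N6524 D13551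
theorem N7927 : nd 7927 = n13552 := ndS (p := 6524) (l := 9) rfl N6524 D13552
theorem N7928 : nd 7928 = n13562 := ndS (p := 6527) (l := 7) rfl N6527 D13562
theorem N7929 : nd 7929 = n13563 := ndS (p := 6528) (l := 8) rfl N6528 D13563
theorem N7930 : nd 7930 = n13605 := ndS (p := 6533) (l := 7) rfl N6533 D13605
theorem N7931 : nd 7931 = n13642 := ndS (p := 6535) (l := 2) rfl N6535 D13642
theorem N7932 : nd 7932 = n13643 := ndS (p := 6535) (l := 6) rfl N6535 D13643
theorem N7933 : nd 7933 = n13644 := ndS (p := 6536) (l := 5) rfl N6536 D13644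
theorem N7934 : nd 7934 = n13645 := ndS (p := 6536) (l := 7) rfl N6536 D13645
theorem N7935 : nd 7935 = n13647 := ndS (p := 6538) (l := 6) rfl N6538 D13647
theorem N7936 : nd 7936 = n13648 := ndS (p := 6539) (l := 5) rfl N6539 D13648
theorem N7937 : nd 7937 = n13649 := ndS (p := 6539) (l := 7) rfl N6539 D13649
theorem N7938 : nd 7938 = n13653 := ndS (p := 6542) (l := 7) rfl N6542 D13653
theorem N7939 : nd 7939 = n13654 := ndS (p := 6543) (l := 7) rfl N6543 D13654
theorem N7940 : nd 7940 = n13707 := ndS (p := 6547) (l := 7) rfl N6547 D13707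
theorem N7941 : nd 7941 = n13717 := ndS (p := 6550) (l := 7) rfl N6550 D13717
theorem N7942 : nd 7942 = n13718 := ndS (p := 6551) (l := 4) rfl N6551 D13718
theorem N7943 : nd 7943 = n13719 := ndS (p := 6551) (l := 7) rfl N6551 D13719
theorem N7944 : nd 7944 = n13720 := ndS (p := 6551) (l := 8) rfl N6551 D13720
theorem N7945 : nd 7945 = n13722 := ndS (p := 6553) (l := 8) rfl N6553 D13722
theorem N7946 : nd 7946 = n13723 := ndS (p := 6554) (l := 9) rfl N6554 D13723
theorem N7947 : nd 7947 = n14562 := ndS (p := 6559) (l := 5) rfl N6559 D14562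
theorem N7948 : nd 7948 = n14563 := ndS (p := 6559) (l := 7) rfl N6559 D14563
theorem N7949 : nd 7949 = n14565 := ndS (p := 6561) (l := 6) rfl N6561 D14565
theorem N7950 : nd 7950 = n14566 := ndS (p := 6562) (l := 7) rfl N6562 D14566
theorem N7951 : nd 7951 = n14568 := ndS (p := 6564) (l := 4) rfl N6564 D14568
theorem N7952 : nd 7952 = n14569 := ndS (p := 6564) (l := 6) rfl N6564 D14569
theorem N7953 : nd 7953 = n14570 := ndS (p := 6565) (l := 3) rfl N6565 D14570
theorem N7954 : nd 7954 = n14571 := ndS (p := 6565) (l := 6) rfl N6565 D14571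
theorem N7955 : nd 7955 = n14572 := ndS (p := 6566) (l := 7) rfl N6566 D14572
theorem N7956 : nd 7956 = n14573 := ndS (p := 6567) (l := 6) rfl N6567 D14573
theorem N7957 : nd 7957 = n14574 := ndS (p := 6568) (l := 5) rfl N6568 D14574
theorem N7958 : nd 7958 = n14575 := ndS (p := 6568) (l := 7) rfl N6568 D14575
theorem N7959 : nd 7959 = n14576 := ndS (p := 6570) (l := 7) rfl N6570 D14576
theorem N7960 : nd 7960 = n14577 := ndS (p := 6570) (l := 8) rfl N6570 D14577
theorem N7961 : nd 7961 = n14578 := ndS (p := 6572) (l := 3) rfl N6572 D14578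
theorem N7962 : nd 7962 = n14579 := ndS (p := 6572) (l := 6) rfl N6572 D14579
theorem N7963 : nd 7963 = n14580 := ndS (p := 6573) (l := 7) rfl N6573 D14580
theorem N7964 : nd 7964 = n14581 := ndS (p := 6574) (l := 2) rfl N6574 D14581
theorem N7965 : nd 7965 = n14582 := ndS (p := 6574) (l := 6) rfl N6574 D14582
theorem N7966 : nd 7966 = n14583 := ndS (p := 6575) (l := 5) rfl N6575 D14583
theorem N7967 : nd 7967 = n14584 := ndS (p := 6575) (l := 7) rfl N6575 D14584
theorem N7968 : nd 7968 = n14585 := ndS (p := 6577) (l := 5) rfl N6577 D14585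
theorem N7969 : nd 7969 = n14586 := ndS (p := 6577) (l := 7) rfl N6577 D14586
theorem N7970 : nd 7970 = n14587 := ndS (p := 6578) (l := 7) rfl N6578 D14587
theorem N7971 : nd 7971 = n14588 := ndS (p := 6578) (l := 8) rfl N6578 D14588
theorem N7972 : nd 7972 = n14589 := ndS (p := 6580) (l := 6) rfl N6580 D14589
theorem N7973 : nd 7973 = n14590 := ndS (p := 6580) (l := 8) rfl N6580 D14590
theorem N7974 : nd 7974 = n14591 := ndS (p := 6581) (l := 9) rfl N6581 D14591
theorem N7975 : nd 7975 = n14592 := ndS (p := 6582) (l := 3) rfl N6582 D14592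
theorem N7976 : nd 7976 = n14593 := ndS (p := 6582) (l := 6) rfl N6582 D14593
theorem N7977 : nd 7977 = n14595 := ndS (p := 6584) (l := 5) rfl N6584 D14595
theorem N7978 : nd 7978 = n14598 := ndS (p := 6586) (l := 4) rfl N6586 D14598
theorem N7979 : nd 7979 = n14599 := ndS (p := 6586) (l := 6) rfl N6586 D14599
theorem N7980 : nd 7980 = n14600 := ndS (p := 6587) (l := 3) rfl N6587 D14600
theorem N7981 : nd 7981 = n14601 := ndS (p := 6587) (l := 6) rfl N6587 D14601
theorem N7982 : nd 7982 = n14602 := ndS (p := 6588) (l := 7) rfl N6588 D14602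
theorem N7983 : nd 7983 = n14603 := ndS (p := 6589) (l := 4) rfl N6589 D14603
theorem N7984 : nd 7984 = n14604 := ndS (p := 6589) (l := 6) rfl N6589 D14604
theorem N7985 : nd 7985 = n14605 := ndS (p := 6590) (l := 3) rfl N6590 D14605
theorem N7986 : nd 7986 = n14606 := ndS (p := 6590) (l := 6) rfl N6590 D14606
theorem N7987 : nd 7987 = n14607 := ndS (p := 6591) (l := 7) rfl N6591 D14607
theorem N7988 : nd 7988 = n14608 := ndS (p := 6592) (l := 6) rfl N6592 D14608
theorem N7989 : nd 7989 = n14609 := ndS (p := 6593) (l := 5) rfl N6593 D14609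
theorem N7990 : nd 7990 = n14610 := ndS (p := 6593) (l := 7) rfl N6593 D14610
theorem N7991 : nd 7991 = n14611 := ndS (p := 6595) (l := 3) rfl N6595 D14611
theorem N7992 : nd 7992 = n14612 := ndS (p := 6595) (l := 6) rfl N6595 D14612
theorem N7993 : nd 7993 = n14613 := ndS (p := 6596) (l := 7) rfl N6596 D14613
theorem N7994 : nd 7994 = n14614 := ndS (p := 6597) (l := 2) rfl N6597 D14614
theorem N7995 : nd 7995 = n14615 := ndS (p := 6597) (l := 6) rfl N6597 D14615
theorem N7996 : nd 7996 = n14616 := ndS (p := 6598) (l := 5) rfl N6598 D14616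
theorem N7997 : nd 7997 = n14617 := ndS (p := 6598) (l := 7) rfl N6598 D14617
theorem N7998 : nd 7998 = n14618 := ndS (p := 6600) (l := 7) rfl N6600 D14618
theorem N7999 : nd 7999 = n14619 := ndS (p := 6600) (l := 8) rfl N6600 D14619
theorem N8000 : nd 8000 = n14620 := ndS (p := 6602) (l := 3) rfl N6602 D14620
theorem N8001 : nd 8001 = n14621 := ndS (p := 6602) (l := 6) rfl N6602 D14621
theorem N8002 : nd 8002 = n14622 := ndS (p := 6603) (l := 7) rfl N6603 D14622
theorem N8003 : nd 8003 = n14623 := ndS (p := 6604) (l := 2) rfl N6604 D14623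
theorem N8004 : nd 8004 = n14624 := ndS (p := 6604) (l := 6) rfl N6604 D14624
theorem N8005 : nd 8005 = n14625 := ndS (p := 6605) (l := 5) rfl N6605 D14625
theorem N8006 : nd 8006 = n14626 := ndS (p := 6605) (l := 7) rfl N6605 D14626
theorem N8007 : nd 8007 = n14627 := ndS (p := 6607) (l := 2) rfl N6607 D14627
theorem N8008 : nd 8008 = n14628 := ndS (p := 6607) (l := 6) rfl N6607 D14628
theorem N8009 : nd 8009 = n14629 := ndS (p := 6608) (l := 5) rfl N6608 D14629
theorem N8010 : nd 8010 = n14630 := ndS (p := 6608) (l := 7) rfl N6608 D14630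
theorem N8011 : nd 8011 = n14631 := ndS (p := 6610) (l := 1) rfl N6610 D14631
theorem N8012 : nd 8012 = n14632 := ndS (p := 6610) (l := 6) rfl N6610 D14632
theorem N8013 : nd 8013 = n14633 := ndS (p := 6611) (l := 7) rfl N6611 D14633
theorem N8014 : nd 8014 = n14638 := ndS (p := 6615) (l := 0) rfl N6615 D14638
theorem N8015 : nd 8015 = n14639 := ndS (p := 6616) (l := 5) rfl N6616 D14639
theorem N8016 : nd 8016 = n14640 := ndS (p := 6617) (l := 4) rfl N6617 D14640
theorem N8017 : nd 8017 = n14641 := ndS (p := 6617) (l := 6) rfl N6617 D14641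
theorem N8018 : nd 8018 = n14642 := ndS (p := 6618) (l := 3) rfl N6618 D14642
theorem N8019 : nd 8019 = n14643 := ndS (p := 6618) (l := 6) rfl N6618 D14643
theorem N8020 : nd 8020 = n14644 := ndS (p := 6619) (l := 7) rfl N6619 D14644
theorem N8021 : nd 8021 = n14645 := ndS (p := 6620) (l := 4) rfl N6620 D14645
theorem N8022 : nd 8022 = n14646 := ndS (p := 6620) (l := 6) rfl N6620 D14646
theorem N8023 : nd 8023 = n14647 := ndS (p := 6621) (l := 3) rfl N6621 D14647
theorem N8024 : nd 8024 = n14648 := ndS (p := 6621) (l := 6) rfl N6621 D14648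
theorem N8025 : nd 8025 = n14649 := ndS (p := 6622) (l := 7) rfl N6622 D14649
theorem N8026 : nd 8026 = n14650 := ndS (p := 6623) (l := 2) rfl N6623 D14650
theorem N8027 : nd 8027 = n14651 := ndS (p := 6623) (l := 6) rfl N6623 D14651
theorem N8028 : nd 8028 = n14652 := ndS (p := 6624) (l := 5) rfl N6624 D14652
theorem N8029 : nd 8029 = n14653 := ndS (p := 6624) (l := 7) rfl N6624 D14653
theorem N8030 : nd 8030 = n14654 := ndS (p := 6626) (l := 5) rfl N6626 D14654
theorem N8031 : nd 8031 = n14655 := ndS (p := 6627) (l := 4) rfl N6627 D14655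
theorem N8032 : nd 8032 = n14656 := ndS (p := 6627) (l := 6) rfl N6627 D14656
theorem N8033 : nd 8033 = n14657 := ndS (p := 6628) (l := 3) rfl N6628 D14657
theorem N8034 : nd 8034 = n14658 := ndS (p := 6628) (l := 6) rfl N6628 D14658
theorem N8035 : nd 8035 = n14659 := ndS (p := 6629) (l := 7) rfl N6629 D14659
theorem N8036 : nd 8036 = n14660 := ndS (p := 6630) (l := 2) rfl N6630 D14660
theorem N8037 : nd 8037 = n14661 := ndS (p := 6630) (l := 6) rfl N6630 D14661
theorem N8038 : nd 8038 = n14662 := ndS (p := 6631) (l := 5) rfl N6631 D14662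
theorem N8039 : nd 8039 = n14663 := ndS (p := 6631) (l := 7) rfl N6631 D14663
theorem N8040 : nd 8040 = n14664 := ndS (p := 6633) (l := 5) rfl N6633 D14664
theorem N8041 : nd 8041 = n14665 := ndS (p := 6633) (l := 7) rfl N6633 D14665
theorem N8042 : nd 8042 = n14666 := ndS (p := 6634) (l := 7) rfl N6634 D14666
theorem N8043 : nd 8043 = n14667 := ndS (p := 6634) (l := 8) rfl N6634 D14667
theorem N8044 : nd 8044 = n14668 := ndS (p := 6636) (l := 3) rfl N6636 D14668
theorem N8045 : nd 8045 = n14669 := ndS (p := 6636) (l := 6) rfl N6636 D14669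
theorem N8046 : nd 8046 = n14670 := ndS (p := 6637) (l := 7) rfl N6637 D14670
theorem N8047 : nd 8047 = n14671 := ndS (p := 6638) (l := 2) rfl N6638 D14671
theorem N8048 : nd 8048 = n14672 := ndS (p := 6638) (l := 6) rfl N6638 D14672
theorem N8049 : nd 8049 = n14673 := ndS (p := 6639) (l := 5) rfl N6639 D14673
theorem N8050 : nd 8050 = n14674 := ndS (p := 6639) (l := 7) rfl N6639 D14674
theorem N8051 : nd 8051 = n14676 := ndS (p := 6641) (l := 6) rfl N6641 D14676
theorem N8052 : nd 8052 = n14677 := ndS (p := 6642) (l := 5) rfl N6642 D14677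
theorem N8053 : nd 8053 = n14678 := ndS (p := 6642) (l := 7) rfl N6642 D14678
theorem N8054 : nd 8054 = n14679 := ndS (p := 6643) (l := 7) rfl N6643 D14679
theorem N8055 : nd 8055 = n14680 := ndS (p := 6643) (l := 8) rfl N6643 D14680
theorem N8056 : nd 8056 = n14681 := ndS (p := 6645) (l := 6) rfl N6645 D14681
theorem N8057 : nd 8057 = n14682 := ndS (p := 6645) (l := 8) rfl N6645 D14682
theorem N8058 : nd 8058 = n14683 := ndS (p := 6646) (l := 9) rfl N6646 D14683
theorem N8059 : nd 8059 = n14685 := ndS (p := 6647) (l := 6) rfl N6647 D14685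
theorem N8060 : nd 8060 = n14686 := ndS (p := 6648) (l := 5) rfl N6648 D14686
theorem N8061 : nd 8061 = n14687 := ndS (p := 6648) (l := 7) rfl N6648 D14687
theorem N8062 : nd 8062 = n14688 := ndS (p := 6649) (l := 7) rfl N6649 D14688
theorem N8063 : nd 8063 = n14691 := ndS (p := 6651) (l := 7) rfl N6651 D14691
theorem N8064 : nd 8064 = n14692 := ndS (p := 6653) (l := 3) rfl N6653 D14692
theorem N8065 : nd 8065 = n14693 := ndS (p := 6653) (l := 6) rfl N6653 D14693
theorem N8066 : nd 8066 = n14694 := ndS (p := 6654) (l := 7) rfl N6654 D14694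
theorem N8067 : nd 8067 = n14696 := ndS (p := 6655) (l := 6) rfl N6655 D14696
theorem N8068 : nd 8068 = n14697 := ndS (p := 6656) (l := 5) rfl N6656 D14697
theorem N8069 : nd 8069 = n14698 := ndS (p := 6656) (l := 7) rfl N6656 D14698
theorem N8070 : nd 8070 = n14699 := ndS (p := 6658) (l := 2) rfl N6658 D14699
theorem N8071 : nd 8071 = n14700 := ndS (p := 6658) (l := 6) rfl N6658 D14700
theorem N8072 : nd 8072 = n14701 := ndS (p := 6659) (l := 5) rfl N6659 D14701
theorem N8073 : nd 8073 = n14702 := ndS (p := 6659) (l := 7) rfl N6659 D14702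
theorem N8074 : nd 8074 = n14703 := ndS (p := 6661) (l := 6) rfl N6661 D14703
theorem N8075 : nd 8075 = n14704 := ndS (p := 6662) (l := 5) rfl N6662 D14704
theorem N8076 : nd 8076 = n14705 := ndS (p := 6662) (l := 7) rfl N6662 D14705
theorem N8077 : nd 8077 = n14706 := ndS (p := 6663) (l := 7) rfl N6663 D14706
theorem N8078 : nd 8078 = n14707 := ndS (p := 6663) (l := 8) rfl N6663 D14707
theorem N8079 : nd 8079 = n14709 := ndS (p := 6665) (l := 6) rfl N6665 D14709
theorem N8080 : nd 8080 = n14710 := ndS (p := 6666) (l := 5) rfl N6666 D14710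
theorem N8081 : nd 8081 = n14711 := ndS (p := 6666) (l := 7) rfl N6666 D14711
theorem N8082 : nd 8082 = n14712 := ndS (p := 6667) (l := 7) rfl N6667 D14712
theorem N8083 : nd 8083 = n14713 := ndS (p := 6667) (l := 8) rfl N6667 D14713
theorem N8084 : nd 8084 = n14714 := ndS (p := 6669) (l := 4) rfl N6669 D14714
theorem N8085 : nd 8085 = n14715 := ndS (p := 6669) (l := 7) rfl N6669 D14715
theorem N8086 : nd 8086 = n14716 := ndS (p := 6669) (l := 8) rfl N6669 D14716
theorem N8087 : nd 8087 = n14717 := ndS (p := 6671) (l := 6) rfl N6671 D14717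
theorem N8088 : nd 8088 = n14718 := ndS (p := 6671) (l := 8) rfl N6671 D14718
theorem N8089 : nd 8089 = n14719 := ndS (p := 6672) (l := 9) rfl N6672 D14719
theorem N8090 : nd 8090 = n14722 := ndS (p := 6673) (l := 5) rfl N6673 D14722
theorem N8091 : nd 8091 = n14723 := ndS (p := 6673) (l := 7) rfl N6673 D14723
theorem N8092 : nd 8092 = n14724 := ndS (p := 6674) (l := 7) rfl N6674 D14724
theorem N8093 : nd 8093 = n14726 := ndS (p := 6676) (l := 6) rfl N6676 D14726
theorem N8094 : nd 8094 = n14727 := ndS (p := 6676) (l := 8) rfl N6676 D14727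
theorem N8095 : nd 8095 = n14728 := ndS (p := 6677) (l := 9) rfl N6677 D14728
theorem N8096 : nd 8096 = n14729 := ndS (p := 6678) (l := 8) rfl N6678 D14729
theorem N8097 : nd 8097 = n14730 := ndS (p := 6679) (l := 9) rfl N6679 D14730
theorem N8098 : nd 8098 = n14733 := ndS (p := 6682) (l := 5) rfl N6682 D14733
theorem N8099 : nd 8099 = n14734 := ndS (p := 6683) (l := 4) rfl N6683 D14734
theorem N8100 : nd 8100 = n14735 := ndS (p := 6683) (l := 6) rfl N6683 D14735
theorem N8101 : nd 8101 = n14736 := ndS (p := 6684) (l := 3) rfl N6684 D14736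
theorem N8102 : nd 8102 = n14737 := ndS (p := 6684) (l := 6) rfl N6684 D14737
theorem N8103 : nd 8103 = n14738 := ndS (p := 6685) (l := 7) rfl N6685 D14738
theorem N8104 : nd 8104 = n14739 := ndS (p := 6686) (l := 5) rfl N6686 D14739
theorem N8105 : nd 8105 = n14740 := ndS (p := 6687) (l := 4) rfl N6687 D14740
theorem N8106 : nd 8106 = n14741 := ndS (p := 6687) (l := 6) rfl N6687 D14741
theorem N8107 : nd 8107 = n14742 := ndS (p := 6688) (l := 3) rfl N6688 D14742
theorem N8108 : nd 8108 = n14743 := ndS (p := 6688) (l := 6) rfl N6688 D14743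
theorem N8109 : nd 8109 = n14744 := ndS (p := 6689) (l := 7) rfl N6689 D14744
theorem N8110 : nd 8110 = n14745 := ndS (p := 6690) (l := 2) rfl N6690 D14745
theorem N8111 : nd 8111 = n14746 := ndS (p := 6690) (l := 6) rfl N6690 D14746
theorem N8112 : nd 8112 = n14747 := ndS (p := 6691) (l := 5) rfl N6691 D14747
theorem N8113 : nd 8113 = n14748 := ndS (p := 6691) (l := 7) rfl N6691 D14748
theorem N8114 : nd 8114 = n14749 := ndS (p := 6693) (l := 5) rfl N6693 D14749
theorem N8115 : nd 8115 = n14750 := ndS (p := 6694) (l := 5) rfl N6694 D14750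
theorem N8116 : nd 8116 = n14751 := ndS (p := 6695) (l := 5) rfl N6695 D14751
theorem N8117 : nd 8117 = n14752 := ndS (p := 6696) (l := 4) rfl N6696 D14752
theorem N8118 : nd 8118 = n14753 := ndS (p := 6696) (l := 6) rfl N6696 D14753
theorem N8119 : nd 8119 = n14754 := ndS (p := 6697) (l := 5) rfl N6697 D14754
theorem N8120 : nd 8120 = n14755 := ndS (p := 6698) (l := 5) rfl N6698 D14755
theorem N8121 : nd 8121 = n14756 := ndS (p := 6699) (l := 4) rfl N6699 D14756
theorem N8122 : nd 8122 = n14757 := ndS (p := 6699) (l := 6) rfl N6699 D14757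
theorem N8123 : nd 8123 = n14758 := ndS (p := 6700) (l := 4) rfl N6700 D14758
theorem N8124 : nd 8124 = n14759 := ndS (p := 6700) (l := 6) rfl N6700 D14759
theorem N8125 : nd 8125 = n14760 := ndS (p := 6701) (l := 3) rfl N6701 D14760
theorem N8126 : nd 8126 = n14761 := ndS (p := 6701) (l := 6) rfl N6701 D14761
theorem N8127 : nd 8127 = n14762 := ndS (p := 6702) (l := 7) rfl N6702 D14762
theorem N8128 : nd 8128 = n14763 := ndS (p := 6703) (l := 3) rfl N6703 D14763
theorem N8129 : nd 8129 = n14764 := ndS (p := 6703) (l := 6) rfl N6703 D14764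
theorem N8130 : nd 8130 = n14765 := ndS (p := 6704) (l := 7) rfl N6704 D14765
theorem N8131 : nd 8131 = n14766 := ndS (p := 6705) (l := 2) rfl N6705 D14766
theorem N8132 : nd 8132 = n14767 := ndS (p := 6705) (l := 6) rfl N6705 D14767
theorem N8133 : nd 8133 = n14768 := ndS (p := 6706) (l := 5) rfl N6706 D14768
theorem N8134 : nd 8134 = n14769 := ndS (p := 6706) (l := 7) rfl N6706 D14769
theorem N8135 : nd 8135 = n14770 := ndS (p := 6708) (l := 5) rfl N6708 D14770
theorem N8136 : nd 8136 = n14771 := ndS (p := 6708) (l := 7) rfl N6708 D14771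
theorem N8137 : nd 8137 = n14772 := ndS (p := 6709) (l := 7) rfl N6709 D14772
theorem N8138 : nd 8138 = n14773 := ndS (p := 6709) (l := 8) rfl N6709 D14773
theorem N8139 : nd 8139 = n14774 := ndS (p := 6711) (l := 4) rfl N6711 D14774
theorem N8140 : nd 8140 = n14775 := ndS (p := 6711) (l := 6) rfl N6711 D14775
theorem N8141 : nd 8141 = n14776 := ndS (p := 6712) (l := 4) rfl N6712 D14776
theorem N8142 : nd 8142 = n14777 := ndS (p := 6712) (l := 6) rfl N6712 D14777
theorem N8143 : nd 8143 = n14778 := ndS (p := 6713) (l := 3) rfl N6713 D14778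
theorem N8144 : nd 8144 = n14779 := ndS (p := 6713) (l := 6) rfl N6713 D14779
theorem N8145 : nd 8145 = n14780 := ndS (p := 6714) (l := 7) rfl N6714 D14780
theorem N8146 : nd 8146 = n14781 := ndS (p := 6715) (l := 4) rfl N6715 D14781
theorem N8147 : nd 8147 = n14782 := ndS (p := 6715) (l := 6) rfl N6715 D14782
theorem N8148 : nd 8148 = n14783 := ndS (p := 6716) (l := 4) rfl N6716 D14783
theorem N8149 : nd 8149 = n14784 := ndS (p := 6716) (l := 6) rfl N6716 D14784
theorem N8150 : nd 8150 = n14785 := ndS (p := 6717) (l := 3) rfl N6717 D14785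
theorem N8151 : nd 8151 = n14786 := ndS (p := 6717) (l := 6) rfl N6717 D14786
theorem N8152 : nd 8152 = n14787 := ndS (p := 6718) (l := 7) rfl N6718 D14787
theorem N8153 : nd 8153 = n14788 := ndS (p := 6719) (l := 3) rfl N6719 D14788
theorem N8154 : nd 8154 = n14789 := ndS (p := 6719) (l := 6) rfl N6719 D14789
theorem N8155 : nd 8155 = n14790 := ndS (p := 6720) (l := 7) rfl N6720 D14790
theorem N8156 : nd 8156 = n14791 := ndS (p := 6721) (l := 2) rfl N6721 D14791
theorem N8157 : nd 8157 = n14792 := ndS (p := 6721) (l := 6) rfl N6721 D14792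
theorem N8158 : nd 8158 = n14793 := ndS (p := 6722) (l := 5) rfl N6722 D14793
theorem N8159 : nd 8159 = n14794 := ndS (p := 6722) (l := 7) rfl N6722 D14794
theorem N8160 : nd 8160 = n14795 := ndS (p := 6724) (l := 2) rfl N6724 D14795
theorem N8161 : nd 8161 = n14796 := ndS (p := 6724) (l := 6) rfl N6724 D14796
theorem N8162 : nd 8162 = n14797 := ndS (p := 6725) (l := 5) rfl N6725 D14797
theorem N8163 : nd 8163 = n14798 := ndS (p := 6725) (l := 7) rfl N6725 D14798
theorem N8164 : nd 8164 = n14799 := ndS (p := 6727) (l := 1) rfl N6727 D14799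
theorem N8165 : nd 8165 = n14800 := ndS (p := 6727) (l := 6) rfl N6727 D14800
theorem N8166 : nd 8166 = n14801 := ndS (p := 6728) (l := 5) rfl N6728 D14801
theorem N8167 : nd 8167 = n14802 := ndS (p := 6728) (l := 7) rfl N6728 D14802
theorem N8168 : nd 8168 = n14803 := ndS (p := 6729) (l := 7) rfl N6729 D14803
theorem N8169 : nd 8169 = n14804 := ndS (p := 6729) (l := 8) rfl N6729 D14804
theorem N8170 : nd 8170 = n14805 := ndS (p := 6731) (l := 6) rfl N6731 D14805
theorem N8171 : nd 8171 = n14806 := ndS (p := 6731) (l := 8) rfl N6731 D14806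
theorem N8172 : nd 8172 = n14807 := ndS (p := 6732) (l := 9) rfl N6732 D14807
theorem N8173 : nd 8173 = n14808 := ndS (p := 6733) (l := 3) rfl N6733 D14808
theorem N8174 : nd 8174 = n14809 := ndS (p := 6733) (l := 6) rfl N6733 D14809
theorem N8175 : nd 8175 = n14810 := ndS (p := 6734) (l := 7) rfl N6734 D14810
theorem N8176 : nd 8176 = n14811 := ndS (p := 6735) (l := 3) rfl N6735 D14811
theorem N8177 : nd 8177 = n14812 := ndS (p := 6735) (l := 6) rfl N6735 D14812
theorem N8178 : nd 8178 = n14813 := ndS (p := 6736) (l := 7) rfl N6736 D14813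
theorem N8179 : nd 8179 = n14814 := ndS (p := 6737) (l := 2) rfl N6737 D14814
theorem N8180 : nd 8180 = n14815 := ndS (p := 6737) (l := 6) rfl N6737 D14815
theorem N8181 : nd 8181 = n14816 := ndS (p := 6738) (l := 5) rfl N6738 D14816
theorem N8182 : nd 8182 = n14817 := ndS (p := 6738) (l := 7) rfl N6738 D14817
theorem N8183 : nd 8183 = n14818 := ndS (p := 6740) (l := 2) rfl N6740 D14818
theorem N8184 : nd 8184 = n14819 := ndS (p := 6740) (l := 6) rfl N6740 D14819
theorem N8185 : nd 8185 = n14820 := ndS (p := 6741) (l := 5) rfl N6741 D14820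
theorem N8186 : nd 8186 = n14821 := ndS (p := 6741) (l := 7) rfl N6741 D14821
theorem N8187 : nd 8187 = n14822 := ndS (p := 6743) (l := 1) rfl N6743 D14822
theorem N8188 : nd 8188 = n14823 := ndS (p := 6743) (l := 6) rfl N6743 D14823
theorem N8189 : nd 8189 = n14824 := ndS (p := 6744) (l := 5) rfl N6744 D14824
theorem N8190 : nd 8190 = n14825 := ndS (p := 6744) (l := 7) rfl N6744 D14825
theorem N8191 : nd 8191 = n14826 := ndS (p := 6745) (l := 7) rfl N6745 D14826
theorem N8192 : nd 8192 = n14827 := ndS (p := 6747) (l := 1) rfl N6747 D14827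
theorem N8193 : nd 8193 = n14828 := ndS (p := 6747) (l := 6) rfl N6747 D14828
theorem N8194 : nd 8194 = n14829 := ndS (p := 6748) (l := 5) rfl N6748 D14829
theorem N8195 : nd 8195 = n14830 := ndS (p := 6748) (l := 7) rfl N6748 D14830
theorem N8196 : nd 8196 = n14831 := ndS (p := 6749) (l := 7) rfl N6749 D14831
theorem N8197 : nd 8197 = n14832 := ndS (p := 6749) (l := 8) rfl N6749 D14832
theorem N8198 : nd 8198 = n14833 := ndS (p := 6751) (l := 0) rfl N6751 D14833
theorem N8199 : nd 8199 = n14834 := ndS (p := 6751) (l := 6) rfl N6751 D14834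
theorem N8200 : nd 8200 = n14835 := ndS (p := 6752) (l := 7) rfl N6752 D14835
theorem N8201 : nd 8201 = n14836 := ndS (p := 6754) (l := 0) rfl N6754 D14836
theorem N8202 : nd 8202 = n14842 := ndS (p := 6759) (l := 5) rfl N6759 D14842
theorem N8203 : nd 8203 = n14843 := ndS (p := 6760) (l := 5) rfl N6760 D14843
theorem N8204 : nd 8204 = n14844 := ndS (p := 6761) (l := 5) rfl N6761 D14844
theorem N8205 : nd 8205 = n14845 := ndS (p := 6762) (l := 4) rfl N6762 D14845
theorem N8206 : nd 8206 = n14846 := ndS (p := 6762) (l := 6) rfl N6762 D14846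
theorem N8207 : nd 8207 = n14847 := ndS (p := 6763) (l := 4) rfl N6763 D14847
theorem N8208 : nd 8208 = n14848 := ndS (p := 6763) (l := 6) rfl N6763 D14848
theorem N8209 : nd 8209 = n14849 := ndS (p := 6764) (l := 3) rfl N6764 D14849
theorem N8210 : nd 8210 = n14850 := ndS (p := 6764) (l := 6) rfl N6764 D14850
theorem N8211 : nd 8211 = n14851 := ndS (p := 6765) (l := 7) rfl N6765 D14851
theorem N8212 : nd 8212 = n14853 := ndS (p := 6766) (l := 6) rfl N6766 D14853
theorem N8213 : nd 8213 = n14854 := ndS (p := 6767) (l := 5) rfl N6767 D14854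
theorem N8214 : nd 8214 = n14855 := ndS (p := 6767) (l := 7) rfl N6767 D14855
theorem N8215 : nd 8215 = n14856 := ndS (p := 6769) (l := 5) rfl N6769 D14856
theorem N8216 : nd 8216 = n14857 := ndS (p := 6770) (l := 4) rfl N6770 D14857
theorem N8217 : nd 8217 = n14858 := ndS (p := 6770) (l := 6) rfl N6770 D14858
theorem N8218 : nd 8218 = n14859 := ndS (p := 6771) (l := 5) rfl N6771 D14859
theorem N8219 : nd 8219 = n14860 := ndS (p := 6772) (l := 4) rfl N6772 D14860
theorem N8220 : nd 8220 = n14861 := ndS (p := 6772) (l := 6) rfl N6772 D14861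
theorem N8221 : nd 8221 = n14862 := ndS (p := 6773) (l := 4) rfl N6773 D14862
theorem N8222 : nd 8222 = n14863 := ndS (p := 6773) (l := 6) rfl N6773 D14863
theorem N8223 : nd 8223 = n14864 := ndS (p := 6774) (l := 3) rfl N6774 D14864
theorem N8224 : nd 8224 = n14865 := ndS (p := 6774) (l := 6) rfl N6774 D14865
theorem N8225 : nd 8225 = n14866 := ndS (p := 6775) (l := 7) rfl N6775 D14866
theorem N8226 : nd 8226 = n14867 := ndS (p := 6776) (l := 3) rfl N6776 D14867
theorem N8227 : nd 8227 = n14868 := ndS (p := 6776) (l := 6) rfl N6776 D14868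
theorem N8228 : nd 8228 = n14869 := ndS (p := 6777) (l := 7) rfl N6777 D14869
theorem N8229 : nd 8229 = n14870 := ndS (p := 6778) (l := 2) rfl N6778 D14870
theorem N8230 : nd 8230 = n14871 := ndS (p := 6778) (l := 6) rfl N6778 D14871
theorem N8231 : nd 8231 = n14872 := ndS (p := 6779) (l := 5) rfl N6779 D14872
theorem N8232 : nd 8232 = n14873 := ndS (p := 6779) (l := 7) rfl N6779 D14873
theorem N8233 : nd 8233 = n14874 := ndS (p := 6781) (l := 6) rfl N6781 D14874
theorem N8234 : nd 8234 = n14875 := ndS (p := 6782) (l := 5) rfl N6782 D14875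
theorem N8235 : nd 8235 = n14876 := ndS (p := 6782) (l := 7) rfl N6782 D14876
theorem N8236 : nd 8236 = n14877 := ndS (p := 6783) (l := 7) rfl N6783 D14877
theorem N8237 : nd 8237 = n14878 := ndS (p := 6783) (l := 8) rfl N6783 D14878
theorem N8238 : nd 8238 = n14879 := ndS (p := 6785) (l := 4) rfl N6785 D14879
theorem N8239 : nd 8239 = n14880 := ndS (p := 6785) (l := 6) rfl N6785 D14880
theorem N8240 : nd 8240 = n14881 := ndS (p := 6786) (l := 4) rfl N6786 D14881
theorem N8241 : nd 8241 = n14882 := ndS (p := 6786) (l := 6) rfl N6786 D14882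
theorem N8242 : nd 8242 = n14883 := ndS (p := 6787) (l := 4) rfl N6787 D14883
theorem N8243 : nd 8243 = n14884 := ndS (p := 6787) (l := 6) rfl N6787 D14884
theorem N8244 : nd 8244 = n14885 := ndS (p := 6788) (l := 3) rfl N6788 D14885
theorem N8245 : nd 8245 = n14886 := ndS (p := 6788) (l := 6) rfl N6788 D14886
theorem N8246 : nd 8246 = n14887 := ndS (p := 6789) (l := 7) rfl N6789 D14887
theorem N8247 : nd 8247 = n14888 := ndS (p := 6790) (l := 4) rfl N6790 D14888
theorem N8248 : nd 8248 = n14889 := ndS (p := 6790) (l := 6) rfl N6790 D14889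
theorem N8249 : nd 8249 = n14890 := ndS (p := 6791) (l := 3) rfl N6791 D14890
theorem N8250 : nd 8250 = n14891 := ndS (p := 6791) (l := 6) rfl N6791 D14891
theorem N8251 : nd 8251 = n14892 := ndS (p := 6792) (l := 7) rfl N6792 D14892
theorem N8252 : nd 8252 = n14893 := ndS (p := 6793) (l := 3) rfl N6793 D14893
theorem N8253 : nd 8253 = n14894 := ndS (p := 6793) (l := 6) rfl N6793 D14894
theorem N8254 : nd 8254 = n14895 := ndS (p := 6794) (l := 7) rfl N6794 D14895
theorem N8255 : nd 8255 = n14896 := ndS (p := 6795) (l := 2) rfl N6795 D14896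
theorem N8256 : nd 8256 = n14897 := ndS (p := 6795) (l := 6) rfl N6795 D14897
theorem N8257 : nd 8257 = n14898 := ndS (p := 6796) (l := 5) rfl N6796 D14898
theorem N8258 : nd 8258 = n14899 := ndS (p := 6796) (l := 7) rfl N6796 D14899
theorem N8259 : nd 8259 = n14900 := ndS (p := 6798) (l := 2) rfl N6798 D14900
theorem N8260 : nd 8260 = n14901 := ndS (p := 6798) (l := 6) rfl N6798 D14901
theorem N8261 : nd 8261 = n14902 := ndS (p := 6799) (l := 5) rfl N6799 D14902
theorem N8262 : nd 8262 = n14903 := ndS (p := 6799) (l := 7) rfl N6799 D14903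
theorem N8263 : nd 8263 = n14904 := ndS (p := 6801) (l := 1) rfl N6801 D14904
theorem N8264 : nd 8264 = n14905 := ndS (p := 6801) (l := 6) rfl N6801 D14905
theorem N8265 : nd 8265 = n14906 := ndS (p := 6802) (l := 5) rfl N6802 D14906
theorem N8266 : nd 8266 = n14907 := ndS (p := 6802) (l := 7) rfl N6802 D14907
theorem N8267 : nd 8267 = n14908 := ndS (p := 6803) (l := 7) rfl N6803 D14908
theorem N8268 : nd 8268 = n14909 := ndS (p := 6803) (l := 8) rfl N6803 D14909
theorem N8269 : nd 8269 = n14910 := ndS (p := 6805) (l := 4) rfl N6805 D14910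
theorem N8270 : nd 8270 = n14911 := ndS (p := 6805) (l := 7) rfl N6805 D14911
theorem N8271 : nd 8271 = n14912 := ndS (p := 6805) (l := 8) rfl N6805 D14912
theorem N8272 : nd 8272 = n14913 := ndS (p := 6807) (l := 6) rfl N6807 D14913
theorem N8273 : nd 8273 = n14914 := ndS (p := 6807) (l := 8) rfl N6807 D14914
theorem N8274 : nd 8274 = n14915 := ndS (p := 6808) (l := 9) rfl N6808 D14915
theorem N8275 : nd 8275 = n14916 := ndS (p := 6809) (l := 4) rfl N6809 D14916
theorem N8276 : nd 8276 = n14917 := ndS (p := 6809) (l := 6) rfl N6809 D14917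
theorem N8277 : nd 8277 = n14918 := ndS (p := 6810) (l := 3) rfl N6810 D14918
theorem N8278 : nd 8278 = n14919 := ndS (p := 6810) (l := 6) rfl N6810 D14919
theorem N8279 : nd 8279 = n14920 := ndS (p := 6811) (l := 7) rfl N6811 D14920
theorem N8280 : nd 8280 = n14921 := ndS (p := 6812) (l := 3) rfl N6812 D14921
theorem N8281 : nd 8281 = n14922 := ndS (p := 6812) (l := 6) rfl N6812 D14922
theorem N8282 : nd 8282 = n14923 := ndS (p := 6813) (l := 7) rfl N6813 D14923
theorem N8283 : nd 8283 = n14924 := ndS (p := 6814) (l := 2) rfl N6814 D14924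
theorem N8284 : nd 8284 = n14925 := ndS (p := 6814) (l := 6) rfl N6814 D14925
theorem N8285 : nd 8285 = n14926 := ndS (p := 6815) (l := 5) rfl N6815 D14926
theorem N8286 : nd 8286 = n14927 := ndS (p := 6815) (l := 7) rfl N6815 D14927
theorem N8287 : nd 8287 = n14928 := ndS (p := 6817) (l := 3) rfl N6817 D14928
theorem N8288 : nd 8288 = n14929 := ndS (p := 6817) (l := 6) rfl N6817 D14929
theorem N8289 : nd 8289 = n14930 := ndS (p := 6818) (l := 7) rfl N6818 D14930
theorem N8290 : nd 8290 = n14931 := ndS (p := 6819) (l := 2) rfl N6819 D14931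
theorem N8291 : nd 8291 = n14932 := ndS (p := 6819) (l := 6) rfl N6819 D14932
theorem N8292 : nd 8292 = n14933 := ndS (p := 6820) (l := 5) rfl N6820 D14933
theorem N8293 : nd 8293 = n14934 := ndS (p := 6820) (l := 7) rfl N6820 D14934
theorem N8294 : nd 8294 = n14935 := ndS (p := 6822) (l := 2) rfl N6822 D14935
theorem N8295 : nd 8295 = n14936 := ndS (p := 6822) (l := 6) rfl N6822 D14936
theorem N8296 : nd 8296 = n14937 := ndS (p := 6823) (l := 5) rfl N6823 D14937
theorem N8297 : nd 8297 = n14938 := ndS (p := 6823) (l := 7) rfl N6823 D14938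
theorem N8298 : nd 8298 = n14939 := ndS (p := 6825) (l := 1) rfl N6825 D14939
theorem N8299 : nd 8299 = n14940 := ndS (p := 6825) (l := 6) rfl N6825 D14940
theorem N8300 : nd 8300 = n14941 := ndS (p := 6826) (l := 5) rfl N6826 D14941
theorem N8301 : nd 8301 = n14942 := ndS (p := 6826) (l := 7) rfl N6826 D14942
theorem N8302 : nd 8302 = n14943 := ndS (p := 6827) (l := 7) rfl N6827 D14943
theorem N8303 : nd 8303 = n14944 := ndS (p := 6827) (l := 8) rfl N6827 D14944
theorem N8304 : nd 8304 = n14945 := ndS (p := 6829) (l := 1) rfl N6829 D14945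
theorem N8305 : nd 8305 = n14946 := ndS (p := 6829) (l := 6) rfl N6829 D14946
theorem N8306 : nd 8306 = n14948 := ndS (p := 6830) (l := 7) rfl N6830 D14948
theorem N8307 : nd 8307 = n14949 := ndS (p := 6831) (l := 7) rfl N6831 D14949
theorem N8308 : nd 8308 = n14950 := ndS (p := 6831) (l := 8) rfl N6831 D14950
theorem N8309 : nd 8309 = n14951 := ndS (p := 6833) (l := 0) rfl N6833 D14951
theorem N8310 : nd 8310 = n14952 := ndS (p := 6833) (l := 6) rfl N6833 D14952
theorem N8311 : nd 8311 = n14953 := ndS (p := 6834) (l := 5) rfl N6834 D14953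
theorem N8312 : nd 8312 = n14954 := ndS (p := 6834) (l := 7) rfl N6834 D14954
theorem N8313 : nd 8313 = n14955 := ndS (p := 6835) (l := 7) rfl N6835 D14955
theorem N8314 : nd 8314 = n14956 := ndS (p := 6835) (l := 8) rfl N6835 D14956
theorem N8315 : nd 8315 = n14957 := ndS (p := 6837) (l := 6) rfl N6837 D14957
theorem N8316 : nd 8316 = n14958 := ndS (p := 6837) (l := 8) rfl N6837 D14958
theorem N8317 : nd 8317 = n14959 := ndS (p := 6838) (l := 9) rfl N6838 D14959
theorem N8318 : nd 8318 = n14960 := ndS (p := 6839) (l := 8) rfl N6839 D14960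
theorem N8319 : nd 8319 = n14961 := ndS (p := 6840) (l := 9) rfl N6840 D14961
theorem N8320 : nd 8320 = n14962 := ndS (p := 6842) (l := 2) rfl N6842 D14962
theorem N8321 : nd 8321 = n14963 := ndS (p := 6842) (l := 6) rfl N6842 D14963
theorem N8322 : nd 8322 = n14964 := ndS (p := 6843) (l := 5) rfl N6843 D14964
theorem N8323 : nd 8323 = n14965 := ndS (p := 6843) (l := 7) rfl N6843 D14965
theorem N8324 : nd 8324 = n14966 := ndS (p := 6845) (l := 1) rfl N6845 D14966
theorem N8325 : nd 8325 = n14967 := ndS (p := 6845) (l := 6) rfl N6845 D14967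
theorem N8326 : nd 8326 = n14968 := ndS (p := 6846) (l := 5) rfl N6846 D14968
theorem N8327 : nd 8327 = n14969 := ndS (p := 6846) (l := 7) rfl N6846 D14969
theorem N8328 : nd 8328 = n14970 := ndS (p := 6847) (l := 7) rfl N6847 D14970
theorem N8329 : nd 8329 = n14971 := ndS (p := 6847) (l := 8) rfl N6847 D14971
theorem N8330 : nd 8330 = n14973 := ndS (p := 6849) (l := 6) rfl N6849 D14973
theorem N8331 : nd 8331 = n14974 := ndS (p := 6850) (l := 5) rfl N6850 D14974
theorem N8332 : nd 8332 = n14975 := ndS (p := 6850) (l := 7) rfl N6850 D14975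
theorem N8333 : nd 8333 = n14976 := ndS (p := 6851) (l := 7) rfl N6851 D14976
theorem N8334 : nd 8334 = n14977 := ndS (p := 6851) (l := 8) rfl N6851 D14977
theorem N8335 : nd 8335 = n14978 := ndS (p := 6853) (l := 0) rfl N6853 D14978
theorem N8336 : nd 8336 = n14979 := ndS (p := 6853) (l := 6) rfl N6853 D14979
theorem N8337 : nd 8337 = n14980 := ndS (p := 6854) (l := 5) rfl N6854 D14980
theorem N8338 : nd 8338 = n14981 := ndS (p := 6854) (l := 7) rfl N6854 D14981
theorem N8339 : nd 8339 = n14982 := ndS (p := 6855) (l := 4) rfl N6855 D14982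
theorem N8340 : nd 8340 = n14983 := ndS (p := 6855) (l := 7) rfl N6855 D14983
theorem N8341 : nd 8341 = n14984 := ndS (p := 6857) (l := 6) rfl N6857 D14984
theorem N8342 : nd 8342 = n14988 := ndS (p := 6859) (l := 7) rfl N6859 D14988
theorem N8343 : nd 8343 = n14992 := ndS (p := 6861) (l := 8) rfl N6861 D14992
theorem N8344 : nd 8344 = n14993 := ndS (p := 6863) (l := 6) rfl N6863 D14993
theorem N8345 : nd 8345 = n14994 := ndS (p := 6864) (l := 7) rfl N6864 D14994
theorem N8346 : nd 8346 = n15000 := ndS (p := 6866) (l := 4) rfl N6866 D15000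
theorem N8347 : nd 8347 = n15001 := ndS (p := 6866) (l := 6) rfl N6866 D15001
theorem N8348 : nd 8348 = n15002 := ndS (p := 6867) (l := 3) rfl N6867 D15002
theorem N8349 : nd 8349 = n15003 := ndS (p := 6867) (l := 6) rfl N6867 D15003
theorem N8350 : nd 8350 = n15004 := ndS (p := 6868) (l := 7) rfl N6868 D15004
theorem N8351 : nd 8351 = n15005 := ndS (p := 6869) (l := 3) rfl N6869 D15005
theorem N8352 : nd 8352 = n15006 := ndS (p := 6869) (l := 6) rfl N6869 D15006
theorem N8353 : nd 8353 = n15007 := ndS (p := 6870) (l := 7) rfl N6870 D15007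
theorem N8354 : nd 8354 = n15008 := ndS (p := 6871) (l := 2) rfl N6871 D15008
theorem N8355 : nd 8355 = n15009 := ndS (p := 6871) (l := 6) rfl N6871 D15009
theorem N8356 : nd 8356 = n15010 := ndS (p := 6872) (l := 5) rfl N6872 D15010
theorem N8357 : nd 8357 = n15011 := ndS (p := 6872) (l := 7) rfl N6872 D15011
theorem N8358 : nd 8358 = n15015 := ndS (p := 6874) (l := 7) rfl N6874 D15015
theorem N8359 : nd 8359 = n15016 := ndS (p := 6875) (l := 7) rfl N6875 D15016
theorem N8360 : nd 8360 = n15018 := ndS (p := 6877) (l := 3) rfl N6877 D15018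
theorem N8361 : nd 8361 = n15019 := ndS (p := 6877) (l := 6) rfl N6877 D15019
theorem N8362 : nd 8362 = n15020 := ndS (p := 6878) (l := 7) rfl N6878 D15020
theorem N8363 : nd 8363 = n15021 := ndS (p := 6879) (l := 2) rfl N6879 D15021
theorem N8364 : nd 8364 = n15022 := ndS (p := 6879) (l := 6) rfl N6879 D15022
theorem N8365 : nd 8365 = n15023 := ndS (p := 6880) (l := 5) rfl N6880 D15023
theorem N8366 : nd 8366 = n15024 := ndS (p := 6880) (l := 7) rfl N6880 D15024
theorem N8367 : nd 8367 = n15025 := ndS (p := 6882) (l := 2) rfl N6882 D15025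
theorem N8368 : nd 8368 = n15026 := ndS (p := 6882) (l := 6) rfl N6882 D15026
theorem N8369 : nd 8369 = n15027 := ndS (p := 6883) (l := 5) rfl N6883 D15027
theorem N8370 : nd 8370 = n15028 := ndS (p := 6883) (l := 7) rfl N6883 D15028
theorem N8371 : nd 8371 = n15029 := ndS (p := 6885) (l := 1) rfl N6885 D15029
theorem N8372 : nd 8372 = n15030 := ndS (p := 6885) (l := 6) rfl N6885 D15030
theorem N8373 : nd 8373 = n15031 := ndS (p := 6886) (l := 5) rfl N6886 D15031
theorem N8374 : nd 8374 = n15032 := ndS (p := 6886) (l := 7) rfl N6886 D15032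
theorem N8375 : nd 8375 = n15033 := ndS (p := 6887) (l := 7) rfl N6887 D15033
theorem N8376 : nd 8376 = n15034 := ndS (p := 6887) (l := 8) rfl N6887 D15034
theorem N8377 : nd 8377 = n15036 := ndS (p := 6889) (l := 7) rfl N6889 D15036
theorem N8378 : nd 8378 = n15037 := ndS (p := 6890) (l := 4) rfl N6890 D15037
theorem N8379 : nd 8379 = n15038 := ndS (p := 6890) (l := 7) rfl N6890 D15038
theorem N8380 : nd 8380 = n15040 := ndS (p := 6892) (l := 6) rfl N6892 D15040
theorem N8381 : nd 8381 = n15041 := ndS (p := 6892) (l := 8) rfl N6892 D15041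
theorem N8382 : nd 8382 = n15042 := ndS (p := 6893) (l := 9) rfl N6893 D15042
theorem N8383 : nd 8383 = n15043 := ndS (p := 6894) (l := 2) rfl N6894 D15043
theorem N8384 : nd 8384 = n15044 := ndS (p := 6894) (l := 6) rfl N6894 D15044
theorem N8385 : nd 8385 = n15045 := ndS (p := 6895) (l := 5) rfl N6895 D15045
theorem N8386 : nd 8386 = n15046 := ndS (p := 6895) (l := 7) rfl N6895 D15046
theorem N8387 : nd 8387 = n15048 := ndS (p := 6897) (l := 6) rfl N6897 D15048
theorem N8388 : nd 8388 = n15049 := ndS (p := 6898) (l := 5) rfl N6898 D15049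
theorem N8389 : nd 8389 = n15050 := ndS (p := 6898) (l := 7) rfl N6898 D15050
theorem N8390 : nd 8390 = n15051 := ndS (p := 6899) (l := 7) rfl N6899 D15051
theorem N8391 : nd 8391 = n15052 := ndS (p := 6899) (l := 8) rfl N6899 D15052
theorem N8392 : nd 8392 = n15053 := ndS (p := 6901) (l := 1) rfl N6901 D15053
theorem N8393 : nd 8393 = n15054 := ndS (p := 6901) (l := 6) rfl N6901 D15054
theorem N8394 : nd 8394 = n15055 := ndS (p := 6902) (l := 5) rfl N6902 D15055
theorem N8395 : nd 8395 = n15056 := ndS (p := 6902) (l := 7) rfl N6902 D15056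
theorem N8396 : nd 8396 = n15057 := ndS (p := 6903) (l := 7) rfl N6903 D15057
theorem N8397 : nd 8397 = n15058 := ndS (p := 6903) (l := 8) rfl N6903 D15058
theorem N8398 : nd 8398 = n15059 := ndS (p := 6905) (l := 0) rfl N6905 D15059
theorem N8399 : nd 8399 = n15060 := ndS (p := 6905) (l := 6) rfl N6905 D15060
theorem N8400 : nd 8400 = n15061 := ndS (p := 6906) (l := 5) rfl N6906 D15061
theorem N8401 : nd 8401 = n15062 := ndS (p := 6906) (l := 7) rfl N6906 D15062
theorem N8402 : nd 8402 = n15063 := ndS (p := 6907) (l := 4) rfl N6907 D15063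
theorem N8403 : nd 8403 = n15064 := ndS (p := 6907) (l := 7) rfl N6907 D15064
theorem N8404 : nd 8404 = n15065 := ndS (p := 6907) (l := 8) rfl N6907 D15065
theorem N8405 : nd 8405 = n15066 := ndS (p := 6909) (l := 6) rfl N6909 D15066
theorem N8406 : nd 8406 = n15067 := ndS (p := 6909) (l := 8) rfl N6909 D15067
theorem N8407 : nd 8407 = n15068 := ndS (p := 6910) (l := 9) rfl N6910 D15068
theorem N8408 : nd 8408 = n15069 := ndS (p := 6911) (l := 7) rfl N6911 D15069
theorem N8409 : nd 8409 = n15070 := ndS (p := 6911) (l := 8) rfl N6911 D15070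
theorem N8410 : nd 8410 = n15075 := ndS (p := 6915) (l := 9) rfl N6915 D15075
theorem N8411 : nd 8411 = n15077 := ndS (p := 6917) (l := 6) rfl N6917 D15077
theorem N8412 : nd 8412 = n15078 := ndS (p := 6918) (l := 5) rfl N6918 D15078
theorem N8413 : nd 8413 = n15079 := ndS (p := 6918) (l := 7) rfl N6918 D15079
theorem N8414 : nd 8414 = n15080 := ndS (p := 6919) (l := 7) rfl N6919 D15080
theorem N8415 : nd 8415 = n15081 := ndS (p := 6919) (l := 8) rfl N6919 D15081
theorem N8416 : nd 8416 = n15084 := ndS (p := 6921) (l := 5) rfl N6921 D15084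
theorem N8417 : nd 8417 = n15085 := ndS (p := 6921) (l := 7) rfl N6921 D15085
theorem N8418 : nd 8418 = n15086 := ndS (p := 6922) (l := 4) rfl N6922 D15086
theorem N8419 : nd 8419 = n15087 := ndS (p := 6922) (l := 7) rfl N6922 D15087
theorem N8420 : nd 8420 = n15088 := ndS (p := 6922) (l := 8) rfl N6922 D15088
theorem N8421 : nd 8421 = n15089 := ndS (p := 6924) (l := 6) rfl N6924 D15089
theorem N8422 : nd 8422 = n15090 := ndS (p := 6924) (l := 8) rfl N6924 D15090
theorem N8423 : nd 8423 = n15091 := ndS (p := 6925) (l := 9) rfl N6925 D15091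
theorem N8424 : nd 8424 = n15095 := ndS (p := 6927) (l := 7) rfl N6927 D15095
theorem N8425 : nd 8425 = n15099 := ndS (p := 6929) (l := 6) rfl N6929 D15099
theorem N8426 : nd 8426 = n15100 := ndS (p := 6929) (l := 8) rfl N6929 D15100
theorem N8427 : nd 8427 = n15101 := ndS (p := 6930) (l := 9) rfl N6930 D15101
theorem N8428 : nd 8428 = n15103 := ndS (p := 6932) (l := 5) rfl N6932 D15103
theorem N8429 : nd 8429 = n15104 := ndS (p := 6932) (l := 7) rfl N6932 D15104
theorem N8430 : nd 8430 = n15105 := ndS (p := 6933) (l := 7) rfl N6933 D15105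
theorem N8431 : nd 8431 = n15106 := ndS (p := 6933) (l := 8) rfl N6933 D15106
theorem N8432 : nd 8432 = n15107 := ndS (p := 6935) (l := 6) rfl N6935 D15107
theorem N8433 : nd 8433 = n15108 := ndS (p := 6935) (l := 8) rfl N6935 D15108
theorem N8434 : nd 8434 = n15109 := ndS (p := 6936) (l := 9) rfl N6936 D15109
theorem N8435 : nd 8435 = n15110 := ndS (p := 6937) (l := 8) rfl N6937 D15110
theorem N8436 : nd 8436 = n15111 := ndS (p := 6938) (l := 9) rfl N6938 D15111
theorem N8437 : nd 8437 = n15113 := ndS (p := 6940) (l := 9) rfl N6940 D15113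
theorem N8438 : nd 8438 = n15117 := ndS (p := 6942) (l := 7) rfl N6942 D15117
theorem N8439 : nd 8439 = n15118 := ndS (p := 6943) (l := 4) rfl N6943 D15118
theorem N8440 : nd 8440 = n15119 := ndS (p := 6943) (l := 7) rfl N6943 D15119
theorem N8441 : nd 8441 = n15120 := ndS (p := 6943) (l := 8) rfl N6943 D15120
theorem N8442 : nd 8442 = n15121 := ndS (p := 6945) (l := 8) rfl N6945 D15121
theorem N8443 : nd 8443 = n15127 := ndS (p := 6948) (l := 7) rfl N6948 D15127
theorem N8444 : nd 8444 = n15142 := ndS (p := 6952) (l := 8) rfl N6952 D15142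
theorem N8445 : nd 8445 = n15146 := ndS (p := 6954) (l := 4) rfl N6954 D15146
theorem N8446 : nd 8446 = n15147 := ndS (p := 6954) (l := 6) rfl N6954 D15147
theorem N8447 : nd 8447 = n15148 := ndS (p := 6955) (l := 4) rfl N6955 D15148
theorem N8448 : nd 8448 = n15149 := ndS (p := 6955) (l := 6) rfl N6955 D15149
theorem N8449 : nd 8449 = n15150 := ndS (p := 6956) (l := 3) rfl N6956 D15150
theorem N8450 : nd 8450 = n15151 := ndS (p := 6956) (l := 6) rfl N6956 D15151
theorem N8451 : nd 8451 = n15153 := ndS (p := 6958) (l := 3) rfl N6958 D15153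
theorem N8452 : nd 8452 = n15154 := ndS (p := 6958) (l := 6) rfl N6958 D15154
theorem N8453 : nd 8453 = n15156 := ndS (p := 6960) (l := 2) rfl N6960 D15156
theorem N8454 : nd 8454 = n15157 := ndS (p := 6960) (l := 6) rfl N6960 D15157
theorem N8455 : nd 8455 = n15166 := ndS (p := 6962) (l := 4) rfl N6962 D15166
theorem N8456 : nd 8456 = n15167 := ndS (p := 6962) (l := 6) rfl N6962 D15167
theorem N8457 : nd 8457 = n15168 := ndS (p := 6963) (l := 4) rfl N6963 D15168
theorem N8458 : nd 8458 = n15169 := ndS (p := 6963) (l := 6) rfl N6963 D15169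
theorem N8459 : nd 8459 = n15170 := ndS (p := 6964) (l := 3) rfl N6964 D15170
theorem N8460 : nd 8460 = n15171 := ndS (p := 6964) (l := 6) rfl N6964 D15171
theorem N8461 : nd 8461 = n15172 := ndS (p := 6965) (l := 7) rfl N6965 D15172
theorem N8462 : nd 8462 = n15173 := ndS (p := 6966) (l := 4) rfl N6966 D15173
theorem N8463 : nd 8463 = n15174 := ndS (p := 6966) (l := 6) rfl N6966 D15174
theorem N8464 : nd 8464 = n15175 := ndS (p := 6967) (l := 3) rfl N6967 D15175
theorem N8465 : nd 8465 = n15176 := ndS (p := 6967) (l := 6) rfl N6967 D15176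
theorem N8466 : nd 8466 = n15177 := ndS (p := 6968) (l := 7) rfl N6968 D15177
theorem N8467 : nd 8467 = n15178 := ndS (p := 6969) (l := 2) rfl N6969 D15178
theorem N8468 : nd 8468 = n15179 := ndS (p := 6969) (l := 6) rfl N6969 D15179
theorem N8469 : nd 8469 = n15180 := ndS (p := 6970) (l := 5) rfl N6970 D15180
theorem N8470 : nd 8470 = n15181 := ndS (p := 6970) (l := 7) rfl N6970 D15181
theorem N8471 : nd 8471 = n15182 := ndS (p := 6972) (l := 2) rfl N6972 D15182
theorem N8472 : nd 8472 = n15183 := ndS (p := 6972) (l := 6) rfl N6972 D15183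
theorem N8473 : nd 8473 = n15184 := ndS (p := 6973) (l := 5) rfl N6973 D15184
theorem N8474 : nd 8474 = n15185 := ndS (p := 6973) (l := 7) rfl N6973 D15185
theorem N8475 : nd 8475 = n15186 := ndS (p := 6975) (l := 1) rfl N6975 D15186
theorem N8476 : nd 8476 = n15187 := ndS (p := 6975) (l := 6) rfl N6975 D15187
theorem N8477 : nd 8477 = n15188 := ndS (p := 6976) (l := 5) rfl N6976 D15188
theorem N8478 : nd 8478 = n15189 := ndS (p := 6976) (l := 7) rfl N6976 D15189
theorem N8479 : nd 8479 = n15191 := ndS (p := 6977) (l := 8) rfl N6977 D15191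
theorem N8480 : nd 8480 = n15194 := ndS (p := 6979) (l := 4) rfl N6979 D15194
theorem N8481 : nd 8481 = n15196 := ndS (p := 6979) (l := 8) rfl N6979 D15196
theorem N8482 : nd 8482 = n15199 := ndS (p := 6980) (l := 9) rfl N6980 D15199
theorem N8483 : nd 8483 = n15200 := ndS (p := 6981) (l := 3) rfl N6981 D15200
theorem N8484 : nd 8484 = n15201 := ndS (p := 6981) (l := 6) rfl N6981 D15201
theorem N8485 : nd 8485 = n15202 := ndS (p := 6982) (l := 7) rfl N6982 D15202
theorem N8486 : nd 8486 = n15203 := ndS (p := 6983) (l := 3) rfl N6983 D15203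
theorem N8487 : nd 8487 = n15204 := ndS (p := 6983) (l := 6) rfl N6983 D15204
theorem N8488 : nd 8488 = n15205 := ndS (p := 6984) (l := 7) rfl N6984 D15205
theorem N8489 : nd 8489 = n15206 := ndS (p := 6985) (l := 2) rfl N6985 D15206
theorem N8490 : nd 8490 = n15207 := ndS (p := 6985) (l := 6) rfl N6985 D15207
theorem N8491 : nd 8491 = n15208 := ndS (p := 6986) (l := 5) rfl N6986 D15208
theorem N8492 : nd 8492 = n15209 := ndS (p := 6986) (l := 7) rfl N6986 D15209
theorem N8493 : nd 8493 = n15213 := ndS (p := 6990) (l := 2) rfl N6990 D15213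
theorem N8494 : nd 8494 = n15214 := ndS (p := 6990) (l := 6) rfl N6990 D15214
theorem N8495 : nd 8495 = n15215 := ndS (p := 6991) (l := 5) rfl N6991 D15215
theorem N8496 : nd 8496 = n15216 := ndS (p := 6991) (l := 7) rfl N6991 D15216
theorem N8497 : nd 8497 = n15217 := ndS (p := 6993) (l := 1) rfl N6993 D15217
theorem N8498 : nd 8498 = n15218 := ndS (p := 6993) (l := 6) rfl N6993 D15218
theorem N8499 : nd 8499 = n15219 := ndS (p := 6994) (l := 5) rfl N6994 D15219
theorem N8500 : nd 8500 = n15220 := ndS (p := 6994) (l := 7) rfl N6994 D15220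
theorem N8501 : nd 8501 = n15221 := ndS (p := 6995) (l := 7) rfl N6995 D15221
theorem N8502 : nd 8502 = n15222 := ndS (p := 6995) (l := 8) rfl N6995 D15222
theorem N8503 : nd 8503 = n15225 := ndS (p := 6998) (l := 5) rfl N6998 D15225
theorem N8504 : nd 8504 = n15226 := ndS (p := 6998) (l := 7) rfl N6998 D15226
theorem N8505 : nd 8505 = n15227 := ndS (p := 6999) (l := 7) rfl N6999 D15227
theorem N8506 : nd 8506 = n15228 := ndS (p := 6999) (l := 8) rfl N6999 D15228
theorem N8507 : nd 8507 = n15230 := ndS (p := 7001) (l := 6) rfl N7001 D15230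
theorem N8508 : nd 8508 = n15231 := ndS (p := 7002) (l := 5) rfl N7002 D15231
theorem N8509 : nd 8509 = n15232 := ndS (p := 7002) (l := 7) rfl N7002 D15232
theorem N8510 : nd 8510 = n15233 := ndS (p := 7003) (l := 4) rfl N7003 D15233
theorem N8511 : nd 8511 = n15234 := ndS (p := 7003) (l := 7) rfl N7003 D15234
theorem N8512 : nd 8512 = n15235 := ndS (p := 7003) (l := 8) rfl N7003 D15235
theorem N8513 : nd 8513 = n15236 := ndS (p := 7005) (l := 6) rfl N7005 D15236
theorem N8514 : nd 8514 = n15237 := ndS (p := 7005) (l := 8) rfl N7005 D15237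
theorem N8515 : nd 8515 = n15238 := ndS (p := 7006) (l := 9) rfl N7006 D15238
theorem N8516 : nd 8516 = n15239 := ndS (p := 7007) (l := 7) rfl N7007 D15239
theorem N8517 : nd 8517 = n15240 := ndS (p := 7007) (l := 8) rfl N7007 D15240
theorem N8518 : nd 8518 = n15244 := ndS (p := 7010) (l := 8) rfl N7010 D15244
theorem N8519 : nd 8519 = n15247 := ndS (p := 7013) (l := 6) rfl N7013 D15247
theorem N8520 : nd 8520 = n15248 := ndS (p := 7014) (l := 7) rfl N7014 D15248
theorem N8521 : nd 8521 = n15249 := ndS (p := 7015) (l := 2) rfl N7015 D15249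
theorem N8522 : nd 8522 = n15250 := ndS (p := 7015) (l := 6) rfl N7015 D15250
theorem N8523 : nd 8523 = n15251 := ndS (p := 7016) (l := 5) rfl N7016 D15251
theorem N8524 : nd 8524 = n15252 := ndS (p := 7016) (l := 7) rfl N7016 D15252
theorem N8525 : nd 8525 = n15253 := ndS (p := 7018) (l := 1) rfl N7018 D15253
theorem N8526 : nd 8526 = n15254 := ndS (p := 7018) (l := 6) rfl N7018 D15254
theorem N8527 : nd 8527 = n15255 := ndS (p := 7019) (l := 5) rfl N7019 D15255
theorem N8528 : nd 8528 = n15256 := ndS (p := 7019) (l := 7) rfl N7019 D15256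
theorem N8529 : nd 8529 = n15257 := ndS (p := 7020) (l := 7) rfl N7020 D15257
theorem N8530 : nd 8530 = n15258 := ndS (p := 7020) (l := 8) rfl N7020 D15258
theorem N8531 : nd 8531 = n15268 := ndS (p := 7023) (l := 8) rfl N7023 D15268
theorem N8532 : nd 8532 = n15270 := ndS (p := 7025) (l := 6) rfl N7025 D15270
theorem N8533 : nd 8533 = n15271 := ndS (p := 7026) (l := 5) rfl N7026 D15271
theorem N8534 : nd 8534 = n15272 := ndS (p := 7026) (l := 7) rfl N7026 D15272
theorem N8535 : nd 8535 = n15273 := ndS (p := 7027) (l := 4) rfl N7027 D15273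
theorem N8536 : nd 8536 = n15274 := ndS (p := 7027) (l := 7) rfl N7027 D15274
theorem N8537 : nd 8537 = n15275 := ndS (p := 7027) (l := 8) rfl N7027 D15275
theorem N8538 : nd 8538 = n15276 := ndS (p := 7029) (l := 6) rfl N7029 D15276
theorem N8539 : nd 8539 = n15277 := ndS (p := 7029) (l := 8) rfl N7029 D15277
theorem N8540 : nd 8540 = n15278 := ndS (p := 7030) (l := 9) rfl N7030 D15278
theorem N8541 : nd 8541 = n15286 := ndS (p := 7031) (l := 6) rfl N7031 D15286
theorem N8542 : nd 8542 = n15287 := ndS (p := 7031) (l := 8) rfl N7031 D15287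
theorem N8543 : nd 8543 = n15288 := ndS (p := 7032) (l := 9) rfl N7032 D15288
theorem N8544 : nd 8544 = n15290 := ndS (p := 7033) (l := 5) rfl N7033 D15290
theorem N8545 : nd 8545 = n15292 := ndS (p := 7034) (l := 7) rfl N7034 D15292
theorem N8546 : nd 8546 = n15293 := ndS (p := 7034) (l := 8) rfl N7034 D15293
theorem N8547 : nd 8547 = n15294 := ndS (p := 7036) (l := 6) rfl N7036 D15294
theorem N8548 : nd 8548 = n15295 := ndS (p := 7036) (l := 8) rfl N7036 D15295
theorem N8549 : nd 8549 = n15296 := ndS (p := 7037) (l := 9) rfl N7037 D15296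
theorem N8550 : nd 8550 = n15297 := ndS (p := 7038) (l := 8) rfl N7038 D15297
theorem N8551 : nd 8551 = n15298 := ndS (p := 7039) (l := 9) rfl N7039 D15298
theorem N8552 : nd 8552 = n15299 := ndS (p := 7041) (l := 5) rfl N7041 D15299
theorem N8553 : nd 8553 = n15300 := ndS (p := 7041) (l := 9) rfl N7041 D15300
theorem N8554 : nd 8554 = n15318 := ndS (p := 7043) (l := 5) rfl N7043 D15318
theorem N8555 : nd 8555 = n15344 := ndS (p := 7047) (l := 2) rfl N7047 D15344
theorem N8556 : nd 8556 = n15345 := ndS (p := 7047) (l := 6) rfl N7047 D15345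
theorem N8557 : nd 8557 = n15346 := ndS (p := 7048) (l := 5) rfl N7048 D15346
theorem N8558 : nd 8558 = n15348 := ndS (p := 7049) (l := 1) rfl N7049 D15348
theorem N8559 : nd 8559 = n15349 := ndS (p := 7049) (l := 6) rfl N7049 D15349
theorem N8560 : nd 8560 = n15365 := ndS (p := 7052) (l := 5) rfl N7052 D15365
theorem N8561 : nd 8561 = n15366 := ndS (p := 7052) (l := 7) rfl N7052 D15366
theorem N8562 : nd 8562 = n15367 := ndS (p := 7053) (l := 7) rfl N7053 D15367
theorem N8563 : nd 8563 = n15368 := ndS (p := 7053) (l := 8) rfl N7053 D15368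
theorem N8564 : nd 8564 = n15369 := ndS (p := 7055) (l := 0) rfl N7055 D15369
theorem N8565 : nd 8565 = n15370 := ndS (p := 7055) (l := 6) rfl N7055 D15370
theorem N8566 : nd 8566 = n15371 := ndS (p := 7056) (l := 5) rfl N7056 D15371
theorem N8567 : nd 8567 = n15373 := ndS (p := 7057) (l := 4) rfl N7057 D15373
theorem N8568 : nd 8568 = n15375 := ndS (p := 7057) (l := 8) rfl N7057 D15375
theorem N8569 : nd 8569 = n15393 := ndS (p := 7061) (l := 4) rfl N7061 D15393
theorem N8570 : nd 8570 = n15394 := ndS (p := 7061) (l := 7) rfl N7061 D15394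
theorem N8571 : nd 8571 = n15395 := ndS (p := 7061) (l := 8) rfl N7061 D15395
theorem N8572 : nd 8572 = n15396 := ndS (p := 7063) (l := 6) rfl N7063 D15396
theorem N8573 : nd 8573 = n15397 := ndS (p := 7063) (l := 8) rfl N7063 D15397
theorem N8574 : nd 8574 = n15398 := ndS (p := 7064) (l := 9) rfl N7064 D15398
theorem N8575 : nd 8575 = n15400 := ndS (p := 7065) (l := 5) rfl N7065 D15400
theorem N8576 : nd 8576 = n15402 := ndS (p := 7066) (l := 4) rfl N7066 D15402
theorem N8577 : nd 8577 = n15403 := ndS (p := 7066) (l := 7) rfl N7066 D15403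
theorem N8578 : nd 8578 = n15404 := ndS (p := 7066) (l := 8) rfl N7066 D15404
theorem N8579 : nd 8579 = n15407 := ndS (p := 7069) (l := 6) rfl N7069 D15407
theorem N8580 : nd 8580 = n15409 := ndS (p := 7070) (l := 9) rfl N7070 D15409
theorem N8581 : nd 8581 = n15431 := ndS (p := 7073) (l := 8) rfl N7073 D15431
theorem N8582 : nd 8582 = n15432 := ndS (p := 7074) (l := 9) rfl N7074 D15432
theorem N8583 : nd 8583 = n15436 := ndS (p := 7076) (l := 8) rfl N7076 D15436
theorem N8584 : nd 8584 = n15437 := ndS (p := 7077) (l := 6) rfl N7077 D15437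
theorem N8585 : nd 8585 = n15438 := ndS (p := 7077) (l := 8) rfl N7077 D15438
theorem N8586 : nd 8586 = n15439 := ndS (p := 7078) (l := 9) rfl N7078 D15439
theorem N8587 : nd 8587 = n15440 := ndS (p := 7079) (l := 8) rfl N7079 D15440
theorem N8588 : nd 8588 = n15441 := ndS (p := 7080) (l := 9) rfl N7080 D15441
theorem N8589 : nd 8589 = n15442 := ndS (p := 7082) (l := 5) rfl N7082 D15442
theorem N8590 : nd 8590 = n15443 := ndS (p := 7082) (l := 9) rfl N7082 D15443
theorem N8591 : nd 8591 = n15499 := ndS (p := 7085) (l := 3) rfl N7085 D15499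
theorem N8592 : nd 8592 = n15500 := ndS (p := 7085) (l := 6) rfl N7085 D15500
theorem N8593 : nd 8593 = n15502 := ndS (p := 7087) (l := 3) rfl N7087 D15502
theorem N8594 : nd 8594 = n15506 := ndS (p := 7089) (l := 5) rfl N7089 D15506
theorem N8595 : nd 8595 = n15513 := ndS (p := 7090) (l := 8) rfl N7090 D15513
theorem N8596 : nd 8596 = n15522 := ndS (p := 7092) (l := 3) rfl N7092 D15522
theorem N8597 : nd 8597 = n15523 := ndS (p := 7092) (l := 6) rfl N7092 D15523
theorem N8598 : nd 8598 = n15524 := ndS (p := 7093) (l := 7) rfl N7093 D15524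
theorem N8599 : nd 8599 = n15525 := ndS (p := 7094) (l := 4) rfl N7094 D15525
theorem N8600 : nd 8600 = n15526 := ndS (p := 7094) (l := 6) rfl N7094 D15526
theorem N8601 : nd 8601 = n15527 := ndS (p := 7095) (l := 3) rfl N7095 D15527
theorem N8602 : nd 8602 = n15528 := ndS (p := 7095) (l := 6) rfl N7095 D15528
theorem N8603 : nd 8603 = n15529 := ndS (p := 7096) (l := 7) rfl N7096 D15529
theorem N8604 : nd 8604 = n15531 := ndS (p := 7097) (l := 6) rfl N7097 D15531
theorem N8605 : nd 8605 = n15532 := ndS (p := 7098) (l := 5) rfl N7098 D15532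
theorem N8606 : nd 8606 = n15533 := ndS (p := 7098) (l := 7) rfl N7098 D15533
theorem N8607 : nd 8607 = n15534 := ndS (p := 7100) (l := 4) rfl N7100 D15534
theorem N8608 : nd 8608 = n15535 := ndS (p := 7100) (l := 6) rfl N7100 D15535
theorem N8609 : nd 8609 = n15536 := ndS (p := 7101) (l := 4) rfl N7101 D15536
theorem N8610 : nd 8610 = n15537 := ndS (p := 7101) (l := 6) rfl N7101 D15537
theorem N8611 : nd 8611 = n15538 := ndS (p := 7102) (l := 3) rfl N7102 D15538
theorem N8612 : nd 8612 = n15539 := ndS (p := 7102) (l := 6) rfl N7102 D15539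
theorem N8613 : nd 8613 = n15540 := ndS (p := 7103) (l := 7) rfl N7103 D15540
theorem N8614 : nd 8614 = n15541 := ndS (p := 7104) (l := 3) rfl N7104 D15541
theorem N8615 : nd 8615 = n15542 := ndS (p := 7104) (l := 6) rfl N7104 D15542
theorem N8616 : nd 8616 = n15543 := ndS (p := 7105) (l := 7) rfl N7105 D15543
theorem N8617 : nd 8617 = n15544 := ndS (p := 7106) (l := 2) rfl N7106 D15544
theorem N8618 : nd 8618 = n15545 := ndS (p := 7106) (l := 6) rfl N7106 D15545
theorem N8619 : nd 8619 = n15546 := ndS (p := 7107) (l := 5) rfl N7107 D15546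
theorem N8620 : nd 8620 = n15547 := ndS (p := 7107) (l := 7) rfl N7107 D15547
theorem N8621 : nd 8621 = n15548 := ndS (p := 7109) (l := 5) rfl N7109 D15548
theorem N8622 : nd 8622 = n15549 := ndS (p := 7109) (l := 7) rfl N7109 D15549
theorem N8623 : nd 8623 = n15550 := ndS (p := 7110) (l := 7) rfl N7110 D15550
theorem N8624 : nd 8624 = n15551 := ndS (p := 7110) (l := 8) rfl N7110 D15551
theorem N8625 : nd 8625 = n15553 := ndS (p := 7112) (l := 6) rfl N7112 D15553
theorem N8626 : nd 8626 = n15554 := ndS (p := 7113) (l := 7) rfl N7113 D15554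
theorem N8627 : nd 8627 = n15556 := ndS (p := 7114) (l := 6) rfl N7114 D15556
theorem N8628 : nd 8628 = n15557 := ndS (p := 7115) (l := 7) rfl N7115 D15557
theorem N8629 : nd 8629 = n15558 := ndS (p := 7116) (l := 2) rfl N7116 D15558
theorem N8630 : nd 8630 = n15559 := ndS (p := 7116) (l := 6) rfl N7116 D15559
theorem N8631 : nd 8631 = n15560 := ndS (p := 7117) (l := 5) rfl N7117 D15560
theorem N8632 : nd 8632 = n15561 := ndS (p := 7117) (l := 7) rfl N7117 D15561
theorem N8633 : nd 8633 = n15565 := ndS (p := 7119) (l := 7) rfl N7119 D15565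
theorem N8634 : nd 8634 = n15566 := ndS (p := 7121) (l := 1) rfl N7121 D15566
theorem N8635 : nd 8635 = n15567 := ndS (p := 7121) (l := 6) rfl N7121 D15567
theorem N8636 : nd 8636 = n15569 := ndS (p := 7122) (l := 7) rfl N7122 D15569
theorem N8637 : nd 8637 = n15570 := ndS (p := 7123) (l := 7) rfl N7123 D15570
theorem N8638 : nd 8638 = n15571 := ndS (p := 7123) (l := 8) rfl N7123 D15571
theorem N8639 : nd 8639 = n15572 := ndS (p := 7125) (l := 6) rfl N7125 D15572
theorem N8640 : nd 8640 = n15573 := ndS (p := 7125) (l := 8) rfl N7125 D15573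
theorem N8641 : nd 8641 = n15574 := ndS (p := 7126) (l := 9) rfl N7126 D15574
theorem N8642 : nd 8642 = n15575 := ndS (p := 7127) (l := 2) rfl N7127 D15575
theorem N8643 : nd 8643 = n15576 := ndS (p := 7127) (l := 6) rfl N7127 D15576
theorem N8644 : nd 8644 = n15577 := ndS (p := 7128) (l := 5) rfl N7128 D15577
theorem N8645 : nd 8645 = n15578 := ndS (p := 7128) (l := 7) rfl N7128 D15578
theorem N8646 : nd 8646 = n15579 := ndS (p := 7130) (l := 1) rfl N7130 D15579
theorem N8647 : nd 8647 = n15580 := ndS (p := 7130) (l := 6) rfl N7130 D15580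
theorem N8648 : nd 8648 = n15581 := ndS (p := 7131) (l := 5) rfl N7131 D15581
theorem N8649 : nd 8649 = n15582 := ndS (p := 7131) (l := 7) rfl N7131 D15582
theorem N8650 : nd 8650 = n15583 := ndS (p := 7132) (l := 7) rfl N7132 D15583
theorem N8651 : nd 8651 = n15584 := ndS (p := 7134) (l := 1) rfl N7134 D15584
theorem N8652 : nd 8652 = n15585 := ndS (p := 7134) (l := 6) rfl N7134 D15585
theorem N8653 : nd 8653 = n15587 := ndS (p := 7135) (l := 7) rfl N7135 D15587
theorem N8654 : nd 8654 = n15588 := ndS (p := 7136) (l := 7) rfl N7136 D15588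
theorem N8655 : nd 8655 = n15589 := ndS (p := 7136) (l := 8) rfl N7136 D15589
theorem N8656 : nd 8656 = n15590 := ndS (p := 7138) (l := 0) rfl N7138 D15590
theorem N8657 : nd 8657 = n15591 := ndS (p := 7138) (l := 6) rfl N7138 D15591
theorem N8658 : nd 8658 = n15592 := ndS (p := 7139) (l := 7) rfl N7139 D15592
theorem N8659 : nd 8659 = n15599 := ndS (p := 7144) (l := 4) rfl N7144 D15599
theorem N8660 : nd 8660 = n15600 := ndS (p := 7144) (l := 6) rfl N7144 D15600
theorem N8661 : nd 8661 = n15601 := ndS (p := 7145) (l := 3) rfl N7145 D15601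
theorem N8662 : nd 8662 = n15602 := ndS (p := 7145) (l := 6) rfl N7145 D15602
theorem N8663 : nd 8663 = n15603 := ndS (p := 7146) (l := 7) rfl N7146 D15603
theorem N8664 : nd 8664 = n15605 := ndS (p := 7147) (l := 6) rfl N7147 D15605
theorem N8665 : nd 8665 = n15606 := ndS (p := 7148) (l := 5) rfl N7148 D15606
theorem N8666 : nd 8666 = n15607 := ndS (p := 7148) (l := 7) rfl N7148 D15607
theorem N8667 : nd 8667 = n15608 := ndS (p := 7150) (l := 4) rfl N7150 D15608
theorem N8668 : nd 8668 = n15609 := ndS (p := 7150) (l := 6) rfl N7150 D15609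
theorem N8669 : nd 8669 = n15610 := ndS (p := 7151) (l := 3) rfl N7151 D15610
theorem N8670 : nd 8670 = n15611 := ndS (p := 7151) (l := 6) rfl N7151 D15611
theorem N8671 : nd 8671 = n15612 := ndS (p := 7152) (l := 7) rfl N7152 D15612
theorem N8672 : nd 8672 = n15613 := ndS (p := 7153) (l := 2) rfl N7153 D15613
theorem N8673 : nd 8673 = n15614 := ndS (p := 7153) (l := 6) rfl N7153 D15614
theorem N8674 : nd 8674 = n15615 := ndS (p := 7154) (l := 5) rfl N7154 D15615
theorem N8675 : nd 8675 = n15616 := ndS (p := 7154) (l := 7) rfl N7154 D15616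
theorem N8676 : nd 8676 = n15618 := ndS (p := 7156) (l := 5) rfl N7156 D15618
theorem N8677 : nd 8677 = n15619 := ndS (p := 7156) (l := 7) rfl N7156 D15619
theorem N8678 : nd 8678 = n15620 := ndS (p := 7157) (l := 7) rfl N7157 D15620
theorem N8679 : nd 8679 = n15621 := ndS (p := 7157) (l := 8) rfl N7157 D15621
theorem N8680 : nd 8680 = n15622 := ndS (p := 7159) (l := 4) rfl N7159 D15622
theorem N8681 : nd 8681 = n15623 := ndS (p := 7159) (l := 6) rfl N7159 D15623
theorem N8682 : nd 8682 = n15624 := ndS (p := 7160) (l := 3) rfl N7160 D15624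
theorem N8683 : nd 8683 = n15625 := ndS (p := 7160) (l := 6) rfl N7160 D15625
theorem N8684 : nd 8684 = n15626 := ndS (p := 7161) (l := 7) rfl N7161 D15626
theorem N8685 : nd 8685 = n15627 := ndS (p := 7162) (l := 2) rfl N7162 D15627
theorem N8686 : nd 8686 = n15628 := ndS (p := 7162) (l := 6) rfl N7162 D15628
theorem N8687 : nd 8687 = n15629 := ndS (p := 7163) (l := 5) rfl N7163 D15629
theorem N8688 : nd 8688 = n15630 := ndS (p := 7163) (l := 7) rfl N7163 D15630
theorem N8689 : nd 8689 = n15631 := ndS (p := 7165) (l := 1) rfl N7165 D15631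
theorem N8690 : nd 8690 = n15632 := ndS (p := 7165) (l := 6) rfl N7165 D15632
theorem N8691 : nd 8691 = n15633 := ndS (p := 7166) (l := 5) rfl N7166 D15633
theorem N8692 : nd 8692 = n15634 := ndS (p := 7166) (l := 7) rfl N7166 D15634
theorem N8693 : nd 8693 = n15635 := ndS (p := 7167) (l := 7) rfl N7167 D15635
theorem N8694 : nd 8694 = n15636 := ndS (p := 7167) (l := 8) rfl N7167 D15636
theorem N8695 : nd 8695 = n15637 := ndS (p := 7169) (l := 4) rfl N7169 D15637
theorem N8696 : nd 8696 = n15638 := ndS (p := 7169) (l := 7) rfl N7169 D15638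
theorem N8697 : nd 8697 = n15639 := ndS (p := 7169) (l := 8) rfl N7169 D15639
theorem N8698 : nd 8698 = n15640 := ndS (p := 7171) (l := 6) rfl N7171 D15640
theorem N8699 : nd 8699 = n15641 := ndS (p := 7171) (l := 8) rfl N7171 D15641
theorem N8700 : nd 8700 = n15642 := ndS (p := 7172) (l := 9) rfl N7172 D15642
theorem N8701 : nd 8701 = n15643 := ndS (p := 7173) (l := 2) rfl N7173 D15643
theorem N8702 : nd 8702 = n15644 := ndS (p := 7173) (l := 6) rfl N7173 D15644
theorem N8703 : nd 8703 = n15645 := ndS (p := 7174) (l := 5) rfl N7174 D15645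
theorem N8704 : nd 8704 = n15646 := ndS (p := 7174) (l := 7) rfl N7174 D15646
theorem N8705 : nd 8705 = n15647 := ndS (p := 7176) (l := 1) rfl N7176 D15647
theorem N8706 : nd 8706 = n15648 := ndS (p := 7176) (l := 6) rfl N7176 D15648
theorem N8707 : nd 8707 = n15649 := ndS (p := 7177) (l := 5) rfl N7177 D15649
theorem N8708 : nd 8708 = n15650 := ndS (p := 7177) (l := 7) rfl N7177 D15650
theorem N8709 : nd 8709 = n15651 := ndS (p := 7178) (l := 7) rfl N7178 D15651
theorem N8710 : nd 8710 = n15652 := ndS (p := 7178) (l := 8) rfl N7178 D15652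
theorem N8711 : nd 8711 = n15654 := ndS (p := 7180) (l := 6) rfl N7180 D15654
theorem N8712 : nd 8712 = n15655 := ndS (p := 7181) (l := 5) rfl N7181 D15655
theorem N8713 : nd 8713 = n15656 := ndS (p := 7181) (l := 7) rfl N7181 D15656
theorem N8714 : nd 8714 = n15657 := ndS (p := 7182) (l := 7) rfl N7182 D15657
theorem N8715 : nd 8715 = n15658 := ndS (p := 7182) (l := 8) rfl N7182 D15658
theorem N8716 : nd 8716 = n15659 := ndS (p := 7184) (l := 6) rfl N7184 D15659
theorem N8717 : nd 8717 = n15660 := ndS (p := 7184) (l := 8) rfl N7184 D15660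
theorem N8718 : nd 8718 = n15661 := ndS (p := 7185) (l := 9) rfl N7185 D15661
theorem N8719 : nd 8719 = n15662 := ndS (p := 7186) (l := 8) rfl N7186 D15662
theorem N8720 : nd 8720 = n15663 := ndS (p := 7187) (l := 9) rfl N7187 D15663
theorem N8721 : nd 8721 = n15665 := ndS (p := 7189) (l := 6) rfl N7189 D15665
theorem N8722 : nd 8722 = n15666 := ndS (p := 7190) (l := 5) rfl N7190 D15666
theorem N8723 : nd 8723 = n15667 := ndS (p := 7190) (l := 7) rfl N7190 D15667
theorem N8724 : nd 8724 = n15668 := ndS (p := 7191) (l := 4) rfl N7191 D15668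
theorem N8725 : nd 8725 = n15669 := ndS (p := 7191) (l := 7) rfl N7191 D15669
theorem N8726 : nd 8726 = n15670 := ndS (p := 7193) (l := 6) rfl N7193 D15670
theorem N8727 : nd 8727 = n15672 := ndS (p := 7194) (l := 7) rfl N7194 D15672
theorem N8728 : nd 8728 = n15674 := ndS (p := 7196) (l := 6) rfl N7196 D15674
theorem N8729 : nd 8729 = n15675 := ndS (p := 7197) (l := 5) rfl N7197 D15675
theorem N8730 : nd 8730 = n15676 := ndS (p := 7197) (l := 7) rfl N7197 D15676
theorem N8731 : nd 8731 = n15679 := ndS (p := 7199) (l := 5) rfl N7199 D15679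
theorem N8732 : nd 8732 = n15680 := ndS (p := 7199) (l := 7) rfl N7199 D15680
theorem N8733 : nd 8733 = n15681 := ndS (p := 7200) (l := 7) rfl N7200 D15681
theorem N8734 : nd 8734 = n15682 := ndS (p := 7200) (l := 8) rfl N7200 D15682
theorem N8735 : nd 8735 = n15683 := ndS (p := 7202) (l := 1) rfl N7202 D15683
theorem N8736 : nd 8736 = n15684 := ndS (p := 7202) (l := 6) rfl N7202 D15684
theorem N8737 : nd 8737 = n15685 := ndS (p := 7203) (l := 5) rfl N7203 D15685
theorem N8738 : nd 8738 = n15686 := ndS (p := 7203) (l := 7) rfl N7203 D15686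
theorem N8739 : nd 8739 = n15687 := ndS (p := 7204) (l := 7) rfl N7204 D15687
theorem N8740 : nd 8740 = n15688 := ndS (p := 7204) (l := 8) rfl N7204 D15688
theorem N8741 : nd 8741 = n15692 := ndS (p := 7206) (l := 7) rfl N7206 D15692
theorem N8742 : nd 8742 = n15693 := ndS (p := 7206) (l := 8) rfl N7206 D15693
theorem N8743 : nd 8743 = n15694 := ndS (p := 7208) (l := 6) rfl N7208 D15694
theorem N8744 : nd 8744 = n15695 := ndS (p := 7208) (l := 8) rfl N7208 D15695
theorem N8745 : nd 8745 = n15696 := ndS (p := 7209) (l := 9) rfl N7209 D15696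
theorem N8746 : nd 8746 = n15698 := ndS (p := 7210) (l := 6) rfl N7210 D15698
theorem N8747 : nd 8747 = n15699 := ndS (p := 7211) (l := 5) rfl N7211 D15699
theorem N8748 : nd 8748 = n15700 := ndS (p := 7211) (l := 7) rfl N7211 D15700
theorem N8749 : nd 8749 = n15701 := ndS (p := 7212) (l := 4) rfl N7212 D15701
theorem N8750 : nd 8750 = n15702 := ndS (p := 7212) (l := 7) rfl N7212 D15702
theorem N8751 : nd 8751 = n15703 := ndS (p := 7212) (l := 8) rfl N7212 D15703
theorem N8752 : nd 8752 = n15704 := ndS (p := 7214) (l := 6) rfl N7214 D15704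
theorem N8753 : nd 8753 = n15705 := ndS (p := 7214) (l := 8) rfl N7214 D15705
theorem N8754 : nd 8754 = n15706 := ndS (p := 7215) (l := 9) rfl N7215 D15706
theorem N8755 : nd 8755 = n15707 := ndS (p := 7216) (l := 7) rfl N7216 D15707
theorem N8756 : nd 8756 = n15708 := ndS (p := 7216) (l := 8) rfl N7216 D15708
theorem N8757 : nd 8757 = n15709 := ndS (p := 7217) (l := 6) rfl N7217 D15709
theorem N8758 : nd 8758 = n15710 := ndS (p := 7217) (l := 8) rfl N7217 D15710
theorem N8759 : nd 8759 = n15711 := ndS (p := 7218) (l := 9) rfl N7218 D15711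
theorem N8760 : nd 8760 = n15712 := ndS (p := 7219) (l := 8) rfl N7219 D15712
theorem N8761 : nd 8761 = n15713 := ndS (p := 7220) (l := 9) rfl N7220 D15713
theorem N8762 : nd 8762 = n15715 := ndS (p := 7222) (l := 5) rfl N7222 D15715
theorem N8763 : nd 8763 = n15716 := ndS (p := 7222) (l := 7) rfl N7222 D15716
theorem N8764 : nd 8764 = n15717 := ndS (p := 7223) (l := 7) rfl N7223 D15717
theorem N8765 : nd 8765 = n15718 := ndS (p := 7223) (l := 8) rfl N7223 D15718
theorem N8766 : nd 8766 = n15719 := ndS (p := 7225) (l := 6) rfl N7225 D15719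
theorem N8767 : nd 8767 = n15720 := ndS (p := 7225) (l := 8) rfl N7225 D15720
theorem N8768 : nd 8768 = n15721 := ndS (p := 7226) (l := 9) rfl N7226 D15721
theorem N8769 : nd 8769 = n15722 := ndS (p := 7227) (l := 8) rfl N7227 D15722
theorem N8770 : nd 8770 = n15723 := ndS (p := 7228) (l := 9) rfl N7228 D15723
theorem N8771 : nd 8771 = n15724 := ndS (p := 7230) (l := 5) rfl N7230 D15724
theorem N8772 : nd 8772 = n15725 := ndS (p := 7230) (l := 9) rfl N7230 D15725
theorem N8773 : nd 8773 = n15727 := ndS (p := 7233) (l := 4) rfl N7233 D15727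
theorem N8774 : nd 8774 = n15728 := ndS (p := 7233) (l := 6) rfl N7233 D15728
theorem N8775 : nd 8775 = n15729 := ndS (p := 7234) (l := 3) rfl N7234 D15729
theorem N8776 : nd 8776 = n15730 := ndS (p := 7234) (l := 6) rfl N7234 D15730
theorem N8777 : nd 8777 = n15731 := ndS (p := 7235) (l := 7) rfl N7235 D15731
theorem N8778 : nd 8778 = n15733 := ndS (p := 7236) (l := 6) rfl N7236 D15733
theorem N8779 : nd 8779 = n15734 := ndS (p := 7237) (l := 5) rfl N7237 D15734
theorem N8780 : nd 8780 = n15735 := ndS (p := 7237) (l := 7) rfl N7237 D15735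
theorem N8781 : nd 8781 = n15736 := ndS (p := 7239) (l := 4) rfl N7239 D15736
theorem N8782 : nd 8782 = n15737 := ndS (p := 7239) (l := 6) rfl N7239 D15737
theorem N8783 : nd 8783 = n15738 := ndS (p := 7240) (l := 4) rfl N7240 D15738
theorem N8784 : nd 8784 = n15739 := ndS (p := 7240) (l := 6) rfl N7240 D15739
theorem N8785 : nd 8785 = n15740 := ndS (p := 7241) (l := 4) rfl N7241 D15740
theorem N8786 : nd 8786 = n15741 := ndS (p := 7241) (l := 6) rfl N7241 D15741
theorem N8787 : nd 8787 = n15742 := ndS (p := 7242) (l := 3) rfl N7242 D15742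
theorem N8788 : nd 8788 = n15743 := ndS (p := 7242) (l := 6) rfl N7242 D15743
theorem N8789 : nd 8789 = n15744 := ndS (p := 7243) (l := 7) rfl N7243 D15744
theorem N8790 : nd 8790 = n15745 := ndS (p := 7244) (l := 3) rfl N7244 D15745
theorem N8791 : nd 8791 = n15746 := ndS (p := 7244) (l := 6) rfl N7244 D15746
theorem N8792 : nd 8792 = n15747 := ndS (p := 7245) (l := 7) rfl N7245 D15747
theorem N8793 : nd 8793 = n15748 := ndS (p := 7246) (l := 2) rfl N7246 D15748
theorem N8794 : nd 8794 = n15749 := ndS (p := 7246) (l := 6) rfl N7246 D15749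
theorem N8795 : nd 8795 = n15750 := ndS (p := 7247) (l := 5) rfl N7247 D15750
theorem N8796 : nd 8796 = n15751 := ndS (p := 7247) (l := 7) rfl N7247 D15751
theorem N8797 : nd 8797 = n15753 := ndS (p := 7249) (l := 5) rfl N7249 D15753
theorem N8798 : nd 8798 = n15754 := ndS (p := 7249) (l := 7) rfl N7249 D15754
theorem N8799 : nd 8799 = n15755 := ndS (p := 7250) (l := 7) rfl N7250 D15755
theorem N8800 : nd 8800 = n15756 := ndS (p := 7250) (l := 8) rfl N7250 D15756
theorem N8801 : nd 8801 = n15757 := ndS (p := 7252) (l := 4) rfl N7252 D15757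
theorem N8802 : nd 8802 = n15758 := ndS (p := 7252) (l := 6) rfl N7252 D15758
theorem N8803 : nd 8803 = n15759 := ndS (p := 7253) (l := 3) rfl N7253 D15759
theorem N8804 : nd 8804 = n15760 := ndS (p := 7253) (l := 6) rfl N7253 D15760
theorem N8805 : nd 8805 = n15761 := ndS (p := 7254) (l := 7) rfl N7254 D15761
theorem N8806 : nd 8806 = n15762 := ndS (p := 7255) (l := 4) rfl N7255 D15762
theorem N8807 : nd 8807 = n15763 := ndS (p := 7255) (l := 6) rfl N7255 D15763
theorem N8808 : nd 8808 = n15764 := ndS (p := 7256) (l := 3) rfl N7256 D15764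
theorem N8809 : nd 8809 = n15765 := ndS (p := 7256) (l := 6) rfl N7256 D15765
theorem N8810 : nd 8810 = n15766 := ndS (p := 7257) (l := 7) rfl N7257 D15766
theorem N8811 : nd 8811 = n15767 := ndS (p := 7258) (l := 3) rfl N7258 D15767
theorem N8812 : nd 8812 = n15768 := ndS (p := 7258) (l := 6) rfl N7258 D15768
theorem N8813 : nd 8813 = n15769 := ndS (p := 7259) (l := 7) rfl N7259 D15769
theorem N8814 : nd 8814 = n15770 := ndS (p := 7260) (l := 2) rfl N7260 D15770
theorem N8815 : nd 8815 = n15771 := ndS (p := 7260) (l := 6) rfl N7260 D15771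
theorem N8816 : nd 8816 = n15772 := ndS (p := 7261) (l := 5) rfl N7261 D15772
theorem N8817 : nd 8817 = n15773 := ndS (p := 7261) (l := 7) rfl N7261 D15773
theorem N8818 : nd 8818 = n15774 := ndS (p := 7263) (l := 2) rfl N7263 D15774
theorem N8819 : nd 8819 = n15775 := ndS (p := 7263) (l := 6) rfl N7263 D15775
theorem N8820 : nd 8820 = n15776 := ndS (p := 7264) (l := 5) rfl N7264 D15776
theorem N8821 : nd 8821 = n15777 := ndS (p := 7264) (l := 7) rfl N7264 D15777
theorem N8822 : nd 8822 = n15778 := ndS (p := 7266) (l := 1) rfl N7266 D15778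
theorem N8823 : nd 8823 = n15779 := ndS (p := 7266) (l := 6) rfl N7266 D15779
theorem N8824 : nd 8824 = n15780 := ndS (p := 7267) (l := 5) rfl N7267 D15780
theorem N8825 : nd 8825 = n15781 := ndS (p := 7267) (l := 7) rfl N7267 D15781
theorem N8826 : nd 8826 = n15782 := ndS (p := 7268) (l := 7) rfl N7268 D15782
theorem N8827 : nd 8827 = n15783 := ndS (p := 7268) (l := 8) rfl N7268 D15783
theorem N8828 : nd 8828 = n15784 := ndS (p := 7270) (l := 4) rfl N7270 D15784
theorem N8829 : nd 8829 = n15785 := ndS (p := 7270) (l := 7) rfl N7270 D15785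
theorem N8830 : nd 8830 = n15786 := ndS (p := 7270) (l := 8) rfl N7270 D15786
theorem N8831 : nd 8831 = n15787 := ndS (p := 7272) (l := 6) rfl N7272 D15787
theorem N8832 : nd 8832 = n15788 := ndS (p := 7272) (l := 8) rfl N7272 D15788
theorem N8833 : nd 8833 = n15789 := ndS (p := 7273) (l := 9) rfl N7273 D15789
theorem N8834 : nd 8834 = n15790 := ndS (p := 7274) (l := 3) rfl N7274 D15790
theorem N8835 : nd 8835 = n15791 := ndS (p := 7274) (l := 6) rfl N7274 D15791
theorem N8836 : nd 8836 = n15792 := ndS (p := 7275) (l := 7) rfl N7275 D15792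
theorem N8837 : nd 8837 = n15793 := ndS (p := 7276) (l := 3) rfl N7276 D15793
theorem N8838 : nd 8838 = n15794 := ndS (p := 7276) (l := 6) rfl N7276 D15794
theorem N8839 : nd 8839 = n15795 := ndS (p := 7277) (l := 7) rfl N7277 D15795
theorem N8840 : nd 8840 = n15796 := ndS (p := 7278) (l := 2) rfl N7278 D15796
theorem N8841 : nd 8841 = n15797 := ndS (p := 7278) (l := 6) rfl N7278 D15797
theorem N8842 : nd 8842 = n15798 := ndS (p := 7279) (l := 5) rfl N7279 D15798
theorem N8843 : nd 8843 = n15799 := ndS (p := 7279) (l := 7) rfl N7279 D15799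
theorem N8844 : nd 8844 = n15800 := ndS (p := 7281) (l := 3) rfl N7281 D15800
theorem N8845 : nd 8845 = n15801 := ndS (p := 7281) (l := 6) rfl N7281 D15801
theorem N8846 : nd 8846 = n15802 := ndS (p := 7282) (l := 7) rfl N7282 D15802
theorem N8847 : nd 8847 = n15803 := ndS (p := 7283) (l := 3) rfl N7283 D15803
theorem N8848 : nd 8848 = n15804 := ndS (p := 7283) (l := 6) rfl N7283 D15804
theorem N8849 : nd 8849 = n15805 := ndS (p := 7284) (l := 7) rfl N7284 D15805
theorem N8850 : nd 8850 = n15806 := ndS (p := 7285) (l := 2) rfl N7285 D15806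
theorem N8851 : nd 8851 = n15807 := ndS (p := 7285) (l := 6) rfl N7285 D15807
theorem N8852 : nd 8852 = n15808 := ndS (p := 7286) (l := 5) rfl N7286 D15808
theorem N8853 : nd 8853 = n15809 := ndS (p := 7286) (l := 7) rfl N7286 D15809
theorem N8854 : nd 8854 = n15810 := ndS (p := 7288) (l := 2) rfl N7288 D15810
theorem N8855 : nd 8855 = n15811 := ndS (p := 7288) (l := 6) rfl N7288 D15811
theorem N8856 : nd 8856 = n15812 := ndS (p := 7289) (l := 5) rfl N7289 D15812
theorem N8857 : nd 8857 = n15813 := ndS (p := 7289) (l := 7) rfl N7289 D15813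
theorem N8858 : nd 8858 = n15814 := ndS (p := 7291) (l := 1) rfl N7291 D15814
theorem N8859 : nd 8859 = n15815 := ndS (p := 7291) (l := 6) rfl N7291 D15815
theorem N8860 : nd 8860 = n15816 := ndS (p := 7292) (l := 5) rfl N7292 D15816
theorem N8861 : nd 8861 = n15817 := ndS (p := 7292) (l := 7) rfl N7292 D15817
theorem N8862 : nd 8862 = n15818 := ndS (p := 7293) (l := 7) rfl N7293 D15818
theorem N8863 : nd 8863 = n15819 := ndS (p := 7293) (l := 8) rfl N7293 D15819
theorem N8864 : nd 8864 = n15820 := ndS (p := 7295) (l := 1) rfl N7295 D15820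
theorem N8865 : nd 8865 = n15821 := ndS (p := 7295) (l := 6) rfl N7295 D15821
theorem N8866 : nd 8866 = n15822 := ndS (p := 7296) (l := 5) rfl N7296 D15822
theorem N8867 : nd 8867 = n15823 := ndS (p := 7296) (l := 7) rfl N7296 D15823
theorem N8868 : nd 8868 = n15824 := ndS (p := 7297) (l := 7) rfl N7297 D15824
theorem N8869 : nd 8869 = n15825 := ndS (p := 7297) (l := 8) rfl N7297 D15825
theorem N8870 : nd 8870 = n15826 := ndS (p := 7299) (l := 0) rfl N7299 D15826
theorem N8871 : nd 8871 = n15827 := ndS (p := 7299) (l := 6) rfl N7299 D15827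
theorem N8872 : nd 8872 = n15828 := ndS (p := 7300) (l := 5) rfl N7300 D15828
theorem N8873 : nd 8873 = n15829 := ndS (p := 7300) (l := 7) rfl N7300 D15829
theorem N8874 : nd 8874 = n15830 := ndS (p := 7301) (l := 7) rfl N7301 D15830
theorem N8875 : nd 8875 = n15831 := ndS (p := 7301) (l := 8) rfl N7301 D15831
theorem N8876 : nd 8876 = n15832 := ndS (p := 7303) (l := 6) rfl N7303 D15832
theorem N8877 : nd 8877 = n15833 := ndS (p := 7303) (l := 8) rfl N7303 D15833
theorem N8878 : nd 8878 = n15834 := ndS (p := 7304) (l := 9) rfl N7304 D15834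
theorem N8879 : nd 8879 = n15835 := ndS (p := 7305) (l := 8) rfl N7305 D15835
theorem N8880 : nd 8880 = n15836 := ndS (p := 7306) (l := 9) rfl N7306 D15836
theorem N8881 : nd 8881 = n15837 := ndS (p := 7308) (l := 2) rfl N7308 D15837
theorem N8882 : nd 8882 = n15838 := ndS (p := 7308) (l := 6) rfl N7308 D15838
theorem N8883 : nd 8883 = n15839 := ndS (p := 7309) (l := 5) rfl N7309 D15839
theorem N8884 : nd 8884 = n15840 := ndS (p := 7309) (l := 7) rfl N7309 D15840
theorem N8885 : nd 8885 = n15841 := ndS (p := 7311) (l := 2) rfl N7311 D15841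
theorem N8886 : nd 8886 = n15842 := ndS (p := 7311) (l := 6) rfl N7311 D15842
theorem N8887 : nd 8887 = n15843 := ndS (p := 7312) (l := 5) rfl N7312 D15843
theorem N8888 : nd 8888 = n15844 := ndS (p := 7312) (l := 7) rfl N7312 D15844
theorem N8889 : nd 8889 = n15845 := ndS (p := 7314) (l := 1) rfl N7314 D15845
theorem N8890 : nd 8890 = n15846 := ndS (p := 7314) (l := 6) rfl N7314 D15846
theorem N8891 : nd 8891 = n15847 := ndS (p := 7315) (l := 5) rfl N7315 D15847
theorem N8892 : nd 8892 = n15848 := ndS (p := 7315) (l := 7) rfl N7315 D15848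
theorem N8893 : nd 8893 = n15849 := ndS (p := 7316) (l := 7) rfl N7316 D15849
theorem N8894 : nd 8894 = n15850 := ndS (p := 7316) (l := 8) rfl N7316 D15850
theorem N8895 : nd 8895 = n15851 := ndS (p := 7318) (l := 1) rfl N7318 D15851
theorem N8896 : nd 8896 = n15852 := ndS (p := 7318) (l := 6) rfl N7318 D15852
theorem N8897 : nd 8897 = n15853 := ndS (p := 7319) (l := 5) rfl N7319 D15853
theorem N8898 : nd 8898 = n15854 := ndS (p := 7319) (l := 7) rfl N7319 D15854
theorem N8899 : nd 8899 = n15855 := ndS (p := 7320) (l := 7) rfl N7320 D15855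
theorem N8900 : nd 8900 = n15856 := ndS (p := 7320) (l := 8) rfl N7320 D15856
theorem N8901 : nd 8901 = n15857 := ndS (p := 7322) (l := 0) rfl N7322 D15857
theorem N8902 : nd 8902 = n15858 := ndS (p := 7322) (l := 6) rfl N7322 D15858
theorem N8903 : nd 8903 = n15859 := ndS (p := 7323) (l := 5) rfl N7323 D15859
theorem N8904 : nd 8904 = n15860 := ndS (p := 7323) (l := 7) rfl N7323 D15860
theorem N8905 : nd 8905 = n15861 := ndS (p := 7324) (l := 4) rfl N7324 D15861
theorem N8906 : nd 8906 = n15862 := ndS (p := 7324) (l := 7) rfl N7324 D15862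
theorem N8907 : nd 8907 = n15863 := ndS (p := 7326) (l := 6) rfl N7326 D15863
theorem N8908 : nd 8908 = n15864 := ndS (p := 7327) (l := 0) rfl N7327 D15864
theorem N8909 : nd 8909 = n15865 := ndS (p := 7327) (l := 6) rfl N7327 D15865
theorem N8910 : nd 8910 = n15866 := ndS (p := 7328) (l := 5) rfl N7328 D15866
theorem N8911 : nd 8911 = n15867 := ndS (p := 7328) (l := 7) rfl N7328 D15867
theorem N8912 : nd 8912 = n15868 := ndS (p := 7329) (l := 4) rfl N7329 D15868
theorem N8913 : nd 8913 = n15869 := ndS (p := 7329) (l := 7) rfl N7329 D15869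
theorem N8914 : nd 8914 = n15870 := ndS (p := 7329) (l := 8) rfl N7329 D15870
theorem N8915 : nd 8915 = n15871 := ndS (p := 7331) (l := 8) rfl N7331 D15871
theorem N8916 : nd 8916 = n15872 := ndS (p := 7332) (l := 9) rfl N7332 D15872
theorem N8917 : nd 8917 = n15873 := ndS (p := 7333) (l := 6) rfl N7333 D15873
theorem N8918 : nd 8918 = n15874 := ndS (p := 7334) (l := 7) rfl N7334 D15874
theorem N8919 : nd 8919 = n15879 := ndS (p := 7342) (l := 4) rfl N7342 D15879
theorem N8920 : nd 8920 = n15880 := ndS (p := 7342) (l := 6) rfl N7342 D15880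
theorem N8921 : nd 8921 = n15881 := ndS (p := 7343) (l := 3) rfl N7343 D15881
theorem N8922 : nd 8922 = n15882 := ndS (p := 7343) (l := 6) rfl N7343 D15882
theorem N8923 : nd 8923 = n15883 := ndS (p := 7344) (l := 7) rfl N7344 D15883
theorem N8924 : nd 8924 = n15884 := ndS (p := 7345) (l := 3) rfl N7345 D15884
theorem N8925 : nd 8925 = n15885 := ndS (p := 7345) (l := 6) rfl N7345 D15885
theorem N8926 : nd 8926 = n15886 := ndS (p := 7346) (l := 7) rfl N7346 D15886
theorem N8927 : nd 8927 = n15888 := ndS (p := 7347) (l := 6) rfl N7347 D15888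
theorem N8928 : nd 8928 = n15890 := ndS (p := 7348) (l := 7) rfl N7348 D15890
theorem N8929 : nd 8929 = n15894 := ndS (p := 7350) (l := 7) rfl N7350 D15894
theorem N8930 : nd 8930 = n15897 := ndS (p := 7352) (l := 3) rfl N7352 D15897
theorem N8931 : nd 8931 = n15898 := ndS (p := 7352) (l := 6) rfl N7352 D15898
theorem N8932 : nd 8932 = n15899 := ndS (p := 7353) (l := 7) rfl N7353 D15899
theorem N8933 : nd 8933 = n15900 := ndS (p := 7354) (l := 3) rfl N7354 D15900
theorem N8934 : nd 8934 = n15901 := ndS (p := 7354) (l := 6) rfl N7354 D15901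
theorem N8935 : nd 8935 = n15902 := ndS (p := 7355) (l := 7) rfl N7355 D15902
theorem N8936 : nd 8936 = n15903 := ndS (p := 7356) (l := 3) rfl N7356 D15903
theorem N8937 : nd 8937 = n15904 := ndS (p := 7356) (l := 6) rfl N7356 D15904
theorem N8938 : nd 8938 = n15905 := ndS (p := 7357) (l := 7) rfl N7357 D15905
theorem N8939 : nd 8939 = n15906 := ndS (p := 7358) (l := 2) rfl N7358 D15906
theorem N8940 : nd 8940 = n15907 := ndS (p := 7358) (l := 6) rfl N7358 D15907
theorem N8941 : nd 8941 = n15908 := ndS (p := 7359) (l := 5) rfl N7359 D15908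
theorem N8942 : nd 8942 = n15909 := ndS (p := 7359) (l := 7) rfl N7359 D15909
theorem N8943 : nd 8943 = n15910 := ndS (p := 7361) (l := 2) rfl N7361 D15910
theorem N8944 : nd 8944 = n15911 := ndS (p := 7361) (l := 6) rfl N7361 D15911
theorem N8945 : nd 8945 = n15912 := ndS (p := 7362) (l := 5) rfl N7362 D15912
theorem N8946 : nd 8946 = n15913 := ndS (p := 7362) (l := 7) rfl N7362 D15913
theorem N8947 : nd 8947 = n15914 := ndS (p := 7364) (l := 1) rfl N7364 D15914
theorem N8948 : nd 8948 = n15915 := ndS (p := 7364) (l := 6) rfl N7364 D15915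
theorem N8949 : nd 8949 = n15916 := ndS (p := 7365) (l := 5) rfl N7365 D15916
theorem N8950 : nd 8950 = n15917 := ndS (p := 7365) (l := 7) rfl N7365 D15917
theorem N8951 : nd 8951 = n15918 := ndS (p := 7366) (l := 7) rfl N7366 D15918
theorem N8952 : nd 8952 = n15919 := ndS (p := 7366) (l := 8) rfl N7366 D15919
theorem N8953 : nd 8953 = n15926 := ndS (p := 7369) (l := 8) rfl N7369 D15926
theorem N8954 : nd 8954 = n15928 := ndS (p := 7371) (l := 4) rfl N7371 D15928
theorem N8955 : nd 8955 = n15929 := ndS (p := 7371) (l := 6) rfl N7371 D15929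
theorem N8956 : nd 8956 = n15930 := ndS (p := 7372) (l := 3) rfl N7372 D15930
theorem N8957 : nd 8957 = n15931 := ndS (p := 7372) (l := 6) rfl N7372 D15931
theorem N8958 : nd 8958 = n15932 := ndS (p := 7373) (l := 7) rfl N7373 D15932
theorem N8959 : nd 8959 = n15933 := ndS (p := 7374) (l := 3) rfl N7374 D15933
theorem N8960 : nd 8960 = n15934 := ndS (p := 7374) (l := 6) rfl N7374 D15934
theorem N8961 : nd 8961 = n15935 := ndS (p := 7375) (l := 7) rfl N7375 D15935
theorem N8962 : nd 8962 = n15936 := ndS (p := 7376) (l := 3) rfl N7376 D15936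
theorem N8963 : nd 8963 = n15937 := ndS (p := 7376) (l := 6) rfl N7376 D15937
theorem N8964 : nd 8964 = n15938 := ndS (p := 7377) (l := 7) rfl N7377 D15938
theorem N8965 : nd 8965 = n15939 := ndS (p := 7378) (l := 2) rfl N7378 D15939
theorem N8966 : nd 8966 = n15940 := ndS (p := 7378) (l := 6) rfl N7378 D15940
theorem N8967 : nd 8967 = n15941 := ndS (p := 7379) (l := 5) rfl N7379 D15941
theorem N8968 : nd 8968 = n15942 := ndS (p := 7379) (l := 7) rfl N7379 D15942
theorem N8969 : nd 8969 = n15943 := ndS (p := 7381) (l := 3) rfl N7381 D15943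
theorem N8970 : nd 8970 = n15944 := ndS (p := 7381) (l := 6) rfl N7381 D15944
theorem N8971 : nd 8971 = n15945 := ndS (p := 7382) (l := 7) rfl N7382 D15945
theorem N8972 : nd 8972 = n15946 := ndS (p := 7383) (l := 2) rfl N7383 D15946
theorem N8973 : nd 8973 = n15947 := ndS (p := 7383) (l := 6) rfl N7383 D15947
theorem N8974 : nd 8974 = n15948 := ndS (p := 7384) (l := 5) rfl N7384 D15948
theorem N8975 : nd 8975 = n15949 := ndS (p := 7384) (l := 7) rfl N7384 D15949
theorem N8976 : nd 8976 = n15950 := ndS (p := 7386) (l := 2) rfl N7386 D15950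
theorem N8977 : nd 8977 = n15951 := ndS (p := 7386) (l := 6) rfl N7386 D15951
theorem N8978 : nd 8978 = n15952 := ndS (p := 7387) (l := 5) rfl N7387 D15952
theorem N8979 : nd 8979 = n15953 := ndS (p := 7387) (l := 7) rfl N7387 D15953
theorem N8980 : nd 8980 = n15954 := ndS (p := 7389) (l := 1) rfl N7389 D15954
theorem N8981 : nd 8981 = n15955 := ndS (p := 7389) (l := 6) rfl N7389 D15955
theorem N8982 : nd 8982 = n15956 := ndS (p := 7390) (l := 5) rfl N7390 D15956
theorem N8983 : nd 8983 = n15957 := ndS (p := 7390) (l := 7) rfl N7390 D15957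
theorem N8984 : nd 8984 = n15958 := ndS (p := 7391) (l := 7) rfl N7391 D15958
theorem N8985 : nd 8985 = n15959 := ndS (p := 7391) (l := 8) rfl N7391 D15959
theorem N8986 : nd 8986 = n15963 := ndS (p := 7394) (l := 7) rfl N7394 D15963
theorem N8987 : nd 8987 = n15964 := ndS (p := 7395) (l := 7) rfl N7395 D15964
theorem N8988 : nd 8988 = n15965 := ndS (p := 7395) (l := 8) rfl N7395 D15965
theorem N8989 : nd 8989 = n15967 := ndS (p := 7397) (l := 6) rfl N7397 D15967
theorem N8990 : nd 8990 = n15968 := ndS (p := 7398) (l := 5) rfl N7398 D15968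
theorem N8991 : nd 8991 = n15969 := ndS (p := 7398) (l := 7) rfl N7398 D15969
theorem N8992 : nd 8992 = n15970 := ndS (p := 7399) (l := 4) rfl N7399 D15970
theorem N8993 : nd 8993 = n15971 := ndS (p := 7399) (l := 7) rfl N7399 D15971
theorem N8994 : nd 8994 = n15972 := ndS (p := 7399) (l := 8) rfl N7399 D15972
theorem N8995 : nd 8995 = n15973 := ndS (p := 7401) (l := 6) rfl N7401 D15973
theorem N8996 : nd 8996 = n15974 := ndS (p := 7401) (l := 8) rfl N7401 D15974
theorem N8997 : nd 8997 = n15975 := ndS (p := 7402) (l := 9) rfl N7402 D15975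
theorem N8998 : nd 8998 = n15976 := ndS (p := 7403) (l := 7) rfl N7403 D15976
theorem N8999 : nd 8999 = n15977 := ndS (p := 7403) (l := 8) rfl N7403 D15977
theorem N9000 : nd 9000 = n15979 := ndS (p := 7404) (l := 8) rfl N7404 D15979
theorem N9001 : nd 9001 = n15981 := ndS (p := 7406) (l := 8) rfl N7406 D15981
theorem N9002 : nd 9002 = n15982 := ndS (p := 7407) (l := 9) rfl N7407 D15982
theorem N9003 : nd 9003 = n15983 := ndS (p := 7409) (l := 3) rfl N7409 D15983
theorem N9004 : nd 9004 = n15984 := ndS (p := 7409) (l := 6) rfl N7409 D15984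
theorem N9005 : nd 9005 = n15985 := ndS (p := 7410) (l := 7) rfl N7410 D15985
theorem N9006 : nd 9006 = n15986 := ndS (p := 7411) (l := 2) rfl N7411 D15986
theorem N9007 : nd 9007 = n15987 := ndS (p := 7411) (l := 6) rfl N7411 D15987
theorem N9008 : nd 9008 = n15988 := ndS (p := 7412) (l := 5) rfl N7412 D15988
theorem N9009 : nd 9009 = n15989 := ndS (p := 7412) (l := 7) rfl N7412 D15989
theorem N9010 : nd 9010 = n15990 := ndS (p := 7414) (l := 2) rfl N7414 D15990
theorem N9011 : nd 9011 = n15991 := ndS (p := 7414) (l := 6) rfl N7414 D15991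
theorem N9012 : nd 9012 = n15992 := ndS (p := 7415) (l := 5) rfl N7415 D15992
theorem N9013 : nd 9013 = n15993 := ndS (p := 7415) (l := 7) rfl N7415 D15993
theorem N9014 : nd 9014 = n15994 := ndS (p := 7417) (l := 1) rfl N7417 D15994
theorem N9015 : nd 9015 = n15995 := ndS (p := 7417) (l := 6) rfl N7417 D15995
theorem N9016 : nd 9016 = n15996 := ndS (p := 7418) (l := 5) rfl N7418 D15996
theorem N9017 : nd 9017 = n15997 := ndS (p := 7418) (l := 7) rfl N7418 D15997
theorem N9018 : nd 9018 = n15998 := ndS (p := 7419) (l := 7) rfl N7419 D15998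
theorem N9019 : nd 9019 = n15999 := ndS (p := 7419) (l := 8) rfl N7419 D15999
theorem N9020 : nd 9020 = n16000 := ndS (p := 7421) (l := 2) rfl N7421 D16000
theorem N9021 : nd 9021 = n16001 := ndS (p := 7421) (l := 6) rfl N7421 D16001
theorem N9022 : nd 9022 = n16002 := ndS (p := 7422) (l := 5) rfl N7422 D16002
theorem N9023 : nd 9023 = n16003 := ndS (p := 7422) (l := 7) rfl N7422 D16003
theorem N9024 : nd 9024 = n16006 := ndS (p := 7425) (l := 5) rfl N7425 D16006
theorem N9025 : nd 9025 = n16007 := ndS (p := 7425) (l := 7) rfl N7425 D16007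
theorem N9026 : nd 9026 = n16008 := ndS (p := 7426) (l := 7) rfl N7426 D16008
theorem N9027 : nd 9027 = n16009 := ndS (p := 7426) (l := 8) rfl N7426 D16009
theorem N9028 : nd 9028 = n16010 := ndS (p := 7428) (l := 1) rfl N7428 D16010
theorem N9029 : nd 9029 = n16011 := ndS (p := 7428) (l := 6) rfl N7428 D16011
theorem N9030 : nd 9030 = n16012 := ndS (p := 7429) (l := 5) rfl N7429 D16012
theorem N9031 : nd 9031 = n16013 := ndS (p := 7429) (l := 7) rfl N7429 D16013
theorem N9032 : nd 9032 = n16014 := ndS (p := 7430) (l := 7) rfl N7430 D16014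
theorem N9033 : nd 9033 = n16015 := ndS (p := 7430) (l := 8) rfl N7430 D16015
theorem N9034 : nd 9034 = n16017 := ndS (p := 7432) (l := 6) rfl N7432 D16017
theorem N9035 : nd 9035 = n16018 := ndS (p := 7433) (l := 5) rfl N7433 D16018
theorem N9036 : nd 9036 = n16019 := ndS (p := 7433) (l := 7) rfl N7433 D16019
theorem N9037 : nd 9037 = n16020 := ndS (p := 7434) (l := 4) rfl N7434 D16020
theorem N9038 : nd 9038 = n16021 := ndS (p := 7434) (l := 7) rfl N7434 D16021
theorem N9039 : nd 9039 = n16022 := ndS (p := 7434) (l := 8) rfl N7434 D16022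
theorem N9040 : nd 9040 = n16023 := ndS (p := 7436) (l := 6) rfl N7436 D16023
theorem N9041 : nd 9041 = n16024 := ndS (p := 7436) (l := 8) rfl N7436 D16024
theorem N9042 : nd 9042 = n16025 := ndS (p := 7437) (l := 9) rfl N7437 D16025
theorem N9043 : nd 9043 = n16033 := ndS (p := 7439) (l := 6) rfl N7439 D16033
theorem N9044 : nd 9044 = n16034 := ndS (p := 7439) (l := 8) rfl N7439 D16034
theorem N9045 : nd 9045 = n16035 := ndS (p := 7440) (l := 9) rfl N7440 D16035
theorem N9046 : nd 9046 = n16037 := ndS (p := 7441) (l := 5) rfl N7441 D16037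
theorem N9047 : nd 9047 = n16039 := ndS (p := 7442) (l := 7) rfl N7442 D16039
theorem N9048 : nd 9048 = n16040 := ndS (p := 7442) (l := 8) rfl N7442 D16040
theorem N9049 : nd 9049 = n16041 := ndS (p := 7444) (l := 6) rfl N7444 D16041
theorem N9050 : nd 9050 = n16042 := ndS (p := 7444) (l := 8) rfl N7444 D16042
theorem N9051 : nd 9051 = n16043 := ndS (p := 7445) (l := 9) rfl N7445 D16043
theorem N9052 : nd 9052 = n16044 := ndS (p := 7446) (l := 8) rfl N7446 D16044
theorem N9053 : nd 9053 = n16045 := ndS (p := 7447) (l := 9) rfl N7447 D16045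
theorem N9054 : nd 9054 = n16046 := ndS (p := 7449) (l := 5) rfl N7449 D16046
theorem N9055 : nd 9055 = n16047 := ndS (p := 7449) (l := 9) rfl N7449 D16047
theorem N9056 : nd 9056 = n16048 := ndS (p := 7451) (l := 1) rfl N7451 D16048
theorem N9057 : nd 9057 = n16049 := ndS (p := 7451) (l := 6) rfl N7451 D16049
theorem N9058 : nd 9058 = n16050 := ndS (p := 7452) (l := 5) rfl N7452 D16050
theorem N9059 : nd 9059 = n16051 := ndS (p := 7452) (l := 7) rfl N7452 D16051
theorem N9060 : nd 9060 = n16052 := ndS (p := 7453) (l := 7) rfl N7453 D16052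
theorem N9061 : nd 9061 = n16053 := ndS (p := 7453) (l := 8) rfl N7453 D16053
theorem N9062 : nd 9062 = n16058 := ndS (p := 7455) (l := 4) rfl N7455 D16058
theorem N9063 : nd 9063 = n16059 := ndS (p := 7455) (l := 7) rfl N7455 D16059
theorem N9064 : nd 9064 = n16061 := ndS (p := 7457) (l := 6) rfl N7457 D16061
theorem N9065 : nd 9065 = n16062 := ndS (p := 7457) (l := 8) rfl N7457 D16062
theorem N9066 : nd 9066 = n16064 := ndS (p := 7459) (l := 6) rfl N7459 D16064
theorem N9067 : nd 9067 = n16065 := ndS (p := 7460) (l := 5) rfl N7460 D16065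
theorem N9068 : nd 9068 = n16066 := ndS (p := 7460) (l := 7) rfl N7460 D16066
theorem N9069 : nd 9069 = n16067 := ndS (p := 7461) (l := 4) rfl N7461 D16067
theorem N9070 : nd 9070 = n16068 := ndS (p := 7461) (l := 7) rfl N7461 D16068
theorem N9071 : nd 9071 = n16069 := ndS (p := 7461) (l := 8) rfl N7461 D16069
theorem N9072 : nd 9072 = n16070 := ndS (p := 7463) (l := 6) rfl N7463 D16070
theorem N9073 : nd 9073 = n16071 := ndS (p := 7463) (l := 8) rfl N7463 D16071
theorem N9074 : nd 9074 = n16073 := ndS (p := 7465) (l := 5) rfl N7465 D16073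
theorem N9075 : nd 9075 = n16075 := ndS (p := 7466) (l := 4) rfl N7466 D16075
theorem N9076 : nd 9076 = n16076 := ndS (p := 7466) (l := 7) rfl N7466 D16076
theorem N9077 : nd 9077 = n16077 := ndS (p := 7468) (l := 7) rfl N7468 D16077
theorem N9078 : nd 9078 = n16078 := ndS (p := 7469) (l := 6) rfl N7469 D16078
theorem N9079 : nd 9079 = n16095 := ndS (p := 7472) (l := 3) rfl N7472 D16095
theorem N9080 : nd 9080 = n16096 := ndS (p := 7472) (l := 6) rfl N7472 D16096
theorem N9081 : nd 9081 = n16097 := ndS (p := 7473) (l := 7) rfl N7473 D16097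
theorem N9082 : nd 9082 = n16099 := ndS (p := 7474) (l := 6) rfl N7474 D16099
theorem N9083 : nd 9083 = n16101 := ndS (p := 7475) (l := 7) rfl N7475 D16101
theorem N9084 : nd 9084 = n16103 := ndS (p := 7477) (l := 6) rfl N7477 D16103
theorem N9085 : nd 9085 = n16105 := ndS (p := 7478) (l := 7) rfl N7478 D16105
theorem N9086 : nd 9086 = n16109 := ndS (p := 7480) (l := 7) rfl N7480 D16109
theorem N9087 : nd 9087 = n16121 := ndS (p := 7483) (l := 2) rfl N7483 D16121
theorem N9088 : nd 9088 = n16122 := ndS (p := 7483) (l := 6) rfl N7483 D16122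
theorem N9089 : nd 9089 = n16123 := ndS (p := 7484) (l := 5) rfl N7484 D16123
theorem N9090 : nd 9090 = n16124 := ndS (p := 7484) (l := 7) rfl N7484 D16124
theorem N9091 : nd 9091 = n16125 := ndS (p := 7486) (l := 1) rfl N7486 D16125
theorem N9092 : nd 9092 = n16126 := ndS (p := 7486) (l := 6) rfl N7486 D16126
theorem N9093 : nd 9093 = n16127 := ndS (p := 7487) (l := 5) rfl N7487 D16127
theorem N9094 : nd 9094 = n16128 := ndS (p := 7487) (l := 7) rfl N7487 D16128
theorem N9095 : nd 9095 = n16129 := ndS (p := 7488) (l := 7) rfl N7488 D16129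
theorem N9096 : nd 9096 = n16132 := ndS (p := 7490) (l := 6) rfl N7490 D16132
theorem N9097 : nd 9097 = n16133 := ndS (p := 7491) (l := 5) rfl N7491 D16133
theorem N9098 : nd 9098 = n16134 := ndS (p := 7491) (l := 7) rfl N7491 D16134
theorem N9099 : nd 9099 = n16135 := ndS (p := 7492) (l := 7) rfl N7492 D16135
theorem N9100 : nd 9100 = n16136 := ndS (p := 7492) (l := 8) rfl N7492 D16136
theorem N9101 : nd 9101 = n16140 := ndS (p := 7495) (l := 7) rfl N7495 D16140
theorem N9102 : nd 9102 = n16142 := ndS (p := 7496) (l := 7) rfl N7496 D16142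
theorem N9103 : nd 9103 = n16157 := ndS (p := 7499) (l := 1) rfl N7499 D16157
theorem N9104 : nd 9104 = n16158 := ndS (p := 7499) (l := 6) rfl N7499 D16158
theorem N9105 : nd 9105 = n16159 := ndS (p := 7500) (l := 5) rfl N7500 D16159
theorem N9106 : nd 9106 = n16160 := ndS (p := 7500) (l := 7) rfl N7500 D16160
theorem N9107 : nd 9107 = n16161 := ndS (p := 7501) (l := 7) rfl N7501 D16161
theorem N9108 : nd 9108 = n16162 := ndS (p := 7501) (l := 8) rfl N7501 D16162
theorem N9109 : nd 9109 = n16164 := ndS (p := 7503) (l := 6) rfl N7503 D16164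
theorem N9110 : nd 9110 = n16165 := ndS (p := 7504) (l := 5) rfl N7504 D16165
theorem N9111 : nd 9111 = n16166 := ndS (p := 7504) (l := 7) rfl N7504 D16166
theorem N9112 : nd 9112 = n16167 := ndS (p := 7505) (l := 4) rfl N7505 D16167
theorem N9113 : nd 9113 = n16168 := ndS (p := 7505) (l := 7) rfl N7505 D16168
theorem N9114 : nd 9114 = n16169 := ndS (p := 7505) (l := 8) rfl N7505 D16169
theorem N9115 : nd 9115 = n16170 := ndS (p := 7507) (l := 6) rfl N7507 D16170
theorem N9116 : nd 9116 = n16171 := ndS (p := 7507) (l := 8) rfl N7507 D16171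
theorem N9117 : nd 9117 = n16172 := ndS (p := 7508) (l := 9) rfl N7508 D16172
theorem N9118 : nd 9118 = n16180 := ndS (p := 7510) (l := 6) rfl N7510 D16180
theorem N9119 : nd 9119 = n16181 := ndS (p := 7510) (l := 8) rfl N7510 D16181
theorem N9120 : nd 9120 = n16182 := ndS (p := 7511) (l := 9) rfl N7511 D16182
theorem N9121 : nd 9121 = n16185 := ndS (p := 7512) (l := 7) rfl N7512 D16185
theorem N9122 : nd 9122 = n16186 := ndS (p := 7513) (l := 4) rfl N7513 D16186
theorem N9123 : nd 9123 = n16187 := ndS (p := 7513) (l := 7) rfl N7513 D16187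
theorem N9124 : nd 9124 = n16188 := ndS (p := 7513) (l := 8) rfl N7513 D16188
theorem N9125 : nd 9125 = n16189 := ndS (p := 7515) (l := 7) rfl N7515 D16189
theorem N9126 : nd 9126 = n16192 := ndS (p := 7516) (l := 8) rfl N7516 D16192
theorem N9127 : nd 9127 = n16193 := ndS (p := 7517) (l := 9) rfl N7517 D16193
theorem N9128 : nd 9128 = n16194 := ndS (p := 7518) (l := 8) rfl N7518 D16194
theorem N9129 : nd 9129 = n16195 := ndS (p := 7519) (l := 9) rfl N7519 D16195
theorem N9130 : nd 9130 = n16203 := ndS (p := 7522) (l := 9) rfl N7522 D16203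
theorem N9131 : nd 9131 = n16205 := ndS (p := 7524) (l := 6) rfl N7524 D16205
theorem N9132 : nd 9132 = n16206 := ndS (p := 7525) (l := 5) rfl N7525 D16206
theorem N9133 : nd 9133 = n16207 := ndS (p := 7525) (l := 7) rfl N7525 D16207
theorem N9134 : nd 9134 = n16208 := ndS (p := 7526) (l := 4) rfl N7526 D16208
theorem N9135 : nd 9135 = n16209 := ndS (p := 7526) (l := 7) rfl N7526 D16209
theorem N9136 : nd 9136 = n16210 := ndS (p := 7526) (l := 8) rfl N7526 D16210
theorem N9137 : nd 9137 = n16211 := ndS (p := 7528) (l := 6) rfl N7528 D16211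
theorem N9138 : nd 9138 = n16212 := ndS (p := 7528) (l := 8) rfl N7528 D16212
theorem N9139 : nd 9139 = n16213 := ndS (p := 7529) (l := 9) rfl N7529 D16213
theorem N9140 : nd 9140 = n16215 := ndS (p := 7530) (l := 5) rfl N7530 D16215
theorem N9141 : nd 9141 = n16218 := ndS (p := 7531) (l := 7) rfl N7531 D16218
theorem N9142 : nd 9142 = n16219 := ndS (p := 7531) (l := 8) rfl N7531 D16219
theorem N9143 : nd 9143 = n16220 := ndS (p := 7533) (l := 7) rfl N7533 D16220
theorem N9144 : nd 9144 = n16221 := ndS (p := 7533) (l := 8) rfl N7533 D16221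
theorem N9145 : nd 9145 = n16222 := ndS (p := 7534) (l := 6) rfl N7534 D16222
theorem N9146 : nd 9146 = n16223 := ndS (p := 7534) (l := 8) rfl N7534 D16223
theorem N9147 : nd 9147 = n16224 := ndS (p := 7535) (l := 9) rfl N7535 D16224
theorem N9148 : nd 9148 = n16225 := ndS (p := 7536) (l := 8) rfl N7536 D16225
theorem N9149 : nd 9149 = n16226 := ndS (p := 7537) (l := 9) rfl N7537 D16226
theorem N9150 : nd 9150 = n16238 := ndS (p := 7539) (l := 8) rfl N7539 D16238
theorem N9151 : nd 9151 = n16239 := ndS (p := 7540) (l := 9) rfl N7540 D16239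
theorem N9152 : nd 9152 = n16243 := ndS (p := 7542) (l := 8) rfl N7542 D16243
theorem N9153 : nd 9153 = n16245 := ndS (p := 7543) (l := 8) rfl N7543 D16245
theorem N9154 : nd 9154 = n16246 := ndS (p := 7544) (l := 9) rfl N7544 D16246
theorem N9155 : nd 9155 = n16247 := ndS (p := 7545) (l := 8) rfl N7545 D16247
theorem N9156 : nd 9156 = n16248 := ndS (p := 7546) (l := 9) rfl N7546 D16248
theorem N9157 : nd 9157 = n16249 := ndS (p := 7548) (l := 5) rfl N7548 D16249
theorem N9158 : nd 9158 = n16250 := ndS (p := 7548) (l := 9) rfl N7548 D16250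
theorem N9159 : nd 9159 = n16251 := ndS (p := 7550) (l := 4) rfl N7550 D16251
theorem N9160 : nd 9160 = n16252 := ndS (p := 7550) (l := 9) rfl N7550 D16252
theorem N9161 : nd 9161 = n16259 := ndS (p := 7554) (l := 7) rfl N7554 D16259
theorem N9162 : nd 9162 = n16260 := ndS (p := 7554) (l := 8) rfl N7554 D16260
theorem N9163 : nd 9163 = n16261 := ndS (p := 7555) (l := 8) rfl N7555 D16261
theorem N9164 : nd 9164 = n16303 := ndS (p := 7562) (l := 2) rfl N7562 D16303
theorem N9165 : nd 9165 = n16304 := ndS (p := 7562) (l := 6) rfl N7562 D16304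
theorem N9166 : nd 9166 = n16305 := ndS (p := 7563) (l := 5) rfl N7563 D16305
theorem N9167 : nd 9167 = n16306 := ndS (p := 7563) (l := 7) rfl N7563 D16306
theorem N9168 : nd 9168 = n16307 := ndS (p := 7565) (l := 2) rfl N7565 D16307
theorem N9169 : nd 9169 = n16308 := ndS (p := 7565) (l := 6) rfl N7565 D16308
theorem N9170 : nd 9170 = n16309 := ndS (p := 7566) (l := 5) rfl N7566 D16309
theorem N9171 : nd 9171 = n16313 := ndS (p := 7568) (l := 5) rfl N7568 D16313
theorem N9172 : nd 9172 = n16322 := ndS (p := 7572) (l := 8) rfl N7572 D16322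
theorem N9173 : nd 9173 = n16343 := ndS (p := 7573) (l := 2) rfl N7573 D16343
theorem N9174 : nd 9174 = n16344 := ndS (p := 7573) (l := 6) rfl N7573 D16344
theorem N9175 : nd 9175 = n16345 := ndS (p := 7574) (l := 5) rfl N7574 D16345
theorem N9176 : nd 9176 = n16346 := ndS (p := 7574) (l := 7) rfl N7574 D16346
theorem N9177 : nd 9177 = n16348 := ndS (p := 7576) (l := 6) rfl N7576 D16348
theorem N9178 : nd 9178 = n16349 := ndS (p := 7577) (l := 5) rfl N7577 D16349
theorem N9179 : nd 9179 = n16350 := ndS (p := 7577) (l := 7) rfl N7577 D16350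
theorem N9180 : nd 9180 = n16351 := ndS (p := 7579) (l := 1) rfl N7579 D16351
theorem N9181 : nd 9181 = n16352 := ndS (p := 7579) (l := 6) rfl N7579 D16352
theorem N9182 : nd 9182 = n16353 := ndS (p := 7580) (l := 5) rfl N7580 D16353
theorem N9183 : nd 9183 = n16354 := ndS (p := 7580) (l := 7) rfl N7580 D16354
theorem N9184 : nd 9184 = n16355 := ndS (p := 7581) (l := 7) rfl N7581 D16355
theorem N9185 : nd 9185 = n16356 := ndS (p := 7581) (l := 8) rfl N7581 D16356
theorem N9186 : nd 9186 = n16366 := ndS (p := 7583) (l := 8) rfl N7583 D16366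
theorem N9187 : nd 9187 = n16369 := ndS (p := 7586) (l := 5) rfl N7586 D16369
theorem N9188 : nd 9188 = n16371 := ndS (p := 7587) (l := 4) rfl N7587 D16371
theorem N9189 : nd 9189 = n16373 := ndS (p := 7587) (l := 8) rfl N7587 D16373
theorem N9190 : nd 9190 = n16374 := ndS (p := 7588) (l := 6) rfl N7588 D16374
theorem N9191 : nd 9191 = n16376 := ndS (p := 7589) (l := 9) rfl N7589 D16376
theorem N9192 : nd 9192 = n16385 := ndS (p := 7590) (l := 8) rfl N7590 D16385
theorem N9193 : nd 9193 = n16386 := ndS (p := 7591) (l := 9) rfl N7591 D16386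
theorem N9194 : nd 9194 = n16390 := ndS (p := 7592) (l := 4) rfl N7592 D16390
theorem N9195 : nd 9195 = n16392 := ndS (p := 7592) (l := 8) rfl N7592 D16392
theorem N9196 : nd 9196 = n16394 := ndS (p := 7593) (l := 8) rfl N7593 D16394
theorem N9197 : nd 9197 = n16397 := ndS (p := 7594) (l := 9) rfl N7594 D16397
theorem N9198 : nd 9198 = n16402 := ndS (p := 7596) (l := 5) rfl N7596 D16402
theorem N9199 : nd 9199 = n16411 := ndS (p := 7597) (l := 7) rfl N7597 D16411
theorem N9200 : nd 9200 = n16415 := ndS (p := 7599) (l := 7) rfl N7599 D16415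
theorem N9201 : nd 9201 = n16416 := ndS (p := 7600) (l := 7) rfl N7600 D16416
theorem N9202 : nd 9202 = n16417 := ndS (p := 7600) (l := 8) rfl N7600 D16417
theorem N9203 : nd 9203 = n16420 := ndS (p := 7602) (l := 5) rfl N7602 D16420
theorem N9204 : nd 9204 = n16421 := ndS (p := 7602) (l := 7) rfl N7602 D16421
theorem N9205 : nd 9205 = n16422 := ndS (p := 7603) (l := 4) rfl N7603 D16422
theorem N9206 : nd 9206 = n16423 := ndS (p := 7603) (l := 7) rfl N7603 D16423
theorem N9207 : nd 9207 = n16424 := ndS (p := 7603) (l := 8) rfl N7603 D16424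
theorem N9208 : nd 9208 = n16425 := ndS (p := 7605) (l := 6) rfl N7605 D16425
theorem N9209 : nd 9209 = n16426 := ndS (p := 7605) (l := 8) rfl N7605 D16426
theorem N9210 : nd 9210 = n16427 := ndS (p := 7606) (l := 9) rfl N7606 D16427
theorem N9211 : nd 9211 = n16448 := ndS (p := 7608) (l := 8) rfl N7608 D16448
theorem N9212 : nd 9212 = n16450 := ndS (p := 7609) (l := 8) rfl N7609 D16450
theorem N9213 : nd 9213 = n16452 := ndS (p := 7610) (l := 8) rfl N7610 D16452
theorem N9214 : nd 9214 = n16453 := ndS (p := 7611) (l := 9) rfl N7611 D16453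
theorem N9215 : nd 9215 = n16454 := ndS (p := 7612) (l := 8) rfl N7612 D16454
theorem N9216 : nd 9216 = n16455 := ndS (p := 7613) (l := 9) rfl N7613 D16455
theorem N9217 : nd 9217 = n16467 := ndS (p := 7615) (l := 8) rfl N7615 D16467
theorem N9218 : nd 9218 = n16475 := ndS (p := 7618) (l := 9) rfl N7618 D16475
theorem N9219 : nd 9219 = n16476 := ndS (p := 7619) (l := 8) rfl N7619 D16476
theorem N9220 : nd 9220 = n16477 := ndS (p := 7620) (l := 9) rfl N7620 D16477
theorem N9221 : nd 9221 = n16478 := ndS (p := 7622) (l := 5) rfl N7622 D16478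
theorem N9222 : nd 9222 = n16479 := ndS (p := 7622) (l := 9) rfl N7622 D16479
theorem N9223 : nd 9223 = n16480 := ndS (p := 7624) (l := 4) rfl N7624 D16480
theorem N9224 : nd 9224 = n16481 := ndS (p := 7624) (l := 9) rfl N7624 D16481
theorem N9225 : nd 9225 = n16572 := ndS (p := 7626) (l := 9) rfl N7626 D16572
theorem N9226 : nd 9226 = n16612 := ndS (p := 7627) (l := 9) rfl N7627 D16612
theorem N9227 : nd 9227 = n16622 := ndS (p := 7630) (l := 9) rfl N7630 D16622
theorem N9228 : nd 9228 = n16658 := ndS (p := 7632) (l := 5) rfl N7632 D16658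
theorem N9229 : nd 9229 = n16659 := ndS (p := 7632) (l := 9) rfl N7632 D16659
theorem N9230 : nd 9230 = n16667 := ndS (p := 7635) (l := 5) rfl N7635 D16667
theorem N9231 : nd 9231 = n16668 := ndS (p := 7635) (l := 9) rfl N7635 D16668
theorem N9232 : nd 9232 = n16669 := ndS (p := 7637) (l := 4) rfl N7637 D16669
theorem N9233 : nd 9233 = n16670 := ndS (p := 7637) (l := 9) rfl N7637 D16670
theorem N9234 : nd 9234 = n16740 := ndS (p := 7641) (l := 3) rfl N7641 D16740
theorem N9235 : nd 9235 = n16741 := ndS (p := 7641) (l := 6) rfl N7641 D16741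
theorem N9236 : nd 9236 = n16742 := ndS (p := 7642) (l := 7) rfl N7642 D16742
theorem N9237 : nd 9237 = n16743 := ndS (p := 7643) (l := 3) rfl N7643 D16743
theorem N9238 : nd 9238 = n16744 := ndS (p := 7643) (l := 6) rfl N7643 D16744
theorem N9239 : nd 9239 = n16745 := ndS (p := 7644) (l := 7) rfl N7644 D16745
theorem N9240 : nd 9240 = n16746 := ndS (p := 7645) (l := 2) rfl N7645 D16746
theorem N9241 : nd 9241 = n16747 := ndS (p := 7645) (l := 6) rfl N7645 D16747
theorem N9242 : nd 9242 = n16748 := ndS (p := 7646) (l := 5) rfl N7646 D16748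
theorem N9243 : nd 9243 = n16749 := ndS (p := 7646) (l := 7) rfl N7646 D16749
theorem N9244 : nd 9244 = n16754 := ndS (p := 7648) (l := 7) rfl N7648 D16754
theorem N9245 : nd 9245 = n16756 := ndS (p := 7650) (l := 2) rfl N7650 D16756
theorem N9246 : nd 9246 = n16757 := ndS (p := 7650) (l := 6) rfl N7650 D16757
theorem N9247 : nd 9247 = n16758 := ndS (p := 7651) (l := 5) rfl N7651 D16758
theorem N9248 : nd 9248 = n16759 := ndS (p := 7651) (l := 7) rfl N7651 D16759
theorem N9249 : nd 9249 = n16760 := ndS (p := 7653) (l := 2) rfl N7653 D16760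
theorem N9250 : nd 9250 = n16761 := ndS (p := 7653) (l := 6) rfl N7653 D16761
theorem N9251 : nd 9251 = n16762 := ndS (p := 7654) (l := 5) rfl N7654 D16762
theorem N9252 : nd 9252 = n16763 := ndS (p := 7654) (l := 7) rfl N7654 D16763
theorem N9253 : nd 9253 = n16764 := ndS (p := 7656) (l := 1) rfl N7656 D16764
theorem N9254 : nd 9254 = n16765 := ndS (p := 7656) (l := 6) rfl N7656 D16765
theorem N9255 : nd 9255 = n16766 := ndS (p := 7657) (l := 5) rfl N7657 D16766
theorem N9256 : nd 9256 = n16767 := ndS (p := 7657) (l := 7) rfl N7657 D16767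
theorem N9257 : nd 9257 = n16768 := ndS (p := 7658) (l := 7) rfl N7658 D16768
theorem N9258 : nd 9258 = n16775 := ndS (p := 7660) (l := 6) rfl N7660 D16775
theorem N9259 : nd 9259 = n16778 := ndS (p := 7661) (l := 2) rfl N7661 D16778
theorem N9260 : nd 9260 = n16779 := ndS (p := 7661) (l := 6) rfl N7661 D16779
theorem N9261 : nd 9261 = n16780 := ndS (p := 7662) (l := 5) rfl N7662 D16780
theorem N9262 : nd 9262 = n16781 := ndS (p := 7662) (l := 7) rfl N7662 D16781
theorem N9263 : nd 9263 = n16782 := ndS (p := 7664) (l := 2) rfl N7664 D16782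
theorem N9264 : nd 9264 = n16783 := ndS (p := 7664) (l := 6) rfl N7664 D16783
theorem N9265 : nd 9265 = n16784 := ndS (p := 7665) (l := 5) rfl N7665 D16784
theorem N9266 : nd 9266 = n16785 := ndS (p := 7665) (l := 7) rfl N7665 D16785
theorem N9267 : nd 9267 = n16786 := ndS (p := 7667) (l := 2) rfl N7667 D16786
theorem N9268 : nd 9268 = n16787 := ndS (p := 7667) (l := 6) rfl N7667 D16787
theorem N9269 : nd 9269 = n16788 := ndS (p := 7668) (l := 5) rfl N7668 D16788
theorem N9270 : nd 9270 = n16789 := ndS (p := 7668) (l := 7) rfl N7668 D16789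
theorem N9271 : nd 9271 = n16790 := ndS (p := 7670) (l := 1) rfl N7670 D16790
theorem N9272 : nd 9272 = n16791 := ndS (p := 7670) (l := 6) rfl N7670 D16791
theorem N9273 : nd 9273 = n16792 := ndS (p := 7671) (l := 5) rfl N7671 D16792
theorem N9274 : nd 9274 = n16793 := ndS (p := 7671) (l := 7) rfl N7671 D16793
theorem N9275 : nd 9275 = n16794 := ndS (p := 7672) (l := 7) rfl N7672 D16794
theorem N9276 : nd 9276 = n16795 := ndS (p := 7672) (l := 8) rfl N7672 D16795
theorem N9277 : nd 9277 = n16796 := ndS (p := 7674) (l := 1) rfl N7674 D16796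
theorem N9278 : nd 9278 = n16797 := ndS (p := 7674) (l := 6) rfl N7674 D16797
theorem N9279 : nd 9279 = n16798 := ndS (p := 7675) (l := 5) rfl N7675 D16798
theorem N9280 : nd 9280 = n16799 := ndS (p := 7675) (l := 7) rfl N7675 D16799
theorem N9281 : nd 9281 = n16800 := ndS (p := 7676) (l := 7) rfl N7676 D16800
theorem N9282 : nd 9282 = n16801 := ndS (p := 7676) (l := 8) rfl N7676 D16801
theorem N9283 : nd 9283 = n16802 := ndS (p := 7678) (l := 0) rfl N7678 D16802
theorem N9284 : nd 9284 = n16803 := ndS (p := 7678) (l := 6) rfl N7678 D16803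
theorem N9285 : nd 9285 = n16804 := ndS (p := 7679) (l := 5) rfl N7679 D16804
theorem N9286 : nd 9286 = n16805 := ndS (p := 7679) (l := 7) rfl N7679 D16805
theorem N9287 : nd 9287 = n16806 := ndS (p := 7680) (l := 4) rfl N7680 D16806
theorem N9288 : nd 9288 = n16807 := ndS (p := 7680) (l := 7) rfl N7680 D16807
theorem N9289 : nd 9289 = n16808 := ndS (p := 7680) (l := 8) rfl N7680 D16808
theorem N9290 : nd 9290 = n16809 := ndS (p := 7682) (l := 6) rfl N7682 D16809
theorem N9291 : nd 9291 = n16810 := ndS (p := 7682) (l := 8) rfl N7682 D16810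
theorem N9292 : nd 9292 = n16811 := ndS (p := 7683) (l := 9) rfl N7683 D16811
theorem N9293 : nd 9293 = n16812 := ndS (p := 7684) (l := 7) rfl N7684 D16812
theorem N9294 : nd 9294 = n16814 := ndS (p := 7685) (l := 6) rfl N7685 D16814
theorem N9295 : nd 9295 = n16817 := ndS (p := 7686) (l := 8) rfl N7686 D16817
theorem N9296 : nd 9296 = n16818 := ndS (p := 7687) (l := 9) rfl N7687 D16818
theorem N9297 : nd 9297 = n16819 := ndS (p := 7689) (l := 1) rfl N7689 D16819
theorem N9298 : nd 9298 = n16820 := ndS (p := 7689) (l := 6) rfl N7689 D16820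
theorem N9299 : nd 9299 = n16821 := ndS (p := 7690) (l := 5) rfl N7690 D16821
theorem N9300 : nd 9300 = n16822 := ndS (p := 7690) (l := 7) rfl N7690 D16822
theorem N9301 : nd 9301 = n16823 := ndS (p := 7691) (l := 7) rfl N7691 D16823
theorem N9302 : nd 9302 = n16824 := ndS (p := 7691) (l := 8) rfl N7691 D16824
theorem N9303 : nd 9303 = n16825 := ndS (p := 7693) (l := 2) rfl N7693 D16825
theorem N9304 : nd 9304 = n16826 := ndS (p := 7693) (l := 6) rfl N7693 D16826
theorem N9305 : nd 9305 = n16827 := ndS (p := 7694) (l := 5) rfl N7694 D16827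
theorem N9306 : nd 9306 = n16828 := ndS (p := 7694) (l := 7) rfl N7694 D16828
theorem N9307 : nd 9307 = n16829 := ndS (p := 7696) (l := 1) rfl N7696 D16829
theorem N9308 : nd 9308 = n16830 := ndS (p := 7696) (l := 6) rfl N7696 D16830
theorem N9309 : nd 9309 = n16831 := ndS (p := 7697) (l := 5) rfl N7697 D16831
theorem N9310 : nd 9310 = n16832 := ndS (p := 7697) (l := 7) rfl N7697 D16832
theorem N9311 : nd 9311 = n16833 := ndS (p := 7698) (l := 7) rfl N7698 D16833
theorem N9312 : nd 9312 = n16834 := ndS (p := 7698) (l := 8) rfl N7698 D16834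
theorem N9313 : nd 9313 = n16835 := ndS (p := 7700) (l := 1) rfl N7700 D16835
theorem N9314 : nd 9314 = n16836 := ndS (p := 7700) (l := 6) rfl N7700 D16836
theorem N9315 : nd 9315 = n16837 := ndS (p := 7701) (l := 5) rfl N7701 D16837
theorem N9316 : nd 9316 = n16838 := ndS (p := 7701) (l := 7) rfl N7701 D16838
theorem N9317 : nd 9317 = n16839 := ndS (p := 7702) (l := 7) rfl N7702 D16839
theorem N9318 : nd 9318 = n16840 := ndS (p := 7702) (l := 8) rfl N7702 D16840
theorem N9319 : nd 9319 = n16841 := ndS (p := 7704) (l := 0) rfl N7704 D16841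
theorem N9320 : nd 9320 = n16842 := ndS (p := 7704) (l := 6) rfl N7704 D16842
theorem N9321 : nd 9321 = n16843 := ndS (p := 7705) (l := 5) rfl N7705 D16843
theorem N9322 : nd 9322 = n16844 := ndS (p := 7705) (l := 7) rfl N7705 D16844
theorem N9323 : nd 9323 = n16845 := ndS (p := 7706) (l := 4) rfl N7706 D16845
theorem N9324 : nd 9324 = n16846 := ndS (p := 7706) (l := 7) rfl N7706 D16846
theorem N9325 : nd 9325 = n16847 := ndS (p := 7706) (l := 8) rfl N7706 D16847
theorem N9326 : nd 9326 = n16848 := ndS (p := 7708) (l := 6) rfl N7708 D16848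
theorem N9327 : nd 9327 = n16849 := ndS (p := 7708) (l := 8) rfl N7708 D16849
theorem N9328 : nd 9328 = n16850 := ndS (p := 7709) (l := 9) rfl N7709 D16850
theorem N9329 : nd 9329 = n16851 := ndS (p := 7710) (l := 0) rfl N7710 D16851
theorem N9330 : nd 9330 = n16852 := ndS (p := 7710) (l := 6) rfl N7710 D16852
theorem N9331 : nd 9331 = n16853 := ndS (p := 7711) (l := 5) rfl N7711 D16853
theorem N9332 : nd 9332 = n16854 := ndS (p := 7711) (l := 7) rfl N7711 D16854
theorem N9333 : nd 9333 = n16855 := ndS (p := 7712) (l := 4) rfl N7712 D16855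
theorem N9334 : nd 9334 = n16856 := ndS (p := 7712) (l := 7) rfl N7712 D16856
theorem N9335 : nd 9335 = n16857 := ndS (p := 7712) (l := 8) rfl N7712 D16857
theorem N9336 : nd 9336 = n16858 := ndS (p := 7714) (l := 6) rfl N7714 D16858
theorem N9337 : nd 9337 = n16859 := ndS (p := 7714) (l := 8) rfl N7714 D16859
theorem N9338 : nd 9338 = n16860 := ndS (p := 7715) (l := 9) rfl N7715 D16860
theorem N9339 : nd 9339 = n16861 := ndS (p := 7716) (l := 6) rfl N7716 D16861
theorem N9340 : nd 9340 = n16862 := ndS (p := 7717) (l := 5) rfl N7717 D16862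
theorem N9341 : nd 9341 = n16863 := ndS (p := 7717) (l := 7) rfl N7717 D16863
theorem N9342 : nd 9342 = n16864 := ndS (p := 7718) (l := 7) rfl N7718 D16864
theorem N9343 : nd 9343 = n16865 := ndS (p := 7718) (l := 8) rfl N7718 D16865
theorem N9344 : nd 9344 = n16866 := ndS (p := 7720) (l := 6) rfl N7720 D16866
theorem N9345 : nd 9345 = n16867 := ndS (p := 7720) (l := 8) rfl N7720 D16867
theorem N9346 : nd 9346 = n16868 := ndS (p := 7721) (l := 9) rfl N7721 D16868
theorem N9347 : nd 9347 = n16869 := ndS (p := 7722) (l := 8) rfl N7722 D16869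
theorem N9348 : nd 9348 = n16870 := ndS (p := 7723) (l := 9) rfl N7723 D16870
theorem N9349 : nd 9349 = n16871 := ndS (p := 7725) (l := 5) rfl N7725 D16871
theorem N9350 : nd 9350 = n16872 := ndS (p := 7725) (l := 9) rfl N7725 D16872
theorem N9351 : nd 9351 = n16873 := ndS (p := 7727) (l := 2) rfl N7727 D16873
theorem N9352 : nd 9352 = n16874 := ndS (p := 7727) (l := 6) rfl N7727 D16874
theorem N9353 : nd 9353 = n16875 := ndS (p := 7728) (l := 5) rfl N7728 D16875
theorem N9354 : nd 9354 = n16876 := ndS (p := 7728) (l := 7) rfl N7728 D16876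
theorem N9355 : nd 9355 = n16877 := ndS (p := 7730) (l := 1) rfl N7730 D16877
theorem N9356 : nd 9356 = n16878 := ndS (p := 7730) (l := 6) rfl N7730 D16878
theorem N9357 : nd 9357 = n16879 := ndS (p := 7731) (l := 5) rfl N7731 D16879
theorem N9358 : nd 9358 = n16880 := ndS (p := 7731) (l := 7) rfl N7731 D16880
theorem N9359 : nd 9359 = n16881 := ndS (p := 7732) (l := 7) rfl N7732 D16881
theorem N9360 : nd 9360 = n16882 := ndS (p := 7732) (l := 8) rfl N7732 D16882
theorem N9361 : nd 9361 = n16883 := ndS (p := 7734) (l := 1) rfl N7734 D16883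
theorem N9362 : nd 9362 = n16884 := ndS (p := 7734) (l := 6) rfl N7734 D16884
theorem N9363 : nd 9363 = n16885 := ndS (p := 7735) (l := 5) rfl N7735 D16885
theorem N9364 : nd 9364 = n16886 := ndS (p := 7735) (l := 7) rfl N7735 D16886
theorem N9365 : nd 9365 = n16887 := ndS (p := 7736) (l := 7) rfl N7736 D16887
theorem N9366 : nd 9366 = n16888 := ndS (p := 7736) (l := 8) rfl N7736 D16888
theorem N9367 : nd 9367 = n16889 := ndS (p := 7738) (l := 0) rfl N7738 D16889
theorem N9368 : nd 9368 = n16890 := ndS (p := 7738) (l := 6) rfl N7738 D16890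
theorem N9369 : nd 9369 = n16891 := ndS (p := 7739) (l := 5) rfl N7739 D16891
theorem N9370 : nd 9370 = n16892 := ndS (p := 7739) (l := 7) rfl N7739 D16892
theorem N9371 : nd 9371 = n16893 := ndS (p := 7740) (l := 4) rfl N7740 D16893
theorem N9372 : nd 9372 = n16894 := ndS (p := 7740) (l := 7) rfl N7740 D16894
theorem N9373 : nd 9373 = n16895 := ndS (p := 7740) (l := 8) rfl N7740 D16895
theorem N9374 : nd 9374 = n16896 := ndS (p := 7742) (l := 6) rfl N7742 D16896
theorem N9375 : nd 9375 = n16897 := ndS (p := 7742) (l := 8) rfl N7742 D16897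
theorem N9376 : nd 9376 = n16898 := ndS (p := 7743) (l := 9) rfl N7743 D16898
theorem N9377 : nd 9377 = n16899 := ndS (p := 7744) (l := 0) rfl N7744 D16899
theorem N9378 : nd 9378 = n16900 := ndS (p := 7744) (l := 6) rfl N7744 D16900
theorem N9379 : nd 9379 = n16901 := ndS (p := 7745) (l := 5) rfl N7745 D16901
theorem N9380 : nd 9380 = n16902 := ndS (p := 7745) (l := 7) rfl N7745 D16902
theorem N9381 : nd 9381 = n16903 := ndS (p := 7746) (l := 4) rfl N7746 D16903
theorem N9382 : nd 9382 = n16904 := ndS (p := 7746) (l := 7) rfl N7746 D16904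
theorem N9383 : nd 9383 = n16905 := ndS (p := 7746) (l := 8) rfl N7746 D16905
theorem N9384 : nd 9384 = n16906 := ndS (p := 7748) (l := 6) rfl N7748 D16906
theorem N9385 : nd 9385 = n16907 := ndS (p := 7748) (l := 8) rfl N7748 D16907
theorem N9386 : nd 9386 = n16908 := ndS (p := 7750) (l := 6) rfl N7750 D16908
theorem N9387 : nd 9387 = n16909 := ndS (p := 7751) (l := 5) rfl N7751 D16909
theorem N9388 : nd 9388 = n16910 := ndS (p := 7751) (l := 7) rfl N7751 D16910
theorem N9389 : nd 9389 = n16911 := ndS (p := 7752) (l := 4) rfl N7752 D16911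
theorem N9390 : nd 9390 = n16912 := ndS (p := 7752) (l := 7) rfl N7752 D16912
theorem N9391 : nd 9391 = n16913 := ndS (p := 7754) (l := 7) rfl N7754 D16913
theorem N9392 : nd 9392 = n16914 := ndS (p := 7755) (l := 6) rfl N7755 D16914
theorem N9393 : nd 9393 = n16915 := ndS (p := 7757) (l := 6) rfl N7757 D16915
theorem N9394 : nd 9394 = n16916 := ndS (p := 7758) (l := 7) rfl N7758 D16916
theorem N9395 : nd 9395 = n16917 := ndS (p := 7759) (l := 7) rfl N7759 D16917
theorem N9396 : nd 9396 = n16918 := ndS (p := 7761) (l := 7) rfl N7761 D16918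
theorem N9397 : nd 9397 = n16919 := ndS (p := 7762) (l := 8) rfl N7762 D16919
theorem N9398 : nd 9398 = n16920 := ndS (p := 7764) (l := 9) rfl N7764 D16920
theorem N9399 : nd 9399 = n16921 := ndS (p := 7766) (l := 7) rfl N7766 D16921
theorem N9400 : nd 9400 = n16923 := ndS (p := 7769) (l := 6) rfl N7769 D16923
theorem N9401 : nd 9401 = n16924 := ndS (p := 7770) (l := 7) rfl N7770 D16924
theorem N9402 : nd 9402 = n16927 := ndS (p := 7771) (l := 5) rfl N7771 D16927
theorem N9403 : nd 9403 = n16928 := ndS (p := 7771) (l := 7) rfl N7771 D16928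
theorem N9404 : nd 9404 = n16932 := ndS (p := 7773) (l := 7) rfl N7773 D16932
theorem N9405 : nd 9405 = n16950 := ndS (p := 7776) (l := 5) rfl N7776 D16950
theorem N9406 : nd 9406 = n16951 := ndS (p := 7776) (l := 7) rfl N7776 D16951
theorem N9407 : nd 9407 = n16954 := ndS (p := 7778) (l := 5) rfl N7778 D16954
theorem N9408 : nd 9408 = n16955 := ndS (p := 7778) (l := 7) rfl N7778 D16955
theorem N9409 : nd 9409 = n16958 := ndS (p := 7780) (l := 5) rfl N7780 D16958
theorem N9410 : nd 9410 = n16959 := ndS (p := 7780) (l := 7) rfl N7780 D16959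
theorem N9411 : nd 9411 = n16964 := ndS (p := 7782) (l := 7) rfl N7782 D16964
theorem N9412 : nd 9412 = n16993 := ndS (p := 7785) (l := 6) rfl N7785 D16993
theorem N9413 : nd 9413 = n16994 := ndS (p := 7786) (l := 5) rfl N7786 D16994
theorem N9414 : nd 9414 = n16995 := ndS (p := 7786) (l := 7) rfl N7786 D16995
theorem N9415 : nd 9415 = n16997 := ndS (p := 7788) (l := 6) rfl N7788 D16997
theorem N9416 : nd 9416 = n16998 := ndS (p := 7789) (l := 5) rfl N7789 D16998
theorem N9417 : nd 9417 = n16999 := ndS (p := 7789) (l := 7) rfl N7789 D16999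
theorem N9418 : nd 9418 = n17000 := ndS (p := 7790) (l := 7) rfl N7790 D17000
theorem N9419 : nd 9419 = n17001 := ndS (p := 7790) (l := 8) rfl N7790 D17001
theorem N9420 : nd 9420 = n17003 := ndS (p := 7792) (l := 6) rfl N7792 D17003
theorem N9421 : nd 9421 = n17004 := ndS (p := 7793) (l := 5) rfl N7793 D17004
theorem N9422 : nd 9422 = n17005 := ndS (p := 7793) (l := 7) rfl N7793 D17005
theorem N9423 : nd 9423 = n17007 := ndS (p := 7795) (l := 6) rfl N7795 D17007
theorem N9424 : nd 9424 = n17008 := ndS (p := 7796) (l := 5) rfl N7796 D17008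
theorem N9425 : nd 9425 = n17009 := ndS (p := 7796) (l := 7) rfl N7796 D17009
theorem N9426 : nd 9426 = n17012 := ndS (p := 7798) (l := 5) rfl N7798 D17012
theorem N9427 : nd 9427 = n17013 := ndS (p := 7798) (l := 7) rfl N7798 D17013
theorem N9428 : nd 9428 = n17014 := ndS (p := 7799) (l := 7) rfl N7799 D17014
theorem N9429 : nd 9429 = n17015 := ndS (p := 7799) (l := 8) rfl N7799 D17015
theorem N9430 : nd 9430 = n17017 := ndS (p := 7801) (l := 6) rfl N7801 D17017
theorem N9431 : nd 9431 = n17018 := ndS (p := 7802) (l := 5) rfl N7802 D17018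
theorem N9432 : nd 9432 = n17019 := ndS (p := 7802) (l := 7) rfl N7802 D17019
theorem N9433 : nd 9433 = n17020 := ndS (p := 7803) (l := 7) rfl N7803 D17020
theorem N9434 : nd 9434 = n17021 := ndS (p := 7803) (l := 8) rfl N7803 D17021
theorem N9435 : nd 9435 = n17025 := ndS (p := 7805) (l := 7) rfl N7805 D17025
theorem N9436 : nd 9436 = n17026 := ndS (p := 7806) (l := 4) rfl N7806 D17026
theorem N9437 : nd 9437 = n17027 := ndS (p := 7806) (l := 7) rfl N7806 D17027
theorem N9438 : nd 9438 = n17029 := ndS (p := 7808) (l := 6) rfl N7808 D17029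
theorem N9439 : nd 9439 = n17030 := ndS (p := 7808) (l := 8) rfl N7808 D17030
theorem N9440 : nd 9440 = n17031 := ndS (p := 7809) (l := 9) rfl N7809 D17031
theorem N9441 : nd 9441 = n17054 := ndS (p := 7812) (l := 9) rfl N7812 D17054
theorem N9442 : nd 9442 = n17066 := ndS (p := 7815) (l := 7) rfl N7815 D17066
theorem N9443 : nd 9443 = n17067 := ndS (p := 7816) (l := 7) rfl N7816 D17067
theorem N9444 : nd 9444 = n17070 := ndS (p := 7818) (l := 6) rfl N7818 D17070
theorem N9445 : nd 9445 = n17071 := ndS (p := 7819) (l := 5) rfl N7819 D17071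
theorem N9446 : nd 9446 = n17072 := ndS (p := 7819) (l := 7) rfl N7819 D17072
theorem N9447 : nd 9447 = n17073 := ndS (p := 7820) (l := 7) rfl N7820 D17073
theorem N9448 : nd 9448 = n17074 := ndS (p := 7820) (l := 8) rfl N7820 D17074
theorem N9449 : nd 9449 = n17077 := ndS (p := 7822) (l := 5) rfl N7822 D17077
theorem N9450 : nd 9450 = n17078 := ndS (p := 7822) (l := 7) rfl N7822 D17078
theorem N9451 : nd 9451 = n17079 := ndS (p := 7823) (l := 4) rfl N7823 D17079
theorem N9452 : nd 9452 = n17080 := ndS (p := 7823) (l := 7) rfl N7823 D17080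
theorem N9453 : nd 9453 = n17081 := ndS (p := 7823) (l := 8) rfl N7823 D17081
theorem N9454 : nd 9454 = n17082 := ndS (p := 7825) (l := 6) rfl N7825 D17082
theorem N9455 : nd 9455 = n17083 := ndS (p := 7825) (l := 8) rfl N7825 D17083
theorem N9456 : nd 9456 = n17084 := ndS (p := 7826) (l := 9) rfl N7826 D17084
theorem N9457 : nd 9457 = n17086 := ndS (p := 7827) (l := 6) rfl N7827 D17086
theorem N9458 : nd 9458 = n17087 := ndS (p := 7828) (l := 5) rfl N7828 D17087
theorem N9459 : nd 9459 = n17088 := ndS (p := 7828) (l := 7) rfl N7828 D17088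
theorem N9460 : nd 9460 = n17089 := ndS (p := 7829) (l := 7) rfl N7829 D17089
theorem N9461 : nd 9461 = n17095 := ndS (p := 7831) (l := 7) rfl N7831 D17095
theorem N9462 : nd 9462 = n17096 := ndS (p := 7831) (l := 8) rfl N7831 D17096
theorem N9463 : nd 9463 = n17104 := ndS (p := 7833) (l := 6) rfl N7833 D17104
theorem N9464 : nd 9464 = n17109 := ndS (p := 7834) (l := 5) rfl N7834 D17109
theorem N9465 : nd 9465 = n17110 := ndS (p := 7834) (l := 7) rfl N7834 D17110
theorem N9466 : nd 9466 = n17111 := ndS (p := 7835) (l := 4) rfl N7835 D17111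
theorem N9467 : nd 9467 = n17112 := ndS (p := 7835) (l := 7) rfl N7835 D17112
theorem N9468 : nd 9468 = n17113 := ndS (p := 7835) (l := 8) rfl N7835 D17113
theorem N9469 : nd 9469 = n17114 := ndS (p := 7837) (l := 6) rfl N7837 D17114
theorem N9470 : nd 9470 = n17115 := ndS (p := 7837) (l := 8) rfl N7837 D17115
theorem N9471 : nd 9471 = n17116 := ndS (p := 7838) (l := 9) rfl N7838 D17116
theorem N9472 : nd 9472 = n17120 := ndS (p := 7839) (l := 4) rfl N7839 D17120
theorem N9473 : nd 9473 = n17121 := ndS (p := 7839) (l := 7) rfl N7839 D17121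
theorem N9474 : nd 9474 = n17123 := ndS (p := 7841) (l := 7) rfl N7841 D17123
theorem N9475 : nd 9475 = n17124 := ndS (p := 7841) (l := 8) rfl N7841 D17124
theorem N9476 : nd 9476 = n17125 := ndS (p := 7842) (l := 6) rfl N7842 D17125
theorem N9477 : nd 9477 = n17126 := ndS (p := 7842) (l := 8) rfl N7842 D17126
theorem N9478 : nd 9478 = n17127 := ndS (p := 7843) (l := 9) rfl N7843 D17127
theorem N9479 : nd 9479 = n17128 := ndS (p := 7844) (l := 8) rfl N7844 D17128
theorem N9480 : nd 9480 = n17129 := ndS (p := 7845) (l := 9) rfl N7845 D17129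
theorem N9481 : nd 9481 = n17151 := ndS (p := 7847) (l := 9) rfl N7847 D17151
theorem N9482 : nd 9482 = n17154 := ndS (p := 7850) (l := 4) rfl N7850 D17154
theorem N9483 : nd 9483 = n17155 := ndS (p := 7850) (l := 9) rfl N7850 D17155
theorem N9484 : nd 9484 = n17157 := ndS (p := 7852) (l := 6) rfl N7852 D17157
theorem N9485 : nd 9485 = n17158 := ndS (p := 7853) (l := 5) rfl N7853 D17158
theorem N9486 : nd 9486 = n17159 := ndS (p := 7853) (l := 7) rfl N7853 D17159
theorem N9487 : nd 9487 = n17160 := ndS (p := 7854) (l := 7) rfl N7854 D17160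
theorem N9488 : nd 9488 = n17161 := ndS (p := 7856) (l := 0) rfl N7856 D17161
theorem N9489 : nd 9489 = n17162 := ndS (p := 7856) (l := 6) rfl N7856 D17162
theorem N9490 : nd 9490 = n17163 := ndS (p := 7857) (l := 5) rfl N7857 D17163
theorem N9491 : nd 9491 = n17164 := ndS (p := 7857) (l := 7) rfl N7857 D17164
theorem N9492 : nd 9492 = n17166 := ndS (p := 7858) (l := 7) rfl N7858 D17166
theorem N9493 : nd 9493 = n17168 := ndS (p := 7860) (l := 6) rfl N7860 D17168
theorem N9494 : nd 9494 = n17176 := ndS (p := 7861) (l := 6) rfl N7861 D17176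
theorem N9495 : nd 9495 = n17192 := ndS (p := 7864) (l := 7) rfl N7864 D17192
theorem N9496 : nd 9496 = n17193 := ndS (p := 7865) (l := 6) rfl N7865 D17193
theorem N9497 : nd 9497 = n17194 := ndS (p := 7865) (l := 8) rfl N7865 D17194
theorem N9498 : nd 9498 = n17195 := ndS (p := 7867) (l := 8) rfl N7867 D17195
theorem N9499 : nd 9499 = n17202 := ndS (p := 7870) (l := 6) rfl N7870 D17202
theorem N9500 : nd 9500 = n17222 := ndS (p := 7872) (l := 6) rfl N7872 D17222
theorem N9501 : nd 9501 = n17223 := ndS (p := 7873) (l := 7) rfl N7873 D17223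
theorem N9502 : nd 9502 = n17226 := ndS (p := 7874) (l := 5) rfl N7874 D17226
theorem N9503 : nd 9503 = n17227 := ndS (p := 7874) (l := 7) rfl N7874 D17227
theorem N9504 : nd 9504 = n17231 := ndS (p := 7876) (l := 7) rfl N7876 D17231
theorem N9505 : nd 9505 = n17268 := ndS (p := 7880) (l := 5) rfl N7880 D17268
theorem N9506 : nd 9506 = n17269 := ndS (p := 7880) (l := 7) rfl N7880 D17269
theorem N9507 : nd 9507 = n17274 := ndS (p := 7882) (l := 7) rfl N7882 D17274
theorem N9508 : nd 9508 = n17280 := ndS (p := 7884) (l := 7) rfl N7884 D17280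
theorem N9509 : nd 9509 = n17281 := ndS (p := 7884) (l := 8) rfl N7884 D17281
theorem N9510 : nd 9510 = n17289 := ndS (p := 7886) (l := 6) rfl N7886 D17289
theorem N9511 : nd 9511 = n17331 := ndS (p := 7887) (l := 5) rfl N7887 D17331
theorem N9512 : nd 9512 = n17332 := ndS (p := 7887) (l := 7) rfl N7887 D17332
theorem N9513 : nd 9513 = n17333 := ndS (p := 7888) (l := 7) rfl N7888 D17333
theorem N9514 : nd 9514 = n17334 := ndS (p := 7888) (l := 8) rfl N7888 D17334
theorem N9515 : nd 9515 = n17339 := ndS (p := 7890) (l := 4) rfl N7890 D17339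
theorem N9516 : nd 9516 = n17340 := ndS (p := 7890) (l := 7) rfl N7890 D17340
theorem N9517 : nd 9517 = n17342 := ndS (p := 7892) (l := 6) rfl N7892 D17342
theorem N9518 : nd 9518 = n17343 := ndS (p := 7892) (l := 8) rfl N7892 D17343
theorem N9519 : nd 9519 = n17344 := ndS (p := 7893) (l := 9) rfl N7893 D17344
theorem N9520 : nd 9520 = n17348 := ndS (p := 7894) (l := 7) rfl N7894 D17348
theorem N9521 : nd 9521 = n17350 := ndS (p := 7895) (l := 7) rfl N7895 D17350
theorem N9522 : nd 9522 = n17351 := ndS (p := 7895) (l := 8) rfl N7895 D17351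
theorem N9523 : nd 9523 = n17352 := ndS (p := 7897) (l := 6) rfl N7897 D17352
theorem N9524 : nd 9524 = n17353 := ndS (p := 7897) (l := 8) rfl N7897 D17353
theorem N9525 : nd 9525 = n17354 := ndS (p := 7898) (l := 9) rfl N7898 D17354
theorem N9526 : nd 9526 = n17363 := ndS (p := 7900) (l := 6) rfl N7900 D17363
theorem N9527 : nd 9527 = n17366 := ndS (p := 7901) (l := 8) rfl N7901 D17366
theorem N9528 : nd 9528 = n17367 := ndS (p := 7902) (l := 9) rfl N7902 D17367
theorem N9529 : nd 9529 = n17415 := ndS (p := 7905) (l := 6) rfl N7905 D17415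
theorem N9530 : nd 9530 = n17416 := ndS (p := 7905) (l := 8) rfl N7905 D17416
theorem N9531 : nd 9531 = n17431 := ndS (p := 7908) (l := 7) rfl N7908 D17431
theorem N9532 : nd 9532 = n17432 := ndS (p := 7910) (l := 7) rfl N7910 D17432
theorem N9533 : nd 9533 = n17433 := ndS (p := 7911) (l := 6) rfl N7911 D17433
theorem N9534 : nd 9534 = n17434 := ndS (p := 7911) (l := 8) rfl N7911 D17434
theorem N9535 : nd 9535 = n17435 := ndS (p := 7912) (l := 9) rfl N7912 D17435
theorem N9536 : nd 9536 = n17436 := ndS (p := 7913) (l := 8) rfl N7913 D17436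
theorem N9537 : nd 9537 = n17437 := ndS (p := 7914) (l := 9) rfl N7914 D17437
theorem N9538 : nd 9538 = n17443 := ndS (p := 7916) (l := 7) rfl N7916 D17443
theorem N9539 : nd 9539 = n17445 := ndS (p := 7917) (l := 6) rfl N7917 D17445
theorem N9540 : nd 9540 = n17448 := ndS (p := 7918) (l := 6) rfl N7918 D17448
theorem N9541 : nd 9541 = n17449 := ndS (p := 7918) (l := 8) rfl N7918 D17449
theorem N9542 : nd 9542 = n17450 := ndS (p := 7919) (l := 9) rfl N7919 D17450
theorem N9543 : nd 9543 = n17451 := ndS (p := 7920) (l := 8) rfl N7920 D17451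
theorem N9544 : nd 9544 = n17452 := ndS (p := 7921) (l := 9) rfl N7921 D17452
theorem N9545 : nd 9545 = n17454 := ndS (p := 7923) (l := 9) rfl N7923 D17454
theorem N9546 : nd 9546 = n17599 := ndS (p := 7932) (l := 7) rfl N7932 D17599
theorem N9547 : nd 9547 = n17600 := ndS (p := 7933) (l := 7) rfl N7933 D17600
theorem N9548 : nd 9548 = n17605 := ndS (p := 7935) (l := 7) rfl N7935 D17605
theorem N9549 : nd 9549 = n17606 := ndS (p := 7936) (l := 7) rfl N7936 D17606
theorem N9550 : nd 9550 = n17703 := ndS (p := 7942) (l := 7) rfl N7942 D17703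
theorem N9551 : nd 9551 = n17706 := ndS (p := 7943) (l := 8) rfl N7943 D17706
theorem N9552 : nd 9552 = n17709 := ndS (p := 7945) (l := 9) rfl N7945 D17709
theorem N9553 : nd 9553 = n18551 := ndS (p := 7947) (l := 7) rfl N7947 D18551
theorem N9554 : nd 9554 = n18552 := ndS (p := 7947) (l := 8) rfl N7947 D18552
theorem N9555 : nd 9555 = n18555 := ndS (p := 7949) (l := 7) rfl N7949 D18555
theorem N9556 : nd 9556 = n18558 := ndS (p := 7951) (l := 6) rfl N7951 D18558
theorem N9557 : nd 9557 = n18559 := ndS (p := 7952) (l := 7) rfl N7952 D18559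
theorem N9558 : nd 9558 = n18561 := ndS (p := 7953) (l := 6) rfl N7953 D18561
theorem N9559 : nd 9559 = n18562 := ndS (p := 7954) (l := 5) rfl N7954 D18562
theorem N9560 : nd 9560 = n18563 := ndS (p := 7954) (l := 7) rfl N7954 D18563
theorem N9561 : nd 9561 = n18564 := ndS (p := 7956) (l := 5) rfl N7956 D18564
theorem N9562 : nd 9562 = n18565 := ndS (p := 7956) (l := 7) rfl N7956 D18565
theorem N9563 : nd 9563 = n18566 := ndS (p := 7957) (l := 7) rfl N7957 D18566
theorem N9564 : nd 9564 = n18567 := ndS (p := 7957) (l := 8) rfl N7957 D18567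
theorem N9565 : nd 9565 = n18568 := ndS (p := 7959) (l := 6) rfl N7959 D18568
theorem N9566 : nd 9566 = n18569 := ndS (p := 7959) (l := 8) rfl N7959 D18569
theorem N9567 : nd 9567 = n18570 := ndS (p := 7960) (l := 9) rfl N7960 D18570
theorem N9568 : nd 9568 = n18572 := ndS (p := 7961) (l := 6) rfl N7961 D18572
theorem N9569 : nd 9569 = n18573 := ndS (p := 7962) (l := 5) rfl N7962 D18573
theorem N9570 : nd 9570 = n18574 := ndS (p := 7962) (l := 7) rfl N7962 D18574
theorem N9571 : nd 9571 = n18575 := ndS (p := 7964) (l := 6) rfl N7964 D18575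
theorem N9572 : nd 9572 = n18576 := ndS (p := 7965) (l := 5) rfl N7965 D18576
theorem N9573 : nd 9573 = n18577 := ndS (p := 7965) (l := 7) rfl N7965 D18577
theorem N9574 : nd 9574 = n18578 := ndS (p := 7966) (l := 7) rfl N7966 D18578
theorem N9575 : nd 9575 = n18579 := ndS (p := 7966) (l := 8) rfl N7966 D18579
theorem N9576 : nd 9576 = n18580 := ndS (p := 7968) (l := 4) rfl N7968 D18580
theorem N9577 : nd 9577 = n18581 := ndS (p := 7968) (l := 7) rfl N7968 D18581
theorem N9578 : nd 9578 = n18582 := ndS (p := 7968) (l := 8) rfl N7968 D18582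
theorem N9579 : nd 9579 = n18583 := ndS (p := 7970) (l := 6) rfl N7970 D18583
theorem N9580 : nd 9580 = n18584 := ndS (p := 7970) (l := 8) rfl N7970 D18584
theorem N9581 : nd 9581 = n18585 := ndS (p := 7971) (l := 9) rfl N7971 D18585
theorem N9582 : nd 9582 = n18586 := ndS (p := 7972) (l := 8) rfl N7972 D18586
theorem N9583 : nd 9583 = n18587 := ndS (p := 7973) (l := 9) rfl N7973 D18587
theorem N9584 : nd 9584 = n18589 := ndS (p := 7976) (l := 5) rfl N7976 D18589
theorem N9585 : nd 9585 = n18592 := ndS (p := 7977) (l := 8) rfl N7977 D18592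
theorem N9586 : nd 9586 = n18595 := ndS (p := 7978) (l := 6) rfl N7978 D18595
theorem N9587 : nd 9587 = n18596 := ndS (p := 7979) (l := 7) rfl N7979 D18596
theorem N9588 : nd 9588 = n18598 := ndS (p := 7980) (l := 6) rfl N7980 D18598
theorem N9589 : nd 9589 = n18599 := ndS (p := 7981) (l := 5) rfl N7981 D18599
theorem N9590 : nd 9590 = n18600 := ndS (p := 7981) (l := 7) rfl N7981 D18600
theorem N9591 : nd 9591 = n18601 := ndS (p := 7983) (l := 3) rfl N7983 D18601
theorem N9592 : nd 9592 = n18602 := ndS (p := 7983) (l := 6) rfl N7983 D18602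
theorem N9593 : nd 9593 = n18603 := ndS (p := 7984) (l := 7) rfl N7984 D18603
theorem N9594 : nd 9594 = n18604 := ndS (p := 7985) (l := 2) rfl N7985 D18604
theorem N9595 : nd 9595 = n18605 := ndS (p := 7985) (l := 6) rfl N7985 D18605
theorem N9596 : nd 9596 = n18606 := ndS (p := 7986) (l := 5) rfl N7986 D18606
theorem N9597 : nd 9597 = n18607 := ndS (p := 7986) (l := 7) rfl N7986 D18607
theorem N9598 : nd 9598 = n18608 := ndS (p := 7988) (l := 5) rfl N7988 D18608
theorem N9599 : nd 9599 = n18609 := ndS (p := 7988) (l := 7) rfl N7988 D18609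
theorem N9600 : nd 9600 = n18610 := ndS (p := 7989) (l := 7) rfl N7989 D18610
theorem N9601 : nd 9601 = n18611 := ndS (p := 7989) (l := 8) rfl N7989 D18611
theorem N9602 : nd 9602 = n18612 := ndS (p := 7991) (l := 2) rfl N7991 D18612
theorem N9603 : nd 9603 = n18613 := ndS (p := 7991) (l := 6) rfl N7991 D18613
theorem N9604 : nd 9604 = n18614 := ndS (p := 7992) (l := 5) rfl N7992 D18614
theorem N9605 : nd 9605 = n18615 := ndS (p := 7992) (l := 7) rfl N7992 D18615
theorem N9606 : nd 9606 = n18617 := ndS (p := 7994) (l := 6) rfl N7994 D18617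
theorem N9607 : nd 9607 = n18619 := ndS (p := 7995) (l := 7) rfl N7995 D18619
theorem N9608 : nd 9608 = n18620 := ndS (p := 7996) (l := 7) rfl N7996 D18620
theorem N9609 : nd 9609 = n18621 := ndS (p := 7996) (l := 8) rfl N7996 D18621
theorem N9610 : nd 9610 = n18622 := ndS (p := 7998) (l := 6) rfl N7998 D18622
theorem N9611 : nd 9611 = n18623 := ndS (p := 7998) (l := 8) rfl N7998 D18623
theorem N9612 : nd 9612 = n18624 := ndS (p := 7999) (l := 9) rfl N7999 D18624
theorem N9613 : nd 9613 = n18625 := ndS (p := 8000) (l := 2) rfl N8000 D18625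
theorem N9614 : nd 9614 = n18626 := ndS (p := 8000) (l := 6) rfl N8000 D18626
theorem N9615 : nd 9615 = n18627 := ndS (p := 8001) (l := 5) rfl N8001 D18627
theorem N9616 : nd 9616 = n18628 := ndS (p := 8001) (l := 7) rfl N8001 D18628
theorem N9617 : nd 9617 = n18629 := ndS (p := 8003) (l := 1) rfl N8003 D18629
theorem N9618 : nd 9618 = n18630 := ndS (p := 8003) (l := 6) rfl N8003 D18630
theorem N9619 : nd 9619 = n18631 := ndS (p := 8004) (l := 5) rfl N8004 D18631
theorem N9620 : nd 9620 = n18632 := ndS (p := 8004) (l := 7) rfl N8004 D18632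
theorem N9621 : nd 9621 = n18633 := ndS (p := 8005) (l := 7) rfl N8005 D18633
theorem N9622 : nd 9622 = n18637 := ndS (p := 8008) (l := 7) rfl N8008 D18637
theorem N9623 : nd 9623 = n18638 := ndS (p := 8009) (l := 7) rfl N8009 D18638
theorem N9624 : nd 9624 = n18640 := ndS (p := 8011) (l := 0) rfl N8011 D18640
theorem N9625 : nd 9625 = n18641 := ndS (p := 8011) (l := 6) rfl N8011 D18641
theorem N9626 : nd 9626 = n18642 := ndS (p := 8012) (l := 7) rfl N8012 D18642
theorem N9627 : nd 9627 = n18649 := ndS (p := 8015) (l := 4) rfl N8015 D18649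
theorem N9628 : nd 9628 = n18650 := ndS (p := 8015) (l := 6) rfl N8015 D18650
theorem N9629 : nd 9629 = n18651 := ndS (p := 8016) (l := 3) rfl N8016 D18651
theorem N9630 : nd 9630 = n18652 := ndS (p := 8016) (l := 6) rfl N8016 D18652
theorem N9631 : nd 9631 = n18653 := ndS (p := 8017) (l := 7) rfl N8017 D18653
theorem N9632 : nd 9632 = n18655 := ndS (p := 8018) (l := 6) rfl N8018 D18655
theorem N9633 : nd 9633 = n18656 := ndS (p := 8019) (l := 5) rfl N8019 D18656
theorem N9634 : nd 9634 = n18657 := ndS (p := 8019) (l := 7) rfl N8019 D18657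
theorem N9635 : nd 9635 = n18658 := ndS (p := 8021) (l := 3) rfl N8021 D18658
theorem N9636 : nd 9636 = n18659 := ndS (p := 8021) (l := 6) rfl N8021 D18659
theorem N9637 : nd 9637 = n18660 := ndS (p := 8022) (l := 7) rfl N8022 D18660
theorem N9638 : nd 9638 = n18661 := ndS (p := 8023) (l := 2) rfl N8023 D18661
theorem N9639 : nd 9639 = n18662 := ndS (p := 8023) (l := 6) rfl N8023 D18662
theorem N9640 : nd 9640 = n18663 := ndS (p := 8024) (l := 5) rfl N8024 D18663
theorem N9641 : nd 9641 = n18664 := ndS (p := 8024) (l := 7) rfl N8024 D18664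
theorem N9642 : nd 9642 = n18665 := ndS (p := 8026) (l := 6) rfl N8026 D18665
theorem N9643 : nd 9643 = n18666 := ndS (p := 8027) (l := 5) rfl N8027 D18666
theorem N9644 : nd 9644 = n18667 := ndS (p := 8027) (l := 7) rfl N8027 D18667
theorem N9645 : nd 9645 = n18668 := ndS (p := 8028) (l := 7) rfl N8028 D18668
theorem N9646 : nd 9646 = n18669 := ndS (p := 8028) (l := 8) rfl N8028 D18669
theorem N9647 : nd 9647 = n18670 := ndS (p := 8030) (l := 4) rfl N8030 D18670
theorem N9648 : nd 9648 = n18671 := ndS (p := 8030) (l := 6) rfl N8030 D18671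
theorem N9649 : nd 9649 = n18672 := ndS (p := 8031) (l := 3) rfl N8031 D18672
theorem N9650 : nd 9650 = n18673 := ndS (p := 8031) (l := 6) rfl N8031 D18673
theorem N9651 : nd 9651 = n18674 := ndS (p := 8032) (l := 7) rfl N8032 D18674
theorem N9652 : nd 9652 = n18675 := ndS (p := 8033) (l := 2) rfl N8033 D18675
theorem N9653 : nd 9653 = n18676 := ndS (p := 8033) (l := 6) rfl N8033 D18676
theorem N9654 : nd 9654 = n18677 := ndS (p := 8034) (l := 5) rfl N8034 D18677
theorem N9655 : nd 9655 = n18678 := ndS (p := 8034) (l := 7) rfl N8034 D18678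
theorem N9656 : nd 9656 = n18680 := ndS (p := 8036) (l := 6) rfl N8036 D18680
theorem N9657 : nd 9657 = n18681 := ndS (p := 8037) (l := 5) rfl N8037 D18681
theorem N9658 : nd 9658 = n18682 := ndS (p := 8037) (l := 7) rfl N8037 D18682
theorem N9659 : nd 9659 = n18683 := ndS (p := 8038) (l := 7) rfl N8038 D18683
theorem N9660 : nd 9660 = n18684 := ndS (p := 8038) (l := 8) rfl N8038 D18684
theorem N9661 : nd 9661 = n18685 := ndS (p := 8040) (l := 4) rfl N8040 D18685
theorem N9662 : nd 9662 = n18686 := ndS (p := 8040) (l := 7) rfl N8040 D18686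
theorem N9663 : nd 9663 = n18687 := ndS (p := 8040) (l := 8) rfl N8040 D18687
theorem N9664 : nd 9664 = n18688 := ndS (p := 8042) (l := 6) rfl N8042 D18688
theorem N9665 : nd 9665 = n18689 := ndS (p := 8042) (l := 8) rfl N8042 D18689
theorem N9666 : nd 9666 = n18690 := ndS (p := 8043) (l := 9) rfl N8043 D18690
theorem N9667 : nd 9667 = n18691 := ndS (p := 8044) (l := 2) rfl N8044 D18691
theorem N9668 : nd 9668 = n18692 := ndS (p := 8044) (l := 6) rfl N8044 D18692
theorem N9669 : nd 9669 = n18693 := ndS (p := 8045) (l := 5) rfl N8045 D18693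
theorem N9670 : nd 9670 = n18694 := ndS (p := 8045) (l := 7) rfl N8045 D18694
theorem N9671 : nd 9671 = n18696 := ndS (p := 8047) (l := 6) rfl N8047 D18696
theorem N9672 : nd 9672 = n18697 := ndS (p := 8048) (l := 5) rfl N8048 D18697
theorem N9673 : nd 9673 = n18698 := ndS (p := 8048) (l := 7) rfl N8048 D18698
theorem N9674 : nd 9674 = n18699 := ndS (p := 8049) (l := 7) rfl N8049 D18699
theorem N9675 : nd 9675 = n18700 := ndS (p := 8049) (l := 8) rfl N8049 D18700
theorem N9676 : nd 9676 = n18703 := ndS (p := 8051) (l := 5) rfl N8051 D18703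
theorem N9677 : nd 9677 = n18704 := ndS (p := 8051) (l := 7) rfl N8051 D18704
theorem N9678 : nd 9678 = n18705 := ndS (p := 8052) (l := 7) rfl N8052 D18705
theorem N9679 : nd 9679 = n18706 := ndS (p := 8052) (l := 8) rfl N8052 D18706
theorem N9680 : nd 9680 = n18707 := ndS (p := 8054) (l := 6) rfl N8054 D18707
theorem N9681 : nd 9681 = n18708 := ndS (p := 8054) (l := 8) rfl N8054 D18708
theorem N9682 : nd 9682 = n18709 := ndS (p := 8055) (l := 9) rfl N8055 D18709
theorem N9683 : nd 9683 = n18710 := ndS (p := 8056) (l := 8) rfl N8056 D18710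
theorem N9684 : nd 9684 = n18711 := ndS (p := 8057) (l := 9) rfl N8057 D18711
theorem N9685 : nd 9685 = n18714 := ndS (p := 8059) (l := 5) rfl N8059 D18714
theorem N9686 : nd 9686 = n18715 := ndS (p := 8059) (l := 7) rfl N8059 D18715
theorem N9687 : nd 9687 = n18716 := ndS (p := 8060) (l := 4) rfl N8060 D18716
theorem N9688 : nd 9688 = n18717 := ndS (p := 8060) (l := 7) rfl N8060 D18717
theorem N9689 : nd 9689 = n18718 := ndS (p := 8062) (l := 6) rfl N8062 D18718
theorem N9690 : nd 9690 = n18721 := ndS (p := 8064) (l := 2) rfl N8064 D18721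
theorem N9691 : nd 9691 = n18722 := ndS (p := 8064) (l := 6) rfl N8064 D18722
theorem N9692 : nd 9692 = n18723 := ndS (p := 8065) (l := 5) rfl N8065 D18723
theorem N9693 : nd 9693 = n18724 := ndS (p := 8065) (l := 7) rfl N8065 D18724
theorem N9694 : nd 9694 = n18727 := ndS (p := 8067) (l := 5) rfl N8067 D18727
theorem N9695 : nd 9695 = n18728 := ndS (p := 8067) (l := 7) rfl N8067 D18728
theorem N9696 : nd 9696 = n18729 := ndS (p := 8068) (l := 7) rfl N8068 D18729
theorem N9697 : nd 9697 = n18730 := ndS (p := 8068) (l := 8) rfl N8068 D18730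
theorem N9698 : nd 9698 = n18732 := ndS (p := 8070) (l := 6) rfl N8070 D18732
theorem N9699 : nd 9699 = n18733 := ndS (p := 8071) (l := 5) rfl N8071 D18733
theorem N9700 : nd 9700 = n18734 := ndS (p := 8071) (l := 7) rfl N8071 D18734
theorem N9701 : nd 9701 = n18735 := ndS (p := 8072) (l := 7) rfl N8072 D18735
theorem N9702 : nd 9702 = n18736 := ndS (p := 8072) (l := 8) rfl N8072 D18736
theorem N9703 : nd 9703 = n18737 := ndS (p := 8074) (l := 5) rfl N8074 D18737
theorem N9704 : nd 9704 = n18738 := ndS (p := 8074) (l := 7) rfl N8074 D18738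
theorem N9705 : nd 9705 = n18739 := ndS (p := 8075) (l := 4) rfl N8075 D18739
theorem N9706 : nd 9706 = n18740 := ndS (p := 8075) (l := 7) rfl N8075 D18740
theorem N9707 : nd 9707 = n18741 := ndS (p := 8075) (l := 8) rfl N8075 D18741
theorem N9708 : nd 9708 = n18742 := ndS (p := 8077) (l := 6) rfl N8077 D18742
theorem N9709 : nd 9709 = n18743 := ndS (p := 8077) (l := 8) rfl N8077 D18743
theorem N9710 : nd 9710 = n18744 := ndS (p := 8078) (l := 9) rfl N8078 D18744
theorem N9711 : nd 9711 = n18747 := ndS (p := 8079) (l := 5) rfl N8079 D18747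
theorem N9712 : nd 9712 = n18748 := ndS (p := 8079) (l := 7) rfl N8079 D18748
theorem N9713 : nd 9713 = n18749 := ndS (p := 8080) (l := 4) rfl N8080 D18749
theorem N9714 : nd 9714 = n18750 := ndS (p := 8080) (l := 7) rfl N8080 D18750
theorem N9715 : nd 9715 = n18751 := ndS (p := 8080) (l := 8) rfl N8080 D18751
theorem N9716 : nd 9716 = n18752 := ndS (p := 8082) (l := 6) rfl N8082 D18752
theorem N9717 : nd 9717 = n18753 := ndS (p := 8082) (l := 8) rfl N8082 D18753
theorem N9718 : nd 9718 = n18754 := ndS (p := 8083) (l := 9) rfl N8083 D18754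
theorem N9719 : nd 9719 = n18755 := ndS (p := 8084) (l := 7) rfl N8084 D18755
theorem N9720 : nd 9720 = n18756 := ndS (p := 8084) (l := 8) rfl N8084 D18756
theorem N9721 : nd 9721 = n18757 := ndS (p := 8085) (l := 6) rfl N8085 D18757
theorem N9722 : nd 9722 = n18758 := ndS (p := 8085) (l := 8) rfl N8085 D18758
theorem N9723 : nd 9723 = n18759 := ndS (p := 8086) (l := 9) rfl N8086 D18759
theorem N9724 : nd 9724 = n18760 := ndS (p := 8087) (l := 8) rfl N8087 D18760
theorem N9725 : nd 9725 = n18761 := ndS (p := 8088) (l := 9) rfl N8088 D18761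
theorem N9726 : nd 9726 = n18765 := ndS (p := 8090) (l := 7) rfl N8090 D18765
theorem N9727 : nd 9727 = n18767 := ndS (p := 8092) (l := 6) rfl N8092 D18767
theorem N9728 : nd 9728 = n18770 := ndS (p := 8093) (l := 8) rfl N8093 D18770
theorem N9729 : nd 9729 = n18771 := ndS (p := 8094) (l := 9) rfl N8094 D18771
theorem N9730 : nd 9730 = n18772 := ndS (p := 8096) (l := 5) rfl N8096 D18772
theorem N9731 : nd 9731 = n18773 := ndS (p := 8096) (l := 9) rfl N8096 D18773
theorem N9732 : nd 9732 = n18775 := ndS (p := 8098) (l := 4) rfl N8098 D18775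
theorem N9733 : nd 9733 = n18776 := ndS (p := 8098) (l := 6) rfl N8098 D18776
theorem N9734 : nd 9734 = n18777 := ndS (p := 8099) (l := 3) rfl N8099 D18777
theorem N9735 : nd 9735 = n18778 := ndS (p := 8099) (l := 6) rfl N8099 D18778
theorem N9736 : nd 9736 = n18779 := ndS (p := 8100) (l := 7) rfl N8100 D18779
theorem N9737 : nd 9737 = n18781 := ndS (p := 8101) (l := 6) rfl N8101 D18781
theorem N9738 : nd 9738 = n18782 := ndS (p := 8102) (l := 5) rfl N8102 D18782
theorem N9739 : nd 9739 = n18783 := ndS (p := 8102) (l := 7) rfl N8102 D18783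
theorem N9740 : nd 9740 = n18784 := ndS (p := 8104) (l := 4) rfl N8104 D18784
theorem N9741 : nd 9741 = n18785 := ndS (p := 8104) (l := 6) rfl N8104 D18785
theorem N9742 : nd 9742 = n18786 := ndS (p := 8105) (l := 3) rfl N8105 D18786
theorem N9743 : nd 9743 = n18787 := ndS (p := 8105) (l := 6) rfl N8105 D18787
theorem N9744 : nd 9744 = n18788 := ndS (p := 8106) (l := 7) rfl N8106 D18788
theorem N9745 : nd 9745 = n18789 := ndS (p := 8107) (l := 2) rfl N8107 D18789
theorem N9746 : nd 9746 = n18790 := ndS (p := 8107) (l := 6) rfl N8107 D18790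
theorem N9747 : nd 9747 = n18791 := ndS (p := 8108) (l := 5) rfl N8108 D18791
theorem N9748 : nd 9748 = n18792 := ndS (p := 8108) (l := 7) rfl N8108 D18792
theorem N9749 : nd 9749 = n18793 := ndS (p := 8110) (l := 6) rfl N8110 D18793
theorem N9750 : nd 9750 = n18794 := ndS (p := 8111) (l := 5) rfl N8111 D18794
theorem N9751 : nd 9751 = n18795 := ndS (p := 8111) (l := 7) rfl N8111 D18795
theorem N9752 : nd 9752 = n18796 := ndS (p := 8112) (l := 7) rfl N8112 D18796
theorem N9753 : nd 9753 = n18797 := ndS (p := 8112) (l := 8) rfl N8112 D18797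
theorem N9754 : nd 9754 = n18798 := ndS (p := 8114) (l := 4) rfl N8114 D18798
theorem N9755 : nd 9755 = n18799 := ndS (p := 8114) (l := 6) rfl N8114 D18799
theorem N9756 : nd 9756 = n18800 := ndS (p := 8115) (l := 4) rfl N8115 D18800
theorem N9757 : nd 9757 = n18801 := ndS (p := 8115) (l := 6) rfl N8115 D18801
theorem N9758 : nd 9758 = n18802 := ndS (p := 8116) (l := 4) rfl N8116 D18802
theorem N9759 : nd 9759 = n18803 := ndS (p := 8116) (l := 6) rfl N8116 D18803
theorem N9760 : nd 9760 = n18804 := ndS (p := 8117) (l := 3) rfl N8117 D18804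
theorem N9761 : nd 9761 = n18805 := ndS (p := 8117) (l := 6) rfl N8117 D18805
theorem N9762 : nd 9762 = n18806 := ndS (p := 8118) (l := 7) rfl N8118 D18806
theorem N9763 : nd 9763 = n18807 := ndS (p := 8119) (l := 4) rfl N8119 D18807
theorem N9764 : nd 9764 = n18808 := ndS (p := 8119) (l := 6) rfl N8119 D18808
theorem N9765 : nd 9765 = n18809 := ndS (p := 8120) (l := 4) rfl N8120 D18809
theorem N9766 : nd 9766 = n18810 := ndS (p := 8120) (l := 6) rfl N8120 D18810
theorem N9767 : nd 9767 = n18811 := ndS (p := 8121) (l := 3) rfl N8121 D18811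
theorem N9768 : nd 9768 = n18812 := ndS (p := 8121) (l := 6) rfl N8121 D18812
theorem N9769 : nd 9769 = n18813 := ndS (p := 8122) (l := 7) rfl N8122 D18813
theorem N9770 : nd 9770 = n18814 := ndS (p := 8123) (l := 3) rfl N8123 D18814
theorem N9771 : nd 9771 = n18815 := ndS (p := 8123) (l := 6) rfl N8123 D18815
theorem N9772 : nd 9772 = n18816 := ndS (p := 8124) (l := 7) rfl N8124 D18816
theorem N9773 : nd 9773 = n18817 := ndS (p := 8125) (l := 2) rfl N8125 D18817
theorem N9774 : nd 9774 = n18818 := ndS (p := 8125) (l := 6) rfl N8125 D18818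
theorem N9775 : nd 9775 = n18819 := ndS (p := 8126) (l := 5) rfl N8126 D18819
theorem N9776 : nd 9776 = n18820 := ndS (p := 8126) (l := 7) rfl N8126 D18820
theorem N9777 : nd 9777 = n18821 := ndS (p := 8128) (l := 2) rfl N8128 D18821
theorem N9778 : nd 9778 = n18822 := ndS (p := 8128) (l := 6) rfl N8128 D18822
theorem N9779 : nd 9779 = n18823 := ndS (p := 8129) (l := 5) rfl N8129 D18823
theorem N9780 : nd 9780 = n18824 := ndS (p := 8129) (l := 7) rfl N8129 D18824
theorem N9781 : nd 9781 = n18825 := ndS (p := 8131) (l := 1) rfl N8131 D18825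
theorem N9782 : nd 9782 = n18826 := ndS (p := 8131) (l := 6) rfl N8131 D18826
theorem N9783 : nd 9783 = n18827 := ndS (p := 8132) (l := 5) rfl N8132 D18827
theorem N9784 : nd 9784 = n18828 := ndS (p := 8132) (l := 7) rfl N8132 D18828
theorem N9785 : nd 9785 = n18829 := ndS (p := 8133) (l := 7) rfl N8133 D18829
theorem N9786 : nd 9786 = n18830 := ndS (p := 8133) (l := 8) rfl N8133 D18830
theorem N9787 : nd 9787 = n18831 := ndS (p := 8135) (l := 4) rfl N8135 D18831
theorem N9788 : nd 9788 = n18832 := ndS (p := 8135) (l := 7) rfl N8135 D18832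
theorem N9789 : nd 9789 = n18833 := ndS (p := 8135) (l := 8) rfl N8135 D18833
theorem N9790 : nd 9790 = n18834 := ndS (p := 8137) (l := 6) rfl N8137 D18834
theorem N9791 : nd 9791 = n18835 := ndS (p := 8137) (l := 8) rfl N8137 D18835
theorem N9792 : nd 9792 = n18836 := ndS (p := 8138) (l := 9) rfl N8138 D18836
theorem N9793 : nd 9793 = n18837 := ndS (p := 8139) (l := 3) rfl N8139 D18837
theorem N9794 : nd 9794 = n18838 := ndS (p := 8139) (l := 6) rfl N8139 D18838
theorem N9795 : nd 9795 = n18839 := ndS (p := 8140) (l := 7) rfl N8140 D18839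
theorem N9796 : nd 9796 = n18840 := ndS (p := 8141) (l := 3) rfl N8141 D18840
theorem N9797 : nd 9797 = n18841 := ndS (p := 8141) (l := 6) rfl N8141 D18841
theorem N9798 : nd 9798 = n18842 := ndS (p := 8142) (l := 7) rfl N8142 D18842
theorem N9799 : nd 9799 = n18843 := ndS (p := 8143) (l := 2) rfl N8143 D18843
theorem N9800 : nd 9800 = n18844 := ndS (p := 8143) (l := 6) rfl N8143 D18844
theorem N9801 : nd 9801 = n18845 := ndS (p := 8144) (l := 5) rfl N8144 D18845
theorem N9802 : nd 9802 = n18846 := ndS (p := 8144) (l := 7) rfl N8144 D18846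
theorem N9803 : nd 9803 = n18847 := ndS (p := 8146) (l := 3) rfl N8146 D18847
theorem N9804 : nd 9804 = n18848 := ndS (p := 8146) (l := 6) rfl N8146 D18848
theorem N9805 : nd 9805 = n18849 := ndS (p := 8147) (l := 7) rfl N8147 D18849
theorem N9806 : nd 9806 = n18850 := ndS (p := 8148) (l := 3) rfl N8148 D18850
theorem N9807 : nd 9807 = n18851 := ndS (p := 8148) (l := 6) rfl N8148 D18851
theorem N9808 : nd 9808 = n18852 := ndS (p := 8149) (l := 7) rfl N8149 D18852
theorem N9809 : nd 9809 = n18853 := ndS (p := 8150) (l := 2) rfl N8150 D18853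
theorem N9810 : nd 9810 = n18854 := ndS (p := 8150) (l := 6) rfl N8150 D18854
theorem N9811 : nd 9811 = n18855 := ndS (p := 8151) (l := 5) rfl N8151 D18855
theorem N9812 : nd 9812 = n18856 := ndS (p := 8151) (l := 7) rfl N8151 D18856
theorem N9813 : nd 9813 = n18857 := ndS (p := 8153) (l := 2) rfl N8153 D18857
theorem N9814 : nd 9814 = n18858 := ndS (p := 8153) (l := 6) rfl N8153 D18858
theorem N9815 : nd 9815 = n18859 := ndS (p := 8154) (l := 5) rfl N8154 D18859
theorem N9816 : nd 9816 = n18860 := ndS (p := 8154) (l := 7) rfl N8154 D18860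
theorem N9817 : nd 9817 = n18861 := ndS (p := 8156) (l := 1) rfl N8156 D18861
theorem N9818 : nd 9818 = n18862 := ndS (p := 8156) (l := 6) rfl N8156 D18862
theorem N9819 : nd 9819 = n18863 := ndS (p := 8157) (l := 5) rfl N8157 D18863
theorem N9820 : nd 9820 = n18864 := ndS (p := 8157) (l := 7) rfl N8157 D18864
theorem N9821 : nd 9821 = n18865 := ndS (p := 8158) (l := 7) rfl N8158 D18865
theorem N9822 : nd 9822 = n18866 := ndS (p := 8158) (l := 8) rfl N8158 D18866
theorem N9823 : nd 9823 = n18867 := ndS (p := 8160) (l := 1) rfl N8160 D18867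
theorem N9824 : nd 9824 = n18868 := ndS (p := 8160) (l := 6) rfl N8160 D18868
theorem N9825 : nd 9825 = n18869 := ndS (p := 8161) (l := 5) rfl N8161 D18869
theorem N9826 : nd 9826 = n18870 := ndS (p := 8161) (l := 7) rfl N8161 D18870
theorem N9827 : nd 9827 = n18871 := ndS (p := 8162) (l := 7) rfl N8162 D18871
theorem N9828 : nd 9828 = n18872 := ndS (p := 8162) (l := 8) rfl N8162 D18872
theorem N9829 : nd 9829 = n18873 := ndS (p := 8164) (l := 0) rfl N8164 D18873
theorem N9830 : nd 9830 = n18874 := ndS (p := 8164) (l := 6) rfl N8164 D18874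
theorem N9831 : nd 9831 = n18875 := ndS (p := 8165) (l := 5) rfl N8165 D18875
theorem N9832 : nd 9832 = n18876 := ndS (p := 8165) (l := 7) rfl N8165 D18876
theorem N9833 : nd 9833 = n18877 := ndS (p := 8166) (l := 7) rfl N8166 D18877
theorem N9834 : nd 9834 = n18878 := ndS (p := 8166) (l := 8) rfl N8166 D18878
theorem N9835 : nd 9835 = n18879 := ndS (p := 8168) (l := 6) rfl N8168 D18879
theorem N9836 : nd 9836 = n18880 := ndS (p := 8168) (l := 8) rfl N8168 D18880
theorem N9837 : nd 9837 = n18881 := ndS (p := 8169) (l := 9) rfl N8169 D18881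
theorem N9838 : nd 9838 = n18882 := ndS (p := 8170) (l := 8) rfl N8170 D18882
theorem N9839 : nd 9839 = n18883 := ndS (p := 8171) (l := 9) rfl N8171 D18883
theorem N9840 : nd 9840 = n18884 := ndS (p := 8173) (l := 2) rfl N8173 D18884
theorem N9841 : nd 9841 = n18885 := ndS (p := 8173) (l := 6) rfl N8173 D18885
theorem N9842 : nd 9842 = n18886 := ndS (p := 8174) (l := 5) rfl N8174 D18886
theorem N9843 : nd 9843 = n18887 := ndS (p := 8174) (l := 7) rfl N8174 D18887
theorem N9844 : nd 9844 = n18888 := ndS (p := 8176) (l := 2) rfl N8176 D18888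
theorem N9845 : nd 9845 = n18889 := ndS (p := 8176) (l := 6) rfl N8176 D18889
theorem N9846 : nd 9846 = n18890 := ndS (p := 8177) (l := 5) rfl N8177 D18890
theorem N9847 : nd 9847 = n18891 := ndS (p := 8177) (l := 7) rfl N8177 D18891
theorem N9848 : nd 9848 = n18892 := ndS (p := 8179) (l := 1) rfl N8179 D18892
theorem N9849 : nd 9849 = n18893 := ndS (p := 8179) (l := 6) rfl N8179 D18893
theorem N9850 : nd 9850 = n18894 := ndS (p := 8180) (l := 5) rfl N8180 D18894
theorem N9851 : nd 9851 = n18895 := ndS (p := 8180) (l := 7) rfl N8180 D18895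
theorem N9852 : nd 9852 = n18896 := ndS (p := 8181) (l := 7) rfl N8181 D18896
theorem N9853 : nd 9853 = n18897 := ndS (p := 8181) (l := 8) rfl N8181 D18897
theorem N9854 : nd 9854 = n18898 := ndS (p := 8183) (l := 1) rfl N8183 D18898
theorem N9855 : nd 9855 = n18899 := ndS (p := 8183) (l := 6) rfl N8183 D18899
theorem N9856 : nd 9856 = n18900 := ndS (p := 8184) (l := 5) rfl N8184 D18900
theorem N9857 : nd 9857 = n18901 := ndS (p := 8184) (l := 7) rfl N8184 D18901
theorem N9858 : nd 9858 = n18902 := ndS (p := 8185) (l := 7) rfl N8185 D18902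
theorem N9859 : nd 9859 = n18903 := ndS (p := 8185) (l := 8) rfl N8185 D18903
theorem N9860 : nd 9860 = n18904 := ndS (p := 8187) (l := 0) rfl N8187 D18904
theorem N9861 : nd 9861 = n18905 := ndS (p := 8187) (l := 6) rfl N8187 D18905
theorem N9862 : nd 9862 = n18906 := ndS (p := 8188) (l := 5) rfl N8188 D18906
theorem N9863 : nd 9863 = n18907 := ndS (p := 8188) (l := 7) rfl N8188 D18907
theorem N9864 : nd 9864 = n18908 := ndS (p := 8189) (l := 4) rfl N8189 D18908
theorem N9865 : nd 9865 = n18909 := ndS (p := 8189) (l := 7) rfl N8189 D18909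
theorem N9866 : nd 9866 = n18910 := ndS (p := 8191) (l := 6) rfl N8191 D18910
theorem N9867 : nd 9867 = n18911 := ndS (p := 8192) (l := 0) rfl N8192 D18911
theorem N9868 : nd 9868 = n18914 := ndS (p := 8193) (l := 7) rfl N8193 D18914
theorem N9869 : nd 9869 = n18916 := ndS (p := 8194) (l := 7) rfl N8194 D18916
theorem N9870 : nd 9870 = n18918 := ndS (p := 8196) (l := 8) rfl N8196 D18918
theorem N9871 : nd 9871 = n18920 := ndS (p := 8198) (l := 6) rfl N8198 D18920
theorem N9872 : nd 9872 = n18921 := ndS (p := 8199) (l := 7) rfl N8199 D18921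
theorem N9873 : nd 9873 = n18926 := ndS (p := 8202) (l := 4) rfl N8202 D18926
theorem N9874 : nd 9874 = n18927 := ndS (p := 8202) (l := 6) rfl N8202 D18927
theorem N9875 : nd 9875 = n18928 := ndS (p := 8203) (l := 4) rfl N8203 D18928
theorem N9876 : nd 9876 = n18929 := ndS (p := 8203) (l := 6) rfl N8203 D18929
theorem N9877 : nd 9877 = n18930 := ndS (p := 8204) (l := 4) rfl N8204 D18930
theorem N9878 : nd 9878 = n18931 := ndS (p := 8204) (l := 6) rfl N8204 D18931
theorem N9879 : nd 9879 = n18932 := ndS (p := 8205) (l := 3) rfl N8205 D18932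
theorem N9880 : nd 9880 = n18933 := ndS (p := 8205) (l := 6) rfl N8205 D18933
theorem N9881 : nd 9881 = n18934 := ndS (p := 8206) (l := 7) rfl N8206 D18934
theorem N9882 : nd 9882 = n18935 := ndS (p := 8207) (l := 3) rfl N8207 D18935
theorem N9883 : nd 9883 = n18936 := ndS (p := 8207) (l := 6) rfl N8207 D18936
theorem N9884 : nd 9884 = n18937 := ndS (p := 8208) (l := 7) rfl N8208 D18937
theorem N9885 : nd 9885 = n18938 := ndS (p := 8209) (l := 2) rfl N8209 D18938
theorem N9886 : nd 9886 = n18939 := ndS (p := 8209) (l := 6) rfl N8209 D18939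
theorem N9887 : nd 9887 = n18940 := ndS (p := 8210) (l := 5) rfl N8210 D18940
theorem N9888 : nd 9888 = n18941 := ndS (p := 8210) (l := 7) rfl N8210 D18941
theorem N9889 : nd 9889 = n18945 := ndS (p := 8212) (l := 7) rfl N8212 D18945
theorem N9890 : nd 9890 = n18946 := ndS (p := 8213) (l := 7) rfl N8213 D18946
theorem N9891 : nd 9891 = n18947 := ndS (p := 8213) (l := 8) rfl N8213 D18947
theorem N9892 : nd 9892 = n18948 := ndS (p := 8215) (l := 4) rfl N8215 D18948
theorem N9893 : nd 9893 = n18949 := ndS (p := 8215) (l := 6) rfl N8215 D18949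
theorem N9894 : nd 9894 = n18950 := ndS (p := 8216) (l := 3) rfl N8216 D18950
theorem N9895 : nd 9895 = n18951 := ndS (p := 8216) (l := 6) rfl N8216 D18951
theorem N9896 : nd 9896 = n18952 := ndS (p := 8217) (l := 7) rfl N8217 D18952
theorem N9897 : nd 9897 = n18953 := ndS (p := 8218) (l := 4) rfl N8218 D18953
theorem N9898 : nd 9898 = n18954 := ndS (p := 8218) (l := 6) rfl N8218 D18954
theorem N9899 : nd 9899 = n18955 := ndS (p := 8219) (l := 3) rfl N8219 D18955
theorem N9900 : nd 9900 = n18956 := ndS (p := 8219) (l := 6) rfl N8219 D18956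
theorem N9901 : nd 9901 = n18957 := ndS (p := 8220) (l := 7) rfl N8220 D18957
theorem N9902 : nd 9902 = n18958 := ndS (p := 8221) (l := 3) rfl N8221 D18958
theorem N9903 : nd 9903 = n18959 := ndS (p := 8221) (l := 6) rfl N8221 D18959
theorem N9904 : nd 9904 = n18960 := ndS (p := 8222) (l := 7) rfl N8222 D18960
theorem N9905 : nd 9905 = n18961 := ndS (p := 8223) (l := 2) rfl N8223 D18961
theorem N9906 : nd 9906 = n18962 := ndS (p := 8223) (l := 6) rfl N8223 D18962
theorem N9907 : nd 9907 = n18963 := ndS (p := 8224) (l := 5) rfl N8224 D18963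
theorem N9908 : nd 9908 = n18964 := ndS (p := 8224) (l := 7) rfl N8224 D18964
theorem N9909 : nd 9909 = n18965 := ndS (p := 8226) (l := 2) rfl N8226 D18965
theorem N9910 : nd 9910 = n18966 := ndS (p := 8226) (l := 6) rfl N8226 D18966
theorem N9911 : nd 9911 = n18967 := ndS (p := 8227) (l := 5) rfl N8227 D18967
theorem N9912 : nd 9912 = n18968 := ndS (p := 8227) (l := 7) rfl N8227 D18968
theorem N9913 : nd 9913 = n18969 := ndS (p := 8229) (l := 1) rfl N8229 D18969
theorem N9914 : nd 9914 = n18970 := ndS (p := 8229) (l := 6) rfl N8229 D18970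
theorem N9915 : nd 9915 = n18971 := ndS (p := 8230) (l := 5) rfl N8230 D18971
theorem N9916 : nd 9916 = n18972 := ndS (p := 8230) (l := 7) rfl N8230 D18972
theorem N9917 : nd 9917 = n18973 := ndS (p := 8231) (l := 7) rfl N8231 D18973
theorem N9918 : nd 9918 = n18974 := ndS (p := 8231) (l := 8) rfl N8231 D18974
theorem N9919 : nd 9919 = n18976 := ndS (p := 8233) (l := 7) rfl N8233 D18976
theorem N9920 : nd 9920 = n18977 := ndS (p := 8234) (l := 4) rfl N8234 D18977
theorem N9921 : nd 9921 = n18978 := ndS (p := 8234) (l := 7) rfl N8234 D18978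
theorem N9922 : nd 9922 = n18979 := ndS (p := 8234) (l := 8) rfl N8234 D18979
theorem N9923 : nd 9923 = n18980 := ndS (p := 8236) (l := 6) rfl N8236 D18980
theorem N9924 : nd 9924 = n18981 := ndS (p := 8236) (l := 8) rfl N8236 D18981
theorem N9925 : nd 9925 = n18982 := ndS (p := 8237) (l := 9) rfl N8237 D18982
theorem N9926 : nd 9926 = n18983 := ndS (p := 8238) (l := 3) rfl N8238 D18983
theorem N9927 : nd 9927 = n18984 := ndS (p := 8238) (l := 6) rfl N8238 D18984
theorem N9928 : nd 9928 = n18985 := ndS (p := 8239) (l := 7) rfl N8239 D18985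
theorem N9929 : nd 9929 = n18986 := ndS (p := 8240) (l := 3) rfl N8240 D18986
theorem N9930 : nd 9930 = n18987 := ndS (p := 8240) (l := 6) rfl N8240 D18987
theorem N9931 : nd 9931 = n18988 := ndS (p := 8241) (l := 7) rfl N8241 D18988
theorem N9932 : nd 9932 = n18989 := ndS (p := 8242) (l := 3) rfl N8242 D18989
theorem N9933 : nd 9933 = n18990 := ndS (p := 8242) (l := 6) rfl N8242 D18990
theorem N9934 : nd 9934 = n18991 := ndS (p := 8243) (l := 7) rfl N8243 D18991
theorem N9935 : nd 9935 = n18992 := ndS (p := 8244) (l := 2) rfl N8244 D18992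
theorem N9936 : nd 9936 = n18993 := ndS (p := 8244) (l := 6) rfl N8244 D18993
theorem N9937 : nd 9937 = n18994 := ndS (p := 8245) (l := 5) rfl N8245 D18994
theorem N9938 : nd 9938 = n18995 := ndS (p := 8245) (l := 7) rfl N8245 D18995
theorem N9939 : nd 9939 = n18996 := ndS (p := 8247) (l := 3) rfl N8247 D18996
theorem N9940 : nd 9940 = n18997 := ndS (p := 8247) (l := 6) rfl N8247 D18997
theorem N9941 : nd 9941 = n18998 := ndS (p := 8248) (l := 7) rfl N8248 D18998
theorem N9942 : nd 9942 = n18999 := ndS (p := 8249) (l := 2) rfl N8249 D18999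
theorem N9943 : nd 9943 = n19000 := ndS (p := 8249) (l := 6) rfl N8249 D19000
theorem N9944 : nd 9944 = n19001 := ndS (p := 8250) (l := 5) rfl N8250 D19001
theorem N9945 : nd 9945 = n19002 := ndS (p := 8250) (l := 7) rfl N8250 D19002
theorem N9946 : nd 9946 = n19003 := ndS (p := 8252) (l := 2) rfl N8252 D19003
theorem N9947 : nd 9947 = n19004 := ndS (p := 8252) (l := 6) rfl N8252 D19004
theorem N9948 : nd 9948 = n19005 := ndS (p := 8253) (l := 5) rfl N8253 D19005
theorem N9949 : nd 9949 = n19006 := ndS (p := 8253) (l := 7) rfl N8253 D19006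
theorem N9950 : nd 9950 = n19007 := ndS (p := 8255) (l := 1) rfl N8255 D19007
theorem N9951 : nd 9951 = n19008 := ndS (p := 8255) (l := 6) rfl N8255 D19008
theorem N9952 : nd 9952 = n19009 := ndS (p := 8256) (l := 5) rfl N8256 D19009
theorem N9953 : nd 9953 = n19010 := ndS (p := 8256) (l := 7) rfl N8256 D19010
theorem N9954 : nd 9954 = n19011 := ndS (p := 8257) (l := 7) rfl N8257 D19011
theorem N9955 : nd 9955 = n19012 := ndS (p := 8257) (l := 8) rfl N8257 D19012
theorem N9956 : nd 9956 = n19013 := ndS (p := 8259) (l := 1) rfl N8259 D19013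
theorem N9957 : nd 9957 = n19014 := ndS (p := 8259) (l := 6) rfl N8259 D19014
theorem N9958 : nd 9958 = n19015 := ndS (p := 8260) (l := 5) rfl N8260 D19015
theorem N9959 : nd 9959 = n19016 := ndS (p := 8260) (l := 7) rfl N8260 D19016
theorem N9960 : nd 9960 = n19017 := ndS (p := 8261) (l := 7) rfl N8261 D19017
theorem N9961 : nd 9961 = n19018 := ndS (p := 8261) (l := 8) rfl N8261 D19018
theorem N9962 : nd 9962 = n19019 := ndS (p := 8263) (l := 0) rfl N8263 D19019
theorem N9963 : nd 9963 = n19020 := ndS (p := 8263) (l := 6) rfl N8263 D19020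
theorem N9964 : nd 9964 = n19021 := ndS (p := 8264) (l := 5) rfl N8264 D19021
theorem N9965 : nd 9965 = n19022 := ndS (p := 8264) (l := 7) rfl N8264 D19022
theorem N9966 : nd 9966 = n19023 := ndS (p := 8265) (l := 4) rfl N8265 D19023
theorem N9967 : nd 9967 = n19024 := ndS (p := 8265) (l := 7) rfl N8265 D19024
theorem N9968 : nd 9968 = n19025 := ndS (p := 8265) (l := 8) rfl N8265 D19025
theorem N9969 : nd 9969 = n19026 := ndS (p := 8267) (l := 6) rfl N8267 D19026
theorem N9970 : nd 9970 = n19027 := ndS (p := 8267) (l := 8) rfl N8267 D19027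
theorem N9971 : nd 9971 = n19028 := ndS (p := 8268) (l := 9) rfl N8268 D19028
theorem N9972 : nd 9972 = n19029 := ndS (p := 8269) (l := 7) rfl N8269 D19029
theorem N9973 : nd 9973 = n19030 := ndS (p := 8269) (l := 8) rfl N8269 D19030
theorem N9974 : nd 9974 = n19031 := ndS (p := 8270) (l := 6) rfl N8270 D19031
theorem N9975 : nd 9975 = n19032 := ndS (p := 8270) (l := 8) rfl N8270 D19032
theorem N9976 : nd 9976 = n19033 := ndS (p := 8271) (l := 9) rfl N8271 D19033
theorem N9977 : nd 9977 = n19034 := ndS (p := 8272) (l := 8) rfl N8272 D19034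
theorem N9978 : nd 9978 = n19035 := ndS (p := 8273) (l := 9) rfl N8273 D19035
theorem N9979 : nd 9979 = n19036 := ndS (p := 8275) (l := 3) rfl N8275 D19036
theorem N9980 : nd 9980 = n19037 := ndS (p := 8275) (l := 6) rfl N8275 D19037
theorem N9981 : nd 9981 = n19038 := ndS (p := 8276) (l := 7) rfl N8276 D19038
theorem N9982 : nd 9982 = n19039 := ndS (p := 8277) (l := 2) rfl N8277 D19039
theorem N9983 : nd 9983 = n19040 := ndS (p := 8277) (l := 6) rfl N8277 D19040
theorem N9984 : nd 9984 = n19041 := ndS (p := 8278) (l := 5) rfl N8278 D19041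
theorem N9985 : nd 9985 = n19042 := ndS (p := 8278) (l := 7) rfl N8278 D19042
theorem N9986 : nd 9986 = n19043 := ndS (p := 8280) (l := 2) rfl N8280 D19043
theorem N9987 : nd 9987 = n19044 := ndS (p := 8280) (l := 6) rfl N8280 D19044
theorem N9988 : nd 9988 = n19045 := ndS (p := 8281) (l := 5) rfl N8281 D19045
theorem N9989 : nd 9989 = n19046 := ndS (p := 8281) (l := 7) rfl N8281 D19046
theorem N9990 : nd 9990 = n19047 := ndS (p := 8283) (l := 1) rfl N8283 D19047
theorem N9991 : nd 9991 = n19048 := ndS (p := 8283) (l := 6) rfl N8283 D19048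
theorem N9992 : nd 9992 = n19049 := ndS (p := 8284) (l := 5) rfl N8284 D19049
theorem N9993 : nd 9993 = n19050 := ndS (p := 8284) (l := 7) rfl N8284 D19050
theorem N9994 : nd 9994 = n19051 := ndS (p := 8285) (l := 7) rfl N8285 D19051
theorem N9995 : nd 9995 = n19052 := ndS (p := 8285) (l := 8) rfl N8285 D19052
theorem N9996 : nd 9996 = n19053 := ndS (p := 8287) (l := 2) rfl N8287 D19053
theorem N9997 : nd 9997 = n19054 := ndS (p := 8287) (l := 6) rfl N8287 D19054
theorem N9998 : nd 9998 = n19055 := ndS (p := 8288) (l := 5) rfl N8288 D19055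
theorem N9999 : nd 9999 = n19056 := ndS (p := 8288) (l := 7) rfl N8288 D19056
theorem N10000 : nd 10000 = n19057 := ndS (p := 8290) (l := 1) rfl N8290 D19057

end Cfsg.Agent.Helper17.SP6TC
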