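import Cfsg.Agent.Helper17.SP6TC.Fin1

set_option autoImplicit false
set_option linter.all false
set_option maxRecDepth 100000

noncomputable section

namespace Cfsg.Agent.Helper17.SP6TC

theorem N10001 : nd 10001 = n19058 := ndS (p := 8290) (l := 6) rfl N8290 D19058
theorem N10002 : nd 10002 = n19059 := ndS (p := 8291) (l := 5) rfl N8291 D19059
theorem N10003 : nd 10003 = n19060 := ndS (p := 8291) (l := 7) rfl N8291 D19060
theorem N10004 : nd 10004 = n19061 := ndS (p := 8292) (l := 7) rfl N8292 D19061
theorem N10005 : nd 10005 = n19062 := ndS (p := 8292) (l := 8) rfl N8292 D19062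
theorem N10006 : nd 10006 = n19064 := ndS (p := 8294) (l := 6) rfl N8294 D19064
theorem N10007 : nd 10007 = n19065 := ndS (p := 8295) (l := 5) rfl N8295 D19065
theorem N10008 : nd 10008 = n19066 := ndS (p := 8295) (l := 7) rfl N8295 D19066
theorem N10009 : nd 10009 = n19067 := ndS (p := 8296) (l := 7) rfl N8296 D19067
theorem N10010 : nd 10010 = n19068 := ndS (p := 8296) (l := 8) rfl N8296 D19068
theorem N10011 : nd 10011 = n19069 := ndS (p := 8298) (l := 0) rfl N8298 D19069
theorem N10012 : nd 10012 = n19070 := ndS (p := 8298) (l := 6) rfl N8298 D19070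
theorem N10013 : nd 10013 = n19071 := ndS (p := 8299) (l := 5) rfl N8299 D19071
theorem N10014 : nd 10014 = n19072 := ndS (p := 8299) (l := 7) rfl N8299 D19072
theorem N10015 : nd 10015 = n19073 := ndS (p := 8300) (l := 4) rfl N8300 D19073
theorem N10016 : nd 10016 = n19074 := ndS (p := 8300) (l := 7) rfl N8300 D19074
theorem N10017 : nd 10017 = n19075 := ndS (p := 8300) (l := 8) rfl N8300 D19075
theorem N10018 : nd 10018 = n19076 := ndS (p := 8302) (l := 6) rfl N8302 D19076
theorem N10019 : nd 10019 = n19077 := ndS (p := 8302) (l := 8) rfl N8302 D19077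
theorem N10020 : nd 10020 = n19078 := ndS (p := 8303) (l := 9) rfl N8303 D19078
theorem N10021 : nd 10021 = n19082 := ndS (p := 8305) (l := 7) rfl N8305 D19082
theorem N10022 : nd 10022 = n19086 := ndS (p := 8307) (l := 6) rfl N8307 D19086
theorem N10023 : nd 10023 = n19087 := ndS (p := 8307) (l := 8) rfl N8307 D19087
theorem N10024 : nd 10024 = n19088 := ndS (p := 8308) (l := 9) rfl N8308 D19088
theorem N10025 : nd 10025 = n19089 := ndS (p := 8309) (l := 6) rfl N8309 D19089
theorem N10026 : nd 10026 = n19090 := ndS (p := 8310) (l := 5) rfl N8310 D19090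
theorem N10027 : nd 10027 = n19091 := ndS (p := 8310) (l := 7) rfl N8310 D19091
theorem N10028 : nd 10028 = n19092 := ndS (p := 8311) (l := 7) rfl N8311 D19092
theorem N10029 : nd 10029 = n19093 := ndS (p := 8311) (l := 8) rfl N8311 D19093
theorem N10030 : nd 10030 = n19094 := ndS (p := 8313) (l := 6) rfl N8313 D19094
theorem N10031 : nd 10031 = n19095 := ndS (p := 8313) (l := 8) rfl N8313 D19095
theorem N10032 : nd 10032 = n19096 := ndS (p := 8314) (l := 9) rfl N8314 D19096
theorem N10033 : nd 10033 = n19097 := ndS (p := 8315) (l := 8) rfl N8315 D19097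
theorem N10034 : nd 10034 = n19098 := ndS (p := 8316) (l := 9) rfl N8316 D19098
theorem N10035 : nd 10035 = n19099 := ndS (p := 8318) (l := 5) rfl N8318 D19099
theorem N10036 : nd 10036 = n19100 := ndS (p := 8318) (l := 9) rfl N8318 D19100
theorem N10037 : nd 10037 = n19101 := ndS (p := 8320) (l := 1) rfl N8320 D19101
theorem N10038 : nd 10038 = n19102 := ndS (p := 8320) (l := 6) rfl N8320 D19102
theorem N10039 : nd 10039 = n19103 := ndS (p := 8321) (l := 5) rfl N8321 D19103
theorem N10040 : nd 10040 = n19104 := ndS (p := 8321) (l := 7) rfl N8321 D19104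
theorem N10041 : nd 10041 = n19105 := ndS (p := 8322) (l := 7) rfl N8322 D19105
theorem N10042 : nd 10042 = n19106 := ndS (p := 8322) (l := 8) rfl N8322 D19106
theorem N10043 : nd 10043 = n19109 := ndS (p := 8325) (l := 5) rfl N8325 D19109
theorem N10044 : nd 10044 = n19110 := ndS (p := 8325) (l := 7) rfl N8325 D19110
theorem N10045 : nd 10045 = n19111 := ndS (p := 8326) (l := 4) rfl N8326 D19111
theorem N10046 : nd 10046 = n19112 := ndS (p := 8326) (l := 7) rfl N8326 D19112
theorem N10047 : nd 10047 = n19114 := ndS (p := 8328) (l := 6) rfl N8328 D19114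
theorem N10048 : nd 10048 = n19115 := ndS (p := 8328) (l := 8) rfl N8328 D19115
theorem N10049 : nd 10049 = n19118 := ndS (p := 8330) (l := 5) rfl N8330 D19118
theorem N10050 : nd 10050 = n19119 := ndS (p := 8330) (l := 7) rfl N8330 D19119
theorem N10051 : nd 10051 = n19120 := ndS (p := 8331) (l := 4) rfl N8331 D19120
theorem N10052 : nd 10052 = n19121 := ndS (p := 8331) (l := 7) rfl N8331 D19121
theorem N10053 : nd 10053 = n19122 := ndS (p := 8331) (l := 8) rfl N8331 D19122
theorem N10054 : nd 10054 = n19123 := ndS (p := 8333) (l := 6) rfl N8333 D19123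
theorem N10055 : nd 10055 = n19124 := ndS (p := 8333) (l := 8) rfl N8333 D19124
theorem N10056 : nd 10056 = n19126 := ndS (p := 8336) (l := 5) rfl N8336 D19126
theorem N10057 : nd 10057 = n19127 := ndS (p := 8336) (l := 7) rfl N8336 D19127
theorem N10058 : nd 10058 = n19128 := ndS (p := 8337) (l := 4) rfl N8337 D19128
theorem N10059 : nd 10059 = n19129 := ndS (p := 8337) (l := 7) rfl N8337 D19129
theorem N10060 : nd 10060 = n19130 := ndS (p := 8339) (l := 7) rfl N8339 D19130
theorem N10061 : nd 10061 = n19131 := ndS (p := 8340) (l := 6) rfl N8340 D19131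
theorem N10062 : nd 10062 = n19148 := ndS (p := 8346) (l := 3) rfl N8346 D19148
theorem N10063 : nd 10063 = n19149 := ndS (p := 8346) (l := 6) rfl N8346 D19149
theorem N10064 : nd 10064 = n19150 := ndS (p := 8347) (l := 7) rfl N8347 D19150
theorem N10065 : nd 10065 = n19151 := ndS (p := 8348) (l := 2) rfl N8348 D19151
theorem N10066 : nd 10066 = n19152 := ndS (p := 8348) (l := 6) rfl N8348 D19152
theorem N10067 : nd 10067 = n19153 := ndS (p := 8349) (l := 5) rfl N8349 D19153
theorem N10068 : nd 10068 = n19154 := ndS (p := 8349) (l := 7) rfl N8349 D19154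
theorem N10069 : nd 10069 = n19155 := ndS (p := 8351) (l := 2) rfl N8351 D19155
theorem N10070 : nd 10070 = n19156 := ndS (p := 8351) (l := 6) rfl N8351 D19156
theorem N10071 : nd 10071 = n19157 := ndS (p := 8352) (l := 5) rfl N8352 D19157
theorem N10072 : nd 10072 = n19158 := ndS (p := 8352) (l := 7) rfl N8352 D19158
theorem N10073 : nd 10073 = n19159 := ndS (p := 8354) (l := 1) rfl N8354 D19159
theorem N10074 : nd 10074 = n19160 := ndS (p := 8354) (l := 6) rfl N8354 D19160
theorem N10075 : nd 10075 = n19161 := ndS (p := 8355) (l := 5) rfl N8355 D19161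
theorem N10076 : nd 10076 = n19162 := ndS (p := 8355) (l := 7) rfl N8355 D19162
theorem N10077 : nd 10077 = n19163 := ndS (p := 8356) (l := 7) rfl N8356 D19163
theorem N10078 : nd 10078 = n19174 := ndS (p := 8360) (l := 2) rfl N8360 D19174
theorem N10079 : nd 10079 = n19175 := ndS (p := 8360) (l := 6) rfl N8360 D19175
theorem N10080 : nd 10080 = n19176 := ndS (p := 8361) (l := 5) rfl N8361 D19176
theorem N10081 : nd 10081 = n19177 := ndS (p := 8361) (l := 7) rfl N8361 D19177
theorem N10082 : nd 10082 = n19179 := ndS (p := 8363) (l := 6) rfl N8363 D19179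
theorem N10083 : nd 10083 = n19180 := ndS (p := 8364) (l := 5) rfl N8364 D19180
theorem N10084 : nd 10084 = n19181 := ndS (p := 8364) (l := 7) rfl N8364 D19181
theorem N10085 : nd 10085 = n19182 := ndS (p := 8365) (l := 7) rfl N8365 D19182
theorem N10086 : nd 10086 = n19183 := ndS (p := 8365) (l := 8) rfl N8365 D19183
theorem N10087 : nd 10087 = n19184 := ndS (p := 8367) (l := 1) rfl N8367 D19184
theorem N10088 : nd 10088 = n19185 := ndS (p := 8367) (l := 6) rfl N8367 D19185
theorem N10089 : nd 10089 = n19186 := ndS (p := 8368) (l := 5) rfl N8368 D19186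
theorem N10090 : nd 10090 = n19187 := ndS (p := 8368) (l := 7) rfl N8368 D19187
theorem N10091 : nd 10091 = n19188 := ndS (p := 8369) (l := 7) rfl N8369 D19188
theorem N10092 : nd 10092 = n19189 := ndS (p := 8369) (l := 8) rfl N8369 D19189
theorem N10093 : nd 10093 = n19190 := ndS (p := 8371) (l := 0) rfl N8371 D19190
theorem N10094 : nd 10094 = n19191 := ndS (p := 8371) (l := 6) rfl N8371 D19191
theorem N10095 : nd 10095 = n19192 := ndS (p := 8372) (l := 5) rfl N8372 D19192
theorem N10096 : nd 10096 = n19193 := ndS (p := 8372) (l := 7) rfl N8372 D19193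
theorem N10097 : nd 10097 = n19194 := ndS (p := 8373) (l := 4) rfl N8373 D19194
theorem N10098 : nd 10098 = n19195 := ndS (p := 8373) (l := 7) rfl N8373 D19195
theorem N10099 : nd 10099 = n19196 := ndS (p := 8373) (l := 8) rfl N8373 D19196
theorem N10100 : nd 10100 = n19197 := ndS (p := 8375) (l := 6) rfl N8375 D19197
theorem N10101 : nd 10101 = n19198 := ndS (p := 8375) (l := 8) rfl N8375 D19198
theorem N10102 : nd 10102 = n19199 := ndS (p := 8376) (l := 9) rfl N8376 D19199
theorem N10103 : nd 10103 = n19203 := ndS (p := 8378) (l := 7) rfl N8378 D19203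
theorem N10104 : nd 10104 = n19211 := ndS (p := 8383) (l := 6) rfl N8383 D19211
theorem N10105 : nd 10105 = n19212 := ndS (p := 8384) (l := 5) rfl N8384 D19212
theorem N10106 : nd 10106 = n19213 := ndS (p := 8384) (l := 7) rfl N8384 D19213
theorem N10107 : nd 10107 = n19214 := ndS (p := 8385) (l := 7) rfl N8385 D19214
theorem N10108 : nd 10108 = n19215 := ndS (p := 8385) (l := 8) rfl N8385 D19215
theorem N10109 : nd 10109 = n19218 := ndS (p := 8387) (l := 5) rfl N8387 D19218
theorem N10110 : nd 10110 = n19219 := ndS (p := 8387) (l := 7) rfl N8387 D19219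
theorem N10111 : nd 10111 = n19220 := ndS (p := 8388) (l := 4) rfl N8388 D19220
theorem N10112 : nd 10112 = n19221 := ndS (p := 8388) (l := 7) rfl N8388 D19221
theorem N10113 : nd 10113 = n19222 := ndS (p := 8388) (l := 8) rfl N8388 D19222
theorem N10114 : nd 10114 = n19223 := ndS (p := 8390) (l := 6) rfl N8390 D19223
theorem N10115 : nd 10115 = n19224 := ndS (p := 8390) (l := 8) rfl N8390 D19224
theorem N10116 : nd 10116 = n19225 := ndS (p := 8391) (l := 9) rfl N8391 D19225
theorem N10117 : nd 10117 = n19229 := ndS (p := 8393) (l := 7) rfl N8393 D19229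
theorem N10118 : nd 10118 = n19230 := ndS (p := 8394) (l := 4) rfl N8394 D19230
theorem N10119 : nd 10119 = n19231 := ndS (p := 8394) (l := 7) rfl N8394 D19231
theorem N10120 : nd 10120 = n19232 := ndS (p := 8394) (l := 8) rfl N8394 D19232
theorem N10121 : nd 10121 = n19233 := ndS (p := 8396) (l := 6) rfl N8396 D19233
theorem N10122 : nd 10122 = n19234 := ndS (p := 8396) (l := 8) rfl N8396 D19234
theorem N10123 : nd 10123 = n19235 := ndS (p := 8397) (l := 9) rfl N8397 D19235
theorem N10124 : nd 10124 = n19236 := ndS (p := 8398) (l := 6) rfl N8398 D19236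
theorem N10125 : nd 10125 = n19237 := ndS (p := 8399) (l := 5) rfl N8399 D19237
theorem N10126 : nd 10126 = n19238 := ndS (p := 8399) (l := 7) rfl N8399 D19238
theorem N10127 : nd 10127 = n19239 := ndS (p := 8400) (l := 4) rfl N8400 D19239
theorem N10128 : nd 10128 = n19240 := ndS (p := 8400) (l := 7) rfl N8400 D19240
theorem N10129 : nd 10129 = n19241 := ndS (p := 8400) (l := 8) rfl N8400 D19241
theorem N10130 : nd 10130 = n19242 := ndS (p := 8402) (l := 7) rfl N8402 D19242
theorem N10131 : nd 10131 = n19244 := ndS (p := 8403) (l := 6) rfl N8403 D19244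
theorem N10132 : nd 10132 = n19245 := ndS (p := 8403) (l := 8) rfl N8403 D19245
theorem N10133 : nd 10133 = n19246 := ndS (p := 8404) (l := 9) rfl N8404 D19246
theorem N10134 : nd 10134 = n19248 := ndS (p := 8406) (l := 9) rfl N8406 D19248
theorem N10135 : nd 10135 = n19251 := ndS (p := 8409) (l := 5) rfl N8409 D19251
theorem N10136 : nd 10136 = n19259 := ndS (p := 8411) (l := 5) rfl N8411 D19259
theorem N10137 : nd 10137 = n19260 := ndS (p := 8411) (l := 7) rfl N8411 D19260
theorem N10138 : nd 10138 = n19261 := ndS (p := 8412) (l := 4) rfl N8412 D19261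
theorem N10139 : nd 10139 = n19262 := ndS (p := 8412) (l := 7) rfl N8412 D19262
theorem N10140 : nd 10140 = n19263 := ndS (p := 8412) (l := 8) rfl N8412 D19263
theorem N10141 : nd 10141 = n19264 := ndS (p := 8414) (l := 6) rfl N8414 D19264
theorem N10142 : nd 10142 = n19265 := ndS (p := 8414) (l := 8) rfl N8414 D19265
theorem N10143 : nd 10143 = n19266 := ndS (p := 8415) (l := 9) rfl N8415 D19266
theorem N10144 : nd 10144 = n19271 := ndS (p := 8416) (l := 7) rfl N8416 D19271
theorem N10145 : nd 10145 = n19272 := ndS (p := 8416) (l := 8) rfl N8416 D19272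
theorem N10146 : nd 10146 = n19273 := ndS (p := 8418) (l := 7) rfl N8418 D19273
theorem N10147 : nd 10147 = n19274 := ndS (p := 8418) (l := 8) rfl N8418 D19274
theorem N10148 : nd 10148 = n19275 := ndS (p := 8419) (l := 6) rfl N8419 D19275
theorem N10149 : nd 10149 = n19276 := ndS (p := 8419) (l := 8) rfl N8419 D19276
theorem N10150 : nd 10150 = n19277 := ndS (p := 8420) (l := 9) rfl N8420 D19277
theorem N10151 : nd 10151 = n19278 := ndS (p := 8421) (l := 8) rfl N8421 D19278
theorem N10152 : nd 10152 = n19279 := ndS (p := 8422) (l := 9) rfl N8422 D19279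
theorem N10153 : nd 10153 = n19291 := ndS (p := 8425) (l := 8) rfl N8425 D19291
theorem N10154 : nd 10154 = n19292 := ndS (p := 8426) (l := 9) rfl N8426 D19292
theorem N10155 : nd 10155 = n19295 := ndS (p := 8428) (l := 7) rfl N8428 D19295
theorem N10156 : nd 10156 = n19296 := ndS (p := 8428) (l := 8) rfl N8428 D19296
theorem N10157 : nd 10157 = n19297 := ndS (p := 8430) (l := 6) rfl N8430 D19297
theorem N10158 : nd 10158 = n19298 := ndS (p := 8430) (l := 8) rfl N8430 D19298
theorem N10159 : nd 10159 = n19299 := ndS (p := 8431) (l := 9) rfl N8431 D19299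
theorem N10160 : nd 10160 = n19300 := ndS (p := 8432) (l := 8) rfl N8432 D19300
theorem N10161 : nd 10161 = n19301 := ndS (p := 8433) (l := 9) rfl N8433 D19301
theorem N10162 : nd 10162 = n19302 := ndS (p := 8435) (l := 5) rfl N8435 D19302
theorem N10163 : nd 10163 = n19303 := ndS (p := 8435) (l := 9) rfl N8435 D19303
theorem N10164 : nd 10164 = n19312 := ndS (p := 8439) (l := 7) rfl N8439 D19312
theorem N10165 : nd 10165 = n19313 := ndS (p := 8439) (l := 8) rfl N8439 D19313
theorem N10166 : nd 10166 = n19314 := ndS (p := 8440) (l := 8) rfl N8440 D19314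
theorem N10167 : nd 10167 = n19336 := ndS (p := 8445) (l := 3) rfl N8445 D19336
theorem N10168 : nd 10168 = n19337 := ndS (p := 8445) (l := 6) rfl N8445 D19337
theorem N10169 : nd 10169 = n19338 := ndS (p := 8446) (l := 7) rfl N8446 D19338
theorem N10170 : nd 10170 = n19339 := ndS (p := 8447) (l := 3) rfl N8447 D19339
theorem N10171 : nd 10171 = n19340 := ndS (p := 8447) (l := 6) rfl N8447 D19340
theorem N10172 : nd 10172 = n19342 := ndS (p := 8449) (l := 2) rfl N8449 D19342
theorem N10173 : nd 10173 = n19343 := ndS (p := 8449) (l := 6) rfl N8449 D19343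
theorem N10174 : nd 10174 = n19344 := ndS (p := 8450) (l := 5) rfl N8450 D19344
theorem N10175 : nd 10175 = n19346 := ndS (p := 8451) (l := 2) rfl N8451 D19346
theorem N10176 : nd 10176 = n19347 := ndS (p := 8451) (l := 6) rfl N8451 D19347
theorem N10177 : nd 10177 = n19348 := ndS (p := 8452) (l := 5) rfl N8452 D19348
theorem N10178 : nd 10178 = n19350 := ndS (p := 8453) (l := 1) rfl N8453 D19350
theorem N10179 : nd 10179 = n19351 := ndS (p := 8453) (l := 6) rfl N8453 D19351
theorem N10180 : nd 10180 = n19365 := ndS (p := 8455) (l := 3) rfl N8455 D19365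
theorem N10181 : nd 10181 = n19366 := ndS (p := 8455) (l := 6) rfl N8455 D19366
theorem N10182 : nd 10182 = n19367 := ndS (p := 8456) (l := 7) rfl N8456 D19367
theorem N10183 : nd 10183 = n19368 := ndS (p := 8457) (l := 3) rfl N8457 D19368
theorem N10184 : nd 10184 = n19369 := ndS (p := 8457) (l := 6) rfl N8457 D19369
theorem N10185 : nd 10185 = n19370 := ndS (p := 8458) (l := 7) rfl N8458 D19370
theorem N10186 : nd 10186 = n19371 := ndS (p := 8459) (l := 2) rfl N8459 D19371
theorem N10187 : nd 10187 = n19372 := ndS (p := 8459) (l := 6) rfl N8459 D19372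
theorem N10188 : nd 10188 = n19373 := ndS (p := 8460) (l := 5) rfl N8460 D19373
theorem N10189 : nd 10189 = n19374 := ndS (p := 8460) (l := 7) rfl N8460 D19374
theorem N10190 : nd 10190 = n19378 := ndS (p := 8464) (l := 2) rfl N8464 D19378
theorem N10191 : nd 10191 = n19379 := ndS (p := 8464) (l := 6) rfl N8464 D19379
theorem N10192 : nd 10192 = n19380 := ndS (p := 8465) (l := 5) rfl N8465 D19380
theorem N10193 : nd 10193 = n19381 := ndS (p := 8465) (l := 7) rfl N8465 D19381
theorem N10194 : nd 10194 = n19382 := ndS (p := 8467) (l := 1) rfl N8467 D19382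
theorem N10195 : nd 10195 = n19383 := ndS (p := 8467) (l := 6) rfl N8467 D19383
theorem N10196 : nd 10196 = n19384 := ndS (p := 8468) (l := 5) rfl N8468 D19384
theorem N10197 : nd 10197 = n19385 := ndS (p := 8468) (l := 7) rfl N8468 D19385
theorem N10198 : nd 10198 = n19386 := ndS (p := 8469) (l := 7) rfl N8469 D19386
theorem N10199 : nd 10199 = n19387 := ndS (p := 8469) (l := 8) rfl N8469 D19387
theorem N10200 : nd 10200 = n19390 := ndS (p := 8472) (l := 5) rfl N8472 D19390
theorem N10201 : nd 10201 = n19391 := ndS (p := 8472) (l := 7) rfl N8472 D19391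
theorem N10202 : nd 10202 = n19392 := ndS (p := 8473) (l := 7) rfl N8473 D19392
theorem N10203 : nd 10203 = n19393 := ndS (p := 8473) (l := 8) rfl N8473 D19393
theorem N10204 : nd 10204 = n19394 := ndS (p := 8475) (l := 0) rfl N8475 D19394
theorem N10205 : nd 10205 = n19395 := ndS (p := 8475) (l := 6) rfl N8475 D19395
theorem N10206 : nd 10206 = n19396 := ndS (p := 8476) (l := 5) rfl N8476 D19396
theorem N10207 : nd 10207 = n19398 := ndS (p := 8477) (l := 4) rfl N8477 D19398
theorem N10208 : nd 10208 = n19400 := ndS (p := 8477) (l := 8) rfl N8477 D19400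
theorem N10209 : nd 10209 = n19403 := ndS (p := 8479) (l := 9) rfl N8479 D19403
theorem N10210 : nd 10210 = n19408 := ndS (p := 8480) (l := 8) rfl N8480 D19408
theorem N10211 : nd 10211 = n19414 := ndS (p := 8483) (l := 2) rfl N8483 D19414
theorem N10212 : nd 10212 = n19415 := ndS (p := 8483) (l := 6) rfl N8483 D19415
theorem N10213 : nd 10213 = n19416 := ndS (p := 8484) (l := 5) rfl N8484 D19416
theorem N10214 : nd 10214 = n19417 := ndS (p := 8484) (l := 7) rfl N8484 D19417
theorem N10215 : nd 10215 = n19418 := ndS (p := 8486) (l := 2) rfl N8486 D19418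
theorem N10216 : nd 10216 = n19419 := ndS (p := 8486) (l := 6) rfl N8486 D19419
theorem N10217 : nd 10217 = n19420 := ndS (p := 8487) (l := 5) rfl N8487 D19420
theorem N10218 : nd 10218 = n19421 := ndS (p := 8487) (l := 7) rfl N8487 D19421
theorem N10219 : nd 10219 = n19422 := ndS (p := 8489) (l := 1) rfl N8489 D19422
theorem N10220 : nd 10220 = n19423 := ndS (p := 8489) (l := 6) rfl N8489 D19423
theorem N10221 : nd 10221 = n19424 := ndS (p := 8490) (l := 5) rfl N8490 D19424
theorem N10222 : nd 10222 = n19425 := ndS (p := 8490) (l := 7) rfl N8490 D19425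
theorem N10223 : nd 10223 = n19426 := ndS (p := 8491) (l := 7) rfl N8491 D19426
theorem N10224 : nd 10224 = n19427 := ndS (p := 8491) (l := 8) rfl N8491 D19427
theorem N10225 : nd 10225 = n19434 := ndS (p := 8494) (l := 5) rfl N8494 D19434
theorem N10226 : nd 10226 = n19435 := ndS (p := 8494) (l := 7) rfl N8494 D19435
theorem N10227 : nd 10227 = n19437 := ndS (p := 8495) (l := 8) rfl N8495 D19437
theorem N10228 : nd 10228 = n19439 := ndS (p := 8497) (l := 6) rfl N8497 D19439
theorem N10229 : nd 10229 = n19440 := ndS (p := 8498) (l := 5) rfl N8498 D19440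
theorem N10230 : nd 10230 = n19441 := ndS (p := 8498) (l := 7) rfl N8498 D19441
theorem N10231 : nd 10231 = n19442 := ndS (p := 8499) (l := 4) rfl N8499 D19442
theorem N10232 : nd 10232 = n19443 := ndS (p := 8499) (l := 7) rfl N8499 D19443
theorem N10233 : nd 10233 = n19444 := ndS (p := 8499) (l := 8) rfl N8499 D19444
theorem N10234 : nd 10234 = n19445 := ndS (p := 8501) (l := 6) rfl N8501 D19445
theorem N10235 : nd 10235 = n19446 := ndS (p := 8501) (l := 8) rfl N8501 D19446
theorem N10236 : nd 10236 = n19447 := ndS (p := 8502) (l := 9) rfl N8502 D19447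
theorem N10237 : nd 10237 = n19452 := ndS (p := 8503) (l := 4) rfl N8503 D19452
theorem N10238 : nd 10238 = n19453 := ndS (p := 8503) (l := 7) rfl N8503 D19453
theorem N10239 : nd 10239 = n19454 := ndS (p := 8503) (l := 8) rfl N8503 D19454
theorem N10240 : nd 10240 = n19455 := ndS (p := 8505) (l := 6) rfl N8505 D19455
theorem N10241 : nd 10241 = n19456 := ndS (p := 8505) (l := 8) rfl N8505 D19456
theorem N10242 : nd 10242 = n19457 := ndS (p := 8506) (l := 9) rfl N8506 D19457
theorem N10243 : nd 10243 = n19459 := ndS (p := 8507) (l := 5) rfl N8507 D19459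
theorem N10244 : nd 10244 = n19461 := ndS (p := 8508) (l := 4) rfl N8508 D19461
theorem N10245 : nd 10245 = n19462 := ndS (p := 8508) (l := 7) rfl N8508 D19462
theorem N10246 : nd 10246 = n19463 := ndS (p := 8508) (l := 8) rfl N8508 D19463
theorem N10247 : nd 10247 = n19464 := ndS (p := 8510) (l := 7) rfl N8510 D19464
theorem N10248 : nd 10248 = n19465 := ndS (p := 8510) (l := 8) rfl N8510 D19465
theorem N10249 : nd 10249 = n19466 := ndS (p := 8511) (l := 6) rfl N8511 D19466
theorem N10250 : nd 10250 = n19467 := ndS (p := 8511) (l := 8) rfl N8511 D19467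
theorem N10251 : nd 10251 = n19468 := ndS (p := 8512) (l := 9) rfl N8512 D19468
theorem N10252 : nd 10252 = n19469 := ndS (p := 8513) (l := 8) rfl N8513 D19469
theorem N10253 : nd 10253 = n19473 := ndS (p := 8517) (l := 5) rfl N8517 D19473
theorem N10254 : nd 10254 = n19477 := ndS (p := 8518) (l := 5) rfl N8518 D19477
theorem N10255 : nd 10255 = n19482 := ndS (p := 8519) (l := 7) rfl N8519 D19482
theorem N10256 : nd 10256 = n19484 := ndS (p := 8521) (l := 6) rfl N8521 D19484
theorem N10257 : nd 10257 = n19486 := ndS (p := 8522) (l := 7) rfl N8522 D19486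
theorem N10258 : nd 10258 = n19487 := ndS (p := 8523) (l := 7) rfl N8523 D19487
theorem N10259 : nd 10259 = n19488 := ndS (p := 8523) (l := 8) rfl N8523 D19488
theorem N10260 : nd 10260 = n19490 := ndS (p := 8525) (l := 6) rfl N8525 D19490
theorem N10261 : nd 10261 = n19491 := ndS (p := 8526) (l := 5) rfl N8526 D19491
theorem N10262 : nd 10262 = n19492 := ndS (p := 8526) (l := 7) rfl N8526 D19492
theorem N10263 : nd 10263 = n19493 := ndS (p := 8527) (l := 4) rfl N8527 D19493
theorem N10264 : nd 10264 = n19494 := ndS (p := 8527) (l := 7) rfl N8527 D19494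
theorem N10265 : nd 10265 = n19495 := ndS (p := 8527) (l := 8) rfl N8527 D19495
theorem N10266 : nd 10266 = n19496 := ndS (p := 8529) (l := 6) rfl N8529 D19496
theorem N10267 : nd 10267 = n19497 := ndS (p := 8529) (l := 8) rfl N8529 D19497
theorem N10268 : nd 10268 = n19498 := ndS (p := 8530) (l := 9) rfl N8530 D19498
theorem N10269 : nd 10269 = n19516 := ndS (p := 8532) (l := 5) rfl N8532 D19516
theorem N10270 : nd 10270 = n19519 := ndS (p := 8533) (l := 7) rfl N8533 D19519
theorem N10271 : nd 10271 = n19520 := ndS (p := 8533) (l := 8) rfl N8533 D19520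
theorem N10272 : nd 10272 = n19522 := ndS (p := 8535) (l := 8) rfl N8535 D19522
theorem N10273 : nd 10273 = n19524 := ndS (p := 8536) (l := 8) rfl N8536 D19524
theorem N10274 : nd 10274 = n19525 := ndS (p := 8537) (l := 9) rfl N8537 D19525
theorem N10275 : nd 10275 = n19526 := ndS (p := 8538) (l := 8) rfl N8538 D19526
theorem N10276 : nd 10276 = n19527 := ndS (p := 8539) (l := 9) rfl N8539 D19527
theorem N10277 : nd 10277 = n19539 := ndS (p := 8541) (l := 8) rfl N8541 D19539
theorem N10278 : nd 10278 = n19544 := ndS (p := 8544) (l := 8) rfl N8544 D19544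
theorem N10279 : nd 10279 = n19545 := ndS (p := 8545) (l := 6) rfl N8545 D19545
theorem N10280 : nd 10280 = n19546 := ndS (p := 8545) (l := 8) rfl N8545 D19546
theorem N10281 : nd 10281 = n19547 := ndS (p := 8546) (l := 9) rfl N8546 D19547
theorem N10282 : nd 10282 = n19548 := ndS (p := 8547) (l := 8) rfl N8547 D19548
theorem N10283 : nd 10283 = n19549 := ndS (p := 8548) (l := 9) rfl N8548 D19549
theorem N10284 : nd 10284 = n19550 := ndS (p := 8550) (l := 5) rfl N8550 D19550
theorem N10285 : nd 10285 = n19551 := ndS (p := 8550) (l := 9) rfl N8550 D19551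
theorem N10286 : nd 10286 = n19552 := ndS (p := 8552) (l := 4) rfl N8552 D19552
theorem N10287 : nd 10287 = n19553 := ndS (p := 8552) (l := 9) rfl N8552 D19553
theorem N10288 : nd 10288 = n19608 := ndS (p := 8555) (l := 1) rfl N8555 D19608
theorem N10289 : nd 10289 = n19609 := ndS (p := 8555) (l := 6) rfl N8555 D19609
theorem N10290 : nd 10290 = n19610 := ndS (p := 8556) (l := 5) rfl N8556 D19610
theorem N10291 : nd 10291 = n19613 := ndS (p := 8557) (l := 8) rfl N8557 D19613
theorem N10292 : nd 10292 = n19636 := ndS (p := 8560) (l := 4) rfl N8560 D19636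
theorem N10293 : nd 10293 = n19637 := ndS (p := 8560) (l := 7) rfl N8560 D19637
theorem N10294 : nd 10294 = n19638 := ndS (p := 8560) (l := 8) rfl N8560 D19638
theorem N10295 : nd 10295 = n19640 := ndS (p := 8562) (l := 8) rfl N8562 D19640
theorem N10296 : nd 10296 = n19641 := ndS (p := 8563) (l := 9) rfl N8563 D19641
theorem N10297 : nd 10297 = n19643 := ndS (p := 8565) (l := 5) rfl N8565 D19643
theorem N10298 : nd 10298 = n19645 := ndS (p := 8566) (l := 4) rfl N8566 D19645
theorem N10299 : nd 10299 = n19647 := ndS (p := 8566) (l := 8) rfl N8566 D19647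
theorem N10300 : nd 10300 = n19674 := ndS (p := 8570) (l := 6) rfl N8570 D19674
theorem N10301 : nd 10301 = n19676 := ndS (p := 8571) (l := 9) rfl N8571 D19676
theorem N10302 : nd 10302 = n19677 := ndS (p := 8572) (l := 8) rfl N8572 D19677
theorem N10303 : nd 10303 = n19678 := ndS (p := 8573) (l := 9) rfl N8573 D19678
theorem N10304 : nd 10304 = n19681 := ndS (p := 8575) (l := 4) rfl N8575 D19681
theorem N10305 : nd 10305 = n19683 := ndS (p := 8575) (l := 8) rfl N8575 D19683
theorem N10306 : nd 10306 = n19686 := ndS (p := 8577) (l := 6) rfl N8577 D19686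
theorem N10307 : nd 10307 = n19688 := ndS (p := 8578) (l := 9) rfl N8578 D19688
theorem N10308 : nd 10308 = n19723 := ndS (p := 8581) (l := 5) rfl N8581 D19723
theorem N10309 : nd 10309 = n19724 := ndS (p := 8581) (l := 9) rfl N8581 D19724
theorem N10310 : nd 10310 = n19729 := ndS (p := 8583) (l := 9) rfl N8583 D19729
theorem N10311 : nd 10311 = n19730 := ndS (p := 8584) (l := 8) rfl N8584 D19730
theorem N10312 : nd 10312 = n19731 := ndS (p := 8585) (l := 9) rfl N8585 D19731
theorem N10313 : nd 10313 = n19732 := ndS (p := 8587) (l := 5) rfl N8587 D19732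
theorem N10314 : nd 10314 = n19733 := ndS (p := 8587) (l := 9) rfl N8587 D19733
theorem N10315 : nd 10315 = n19735 := ndS (p := 8589) (l := 9) rfl N8589 D19735
theorem N10316 : nd 10316 = n19794 := ndS (p := 8592) (l := 5) rfl N8592 D19794
theorem N10317 : nd 10317 = n19803 := ndS (p := 8594) (l := 8) rfl N8594 D19803
theorem N10318 : nd 10318 = n19812 := ndS (p := 8595) (l := 9) rfl N8595 D19812
theorem N10319 : nd 10319 = n19822 := ndS (p := 8596) (l := 6) rfl N8596 D19822
theorem N10320 : nd 10320 = n19823 := ndS (p := 8597) (l := 5) rfl N8597 D19823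
theorem N10321 : nd 10321 = n19824 := ndS (p := 8597) (l := 7) rfl N8597 D19824
theorem N10322 : nd 10322 = n19825 := ndS (p := 8599) (l := 3) rfl N8599 D19825
theorem N10323 : nd 10323 = n19826 := ndS (p := 8599) (l := 6) rfl N8599 D19826
theorem N10324 : nd 10324 = n19827 := ndS (p := 8600) (l := 7) rfl N8600 D19827
theorem N10325 : nd 10325 = n19828 := ndS (p := 8601) (l := 2) rfl N8601 D19828
theorem N10326 : nd 10326 = n19829 := ndS (p := 8601) (l := 6) rfl N8601 D19829
theorem N10327 : nd 10327 = n19830 := ndS (p := 8602) (l := 5) rfl N8602 D19830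
theorem N10328 : nd 10328 = n19831 := ndS (p := 8602) (l := 7) rfl N8602 D19831
theorem N10329 : nd 10329 = n19833 := ndS (p := 8604) (l := 5) rfl N8604 D19833
theorem N10330 : nd 10330 = n19834 := ndS (p := 8604) (l := 7) rfl N8604 D19834
theorem N10331 : nd 10331 = n19835 := ndS (p := 8605) (l := 7) rfl N8605 D19835
theorem N10332 : nd 10332 = n19836 := ndS (p := 8605) (l := 8) rfl N8605 D19836
theorem N10333 : nd 10333 = n19837 := ndS (p := 8607) (l := 3) rfl N8607 D19837
theorem N10334 : nd 10334 = n19838 := ndS (p := 8607) (l := 6) rfl N8607 D19838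
theorem N10335 : nd 10335 = n19839 := ndS (p := 8608) (l := 7) rfl N8608 D19839
theorem N10336 : nd 10336 = n19840 := ndS (p := 8609) (l := 3) rfl N8609 D19840
theorem N10337 : nd 10337 = n19841 := ndS (p := 8609) (l := 6) rfl N8609 D19841
theorem N10338 : nd 10338 = n19842 := ndS (p := 8610) (l := 7) rfl N8610 D19842
theorem N10339 : nd 10339 = n19843 := ndS (p := 8611) (l := 2) rfl N8611 D19843
theorem N10340 : nd 10340 = n19844 := ndS (p := 8611) (l := 6) rfl N8611 D19844
theorem N10341 : nd 10341 = n19845 := ndS (p := 8612) (l := 5) rfl N8612 D19845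
theorem N10342 : nd 10342 = n19846 := ndS (p := 8612) (l := 7) rfl N8612 D19846
theorem N10343 : nd 10343 = n19848 := ndS (p := 8614) (l := 6) rfl N8614 D19848
theorem N10344 : nd 10344 = n19850 := ndS (p := 8615) (l := 7) rfl N8615 D19850
theorem N10345 : nd 10345 = n19851 := ndS (p := 8617) (l := 1) rfl N8617 D19851
theorem N10346 : nd 10346 = n19852 := ndS (p := 8617) (l := 6) rfl N8617 D19852
theorem N10347 : nd 10347 = n19853 := ndS (p := 8618) (l := 5) rfl N8618 D19853
theorem N10348 : nd 10348 = n19854 := ndS (p := 8618) (l := 7) rfl N8618 D19854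
theorem N10349 : nd 10349 = n19855 := ndS (p := 8619) (l := 7) rfl N8619 D19855
theorem N10350 : nd 10350 = n19856 := ndS (p := 8619) (l := 8) rfl N8619 D19856
theorem N10351 : nd 10351 = n19857 := ndS (p := 8621) (l := 4) rfl N8621 D19857
theorem N10352 : nd 10352 = n19858 := ndS (p := 8621) (l := 7) rfl N8621 D19858
theorem N10353 : nd 10353 = n19859 := ndS (p := 8621) (l := 8) rfl N8621 D19859
theorem N10354 : nd 10354 = n19860 := ndS (p := 8623) (l := 6) rfl N8623 D19860
theorem N10355 : nd 10355 = n19861 := ndS (p := 8623) (l := 8) rfl N8623 D19861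
theorem N10356 : nd 10356 = n19862 := ndS (p := 8624) (l := 9) rfl N8624 D19862
theorem N10357 : nd 10357 = n19865 := ndS (p := 8625) (l := 5) rfl N8625 D19865
theorem N10358 : nd 10358 = n19866 := ndS (p := 8625) (l := 7) rfl N8625 D19866
theorem N10359 : nd 10359 = n19869 := ndS (p := 8627) (l := 5) rfl N8627 D19869
theorem N10360 : nd 10360 = n19870 := ndS (p := 8627) (l := 7) rfl N8627 D19870
theorem N10361 : nd 10361 = n19871 := ndS (p := 8629) (l := 1) rfl N8629 D19871
theorem N10362 : nd 10362 = n19872 := ndS (p := 8629) (l := 6) rfl N8629 D19872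
theorem N10363 : nd 10363 = n19873 := ndS (p := 8630) (l := 5) rfl N8630 D19873
theorem N10364 : nd 10364 = n19874 := ndS (p := 8630) (l := 7) rfl N8630 D19874
theorem N10365 : nd 10365 = n19875 := ndS (p := 8631) (l := 7) rfl N8631 D19875
theorem N10366 : nd 10366 = n19876 := ndS (p := 8631) (l := 8) rfl N8631 D19876
theorem N10367 : nd 10367 = n19884 := ndS (p := 8634) (l := 6) rfl N8634 D19884
theorem N10368 : nd 10368 = n19886 := ndS (p := 8635) (l := 7) rfl N8635 D19886
theorem N10369 : nd 10369 = n19890 := ndS (p := 8637) (l := 8) rfl N8637 D19890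
theorem N10370 : nd 10370 = n19891 := ndS (p := 8638) (l := 9) rfl N8638 D19891
theorem N10371 : nd 10371 = n19892 := ndS (p := 8639) (l := 8) rfl N8639 D19892
theorem N10372 : nd 10372 = n19893 := ndS (p := 8640) (l := 9) rfl N8640 D19893
theorem N10373 : nd 10373 = n19894 := ndS (p := 8642) (l := 1) rfl N8642 D19894
theorem N10374 : nd 10374 = n19895 := ndS (p := 8642) (l := 6) rfl N8642 D19895
theorem N10375 : nd 10375 = n19896 := ndS (p := 8643) (l := 5) rfl N8643 D19896
theorem N10376 : nd 10376 = n19897 := ndS (p := 8643) (l := 7) rfl N8643 D19897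
theorem N10377 : nd 10377 = n19898 := ndS (p := 8644) (l := 7) rfl N8644 D19898
theorem N10378 : nd 10378 = n19899 := ndS (p := 8644) (l := 8) rfl N8644 D19899
theorem N10379 : nd 10379 = n19900 := ndS (p := 8646) (l := 0) rfl N8646 D19900
theorem N10380 : nd 10380 = n19901 := ndS (p := 8646) (l := 6) rfl N8646 D19901
theorem N10381 : nd 10381 = n19902 := ndS (p := 8647) (l := 5) rfl N8647 D19902
theorem N10382 : nd 10382 = n19903 := ndS (p := 8647) (l := 7) rfl N8647 D19903
theorem N10383 : nd 10383 = n19904 := ndS (p := 8648) (l := 4) rfl N8648 D19904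
theorem N10384 : nd 10384 = n19905 := ndS (p := 8648) (l := 7) rfl N8648 D19905
theorem N10385 : nd 10385 = n19906 := ndS (p := 8650) (l := 6) rfl N8650 D19906
theorem N10386 : nd 10386 = n19910 := ndS (p := 8652) (l := 7) rfl N8652 D19910
theorem N10387 : nd 10387 = n19914 := ndS (p := 8654) (l := 8) rfl N8654 D19914
theorem N10388 : nd 10388 = n19916 := ndS (p := 8656) (l := 6) rfl N8656 D19916
theorem N10389 : nd 10389 = n19917 := ndS (p := 8657) (l := 7) rfl N8657 D19917
theorem N10390 : nd 10390 = n19924 := ndS (p := 8659) (l := 3) rfl N8659 D19924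
theorem N10391 : nd 10391 = n19925 := ndS (p := 8659) (l := 6) rfl N8659 D19925
theorem N10392 : nd 10392 = n19926 := ndS (p := 8660) (l := 7) rfl N8660 D19926
theorem N10393 : nd 10393 = n19928 := ndS (p := 8661) (l := 6) rfl N8661 D19928
theorem N10394 : nd 10394 = n19929 := ndS (p := 8662) (l := 5) rfl N8662 D19929
theorem N10395 : nd 10395 = n19930 := ndS (p := 8662) (l := 7) rfl N8662 D19930
theorem N10396 : nd 10396 = n19933 := ndS (p := 8664) (l := 5) rfl N8664 D19933
theorem N10397 : nd 10397 = n19934 := ndS (p := 8664) (l := 7) rfl N8664 D19934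
theorem N10398 : nd 10398 = n19935 := ndS (p := 8665) (l := 7) rfl N8665 D19935
theorem N10399 : nd 10399 = n19936 := ndS (p := 8665) (l := 8) rfl N8665 D19936
theorem N10400 : nd 10400 = n19937 := ndS (p := 8667) (l := 3) rfl N8667 D19937
theorem N10401 : nd 10401 = n19938 := ndS (p := 8667) (l := 6) rfl N8667 D19938
theorem N10402 : nd 10402 = n19939 := ndS (p := 8668) (l := 7) rfl N8668 D19939
theorem N10403 : nd 10403 = n19940 := ndS (p := 8669) (l := 2) rfl N8669 D19940
theorem N10404 : nd 10404 = n19941 := ndS (p := 8669) (l := 6) rfl N8669 D19941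
theorem N10405 : nd 10405 = n19942 := ndS (p := 8670) (l := 5) rfl N8670 D19942
theorem N10406 : nd 10406 = n19943 := ndS (p := 8670) (l := 7) rfl N8670 D19943
theorem N10407 : nd 10407 = n19944 := ndS (p := 8672) (l := 1) rfl N8672 D19944
theorem N10408 : nd 10408 = n19945 := ndS (p := 8672) (l := 6) rfl N8672 D19945
theorem N10409 : nd 10409 = n19946 := ndS (p := 8673) (l := 5) rfl N8673 D19946
theorem N10410 : nd 10410 = n19947 := ndS (p := 8673) (l := 7) rfl N8673 D19947
theorem N10411 : nd 10411 = n19948 := ndS (p := 8674) (l := 7) rfl N8674 D19948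
theorem N10412 : nd 10412 = n19949 := ndS (p := 8674) (l := 8) rfl N8674 D19949
theorem N10413 : nd 10413 = n19953 := ndS (p := 8676) (l := 7) rfl N8676 D19953
theorem N10414 : nd 10414 = n19954 := ndS (p := 8676) (l := 8) rfl N8676 D19954
theorem N10415 : nd 10415 = n19955 := ndS (p := 8678) (l := 6) rfl N8678 D19955
theorem N10416 : nd 10416 = n19956 := ndS (p := 8678) (l := 8) rfl N8678 D19956
theorem N10417 : nd 10417 = n19957 := ndS (p := 8679) (l := 9) rfl N8679 D19957
theorem N10418 : nd 10418 = n19958 := ndS (p := 8680) (l := 3) rfl N8680 D19958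
theorem N10419 : nd 10419 = n19959 := ndS (p := 8680) (l := 6) rfl N8680 D19959
theorem N10420 : nd 10420 = n19960 := ndS (p := 8681) (l := 7) rfl N8681 D19960
theorem N10421 : nd 10421 = n19961 := ndS (p := 8682) (l := 2) rfl N8682 D19961
theorem N10422 : nd 10422 = n19962 := ndS (p := 8682) (l := 6) rfl N8682 D19962
theorem N10423 : nd 10423 = n19963 := ndS (p := 8683) (l := 5) rfl N8683 D19963
theorem N10424 : nd 10424 = n19964 := ndS (p := 8683) (l := 7) rfl N8683 D19964
theorem N10425 : nd 10425 = n19965 := ndS (p := 8685) (l := 1) rfl N8685 D19965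
theorem N10426 : nd 10426 = n19966 := ndS (p := 8685) (l := 6) rfl N8685 D19966
theorem N10427 : nd 10427 = n19967 := ndS (p := 8686) (l := 5) rfl N8686 D19967
theorem N10428 : nd 10428 = n19968 := ndS (p := 8686) (l := 7) rfl N8686 D19968
theorem N10429 : nd 10429 = n19969 := ndS (p := 8687) (l := 7) rfl N8687 D19969
theorem N10430 : nd 10430 = n19970 := ndS (p := 8687) (l := 8) rfl N8687 D19970
theorem N10431 : nd 10431 = n19972 := ndS (p := 8689) (l := 6) rfl N8689 D19972
theorem N10432 : nd 10432 = n19973 := ndS (p := 8690) (l := 5) rfl N8690 D19973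
theorem N10433 : nd 10433 = n19974 := ndS (p := 8690) (l := 7) rfl N8690 D19974
theorem N10434 : nd 10434 = n19975 := ndS (p := 8691) (l := 4) rfl N8691 D19975
theorem N10435 : nd 10435 = n19976 := ndS (p := 8691) (l := 7) rfl N8691 D19976
theorem N10436 : nd 10436 = n19977 := ndS (p := 8691) (l := 8) rfl N8691 D19977
theorem N10437 : nd 10437 = n19978 := ndS (p := 8693) (l := 6) rfl N8693 D19978
theorem N10438 : nd 10438 = n19979 := ndS (p := 8693) (l := 8) rfl N8693 D19979
theorem N10439 : nd 10439 = n19980 := ndS (p := 8694) (l := 9) rfl N8694 D19980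
theorem N10440 : nd 10440 = n19981 := ndS (p := 8695) (l := 7) rfl N8695 D19981
theorem N10441 : nd 10441 = n19982 := ndS (p := 8695) (l := 8) rfl N8695 D19982
theorem N10442 : nd 10442 = n19983 := ndS (p := 8696) (l := 6) rfl N8696 D19983
theorem N10443 : nd 10443 = n19984 := ndS (p := 8696) (l := 8) rfl N8696 D19984
theorem N10444 : nd 10444 = n19985 := ndS (p := 8697) (l := 9) rfl N8697 D19985
theorem N10445 : nd 10445 = n19986 := ndS (p := 8698) (l := 8) rfl N8698 D19986
theorem N10446 : nd 10446 = n19987 := ndS (p := 8699) (l := 9) rfl N8699 D19987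
theorem N10447 : nd 10447 = n19988 := ndS (p := 8701) (l := 1) rfl N8701 D19988
theorem N10448 : nd 10448 = n19989 := ndS (p := 8701) (l := 6) rfl N8701 D19989
theorem N10449 : nd 10449 = n19990 := ndS (p := 8702) (l := 5) rfl N8702 D19990
theorem N10450 : nd 10450 = n19991 := ndS (p := 8702) (l := 7) rfl N8702 D19991
theorem N10451 : nd 10451 = n19992 := ndS (p := 8703) (l := 7) rfl N8703 D19992
theorem N10452 : nd 10452 = n19993 := ndS (p := 8703) (l := 8) rfl N8703 D19993
theorem N10453 : nd 10453 = n19995 := ndS (p := 8705) (l := 6) rfl N8705 D19995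
theorem N10454 : nd 10454 = n19996 := ndS (p := 8706) (l := 5) rfl N8706 D19996
theorem N10455 : nd 10455 = n19997 := ndS (p := 8706) (l := 7) rfl N8706 D19997
theorem N10456 : nd 10456 = n19998 := ndS (p := 8707) (l := 4) rfl N8707 D19998
theorem N10457 : nd 10457 = n19999 := ndS (p := 8707) (l := 7) rfl N8707 D19999
theorem N10458 : nd 10458 = n20000 := ndS (p := 8707) (l := 8) rfl N8707 D20000
theorem N10459 : nd 10459 = n20001 := ndS (p := 8709) (l := 6) rfl N8709 D20001
theorem N10460 : nd 10460 = n20002 := ndS (p := 8709) (l := 8) rfl N8709 D20002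
theorem N10461 : nd 10461 = n20003 := ndS (p := 8710) (l := 9) rfl N8710 D20003
theorem N10462 : nd 10462 = n20005 := ndS (p := 8711) (l := 5) rfl N8711 D20005
theorem N10463 : nd 10463 = n20006 := ndS (p := 8711) (l := 7) rfl N8711 D20006
theorem N10464 : nd 10464 = n20007 := ndS (p := 8712) (l := 7) rfl N8712 D20007
theorem N10465 : nd 10465 = n20008 := ndS (p := 8712) (l := 8) rfl N8712 D20008
theorem N10466 : nd 10466 = n20009 := ndS (p := 8714) (l := 6) rfl N8714 D20009
theorem N10467 : nd 10467 = n20010 := ndS (p := 8714) (l := 8) rfl N8714 D20010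
theorem N10468 : nd 10468 = n20011 := ndS (p := 8715) (l := 9) rfl N8715 D20011
theorem N10469 : nd 10469 = n20012 := ndS (p := 8716) (l := 8) rfl N8716 D20012
theorem N10470 : nd 10470 = n20013 := ndS (p := 8717) (l := 9) rfl N8717 D20013
theorem N10471 : nd 10471 = n20014 := ndS (p := 8719) (l := 5) rfl N8719 D20014
theorem N10472 : nd 10472 = n20015 := ndS (p := 8719) (l := 9) rfl N8719 D20015
theorem N10473 : nd 10473 = n20017 := ndS (p := 8721) (l := 5) rfl N8721 D20017
theorem N10474 : nd 10474 = n20018 := ndS (p := 8721) (l := 7) rfl N8721 D20018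
theorem N10475 : nd 10475 = n20019 := ndS (p := 8722) (l := 4) rfl N8722 D20019
theorem N10476 : nd 10476 = n20020 := ndS (p := 8722) (l := 7) rfl N8722 D20020
theorem N10477 : nd 10477 = n20021 := ndS (p := 8724) (l := 7) rfl N8724 D20021
theorem N10478 : nd 10478 = n20022 := ndS (p := 8725) (l := 6) rfl N8725 D20022
theorem N10479 : nd 10479 = n20026 := ndS (p := 8728) (l := 5) rfl N8728 D20026
theorem N10480 : nd 10480 = n20027 := ndS (p := 8728) (l := 7) rfl N8728 D20027
theorem N10481 : nd 10481 = n20028 := ndS (p := 8729) (l := 7) rfl N8729 D20028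
theorem N10482 : nd 10482 = n20029 := ndS (p := 8729) (l := 8) rfl N8729 D20029
theorem N10483 : nd 10483 = n20034 := ndS (p := 8731) (l := 7) rfl N8731 D20034
theorem N10484 : nd 10484 = n20035 := ndS (p := 8731) (l := 8) rfl N8731 D20035
theorem N10485 : nd 10485 = n20036 := ndS (p := 8733) (l := 6) rfl N8733 D20036
theorem N10486 : nd 10486 = n20037 := ndS (p := 8733) (l := 8) rfl N8733 D20037
theorem N10487 : nd 10487 = n20038 := ndS (p := 8734) (l := 9) rfl N8734 D20038
theorem N10488 : nd 10488 = n20040 := ndS (p := 8735) (l := 6) rfl N8735 D20040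
theorem N10489 : nd 10489 = n20042 := ndS (p := 8736) (l := 7) rfl N8736 D20042
theorem N10490 : nd 10490 = n20044 := ndS (p := 8737) (l := 7) rfl N8737 D20044
theorem N10491 : nd 10491 = n20045 := ndS (p := 8737) (l := 8) rfl N8737 D20045
theorem N10492 : nd 10492 = n20046 := ndS (p := 8739) (l := 6) rfl N8739 D20046
theorem N10493 : nd 10493 = n20047 := ndS (p := 8739) (l := 8) rfl N8739 D20047
theorem N10494 : nd 10494 = n20048 := ndS (p := 8740) (l := 9) rfl N8740 D20048
theorem N10495 : nd 10495 = n20054 := ndS (p := 8741) (l := 6) rfl N8741 D20054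
theorem N10496 : nd 10496 = n20055 := ndS (p := 8741) (l := 8) rfl N8741 D20055
theorem N10497 : nd 10497 = n20056 := ndS (p := 8742) (l := 9) rfl N8742 D20056
theorem N10498 : nd 10498 = n20057 := ndS (p := 8743) (l := 8) rfl N8743 D20057
theorem N10499 : nd 10499 = n20058 := ndS (p := 8744) (l := 9) rfl N8744 D20058
theorem N10500 : nd 10500 = n20060 := ndS (p := 8746) (l := 5) rfl N8746 D20060
theorem N10501 : nd 10501 = n20061 := ndS (p := 8746) (l := 7) rfl N8746 D20061
theorem N10502 : nd 10502 = n20062 := ndS (p := 8747) (l := 4) rfl N8747 D20062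
theorem N10503 : nd 10503 = n20063 := ndS (p := 8747) (l := 7) rfl N8747 D20063
theorem N10504 : nd 10504 = n20064 := ndS (p := 8747) (l := 8) rfl N8747 D20064
theorem N10505 : nd 10505 = n20065 := ndS (p := 8749) (l := 7) rfl N8749 D20065
theorem N10506 : nd 10506 = n20066 := ndS (p := 8749) (l := 8) rfl N8749 D20066
theorem N10507 : nd 10507 = n20067 := ndS (p := 8750) (l := 6) rfl N8750 D20067
theorem N10508 : nd 10508 = n20068 := ndS (p := 8750) (l := 8) rfl N8750 D20068
theorem N10509 : nd 10509 = n20069 := ndS (p := 8751) (l := 9) rfl N8751 D20069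
theorem N10510 : nd 10510 = n20070 := ndS (p := 8752) (l := 8) rfl N8752 D20070
theorem N10511 : nd 10511 = n20071 := ndS (p := 8753) (l := 9) rfl N8753 D20071
theorem N10512 : nd 10512 = n20072 := ndS (p := 8755) (l := 6) rfl N8755 D20072
theorem N10513 : nd 10513 = n20073 := ndS (p := 8755) (l := 8) rfl N8755 D20073
theorem N10514 : nd 10514 = n20075 := ndS (p := 8756) (l := 9) rfl N8756 D20075
theorem N10515 : nd 10515 = n20076 := ndS (p := 8757) (l := 8) rfl N8757 D20076
theorem N10516 : nd 10516 = n20077 := ndS (p := 8758) (l := 9) rfl N8758 D20077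
theorem N10517 : nd 10517 = n20078 := ndS (p := 8760) (l := 5) rfl N8760 D20078
theorem N10518 : nd 10518 = n20079 := ndS (p := 8760) (l := 9) rfl N8760 D20079
theorem N10519 : nd 10519 = n20082 := ndS (p := 8762) (l := 7) rfl N8762 D20082
theorem N10520 : nd 10520 = n20084 := ndS (p := 8764) (l := 6) rfl N8764 D20084
theorem N10521 : nd 10521 = n20085 := ndS (p := 8764) (l := 8) rfl N8764 D20085
theorem N10522 : nd 10522 = n20086 := ndS (p := 8765) (l := 9) rfl N8765 D20086
theorem N10523 : nd 10523 = n20087 := ndS (p := 8766) (l := 8) rfl N8766 D20087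
theorem N10524 : nd 10524 = n20088 := ndS (p := 8767) (l := 9) rfl N8767 D20088
theorem N10525 : nd 10525 = n20089 := ndS (p := 8769) (l := 5) rfl N8769 D20089
theorem N10526 : nd 10526 = n20090 := ndS (p := 8769) (l := 9) rfl N8769 D20090
theorem N10527 : nd 10527 = n20091 := ndS (p := 8771) (l := 4) rfl N8771 D20091
theorem N10528 : nd 10528 = n20092 := ndS (p := 8771) (l := 9) rfl N8771 D20092
theorem N10529 : nd 10529 = n20093 := ndS (p := 8773) (l := 3) rfl N8773 D20093
theorem N10530 : nd 10530 = n20094 := ndS (p := 8773) (l := 6) rfl N8773 D20094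
theorem N10531 : nd 10531 = n20095 := ndS (p := 8774) (l := 7) rfl N8774 D20095
theorem N10532 : nd 10532 = n20096 := ndS (p := 8775) (l := 2) rfl N8775 D20096
theorem N10533 : nd 10533 = n20097 := ndS (p := 8775) (l := 6) rfl N8775 D20097
theorem N10534 : nd 10534 = n20098 := ndS (p := 8776) (l := 5) rfl N8776 D20098
theorem N10535 : nd 10535 = n20099 := ndS (p := 8776) (l := 7) rfl N8776 D20099
theorem N10536 : nd 10536 = n20102 := ndS (p := 8778) (l := 5) rfl N8778 D20102
theorem N10537 : nd 10537 = n20103 := ndS (p := 8778) (l := 7) rfl N8778 D20103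
theorem N10538 : nd 10538 = n20104 := ndS (p := 8779) (l := 7) rfl N8779 D20104
theorem N10539 : nd 10539 = n20106 := ndS (p := 8781) (l := 3) rfl N8781 D20106
theorem N10540 : nd 10540 = n20107 := ndS (p := 8781) (l := 6) rfl N8781 D20107
theorem N10541 : nd 10541 = n20108 := ndS (p := 8782) (l := 7) rfl N8782 D20108
theorem N10542 : nd 10542 = n20109 := ndS (p := 8783) (l := 3) rfl N8783 D20109
theorem N10543 : nd 10543 = n20110 := ndS (p := 8783) (l := 6) rfl N8783 D20110
theorem N10544 : nd 10544 = n20111 := ndS (p := 8784) (l := 7) rfl N8784 D20111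
theorem N10545 : nd 10545 = n20112 := ndS (p := 8785) (l := 3) rfl N8785 D20112
theorem N10546 : nd 10546 = n20113 := ndS (p := 8785) (l := 6) rfl N8785 D20113
theorem N10547 : nd 10547 = n20114 := ndS (p := 8786) (l := 7) rfl N8786 D20114
theorem N10548 : nd 10548 = n20115 := ndS (p := 8787) (l := 2) rfl N8787 D20115
theorem N10549 : nd 10549 = n20116 := ndS (p := 8787) (l := 6) rfl N8787 D20116
theorem N10550 : nd 10550 = n20117 := ndS (p := 8788) (l := 5) rfl N8788 D20117
theorem N10551 : nd 10551 = n20118 := ndS (p := 8788) (l := 7) rfl N8788 D20118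
theorem N10552 : nd 10552 = n20119 := ndS (p := 8790) (l := 2) rfl N8790 D20119
theorem N10553 : nd 10553 = n20120 := ndS (p := 8790) (l := 6) rfl N8790 D20120
theorem N10554 : nd 10554 = n20121 := ndS (p := 8791) (l := 5) rfl N8791 D20121
theorem N10555 : nd 10555 = n20122 := ndS (p := 8791) (l := 7) rfl N8791 D20122
theorem N10556 : nd 10556 = n20123 := ndS (p := 8793) (l := 1) rfl N8793 D20123
theorem N10557 : nd 10557 = n20124 := ndS (p := 8793) (l := 6) rfl N8793 D20124
theorem N10558 : nd 10558 = n20125 := ndS (p := 8794) (l := 5) rfl N8794 D20125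
theorem N10559 : nd 10559 = n20126 := ndS (p := 8794) (l := 7) rfl N8794 D20126
theorem N10560 : nd 10560 = n20127 := ndS (p := 8795) (l := 7) rfl N8795 D20127
theorem N10561 : nd 10561 = n20128 := ndS (p := 8795) (l := 8) rfl N8795 D20128
theorem N10562 : nd 10562 = n20131 := ndS (p := 8797) (l := 4) rfl N8797 D20131
theorem N10563 : nd 10563 = n20132 := ndS (p := 8797) (l := 7) rfl N8797 D20132
theorem N10564 : nd 10564 = n20134 := ndS (p := 8799) (l := 6) rfl N8799 D20134
theorem N10565 : nd 10565 = n20135 := ndS (p := 8799) (l := 8) rfl N8799 D20135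
theorem N10566 : nd 10566 = n20137 := ndS (p := 8801) (l := 3) rfl N8801 D20137
theorem N10567 : nd 10567 = n20138 := ndS (p := 8801) (l := 6) rfl N8801 D20138
theorem N10568 : nd 10568 = n20139 := ndS (p := 8802) (l := 7) rfl N8802 D20139
theorem N10569 : nd 10569 = n20140 := ndS (p := 8803) (l := 2) rfl N8803 D20140
theorem N10570 : nd 10570 = n20141 := ndS (p := 8803) (l := 6) rfl N8803 D20141
theorem N10571 : nd 10571 = n20142 := ndS (p := 8804) (l := 5) rfl N8804 D20142
theorem N10572 : nd 10572 = n20143 := ndS (p := 8804) (l := 7) rfl N8804 D20143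
theorem N10573 : nd 10573 = n20144 := ndS (p := 8806) (l := 3) rfl N8806 D20144
theorem N10574 : nd 10574 = n20145 := ndS (p := 8806) (l := 6) rfl N8806 D20145
theorem N10575 : nd 10575 = n20146 := ndS (p := 8807) (l := 7) rfl N8807 D20146
theorem N10576 : nd 10576 = n20147 := ndS (p := 8808) (l := 2) rfl N8808 D20147
theorem N10577 : nd 10577 = n20148 := ndS (p := 8808) (l := 6) rfl N8808 D20148
theorem N10578 : nd 10578 = n20149 := ndS (p := 8809) (l := 5) rfl N8809 D20149
theorem N10579 : nd 10579 = n20150 := ndS (p := 8809) (l := 7) rfl N8809 D20150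
theorem N10580 : nd 10580 = n20151 := ndS (p := 8811) (l := 2) rfl N8811 D20151
theorem N10581 : nd 10581 = n20152 := ndS (p := 8811) (l := 6) rfl N8811 D20152
theorem N10582 : nd 10582 = n20153 := ndS (p := 8812) (l := 5) rfl N8812 D20153
theorem N10583 : nd 10583 = n20154 := ndS (p := 8812) (l := 7) rfl N8812 D20154
theorem N10584 : nd 10584 = n20155 := ndS (p := 8814) (l := 1) rfl N8814 D20155
theorem N10585 : nd 10585 = n20156 := ndS (p := 8814) (l := 6) rfl N8814 D20156
theorem N10586 : nd 10586 = n20157 := ndS (p := 8815) (l := 5) rfl N8815 D20157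
theorem N10587 : nd 10587 = n20158 := ndS (p := 8815) (l := 7) rfl N8815 D20158
theorem N10588 : nd 10588 = n20159 := ndS (p := 8816) (l := 7) rfl N8816 D20159
theorem N10589 : nd 10589 = n20160 := ndS (p := 8816) (l := 8) rfl N8816 D20160
theorem N10590 : nd 10590 = n20161 := ndS (p := 8818) (l := 1) rfl N8818 D20161
theorem N10591 : nd 10591 = n20162 := ndS (p := 8818) (l := 6) rfl N8818 D20162
theorem N10592 : nd 10592 = n20163 := ndS (p := 8819) (l := 5) rfl N8819 D20163
theorem N10593 : nd 10593 = n20164 := ndS (p := 8819) (l := 7) rfl N8819 D20164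
theorem N10594 : nd 10594 = n20165 := ndS (p := 8820) (l := 7) rfl N8820 D20165
theorem N10595 : nd 10595 = n20166 := ndS (p := 8820) (l := 8) rfl N8820 D20166
theorem N10596 : nd 10596 = n20167 := ndS (p := 8822) (l := 0) rfl N8822 D20167
theorem N10597 : nd 10597 = n20168 := ndS (p := 8822) (l := 6) rfl N8822 D20168
theorem N10598 : nd 10598 = n20169 := ndS (p := 8823) (l := 5) rfl N8823 D20169
theorem N10599 : nd 10599 = n20170 := ndS (p := 8823) (l := 7) rfl N8823 D20170
theorem N10600 : nd 10600 = n20171 := ndS (p := 8824) (l := 4) rfl N8824 D20171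
theorem N10601 : nd 10601 = n20172 := ndS (p := 8824) (l := 7) rfl N8824 D20172
theorem N10602 : nd 10602 = n20173 := ndS (p := 8824) (l := 8) rfl N8824 D20173
theorem N10603 : nd 10603 = n20174 := ndS (p := 8826) (l := 6) rfl N8826 D20174
theorem N10604 : nd 10604 = n20175 := ndS (p := 8826) (l := 8) rfl N8826 D20175
theorem N10605 : nd 10605 = n20176 := ndS (p := 8827) (l := 9) rfl N8827 D20176
theorem N10606 : nd 10606 = n20177 := ndS (p := 8828) (l := 7) rfl N8828 D20177
theorem N10607 : nd 10607 = n20178 := ndS (p := 8828) (l := 8) rfl N8828 D20178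
theorem N10608 : nd 10608 = n20179 := ndS (p := 8829) (l := 6) rfl N8829 D20179
theorem N10609 : nd 10609 = n20180 := ndS (p := 8829) (l := 8) rfl N8829 D20180
theorem N10610 : nd 10610 = n20182 := ndS (p := 8831) (l := 8) rfl N8831 D20182
theorem N10611 : nd 10611 = n20183 := ndS (p := 8832) (l := 9) rfl N8832 D20183
theorem N10612 : nd 10612 = n20184 := ndS (p := 8834) (l := 2) rfl N8834 D20184
theorem N10613 : nd 10613 = n20185 := ndS (p := 8834) (l := 6) rfl N8834 D20185
theorem N10614 : nd 10614 = n20186 := ndS (p := 8835) (l := 5) rfl N8835 D20186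
theorem N10615 : nd 10615 = n20187 := ndS (p := 8835) (l := 7) rfl N8835 D20187
theorem N10616 : nd 10616 = n20188 := ndS (p := 8837) (l := 2) rfl N8837 D20188
theorem N10617 : nd 10617 = n20189 := ndS (p := 8837) (l := 6) rfl N8837 D20189
theorem N10618 : nd 10618 = n20190 := ndS (p := 8838) (l := 5) rfl N8838 D20190
theorem N10619 : nd 10619 = n20191 := ndS (p := 8838) (l := 7) rfl N8838 D20191
theorem N10620 : nd 10620 = n20192 := ndS (p := 8840) (l := 1) rfl N8840 D20192
theorem N10621 : nd 10621 = n20193 := ndS (p := 8840) (l := 6) rfl N8840 D20193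
theorem N10622 : nd 10622 = n20194 := ndS (p := 8841) (l := 5) rfl N8841 D20194
theorem N10623 : nd 10623 = n20195 := ndS (p := 8841) (l := 7) rfl N8841 D20195
theorem N10624 : nd 10624 = n20196 := ndS (p := 8842) (l := 7) rfl N8842 D20196
theorem N10625 : nd 10625 = n20197 := ndS (p := 8842) (l := 8) rfl N8842 D20197
theorem N10626 : nd 10626 = n20198 := ndS (p := 8844) (l := 2) rfl N8844 D20198
theorem N10627 : nd 10627 = n20199 := ndS (p := 8844) (l := 6) rfl N8844 D20199
theorem N10628 : nd 10628 = n20200 := ndS (p := 8845) (l := 5) rfl N8845 D20200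
theorem N10629 : nd 10629 = n20201 := ndS (p := 8845) (l := 7) rfl N8845 D20201
theorem N10630 : nd 10630 = n20202 := ndS (p := 8847) (l := 2) rfl N8847 D20202
theorem N10631 : nd 10631 = n20203 := ndS (p := 8847) (l := 6) rfl N8847 D20203
theorem N10632 : nd 10632 = n20204 := ndS (p := 8848) (l := 5) rfl N8848 D20204
theorem N10633 : nd 10633 = n20205 := ndS (p := 8848) (l := 7) rfl N8848 D20205
theorem N10634 : nd 10634 = n20206 := ndS (p := 8850) (l := 1) rfl N8850 D20206
theorem N10635 : nd 10635 = n20207 := ndS (p := 8850) (l := 6) rfl N8850 D20207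
theorem N10636 : nd 10636 = n20208 := ndS (p := 8851) (l := 5) rfl N8851 D20208
theorem N10637 : nd 10637 = n20209 := ndS (p := 8851) (l := 7) rfl N8851 D20209
theorem N10638 : nd 10638 = n20210 := ndS (p := 8852) (l := 7) rfl N8852 D20210
theorem N10639 : nd 10639 = n20211 := ndS (p := 8852) (l := 8) rfl N8852 D20211
theorem N10640 : nd 10640 = n20212 := ndS (p := 8854) (l := 1) rfl N8854 D20212
theorem N10641 : nd 10641 = n20213 := ndS (p := 8854) (l := 6) rfl N8854 D20213
theorem N10642 : nd 10642 = n20214 := ndS (p := 8855) (l := 5) rfl N8855 D20214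
theorem N10643 : nd 10643 = n20215 := ndS (p := 8855) (l := 7) rfl N8855 D20215
theorem N10644 : nd 10644 = n20216 := ndS (p := 8856) (l := 7) rfl N8856 D20216
theorem N10645 : nd 10645 = n20217 := ndS (p := 8856) (l := 8) rfl N8856 D20217
theorem N10646 : nd 10646 = n20218 := ndS (p := 8858) (l := 0) rfl N8858 D20218
theorem N10647 : nd 10647 = n20219 := ndS (p := 8858) (l := 6) rfl N8858 D20219
theorem N10648 : nd 10648 = n20220 := ndS (p := 8859) (l := 5) rfl N8859 D20220
theorem N10649 : nd 10649 = n20221 := ndS (p := 8859) (l := 7) rfl N8859 D20221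
theorem N10650 : nd 10650 = n20222 := ndS (p := 8860) (l := 4) rfl N8860 D20222
theorem N10651 : nd 10651 = n20223 := ndS (p := 8860) (l := 7) rfl N8860 D20223
theorem N10652 : nd 10652 = n20224 := ndS (p := 8860) (l := 8) rfl N8860 D20224
theorem N10653 : nd 10653 = n20225 := ndS (p := 8862) (l := 6) rfl N8862 D20225
theorem N10654 : nd 10654 = n20226 := ndS (p := 8862) (l := 8) rfl N8862 D20226
theorem N10655 : nd 10655 = n20227 := ndS (p := 8863) (l := 9) rfl N8863 D20227
theorem N10656 : nd 10656 = n20228 := ndS (p := 8864) (l := 0) rfl N8864 D20228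
theorem N10657 : nd 10657 = n20229 := ndS (p := 8864) (l := 6) rfl N8864 D20229
theorem N10658 : nd 10658 = n20230 := ndS (p := 8865) (l := 5) rfl N8865 D20230
theorem N10659 : nd 10659 = n20231 := ndS (p := 8865) (l := 7) rfl N8865 D20231
theorem N10660 : nd 10660 = n20232 := ndS (p := 8866) (l := 4) rfl N8866 D20232
theorem N10661 : nd 10661 = n20233 := ndS (p := 8866) (l := 7) rfl N8866 D20233
theorem N10662 : nd 10662 = n20234 := ndS (p := 8866) (l := 8) rfl N8866 D20234
theorem N10663 : nd 10663 = n20235 := ndS (p := 8868) (l := 6) rfl N8868 D20235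
theorem N10664 : nd 10664 = n20236 := ndS (p := 8868) (l := 8) rfl N8868 D20236
theorem N10665 : nd 10665 = n20237 := ndS (p := 8869) (l := 9) rfl N8869 D20237
theorem N10666 : nd 10666 = n20238 := ndS (p := 8870) (l := 6) rfl N8870 D20238
theorem N10667 : nd 10667 = n20239 := ndS (p := 8871) (l := 5) rfl N8871 D20239
theorem N10668 : nd 10668 = n20240 := ndS (p := 8871) (l := 7) rfl N8871 D20240
theorem N10669 : nd 10669 = n20241 := ndS (p := 8872) (l := 7) rfl N8872 D20241
theorem N10670 : nd 10670 = n20242 := ndS (p := 8872) (l := 8) rfl N8872 D20242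
theorem N10671 : nd 10671 = n20243 := ndS (p := 8874) (l := 6) rfl N8874 D20243
theorem N10672 : nd 10672 = n20244 := ndS (p := 8874) (l := 8) rfl N8874 D20244
theorem N10673 : nd 10673 = n20245 := ndS (p := 8875) (l := 9) rfl N8875 D20245
theorem N10674 : nd 10674 = n20246 := ndS (p := 8876) (l := 8) rfl N8876 D20246
theorem N10675 : nd 10675 = n20247 := ndS (p := 8877) (l := 9) rfl N8877 D20247
theorem N10676 : nd 10676 = n20248 := ndS (p := 8879) (l := 5) rfl N8879 D20248
theorem N10677 : nd 10677 = n20249 := ndS (p := 8879) (l := 9) rfl N8879 D20249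
theorem N10678 : nd 10678 = n20250 := ndS (p := 8881) (l := 1) rfl N8881 D20250
theorem N10679 : nd 10679 = n20251 := ndS (p := 8881) (l := 6) rfl N8881 D20251
theorem N10680 : nd 10680 = n20252 := ndS (p := 8882) (l := 5) rfl N8882 D20252
theorem N10681 : nd 10681 = n20253 := ndS (p := 8882) (l := 7) rfl N8882 D20253
theorem N10682 : nd 10682 = n20254 := ndS (p := 8883) (l := 7) rfl N8883 D20254
theorem N10683 : nd 10683 = n20255 := ndS (p := 8883) (l := 8) rfl N8883 D20255
theorem N10684 : nd 10684 = n20256 := ndS (p := 8885) (l := 1) rfl N8885 D20256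
theorem N10685 : nd 10685 = n20257 := ndS (p := 8885) (l := 6) rfl N8885 D20257
theorem N10686 : nd 10686 = n20258 := ndS (p := 8886) (l := 5) rfl N8886 D20258
theorem N10687 : nd 10687 = n20259 := ndS (p := 8886) (l := 7) rfl N8886 D20259
theorem N10688 : nd 10688 = n20260 := ndS (p := 8887) (l := 7) rfl N8887 D20260
theorem N10689 : nd 10689 = n20261 := ndS (p := 8887) (l := 8) rfl N8887 D20261
theorem N10690 : nd 10690 = n20262 := ndS (p := 8889) (l := 0) rfl N8889 D20262
theorem N10691 : nd 10691 = n20263 := ndS (p := 8889) (l := 6) rfl N8889 D20263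
theorem N10692 : nd 10692 = n20264 := ndS (p := 8890) (l := 5) rfl N8890 D20264
theorem N10693 : nd 10693 = n20265 := ndS (p := 8890) (l := 7) rfl N8890 D20265
theorem N10694 : nd 10694 = n20266 := ndS (p := 8891) (l := 4) rfl N8891 D20266
theorem N10695 : nd 10695 = n20267 := ndS (p := 8891) (l := 7) rfl N8891 D20267
theorem N10696 : nd 10696 = n20268 := ndS (p := 8891) (l := 8) rfl N8891 D20268
theorem N10697 : nd 10697 = n20269 := ndS (p := 8893) (l := 6) rfl N8893 D20269
theorem N10698 : nd 10698 = n20270 := ndS (p := 8893) (l := 8) rfl N8893 D20270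
theorem N10699 : nd 10699 = n20271 := ndS (p := 8894) (l := 9) rfl N8894 D20271
theorem N10700 : nd 10700 = n20272 := ndS (p := 8895) (l := 0) rfl N8895 D20272
theorem N10701 : nd 10701 = n20273 := ndS (p := 8895) (l := 6) rfl N8895 D20273
theorem N10702 : nd 10702 = n20274 := ndS (p := 8896) (l := 5) rfl N8896 D20274
theorem N10703 : nd 10703 = n20275 := ndS (p := 8896) (l := 7) rfl N8896 D20275
theorem N10704 : nd 10704 = n20276 := ndS (p := 8897) (l := 4) rfl N8897 D20276
theorem N10705 : nd 10705 = n20277 := ndS (p := 8897) (l := 7) rfl N8897 D20277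
theorem N10706 : nd 10706 = n20278 := ndS (p := 8897) (l := 8) rfl N8897 D20278
theorem N10707 : nd 10707 = n20279 := ndS (p := 8899) (l := 6) rfl N8899 D20279
theorem N10708 : nd 10708 = n20280 := ndS (p := 8899) (l := 8) rfl N8899 D20280
theorem N10709 : nd 10709 = n20281 := ndS (p := 8901) (l := 6) rfl N8901 D20281
theorem N10710 : nd 10710 = n20282 := ndS (p := 8902) (l := 5) rfl N8902 D20282
theorem N10711 : nd 10711 = n20283 := ndS (p := 8902) (l := 7) rfl N8902 D20283
theorem N10712 : nd 10712 = n20284 := ndS (p := 8903) (l := 4) rfl N8903 D20284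
theorem N10713 : nd 10713 = n20285 := ndS (p := 8903) (l := 7) rfl N8903 D20285
theorem N10714 : nd 10714 = n20286 := ndS (p := 8905) (l := 7) rfl N8905 D20286
theorem N10715 : nd 10715 = n20287 := ndS (p := 8906) (l := 6) rfl N8906 D20287
theorem N10716 : nd 10716 = n20290 := ndS (p := 8909) (l := 7) rfl N8909 D20290
theorem N10717 : nd 10717 = n20292 := ndS (p := 8910) (l := 7) rfl N8910 D20292
theorem N10718 : nd 10718 = n20294 := ndS (p := 8912) (l := 7) rfl N8912 D20294
theorem N10719 : nd 10719 = n20295 := ndS (p := 8913) (l := 8) rfl N8913 D20295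
theorem N10720 : nd 10720 = n20296 := ndS (p := 8915) (l := 9) rfl N8915 D20296
theorem N10721 : nd 10721 = n20297 := ndS (p := 8917) (l := 7) rfl N8917 D20297
theorem N10722 : nd 10722 = n20298 := ndS (p := 8919) (l := 3) rfl N8919 D20298
theorem N10723 : nd 10723 = n20299 := ndS (p := 8919) (l := 6) rfl N8919 D20299
theorem N10724 : nd 10724 = n20300 := ndS (p := 8920) (l := 7) rfl N8920 D20300
theorem N10725 : nd 10725 = n20302 := ndS (p := 8921) (l := 6) rfl N8921 D20302
theorem N10726 : nd 10726 = n20303 := ndS (p := 8922) (l := 5) rfl N8922 D20303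
theorem N10727 : nd 10727 = n20304 := ndS (p := 8922) (l := 7) rfl N8922 D20304
theorem N10728 : nd 10728 = n20306 := ndS (p := 8924) (l := 6) rfl N8924 D20306
theorem N10729 : nd 10729 = n20308 := ndS (p := 8925) (l := 7) rfl N8925 D20308
theorem N10730 : nd 10730 = n20312 := ndS (p := 8927) (l := 7) rfl N8927 D20312
theorem N10731 : nd 10731 = n20324 := ndS (p := 8930) (l := 2) rfl N8930 D20324
theorem N10732 : nd 10732 = n20325 := ndS (p := 8930) (l := 6) rfl N8930 D20325
theorem N10733 : nd 10733 = n20326 := ndS (p := 8931) (l := 5) rfl N8931 D20326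
theorem N10734 : nd 10734 = n20327 := ndS (p := 8931) (l := 7) rfl N8931 D20327
theorem N10735 : nd 10735 = n20328 := ndS (p := 8933) (l := 2) rfl N8933 D20328
theorem N10736 : nd 10736 = n20329 := ndS (p := 8933) (l := 6) rfl N8933 D20329
theorem N10737 : nd 10737 = n20330 := ndS (p := 8934) (l := 5) rfl N8934 D20330
theorem N10738 : nd 10738 = n20331 := ndS (p := 8934) (l := 7) rfl N8934 D20331
theorem N10739 : nd 10739 = n20332 := ndS (p := 8936) (l := 2) rfl N8936 D20332
theorem N10740 : nd 10740 = n20333 := ndS (p := 8936) (l := 6) rfl N8936 D20333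
theorem N10741 : nd 10741 = n20334 := ndS (p := 8937) (l := 5) rfl N8937 D20334
theorem N10742 : nd 10742 = n20335 := ndS (p := 8937) (l := 7) rfl N8937 D20335
theorem N10743 : nd 10743 = n20336 := ndS (p := 8939) (l := 1) rfl N8939 D20336
theorem N10744 : nd 10744 = n20337 := ndS (p := 8939) (l := 6) rfl N8939 D20337
theorem N10745 : nd 10745 = n20338 := ndS (p := 8940) (l := 5) rfl N8940 D20338
theorem N10746 : nd 10746 = n20339 := ndS (p := 8940) (l := 7) rfl N8940 D20339
theorem N10747 : nd 10747 = n20340 := ndS (p := 8941) (l := 7) rfl N8941 D20340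
theorem N10748 : nd 10748 = n20341 := ndS (p := 8941) (l := 8) rfl N8941 D20341
theorem N10749 : nd 10749 = n20343 := ndS (p := 8943) (l := 6) rfl N8943 D20343
theorem N10750 : nd 10750 = n20344 := ndS (p := 8944) (l := 5) rfl N8944 D20344
theorem N10751 : nd 10751 = n20345 := ndS (p := 8944) (l := 7) rfl N8944 D20345
theorem N10752 : nd 10752 = n20346 := ndS (p := 8945) (l := 7) rfl N8945 D20346
theorem N10753 : nd 10753 = n20347 := ndS (p := 8945) (l := 8) rfl N8945 D20347
theorem N10754 : nd 10754 = n20351 := ndS (p := 8948) (l := 7) rfl N8948 D20351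
theorem N10755 : nd 10755 = n20353 := ndS (p := 8949) (l := 7) rfl N8949 D20353
theorem N10756 : nd 10756 = n20354 := ndS (p := 8949) (l := 8) rfl N8949 D20354
theorem N10757 : nd 10757 = n20356 := ndS (p := 8951) (l := 8) rfl N8951 D20356
theorem N10758 : nd 10758 = n20368 := ndS (p := 8954) (l := 3) rfl N8954 D20368
theorem N10759 : nd 10759 = n20369 := ndS (p := 8954) (l := 6) rfl N8954 D20369
theorem N10760 : nd 10760 = n20370 := ndS (p := 8955) (l := 7) rfl N8955 D20370
theorem N10761 : nd 10761 = n20371 := ndS (p := 8956) (l := 2) rfl N8956 D20371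
theorem N10762 : nd 10762 = n20372 := ndS (p := 8956) (l := 6) rfl N8956 D20372
theorem N10763 : nd 10763 = n20373 := ndS (p := 8957) (l := 5) rfl N8957 D20373
theorem N10764 : nd 10764 = n20374 := ndS (p := 8957) (l := 7) rfl N8957 D20374
theorem N10765 : nd 10765 = n20375 := ndS (p := 8959) (l := 2) rfl N8959 D20375
theorem N10766 : nd 10766 = n20376 := ndS (p := 8959) (l := 6) rfl N8959 D20376
theorem N10767 : nd 10767 = n20377 := ndS (p := 8960) (l := 5) rfl N8960 D20377
theorem N10768 : nd 10768 = n20378 := ndS (p := 8960) (l := 7) rfl N8960 D20378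
theorem N10769 : nd 10769 = n20379 := ndS (p := 8962) (l := 2) rfl N8962 D20379
theorem N10770 : nd 10770 = n20380 := ndS (p := 8962) (l := 6) rfl N8962 D20380
theorem N10771 : nd 10771 = n20381 := ndS (p := 8963) (l := 5) rfl N8963 D20381
theorem N10772 : nd 10772 = n20382 := ndS (p := 8963) (l := 7) rfl N8963 D20382
theorem N10773 : nd 10773 = n20383 := ndS (p := 8965) (l := 1) rfl N8965 D20383
theorem N10774 : nd 10774 = n20384 := ndS (p := 8965) (l := 6) rfl N8965 D20384
theorem N10775 : nd 10775 = n20385 := ndS (p := 8966) (l := 5) rfl N8966 D20385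
theorem N10776 : nd 10776 = n20386 := ndS (p := 8966) (l := 7) rfl N8966 D20386
theorem N10777 : nd 10777 = n20387 := ndS (p := 8967) (l := 7) rfl N8967 D20387
theorem N10778 : nd 10778 = n20388 := ndS (p := 8967) (l := 8) rfl N8967 D20388
theorem N10779 : nd 10779 = n20389 := ndS (p := 8969) (l := 2) rfl N8969 D20389
theorem N10780 : nd 10780 = n20390 := ndS (p := 8969) (l := 6) rfl N8969 D20390
theorem N10781 : nd 10781 = n20391 := ndS (p := 8970) (l := 5) rfl N8970 D20391
theorem N10782 : nd 10782 = n20392 := ndS (p := 8970) (l := 7) rfl N8970 D20392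
theorem N10783 : nd 10783 = n20395 := ndS (p := 8973) (l := 5) rfl N8973 D20395
theorem N10784 : nd 10784 = n20396 := ndS (p := 8973) (l := 7) rfl N8973 D20396
theorem N10785 : nd 10785 = n20397 := ndS (p := 8974) (l := 7) rfl N8974 D20397
theorem N10786 : nd 10786 = n20398 := ndS (p := 8974) (l := 8) rfl N8974 D20398
theorem N10787 : nd 10787 = n20399 := ndS (p := 8976) (l := 1) rfl N8976 D20399
theorem N10788 : nd 10788 = n20400 := ndS (p := 8976) (l := 6) rfl N8976 D20400
theorem N10789 : nd 10789 = n20401 := ndS (p := 8977) (l := 5) rfl N8977 D20401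
theorem N10790 : nd 10790 = n20402 := ndS (p := 8977) (l := 7) rfl N8977 D20402
theorem N10791 : nd 10791 = n20403 := ndS (p := 8978) (l := 7) rfl N8978 D20403
theorem N10792 : nd 10792 = n20404 := ndS (p := 8978) (l := 8) rfl N8978 D20404
theorem N10793 : nd 10793 = n20406 := ndS (p := 8980) (l := 6) rfl N8980 D20406
theorem N10794 : nd 10794 = n20407 := ndS (p := 8981) (l := 5) rfl N8981 D20407
theorem N10795 : nd 10795 = n20408 := ndS (p := 8981) (l := 7) rfl N8981 D20408
theorem N10796 : nd 10796 = n20409 := ndS (p := 8982) (l := 4) rfl N8982 D20409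
theorem N10797 : nd 10797 = n20410 := ndS (p := 8982) (l := 7) rfl N8982 D20410
theorem N10798 : nd 10798 = n20411 := ndS (p := 8982) (l := 8) rfl N8982 D20411
theorem N10799 : nd 10799 = n20412 := ndS (p := 8984) (l := 6) rfl N8984 D20412
theorem N10800 : nd 10800 = n20413 := ndS (p := 8984) (l := 8) rfl N8984 D20413
theorem N10801 : nd 10801 = n20414 := ndS (p := 8985) (l := 9) rfl N8985 D20414
theorem N10802 : nd 10802 = n20422 := ndS (p := 8987) (l := 6) rfl N8987 D20422
theorem N10803 : nd 10803 = n20423 := ndS (p := 8987) (l := 8) rfl N8987 D20423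
theorem N10804 : nd 10804 = n20424 := ndS (p := 8988) (l := 9) rfl N8988 D20424
theorem N10805 : nd 10805 = n20427 := ndS (p := 8989) (l := 7) rfl N8989 D20427
theorem N10806 : nd 10806 = n20428 := ndS (p := 8990) (l := 4) rfl N8990 D20428
theorem N10807 : nd 10807 = n20429 := ndS (p := 8990) (l := 7) rfl N8990 D20429
theorem N10808 : nd 10808 = n20430 := ndS (p := 8990) (l := 8) rfl N8990 D20430
theorem N10809 : nd 10809 = n20431 := ndS (p := 8992) (l := 7) rfl N8992 D20431
theorem N10810 : nd 10810 = n20432 := ndS (p := 8992) (l := 8) rfl N8992 D20432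
theorem N10811 : nd 10811 = n20434 := ndS (p := 8993) (l := 8) rfl N8993 D20434
theorem N10812 : nd 10812 = n20435 := ndS (p := 8994) (l := 9) rfl N8994 D20435
theorem N10813 : nd 10813 = n20436 := ndS (p := 8995) (l := 8) rfl N8995 D20436
theorem N10814 : nd 10814 = n20437 := ndS (p := 8996) (l := 9) rfl N8996 D20437
theorem N10815 : nd 10815 = n20439 := ndS (p := 8998) (l := 8) rfl N8998 D20439
theorem N10816 : nd 10816 = n20440 := ndS (p := 8999) (l := 5) rfl N8999 D20440
theorem N10817 : nd 10817 = n20444 := ndS (p := 9001) (l := 5) rfl N9001 D20444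
theorem N10818 : nd 10818 = n20445 := ndS (p := 9001) (l := 9) rfl N9001 D20445
theorem N10819 : nd 10819 = n20446 := ndS (p := 9003) (l := 2) rfl N9003 D20446
theorem N10820 : nd 10820 = n20447 := ndS (p := 9003) (l := 6) rfl N9003 D20447
theorem N10821 : nd 10821 = n20448 := ndS (p := 9004) (l := 5) rfl N9004 D20448
theorem N10822 : nd 10822 = n20449 := ndS (p := 9004) (l := 7) rfl N9004 D20449
theorem N10823 : nd 10823 = n20451 := ndS (p := 9006) (l := 6) rfl N9006 D20451
theorem N10824 : nd 10824 = n20452 := ndS (p := 9007) (l := 5) rfl N9007 D20452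
theorem N10825 : nd 10825 = n20453 := ndS (p := 9007) (l := 7) rfl N9007 D20453
theorem N10826 : nd 10826 = n20454 := ndS (p := 9008) (l := 7) rfl N9008 D20454
theorem N10827 : nd 10827 = n20455 := ndS (p := 9008) (l := 8) rfl N9008 D20455
theorem N10828 : nd 10828 = n20456 := ndS (p := 9010) (l := 1) rfl N9010 D20456
theorem N10829 : nd 10829 = n20457 := ndS (p := 9010) (l := 6) rfl N9010 D20457
theorem N10830 : nd 10830 = n20458 := ndS (p := 9011) (l := 5) rfl N9011 D20458
theorem N10831 : nd 10831 = n20459 := ndS (p := 9011) (l := 7) rfl N9011 D20459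
theorem N10832 : nd 10832 = n20460 := ndS (p := 9012) (l := 7) rfl N9012 D20460
theorem N10833 : nd 10833 = n20461 := ndS (p := 9012) (l := 8) rfl N9012 D20461
theorem N10834 : nd 10834 = n20463 := ndS (p := 9014) (l := 6) rfl N9014 D20463
theorem N10835 : nd 10835 = n20464 := ndS (p := 9015) (l := 5) rfl N9015 D20464
theorem N10836 : nd 10836 = n20465 := ndS (p := 9015) (l := 7) rfl N9015 D20465
theorem N10837 : nd 10837 = n20466 := ndS (p := 9016) (l := 4) rfl N9016 D20466
theorem N10838 : nd 10838 = n20467 := ndS (p := 9016) (l := 7) rfl N9016 D20467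
theorem N10839 : nd 10839 = n20468 := ndS (p := 9016) (l := 8) rfl N9016 D20468
theorem N10840 : nd 10840 = n20469 := ndS (p := 9018) (l := 6) rfl N9018 D20469
theorem N10841 : nd 10841 = n20470 := ndS (p := 9018) (l := 8) rfl N9018 D20470
theorem N10842 : nd 10842 = n20471 := ndS (p := 9019) (l := 9) rfl N9019 D20471
theorem N10843 : nd 10843 = n20472 := ndS (p := 9020) (l := 1) rfl N9020 D20472
theorem N10844 : nd 10844 = n20473 := ndS (p := 9020) (l := 6) rfl N9020 D20473
theorem N10845 : nd 10845 = n20474 := ndS (p := 9021) (l := 5) rfl N9021 D20474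
theorem N10846 : nd 10846 = n20475 := ndS (p := 9021) (l := 7) rfl N9021 D20475
theorem N10847 : nd 10847 = n20476 := ndS (p := 9022) (l := 7) rfl N9022 D20476
theorem N10848 : nd 10848 = n20477 := ndS (p := 9022) (l := 8) rfl N9022 D20477
theorem N10849 : nd 10849 = n20482 := ndS (p := 9024) (l := 4) rfl N9024 D20482
theorem N10850 : nd 10850 = n20483 := ndS (p := 9024) (l := 7) rfl N9024 D20483
theorem N10851 : nd 10851 = n20485 := ndS (p := 9026) (l := 6) rfl N9026 D20485
theorem N10852 : nd 10852 = n20486 := ndS (p := 9026) (l := 8) rfl N9026 D20486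
theorem N10853 : nd 10853 = n20487 := ndS (p := 9027) (l := 9) rfl N9027 D20487
theorem N10854 : nd 10854 = n20489 := ndS (p := 9028) (l := 6) rfl N9028 D20489
theorem N10855 : nd 10855 = n20490 := ndS (p := 9029) (l := 5) rfl N9029 D20490
theorem N10856 : nd 10856 = n20491 := ndS (p := 9029) (l := 7) rfl N9029 D20491
theorem N10857 : nd 10857 = n20492 := ndS (p := 9030) (l := 4) rfl N9030 D20492
theorem N10858 : nd 10858 = n20493 := ndS (p := 9030) (l := 7) rfl N9030 D20493
theorem N10859 : nd 10859 = n20494 := ndS (p := 9030) (l := 8) rfl N9030 D20494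
theorem N10860 : nd 10860 = n20495 := ndS (p := 9032) (l := 6) rfl N9032 D20495
theorem N10861 : nd 10861 = n20496 := ndS (p := 9032) (l := 8) rfl N9032 D20496
theorem N10862 : nd 10862 = n20497 := ndS (p := 9033) (l := 9) rfl N9033 D20497
theorem N10863 : nd 10863 = n20499 := ndS (p := 9034) (l := 5) rfl N9034 D20499
theorem N10864 : nd 10864 = n20501 := ndS (p := 9035) (l := 4) rfl N9035 D20501
theorem N10865 : nd 10865 = n20502 := ndS (p := 9035) (l := 7) rfl N9035 D20502
theorem N10866 : nd 10866 = n20503 := ndS (p := 9035) (l := 8) rfl N9035 D20503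
theorem N10867 : nd 10867 = n20504 := ndS (p := 9037) (l := 7) rfl N9037 D20504
theorem N10868 : nd 10868 = n20505 := ndS (p := 9037) (l := 8) rfl N9037 D20505
theorem N10869 : nd 10869 = n20506 := ndS (p := 9038) (l := 6) rfl N9038 D20506
theorem N10870 : nd 10870 = n20507 := ndS (p := 9038) (l := 8) rfl N9038 D20507
theorem N10871 : nd 10871 = n20508 := ndS (p := 9039) (l := 9) rfl N9039 D20508
theorem N10872 : nd 10872 = n20509 := ndS (p := 9040) (l := 8) rfl N9040 D20509
theorem N10873 : nd 10873 = n20510 := ndS (p := 9041) (l := 9) rfl N9041 D20510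
theorem N10874 : nd 10874 = n20522 := ndS (p := 9043) (l := 8) rfl N9043 D20522
theorem N10875 : nd 10875 = n20523 := ndS (p := 9044) (l := 9) rfl N9044 D20523
theorem N10876 : nd 10876 = n20527 := ndS (p := 9046) (l := 8) rfl N9046 D20527
theorem N10877 : nd 10877 = n20529 := ndS (p := 9047) (l := 8) rfl N9047 D20529
theorem N10878 : nd 10878 = n20530 := ndS (p := 9048) (l := 9) rfl N9048 D20530
theorem N10879 : nd 10879 = n20531 := ndS (p := 9049) (l := 8) rfl N9049 D20531
theorem N10880 : nd 10880 = n20532 := ndS (p := 9050) (l := 9) rfl N9050 D20532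
theorem N10881 : nd 10881 = n20533 := ndS (p := 9052) (l := 5) rfl N9052 D20533
theorem N10882 : nd 10882 = n20534 := ndS (p := 9052) (l := 9) rfl N9052 D20534
theorem N10883 : nd 10883 = n20535 := ndS (p := 9054) (l := 4) rfl N9054 D20535
theorem N10884 : nd 10884 = n20536 := ndS (p := 9054) (l := 9) rfl N9054 D20536
theorem N10885 : nd 10885 = n20537 := ndS (p := 9056) (l := 0) rfl N9056 D20537
theorem N10886 : nd 10886 = n20538 := ndS (p := 9056) (l := 6) rfl N9056 D20538
theorem N10887 : nd 10887 = n20539 := ndS (p := 9057) (l := 5) rfl N9057 D20539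
theorem N10888 : nd 10888 = n20540 := ndS (p := 9057) (l := 7) rfl N9057 D20540
theorem N10889 : nd 10889 = n20541 := ndS (p := 9058) (l := 4) rfl N9058 D20541
theorem N10890 : nd 10890 = n20542 := ndS (p := 9058) (l := 7) rfl N9058 D20542
theorem N10891 : nd 10891 = n20543 := ndS (p := 9058) (l := 8) rfl N9058 D20543
theorem N10892 : nd 10892 = n20544 := ndS (p := 9060) (l := 6) rfl N9060 D20544
theorem N10893 : nd 10893 = n20545 := ndS (p := 9060) (l := 8) rfl N9060 D20545
theorem N10894 : nd 10894 = n20552 := ndS (p := 9062) (l := 7) rfl N9062 D20552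
theorem N10895 : nd 10895 = n20554 := ndS (p := 9063) (l := 6) rfl N9063 D20554
theorem N10896 : nd 10896 = n20556 := ndS (p := 9064) (l := 8) rfl N9064 D20556
theorem N10897 : nd 10897 = n20558 := ndS (p := 9066) (l := 5) rfl N9066 D20558
theorem N10898 : nd 10898 = n20560 := ndS (p := 9067) (l := 4) rfl N9067 D20560
theorem N10899 : nd 10899 = n20561 := ndS (p := 9067) (l := 7) rfl N9067 D20561
theorem N10900 : nd 10900 = n20563 := ndS (p := 9069) (l := 7) rfl N9069 D20563
theorem N10901 : nd 10901 = n20564 := ndS (p := 9069) (l := 8) rfl N9069 D20564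
theorem N10902 : nd 10902 = n20565 := ndS (p := 9070) (l := 6) rfl N9070 D20565
theorem N10903 : nd 10903 = n20566 := ndS (p := 9070) (l := 8) rfl N9070 D20566
theorem N10904 : nd 10904 = n20567 := ndS (p := 9072) (l := 8) rfl N9072 D20567
theorem N10905 : nd 10905 = n20570 := ndS (p := 9074) (l := 4) rfl N9074 D20570
theorem N10906 : nd 10906 = n20572 := ndS (p := 9075) (l := 3) rfl N9075 D20572
theorem N10907 : nd 10907 = n20573 := ndS (p := 9075) (l := 7) rfl N9075 D20573
theorem N10908 : nd 10908 = n20574 := ndS (p := 9076) (l := 6) rfl N9076 D20574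
theorem N10909 : nd 10909 = n20575 := ndS (p := 9077) (l := 6) rfl N9077 D20575
theorem N10910 : nd 10910 = n20595 := ndS (p := 9079) (l := 6) rfl N9079 D20595
theorem N10911 : nd 10911 = n20597 := ndS (p := 9080) (l := 7) rfl N9080 D20597
theorem N10912 : nd 10912 = n20601 := ndS (p := 9082) (l := 7) rfl N9082 D20601
theorem N10913 : nd 10913 = n20607 := ndS (p := 9084) (l := 7) rfl N9084 D20607
theorem N10914 : nd 10914 = n20632 := ndS (p := 9087) (l := 1) rfl N9087 D20632
theorem N10915 : nd 10915 = n20633 := ndS (p := 9087) (l := 6) rfl N9087 D20633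
theorem N10916 : nd 10916 = n20634 := ndS (p := 9088) (l := 5) rfl N9088 D20634
theorem N10917 : nd 10917 = n20635 := ndS (p := 9088) (l := 7) rfl N9088 D20635
theorem N10918 : nd 10918 = n20636 := ndS (p := 9089) (l := 7) rfl N9089 D20636
theorem N10919 : nd 10919 = n20637 := ndS (p := 9089) (l := 8) rfl N9089 D20637
theorem N10920 : nd 10920 = n20639 := ndS (p := 9091) (l := 6) rfl N9091 D20639
theorem N10921 : nd 10921 = n20641 := ndS (p := 9092) (l := 7) rfl N9092 D20641
theorem N10922 : nd 10922 = n20642 := ndS (p := 9093) (l := 4) rfl N9093 D20642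
theorem N10923 : nd 10923 = n20643 := ndS (p := 9093) (l := 7) rfl N9093 D20643
theorem N10924 : nd 10924 = n20645 := ndS (p := 9095) (l := 6) rfl N9095 D20645
theorem N10925 : nd 10925 = n20651 := ndS (p := 9096) (l := 7) rfl N9096 D20651
theorem N10926 : nd 10926 = n20653 := ndS (p := 9097) (l := 7) rfl N9097 D20653
theorem N10927 : nd 10927 = n20656 := ndS (p := 9099) (l := 8) rfl N9099 D20656
theorem N10928 : nd 10928 = n20657 := ndS (p := 9100) (l := 9) rfl N9100 D20657
theorem N10929 : nd 10929 = n20686 := ndS (p := 9103) (l := 6) rfl N9103 D20686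
theorem N10930 : nd 10930 = n20687 := ndS (p := 9104) (l := 5) rfl N9104 D20687
theorem N10931 : nd 10931 = n20688 := ndS (p := 9104) (l := 7) rfl N9104 D20688
theorem N10932 : nd 10932 = n20689 := ndS (p := 9105) (l := 4) rfl N9105 D20689
theorem N10933 : nd 10933 = n20690 := ndS (p := 9105) (l := 7) rfl N9105 D20690
theorem N10934 : nd 10934 = n20691 := ndS (p := 9105) (l := 8) rfl N9105 D20691
theorem N10935 : nd 10935 = n20692 := ndS (p := 9107) (l := 6) rfl N9107 D20692
theorem N10936 : nd 10936 = n20693 := ndS (p := 9107) (l := 8) rfl N9107 D20693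
theorem N10937 : nd 10937 = n20694 := ndS (p := 9108) (l := 9) rfl N9108 D20694
theorem N10938 : nd 10938 = n20696 := ndS (p := 9109) (l := 5) rfl N9109 D20696
theorem N10939 : nd 10939 = n20697 := ndS (p := 9109) (l := 7) rfl N9109 D20697
theorem N10940 : nd 10940 = n20699 := ndS (p := 9110) (l := 7) rfl N9110 D20699
theorem N10941 : nd 10941 = n20700 := ndS (p := 9110) (l := 8) rfl N9110 D20700
theorem N10942 : nd 10942 = n20701 := ndS (p := 9112) (l := 7) rfl N9112 D20701
theorem N10943 : nd 10943 = n20702 := ndS (p := 9112) (l := 8) rfl N9112 D20702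
theorem N10944 : nd 10944 = n20703 := ndS (p := 9113) (l := 6) rfl N9113 D20703
theorem N10945 : nd 10945 = n20704 := ndS (p := 9113) (l := 8) rfl N9113 D20704
theorem N10946 : nd 10946 = n20705 := ndS (p := 9114) (l := 9) rfl N9114 D20705
theorem N10947 : nd 10947 = n20706 := ndS (p := 9115) (l := 8) rfl N9115 D20706
theorem N10948 : nd 10948 = n20707 := ndS (p := 9116) (l := 9) rfl N9116 D20707
theorem N10949 : nd 10949 = n20719 := ndS (p := 9118) (l := 8) rfl N9118 D20719
theorem N10950 : nd 10950 = n20720 := ndS (p := 9119) (l := 9) rfl N9119 D20720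
theorem N10951 : nd 10951 = n20726 := ndS (p := 9122) (l := 7) rfl N9122 D20726
theorem N10952 : nd 10952 = n20729 := ndS (p := 9123) (l := 8) rfl N9123 D20729
theorem N10953 : nd 10953 = n20730 := ndS (p := 9124) (l := 9) rfl N9124 D20730
theorem N10954 : nd 10954 = n20736 := ndS (p := 9126) (l := 9) rfl N9126 D20736
theorem N10955 : nd 10955 = n20737 := ndS (p := 9128) (l := 5) rfl N9128 D20737
theorem N10956 : nd 10956 = n20738 := ndS (p := 9128) (l := 9) rfl N9128 D20738
theorem N10957 : nd 10957 = n20750 := ndS (p := 9131) (l := 5) rfl N9131 D20750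
theorem N10958 : nd 10958 = n20753 := ndS (p := 9132) (l := 7) rfl N9132 D20753
theorem N10959 : nd 10959 = n20754 := ndS (p := 9132) (l := 8) rfl N9132 D20754
theorem N10960 : nd 10960 = n20755 := ndS (p := 9134) (l := 7) rfl N9134 D20755
theorem N10961 : nd 10961 = n20756 := ndS (p := 9134) (l := 8) rfl N9134 D20756
theorem N10962 : nd 10962 = n20757 := ndS (p := 9135) (l := 6) rfl N9135 D20757
theorem N10963 : nd 10963 = n20758 := ndS (p := 9135) (l := 8) rfl N9135 D20758
theorem N10964 : nd 10964 = n20759 := ndS (p := 9136) (l := 9) rfl N9136 D20759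
theorem N10965 : nd 10965 = n20760 := ndS (p := 9137) (l := 8) rfl N9137 D20760
theorem N10966 : nd 10966 = n20761 := ndS (p := 9138) (l := 9) rfl N9138 D20761
theorem N10967 : nd 10967 = n20766 := ndS (p := 9140) (l := 8) rfl N9140 D20766
theorem N10968 : nd 10968 = n20770 := ndS (p := 9141) (l := 6) rfl N9141 D20770
theorem N10969 : nd 10969 = n20771 := ndS (p := 9141) (l := 8) rfl N9141 D20771
theorem N10970 : nd 10970 = n20772 := ndS (p := 9142) (l := 9) rfl N9142 D20772
theorem N10971 : nd 10971 = n20773 := ndS (p := 9143) (l := 6) rfl N9143 D20773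
theorem N10972 : nd 10972 = n20774 := ndS (p := 9143) (l := 8) rfl N9143 D20774
theorem N10973 : nd 10973 = n20775 := ndS (p := 9144) (l := 9) rfl N9144 D20775
theorem N10974 : nd 10974 = n20776 := ndS (p := 9145) (l := 8) rfl N9145 D20776
theorem N10975 : nd 10975 = n20777 := ndS (p := 9146) (l := 9) rfl N9146 D20777
theorem N10976 : nd 10976 = n20778 := ndS (p := 9148) (l := 5) rfl N9148 D20778
theorem N10977 : nd 10977 = n20779 := ndS (p := 9148) (l := 9) rfl N9148 D20779
theorem N10978 : nd 10978 = n20796 := ndS (p := 9150) (l := 5) rfl N9150 D20796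
theorem N10979 : nd 10979 = n20797 := ndS (p := 9150) (l := 9) rfl N9150 D20797
theorem N10980 : nd 10980 = n20802 := ndS (p := 9152) (l := 9) rfl N9152 D20802
theorem N10981 : nd 10981 = n20804 := ndS (p := 9153) (l := 9) rfl N9153 D20804
theorem N10982 : nd 10982 = n20805 := ndS (p := 9155) (l := 5) rfl N9155 D20805
theorem N10983 : nd 10983 = n20806 := ndS (p := 9155) (l := 9) rfl N9155 D20806
theorem N10984 : nd 10984 = n20807 := ndS (p := 9157) (l := 4) rfl N9157 D20807
theorem N10985 : nd 10985 = n20808 := ndS (p := 9157) (l := 9) rfl N9157 D20808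
theorem N10986 : nd 10986 = n20818 := ndS (p := 9161) (l := 8) rfl N9161 D20818
theorem N10987 : nd 10987 = n20866 := ndS (p := 9164) (l := 1) rfl N9164 D20866
theorem N10988 : nd 10988 = n20867 := ndS (p := 9164) (l := 6) rfl N9164 D20867
theorem N10989 : nd 10989 = n20868 := ndS (p := 9165) (l := 5) rfl N9165 D20868
theorem N10990 : nd 10990 = n20869 := ndS (p := 9165) (l := 7) rfl N9165 D20869
theorem N10991 : nd 10991 = n20870 := ndS (p := 9166) (l := 7) rfl N9166 D20870
theorem N10992 : nd 10992 = n20877 := ndS (p := 9170) (l := 8) rfl N9170 D20877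
theorem N10993 : nd 10993 = n20897 := ndS (p := 9172) (l := 9) rfl N9172 D20897
theorem N10994 : nd 10994 = n20925 := ndS (p := 9173) (l := 1) rfl N9173 D20925
theorem N10995 : nd 10995 = n20926 := ndS (p := 9173) (l := 6) rfl N9173 D20926
theorem N10996 : nd 10996 = n20927 := ndS (p := 9174) (l := 5) rfl N9174 D20927
theorem N10997 : nd 10997 = n20928 := ndS (p := 9174) (l := 7) rfl N9174 D20928
theorem N10998 : nd 10998 = n20929 := ndS (p := 9175) (l := 7) rfl N9175 D20929
theorem N10999 : nd 10999 = n20930 := ndS (p := 9175) (l := 8) rfl N9175 D20930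
theorem N11000 : nd 11000 = n20934 := ndS (p := 9177) (l := 7) rfl N9177 D20934
theorem N11001 : nd 11001 = n20935 := ndS (p := 9178) (l := 7) rfl N9178 D20935
theorem N11002 : nd 11002 = n20936 := ndS (p := 9178) (l := 8) rfl N9178 D20936
theorem N11003 : nd 11003 = n20938 := ndS (p := 9180) (l := 6) rfl N9180 D20938
theorem N11004 : nd 11004 = n20939 := ndS (p := 9181) (l := 5) rfl N9181 D20939
theorem N11005 : nd 11005 = n20940 := ndS (p := 9181) (l := 7) rfl N9181 D20940
theorem N11006 : nd 11006 = n20941 := ndS (p := 9182) (l := 4) rfl N9182 D20941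
theorem N11007 : nd 11007 = n20942 := ndS (p := 9182) (l := 7) rfl N9182 D20942
theorem N11008 : nd 11008 = n20943 := ndS (p := 9182) (l := 8) rfl N9182 D20943
theorem N11009 : nd 11009 = n20944 := ndS (p := 9184) (l := 6) rfl N9184 D20944
theorem N11010 : nd 11010 = n20945 := ndS (p := 9184) (l := 8) rfl N9184 D20945
theorem N11011 : nd 11011 = n20946 := ndS (p := 9185) (l := 9) rfl N9185 D20946
theorem N11012 : nd 11012 = n20967 := ndS (p := 9187) (l := 8) rfl N9187 D20967
theorem N11013 : nd 11013 = n20969 := ndS (p := 9188) (l := 8) rfl N9188 D20969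
theorem N11014 : nd 11014 = n20972 := ndS (p := 9189) (l := 9) rfl N9189 D20972
theorem N11015 : nd 11015 = n20994 := ndS (p := 9194) (l := 8) rfl N9194 D20994
theorem N11016 : nd 11016 = n20997 := ndS (p := 9195) (l := 9) rfl N9195 D20997
theorem N11017 : nd 11017 = n21000 := ndS (p := 9196) (l := 5) rfl N9196 D21000
theorem N11018 : nd 11018 = n21010 := ndS (p := 9198) (l := 6) rfl N9198 D21010
theorem N11019 : nd 11019 = n21029 := ndS (p := 9201) (l := 8) rfl N9201 D21029
theorem N11020 : nd 11020 = n21035 := ndS (p := 9203) (l := 7) rfl N9203 D21035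
theorem N11021 : nd 11021 = n21036 := ndS (p := 9203) (l := 8) rfl N9203 D21036
theorem N11022 : nd 11022 = n21038 := ndS (p := 9205) (l := 8) rfl N9205 D21038
theorem N11023 : nd 11023 = n21040 := ndS (p := 9206) (l := 8) rfl N9206 D21040
theorem N11024 : nd 11024 = n21041 := ndS (p := 9207) (l := 9) rfl N9207 D21041
theorem N11025 : nd 11025 = n21042 := ndS (p := 9208) (l := 8) rfl N9208 D21042
theorem N11026 : nd 11026 = n21043 := ndS (p := 9209) (l := 9) rfl N9209 D21043
theorem N11027 : nd 11027 = n21080 := ndS (p := 9213) (l := 9) rfl N9213 D21080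
theorem N11028 : nd 11028 = n21081 := ndS (p := 9215) (l := 5) rfl N9215 D21081
theorem N11029 : nd 11029 = n21082 := ndS (p := 9215) (l := 9) rfl N9215 D21082
theorem N11030 : nd 11030 = n21100 := ndS (p := 9217) (l := 5) rfl N9217 D21100
theorem N11031 : nd 11031 = n21109 := ndS (p := 9219) (l := 5) rfl N9219 D21109
theorem N11032 : nd 11032 = n21110 := ndS (p := 9219) (l := 9) rfl N9219 D21110
theorem N11033 : nd 11033 = n21111 := ndS (p := 9221) (l := 4) rfl N9221 D21111
theorem N11034 : nd 11034 = n21112 := ndS (p := 9221) (l := 9) rfl N9221 D21112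
theorem N11035 : nd 11035 = n21327 := ndS (p := 9228) (l := 4) rfl N9228 D21327
theorem N11036 : nd 11036 = n21328 := ndS (p := 9228) (l := 9) rfl N9228 D21328
theorem N11037 : nd 11037 = n21337 := ndS (p := 9230) (l := 9) rfl N9230 D21337
theorem N11038 : nd 11038 = n21413 := ndS (p := 9234) (l := 2) rfl N9234 D21413
theorem N11039 : nd 11039 = n21414 := ndS (p := 9234) (l := 6) rfl N9234 D21414
theorem N11040 : nd 11040 = n21415 := ndS (p := 9235) (l := 5) rfl N9235 D21415
theorem N11041 : nd 11041 = n21416 := ndS (p := 9235) (l := 7) rfl N9235 D21416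
theorem N11042 : nd 11042 = n21417 := ndS (p := 9237) (l := 2) rfl N9237 D21417
theorem N11043 : nd 11043 = n21418 := ndS (p := 9237) (l := 6) rfl N9237 D21418
theorem N11044 : nd 11044 = n21419 := ndS (p := 9238) (l := 5) rfl N9238 D21419
theorem N11045 : nd 11045 = n21420 := ndS (p := 9238) (l := 7) rfl N9238 D21420
theorem N11046 : nd 11046 = n21421 := ndS (p := 9240) (l := 1) rfl N9240 D21421
theorem N11047 : nd 11047 = n21422 := ndS (p := 9240) (l := 6) rfl N9240 D21422
theorem N11048 : nd 11048 = n21423 := ndS (p := 9241) (l := 5) rfl N9241 D21423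
theorem N11049 : nd 11049 = n21424 := ndS (p := 9241) (l := 7) rfl N9241 D21424
theorem N11050 : nd 11050 = n21425 := ndS (p := 9242) (l := 7) rfl N9242 D21425
theorem N11051 : nd 11051 = n21433 := ndS (p := 9244) (l := 6) rfl N9244 D21433
theorem N11052 : nd 11052 = n21436 := ndS (p := 9245) (l := 1) rfl N9245 D21436
theorem N11053 : nd 11053 = n21437 := ndS (p := 9245) (l := 6) rfl N9245 D21437
theorem N11054 : nd 11054 = n21438 := ndS (p := 9246) (l := 5) rfl N9246 D21438
theorem N11055 : nd 11055 = n21439 := ndS (p := 9246) (l := 7) rfl N9246 D21439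
theorem N11056 : nd 11056 = n21440 := ndS (p := 9247) (l := 7) rfl N9247 D21440
theorem N11057 : nd 11057 = n21442 := ndS (p := 9249) (l := 1) rfl N9249 D21442
theorem N11058 : nd 11058 = n21443 := ndS (p := 9249) (l := 6) rfl N9249 D21443
theorem N11059 : nd 11059 = n21444 := ndS (p := 9250) (l := 5) rfl N9250 D21444
theorem N11060 : nd 11060 = n21445 := ndS (p := 9250) (l := 7) rfl N9250 D21445
theorem N11061 : nd 11061 = n21446 := ndS (p := 9251) (l := 7) rfl N9251 D21446
theorem N11062 : nd 11062 = n21447 := ndS (p := 9251) (l := 8) rfl N9251 D21447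
theorem N11063 : nd 11063 = n21448 := ndS (p := 9253) (l := 0) rfl N9253 D21448
theorem N11064 : nd 11064 = n21449 := ndS (p := 9253) (l := 6) rfl N9253 D21449
theorem N11065 : nd 11065 = n21450 := ndS (p := 9254) (l := 5) rfl N9254 D21450
theorem N11066 : nd 11066 = n21451 := ndS (p := 9254) (l := 7) rfl N9254 D21451
theorem N11067 : nd 11067 = n21453 := ndS (p := 9255) (l := 7) rfl N9255 D21453
theorem N11068 : nd 11068 = n21455 := ndS (p := 9257) (l := 6) rfl N9257 D21455
theorem N11069 : nd 11069 = n21468 := ndS (p := 9259) (l := 1) rfl N9259 D21468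
theorem N11070 : nd 11070 = n21469 := ndS (p := 9259) (l := 6) rfl N9259 D21469
theorem N11071 : nd 11071 = n21470 := ndS (p := 9260) (l := 5) rfl N9260 D21470
theorem N11072 : nd 11072 = n21471 := ndS (p := 9260) (l := 7) rfl N9260 D21471
theorem N11073 : nd 11073 = n21472 := ndS (p := 9261) (l := 7) rfl N9261 D21472
theorem N11074 : nd 11074 = n21473 := ndS (p := 9261) (l := 8) rfl N9261 D21473
theorem N11075 : nd 11075 = n21474 := ndS (p := 9263) (l := 1) rfl N9263 D21474
theorem N11076 : nd 11076 = n21475 := ndS (p := 9263) (l := 6) rfl N9263 D21475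
theorem N11077 : nd 11077 = n21476 := ndS (p := 9264) (l := 5) rfl N9264 D21476
theorem N11078 : nd 11078 = n21477 := ndS (p := 9264) (l := 7) rfl N9264 D21477
theorem N11079 : nd 11079 = n21478 := ndS (p := 9265) (l := 7) rfl N9265 D21478
theorem N11080 : nd 11080 = n21479 := ndS (p := 9265) (l := 8) rfl N9265 D21479
theorem N11081 : nd 11081 = n21480 := ndS (p := 9267) (l := 1) rfl N9267 D21480
theorem N11082 : nd 11082 = n21481 := ndS (p := 9267) (l := 6) rfl N9267 D21481
theorem N11083 : nd 11083 = n21482 := ndS (p := 9268) (l := 5) rfl N9268 D21482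
theorem N11084 : nd 11084 = n21483 := ndS (p := 9268) (l := 7) rfl N9268 D21483
theorem N11085 : nd 11085 = n21484 := ndS (p := 9269) (l := 7) rfl N9269 D21484
theorem N11086 : nd 11086 = n21485 := ndS (p := 9269) (l := 8) rfl N9269 D21485
theorem N11087 : nd 11087 = n21486 := ndS (p := 9271) (l := 0) rfl N9271 D21486
theorem N11088 : nd 11088 = n21487 := ndS (p := 9271) (l := 6) rfl N9271 D21487
theorem N11089 : nd 11089 = n21488 := ndS (p := 9272) (l := 5) rfl N9272 D21488
theorem N11090 : nd 11090 = n21489 := ndS (p := 9272) (l := 7) rfl N9272 D21489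
theorem N11091 : nd 11091 = n21490 := ndS (p := 9273) (l := 4) rfl N9273 D21490
theorem N11092 : nd 11092 = n21491 := ndS (p := 9273) (l := 7) rfl N9273 D21491
theorem N11093 : nd 11093 = n21492 := ndS (p := 9273) (l := 8) rfl N9273 D21492
theorem N11094 : nd 11094 = n21493 := ndS (p := 9275) (l := 6) rfl N9275 D21493
theorem N11095 : nd 11095 = n21494 := ndS (p := 9275) (l := 8) rfl N9275 D21494
theorem N11096 : nd 11096 = n21495 := ndS (p := 9276) (l := 9) rfl N9276 D21495
theorem N11097 : nd 11097 = n21496 := ndS (p := 9277) (l := 0) rfl N9277 D21496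
theorem N11098 : nd 11098 = n21497 := ndS (p := 9277) (l := 6) rfl N9277 D21497
theorem N11099 : nd 11099 = n21498 := ndS (p := 9278) (l := 5) rfl N9278 D21498
theorem N11100 : nd 11100 = n21499 := ndS (p := 9278) (l := 7) rfl N9278 D21499
theorem N11101 : nd 11101 = n21500 := ndS (p := 9279) (l := 4) rfl N9279 D21500
theorem N11102 : nd 11102 = n21501 := ndS (p := 9279) (l := 7) rfl N9279 D21501
theorem N11103 : nd 11103 = n21502 := ndS (p := 9279) (l := 8) rfl N9279 D21502
theorem N11104 : nd 11104 = n21503 := ndS (p := 9281) (l := 6) rfl N9281 D21503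
theorem N11105 : nd 11105 = n21504 := ndS (p := 9281) (l := 8) rfl N9281 D21504
theorem N11106 : nd 11106 = n21505 := ndS (p := 9282) (l := 9) rfl N9282 D21505
theorem N11107 : nd 11107 = n21506 := ndS (p := 9283) (l := 6) rfl N9283 D21506
theorem N11108 : nd 11108 = n21507 := ndS (p := 9284) (l := 5) rfl N9284 D21507
theorem N11109 : nd 11109 = n21508 := ndS (p := 9284) (l := 7) rfl N9284 D21508
theorem N11110 : nd 11110 = n21509 := ndS (p := 9285) (l := 4) rfl N9285 D21509
theorem N11111 : nd 11111 = n21510 := ndS (p := 9285) (l := 7) rfl N9285 D21510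
theorem N11112 : nd 11112 = n21511 := ndS (p := 9285) (l := 8) rfl N9285 D21511
theorem N11113 : nd 11113 = n21512 := ndS (p := 9287) (l := 7) rfl N9287 D21512
theorem N11114 : nd 11114 = n21514 := ndS (p := 9288) (l := 6) rfl N9288 D21514
theorem N11115 : nd 11115 = n21515 := ndS (p := 9288) (l := 8) rfl N9288 D21515
theorem N11116 : nd 11116 = n21516 := ndS (p := 9289) (l := 9) rfl N9289 D21516
theorem N11117 : nd 11117 = n21517 := ndS (p := 9290) (l := 8) rfl N9290 D21517
theorem N11118 : nd 11118 = n21518 := ndS (p := 9291) (l := 9) rfl N9291 D21518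
theorem N11119 : nd 11119 = n21519 := ndS (p := 9293) (l := 6) rfl N9293 D21519
theorem N11120 : nd 11120 = n21526 := ndS (p := 9295) (l := 9) rfl N9295 D21526
theorem N11121 : nd 11121 = n21527 := ndS (p := 9297) (l := 0) rfl N9297 D21527
theorem N11122 : nd 11122 = n21528 := ndS (p := 9297) (l := 6) rfl N9297 D21528
theorem N11123 : nd 11123 = n21529 := ndS (p := 9298) (l := 5) rfl N9298 D21529
theorem N11124 : nd 11124 = n21530 := ndS (p := 9298) (l := 7) rfl N9298 D21530
theorem N11125 : nd 11125 = n21531 := ndS (p := 9299) (l := 4) rfl N9299 D21531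
theorem N11126 : nd 11126 = n21532 := ndS (p := 9299) (l := 7) rfl N9299 D21532
theorem N11127 : nd 11127 = n21533 := ndS (p := 9299) (l := 8) rfl N9299 D21533
theorem N11128 : nd 11128 = n21534 := ndS (p := 9301) (l := 6) rfl N9301 D21534
theorem N11129 : nd 11129 = n21535 := ndS (p := 9301) (l := 8) rfl N9301 D21535
theorem N11130 : nd 11130 = n21536 := ndS (p := 9302) (l := 9) rfl N9302 D21536
theorem N11131 : nd 11131 = n21538 := ndS (p := 9303) (l := 6) rfl N9303 D21538
theorem N11132 : nd 11132 = n21539 := ndS (p := 9304) (l := 5) rfl N9304 D21539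
theorem N11133 : nd 11133 = n21540 := ndS (p := 9304) (l := 7) rfl N9304 D21540
theorem N11134 : nd 11134 = n21541 := ndS (p := 9305) (l := 7) rfl N9305 D21541
theorem N11135 : nd 11135 = n21542 := ndS (p := 9305) (l := 8) rfl N9305 D21542
theorem N11136 : nd 11136 = n21543 := ndS (p := 9307) (l := 0) rfl N9307 D21543
theorem N11137 : nd 11137 = n21544 := ndS (p := 9307) (l := 6) rfl N9307 D21544
theorem N11138 : nd 11138 = n21545 := ndS (p := 9308) (l := 5) rfl N9308 D21545
theorem N11139 : nd 11139 = n21546 := ndS (p := 9308) (l := 7) rfl N9308 D21546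
theorem N11140 : nd 11140 = n21547 := ndS (p := 9309) (l := 4) rfl N9309 D21547
theorem N11141 : nd 11141 = n21548 := ndS (p := 9309) (l := 7) rfl N9309 D21548
theorem N11142 : nd 11142 = n21549 := ndS (p := 9309) (l := 8) rfl N9309 D21549
theorem N11143 : nd 11143 = n21550 := ndS (p := 9311) (l := 6) rfl N9311 D21550
theorem N11144 : nd 11144 = n21551 := ndS (p := 9311) (l := 8) rfl N9311 D21551
theorem N11145 : nd 11145 = n21552 := ndS (p := 9312) (l := 9) rfl N9312 D21552
theorem N11146 : nd 11146 = n21553 := ndS (p := 9313) (l := 0) rfl N9313 D21553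
theorem N11147 : nd 11147 = n21554 := ndS (p := 9313) (l := 6) rfl N9313 D21554
theorem N11148 : nd 11148 = n21555 := ndS (p := 9314) (l := 5) rfl N9314 D21555
theorem N11149 : nd 11149 = n21556 := ndS (p := 9314) (l := 7) rfl N9314 D21556
theorem N11150 : nd 11150 = n21557 := ndS (p := 9315) (l := 4) rfl N9315 D21557
theorem N11151 : nd 11151 = n21558 := ndS (p := 9315) (l := 7) rfl N9315 D21558
theorem N11152 : nd 11152 = n21559 := ndS (p := 9315) (l := 8) rfl N9315 D21559
theorem N11153 : nd 11153 = n21560 := ndS (p := 9317) (l := 6) rfl N9317 D21560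
theorem N11154 : nd 11154 = n21561 := ndS (p := 9317) (l := 8) rfl N9317 D21561
theorem N11155 : nd 11155 = n21562 := ndS (p := 9318) (l := 9) rfl N9318 D21562
theorem N11156 : nd 11156 = n21563 := ndS (p := 9319) (l := 6) rfl N9319 D21563
theorem N11157 : nd 11157 = n21564 := ndS (p := 9320) (l := 5) rfl N9320 D21564
theorem N11158 : nd 11158 = n21565 := ndS (p := 9320) (l := 7) rfl N9320 D21565
theorem N11159 : nd 11159 = n21566 := ndS (p := 9321) (l := 4) rfl N9321 D21566
theorem N11160 : nd 11160 = n21567 := ndS (p := 9321) (l := 7) rfl N9321 D21567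
theorem N11161 : nd 11161 = n21568 := ndS (p := 9321) (l := 8) rfl N9321 D21568
theorem N11162 : nd 11162 = n21569 := ndS (p := 9323) (l := 7) rfl N9323 D21569
theorem N11163 : nd 11163 = n21570 := ndS (p := 9323) (l := 8) rfl N9323 D21570
theorem N11164 : nd 11164 = n21571 := ndS (p := 9324) (l := 6) rfl N9324 D21571
theorem N11165 : nd 11165 = n21572 := ndS (p := 9324) (l := 8) rfl N9324 D21572
theorem N11166 : nd 11166 = n21573 := ndS (p := 9325) (l := 9) rfl N9325 D21573
theorem N11167 : nd 11167 = n21574 := ndS (p := 9326) (l := 8) rfl N9326 D21574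
theorem N11168 : nd 11168 = n21575 := ndS (p := 9327) (l := 9) rfl N9327 D21575
theorem N11169 : nd 11169 = n21576 := ndS (p := 9329) (l := 6) rfl N9329 D21576
theorem N11170 : nd 11170 = n21577 := ndS (p := 9330) (l := 7) rfl N9330 D21577
theorem N11171 : nd 11171 = n21578 := ndS (p := 9331) (l := 7) rfl N9331 D21578
theorem N11172 : nd 11172 = n21579 := ndS (p := 9333) (l := 7) rfl N9333 D21579
theorem N11173 : nd 11173 = n21580 := ndS (p := 9334) (l := 6) rfl N9334 D21580
theorem N11174 : nd 11174 = n21581 := ndS (p := 9334) (l := 8) rfl N9334 D21581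
theorem N11175 : nd 11175 = n21582 := ndS (p := 9336) (l := 8) rfl N9336 D21582
theorem N11176 : nd 11176 = n21583 := ndS (p := 9337) (l := 9) rfl N9337 D21583
theorem N11177 : nd 11177 = n21584 := ndS (p := 9339) (l := 5) rfl N9339 D21584
theorem N11178 : nd 11178 = n21585 := ndS (p := 9339) (l := 7) rfl N9339 D21585
theorem N11179 : nd 11179 = n21586 := ndS (p := 9340) (l := 7) rfl N9340 D21586
theorem N11180 : nd 11180 = n21587 := ndS (p := 9340) (l := 8) rfl N9340 D21587
theorem N11181 : nd 11181 = n21588 := ndS (p := 9342) (l := 6) rfl N9342 D21588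
theorem N11182 : nd 11182 = n21589 := ndS (p := 9342) (l := 8) rfl N9342 D21589
theorem N11183 : nd 11183 = n21590 := ndS (p := 9343) (l := 9) rfl N9343 D21590
theorem N11184 : nd 11184 = n21591 := ndS (p := 9344) (l := 8) rfl N9344 D21591
theorem N11185 : nd 11185 = n21592 := ndS (p := 9345) (l := 9) rfl N9345 D21592
theorem N11186 : nd 11186 = n21593 := ndS (p := 9347) (l := 5) rfl N9347 D21593
theorem N11187 : nd 11187 = n21594 := ndS (p := 9347) (l := 9) rfl N9347 D21594
theorem N11188 : nd 11188 = n21595 := ndS (p := 9349) (l := 4) rfl N9349 D21595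
theorem N11189 : nd 11189 = n21596 := ndS (p := 9349) (l := 9) rfl N9349 D21596
theorem N11190 : nd 11190 = n21600 := ndS (p := 9352) (l := 7) rfl N9352 D21600
theorem N11191 : nd 11191 = n21601 := ndS (p := 9353) (l := 7) rfl N9353 D21601
theorem N11192 : nd 11192 = n21606 := ndS (p := 9356) (l := 7) rfl N9356 D21606
theorem N11193 : nd 11193 = n21607 := ndS (p := 9357) (l := 4) rfl N9357 D21607
theorem N11194 : nd 11194 = n21608 := ndS (p := 9357) (l := 7) rfl N9357 D21608
theorem N11195 : nd 11195 = n21610 := ndS (p := 9359) (l := 6) rfl N9359 D21610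
theorem N11196 : nd 11196 = n21611 := ndS (p := 9359) (l := 8) rfl N9359 D21611
theorem N11197 : nd 11197 = n21613 := ndS (p := 9361) (l := 0) rfl N9361 D21613
theorem N11198 : nd 11198 = n21614 := ndS (p := 9361) (l := 6) rfl N9361 D21614
theorem N11199 : nd 11199 = n21615 := ndS (p := 9362) (l := 5) rfl N9362 D21615
theorem N11200 : nd 11200 = n21616 := ndS (p := 9362) (l := 7) rfl N9362 D21616
theorem N11201 : nd 11201 = n21617 := ndS (p := 9363) (l := 4) rfl N9363 D21617
theorem N11202 : nd 11202 = n21618 := ndS (p := 9363) (l := 7) rfl N9363 D21618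
theorem N11203 : nd 11203 = n21619 := ndS (p := 9363) (l := 8) rfl N9363 D21619
theorem N11204 : nd 11204 = n21620 := ndS (p := 9365) (l := 6) rfl N9365 D21620
theorem N11205 : nd 11205 = n21621 := ndS (p := 9365) (l := 8) rfl N9365 D21621
theorem N11206 : nd 11206 = n21623 := ndS (p := 9367) (l := 6) rfl N9367 D21623
theorem N11207 : nd 11207 = n21624 := ndS (p := 9368) (l := 7) rfl N9368 D21624
theorem N11208 : nd 11208 = n21625 := ndS (p := 9369) (l := 7) rfl N9369 D21625
theorem N11209 : nd 11209 = n21626 := ndS (p := 9371) (l := 7) rfl N9371 D21626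
theorem N11210 : nd 11210 = n21627 := ndS (p := 9372) (l := 6) rfl N9372 D21627
theorem N11211 : nd 11211 = n21628 := ndS (p := 9372) (l := 8) rfl N9372 D21628
theorem N11212 : nd 11212 = n21629 := ndS (p := 9374) (l := 8) rfl N9374 D21629
theorem N11213 : nd 11213 = n21630 := ndS (p := 9375) (l := 9) rfl N9375 D21630
theorem N11214 : nd 11214 = n21631 := ndS (p := 9377) (l := 6) rfl N9377 D21631
theorem N11215 : nd 11215 = n21632 := ndS (p := 9378) (l := 5) rfl N9378 D21632
theorem N11216 : nd 11216 = n21633 := ndS (p := 9378) (l := 7) rfl N9378 D21633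
theorem N11217 : nd 11217 = n21634 := ndS (p := 9379) (l := 7) rfl N9379 D21634
theorem N11218 : nd 11218 = n21635 := ndS (p := 9381) (l := 7) rfl N9381 D21635
theorem N11219 : nd 11219 = n21636 := ndS (p := 9382) (l := 6) rfl N9382 D21636
theorem N11220 : nd 11220 = n21637 := ndS (p := 9382) (l := 8) rfl N9382 D21637
theorem N11221 : nd 11221 = n21638 := ndS (p := 9384) (l := 8) rfl N9384 D21638
theorem N11222 : nd 11222 = n21639 := ndS (p := 9386) (l := 5) rfl N9386 D21639
theorem N11223 : nd 11223 = n21640 := ndS (p := 9386) (l := 7) rfl N9386 D21640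
theorem N11224 : nd 11224 = n21641 := ndS (p := 9387) (l := 4) rfl N9387 D21641
theorem N11225 : nd 11225 = n21642 := ndS (p := 9387) (l := 7) rfl N9387 D21642
theorem N11226 : nd 11226 = n21643 := ndS (p := 9389) (l := 7) rfl N9389 D21643
theorem N11227 : nd 11227 = n21644 := ndS (p := 9390) (l := 6) rfl N9390 D21644
theorem N11228 : nd 11228 = n21645 := ndS (p := 9391) (l := 6) rfl N9391 D21645
theorem N11229 : nd 11229 = n21646 := ndS (p := 9393) (l := 7) rfl N9393 D21646
theorem N11230 : nd 11230 = n21649 := ndS (p := 9400) (l := 5) rfl N9400 D21649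
theorem N11231 : nd 11231 = n21650 := ndS (p := 9400) (l := 7) rfl N9400 D21650
theorem N11232 : nd 11232 = n21655 := ndS (p := 9402) (l := 7) rfl N9402 D21655
theorem N11233 : nd 11233 = n21689 := ndS (p := 9405) (l := 7) rfl N9405 D21689
theorem N11234 : nd 11234 = n21695 := ndS (p := 9407) (l := 7) rfl N9407 D21695
theorem N11235 : nd 11235 = n21701 := ndS (p := 9409) (l := 7) rfl N9409 D21701
theorem N11236 : nd 11236 = n21702 := ndS (p := 9409) (l := 8) rfl N9409 D21702
theorem N11237 : nd 11237 = n21710 := ndS (p := 9411) (l := 6) rfl N9411 D21710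
theorem N11238 : nd 11238 = n21752 := ndS (p := 9412) (l := 5) rfl N9412 D21752
theorem N11239 : nd 11239 = n21753 := ndS (p := 9412) (l := 7) rfl N9412 D21753
theorem N11240 : nd 11240 = n21754 := ndS (p := 9413) (l := 7) rfl N9413 D21754
theorem N11241 : nd 11241 = n21755 := ndS (p := 9413) (l := 8) rfl N9413 D21755
theorem N11242 : nd 11242 = n21759 := ndS (p := 9415) (l := 7) rfl N9415 D21759
theorem N11243 : nd 11243 = n21760 := ndS (p := 9416) (l := 4) rfl N9416 D21760
theorem N11244 : nd 11244 = n21761 := ndS (p := 9416) (l := 7) rfl N9416 D21761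
theorem N11245 : nd 11245 = n21763 := ndS (p := 9418) (l := 6) rfl N9418 D21763
theorem N11246 : nd 11246 = n21764 := ndS (p := 9418) (l := 8) rfl N9418 D21764
theorem N11247 : nd 11247 = n21765 := ndS (p := 9419) (l := 9) rfl N9419 D21765
theorem N11248 : nd 11248 = n21769 := ndS (p := 9420) (l := 7) rfl N9420 D21769
theorem N11249 : nd 11249 = n21770 := ndS (p := 9421) (l := 7) rfl N9421 D21770
theorem N11250 : nd 11250 = n21771 := ndS (p := 9421) (l := 8) rfl N9421 D21771
theorem N11251 : nd 11251 = n21774 := ndS (p := 9423) (l := 5) rfl N9423 D21774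
theorem N11252 : nd 11252 = n21775 := ndS (p := 9423) (l := 7) rfl N9423 D21775
theorem N11253 : nd 11253 = n21776 := ndS (p := 9424) (l := 7) rfl N9424 D21776
theorem N11254 : nd 11254 = n21782 := ndS (p := 9426) (l := 4) rfl N9426 D21782
theorem N11255 : nd 11255 = n21783 := ndS (p := 9426) (l := 7) rfl N9426 D21783
theorem N11256 : nd 11256 = n21785 := ndS (p := 9428) (l := 6) rfl N9428 D21785
theorem N11257 : nd 11257 = n21786 := ndS (p := 9428) (l := 8) rfl N9428 D21786
theorem N11258 : nd 11258 = n21787 := ndS (p := 9429) (l := 9) rfl N9429 D21787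
theorem N11259 : nd 11259 = n21791 := ndS (p := 9430) (l := 7) rfl N9430 D21791
theorem N11260 : nd 11260 = n21792 := ndS (p := 9431) (l := 4) rfl N9431 D21792
theorem N11261 : nd 11261 = n21793 := ndS (p := 9431) (l := 7) rfl N9431 D21793
theorem N11262 : nd 11262 = n21794 := ndS (p := 9431) (l := 8) rfl N9431 D21794
theorem N11263 : nd 11263 = n21795 := ndS (p := 9433) (l := 6) rfl N9433 D21795
theorem N11264 : nd 11264 = n21796 := ndS (p := 9433) (l := 8) rfl N9433 D21796
theorem N11265 : nd 11265 = n21797 := ndS (p := 9434) (l := 9) rfl N9434 D21797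
theorem N11266 : nd 11266 = n21804 := ndS (p := 9436) (l := 7) rfl N9436 D21804
theorem N11267 : nd 11267 = n21806 := ndS (p := 9437) (l := 6) rfl N9437 D21806
theorem N11268 : nd 11268 = n21809 := ndS (p := 9438) (l := 8) rfl N9438 D21809
theorem N11269 : nd 11269 = n21810 := ndS (p := 9439) (l := 9) rfl N9439 D21810
theorem N11270 : nd 11270 = n21859 := ndS (p := 9443) (l := 6) rfl N9443 D21859
theorem N11271 : nd 11271 = n21864 := ndS (p := 9444) (l := 5) rfl N9444 D21864
theorem N11272 : nd 11272 = n21865 := ndS (p := 9444) (l := 7) rfl N9444 D21865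
theorem N11273 : nd 11273 = n21866 := ndS (p := 9445) (l := 4) rfl N9445 D21866
theorem N11274 : nd 11274 = n21867 := ndS (p := 9445) (l := 7) rfl N9445 D21867
theorem N11275 : nd 11275 = n21868 := ndS (p := 9445) (l := 8) rfl N9445 D21868
theorem N11276 : nd 11276 = n21869 := ndS (p := 9447) (l := 6) rfl N9447 D21869
theorem N11277 : nd 11277 = n21870 := ndS (p := 9447) (l := 8) rfl N9447 D21870
theorem N11278 : nd 11278 = n21871 := ndS (p := 9448) (l := 9) rfl N9448 D21871
theorem N11279 : nd 11279 = n21875 := ndS (p := 9449) (l := 4) rfl N9449 D21875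
theorem N11280 : nd 11280 = n21876 := ndS (p := 9449) (l := 7) rfl N9449 D21876
theorem N11281 : nd 11281 = n21878 := ndS (p := 9451) (l := 7) rfl N9451 D21878
theorem N11282 : nd 11282 = n21879 := ndS (p := 9451) (l := 8) rfl N9451 D21879
theorem N11283 : nd 11283 = n21880 := ndS (p := 9452) (l := 6) rfl N9452 D21880
theorem N11284 : nd 11284 = n21881 := ndS (p := 9452) (l := 8) rfl N9452 D21881
theorem N11285 : nd 11285 = n21882 := ndS (p := 9453) (l := 9) rfl N9453 D21882
theorem N11286 : nd 11286 = n21883 := ndS (p := 9454) (l := 8) rfl N9454 D21883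
theorem N11287 : nd 11287 = n21884 := ndS (p := 9455) (l := 9) rfl N9455 D21884
theorem N11288 : nd 11288 = n21888 := ndS (p := 9457) (l := 7) rfl N9457 D21888
theorem N11289 : nd 11289 = n21890 := ndS (p := 9458) (l := 7) rfl N9458 D21890
theorem N11290 : nd 11290 = n21892 := ndS (p := 9460) (l := 6) rfl N9460 D21892
theorem N11291 : nd 11291 = n21902 := ndS (p := 9461) (l := 6) rfl N9461 D21902
theorem N11292 : nd 11292 = n21903 := ndS (p := 9461) (l := 8) rfl N9461 D21903
theorem N11293 : nd 11293 = n21921 := ndS (p := 9464) (l := 7) rfl N9464 D21921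
theorem N11294 : nd 11294 = n21922 := ndS (p := 9466) (l := 7) rfl N9466 D21922
theorem N11295 : nd 11295 = n21923 := ndS (p := 9467) (l := 6) rfl N9467 D21923
theorem N11296 : nd 11296 = n21924 := ndS (p := 9467) (l := 8) rfl N9467 D21924
theorem N11297 : nd 11297 = n21925 := ndS (p := 9468) (l := 9) rfl N9468 D21925
theorem N11298 : nd 11298 = n21926 := ndS (p := 9469) (l := 8) rfl N9469 D21926
theorem N11299 : nd 11299 = n21927 := ndS (p := 9470) (l := 9) rfl N9470 D21927
theorem N11300 : nd 11300 = n21933 := ndS (p := 9472) (l := 7) rfl N9472 D21933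
theorem N11301 : nd 11301 = n21935 := ndS (p := 9473) (l := 6) rfl N9473 D21935
theorem N11302 : nd 11302 = n21938 := ndS (p := 9474) (l := 6) rfl N9474 D21938
theorem N11303 : nd 11303 = n21939 := ndS (p := 9474) (l := 8) rfl N9474 D21939
theorem N11304 : nd 11304 = n21940 := ndS (p := 9475) (l := 9) rfl N9475 D21940
theorem N11305 : nd 11305 = n21941 := ndS (p := 9476) (l := 8) rfl N9476 D21941
theorem N11306 : nd 11306 = n21942 := ndS (p := 9477) (l := 9) rfl N9477 D21942
theorem N11307 : nd 11307 = n21944 := ndS (p := 9479) (l := 9) rfl N9479 D21944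
theorem N11308 : nd 11308 = n21980 := ndS (p := 9484) (l := 5) rfl N9484 D21980
theorem N11309 : nd 11309 = n21981 := ndS (p := 9484) (l := 7) rfl N9484 D21981
theorem N11310 : nd 11310 = n21983 := ndS (p := 9485) (l := 7) rfl N9485 D21983
theorem N11311 : nd 11311 = n21984 := ndS (p := 9487) (l := 6) rfl N9487 D21984
theorem N11312 : nd 11312 = n21985 := ndS (p := 9488) (l := 6) rfl N9488 D21985
theorem N11313 : nd 11313 = n21986 := ndS (p := 9489) (l := 5) rfl N9489 D21986
theorem N11314 : nd 11314 = n21987 := ndS (p := 9489) (l := 7) rfl N9489 D21987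
theorem N11315 : nd 11315 = n21989 := ndS (p := 9490) (l := 7) rfl N9490 D21989
theorem N11316 : nd 11316 = n21993 := ndS (p := 9492) (l := 6) rfl N9492 D21993
theorem N11317 : nd 11317 = n22021 := ndS (p := 9495) (l := 6) rfl N9495 D22021
theorem N11318 : nd 11318 = n22022 := ndS (p := 9496) (l := 8) rfl N9496 D22022
theorem N11319 : nd 11319 = n22028 := ndS (p := 9499) (l := 5) rfl N9499 D22028
theorem N11320 : nd 11320 = n22052 := ndS (p := 9500) (l := 5) rfl N9500 D22052
theorem N11321 : nd 11321 = n22053 := ndS (p := 9500) (l := 7) rfl N9500 D22053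
theorem N11322 : nd 11322 = n22058 := ndS (p := 9502) (l := 7) rfl N9502 D22058
theorem N11323 : nd 11323 = n22115 := ndS (p := 9505) (l := 7) rfl N9505 D22115
theorem N11324 : nd 11324 = n22116 := ndS (p := 9505) (l := 8) rfl N9505 D22116
theorem N11325 : nd 11325 = n22124 := ndS (p := 9507) (l := 6) rfl N9507 D22124
theorem N11326 : nd 11326 = n22134 := ndS (p := 9508) (l := 6) rfl N9508 D22134
theorem N11327 : nd 11327 = n22135 := ndS (p := 9508) (l := 8) rfl N9508 D22135
theorem N11328 : nd 11328 = n22200 := ndS (p := 9511) (l := 7) rfl N9511 D22200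
theorem N11329 : nd 11329 = n22202 := ndS (p := 9513) (l := 6) rfl N9513 D22202
theorem N11330 : nd 11330 = n22203 := ndS (p := 9513) (l := 8) rfl N9513 D22203
theorem N11331 : nd 11331 = n22211 := ndS (p := 9515) (l := 7) rfl N9515 D22211
theorem N11332 : nd 11332 = n22213 := ndS (p := 9516) (l := 6) rfl N9516 D22213
theorem N11333 : nd 11333 = n22216 := ndS (p := 9517) (l := 8) rfl N9517 D22216
theorem N11334 : nd 11334 = n22217 := ndS (p := 9518) (l := 9) rfl N9518 D22217
theorem N11335 : nd 11335 = n22223 := ndS (p := 9521) (l := 6) rfl N9521 D22223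
theorem N11336 : nd 11336 = n22224 := ndS (p := 9521) (l := 8) rfl N9521 D22224
theorem N11337 : nd 11337 = n22226 := ndS (p := 9523) (l := 8) rfl N9523 D22226
theorem N11338 : nd 11338 = n22227 := ndS (p := 9524) (l := 9) rfl N9524 D22227
theorem N11339 : nd 11339 = n22245 := ndS (p := 9527) (l := 9) rfl N9527 D22245
theorem N11340 : nd 11340 = n22298 := ndS (p := 9529) (l := 8) rfl N9529 D22298
theorem N11341 : nd 11341 = n22314 := ndS (p := 9531) (l := 6) rfl N9531 D22314
theorem N11342 : nd 11342 = n22315 := ndS (p := 9532) (l := 6) rfl N9532 D22315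
theorem N11343 : nd 11343 = n22316 := ndS (p := 9533) (l := 8) rfl N9533 D22316
theorem N11344 : nd 11344 = n22317 := ndS (p := 9534) (l := 9) rfl N9534 D22317
theorem N11345 : nd 11345 = n22318 := ndS (p := 9536) (l := 5) rfl N9536 D22318
theorem N11346 : nd 11346 = n22319 := ndS (p := 9536) (l := 9) rfl N9536 D22319
theorem N11347 : nd 11347 = n22328 := ndS (p := 9538) (l := 6) rfl N9538 D22328
theorem N11348 : nd 11348 = n22332 := ndS (p := 9540) (l := 8) rfl N9540 D22332
theorem N11349 : nd 11349 = n22333 := ndS (p := 9541) (l := 9) rfl N9541 D22333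
theorem N11350 : nd 11350 = n22335 := ndS (p := 9543) (l := 9) rfl N9543 D22335
theorem N11351 : nd 11351 = n23444 := ndS (p := 9553) (l := 8) rfl N9553 D23444
theorem N11352 : nd 11352 = n23451 := ndS (p := 9556) (l := 5) rfl N9556 D23451
theorem N11353 : nd 11353 = n23452 := ndS (p := 9556) (l := 7) rfl N9556 D23452
theorem N11354 : nd 11354 = n23454 := ndS (p := 9558) (l := 5) rfl N9558 D23454
theorem N11355 : nd 11355 = n23455 := ndS (p := 9558) (l := 7) rfl N9558 D23455
theorem N11356 : nd 11356 = n23456 := ndS (p := 9559) (l := 7) rfl N9559 D23456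
theorem N11357 : nd 11357 = n23457 := ndS (p := 9559) (l := 8) rfl N9559 D23457
theorem N11358 : nd 11358 = n23459 := ndS (p := 9561) (l := 7) rfl N9561 D23459
theorem N11359 : nd 11359 = n23461 := ndS (p := 9563) (l := 6) rfl N9563 D23461
theorem N11360 : nd 11360 = n23462 := ndS (p := 9563) (l := 8) rfl N9563 D23462
theorem N11361 : nd 11361 = n23464 := ndS (p := 9565) (l := 8) rfl N9565 D23464
theorem N11362 : nd 11362 = n23465 := ndS (p := 9566) (l := 9) rfl N9566 D23465
theorem N11363 : nd 11363 = n23468 := ndS (p := 9568) (l := 5) rfl N9568 D23468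
theorem N11364 : nd 11364 = n23469 := ndS (p := 9568) (l := 7) rfl N9568 D23469
theorem N11365 : nd 11365 = n23470 := ndS (p := 9569) (l := 7) rfl N9569 D23470
theorem N11366 : nd 11366 = n23471 := ndS (p := 9569) (l := 8) rfl N9569 D23471
theorem N11367 : nd 11367 = n23472 := ndS (p := 9571) (l := 5) rfl N9571 D23472
theorem N11368 : nd 11368 = n23473 := ndS (p := 9571) (l := 7) rfl N9571 D23473
theorem N11369 : nd 11369 = n23474 := ndS (p := 9572) (l := 4) rfl N9572 D23474
theorem N11370 : nd 11370 = n23475 := ndS (p := 9572) (l := 7) rfl N9572 D23475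
theorem N11371 : nd 11371 = n23476 := ndS (p := 9572) (l := 8) rfl N9572 D23476
theorem N11372 : nd 11372 = n23477 := ndS (p := 9574) (l := 6) rfl N9574 D23477
theorem N11373 : nd 11373 = n23478 := ndS (p := 9574) (l := 8) rfl N9574 D23478
theorem N11374 : nd 11374 = n23479 := ndS (p := 9575) (l := 9) rfl N9575 D23479
theorem N11375 : nd 11375 = n23480 := ndS (p := 9576) (l := 7) rfl N9576 D23480
theorem N11376 : nd 11376 = n23482 := ndS (p := 9577) (l := 6) rfl N9577 D23482
theorem N11377 : nd 11377 = n23483 := ndS (p := 9577) (l := 8) rfl N9577 D23483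
theorem N11378 : nd 11378 = n23485 := ndS (p := 9579) (l := 8) rfl N9579 D23485
theorem N11379 : nd 11379 = n23486 := ndS (p := 9580) (l := 9) rfl N9580 D23486
theorem N11380 : nd 11380 = n23487 := ndS (p := 9582) (l := 5) rfl N9582 D23487
theorem N11381 : nd 11381 = n23488 := ndS (p := 9582) (l := 9) rfl N9582 D23488
theorem N11382 : nd 11382 = n23492 := ndS (p := 9584) (l := 8) rfl N9584 D23492
theorem N11383 : nd 11383 = n23499 := ndS (p := 9586) (l := 7) rfl N9586 D23499
theorem N11384 : nd 11384 = n23502 := ndS (p := 9588) (l := 7) rfl N9588 D23502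
theorem N11385 : nd 11385 = n23503 := ndS (p := 9589) (l := 7) rfl N9589 D23503
theorem N11386 : nd 11386 = n23504 := ndS (p := 9589) (l := 8) rfl N9589 D23504
theorem N11387 : nd 11387 = n23505 := ndS (p := 9591) (l := 2) rfl N9591 D23505
theorem N11388 : nd 11388 = n23506 := ndS (p := 9591) (l := 6) rfl N9591 D23506
theorem N11389 : nd 11389 = n23507 := ndS (p := 9592) (l := 5) rfl N9592 D23507
theorem N11390 : nd 11390 = n23508 := ndS (p := 9592) (l := 7) rfl N9592 D23508
theorem N11391 : nd 11391 = n23510 := ndS (p := 9594) (l := 6) rfl N9594 D23510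
theorem N11392 : nd 11392 = n23511 := ndS (p := 9595) (l := 5) rfl N9595 D23511
theorem N11393 : nd 11393 = n23512 := ndS (p := 9595) (l := 7) rfl N9595 D23512
theorem N11394 : nd 11394 = n23513 := ndS (p := 9596) (l := 7) rfl N9596 D23513
theorem N11395 : nd 11395 = n23514 := ndS (p := 9596) (l := 8) rfl N9596 D23514
theorem N11396 : nd 11396 = n23515 := ndS (p := 9598) (l := 4) rfl N9598 D23515
theorem N11397 : nd 11397 = n23516 := ndS (p := 9598) (l := 7) rfl N9598 D23516
theorem N11398 : nd 11398 = n23517 := ndS (p := 9598) (l := 8) rfl N9598 D23517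
theorem N11399 : nd 11399 = n23518 := ndS (p := 9600) (l := 6) rfl N9600 D23518
theorem N11400 : nd 11400 = n23519 := ndS (p := 9600) (l := 8) rfl N9600 D23519
theorem N11401 : nd 11401 = n23520 := ndS (p := 9601) (l := 9) rfl N9601 D23520
theorem N11402 : nd 11402 = n23522 := ndS (p := 9602) (l := 6) rfl N9602 D23522
theorem N11403 : nd 11403 = n23523 := ndS (p := 9603) (l := 5) rfl N9603 D23523
theorem N11404 : nd 11404 = n23524 := ndS (p := 9603) (l := 7) rfl N9603 D23524
theorem N11405 : nd 11405 = n23525 := ndS (p := 9604) (l := 7) rfl N9604 D23525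
theorem N11406 : nd 11406 = n23526 := ndS (p := 9604) (l := 8) rfl N9604 D23526
theorem N11407 : nd 11407 = n23530 := ndS (p := 9606) (l := 7) rfl N9606 D23530
theorem N11408 : nd 11408 = n23534 := ndS (p := 9608) (l := 8) rfl N9608 D23534
theorem N11409 : nd 11409 = n23535 := ndS (p := 9609) (l := 9) rfl N9609 D23535
theorem N11410 : nd 11410 = n23536 := ndS (p := 9610) (l := 8) rfl N9610 D23536
theorem N11411 : nd 11411 = n23537 := ndS (p := 9611) (l := 9) rfl N9611 D23537
theorem N11412 : nd 11412 = n23541 := ndS (p := 9614) (l := 7) rfl N9614 D23541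
theorem N11413 : nd 11413 = n23542 := ndS (p := 9615) (l := 7) rfl N9615 D23542
theorem N11414 : nd 11414 = n23544 := ndS (p := 9617) (l := 0) rfl N9617 D23544
theorem N11415 : nd 11415 = n23545 := ndS (p := 9617) (l := 6) rfl N9617 D23545
theorem N11416 : nd 11416 = n23546 := ndS (p := 9618) (l := 5) rfl N9618 D23546
theorem N11417 : nd 11417 = n23547 := ndS (p := 9618) (l := 7) rfl N9618 D23547
theorem N11418 : nd 11418 = n23548 := ndS (p := 9619) (l := 4) rfl N9619 D23548
theorem N11419 : nd 11419 = n23549 := ndS (p := 9619) (l := 7) rfl N9619 D23549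
theorem N11420 : nd 11420 = n23550 := ndS (p := 9621) (l := 6) rfl N9621 D23550
theorem N11421 : nd 11421 = n23560 := ndS (p := 9624) (l := 6) rfl N9624 D23560
theorem N11422 : nd 11422 = n23568 := ndS (p := 9627) (l := 3) rfl N9627 D23568
theorem N11423 : nd 11423 = n23569 := ndS (p := 9627) (l := 6) rfl N9627 D23569
theorem N11424 : nd 11424 = n23570 := ndS (p := 9628) (l := 7) rfl N9628 D23570
theorem N11425 : nd 11425 = n23571 := ndS (p := 9629) (l := 2) rfl N9629 D23571
theorem N11426 : nd 11426 = n23572 := ndS (p := 9629) (l := 6) rfl N9629 D23572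
theorem N11427 : nd 11427 = n23573 := ndS (p := 9630) (l := 5) rfl N9630 D23573
theorem N11428 : nd 11428 = n23574 := ndS (p := 9630) (l := 7) rfl N9630 D23574
theorem N11429 : nd 11429 = n23577 := ndS (p := 9632) (l := 5) rfl N9632 D23577
theorem N11430 : nd 11430 = n23578 := ndS (p := 9632) (l := 7) rfl N9632 D23578
theorem N11431 : nd 11431 = n23579 := ndS (p := 9633) (l := 7) rfl N9633 D23579
theorem N11432 : nd 11432 = n23580 := ndS (p := 9633) (l := 8) rfl N9633 D23580
theorem N11433 : nd 11433 = n23581 := ndS (p := 9635) (l := 2) rfl N9635 D23581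
theorem N11434 : nd 11434 = n23582 := ndS (p := 9635) (l := 6) rfl N9635 D23582
theorem N11435 : nd 11435 = n23583 := ndS (p := 9636) (l := 5) rfl N9636 D23583
theorem N11436 : nd 11436 = n23584 := ndS (p := 9636) (l := 7) rfl N9636 D23584
theorem N11437 : nd 11437 = n23586 := ndS (p := 9638) (l := 6) rfl N9638 D23586
theorem N11438 : nd 11438 = n23587 := ndS (p := 9639) (l := 5) rfl N9639 D23587
theorem N11439 : nd 11439 = n23588 := ndS (p := 9639) (l := 7) rfl N9639 D23588
theorem N11440 : nd 11440 = n23589 := ndS (p := 9640) (l := 7) rfl N9640 D23589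
theorem N11441 : nd 11441 = n23590 := ndS (p := 9640) (l := 8) rfl N9640 D23590
theorem N11442 : nd 11442 = n23591 := ndS (p := 9642) (l := 5) rfl N9642 D23591
theorem N11443 : nd 11443 = n23592 := ndS (p := 9642) (l := 7) rfl N9642 D23592
theorem N11444 : nd 11444 = n23593 := ndS (p := 9643) (l := 4) rfl N9643 D23593
theorem N11445 : nd 11445 = n23594 := ndS (p := 9643) (l := 7) rfl N9643 D23594
theorem N11446 : nd 11446 = n23595 := ndS (p := 9643) (l := 8) rfl N9643 D23595
theorem N11447 : nd 11447 = n23596 := ndS (p := 9645) (l := 6) rfl N9645 D23596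
theorem N11448 : nd 11448 = n23597 := ndS (p := 9645) (l := 8) rfl N9645 D23597
theorem N11449 : nd 11449 = n23598 := ndS (p := 9646) (l := 9) rfl N9646 D23598
theorem N11450 : nd 11450 = n23599 := ndS (p := 9647) (l := 3) rfl N9647 D23599
theorem N11451 : nd 11451 = n23600 := ndS (p := 9647) (l := 6) rfl N9647 D23600
theorem N11452 : nd 11452 = n23601 := ndS (p := 9648) (l := 7) rfl N9648 D23601
theorem N11453 : nd 11453 = n23602 := ndS (p := 9649) (l := 2) rfl N9649 D23602
theorem N11454 : nd 11454 = n23603 := ndS (p := 9649) (l := 6) rfl N9649 D23603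
theorem N11455 : nd 11455 = n23604 := ndS (p := 9650) (l := 5) rfl N9650 D23604
theorem N11456 : nd 11456 = n23605 := ndS (p := 9650) (l := 7) rfl N9650 D23605
theorem N11457 : nd 11457 = n23607 := ndS (p := 9652) (l := 6) rfl N9652 D23607
theorem N11458 : nd 11458 = n23608 := ndS (p := 9653) (l := 5) rfl N9653 D23608
theorem N11459 : nd 11459 = n23609 := ndS (p := 9653) (l := 7) rfl N9653 D23609
theorem N11460 : nd 11460 = n23610 := ndS (p := 9654) (l := 7) rfl N9654 D23610
theorem N11461 : nd 11461 = n23611 := ndS (p := 9654) (l := 8) rfl N9654 D23611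
theorem N11462 : nd 11462 = n23614 := ndS (p := 9656) (l := 5) rfl N9656 D23614
theorem N11463 : nd 11463 = n23615 := ndS (p := 9656) (l := 7) rfl N9656 D23615
theorem N11464 : nd 11464 = n23616 := ndS (p := 9657) (l := 4) rfl N9657 D23616
theorem N11465 : nd 11465 = n23617 := ndS (p := 9657) (l := 7) rfl N9657 D23617
theorem N11466 : nd 11466 = n23618 := ndS (p := 9657) (l := 8) rfl N9657 D23618
theorem N11467 : nd 11467 = n23619 := ndS (p := 9659) (l := 6) rfl N9659 D23619
theorem N11468 : nd 11468 = n23620 := ndS (p := 9659) (l := 8) rfl N9659 D23620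
theorem N11469 : nd 11469 = n23621 := ndS (p := 9660) (l := 9) rfl N9660 D23621
theorem N11470 : nd 11470 = n23622 := ndS (p := 9661) (l := 7) rfl N9661 D23622
theorem N11471 : nd 11471 = n23623 := ndS (p := 9661) (l := 8) rfl N9661 D23623
theorem N11472 : nd 11472 = n23624 := ndS (p := 9662) (l := 6) rfl N9662 D23624
theorem N11473 : nd 11473 = n23625 := ndS (p := 9662) (l := 8) rfl N9662 D23625
theorem N11474 : nd 11474 = n23626 := ndS (p := 9663) (l := 9) rfl N9663 D23626
theorem N11475 : nd 11475 = n23627 := ndS (p := 9664) (l := 8) rfl N9664 D23627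
theorem N11476 : nd 11476 = n23628 := ndS (p := 9665) (l := 9) rfl N9665 D23628
theorem N11477 : nd 11477 = n23630 := ndS (p := 9667) (l := 6) rfl N9667 D23630
theorem N11478 : nd 11478 = n23631 := ndS (p := 9668) (l := 5) rfl N9668 D23631
theorem N11479 : nd 11479 = n23632 := ndS (p := 9668) (l := 7) rfl N9668 D23632
theorem N11480 : nd 11480 = n23633 := ndS (p := 9669) (l := 7) rfl N9669 D23633
theorem N11481 : nd 11481 = n23634 := ndS (p := 9669) (l := 8) rfl N9669 D23634
theorem N11482 : nd 11482 = n23637 := ndS (p := 9671) (l := 5) rfl N9671 D23637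
theorem N11483 : nd 11483 = n23638 := ndS (p := 9671) (l := 7) rfl N9671 D23638
theorem N11484 : nd 11484 = n23639 := ndS (p := 9672) (l := 4) rfl N9672 D23639
theorem N11485 : nd 11485 = n23640 := ndS (p := 9672) (l := 7) rfl N9672 D23640
theorem N11486 : nd 11486 = n23641 := ndS (p := 9672) (l := 8) rfl N9672 D23641
theorem N11487 : nd 11487 = n23642 := ndS (p := 9674) (l := 6) rfl N9674 D23642
theorem N11488 : nd 11488 = n23643 := ndS (p := 9674) (l := 8) rfl N9674 D23643
theorem N11489 : nd 11489 = n23644 := ndS (p := 9675) (l := 9) rfl N9675 D23644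
theorem N11490 : nd 11490 = n23648 := ndS (p := 9676) (l := 7) rfl N9676 D23648
theorem N11491 : nd 11491 = n23649 := ndS (p := 9676) (l := 8) rfl N9676 D23649
theorem N11492 : nd 11492 = n23650 := ndS (p := 9678) (l := 6) rfl N9678 D23650
theorem N11493 : nd 11493 = n23651 := ndS (p := 9678) (l := 8) rfl N9678 D23651
theorem N11494 : nd 11494 = n23653 := ndS (p := 9680) (l := 8) rfl N9680 D23653
theorem N11495 : nd 11495 = n23654 := ndS (p := 9681) (l := 9) rfl N9681 D23654
theorem N11496 : nd 11496 = n23655 := ndS (p := 9683) (l := 5) rfl N9683 D23655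
theorem N11497 : nd 11497 = n23656 := ndS (p := 9683) (l := 9) rfl N9683 D23656
theorem N11498 : nd 11498 = n23660 := ndS (p := 9685) (l := 4) rfl N9685 D23660
theorem N11499 : nd 11499 = n23661 := ndS (p := 9685) (l := 7) rfl N9685 D23661
theorem N11500 : nd 11500 = n23662 := ndS (p := 9687) (l := 7) rfl N9687 D23662
theorem N11501 : nd 11501 = n23663 := ndS (p := 9688) (l := 6) rfl N9688 D23663
theorem N11502 : nd 11502 = n23665 := ndS (p := 9690) (l := 1) rfl N9690 D23665
theorem N11503 : nd 11503 = n23666 := ndS (p := 9690) (l := 6) rfl N9690 D23666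
theorem N11504 : nd 11504 = n23667 := ndS (p := 9691) (l := 5) rfl N9691 D23667
theorem N11505 : nd 11505 = n23668 := ndS (p := 9691) (l := 7) rfl N9691 D23668
theorem N11506 : nd 11506 = n23669 := ndS (p := 9692) (l := 7) rfl N9692 D23669
theorem N11507 : nd 11507 = n23670 := ndS (p := 9692) (l := 8) rfl N9692 D23670
theorem N11508 : nd 11508 = n23675 := ndS (p := 9694) (l := 7) rfl N9694 D23675
theorem N11509 : nd 11509 = n23676 := ndS (p := 9694) (l := 8) rfl N9694 D23676
theorem N11510 : nd 11510 = n23677 := ndS (p := 9696) (l := 6) rfl N9696 D23677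
theorem N11511 : nd 11511 = n23678 := ndS (p := 9696) (l := 8) rfl N9696 D23678
theorem N11512 : nd 11512 = n23679 := ndS (p := 9697) (l := 9) rfl N9697 D23679
theorem N11513 : nd 11513 = n23682 := ndS (p := 9698) (l := 5) rfl N9698 D23682
theorem N11514 : nd 11514 = n23683 := ndS (p := 9698) (l := 7) rfl N9698 D23683
theorem N11515 : nd 11515 = n23684 := ndS (p := 9699) (l := 4) rfl N9699 D23684
theorem N11516 : nd 11516 = n23685 := ndS (p := 9699) (l := 7) rfl N9699 D23685
theorem N11517 : nd 11517 = n23686 := ndS (p := 9699) (l := 8) rfl N9699 D23686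
theorem N11518 : nd 11518 = n23687 := ndS (p := 9701) (l := 6) rfl N9701 D23687
theorem N11519 : nd 11519 = n23688 := ndS (p := 9701) (l := 8) rfl N9701 D23688
theorem N11520 : nd 11520 = n23689 := ndS (p := 9702) (l := 9) rfl N9702 D23689
theorem N11521 : nd 11521 = n23691 := ndS (p := 9703) (l := 7) rfl N9703 D23691
theorem N11522 : nd 11522 = n23692 := ndS (p := 9703) (l := 8) rfl N9703 D23692
theorem N11523 : nd 11523 = n23693 := ndS (p := 9705) (l := 7) rfl N9705 D23693
theorem N11524 : nd 11524 = n23694 := ndS (p := 9705) (l := 8) rfl N9705 D23694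
theorem N11525 : nd 11525 = n23695 := ndS (p := 9706) (l := 6) rfl N9706 D23695
theorem N11526 : nd 11526 = n23696 := ndS (p := 9706) (l := 8) rfl N9706 D23696
theorem N11527 : nd 11527 = n23697 := ndS (p := 9707) (l := 9) rfl N9707 D23697
theorem N11528 : nd 11528 = n23698 := ndS (p := 9708) (l := 8) rfl N9708 D23698
theorem N11529 : nd 11529 = n23699 := ndS (p := 9709) (l := 9) rfl N9709 D23699
theorem N11530 : nd 11530 = n23703 := ndS (p := 9711) (l := 4) rfl N9711 D23703
theorem N11531 : nd 11531 = n23704 := ndS (p := 9711) (l := 7) rfl N9711 D23704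
theorem N11532 : nd 11532 = n23706 := ndS (p := 9713) (l := 7) rfl N9713 D23706
theorem N11533 : nd 11533 = n23707 := ndS (p := 9713) (l := 8) rfl N9713 D23707
theorem N11534 : nd 11534 = n23708 := ndS (p := 9714) (l := 6) rfl N9714 D23708
theorem N11535 : nd 11535 = n23709 := ndS (p := 9714) (l := 8) rfl N9714 D23709
theorem N11536 : nd 11536 = n23710 := ndS (p := 9715) (l := 9) rfl N9715 D23710
theorem N11537 : nd 11537 = n23711 := ndS (p := 9716) (l := 8) rfl N9716 D23711
theorem N11538 : nd 11538 = n23712 := ndS (p := 9717) (l := 9) rfl N9717 D23712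
theorem N11539 : nd 11539 = n23713 := ndS (p := 9719) (l := 6) rfl N9719 D23713
theorem N11540 : nd 11540 = n23714 := ndS (p := 9719) (l := 8) rfl N9719 D23714
theorem N11541 : nd 11541 = n23715 := ndS (p := 9720) (l := 5) rfl N9720 D23715
theorem N11542 : nd 11542 = n23716 := ndS (p := 9720) (l := 9) rfl N9720 D23716
theorem N11543 : nd 11543 = n23717 := ndS (p := 9721) (l := 8) rfl N9721 D23717
theorem N11544 : nd 11544 = n23718 := ndS (p := 9722) (l := 9) rfl N9722 D23718
theorem N11545 : nd 11545 = n23719 := ndS (p := 9724) (l := 5) rfl N9724 D23719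
theorem N11546 : nd 11546 = n23720 := ndS (p := 9724) (l := 9) rfl N9724 D23720
theorem N11547 : nd 11547 = n23725 := ndS (p := 9726) (l := 6) rfl N9726 D23725
theorem N11548 : nd 11548 = n23730 := ndS (p := 9728) (l := 5) rfl N9728 D23730
theorem N11549 : nd 11549 = n23731 := ndS (p := 9728) (l := 9) rfl N9728 D23731
theorem N11550 : nd 11550 = n23732 := ndS (p := 9730) (l := 4) rfl N9730 D23732
theorem N11551 : nd 11551 = n23733 := ndS (p := 9730) (l := 9) rfl N9730 D23733
theorem N11552 : nd 11552 = n23734 := ndS (p := 9732) (l := 3) rfl N9732 D23734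
theorem N11553 : nd 11553 = n23735 := ndS (p := 9732) (l := 6) rfl N9732 D23735
theorem N11554 : nd 11554 = n23736 := ndS (p := 9733) (l := 7) rfl N9733 D23736
theorem N11555 : nd 11555 = n23737 := ndS (p := 9734) (l := 2) rfl N9734 D23737
theorem N11556 : nd 11556 = n23738 := ndS (p := 9734) (l := 6) rfl N9734 D23738
theorem N11557 : nd 11557 = n23739 := ndS (p := 9735) (l := 5) rfl N9735 D23739
theorem N11558 : nd 11558 = n23740 := ndS (p := 9735) (l := 7) rfl N9735 D23740
theorem N11559 : nd 11559 = n23743 := ndS (p := 9737) (l := 5) rfl N9737 D23743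
theorem N11560 : nd 11560 = n23744 := ndS (p := 9737) (l := 7) rfl N9737 D23744
theorem N11561 : nd 11561 = n23745 := ndS (p := 9738) (l := 7) rfl N9738 D23745
theorem N11562 : nd 11562 = n23746 := ndS (p := 9738) (l := 8) rfl N9738 D23746
theorem N11563 : nd 11563 = n23747 := ndS (p := 9740) (l := 3) rfl N9740 D23747
theorem N11564 : nd 11564 = n23748 := ndS (p := 9740) (l := 6) rfl N9740 D23748
theorem N11565 : nd 11565 = n23749 := ndS (p := 9741) (l := 7) rfl N9741 D23749
theorem N11566 : nd 11566 = n23750 := ndS (p := 9742) (l := 2) rfl N9742 D23750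
theorem N11567 : nd 11567 = n23751 := ndS (p := 9742) (l := 6) rfl N9742 D23751
theorem N11568 : nd 11568 = n23752 := ndS (p := 9743) (l := 5) rfl N9743 D23752
theorem N11569 : nd 11569 = n23753 := ndS (p := 9743) (l := 7) rfl N9743 D23753
theorem N11570 : nd 11570 = n23755 := ndS (p := 9745) (l := 6) rfl N9745 D23755
theorem N11571 : nd 11571 = n23756 := ndS (p := 9746) (l := 5) rfl N9746 D23756
theorem N11572 : nd 11572 = n23757 := ndS (p := 9746) (l := 7) rfl N9746 D23757
theorem N11573 : nd 11573 = n23758 := ndS (p := 9747) (l := 7) rfl N9747 D23758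
theorem N11574 : nd 11574 = n23759 := ndS (p := 9747) (l := 8) rfl N9747 D23759
theorem N11575 : nd 11575 = n23760 := ndS (p := 9749) (l := 5) rfl N9749 D23760
theorem N11576 : nd 11576 = n23761 := ndS (p := 9749) (l := 7) rfl N9749 D23761
theorem N11577 : nd 11577 = n23762 := ndS (p := 9750) (l := 4) rfl N9750 D23762
theorem N11578 : nd 11578 = n23763 := ndS (p := 9750) (l := 7) rfl N9750 D23763
theorem N11579 : nd 11579 = n23764 := ndS (p := 9750) (l := 8) rfl N9750 D23764
theorem N11580 : nd 11580 = n23765 := ndS (p := 9752) (l := 6) rfl N9752 D23765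
theorem N11581 : nd 11581 = n23766 := ndS (p := 9752) (l := 8) rfl N9752 D23766
theorem N11582 : nd 11582 = n23767 := ndS (p := 9753) (l := 9) rfl N9753 D23767
theorem N11583 : nd 11583 = n23768 := ndS (p := 9754) (l := 3) rfl N9754 D23768
theorem N11584 : nd 11584 = n23769 := ndS (p := 9754) (l := 6) rfl N9754 D23769
theorem N11585 : nd 11585 = n23770 := ndS (p := 9755) (l := 7) rfl N9755 D23770
theorem N11586 : nd 11586 = n23771 := ndS (p := 9756) (l := 3) rfl N9756 D23771
theorem N11587 : nd 11587 = n23772 := ndS (p := 9756) (l := 6) rfl N9756 D23772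
theorem N11588 : nd 11588 = n23773 := ndS (p := 9757) (l := 7) rfl N9757 D23773
theorem N11589 : nd 11589 = n23774 := ndS (p := 9758) (l := 3) rfl N9758 D23774
theorem N11590 : nd 11590 = n23775 := ndS (p := 9758) (l := 6) rfl N9758 D23775
theorem N11591 : nd 11591 = n23776 := ndS (p := 9759) (l := 7) rfl N9759 D23776
theorem N11592 : nd 11592 = n23777 := ndS (p := 9760) (l := 2) rfl N9760 D23777
theorem N11593 : nd 11593 = n23778 := ndS (p := 9760) (l := 6) rfl N9760 D23778
theorem N11594 : nd 11594 = n23779 := ndS (p := 9761) (l := 5) rfl N9761 D23779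
theorem N11595 : nd 11595 = n23780 := ndS (p := 9761) (l := 7) rfl N9761 D23780
theorem N11596 : nd 11596 = n23781 := ndS (p := 9763) (l := 3) rfl N9763 D23781
theorem N11597 : nd 11597 = n23782 := ndS (p := 9763) (l := 6) rfl N9763 D23782
theorem N11598 : nd 11598 = n23783 := ndS (p := 9764) (l := 7) rfl N9764 D23783
theorem N11599 : nd 11599 = n23784 := ndS (p := 9765) (l := 3) rfl N9765 D23784
theorem N11600 : nd 11600 = n23785 := ndS (p := 9765) (l := 6) rfl N9765 D23785
theorem N11601 : nd 11601 = n23786 := ndS (p := 9766) (l := 7) rfl N9766 D23786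
theorem N11602 : nd 11602 = n23787 := ndS (p := 9767) (l := 2) rfl N9767 D23787
theorem N11603 : nd 11603 = n23788 := ndS (p := 9767) (l := 6) rfl N9767 D23788
theorem N11604 : nd 11604 = n23789 := ndS (p := 9768) (l := 5) rfl N9768 D23789
theorem N11605 : nd 11605 = n23790 := ndS (p := 9768) (l := 7) rfl N9768 D23790
theorem N11606 : nd 11606 = n23791 := ndS (p := 9770) (l := 2) rfl N9770 D23791
theorem N11607 : nd 11607 = n23792 := ndS (p := 9770) (l := 6) rfl N9770 D23792
theorem N11608 : nd 11608 = n23793 := ndS (p := 9771) (l := 5) rfl N9771 D23793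
theorem N11609 : nd 11609 = n23794 := ndS (p := 9771) (l := 7) rfl N9771 D23794
theorem N11610 : nd 11610 = n23795 := ndS (p := 9773) (l := 1) rfl N9773 D23795
theorem N11611 : nd 11611 = n23796 := ndS (p := 9773) (l := 6) rfl N9773 D23796
theorem N11612 : nd 11612 = n23797 := ndS (p := 9774) (l := 5) rfl N9774 D23797
theorem N11613 : nd 11613 = n23798 := ndS (p := 9774) (l := 7) rfl N9774 D23798
theorem N11614 : nd 11614 = n23799 := ndS (p := 9775) (l := 7) rfl N9775 D23799
theorem N11615 : nd 11615 = n23800 := ndS (p := 9775) (l := 8) rfl N9775 D23800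
theorem N11616 : nd 11616 = n23801 := ndS (p := 9777) (l := 1) rfl N9777 D23801
theorem N11617 : nd 11617 = n23802 := ndS (p := 9777) (l := 6) rfl N9777 D23802
theorem N11618 : nd 11618 = n23803 := ndS (p := 9778) (l := 5) rfl N9778 D23803
theorem N11619 : nd 11619 = n23804 := ndS (p := 9778) (l := 7) rfl N9778 D23804
theorem N11620 : nd 11620 = n23805 := ndS (p := 9779) (l := 7) rfl N9779 D23805
theorem N11621 : nd 11621 = n23806 := ndS (p := 9779) (l := 8) rfl N9779 D23806
theorem N11622 : nd 11622 = n23807 := ndS (p := 9781) (l := 0) rfl N9781 D23807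
theorem N11623 : nd 11623 = n23808 := ndS (p := 9781) (l := 6) rfl N9781 D23808
theorem N11624 : nd 11624 = n23809 := ndS (p := 9782) (l := 5) rfl N9782 D23809
theorem N11625 : nd 11625 = n23810 := ndS (p := 9782) (l := 7) rfl N9782 D23810
theorem N11626 : nd 11626 = n23811 := ndS (p := 9783) (l := 4) rfl N9783 D23811
theorem N11627 : nd 11627 = n23812 := ndS (p := 9783) (l := 7) rfl N9783 D23812
theorem N11628 : nd 11628 = n23813 := ndS (p := 9783) (l := 8) rfl N9783 D23813
theorem N11629 : nd 11629 = n23814 := ndS (p := 9785) (l := 6) rfl N9785 D23814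
theorem N11630 : nd 11630 = n23815 := ndS (p := 9785) (l := 8) rfl N9785 D23815
theorem N11631 : nd 11631 = n23816 := ndS (p := 9786) (l := 9) rfl N9786 D23816
theorem N11632 : nd 11632 = n23817 := ndS (p := 9787) (l := 7) rfl N9787 D23817
theorem N11633 : nd 11633 = n23818 := ndS (p := 9787) (l := 8) rfl N9787 D23818
theorem N11634 : nd 11634 = n23819 := ndS (p := 9788) (l := 6) rfl N9788 D23819
theorem N11635 : nd 11635 = n23820 := ndS (p := 9788) (l := 8) rfl N9788 D23820
theorem N11636 : nd 11636 = n23821 := ndS (p := 9789) (l := 9) rfl N9789 D23821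
theorem N11637 : nd 11637 = n23822 := ndS (p := 9790) (l := 8) rfl N9790 D23822
theorem N11638 : nd 11638 = n23823 := ndS (p := 9791) (l := 9) rfl N9791 D23823
theorem N11639 : nd 11639 = n23824 := ndS (p := 9793) (l := 2) rfl N9793 D23824
theorem N11640 : nd 11640 = n23825 := ndS (p := 9793) (l := 6) rfl N9793 D23825
theorem N11641 : nd 11641 = n23826 := ndS (p := 9794) (l := 5) rfl N9794 D23826
theorem N11642 : nd 11642 = n23827 := ndS (p := 9794) (l := 7) rfl N9794 D23827
theorem N11643 : nd 11643 = n23828 := ndS (p := 9796) (l := 2) rfl N9796 D23828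
theorem N11644 : nd 11644 = n23829 := ndS (p := 9796) (l := 6) rfl N9796 D23829
theorem N11645 : nd 11645 = n23830 := ndS (p := 9797) (l := 5) rfl N9797 D23830
theorem N11646 : nd 11646 = n23831 := ndS (p := 9797) (l := 7) rfl N9797 D23831
theorem N11647 : nd 11647 = n23832 := ndS (p := 9799) (l := 1) rfl N9799 D23832
theorem N11648 : nd 11648 = n23833 := ndS (p := 9799) (l := 6) rfl N9799 D23833
theorem N11649 : nd 11649 = n23834 := ndS (p := 9800) (l := 5) rfl N9800 D23834
theorem N11650 : nd 11650 = n23835 := ndS (p := 9800) (l := 7) rfl N9800 D23835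
theorem N11651 : nd 11651 = n23836 := ndS (p := 9801) (l := 7) rfl N9801 D23836
theorem N11652 : nd 11652 = n23837 := ndS (p := 9801) (l := 8) rfl N9801 D23837
theorem N11653 : nd 11653 = n23838 := ndS (p := 9803) (l := 2) rfl N9803 D23838
theorem N11654 : nd 11654 = n23839 := ndS (p := 9803) (l := 6) rfl N9803 D23839
theorem N11655 : nd 11655 = n23840 := ndS (p := 9804) (l := 5) rfl N9804 D23840
theorem N11656 : nd 11656 = n23841 := ndS (p := 9804) (l := 7) rfl N9804 D23841
theorem N11657 : nd 11657 = n23842 := ndS (p := 9806) (l := 2) rfl N9806 D23842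
theorem N11658 : nd 11658 = n23843 := ndS (p := 9806) (l := 6) rfl N9806 D23843
theorem N11659 : nd 11659 = n23844 := ndS (p := 9807) (l := 5) rfl N9807 D23844
theorem N11660 : nd 11660 = n23845 := ndS (p := 9807) (l := 7) rfl N9807 D23845
theorem N11661 : nd 11661 = n23846 := ndS (p := 9809) (l := 1) rfl N9809 D23846
theorem N11662 : nd 11662 = n23847 := ndS (p := 9809) (l := 6) rfl N9809 D23847
theorem N11663 : nd 11663 = n23848 := ndS (p := 9810) (l := 5) rfl N9810 D23848
theorem N11664 : nd 11664 = n23849 := ndS (p := 9810) (l := 7) rfl N9810 D23849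
theorem N11665 : nd 11665 = n23850 := ndS (p := 9811) (l := 7) rfl N9811 D23850
theorem N11666 : nd 11666 = n23851 := ndS (p := 9811) (l := 8) rfl N9811 D23851
theorem N11667 : nd 11667 = n23852 := ndS (p := 9813) (l := 1) rfl N9813 D23852
theorem N11668 : nd 11668 = n23853 := ndS (p := 9813) (l := 6) rfl N9813 D23853
theorem N11669 : nd 11669 = n23854 := ndS (p := 9814) (l := 5) rfl N9814 D23854
theorem N11670 : nd 11670 = n23855 := ndS (p := 9814) (l := 7) rfl N9814 D23855
theorem N11671 : nd 11671 = n23856 := ndS (p := 9815) (l := 7) rfl N9815 D23856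
theorem N11672 : nd 11672 = n23857 := ndS (p := 9815) (l := 8) rfl N9815 D23857
theorem N11673 : nd 11673 = n23858 := ndS (p := 9817) (l := 0) rfl N9817 D23858
theorem N11674 : nd 11674 = n23859 := ndS (p := 9817) (l := 6) rfl N9817 D23859
theorem N11675 : nd 11675 = n23860 := ndS (p := 9818) (l := 5) rfl N9818 D23860
theorem N11676 : nd 11676 = n23861 := ndS (p := 9818) (l := 7) rfl N9818 D23861
theorem N11677 : nd 11677 = n23862 := ndS (p := 9819) (l := 4) rfl N9819 D23862
theorem N11678 : nd 11678 = n23863 := ndS (p := 9819) (l := 7) rfl N9819 D23863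
theorem N11679 : nd 11679 = n23864 := ndS (p := 9819) (l := 8) rfl N9819 D23864
theorem N11680 : nd 11680 = n23865 := ndS (p := 9821) (l := 6) rfl N9821 D23865
theorem N11681 : nd 11681 = n23866 := ndS (p := 9821) (l := 8) rfl N9821 D23866
theorem N11682 : nd 11682 = n23867 := ndS (p := 9822) (l := 9) rfl N9822 D23867
theorem N11683 : nd 11683 = n23868 := ndS (p := 9823) (l := 0) rfl N9823 D23868
theorem N11684 : nd 11684 = n23871 := ndS (p := 9824) (l := 7) rfl N9824 D23871
theorem N11685 : nd 11685 = n23873 := ndS (p := 9825) (l := 7) rfl N9825 D23873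
theorem N11686 : nd 11686 = n23874 := ndS (p := 9825) (l := 8) rfl N9825 D23874
theorem N11687 : nd 11687 = n23875 := ndS (p := 9827) (l := 6) rfl N9827 D23875
theorem N11688 : nd 11688 = n23876 := ndS (p := 9827) (l := 8) rfl N9827 D23876
theorem N11689 : nd 11689 = n23877 := ndS (p := 9828) (l := 9) rfl N9828 D23877
theorem N11690 : nd 11690 = n23878 := ndS (p := 9829) (l := 6) rfl N9829 D23878
theorem N11691 : nd 11691 = n23879 := ndS (p := 9830) (l := 5) rfl N9830 D23879
theorem N11692 : nd 11692 = n23880 := ndS (p := 9830) (l := 7) rfl N9830 D23880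
theorem N11693 : nd 11693 = n23881 := ndS (p := 9831) (l := 7) rfl N9831 D23881
theorem N11694 : nd 11694 = n23882 := ndS (p := 9831) (l := 8) rfl N9831 D23882
theorem N11695 : nd 11695 = n23883 := ndS (p := 9833) (l := 6) rfl N9833 D23883
theorem N11696 : nd 11696 = n23884 := ndS (p := 9833) (l := 8) rfl N9833 D23884
theorem N11697 : nd 11697 = n23885 := ndS (p := 9834) (l := 9) rfl N9834 D23885
theorem N11698 : nd 11698 = n23886 := ndS (p := 9835) (l := 8) rfl N9835 D23886
theorem N11699 : nd 11699 = n23887 := ndS (p := 9836) (l := 9) rfl N9836 D23887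
theorem N11700 : nd 11700 = n23888 := ndS (p := 9838) (l := 5) rfl N9838 D23888
theorem N11701 : nd 11701 = n23889 := ndS (p := 9838) (l := 9) rfl N9838 D23889
theorem N11702 : nd 11702 = n23890 := ndS (p := 9840) (l := 1) rfl N9840 D23890
theorem N11703 : nd 11703 = n23891 := ndS (p := 9840) (l := 6) rfl N9840 D23891
theorem N11704 : nd 11704 = n23892 := ndS (p := 9841) (l := 5) rfl N9841 D23892
theorem N11705 : nd 11705 = n23893 := ndS (p := 9841) (l := 7) rfl N9841 D23893
theorem N11706 : nd 11706 = n23894 := ndS (p := 9842) (l := 7) rfl N9842 D23894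
theorem N11707 : nd 11707 = n23895 := ndS (p := 9842) (l := 8) rfl N9842 D23895
theorem N11708 : nd 11708 = n23896 := ndS (p := 9844) (l := 1) rfl N9844 D23896
theorem N11709 : nd 11709 = n23897 := ndS (p := 9844) (l := 6) rfl N9844 D23897
theorem N11710 : nd 11710 = n23898 := ndS (p := 9845) (l := 5) rfl N9845 D23898
theorem N11711 : nd 11711 = n23899 := ndS (p := 9845) (l := 7) rfl N9845 D23899
theorem N11712 : nd 11712 = n23900 := ndS (p := 9846) (l := 7) rfl N9846 D23900
theorem N11713 : nd 11713 = n23901 := ndS (p := 9846) (l := 8) rfl N9846 D23901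
theorem N11714 : nd 11714 = n23902 := ndS (p := 9848) (l := 0) rfl N9848 D23902
theorem N11715 : nd 11715 = n23905 := ndS (p := 9849) (l := 7) rfl N9849 D23905
theorem N11716 : nd 11716 = n23906 := ndS (p := 9850) (l := 4) rfl N9850 D23906
theorem N11717 : nd 11717 = n23907 := ndS (p := 9850) (l := 7) rfl N9850 D23907
theorem N11718 : nd 11718 = n23909 := ndS (p := 9852) (l := 6) rfl N9852 D23909
theorem N11719 : nd 11719 = n23910 := ndS (p := 9852) (l := 8) rfl N9852 D23910
theorem N11720 : nd 11720 = n23912 := ndS (p := 9854) (l := 0) rfl N9854 D23912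
theorem N11721 : nd 11721 = n23913 := ndS (p := 9854) (l := 6) rfl N9854 D23913
theorem N11722 : nd 11722 = n23914 := ndS (p := 9855) (l := 5) rfl N9855 D23914
theorem N11723 : nd 11723 = n23915 := ndS (p := 9855) (l := 7) rfl N9855 D23915
theorem N11724 : nd 11724 = n23916 := ndS (p := 9856) (l := 4) rfl N9856 D23916
theorem N11725 : nd 11725 = n23917 := ndS (p := 9856) (l := 7) rfl N9856 D23917
theorem N11726 : nd 11726 = n23918 := ndS (p := 9856) (l := 8) rfl N9856 D23918
theorem N11727 : nd 11727 = n23919 := ndS (p := 9858) (l := 6) rfl N9858 D23919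
theorem N11728 : nd 11728 = n23920 := ndS (p := 9858) (l := 8) rfl N9858 D23920
theorem N11729 : nd 11729 = n23921 := ndS (p := 9860) (l := 6) rfl N9860 D23921
theorem N11730 : nd 11730 = n23922 := ndS (p := 9861) (l := 5) rfl N9861 D23922
theorem N11731 : nd 11731 = n23923 := ndS (p := 9861) (l := 7) rfl N9861 D23923
theorem N11732 : nd 11732 = n23924 := ndS (p := 9862) (l := 4) rfl N9862 D23924
theorem N11733 : nd 11733 = n23925 := ndS (p := 9862) (l := 7) rfl N9862 D23925
theorem N11734 : nd 11734 = n23926 := ndS (p := 9864) (l := 7) rfl N9864 D23926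
theorem N11735 : nd 11735 = n23927 := ndS (p := 9865) (l := 6) rfl N9865 D23927
theorem N11736 : nd 11736 = n23937 := ndS (p := 9871) (l := 7) rfl N9871 D23937
theorem N11737 : nd 11737 = n23942 := ndS (p := 9873) (l := 3) rfl N9873 D23942
theorem N11738 : nd 11738 = n23943 := ndS (p := 9873) (l := 6) rfl N9873 D23943
theorem N11739 : nd 11739 = n23944 := ndS (p := 9874) (l := 7) rfl N9874 D23944
theorem N11740 : nd 11740 = n23945 := ndS (p := 9875) (l := 3) rfl N9875 D23945
theorem N11741 : nd 11741 = n23946 := ndS (p := 9875) (l := 6) rfl N9875 D23946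
theorem N11742 : nd 11742 = n23947 := ndS (p := 9876) (l := 7) rfl N9876 D23947
theorem N11743 : nd 11743 = n23948 := ndS (p := 9877) (l := 3) rfl N9877 D23948
theorem N11744 : nd 11744 = n23949 := ndS (p := 9877) (l := 6) rfl N9877 D23949
theorem N11745 : nd 11745 = n23950 := ndS (p := 9878) (l := 7) rfl N9878 D23950
theorem N11746 : nd 11746 = n23951 := ndS (p := 9879) (l := 2) rfl N9879 D23951
theorem N11747 : nd 11747 = n23952 := ndS (p := 9879) (l := 6) rfl N9879 D23952
theorem N11748 : nd 11748 = n23953 := ndS (p := 9880) (l := 5) rfl N9880 D23953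
theorem N11749 : nd 11749 = n23954 := ndS (p := 9880) (l := 7) rfl N9880 D23954
theorem N11750 : nd 11750 = n23955 := ndS (p := 9882) (l := 2) rfl N9882 D23955
theorem N11751 : nd 11751 = n23956 := ndS (p := 9882) (l := 6) rfl N9882 D23956
theorem N11752 : nd 11752 = n23957 := ndS (p := 9883) (l := 5) rfl N9883 D23957
theorem N11753 : nd 11753 = n23958 := ndS (p := 9883) (l := 7) rfl N9883 D23958
theorem N11754 : nd 11754 = n23959 := ndS (p := 9885) (l := 1) rfl N9885 D23959
theorem N11755 : nd 11755 = n23960 := ndS (p := 9885) (l := 6) rfl N9885 D23960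
theorem N11756 : nd 11756 = n23961 := ndS (p := 9886) (l := 5) rfl N9886 D23961
theorem N11757 : nd 11757 = n23962 := ndS (p := 9886) (l := 7) rfl N9886 D23962
theorem N11758 : nd 11758 = n23963 := ndS (p := 9887) (l := 7) rfl N9887 D23963
theorem N11759 : nd 11759 = n23964 := ndS (p := 9887) (l := 8) rfl N9887 D23964
theorem N11760 : nd 11760 = n23972 := ndS (p := 9890) (l := 8) rfl N9890 D23972
theorem N11761 : nd 11761 = n23974 := ndS (p := 9892) (l := 3) rfl N9892 D23974
theorem N11762 : nd 11762 = n23975 := ndS (p := 9892) (l := 6) rfl N9892 D23975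
theorem N11763 : nd 11763 = n23976 := ndS (p := 9893) (l := 7) rfl N9893 D23976
theorem N11764 : nd 11764 = n23977 := ndS (p := 9894) (l := 2) rfl N9894 D23977
theorem N11765 : nd 11765 = n23978 := ndS (p := 9894) (l := 6) rfl N9894 D23978
theorem N11766 : nd 11766 = n23979 := ndS (p := 9895) (l := 5) rfl N9895 D23979
theorem N11767 : nd 11767 = n23980 := ndS (p := 9895) (l := 7) rfl N9895 D23980
theorem N11768 : nd 11768 = n23981 := ndS (p := 9897) (l := 3) rfl N9897 D23981
theorem N11769 : nd 11769 = n23982 := ndS (p := 9897) (l := 6) rfl N9897 D23982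
theorem N11770 : nd 11770 = n23983 := ndS (p := 9898) (l := 7) rfl N9898 D23983
theorem N11771 : nd 11771 = n23984 := ndS (p := 9899) (l := 2) rfl N9899 D23984
theorem N11772 : nd 11772 = n23985 := ndS (p := 9899) (l := 6) rfl N9899 D23985
theorem N11773 : nd 11773 = n23986 := ndS (p := 9900) (l := 5) rfl N9900 D23986
theorem N11774 : nd 11774 = n23987 := ndS (p := 9900) (l := 7) rfl N9900 D23987
theorem N11775 : nd 11775 = n23988 := ndS (p := 9902) (l := 2) rfl N9902 D23988
theorem N11776 : nd 11776 = n23989 := ndS (p := 9902) (l := 6) rfl N9902 D23989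
theorem N11777 : nd 11777 = n23990 := ndS (p := 9903) (l := 5) rfl N9903 D23990
theorem N11778 : nd 11778 = n23991 := ndS (p := 9903) (l := 7) rfl N9903 D23991
theorem N11779 : nd 11779 = n23992 := ndS (p := 9905) (l := 1) rfl N9905 D23992
theorem N11780 : nd 11780 = n23993 := ndS (p := 9905) (l := 6) rfl N9905 D23993
theorem N11781 : nd 11781 = n23994 := ndS (p := 9906) (l := 5) rfl N9906 D23994
theorem N11782 : nd 11782 = n23995 := ndS (p := 9906) (l := 7) rfl N9906 D23995
theorem N11783 : nd 11783 = n23996 := ndS (p := 9907) (l := 7) rfl N9907 D23996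
theorem N11784 : nd 11784 = n23997 := ndS (p := 9907) (l := 8) rfl N9907 D23997
theorem N11785 : nd 11785 = n23998 := ndS (p := 9909) (l := 1) rfl N9909 D23998
theorem N11786 : nd 11786 = n23999 := ndS (p := 9909) (l := 6) rfl N9909 D23999
theorem N11787 : nd 11787 = n24000 := ndS (p := 9910) (l := 5) rfl N9910 D24000
theorem N11788 : nd 11788 = n24001 := ndS (p := 9910) (l := 7) rfl N9910 D24001
theorem N11789 : nd 11789 = n24002 := ndS (p := 9911) (l := 7) rfl N9911 D24002
theorem N11790 : nd 11790 = n24003 := ndS (p := 9911) (l := 8) rfl N9911 D24003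
theorem N11791 : nd 11791 = n24004 := ndS (p := 9913) (l := 0) rfl N9913 D24004
theorem N11792 : nd 11792 = n24005 := ndS (p := 9913) (l := 6) rfl N9913 D24005
theorem N11793 : nd 11793 = n24006 := ndS (p := 9914) (l := 5) rfl N9914 D24006
theorem N11794 : nd 11794 = n24007 := ndS (p := 9914) (l := 7) rfl N9914 D24007
theorem N11795 : nd 11795 = n24008 := ndS (p := 9915) (l := 4) rfl N9915 D24008
theorem N11796 : nd 11796 = n24009 := ndS (p := 9915) (l := 7) rfl N9915 D24009
theorem N11797 : nd 11797 = n24010 := ndS (p := 9915) (l := 8) rfl N9915 D24010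
theorem N11798 : nd 11798 = n24011 := ndS (p := 9917) (l := 6) rfl N9917 D24011
theorem N11799 : nd 11799 = n24012 := ndS (p := 9917) (l := 8) rfl N9917 D24012
theorem N11800 : nd 11800 = n24013 := ndS (p := 9918) (l := 9) rfl N9918 D24013
theorem N11801 : nd 11801 = n24017 := ndS (p := 9920) (l := 7) rfl N9920 D24017
theorem N11802 : nd 11802 = n24018 := ndS (p := 9920) (l := 8) rfl N9920 D24018
theorem N11803 : nd 11803 = n24020 := ndS (p := 9921) (l := 8) rfl N9921 D24020
theorem N11804 : nd 11804 = n24022 := ndS (p := 9923) (l := 8) rfl N9923 D24022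
theorem N11805 : nd 11805 = n24023 := ndS (p := 9924) (l := 9) rfl N9924 D24023
theorem N11806 : nd 11806 = n24024 := ndS (p := 9926) (l := 2) rfl N9926 D24024
theorem N11807 : nd 11807 = n24025 := ndS (p := 9926) (l := 6) rfl N9926 D24025
theorem N11808 : nd 11808 = n24026 := ndS (p := 9927) (l := 5) rfl N9927 D24026
theorem N11809 : nd 11809 = n24027 := ndS (p := 9927) (l := 7) rfl N9927 D24027
theorem N11810 : nd 11810 = n24028 := ndS (p := 9929) (l := 2) rfl N9929 D24028
theorem N11811 : nd 11811 = n24029 := ndS (p := 9929) (l := 6) rfl N9929 D24029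
theorem N11812 : nd 11812 = n24030 := ndS (p := 9930) (l := 5) rfl N9930 D24030
theorem N11813 : nd 11813 = n24031 := ndS (p := 9930) (l := 7) rfl N9930 D24031
theorem N11814 : nd 11814 = n24032 := ndS (p := 9932) (l := 2) rfl N9932 D24032
theorem N11815 : nd 11815 = n24033 := ndS (p := 9932) (l := 6) rfl N9932 D24033
theorem N11816 : nd 11816 = n24034 := ndS (p := 9933) (l := 5) rfl N9933 D24034
theorem N11817 : nd 11817 = n24035 := ndS (p := 9933) (l := 7) rfl N9933 D24035
theorem N11818 : nd 11818 = n24036 := ndS (p := 9935) (l := 1) rfl N9935 D24036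
theorem N11819 : nd 11819 = n24037 := ndS (p := 9935) (l := 6) rfl N9935 D24037
theorem N11820 : nd 11820 = n24038 := ndS (p := 9936) (l := 5) rfl N9936 D24038
theorem N11821 : nd 11821 = n24039 := ndS (p := 9936) (l := 7) rfl N9936 D24039
theorem N11822 : nd 11822 = n24040 := ndS (p := 9937) (l := 7) rfl N9937 D24040
theorem N11823 : nd 11823 = n24041 := ndS (p := 9937) (l := 8) rfl N9937 D24041
theorem N11824 : nd 11824 = n24042 := ndS (p := 9939) (l := 2) rfl N9939 D24042
theorem N11825 : nd 11825 = n24043 := ndS (p := 9939) (l := 6) rfl N9939 D24043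
theorem N11826 : nd 11826 = n24044 := ndS (p := 9940) (l := 5) rfl N9940 D24044
theorem N11827 : nd 11827 = n24045 := ndS (p := 9940) (l := 7) rfl N9940 D24045
theorem N11828 : nd 11828 = n24046 := ndS (p := 9942) (l := 1) rfl N9942 D24046
theorem N11829 : nd 11829 = n24047 := ndS (p := 9942) (l := 6) rfl N9942 D24047
theorem N11830 : nd 11830 = n24048 := ndS (p := 9943) (l := 5) rfl N9943 D24048
theorem N11831 : nd 11831 = n24049 := ndS (p := 9943) (l := 7) rfl N9943 D24049
theorem N11832 : nd 11832 = n24050 := ndS (p := 9944) (l := 7) rfl N9944 D24050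
theorem N11833 : nd 11833 = n24051 := ndS (p := 9944) (l := 8) rfl N9944 D24051
theorem N11834 : nd 11834 = n24053 := ndS (p := 9946) (l := 6) rfl N9946 D24053
theorem N11835 : nd 11835 = n24054 := ndS (p := 9947) (l := 5) rfl N9947 D24054
theorem N11836 : nd 11836 = n24055 := ndS (p := 9947) (l := 7) rfl N9947 D24055
theorem N11837 : nd 11837 = n24056 := ndS (p := 9948) (l := 7) rfl N9948 D24056
theorem N11838 : nd 11838 = n24057 := ndS (p := 9948) (l := 8) rfl N9948 D24057
theorem N11839 : nd 11839 = n24058 := ndS (p := 9950) (l := 0) rfl N9950 D24058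
theorem N11840 : nd 11840 = n24059 := ndS (p := 9950) (l := 6) rfl N9950 D24059
theorem N11841 : nd 11841 = n24060 := ndS (p := 9951) (l := 5) rfl N9951 D24060
theorem N11842 : nd 11842 = n24061 := ndS (p := 9951) (l := 7) rfl N9951 D24061
theorem N11843 : nd 11843 = n24062 := ndS (p := 9952) (l := 4) rfl N9952 D24062
theorem N11844 : nd 11844 = n24063 := ndS (p := 9952) (l := 7) rfl N9952 D24063
theorem N11845 : nd 11845 = n24064 := ndS (p := 9952) (l := 8) rfl N9952 D24064
theorem N11846 : nd 11846 = n24065 := ndS (p := 9954) (l := 6) rfl N9954 D24065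
theorem N11847 : nd 11847 = n24066 := ndS (p := 9954) (l := 8) rfl N9954 D24066
theorem N11848 : nd 11848 = n24067 := ndS (p := 9955) (l := 9) rfl N9955 D24067
theorem N11849 : nd 11849 = n24071 := ndS (p := 9957) (l := 7) rfl N9957 D24071
theorem N11850 : nd 11850 = n24072 := ndS (p := 9958) (l := 4) rfl N9958 D24072
theorem N11851 : nd 11851 = n24073 := ndS (p := 9958) (l := 7) rfl N9958 D24073
theorem N11852 : nd 11852 = n24074 := ndS (p := 9958) (l := 8) rfl N9958 D24074
theorem N11853 : nd 11853 = n24075 := ndS (p := 9960) (l := 6) rfl N9960 D24075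
theorem N11854 : nd 11854 = n24076 := ndS (p := 9960) (l := 8) rfl N9960 D24076
theorem N11855 : nd 11855 = n24077 := ndS (p := 9961) (l := 9) rfl N9961 D24077
theorem N11856 : nd 11856 = n24078 := ndS (p := 9962) (l := 6) rfl N9962 D24078
theorem N11857 : nd 11857 = n24079 := ndS (p := 9963) (l := 5) rfl N9963 D24079
theorem N11858 : nd 11858 = n24080 := ndS (p := 9963) (l := 7) rfl N9963 D24080
theorem N11859 : nd 11859 = n24081 := ndS (p := 9964) (l := 4) rfl N9964 D24081
theorem N11860 : nd 11860 = n24082 := ndS (p := 9964) (l := 7) rfl N9964 D24082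
theorem N11861 : nd 11861 = n24083 := ndS (p := 9964) (l := 8) rfl N9964 D24083
theorem N11862 : nd 11862 = n24084 := ndS (p := 9966) (l := 7) rfl N9966 D24084
theorem N11863 : nd 11863 = n24085 := ndS (p := 9966) (l := 8) rfl N9966 D24085
theorem N11864 : nd 11864 = n24086 := ndS (p := 9967) (l := 6) rfl N9967 D24086
theorem N11865 : nd 11865 = n24087 := ndS (p := 9967) (l := 8) rfl N9967 D24087
theorem N11866 : nd 11866 = n24088 := ndS (p := 9968) (l := 9) rfl N9968 D24088
theorem N11867 : nd 11867 = n24089 := ndS (p := 9969) (l := 8) rfl N9969 D24089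
theorem N11868 : nd 11868 = n24090 := ndS (p := 9970) (l := 9) rfl N9970 D24090
theorem N11869 : nd 11869 = n24091 := ndS (p := 9972) (l := 6) rfl N9972 D24091
theorem N11870 : nd 11870 = n24092 := ndS (p := 9972) (l := 8) rfl N9972 D24092
theorem N11871 : nd 11871 = n24093 := ndS (p := 9973) (l := 5) rfl N9973 D24093
theorem N11872 : nd 11872 = n24094 := ndS (p := 9973) (l := 9) rfl N9973 D24094
theorem N11873 : nd 11873 = n24097 := ndS (p := 9977) (l := 5) rfl N9977 D24097
theorem N11874 : nd 11874 = n24099 := ndS (p := 9979) (l := 2) rfl N9979 D24099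
theorem N11875 : nd 11875 = n24100 := ndS (p := 9979) (l := 6) rfl N9979 D24100
theorem N11876 : nd 11876 = n24101 := ndS (p := 9980) (l := 5) rfl N9980 D24101
theorem N11877 : nd 11877 = n24102 := ndS (p := 9980) (l := 7) rfl N9980 D24102
theorem N11878 : nd 11878 = n24103 := ndS (p := 9982) (l := 1) rfl N9982 D24103
theorem N11879 : nd 11879 = n24104 := ndS (p := 9982) (l := 6) rfl N9982 D24104
theorem N11880 : nd 11880 = n24105 := ndS (p := 9983) (l := 5) rfl N9983 D24105
theorem N11881 : nd 11881 = n24106 := ndS (p := 9983) (l := 7) rfl N9983 D24106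
theorem N11882 : nd 11882 = n24107 := ndS (p := 9984) (l := 7) rfl N9984 D24107
theorem N11883 : nd 11883 = n24108 := ndS (p := 9984) (l := 8) rfl N9984 D24108
theorem N11884 : nd 11884 = n24110 := ndS (p := 9986) (l := 6) rfl N9986 D24110
theorem N11885 : nd 11885 = n24111 := ndS (p := 9987) (l := 5) rfl N9987 D24111
theorem N11886 : nd 11886 = n24112 := ndS (p := 9987) (l := 7) rfl N9987 D24112
theorem N11887 : nd 11887 = n24113 := ndS (p := 9988) (l := 7) rfl N9988 D24113
theorem N11888 : nd 11888 = n24114 := ndS (p := 9988) (l := 8) rfl N9988 D24114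
theorem N11889 : nd 11889 = n24115 := ndS (p := 9990) (l := 0) rfl N9990 D24115
theorem N11890 : nd 11890 = n24116 := ndS (p := 9990) (l := 6) rfl N9990 D24116
theorem N11891 : nd 11891 = n24117 := ndS (p := 9991) (l := 5) rfl N9991 D24117
theorem N11892 : nd 11892 = n24118 := ndS (p := 9991) (l := 7) rfl N9991 D24118
theorem N11893 : nd 11893 = n24119 := ndS (p := 9992) (l := 4) rfl N9992 D24119
theorem N11894 : nd 11894 = n24120 := ndS (p := 9992) (l := 7) rfl N9992 D24120
theorem N11895 : nd 11895 = n24121 := ndS (p := 9992) (l := 8) rfl N9992 D24121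
theorem N11896 : nd 11896 = n24122 := ndS (p := 9994) (l := 6) rfl N9994 D24122
theorem N11897 : nd 11897 = n24123 := ndS (p := 9994) (l := 8) rfl N9994 D24123
theorem N11898 : nd 11898 = n24124 := ndS (p := 9995) (l := 9) rfl N9995 D24124
theorem N11899 : nd 11899 = n24125 := ndS (p := 9996) (l := 1) rfl N9996 D24125
theorem N11900 : nd 11900 = n24126 := ndS (p := 9996) (l := 6) rfl N9996 D24126
theorem N11901 : nd 11901 = n24127 := ndS (p := 9997) (l := 5) rfl N9997 D24127
theorem N11902 : nd 11902 = n24128 := ndS (p := 9997) (l := 7) rfl N9997 D24128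
theorem N11903 : nd 11903 = n24129 := ndS (p := 9998) (l := 7) rfl N9998 D24129
theorem N11904 : nd 11904 = n24130 := ndS (p := 9998) (l := 8) rfl N9998 D24130
theorem N11905 : nd 11905 = n24133 := ndS (p := 10001) (l := 5) rfl N10001 D24133
theorem N11906 : nd 11906 = n24134 := ndS (p := 10001) (l := 7) rfl N10001 D24134
theorem N11907 : nd 11907 = n24135 := ndS (p := 10002) (l := 4) rfl N10002 D24135
theorem N11908 : nd 11908 = n24136 := ndS (p := 10002) (l := 7) rfl N10002 D24136
theorem N11909 : nd 11909 = n24138 := ndS (p := 10004) (l := 6) rfl N10004 D24138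
theorem N11910 : nd 11910 = n24139 := ndS (p := 10004) (l := 8) rfl N10004 D24139
theorem N11911 : nd 11911 = n24140 := ndS (p := 10005) (l := 9) rfl N10005 D24140
theorem N11912 : nd 11912 = n24143 := ndS (p := 10006) (l := 5) rfl N10006 D24143
theorem N11913 : nd 11913 = n24144 := ndS (p := 10006) (l := 7) rfl N10006 D24144
theorem N11914 : nd 11914 = n24145 := ndS (p := 10007) (l := 4) rfl N10007 D24145
theorem N11915 : nd 11915 = n24146 := ndS (p := 10007) (l := 7) rfl N10007 D24146
theorem N11916 : nd 11916 = n24147 := ndS (p := 10007) (l := 8) rfl N10007 D24147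
theorem N11917 : nd 11917 = n24148 := ndS (p := 10009) (l := 6) rfl N10009 D24148
theorem N11918 : nd 11918 = n24149 := ndS (p := 10009) (l := 8) rfl N10009 D24149
theorem N11919 : nd 11919 = n24150 := ndS (p := 10010) (l := 9) rfl N10010 D24150
theorem N11920 : nd 11920 = n24152 := ndS (p := 10012) (l := 5) rfl N10012 D24152
theorem N11921 : nd 11921 = n24153 := ndS (p := 10012) (l := 7) rfl N10012 D24153
theorem N11922 : nd 11922 = n24154 := ndS (p := 10013) (l := 4) rfl N10013 D24154
theorem N11923 : nd 11923 = n24155 := ndS (p := 10013) (l := 7) rfl N10013 D24155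
theorem N11924 : nd 11924 = n24156 := ndS (p := 10013) (l := 8) rfl N10013 D24156
theorem N11925 : nd 11925 = n24157 := ndS (p := 10015) (l := 7) rfl N10015 D24157
theorem N11926 : nd 11926 = n24158 := ndS (p := 10015) (l := 8) rfl N10015 D24158
theorem N11927 : nd 11927 = n24159 := ndS (p := 10016) (l := 6) rfl N10016 D24159
theorem N11928 : nd 11928 = n24160 := ndS (p := 10016) (l := 8) rfl N10016 D24160
theorem N11929 : nd 11929 = n24161 := ndS (p := 10017) (l := 9) rfl N10017 D24161
theorem N11930 : nd 11930 = n24162 := ndS (p := 10018) (l := 8) rfl N10018 D24162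
theorem N11931 : nd 11931 = n24163 := ndS (p := 10019) (l := 9) rfl N10019 D24163
theorem N11932 : nd 11932 = n24175 := ndS (p := 10022) (l := 8) rfl N10022 D24175
theorem N11933 : nd 11933 = n24176 := ndS (p := 10023) (l := 9) rfl N10023 D24176
theorem N11934 : nd 11934 = n24177 := ndS (p := 10025) (l := 5) rfl N10025 D24177
theorem N11935 : nd 11935 = n24179 := ndS (p := 10026) (l := 7) rfl N10026 D24179
theorem N11936 : nd 11936 = n24180 := ndS (p := 10026) (l := 8) rfl N10026 D24180
theorem N11937 : nd 11937 = n24181 := ndS (p := 10028) (l := 6) rfl N10028 D24181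
theorem N11938 : nd 11938 = n24182 := ndS (p := 10028) (l := 8) rfl N10028 D24182
theorem N11939 : nd 11939 = n24183 := ndS (p := 10029) (l := 9) rfl N10029 D24183
theorem N11940 : nd 11940 = n24184 := ndS (p := 10030) (l := 8) rfl N10030 D24184
theorem N11941 : nd 11941 = n24185 := ndS (p := 10031) (l := 9) rfl N10031 D24185
theorem N11942 : nd 11942 = n24186 := ndS (p := 10033) (l := 5) rfl N10033 D24186
theorem N11943 : nd 11943 = n24187 := ndS (p := 10033) (l := 9) rfl N10033 D24187
theorem N11944 : nd 11944 = n24188 := ndS (p := 10035) (l := 4) rfl N10035 D24188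
theorem N11945 : nd 11945 = n24189 := ndS (p := 10035) (l := 9) rfl N10035 D24189
theorem N11946 : nd 11946 = n24190 := ndS (p := 10037) (l := 0) rfl N10037 D24190
theorem N11947 : nd 11947 = n24191 := ndS (p := 10037) (l := 6) rfl N10037 D24191
theorem N11948 : nd 11948 = n24192 := ndS (p := 10038) (l := 5) rfl N10038 D24192
theorem N11949 : nd 11949 = n24193 := ndS (p := 10038) (l := 7) rfl N10038 D24193
theorem N11950 : nd 11950 = n24194 := ndS (p := 10039) (l := 4) rfl N10039 D24194
theorem N11951 : nd 11951 = n24195 := ndS (p := 10039) (l := 7) rfl N10039 D24195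
theorem N11952 : nd 11952 = n24196 := ndS (p := 10039) (l := 8) rfl N10039 D24196
theorem N11953 : nd 11953 = n24197 := ndS (p := 10041) (l := 6) rfl N10041 D24197
theorem N11954 : nd 11954 = n24198 := ndS (p := 10041) (l := 8) rfl N10041 D24198
theorem N11955 : nd 11955 = n24202 := ndS (p := 10043) (l := 4) rfl N10043 D24202
theorem N11956 : nd 11956 = n24203 := ndS (p := 10043) (l := 7) rfl N10043 D24203
theorem N11957 : nd 11957 = n24205 := ndS (p := 10045) (l := 7) rfl N10045 D24205
theorem N11958 : nd 11958 = n24207 := ndS (p := 10046) (l := 6) rfl N10046 D24207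
theorem N11959 : nd 11959 = n24209 := ndS (p := 10047) (l := 8) rfl N10047 D24209
theorem N11960 : nd 11960 = n24213 := ndS (p := 10049) (l := 4) rfl N10049 D24213
theorem N11961 : nd 11961 = n24214 := ndS (p := 10049) (l := 7) rfl N10049 D24214
theorem N11962 : nd 11962 = n24216 := ndS (p := 10051) (l := 7) rfl N10051 D24216
theorem N11963 : nd 11963 = n24217 := ndS (p := 10051) (l := 8) rfl N10051 D24217
theorem N11964 : nd 11964 = n24218 := ndS (p := 10052) (l := 6) rfl N10052 D24218
theorem N11965 : nd 11965 = n24219 := ndS (p := 10052) (l := 8) rfl N10052 D24219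
theorem N11966 : nd 11966 = n24220 := ndS (p := 10054) (l := 8) rfl N10054 D24220
theorem N11967 : nd 11967 = n24223 := ndS (p := 10056) (l := 4) rfl N10056 D24223
theorem N11968 : nd 11968 = n24224 := ndS (p := 10056) (l := 7) rfl N10056 D24224
theorem N11969 : nd 11969 = n24225 := ndS (p := 10058) (l := 3) rfl N10058 D24225
theorem N11970 : nd 11970 = n24226 := ndS (p := 10058) (l := 7) rfl N10058 D24226
theorem N11971 : nd 11971 = n24227 := ndS (p := 10059) (l := 6) rfl N10059 D24227
theorem N11972 : nd 11972 = n24228 := ndS (p := 10060) (l := 6) rfl N10060 D24228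
theorem N11973 : nd 11973 = n24246 := ndS (p := 10062) (l := 2) rfl N10062 D24246
theorem N11974 : nd 11974 = n24247 := ndS (p := 10062) (l := 6) rfl N10062 D24247
theorem N11975 : nd 11975 = n24248 := ndS (p := 10063) (l := 5) rfl N10063 D24248
theorem N11976 : nd 11976 = n24249 := ndS (p := 10063) (l := 7) rfl N10063 D24249
theorem N11977 : nd 11977 = n24250 := ndS (p := 10065) (l := 1) rfl N10065 D24250
theorem N11978 : nd 11978 = n24251 := ndS (p := 10065) (l := 6) rfl N10065 D24251
theorem N11979 : nd 11979 = n24252 := ndS (p := 10066) (l := 5) rfl N10066 D24252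
theorem N11980 : nd 11980 = n24253 := ndS (p := 10066) (l := 7) rfl N10066 D24253
theorem N11981 : nd 11981 = n24254 := ndS (p := 10067) (l := 7) rfl N10067 D24254
theorem N11982 : nd 11982 = n24256 := ndS (p := 10069) (l := 1) rfl N10069 D24256
theorem N11983 : nd 11983 = n24257 := ndS (p := 10069) (l := 6) rfl N10069 D24257
theorem N11984 : nd 11984 = n24258 := ndS (p := 10070) (l := 5) rfl N10070 D24258
theorem N11985 : nd 11985 = n24259 := ndS (p := 10070) (l := 7) rfl N10070 D24259
theorem N11986 : nd 11986 = n24260 := ndS (p := 10071) (l := 7) rfl N10071 D24260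
theorem N11987 : nd 11987 = n24261 := ndS (p := 10071) (l := 8) rfl N10071 D24261
theorem N11988 : nd 11988 = n24262 := ndS (p := 10073) (l := 0) rfl N10073 D24262
theorem N11989 : nd 11989 = n24263 := ndS (p := 10073) (l := 6) rfl N10073 D24263
theorem N11990 : nd 11990 = n24264 := ndS (p := 10074) (l := 5) rfl N10074 D24264
theorem N11991 : nd 11991 = n24265 := ndS (p := 10074) (l := 7) rfl N10074 D24265
theorem N11992 : nd 11992 = n24267 := ndS (p := 10075) (l := 7) rfl N10075 D24267
theorem N11993 : nd 11993 = n24281 := ndS (p := 10078) (l := 6) rfl N10078 D24281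
theorem N11994 : nd 11994 = n24282 := ndS (p := 10079) (l := 5) rfl N10079 D24282
theorem N11995 : nd 11995 = n24283 := ndS (p := 10079) (l := 7) rfl N10079 D24283
theorem N11996 : nd 11996 = n24284 := ndS (p := 10080) (l := 7) rfl N10080 D24284
theorem N11997 : nd 11997 = n24285 := ndS (p := 10080) (l := 8) rfl N10080 D24285
theorem N11998 : nd 11998 = n24288 := ndS (p := 10082) (l := 5) rfl N10082 D24288
theorem N11999 : nd 11999 = n24289 := ndS (p := 10082) (l := 7) rfl N10082 D24289
theorem N12000 : nd 12000 = n24290 := ndS (p := 10083) (l := 4) rfl N10083 D24290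
theorem N12001 : nd 12001 = n24291 := ndS (p := 10083) (l := 7) rfl N10083 D24291
theorem N12002 : nd 12002 = n24292 := ndS (p := 10083) (l := 8) rfl N10083 D24292
theorem N12003 : nd 12003 = n24293 := ndS (p := 10085) (l := 6) rfl N10085 D24293
theorem N12004 : nd 12004 = n24294 := ndS (p := 10085) (l := 8) rfl N10085 D24294
theorem N12005 : nd 12005 = n24295 := ndS (p := 10086) (l := 9) rfl N10086 D24295
theorem N12006 : nd 12006 = n24299 := ndS (p := 10088) (l := 7) rfl N10088 D24299
theorem N12007 : nd 12007 = n24300 := ndS (p := 10089) (l := 4) rfl N10089 D24300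
theorem N12008 : nd 12008 = n24301 := ndS (p := 10089) (l := 7) rfl N10089 D24301
theorem N12009 : nd 12009 = n24302 := ndS (p := 10089) (l := 8) rfl N10089 D24302
theorem N12010 : nd 12010 = n24303 := ndS (p := 10091) (l := 6) rfl N10091 D24303
theorem N12011 : nd 12011 = n24304 := ndS (p := 10091) (l := 8) rfl N10091 D24304
theorem N12012 : nd 12012 = n24305 := ndS (p := 10092) (l := 9) rfl N10092 D24305
theorem N12013 : nd 12013 = n24306 := ndS (p := 10093) (l := 6) rfl N10093 D24306
theorem N12014 : nd 12014 = n24307 := ndS (p := 10094) (l := 5) rfl N10094 D24307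
theorem N12015 : nd 12015 = n24308 := ndS (p := 10094) (l := 7) rfl N10094 D24308
theorem N12016 : nd 12016 = n24309 := ndS (p := 10095) (l := 4) rfl N10095 D24309
theorem N12017 : nd 12017 = n24310 := ndS (p := 10095) (l := 7) rfl N10095 D24310
theorem N12018 : nd 12018 = n24311 := ndS (p := 10095) (l := 8) rfl N10095 D24311
theorem N12019 : nd 12019 = n24312 := ndS (p := 10097) (l := 7) rfl N10097 D24312
theorem N12020 : nd 12020 = n24314 := ndS (p := 10098) (l := 6) rfl N10098 D24314
theorem N12021 : nd 12021 = n24315 := ndS (p := 10098) (l := 8) rfl N10098 D24315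
theorem N12022 : nd 12022 = n24316 := ndS (p := 10099) (l := 9) rfl N10099 D24316
theorem N12023 : nd 12023 = n24332 := ndS (p := 10104) (l := 5) rfl N10104 D24332
theorem N12024 : nd 12024 = n24333 := ndS (p := 10104) (l := 7) rfl N10104 D24333
theorem N12025 : nd 12025 = n24334 := ndS (p := 10105) (l := 4) rfl N10105 D24334
theorem N12026 : nd 12026 = n24335 := ndS (p := 10105) (l := 7) rfl N10105 D24335
theorem N12027 : nd 12027 = n24336 := ndS (p := 10105) (l := 8) rfl N10105 D24336
theorem N12028 : nd 12028 = n24337 := ndS (p := 10107) (l := 6) rfl N10107 D24337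
theorem N12029 : nd 12029 = n24338 := ndS (p := 10107) (l := 8) rfl N10107 D24338
theorem N12030 : nd 12030 = n24339 := ndS (p := 10108) (l := 9) rfl N10108 D24339
theorem N12031 : nd 12031 = n24344 := ndS (p := 10109) (l := 7) rfl N10109 D24344
theorem N12032 : nd 12032 = n24345 := ndS (p := 10109) (l := 8) rfl N10109 D24345
theorem N12033 : nd 12033 = n24346 := ndS (p := 10111) (l := 7) rfl N10111 D24346
theorem N12034 : nd 12034 = n24347 := ndS (p := 10111) (l := 8) rfl N10111 D24347
theorem N12035 : nd 12035 = n24348 := ndS (p := 10112) (l := 6) rfl N10112 D24348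
theorem N12036 : nd 12036 = n24349 := ndS (p := 10112) (l := 8) rfl N10112 D24349
theorem N12037 : nd 12037 = n24350 := ndS (p := 10113) (l := 9) rfl N10113 D24350
theorem N12038 : nd 12038 = n24351 := ndS (p := 10114) (l := 8) rfl N10114 D24351
theorem N12039 : nd 12039 = n24352 := ndS (p := 10115) (l := 9) rfl N10115 D24352
theorem N12040 : nd 12040 = n24359 := ndS (p := 10118) (l := 7) rfl N10118 D24359
theorem N12041 : nd 12041 = n24361 := ndS (p := 10119) (l := 6) rfl N10119 D24361
theorem N12042 : nd 12042 = n24362 := ndS (p := 10119) (l := 8) rfl N10119 D24362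
theorem N12043 : nd 12043 = n24363 := ndS (p := 10120) (l := 9) rfl N10120 D24363
theorem N12044 : nd 12044 = n24364 := ndS (p := 10121) (l := 8) rfl N10121 D24364
theorem N12045 : nd 12045 = n24365 := ndS (p := 10122) (l := 9) rfl N10122 D24365
theorem N12046 : nd 12046 = n24366 := ndS (p := 10124) (l := 5) rfl N10124 D24366
theorem N12047 : nd 12047 = n24368 := ndS (p := 10125) (l := 4) rfl N10125 D24368
theorem N12048 : nd 12048 = n24369 := ndS (p := 10125) (l := 7) rfl N10125 D24369
theorem N12049 : nd 12049 = n24370 := ndS (p := 10125) (l := 8) rfl N10125 D24370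
theorem N12050 : nd 12050 = n24371 := ndS (p := 10127) (l := 7) rfl N10127 D24371
theorem N12051 : nd 12051 = n24373 := ndS (p := 10128) (l := 6) rfl N10128 D24373
theorem N12052 : nd 12052 = n24374 := ndS (p := 10128) (l := 8) rfl N10128 D24374
theorem N12053 : nd 12053 = n24375 := ndS (p := 10129) (l := 9) rfl N10129 D24375
theorem N12054 : nd 12054 = n24381 := ndS (p := 10132) (l := 9) rfl N10132 D24381
theorem N12055 : nd 12055 = n24397 := ndS (p := 10136) (l := 7) rfl N10136 D24397
theorem N12056 : nd 12056 = n24398 := ndS (p := 10136) (l := 8) rfl N10136 D24398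
theorem N12057 : nd 12057 = n24399 := ndS (p := 10138) (l := 7) rfl N10138 D24399
theorem N12058 : nd 12058 = n24400 := ndS (p := 10138) (l := 8) rfl N10138 D24400
theorem N12059 : nd 12059 = n24401 := ndS (p := 10139) (l := 6) rfl N10139 D24401
theorem N12060 : nd 12060 = n24402 := ndS (p := 10139) (l := 8) rfl N10139 D24402
theorem N12061 : nd 12061 = n24403 := ndS (p := 10140) (l := 9) rfl N10140 D24403
theorem N12062 : nd 12062 = n24404 := ndS (p := 10141) (l := 8) rfl N10141 D24404
theorem N12063 : nd 12063 = n24405 := ndS (p := 10142) (l := 9) rfl N10142 D24405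
theorem N12064 : nd 12064 = n24414 := ndS (p := 10144) (l := 6) rfl N10144 D24414
theorem N12065 : nd 12065 = n24415 := ndS (p := 10144) (l := 8) rfl N10144 D24415
theorem N12066 : nd 12066 = n24416 := ndS (p := 10145) (l := 9) rfl N10145 D24416
theorem N12067 : nd 12067 = n24417 := ndS (p := 10146) (l := 6) rfl N10146 D24417
theorem N12068 : nd 12068 = n24418 := ndS (p := 10146) (l := 8) rfl N10146 D24418
theorem N12069 : nd 12069 = n24419 := ndS (p := 10147) (l := 9) rfl N10147 D24419
theorem N12070 : nd 12070 = n24420 := ndS (p := 10148) (l := 8) rfl N10148 D24420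
theorem N12071 : nd 12071 = n24421 := ndS (p := 10149) (l := 9) rfl N10149 D24421
theorem N12072 : nd 12072 = n24422 := ndS (p := 10151) (l := 5) rfl N10151 D24422
theorem N12073 : nd 12073 = n24423 := ndS (p := 10151) (l := 9) rfl N10151 D24423
theorem N12074 : nd 12074 = n24440 := ndS (p := 10153) (l := 5) rfl N10153 D24440
theorem N12075 : nd 12075 = n24441 := ndS (p := 10153) (l := 9) rfl N10153 D24441
theorem N12076 : nd 12076 = n24445 := ndS (p := 10155) (l := 8) rfl N10155 D24445
theorem N12077 : nd 12077 = n24446 := ndS (p := 10156) (l := 9) rfl N10156 D24446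
theorem N12078 : nd 12078 = n24447 := ndS (p := 10157) (l := 8) rfl N10157 D24447
theorem N12079 : nd 12079 = n24448 := ndS (p := 10158) (l := 9) rfl N10158 D24448
theorem N12080 : nd 12080 = n24449 := ndS (p := 10160) (l := 5) rfl N10160 D24449
theorem N12081 : nd 12081 = n24450 := ndS (p := 10160) (l := 9) rfl N10160 D24450
theorem N12082 : nd 12082 = n24452 := ndS (p := 10162) (l := 9) rfl N10162 D24452
theorem N12083 : nd 12083 = n24465 := ndS (p := 10164) (l := 8) rfl N10164 D24465
theorem N12084 : nd 12084 = n24482 := ndS (p := 10167) (l := 2) rfl N10167 D24482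
theorem N12085 : nd 12085 = n24483 := ndS (p := 10167) (l := 6) rfl N10167 D24483
theorem N12086 : nd 12086 = n24484 := ndS (p := 10168) (l := 5) rfl N10168 D24484
theorem N12087 : nd 12087 = n24485 := ndS (p := 10168) (l := 7) rfl N10168 D24485
theorem N12088 : nd 12088 = n24486 := ndS (p := 10170) (l := 2) rfl N10170 D24486
theorem N12089 : nd 12089 = n24487 := ndS (p := 10170) (l := 6) rfl N10170 D24487
theorem N12090 : nd 12090 = n24488 := ndS (p := 10171) (l := 5) rfl N10171 D24488
theorem N12091 : nd 12091 = n24490 := ndS (p := 10172) (l := 1) rfl N10172 D24490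
theorem N12092 : nd 12092 = n24491 := ndS (p := 10172) (l := 6) rfl N10172 D24491
theorem N12093 : nd 12093 = n24492 := ndS (p := 10173) (l := 5) rfl N10173 D24492
theorem N12094 : nd 12094 = n24496 := ndS (p := 10175) (l := 1) rfl N10175 D24496
theorem N12095 : nd 12095 = n24497 := ndS (p := 10175) (l := 6) rfl N10175 D24497
theorem N12096 : nd 12096 = n24498 := ndS (p := 10176) (l := 5) rfl N10176 D24498
theorem N12097 : nd 12097 = n24501 := ndS (p := 10177) (l := 8) rfl N10177 D24501
theorem N12098 : nd 12098 = n24522 := ndS (p := 10180) (l := 2) rfl N10180 D24522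
theorem N12099 : nd 12099 = n24523 := ndS (p := 10180) (l := 6) rfl N10180 D24523
theorem N12100 : nd 12100 = n24524 := ndS (p := 10181) (l := 5) rfl N10181 D24524
theorem N12101 : nd 12101 = n24525 := ndS (p := 10181) (l := 7) rfl N10181 D24525
theorem N12102 : nd 12102 = n24526 := ndS (p := 10183) (l := 2) rfl N10183 D24526
theorem N12103 : nd 12103 = n24527 := ndS (p := 10183) (l := 6) rfl N10183 D24527
theorem N12104 : nd 12104 = n24528 := ndS (p := 10184) (l := 5) rfl N10184 D24528
theorem N12105 : nd 12105 = n24529 := ndS (p := 10184) (l := 7) rfl N10184 D24529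
theorem N12106 : nd 12106 = n24530 := ndS (p := 10186) (l := 1) rfl N10186 D24530
theorem N12107 : nd 12107 = n24531 := ndS (p := 10186) (l := 6) rfl N10186 D24531
theorem N12108 : nd 12108 = n24532 := ndS (p := 10187) (l := 5) rfl N10187 D24532
theorem N12109 : nd 12109 = n24533 := ndS (p := 10187) (l := 7) rfl N10187 D24533
theorem N12110 : nd 12110 = n24534 := ndS (p := 10188) (l := 7) rfl N10188 D24534
theorem N12111 : nd 12111 = n24535 := ndS (p := 10188) (l := 8) rfl N10188 D24535
theorem N12112 : nd 12112 = n24542 := ndS (p := 10191) (l := 5) rfl N10191 D24542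
theorem N12113 : nd 12113 = n24543 := ndS (p := 10191) (l := 7) rfl N10191 D24543
theorem N12114 : nd 12114 = n24545 := ndS (p := 10192) (l := 8) rfl N10192 D24545
theorem N12115 : nd 12115 = n24546 := ndS (p := 10194) (l := 0) rfl N10194 D24546
theorem N12116 : nd 12116 = n24547 := ndS (p := 10194) (l := 6) rfl N10194 D24547
theorem N12117 : nd 12117 = n24548 := ndS (p := 10195) (l := 5) rfl N10195 D24548
theorem N12118 : nd 12118 = n24550 := ndS (p := 10196) (l := 4) rfl N10196 D24550
theorem N12119 : nd 12119 = n24551 := ndS (p := 10196) (l := 7) rfl N10196 D24551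
theorem N12120 : nd 12120 = n24552 := ndS (p := 10196) (l := 8) rfl N10196 D24552
theorem N12121 : nd 12121 = n24553 := ndS (p := 10198) (l := 6) rfl N10198 D24553
theorem N12122 : nd 12122 = n24555 := ndS (p := 10199) (l := 9) rfl N10199 D24555
theorem N12123 : nd 12123 = n24560 := ndS (p := 10200) (l := 4) rfl N10200 D24560
theorem N12124 : nd 12124 = n24561 := ndS (p := 10200) (l := 7) rfl N10200 D24561
theorem N12125 : nd 12125 = n24562 := ndS (p := 10200) (l := 8) rfl N10200 D24562
theorem N12126 : nd 12126 = n24564 := ndS (p := 10202) (l := 8) rfl N10202 D24564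
theorem N12127 : nd 12127 = n24565 := ndS (p := 10203) (l := 9) rfl N10203 D24565
theorem N12128 : nd 12128 = n24567 := ndS (p := 10205) (l := 5) rfl N10205 D24567
theorem N12129 : nd 12129 = n24569 := ndS (p := 10206) (l := 4) rfl N10206 D24569
theorem N12130 : nd 12130 = n24571 := ndS (p := 10206) (l := 8) rfl N10206 D24571
theorem N12131 : nd 12131 = n24573 := ndS (p := 10207) (l := 8) rfl N10207 D24573
theorem N12132 : nd 12132 = n24576 := ndS (p := 10208) (l := 9) rfl N10208 D24576
theorem N12133 : nd 12133 = n24586 := ndS (p := 10210) (l := 5) rfl N10210 D24586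
theorem N12134 : nd 12134 = n24592 := ndS (p := 10211) (l := 1) rfl N10211 D24592
theorem N12135 : nd 12135 = n24593 := ndS (p := 10211) (l := 6) rfl N10211 D24593
theorem N12136 : nd 12136 = n24594 := ndS (p := 10212) (l := 5) rfl N10212 D24594
theorem N12137 : nd 12137 = n24595 := ndS (p := 10212) (l := 7) rfl N10212 D24595
theorem N12138 : nd 12138 = n24596 := ndS (p := 10213) (l := 7) rfl N10213 D24596
theorem N12139 : nd 12139 = n24597 := ndS (p := 10213) (l := 8) rfl N10213 D24597
theorem N12140 : nd 12140 = n24599 := ndS (p := 10215) (l := 6) rfl N10215 D24599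
theorem N12141 : nd 12141 = n24600 := ndS (p := 10216) (l := 5) rfl N10216 D24600
theorem N12142 : nd 12142 = n24601 := ndS (p := 10216) (l := 7) rfl N10216 D24601
theorem N12143 : nd 12143 = n24602 := ndS (p := 10217) (l := 7) rfl N10217 D24602
theorem N12144 : nd 12144 = n24603 := ndS (p := 10217) (l := 8) rfl N10217 D24603
theorem N12145 : nd 12145 = n24605 := ndS (p := 10219) (l := 6) rfl N10219 D24605
theorem N12146 : nd 12146 = n24606 := ndS (p := 10220) (l := 5) rfl N10220 D24606
theorem N12147 : nd 12147 = n24607 := ndS (p := 10220) (l := 7) rfl N10220 D24607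
theorem N12148 : nd 12148 = n24608 := ndS (p := 10221) (l := 4) rfl N10221 D24608
theorem N12149 : nd 12149 = n24609 := ndS (p := 10221) (l := 7) rfl N10221 D24609
theorem N12150 : nd 12150 = n24610 := ndS (p := 10221) (l := 8) rfl N10221 D24610
theorem N12151 : nd 12151 = n24611 := ndS (p := 10223) (l := 6) rfl N10223 D24611
theorem N12152 : nd 12152 = n24612 := ndS (p := 10223) (l := 8) rfl N10223 D24612
theorem N12153 : nd 12153 = n24613 := ndS (p := 10224) (l := 9) rfl N10224 D24613
theorem N12154 : nd 12154 = n24626 := ndS (p := 10225) (l := 8) rfl N10225 D24626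
theorem N12155 : nd 12155 = n24631 := ndS (p := 10228) (l := 5) rfl N10228 D24631
theorem N12156 : nd 12156 = n24634 := ndS (p := 10229) (l := 7) rfl N10229 D24634
theorem N12157 : nd 12157 = n24635 := ndS (p := 10229) (l := 8) rfl N10229 D24635
theorem N12158 : nd 12158 = n24636 := ndS (p := 10231) (l := 7) rfl N10231 D24636
theorem N12159 : nd 12159 = n24637 := ndS (p := 10231) (l := 8) rfl N10231 D24637
theorem N12160 : nd 12160 = n24638 := ndS (p := 10232) (l := 6) rfl N10232 D24638
theorem N12161 : nd 12161 = n24639 := ndS (p := 10232) (l := 8) rfl N10232 D24639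
theorem N12162 : nd 12162 = n24640 := ndS (p := 10233) (l := 9) rfl N10233 D24640
theorem N12163 : nd 12163 = n24641 := ndS (p := 10234) (l := 8) rfl N10234 D24641
theorem N12164 : nd 12164 = n24650 := ndS (p := 10237) (l := 8) rfl N10237 D24650
theorem N12165 : nd 12165 = n24651 := ndS (p := 10238) (l := 6) rfl N10238 D24651
theorem N12166 : nd 12166 = n24652 := ndS (p := 10238) (l := 8) rfl N10238 D24652
theorem N12167 : nd 12167 = n24653 := ndS (p := 10239) (l := 9) rfl N10239 D24653
theorem N12168 : nd 12168 = n24654 := ndS (p := 10240) (l := 8) rfl N10240 D24654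
theorem N12169 : nd 12169 = n24658 := ndS (p := 10243) (l := 4) rfl N10243 D24658
theorem N12170 : nd 12170 = n24660 := ndS (p := 10243) (l := 8) rfl N10243 D24660
theorem N12171 : nd 12171 = n24661 := ndS (p := 10244) (l := 7) rfl N10244 D24661
theorem N12172 : nd 12172 = n24662 := ndS (p := 10244) (l := 8) rfl N10244 D24662
theorem N12173 : nd 12173 = n24663 := ndS (p := 10245) (l := 6) rfl N10245 D24663
theorem N12174 : nd 12174 = n24664 := ndS (p := 10245) (l := 8) rfl N10245 D24664
theorem N12175 : nd 12175 = n24665 := ndS (p := 10246) (l := 9) rfl N10246 D24665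
theorem N12176 : nd 12176 = n24668 := ndS (p := 10248) (l := 5) rfl N10248 D24668
theorem N12177 : nd 12177 = n24670 := ndS (p := 10249) (l := 8) rfl N10249 D24670
theorem N12178 : nd 12178 = n24672 := ndS (p := 10252) (l := 5) rfl N10252 D24672
theorem N12179 : nd 12179 = n24678 := ndS (p := 10253) (l := 6) rfl N10253 D24678
theorem N12180 : nd 12180 = n24682 := ndS (p := 10254) (l := 4) rfl N10254 D24682
theorem N12181 : nd 12181 = n24693 := ndS (p := 10256) (l := 7) rfl N10256 D24693
theorem N12182 : nd 12182 = n24698 := ndS (p := 10258) (l := 8) rfl N10258 D24698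
theorem N12183 : nd 12183 = n24701 := ndS (p := 10260) (l := 5) rfl N10260 D24701
theorem N12184 : nd 12184 = n24702 := ndS (p := 10260) (l := 7) rfl N10260 D24702
theorem N12185 : nd 12185 = n24704 := ndS (p := 10261) (l := 7) rfl N10261 D24704
theorem N12186 : nd 12186 = n24705 := ndS (p := 10261) (l := 8) rfl N10261 D24705
theorem N12187 : nd 12187 = n24707 := ndS (p := 10263) (l := 8) rfl N10263 D24707
theorem N12188 : nd 12188 = n24709 := ndS (p := 10264) (l := 8) rfl N10264 D24709
theorem N12189 : nd 12189 = n24710 := ndS (p := 10265) (l := 9) rfl N10265 D24710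
theorem N12190 : nd 12190 = n24711 := ndS (p := 10266) (l := 8) rfl N10266 D24711
theorem N12191 : nd 12191 = n24712 := ndS (p := 10267) (l := 9) rfl N10267 D24712
theorem N12192 : nd 12192 = n24739 := ndS (p := 10269) (l := 8) rfl N10269 D24739
theorem N12193 : nd 12193 = n24744 := ndS (p := 10270) (l := 8) rfl N10270 D24744
theorem N12194 : nd 12194 = n24745 := ndS (p := 10271) (l := 9) rfl N10271 D24745
theorem N12195 : nd 12195 = n24750 := ndS (p := 10273) (l := 9) rfl N10273 D24750
theorem N12196 : nd 12196 = n24751 := ndS (p := 10275) (l := 5) rfl N10275 D24751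
theorem N12197 : nd 12197 = n24752 := ndS (p := 10275) (l := 9) rfl N10275 D24752
theorem N12198 : nd 12198 = n24770 := ndS (p := 10277) (l := 5) rfl N10277 D24770
theorem N12199 : nd 12199 = n24776 := ndS (p := 10278) (l := 9) rfl N10278 D24776
theorem N12200 : nd 12200 = n24777 := ndS (p := 10279) (l := 8) rfl N10279 D24777
theorem N12201 : nd 12201 = n24778 := ndS (p := 10280) (l := 9) rfl N10280 D24778
theorem N12202 : nd 12202 = n24779 := ndS (p := 10282) (l := 5) rfl N10282 D24779
theorem N12203 : nd 12203 = n24780 := ndS (p := 10282) (l := 9) rfl N10282 D24780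
theorem N12204 : nd 12204 = n24781 := ndS (p := 10284) (l := 4) rfl N10284 D24781
theorem N12205 : nd 12205 = n24782 := ndS (p := 10284) (l := 9) rfl N10284 D24782
theorem N12206 : nd 12206 = n24859 := ndS (p := 10290) (l := 4) rfl N10290 D24859
theorem N12207 : nd 12207 = n24861 := ndS (p := 10290) (l := 8) rfl N10290 D24861
theorem N12208 : nd 12208 = n24864 := ndS (p := 10291) (l := 9) rfl N10291 D24864
theorem N12209 : nd 12209 = n24890 := ndS (p := 10294) (l := 9) rfl N10294 D24890
theorem N12210 : nd 12210 = n24892 := ndS (p := 10295) (l := 9) rfl N10295 D24892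
theorem N12211 : nd 12211 = n24933 := ndS (p := 10302) (l := 9) rfl N10302 D24933
theorem N12212 : nd 12212 = n24938 := ndS (p := 10305) (l := 9) rfl N10305 D24938
theorem N12213 : nd 12213 = n24987 := ndS (p := 10308) (l := 9) rfl N10308 D24987
theorem N12214 : nd 12214 = n24994 := ndS (p := 10311) (l := 9) rfl N10311 D24994
theorem N12215 : nd 12215 = n24996 := ndS (p := 10313) (l := 9) rfl N10313 D24996
theorem N12216 : nd 12216 = n25063 := ndS (p := 10316) (l := 8) rfl N10316 D25063
theorem N12217 : nd 12217 = n25075 := ndS (p := 10317) (l := 9) rfl N10317 D25075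
theorem N12218 : nd 12218 = n25095 := ndS (p := 10319) (l := 7) rfl N10319 D25095
theorem N12219 : nd 12219 = n25096 := ndS (p := 10320) (l := 7) rfl N10320 D25096
theorem N12220 : nd 12220 = n25097 := ndS (p := 10320) (l := 8) rfl N10320 D25097
theorem N12221 : nd 12221 = n25098 := ndS (p := 10322) (l := 2) rfl N10322 D25098
theorem N12222 : nd 12222 = n25099 := ndS (p := 10322) (l := 6) rfl N10322 D25099
theorem N12223 : nd 12223 = n25100 := ndS (p := 10323) (l := 5) rfl N10323 D25100
theorem N12224 : nd 12224 = n25101 := ndS (p := 10323) (l := 7) rfl N10323 D25101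
theorem N12225 : nd 12225 = n25102 := ndS (p := 10325) (l := 1) rfl N10325 D25102
theorem N12226 : nd 12226 = n25103 := ndS (p := 10325) (l := 6) rfl N10325 D25103
theorem N12227 : nd 12227 = n25104 := ndS (p := 10326) (l := 5) rfl N10326 D25104
theorem N12228 : nd 12228 = n25105 := ndS (p := 10326) (l := 7) rfl N10326 D25105
theorem N12229 : nd 12229 = n25106 := ndS (p := 10327) (l := 7) rfl N10327 D25106
theorem N12230 : nd 12230 = n25107 := ndS (p := 10327) (l := 8) rfl N10327 D25107
theorem N12231 : nd 12231 = n25110 := ndS (p := 10329) (l := 4) rfl N10329 D25110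
theorem N12232 : nd 12232 = n25111 := ndS (p := 10329) (l := 7) rfl N10329 D25111
theorem N12233 : nd 12233 = n25112 := ndS (p := 10329) (l := 8) rfl N10329 D25112
theorem N12234 : nd 12234 = n25113 := ndS (p := 10331) (l := 6) rfl N10331 D25113
theorem N12235 : nd 12235 = n25114 := ndS (p := 10331) (l := 8) rfl N10331 D25114
theorem N12236 : nd 12236 = n25115 := ndS (p := 10332) (l := 9) rfl N10332 D25115
theorem N12237 : nd 12237 = n25117 := ndS (p := 10333) (l := 6) rfl N10333 D25117
theorem N12238 : nd 12238 = n25118 := ndS (p := 10334) (l := 5) rfl N10334 D25118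
theorem N12239 : nd 12239 = n25119 := ndS (p := 10334) (l := 7) rfl N10334 D25119
theorem N12240 : nd 12240 = n25121 := ndS (p := 10336) (l := 6) rfl N10336 D25121
theorem N12241 : nd 12241 = n25122 := ndS (p := 10337) (l := 5) rfl N10337 D25122
theorem N12242 : nd 12242 = n25123 := ndS (p := 10337) (l := 7) rfl N10337 D25123
theorem N12243 : nd 12243 = n25124 := ndS (p := 10339) (l := 1) rfl N10339 D25124
theorem N12244 : nd 12244 = n25125 := ndS (p := 10339) (l := 6) rfl N10339 D25125
theorem N12245 : nd 12245 = n25126 := ndS (p := 10340) (l := 5) rfl N10340 D25126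
theorem N12246 : nd 12246 = n25127 := ndS (p := 10340) (l := 7) rfl N10340 D25127
theorem N12247 : nd 12247 = n25128 := ndS (p := 10341) (l := 7) rfl N10341 D25128
theorem N12248 : nd 12248 = n25129 := ndS (p := 10341) (l := 8) rfl N10341 D25129
theorem N12249 : nd 12249 = n25133 := ndS (p := 10343) (l := 7) rfl N10343 D25133
theorem N12250 : nd 12250 = n25137 := ndS (p := 10345) (l := 6) rfl N10345 D25137
theorem N12251 : nd 12251 = n25139 := ndS (p := 10346) (l := 7) rfl N10346 D25139
theorem N12252 : nd 12252 = n25140 := ndS (p := 10347) (l := 4) rfl N10347 D25140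
theorem N12253 : nd 12253 = n25141 := ndS (p := 10347) (l := 7) rfl N10347 D25141
theorem N12254 : nd 12254 = n25142 := ndS (p := 10347) (l := 8) rfl N10347 D25142
theorem N12255 : nd 12255 = n25144 := ndS (p := 10349) (l := 8) rfl N10349 D25144
theorem N12256 : nd 12256 = n25145 := ndS (p := 10350) (l := 9) rfl N10350 D25145
theorem N12257 : nd 12257 = n25146 := ndS (p := 10351) (l := 7) rfl N10351 D25146
theorem N12258 : nd 12258 = n25147 := ndS (p := 10351) (l := 8) rfl N10351 D25147
theorem N12259 : nd 12259 = n25149 := ndS (p := 10352) (l := 8) rfl N10352 D25149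
theorem N12260 : nd 12260 = n25150 := ndS (p := 10353) (l := 9) rfl N10353 D25150
theorem N12261 : nd 12261 = n25151 := ndS (p := 10354) (l := 8) rfl N10354 D25151
theorem N12262 : nd 12262 = n25152 := ndS (p := 10355) (l := 9) rfl N10355 D25152
theorem N12263 : nd 12263 = n25157 := ndS (p := 10357) (l := 7) rfl N10357 D25157
theorem N12264 : nd 12264 = n25163 := ndS (p := 10359) (l := 7) rfl N10359 D25163
theorem N12265 : nd 12265 = n25166 := ndS (p := 10361) (l := 6) rfl N10361 D25166
theorem N12266 : nd 12266 = n25167 := ndS (p := 10362) (l := 5) rfl N10362 D25167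
theorem N12267 : nd 12267 = n25168 := ndS (p := 10362) (l := 7) rfl N10362 D25168
theorem N12268 : nd 12268 = n25169 := ndS (p := 10363) (l := 4) rfl N10363 D25169
theorem N12269 : nd 12269 = n25170 := ndS (p := 10363) (l := 7) rfl N10363 D25170
theorem N12270 : nd 12270 = n25172 := ndS (p := 10365) (l := 6) rfl N10365 D25172
theorem N12271 : nd 12271 = n25173 := ndS (p := 10365) (l := 8) rfl N10365 D25173
theorem N12272 : nd 12272 = n25174 := ndS (p := 10366) (l := 9) rfl N10366 D25174
theorem N12273 : nd 12273 = n25187 := ndS (p := 10367) (l := 7) rfl N10367 D25187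
theorem N12274 : nd 12274 = n25194 := ndS (p := 10369) (l := 9) rfl N10369 D25194
theorem N12275 : nd 12275 = n25195 := ndS (p := 10371) (l := 5) rfl N10371 D25195
theorem N12276 : nd 12276 = n25196 := ndS (p := 10371) (l := 9) rfl N10371 D25196
theorem N12277 : nd 12277 = n25200 := ndS (p := 10374) (l := 7) rfl N10374 D25200
theorem N12278 : nd 12278 = n25201 := ndS (p := 10375) (l := 4) rfl N10375 D25201
theorem N12279 : nd 12279 = n25202 := ndS (p := 10375) (l := 7) rfl N10375 D25202
theorem N12280 : nd 12280 = n25204 := ndS (p := 10377) (l := 6) rfl N10377 D25204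
theorem N12281 : nd 12281 = n25205 := ndS (p := 10377) (l := 8) rfl N10377 D25205
theorem N12282 : nd 12282 = n25207 := ndS (p := 10379) (l := 6) rfl N10379 D25207
theorem N12283 : nd 12283 = n25208 := ndS (p := 10380) (l := 5) rfl N10380 D25208
theorem N12284 : nd 12284 = n25209 := ndS (p := 10380) (l := 7) rfl N10380 D25209
theorem N12285 : nd 12285 = n25210 := ndS (p := 10381) (l := 4) rfl N10381 D25210
theorem N12286 : nd 12286 = n25211 := ndS (p := 10381) (l := 7) rfl N10381 D25211
theorem N12287 : nd 12287 = n25212 := ndS (p := 10383) (l := 7) rfl N10383 D25212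
theorem N12288 : nd 12288 = n25213 := ndS (p := 10384) (l := 6) rfl N10384 D25213
theorem N12289 : nd 12289 = n25227 := ndS (p := 10390) (l := 6) rfl N10390 D25227
theorem N12290 : nd 12290 = n25228 := ndS (p := 10391) (l := 5) rfl N10391 D25228
theorem N12291 : nd 12291 = n25229 := ndS (p := 10391) (l := 7) rfl N10391 D25229
theorem N12292 : nd 12292 = n25232 := ndS (p := 10393) (l := 5) rfl N10393 D25232
theorem N12293 : nd 12293 = n25233 := ndS (p := 10393) (l := 7) rfl N10393 D25233
theorem N12294 : nd 12294 = n25234 := ndS (p := 10394) (l := 7) rfl N10394 D25234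
theorem N12295 : nd 12295 = n25235 := ndS (p := 10394) (l := 8) rfl N10394 D25235
theorem N12296 : nd 12296 = n25240 := ndS (p := 10396) (l := 7) rfl N10396 D25240
theorem N12297 : nd 12297 = n25241 := ndS (p := 10396) (l := 8) rfl N10396 D25241
theorem N12298 : nd 12298 = n25242 := ndS (p := 10398) (l := 6) rfl N10398 D25242
theorem N12299 : nd 12299 = n25243 := ndS (p := 10398) (l := 8) rfl N10398 D25243
theorem N12300 : nd 12300 = n25244 := ndS (p := 10399) (l := 9) rfl N10399 D25244
theorem N12301 : nd 12301 = n25245 := ndS (p := 10400) (l := 2) rfl N10400 D25245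
theorem N12302 : nd 12302 = n25246 := ndS (p := 10400) (l := 6) rfl N10400 D25246
theorem N12303 : nd 12303 = n25247 := ndS (p := 10401) (l := 5) rfl N10401 D25247
theorem N12304 : nd 12304 = n25248 := ndS (p := 10401) (l := 7) rfl N10401 D25248
theorem N12305 : nd 12305 = n25249 := ndS (p := 10403) (l := 1) rfl N10403 D25249
theorem N12306 : nd 12306 = n25250 := ndS (p := 10403) (l := 6) rfl N10403 D25250
theorem N12307 : nd 12307 = n25251 := ndS (p := 10404) (l := 5) rfl N10404 D25251
theorem N12308 : nd 12308 = n25252 := ndS (p := 10404) (l := 7) rfl N10404 D25252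
theorem N12309 : nd 12309 = n25253 := ndS (p := 10405) (l := 7) rfl N10405 D25253
theorem N12310 : nd 12310 = n25254 := ndS (p := 10405) (l := 8) rfl N10405 D25254
theorem N12311 : nd 12311 = n25256 := ndS (p := 10407) (l := 6) rfl N10407 D25256
theorem N12312 : nd 12312 = n25258 := ndS (p := 10408) (l := 7) rfl N10408 D25258
theorem N12313 : nd 12313 = n25260 := ndS (p := 10409) (l := 7) rfl N10409 D25260
theorem N12314 : nd 12314 = n25261 := ndS (p := 10409) (l := 8) rfl N10409 D25261
theorem N12315 : nd 12315 = n25262 := ndS (p := 10411) (l := 6) rfl N10411 D25262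
theorem N12316 : nd 12316 = n25263 := ndS (p := 10411) (l := 8) rfl N10411 D25263
theorem N12317 : nd 12317 = n25264 := ndS (p := 10412) (l := 9) rfl N10412 D25264
theorem N12318 : nd 12318 = n25270 := ndS (p := 10413) (l := 6) rfl N10413 D25270
theorem N12319 : nd 12319 = n25271 := ndS (p := 10413) (l := 8) rfl N10413 D25271
theorem N12320 : nd 12320 = n25272 := ndS (p := 10414) (l := 9) rfl N10414 D25272
theorem N12321 : nd 12321 = n25273 := ndS (p := 10415) (l := 8) rfl N10415 D25273
theorem N12322 : nd 12322 = n25274 := ndS (p := 10416) (l := 9) rfl N10416 D25274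
theorem N12323 : nd 12323 = n25275 := ndS (p := 10418) (l := 2) rfl N10418 D25275
theorem N12324 : nd 12324 = n25276 := ndS (p := 10418) (l := 6) rfl N10418 D25276
theorem N12325 : nd 12325 = n25277 := ndS (p := 10419) (l := 5) rfl N10419 D25277
theorem N12326 : nd 12326 = n25278 := ndS (p := 10419) (l := 7) rfl N10419 D25278
theorem N12327 : nd 12327 = n25279 := ndS (p := 10421) (l := 1) rfl N10421 D25279
theorem N12328 : nd 12328 = n25280 := ndS (p := 10421) (l := 6) rfl N10421 D25280
theorem N12329 : nd 12329 = n25281 := ndS (p := 10422) (l := 5) rfl N10422 D25281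
theorem N12330 : nd 12330 = n25282 := ndS (p := 10422) (l := 7) rfl N10422 D25282
theorem N12331 : nd 12331 = n25283 := ndS (p := 10423) (l := 7) rfl N10423 D25283
theorem N12332 : nd 12332 = n25284 := ndS (p := 10423) (l := 8) rfl N10423 D25284
theorem N12333 : nd 12333 = n25286 := ndS (p := 10425) (l := 6) rfl N10425 D25286
theorem N12334 : nd 12334 = n25287 := ndS (p := 10426) (l := 5) rfl N10426 D25287
theorem N12335 : nd 12335 = n25288 := ndS (p := 10426) (l := 7) rfl N10426 D25288
theorem N12336 : nd 12336 = n25289 := ndS (p := 10427) (l := 4) rfl N10427 D25289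
theorem N12337 : nd 12337 = n25290 := ndS (p := 10427) (l := 7) rfl N10427 D25290
theorem N12338 : nd 12338 = n25291 := ndS (p := 10427) (l := 8) rfl N10427 D25291
theorem N12339 : nd 12339 = n25292 := ndS (p := 10429) (l := 6) rfl N10429 D25292
theorem N12340 : nd 12340 = n25293 := ndS (p := 10429) (l := 8) rfl N10429 D25293
theorem N12341 : nd 12341 = n25294 := ndS (p := 10430) (l := 9) rfl N10430 D25294
theorem N12342 : nd 12342 = n25296 := ndS (p := 10431) (l := 5) rfl N10431 D25296
theorem N12343 : nd 12343 = n25297 := ndS (p := 10431) (l := 7) rfl N10431 D25297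
theorem N12344 : nd 12344 = n25298 := ndS (p := 10432) (l := 4) rfl N10432 D25298
theorem N12345 : nd 12345 = n25299 := ndS (p := 10432) (l := 7) rfl N10432 D25299
theorem N12346 : nd 12346 = n25300 := ndS (p := 10432) (l := 8) rfl N10432 D25300
theorem N12347 : nd 12347 = n25301 := ndS (p := 10434) (l := 7) rfl N10434 D25301
theorem N12348 : nd 12348 = n25302 := ndS (p := 10434) (l := 8) rfl N10434 D25302
theorem N12349 : nd 12349 = n25303 := ndS (p := 10435) (l := 6) rfl N10435 D25303
theorem N12350 : nd 12350 = n25304 := ndS (p := 10435) (l := 8) rfl N10435 D25304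
theorem N12351 : nd 12351 = n25305 := ndS (p := 10436) (l := 9) rfl N10436 D25305
theorem N12352 : nd 12352 = n25306 := ndS (p := 10437) (l := 8) rfl N10437 D25306
theorem N12353 : nd 12353 = n25307 := ndS (p := 10438) (l := 9) rfl N10438 D25307
theorem N12354 : nd 12354 = n25308 := ndS (p := 10440) (l := 6) rfl N10440 D25308
theorem N12355 : nd 12355 = n25309 := ndS (p := 10440) (l := 8) rfl N10440 D25309
theorem N12356 : nd 12356 = n25310 := ndS (p := 10441) (l := 5) rfl N10441 D25310
theorem N12357 : nd 12357 = n25311 := ndS (p := 10441) (l := 9) rfl N10441 D25311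
theorem N12358 : nd 12358 = n25312 := ndS (p := 10442) (l := 8) rfl N10442 D25312
theorem N12359 : nd 12359 = n25313 := ndS (p := 10443) (l := 9) rfl N10443 D25313
theorem N12360 : nd 12360 = n25314 := ndS (p := 10445) (l := 5) rfl N10445 D25314
theorem N12361 : nd 12361 = n25315 := ndS (p := 10445) (l := 9) rfl N10445 D25315
theorem N12362 : nd 12362 = n25317 := ndS (p := 10447) (l := 6) rfl N10447 D25317
theorem N12363 : nd 12363 = n25318 := ndS (p := 10448) (l := 5) rfl N10448 D25318
theorem N12364 : nd 12364 = n25319 := ndS (p := 10448) (l := 7) rfl N10448 D25319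
theorem N12365 : nd 12365 = n25320 := ndS (p := 10449) (l := 4) rfl N10449 D25320
theorem N12366 : nd 12366 = n25321 := ndS (p := 10449) (l := 7) rfl N10449 D25321
theorem N12367 : nd 12367 = n25322 := ndS (p := 10449) (l := 8) rfl N10449 D25322
theorem N12368 : nd 12368 = n25323 := ndS (p := 10451) (l := 6) rfl N10451 D25323
theorem N12369 : nd 12369 = n25324 := ndS (p := 10451) (l := 8) rfl N10451 D25324
theorem N12370 : nd 12370 = n25325 := ndS (p := 10452) (l := 9) rfl N10452 D25325
theorem N12371 : nd 12371 = n25327 := ndS (p := 10453) (l := 5) rfl N10453 D25327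
theorem N12372 : nd 12372 = n25328 := ndS (p := 10453) (l := 7) rfl N10453 D25328
theorem N12373 : nd 12373 = n25329 := ndS (p := 10454) (l := 4) rfl N10454 D25329
theorem N12374 : nd 12374 = n25330 := ndS (p := 10454) (l := 7) rfl N10454 D25330
theorem N12375 : nd 12375 = n25331 := ndS (p := 10454) (l := 8) rfl N10454 D25331
theorem N12376 : nd 12376 = n25332 := ndS (p := 10456) (l := 7) rfl N10456 D25332
theorem N12377 : nd 12377 = n25333 := ndS (p := 10456) (l := 8) rfl N10456 D25333
theorem N12378 : nd 12378 = n25334 := ndS (p := 10457) (l := 6) rfl N10457 D25334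
theorem N12379 : nd 12379 = n25335 := ndS (p := 10457) (l := 8) rfl N10457 D25335
theorem N12380 : nd 12380 = n25336 := ndS (p := 10458) (l := 9) rfl N10458 D25336
theorem N12381 : nd 12381 = n25337 := ndS (p := 10459) (l := 8) rfl N10459 D25337
theorem N12382 : nd 12382 = n25338 := ndS (p := 10460) (l := 9) rfl N10460 D25338
theorem N12383 : nd 12383 = n25341 := ndS (p := 10462) (l := 7) rfl N10462 D25341
theorem N12384 : nd 12384 = n25342 := ndS (p := 10462) (l := 8) rfl N10462 D25342
theorem N12385 : nd 12385 = n25343 := ndS (p := 10464) (l := 6) rfl N10464 D25343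
theorem N12386 : nd 12386 = n25344 := ndS (p := 10464) (l := 8) rfl N10464 D25344
theorem N12387 : nd 12387 = n25345 := ndS (p := 10465) (l := 9) rfl N10465 D25345
theorem N12388 : nd 12388 = n25346 := ndS (p := 10466) (l := 8) rfl N10466 D25346
theorem N12389 : nd 12389 = n25347 := ndS (p := 10467) (l := 9) rfl N10467 D25347
theorem N12390 : nd 12390 = n25348 := ndS (p := 10469) (l := 5) rfl N10469 D25348
theorem N12391 : nd 12391 = n25349 := ndS (p := 10469) (l := 9) rfl N10469 D25349
theorem N12392 : nd 12392 = n25350 := ndS (p := 10471) (l := 4) rfl N10471 D25350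
theorem N12393 : nd 12393 = n25351 := ndS (p := 10471) (l := 9) rfl N10471 D25351
theorem N12394 : nd 12394 = n25354 := ndS (p := 10473) (l := 4) rfl N10473 D25354
theorem N12395 : nd 12395 = n25355 := ndS (p := 10473) (l := 7) rfl N10473 D25355
theorem N12396 : nd 12396 = n25356 := ndS (p := 10475) (l := 3) rfl N10475 D25356
theorem N12397 : nd 12397 = n25357 := ndS (p := 10475) (l := 7) rfl N10475 D25357
theorem N12398 : nd 12398 = n25358 := ndS (p := 10476) (l := 6) rfl N10476 D25358
theorem N12399 : nd 12399 = n25359 := ndS (p := 10477) (l := 6) rfl N10477 D25359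
theorem N12400 : nd 12400 = n25365 := ndS (p := 10479) (l := 7) rfl N10479 D25365
theorem N12401 : nd 12401 = n25366 := ndS (p := 10479) (l := 8) rfl N10479 D25366
theorem N12402 : nd 12402 = n25367 := ndS (p := 10481) (l := 6) rfl N10481 D25367
theorem N12403 : nd 12403 = n25368 := ndS (p := 10481) (l := 8) rfl N10481 D25368
theorem N12404 : nd 12404 = n25369 := ndS (p := 10482) (l := 9) rfl N10482 D25369
theorem N12405 : nd 12405 = n25377 := ndS (p := 10483) (l := 6) rfl N10483 D25377
theorem N12406 : nd 12406 = n25378 := ndS (p := 10483) (l := 8) rfl N10483 D25378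
theorem N12407 : nd 12407 = n25379 := ndS (p := 10484) (l := 9) rfl N10484 D25379
theorem N12408 : nd 12408 = n25380 := ndS (p := 10485) (l := 8) rfl N10485 D25380
theorem N12409 : nd 12409 = n25381 := ndS (p := 10486) (l := 9) rfl N10486 D25381
theorem N12410 : nd 12410 = n25384 := ndS (p := 10488) (l := 7) rfl N10488 D25384
theorem N12411 : nd 12411 = n25390 := ndS (p := 10490) (l := 6) rfl N10490 D25390
theorem N12412 : nd 12412 = n25391 := ndS (p := 10490) (l := 8) rfl N10490 D25391
theorem N12413 : nd 12413 = n25392 := ndS (p := 10491) (l := 9) rfl N10491 D25392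
theorem N12414 : nd 12414 = n25393 := ndS (p := 10492) (l := 8) rfl N10492 D25393
theorem N12415 : nd 12415 = n25394 := ndS (p := 10493) (l := 9) rfl N10493 D25394
theorem N12416 : nd 12416 = n25405 := ndS (p := 10495) (l := 8) rfl N10495 D25405
theorem N12417 : nd 12417 = n25406 := ndS (p := 10496) (l := 9) rfl N10496 D25406
theorem N12418 : nd 12418 = n25407 := ndS (p := 10498) (l := 5) rfl N10498 D25407
theorem N12419 : nd 12419 = n25408 := ndS (p := 10498) (l := 9) rfl N10498 D25408
theorem N12420 : nd 12420 = n25412 := ndS (p := 10500) (l := 7) rfl N10500 D25412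
theorem N12421 : nd 12421 = n25414 := ndS (p := 10502) (l := 7) rfl N10502 D25414
theorem N12422 : nd 12422 = n25415 := ndS (p := 10502) (l := 8) rfl N10502 D25415
theorem N12423 : nd 12423 = n25416 := ndS (p := 10503) (l := 6) rfl N10503 D25416
theorem N12424 : nd 12424 = n25417 := ndS (p := 10503) (l := 8) rfl N10503 D25417
theorem N12425 : nd 12425 = n25418 := ndS (p := 10504) (l := 9) rfl N10504 D25418
theorem N12426 : nd 12426 = n25419 := ndS (p := 10505) (l := 6) rfl N10505 D25419
theorem N12427 : nd 12427 = n25420 := ndS (p := 10505) (l := 8) rfl N10505 D25420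
theorem N12428 : nd 12428 = n25422 := ndS (p := 10506) (l := 9) rfl N10506 D25422
theorem N12429 : nd 12429 = n25423 := ndS (p := 10507) (l := 8) rfl N10507 D25423
theorem N12430 : nd 12430 = n25424 := ndS (p := 10508) (l := 9) rfl N10508 D25424
theorem N12431 : nd 12431 = n25425 := ndS (p := 10510) (l := 5) rfl N10510 D25425
theorem N12432 : nd 12432 = n25426 := ndS (p := 10510) (l := 9) rfl N10510 D25426
theorem N12433 : nd 12433 = n25427 := ndS (p := 10512) (l := 5) rfl N10512 D25427
theorem N12434 : nd 12434 = n25428 := ndS (p := 10512) (l := 8) rfl N10512 D25428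
theorem N12435 : nd 12435 = n25430 := ndS (p := 10513) (l := 9) rfl N10513 D25430
theorem N12436 : nd 12436 = n25433 := ndS (p := 10515) (l := 5) rfl N10515 D25433
theorem N12437 : nd 12437 = n25434 := ndS (p := 10515) (l := 9) rfl N10515 D25434
theorem N12438 : nd 12438 = n25435 := ndS (p := 10517) (l := 4) rfl N10517 D25435
theorem N12439 : nd 12439 = n25436 := ndS (p := 10517) (l := 9) rfl N10517 D25436
theorem N12440 : nd 12440 = n25442 := ndS (p := 10520) (l := 8) rfl N10520 D25442
theorem N12441 : nd 12441 = n25443 := ndS (p := 10521) (l := 9) rfl N10521 D25443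
theorem N12442 : nd 12442 = n25444 := ndS (p := 10523) (l := 5) rfl N10523 D25444
theorem N12443 : nd 12443 = n25445 := ndS (p := 10523) (l := 9) rfl N10523 D25445
theorem N12444 : nd 12444 = n25446 := ndS (p := 10525) (l := 4) rfl N10525 D25446
theorem N12445 : nd 12445 = n25447 := ndS (p := 10525) (l := 9) rfl N10525 D25447
theorem N12446 : nd 12446 = n25448 := ndS (p := 10527) (l := 3) rfl N10527 D25448
theorem N12447 : nd 12447 = n25449 := ndS (p := 10527) (l := 9) rfl N10527 D25449
theorem N12448 : nd 12448 = n25450 := ndS (p := 10528) (l := 8) rfl N10528 D25450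
theorem N12449 : nd 12449 = n25451 := ndS (p := 10529) (l := 2) rfl N10529 D25451
theorem N12450 : nd 12450 = n25452 := ndS (p := 10529) (l := 6) rfl N10529 D25452
theorem N12451 : nd 12451 = n25453 := ndS (p := 10530) (l := 5) rfl N10530 D25453
theorem N12452 : nd 12452 = n25454 := ndS (p := 10530) (l := 7) rfl N10530 D25454
theorem N12453 : nd 12453 = n25455 := ndS (p := 10532) (l := 1) rfl N10532 D25455
theorem N12454 : nd 12454 = n25456 := ndS (p := 10532) (l := 6) rfl N10532 D25456
theorem N12455 : nd 12455 = n25457 := ndS (p := 10533) (l := 5) rfl N10533 D25457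
theorem N12456 : nd 12456 = n25458 := ndS (p := 10533) (l := 7) rfl N10533 D25458
theorem N12457 : nd 12457 = n25459 := ndS (p := 10534) (l := 7) rfl N10534 D25459
theorem N12458 : nd 12458 = n25464 := ndS (p := 10536) (l := 4) rfl N10536 D25464
theorem N12459 : nd 12459 = n25465 := ndS (p := 10536) (l := 7) rfl N10536 D25465
theorem N12460 : nd 12460 = n25467 := ndS (p := 10538) (l := 6) rfl N10538 D25467
theorem N12461 : nd 12461 = n25470 := ndS (p := 10539) (l := 2) rfl N10539 D25470
theorem N12462 : nd 12462 = n25471 := ndS (p := 10539) (l := 6) rfl N10539 D25471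
theorem N12463 : nd 12463 = n25472 := ndS (p := 10540) (l := 5) rfl N10540 D25472
theorem N12464 : nd 12464 = n25473 := ndS (p := 10540) (l := 7) rfl N10540 D25473
theorem N12465 : nd 12465 = n25474 := ndS (p := 10542) (l := 2) rfl N10542 D25474
theorem N12466 : nd 12466 = n25475 := ndS (p := 10542) (l := 6) rfl N10542 D25475
theorem N12467 : nd 12467 = n25476 := ndS (p := 10543) (l := 5) rfl N10543 D25476
theorem N12468 : nd 12468 = n25477 := ndS (p := 10543) (l := 7) rfl N10543 D25477
theorem N12469 : nd 12469 = n25478 := ndS (p := 10545) (l := 2) rfl N10545 D25478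
theorem N12470 : nd 12470 = n25479 := ndS (p := 10545) (l := 6) rfl N10545 D25479
theorem N12471 : nd 12471 = n25480 := ndS (p := 10546) (l := 5) rfl N10546 D25480
theorem N12472 : nd 12472 = n25481 := ndS (p := 10546) (l := 7) rfl N10546 D25481
theorem N12473 : nd 12473 = n25482 := ndS (p := 10548) (l := 1) rfl N10548 D25482
theorem N12474 : nd 12474 = n25483 := ndS (p := 10548) (l := 6) rfl N10548 D25483
theorem N12475 : nd 12475 = n25484 := ndS (p := 10549) (l := 5) rfl N10549 D25484
theorem N12476 : nd 12476 = n25485 := ndS (p := 10549) (l := 7) rfl N10549 D25485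
theorem N12477 : nd 12477 = n25486 := ndS (p := 10550) (l := 7) rfl N10550 D25486
theorem N12478 : nd 12478 = n25487 := ndS (p := 10550) (l := 8) rfl N10550 D25487
theorem N12479 : nd 12479 = n25488 := ndS (p := 10552) (l := 1) rfl N10552 D25488
theorem N12480 : nd 12480 = n25489 := ndS (p := 10552) (l := 6) rfl N10552 D25489
theorem N12481 : nd 12481 = n25490 := ndS (p := 10553) (l := 5) rfl N10553 D25490
theorem N12482 : nd 12482 = n25491 := ndS (p := 10553) (l := 7) rfl N10553 D25491
theorem N12483 : nd 12483 = n25492 := ndS (p := 10554) (l := 7) rfl N10554 D25492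
theorem N12484 : nd 12484 = n25493 := ndS (p := 10554) (l := 8) rfl N10554 D25493
theorem N12485 : nd 12485 = n25494 := ndS (p := 10556) (l := 0) rfl N10556 D25494
theorem N12486 : nd 12486 = n25495 := ndS (p := 10556) (l := 6) rfl N10556 D25495
theorem N12487 : nd 12487 = n25496 := ndS (p := 10557) (l := 5) rfl N10557 D25496
theorem N12488 : nd 12488 = n25497 := ndS (p := 10557) (l := 7) rfl N10557 D25497
theorem N12489 : nd 12489 = n25498 := ndS (p := 10558) (l := 4) rfl N10558 D25498
theorem N12490 : nd 12490 = n25499 := ndS (p := 10558) (l := 7) rfl N10558 D25499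
theorem N12491 : nd 12491 = n25500 := ndS (p := 10558) (l := 8) rfl N10558 D25500
theorem N12492 : nd 12492 = n25501 := ndS (p := 10560) (l := 6) rfl N10560 D25501
theorem N12493 : nd 12493 = n25502 := ndS (p := 10560) (l := 8) rfl N10560 D25502
theorem N12494 : nd 12494 = n25507 := ndS (p := 10562) (l := 7) rfl N10562 D25507
theorem N12495 : nd 12495 = n25509 := ndS (p := 10563) (l := 6) rfl N10563 D25509
theorem N12496 : nd 12496 = n25512 := ndS (p := 10564) (l := 8) rfl N10564 D25512
theorem N12497 : nd 12497 = n25514 := ndS (p := 10566) (l := 2) rfl N10566 D25514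
theorem N12498 : nd 12498 = n25515 := ndS (p := 10566) (l := 6) rfl N10566 D25515
theorem N12499 : nd 12499 = n25516 := ndS (p := 10567) (l := 5) rfl N10567 D25516
theorem N12500 : nd 12500 = n25517 := ndS (p := 10567) (l := 7) rfl N10567 D25517
theorem N12501 : nd 12501 = n25518 := ndS (p := 10569) (l := 1) rfl N10569 D25518
theorem N12502 : nd 12502 = n25519 := ndS (p := 10569) (l := 6) rfl N10569 D25519
theorem N12503 : nd 12503 = n25520 := ndS (p := 10570) (l := 5) rfl N10570 D25520
theorem N12504 : nd 12504 = n25521 := ndS (p := 10570) (l := 7) rfl N10570 D25521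
theorem N12505 : nd 12505 = n25522 := ndS (p := 10571) (l := 7) rfl N10571 D25522
theorem N12506 : nd 12506 = n25523 := ndS (p := 10571) (l := 8) rfl N10571 D25523
theorem N12507 : nd 12507 = n25524 := ndS (p := 10573) (l := 2) rfl N10573 D25524
theorem N12508 : nd 12508 = n25525 := ndS (p := 10573) (l := 6) rfl N10573 D25525
theorem N12509 : nd 12509 = n25526 := ndS (p := 10574) (l := 5) rfl N10574 D25526
theorem N12510 : nd 12510 = n25527 := ndS (p := 10574) (l := 7) rfl N10574 D25527
theorem N12511 : nd 12511 = n25528 := ndS (p := 10576) (l := 1) rfl N10576 D25528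
theorem N12512 : nd 12512 = n25529 := ndS (p := 10576) (l := 6) rfl N10576 D25529
theorem N12513 : nd 12513 = n25530 := ndS (p := 10577) (l := 5) rfl N10577 D25530
theorem N12514 : nd 12514 = n25531 := ndS (p := 10577) (l := 7) rfl N10577 D25531
theorem N12515 : nd 12515 = n25532 := ndS (p := 10578) (l := 7) rfl N10578 D25532
theorem N12516 : nd 12516 = n25533 := ndS (p := 10578) (l := 8) rfl N10578 D25533
theorem N12517 : nd 12517 = n25534 := ndS (p := 10580) (l := 1) rfl N10580 D25534
theorem N12518 : nd 12518 = n25535 := ndS (p := 10580) (l := 6) rfl N10580 D25535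
theorem N12519 : nd 12519 = n25536 := ndS (p := 10581) (l := 5) rfl N10581 D25536
theorem N12520 : nd 12520 = n25537 := ndS (p := 10581) (l := 7) rfl N10581 D25537
theorem N12521 : nd 12521 = n25538 := ndS (p := 10582) (l := 7) rfl N10582 D25538
theorem N12522 : nd 12522 = n25539 := ndS (p := 10582) (l := 8) rfl N10582 D25539
theorem N12523 : nd 12523 = n25540 := ndS (p := 10584) (l := 0) rfl N10584 D25540
theorem N12524 : nd 12524 = n25541 := ndS (p := 10584) (l := 6) rfl N10584 D25541
theorem N12525 : nd 12525 = n25542 := ndS (p := 10585) (l := 5) rfl N10585 D25542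
theorem N12526 : nd 12526 = n25543 := ndS (p := 10585) (l := 7) rfl N10585 D25543
theorem N12527 : nd 12527 = n25544 := ndS (p := 10586) (l := 4) rfl N10586 D25544
theorem N12528 : nd 12528 = n25545 := ndS (p := 10586) (l := 7) rfl N10586 D25545
theorem N12529 : nd 12529 = n25546 := ndS (p := 10586) (l := 8) rfl N10586 D25546
theorem N12530 : nd 12530 = n25547 := ndS (p := 10588) (l := 6) rfl N10588 D25547
theorem N12531 : nd 12531 = n25548 := ndS (p := 10588) (l := 8) rfl N10588 D25548
theorem N12532 : nd 12532 = n25549 := ndS (p := 10589) (l := 9) rfl N10589 D25549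
theorem N12533 : nd 12533 = n25550 := ndS (p := 10590) (l := 0) rfl N10590 D25550
theorem N12534 : nd 12534 = n25551 := ndS (p := 10590) (l := 6) rfl N10590 D25551
theorem N12535 : nd 12535 = n25552 := ndS (p := 10591) (l := 5) rfl N10591 D25552
theorem N12536 : nd 12536 = n25553 := ndS (p := 10591) (l := 7) rfl N10591 D25553
theorem N12537 : nd 12537 = n25554 := ndS (p := 10592) (l := 4) rfl N10592 D25554
theorem N12538 : nd 12538 = n25555 := ndS (p := 10592) (l := 7) rfl N10592 D25555
theorem N12539 : nd 12539 = n25556 := ndS (p := 10592) (l := 8) rfl N10592 D25556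
theorem N12540 : nd 12540 = n25557 := ndS (p := 10594) (l := 6) rfl N10594 D25557
theorem N12541 : nd 12541 = n25558 := ndS (p := 10594) (l := 8) rfl N10594 D25558
theorem N12542 : nd 12542 = n25559 := ndS (p := 10595) (l := 9) rfl N10595 D25559
theorem N12543 : nd 12543 = n25560 := ndS (p := 10596) (l := 6) rfl N10596 D25560
theorem N12544 : nd 12544 = n25561 := ndS (p := 10597) (l := 5) rfl N10597 D25561
theorem N12545 : nd 12545 = n25562 := ndS (p := 10597) (l := 7) rfl N10597 D25562
theorem N12546 : nd 12546 = n25563 := ndS (p := 10598) (l := 4) rfl N10598 D25563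
theorem N12547 : nd 12547 = n25564 := ndS (p := 10598) (l := 7) rfl N10598 D25564
theorem N12548 : nd 12548 = n25565 := ndS (p := 10598) (l := 8) rfl N10598 D25565
theorem N12549 : nd 12549 = n25566 := ndS (p := 10600) (l := 7) rfl N10600 D25566
theorem N12550 : nd 12550 = n25567 := ndS (p := 10600) (l := 8) rfl N10600 D25567
theorem N12551 : nd 12551 = n25568 := ndS (p := 10601) (l := 6) rfl N10601 D25568
theorem N12552 : nd 12552 = n25569 := ndS (p := 10601) (l := 8) rfl N10601 D25569
theorem N12553 : nd 12553 = n25570 := ndS (p := 10602) (l := 9) rfl N10602 D25570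
theorem N12554 : nd 12554 = n25571 := ndS (p := 10603) (l := 8) rfl N10603 D25571
theorem N12555 : nd 12555 = n25572 := ndS (p := 10604) (l := 9) rfl N10604 D25572
theorem N12556 : nd 12556 = n25573 := ndS (p := 10606) (l := 6) rfl N10606 D25573
theorem N12557 : nd 12557 = n25574 := ndS (p := 10606) (l := 8) rfl N10606 D25574
theorem N12558 : nd 12558 = n25575 := ndS (p := 10607) (l := 5) rfl N10607 D25575
theorem N12559 : nd 12559 = n25577 := ndS (p := 10608) (l := 8) rfl N10608 D25577
theorem N12560 : nd 12560 = n25579 := ndS (p := 10610) (l := 5) rfl N10610 D25579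
theorem N12561 : nd 12561 = n25580 := ndS (p := 10610) (l := 9) rfl N10610 D25580
theorem N12562 : nd 12562 = n25581 := ndS (p := 10612) (l := 1) rfl N10612 D25581
theorem N12563 : nd 12563 = n25582 := ndS (p := 10612) (l := 6) rfl N10612 D25582
theorem N12564 : nd 12564 = n25583 := ndS (p := 10613) (l := 5) rfl N10613 D25583
theorem N12565 : nd 12565 = n25584 := ndS (p := 10613) (l := 7) rfl N10613 D25584
theorem N12566 : nd 12566 = n25585 := ndS (p := 10614) (l := 7) rfl N10614 D25585
theorem N12567 : nd 12567 = n25586 := ndS (p := 10614) (l := 8) rfl N10614 D25586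
theorem N12568 : nd 12568 = n25587 := ndS (p := 10616) (l := 1) rfl N10616 D25587
theorem N12569 : nd 12569 = n25588 := ndS (p := 10616) (l := 6) rfl N10616 D25588
theorem N12570 : nd 12570 = n25589 := ndS (p := 10617) (l := 5) rfl N10617 D25589
theorem N12571 : nd 12571 = n25590 := ndS (p := 10617) (l := 7) rfl N10617 D25590
theorem N12572 : nd 12572 = n25591 := ndS (p := 10618) (l := 7) rfl N10618 D25591
theorem N12573 : nd 12573 = n25592 := ndS (p := 10618) (l := 8) rfl N10618 D25592
theorem N12574 : nd 12574 = n25593 := ndS (p := 10620) (l := 0) rfl N10620 D25593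
theorem N12575 : nd 12575 = n25594 := ndS (p := 10620) (l := 6) rfl N10620 D25594
theorem N12576 : nd 12576 = n25595 := ndS (p := 10621) (l := 5) rfl N10621 D25595
theorem N12577 : nd 12577 = n25596 := ndS (p := 10621) (l := 7) rfl N10621 D25596
theorem N12578 : nd 12578 = n25597 := ndS (p := 10622) (l := 4) rfl N10622 D25597
theorem N12579 : nd 12579 = n25598 := ndS (p := 10622) (l := 7) rfl N10622 D25598
theorem N12580 : nd 12580 = n25599 := ndS (p := 10622) (l := 8) rfl N10622 D25599
theorem N12581 : nd 12581 = n25600 := ndS (p := 10624) (l := 6) rfl N10624 D25600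
theorem N12582 : nd 12582 = n25601 := ndS (p := 10624) (l := 8) rfl N10624 D25601
theorem N12583 : nd 12583 = n25602 := ndS (p := 10625) (l := 9) rfl N10625 D25602
theorem N12584 : nd 12584 = n25603 := ndS (p := 10626) (l := 1) rfl N10626 D25603
theorem N12585 : nd 12585 = n25604 := ndS (p := 10626) (l := 6) rfl N10626 D25604
theorem N12586 : nd 12586 = n25605 := ndS (p := 10627) (l := 5) rfl N10627 D25605
theorem N12587 : nd 12587 = n25606 := ndS (p := 10627) (l := 7) rfl N10627 D25606
theorem N12588 : nd 12588 = n25607 := ndS (p := 10628) (l := 7) rfl N10628 D25607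
theorem N12589 : nd 12589 = n25608 := ndS (p := 10628) (l := 8) rfl N10628 D25608
theorem N12590 : nd 12590 = n25609 := ndS (p := 10630) (l := 1) rfl N10630 D25609
theorem N12591 : nd 12591 = n25610 := ndS (p := 10630) (l := 6) rfl N10630 D25610
theorem N12592 : nd 12592 = n25611 := ndS (p := 10631) (l := 5) rfl N10631 D25611
theorem N12593 : nd 12593 = n25612 := ndS (p := 10631) (l := 7) rfl N10631 D25612
theorem N12594 : nd 12594 = n25613 := ndS (p := 10632) (l := 7) rfl N10632 D25613
theorem N12595 : nd 12595 = n25614 := ndS (p := 10632) (l := 8) rfl N10632 D25614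
theorem N12596 : nd 12596 = n25615 := ndS (p := 10634) (l := 0) rfl N10634 D25615
theorem N12597 : nd 12597 = n25616 := ndS (p := 10634) (l := 6) rfl N10634 D25616
theorem N12598 : nd 12598 = n25617 := ndS (p := 10635) (l := 5) rfl N10635 D25617
theorem N12599 : nd 12599 = n25618 := ndS (p := 10635) (l := 7) rfl N10635 D25618
theorem N12600 : nd 12600 = n25619 := ndS (p := 10636) (l := 4) rfl N10636 D25619
theorem N12601 : nd 12601 = n25620 := ndS (p := 10636) (l := 7) rfl N10636 D25620
theorem N12602 : nd 12602 = n25621 := ndS (p := 10636) (l := 8) rfl N10636 D25621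
theorem N12603 : nd 12603 = n25622 := ndS (p := 10638) (l := 6) rfl N10638 D25622
theorem N12604 : nd 12604 = n25623 := ndS (p := 10638) (l := 8) rfl N10638 D25623
theorem N12605 : nd 12605 = n25624 := ndS (p := 10639) (l := 9) rfl N10639 D25624
theorem N12606 : nd 12606 = n25625 := ndS (p := 10640) (l := 0) rfl N10640 D25625
theorem N12607 : nd 12607 = n25626 := ndS (p := 10640) (l := 6) rfl N10640 D25626
theorem N12608 : nd 12608 = n25627 := ndS (p := 10641) (l := 5) rfl N10641 D25627
theorem N12609 : nd 12609 = n25628 := ndS (p := 10641) (l := 7) rfl N10641 D25628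
theorem N12610 : nd 12610 = n25629 := ndS (p := 10642) (l := 4) rfl N10642 D25629
theorem N12611 : nd 12611 = n25630 := ndS (p := 10642) (l := 7) rfl N10642 D25630
theorem N12612 : nd 12612 = n25631 := ndS (p := 10642) (l := 8) rfl N10642 D25631
theorem N12613 : nd 12613 = n25632 := ndS (p := 10644) (l := 6) rfl N10644 D25632
theorem N12614 : nd 12614 = n25633 := ndS (p := 10644) (l := 8) rfl N10644 D25633
theorem N12615 : nd 12615 = n25634 := ndS (p := 10645) (l := 9) rfl N10645 D25634
theorem N12616 : nd 12616 = n25635 := ndS (p := 10646) (l := 6) rfl N10646 D25635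
theorem N12617 : nd 12617 = n25636 := ndS (p := 10647) (l := 5) rfl N10647 D25636
theorem N12618 : nd 12618 = n25637 := ndS (p := 10647) (l := 7) rfl N10647 D25637
theorem N12619 : nd 12619 = n25638 := ndS (p := 10648) (l := 4) rfl N10648 D25638
theorem N12620 : nd 12620 = n25639 := ndS (p := 10648) (l := 7) rfl N10648 D25639
theorem N12621 : nd 12621 = n25640 := ndS (p := 10648) (l := 8) rfl N10648 D25640
theorem N12622 : nd 12622 = n25641 := ndS (p := 10650) (l := 7) rfl N10650 D25641
theorem N12623 : nd 12623 = n25642 := ndS (p := 10650) (l := 8) rfl N10650 D25642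
theorem N12624 : nd 12624 = n25643 := ndS (p := 10651) (l := 6) rfl N10651 D25643
theorem N12625 : nd 12625 = n25644 := ndS (p := 10651) (l := 8) rfl N10651 D25644
theorem N12626 : nd 12626 = n25645 := ndS (p := 10652) (l := 9) rfl N10652 D25645
theorem N12627 : nd 12627 = n25646 := ndS (p := 10653) (l := 8) rfl N10653 D25646
theorem N12628 : nd 12628 = n25647 := ndS (p := 10654) (l := 9) rfl N10654 D25647
theorem N12629 : nd 12629 = n25650 := ndS (p := 10657) (l := 7) rfl N10657 D25650
theorem N12630 : nd 12630 = n25652 := ndS (p := 10658) (l := 7) rfl N10658 D25652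
theorem N12631 : nd 12631 = n25653 := ndS (p := 10658) (l := 8) rfl N10658 D25653
theorem N12632 : nd 12632 = n25654 := ndS (p := 10660) (l := 7) rfl N10660 D25654
theorem N12633 : nd 12633 = n25655 := ndS (p := 10661) (l := 6) rfl N10661 D25655
theorem N12634 : nd 12634 = n25656 := ndS (p := 10661) (l := 8) rfl N10661 D25656
theorem N12635 : nd 12635 = n25657 := ndS (p := 10663) (l := 8) rfl N10663 D25657
theorem N12636 : nd 12636 = n25658 := ndS (p := 10664) (l := 9) rfl N10664 D25658
theorem N12637 : nd 12637 = n25659 := ndS (p := 10666) (l := 5) rfl N10666 D25659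
theorem N12638 : nd 12638 = n25660 := ndS (p := 10666) (l := 7) rfl N10666 D25660
theorem N12639 : nd 12639 = n25661 := ndS (p := 10667) (l := 7) rfl N10667 D25661
theorem N12640 : nd 12640 = n25662 := ndS (p := 10667) (l := 8) rfl N10667 D25662
theorem N12641 : nd 12641 = n25663 := ndS (p := 10669) (l := 6) rfl N10669 D25663
theorem N12642 : nd 12642 = n25664 := ndS (p := 10669) (l := 8) rfl N10669 D25664
theorem N12643 : nd 12643 = n25665 := ndS (p := 10670) (l := 9) rfl N10670 D25665
theorem N12644 : nd 12644 = n25666 := ndS (p := 10671) (l := 8) rfl N10671 D25666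
theorem N12645 : nd 12645 = n25667 := ndS (p := 10672) (l := 9) rfl N10672 D25667
theorem N12646 : nd 12646 = n25668 := ndS (p := 10674) (l := 5) rfl N10674 D25668
theorem N12647 : nd 12647 = n25669 := ndS (p := 10674) (l := 9) rfl N10674 D25669
theorem N12648 : nd 12648 = n25670 := ndS (p := 10676) (l := 4) rfl N10676 D25670
theorem N12649 : nd 12649 = n25671 := ndS (p := 10676) (l := 9) rfl N10676 D25671
theorem N12650 : nd 12650 = n25675 := ndS (p := 10679) (l := 7) rfl N10679 D25675
theorem N12651 : nd 12651 = n25676 := ndS (p := 10680) (l := 4) rfl N10680 D25676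
theorem N12652 : nd 12652 = n25677 := ndS (p := 10680) (l := 7) rfl N10680 D25677
theorem N12653 : nd 12653 = n25679 := ndS (p := 10682) (l := 6) rfl N10682 D25679
theorem N12654 : nd 12654 = n25680 := ndS (p := 10682) (l := 8) rfl N10682 D25680
theorem N12655 : nd 12655 = n25682 := ndS (p := 10684) (l := 0) rfl N10684 D25682
theorem N12656 : nd 12656 = n25683 := ndS (p := 10684) (l := 6) rfl N10684 D25683
theorem N12657 : nd 12657 = n25684 := ndS (p := 10685) (l := 5) rfl N10685 D25684
theorem N12658 : nd 12658 = n25685 := ndS (p := 10685) (l := 7) rfl N10685 D25685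
theorem N12659 : nd 12659 = n25686 := ndS (p := 10686) (l := 4) rfl N10686 D25686
theorem N12660 : nd 12660 = n25687 := ndS (p := 10686) (l := 7) rfl N10686 D25687
theorem N12661 : nd 12661 = n25688 := ndS (p := 10686) (l := 8) rfl N10686 D25688
theorem N12662 : nd 12662 = n25689 := ndS (p := 10688) (l := 6) rfl N10688 D25689
theorem N12663 : nd 12663 = n25690 := ndS (p := 10688) (l := 8) rfl N10688 D25690
theorem N12664 : nd 12664 = n25694 := ndS (p := 10691) (l := 7) rfl N10691 D25694
theorem N12665 : nd 12665 = n25695 := ndS (p := 10692) (l := 4) rfl N10692 D25695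
theorem N12666 : nd 12666 = n25696 := ndS (p := 10692) (l := 7) rfl N10692 D25696
theorem N12667 : nd 12667 = n25698 := ndS (p := 10694) (l := 7) rfl N10694 D25698
theorem N12668 : nd 12668 = n25699 := ndS (p := 10695) (l := 6) rfl N10695 D25699
theorem N12669 : nd 12669 = n25700 := ndS (p := 10695) (l := 8) rfl N10695 D25700
theorem N12670 : nd 12670 = n25701 := ndS (p := 10697) (l := 8) rfl N10697 D25701
theorem N12671 : nd 12671 = n25702 := ndS (p := 10698) (l := 9) rfl N10698 D25702
theorem N12672 : nd 12672 = n25703 := ndS (p := 10700) (l := 6) rfl N10700 D25703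
theorem N12673 : nd 12673 = n25704 := ndS (p := 10701) (l := 5) rfl N10701 D25704
theorem N12674 : nd 12674 = n25705 := ndS (p := 10701) (l := 7) rfl N10701 D25705
theorem N12675 : nd 12675 = n25706 := ndS (p := 10702) (l := 4) rfl N10702 D25706
theorem N12676 : nd 12676 = n25707 := ndS (p := 10702) (l := 7) rfl N10702 D25707
theorem N12677 : nd 12677 = n25708 := ndS (p := 10702) (l := 8) rfl N10702 D25708
theorem N12678 : nd 12678 = n25709 := ndS (p := 10704) (l := 7) rfl N10704 D25709
theorem N12679 : nd 12679 = n25710 := ndS (p := 10704) (l := 8) rfl N10704 D25710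
theorem N12680 : nd 12680 = n25711 := ndS (p := 10705) (l := 6) rfl N10705 D25711
theorem N12681 : nd 12681 = n25712 := ndS (p := 10705) (l := 8) rfl N10705 D25712
theorem N12682 : nd 12682 = n25713 := ndS (p := 10707) (l := 8) rfl N10707 D25713
theorem N12683 : nd 12683 = n25714 := ndS (p := 10709) (l := 5) rfl N10709 D25714
theorem N12684 : nd 12684 = n25715 := ndS (p := 10709) (l := 7) rfl N10709 D25715
theorem N12685 : nd 12685 = n25716 := ndS (p := 10710) (l := 4) rfl N10710 D25716
theorem N12686 : nd 12686 = n25717 := ndS (p := 10710) (l := 7) rfl N10710 D25717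
theorem N12687 : nd 12687 = n25718 := ndS (p := 10712) (l := 3) rfl N10712 D25718
theorem N12688 : nd 12688 = n25719 := ndS (p := 10712) (l := 7) rfl N10712 D25719
theorem N12689 : nd 12689 = n25720 := ndS (p := 10713) (l := 6) rfl N10713 D25720
theorem N12690 : nd 12690 = n25721 := ndS (p := 10714) (l := 6) rfl N10714 D25721
theorem N12691 : nd 12691 = n25727 := ndS (p := 10722) (l := 6) rfl N10722 D25727
theorem N12692 : nd 12692 = n25728 := ndS (p := 10723) (l := 5) rfl N10723 D25728
theorem N12693 : nd 12693 = n25729 := ndS (p := 10723) (l := 7) rfl N10723 D25729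
theorem N12694 : nd 12694 = n25732 := ndS (p := 10725) (l := 5) rfl N10725 D25732
theorem N12695 : nd 12695 = n25733 := ndS (p := 10725) (l := 7) rfl N10725 D25733
theorem N12696 : nd 12696 = n25734 := ndS (p := 10726) (l := 7) rfl N10726 D25734
theorem N12697 : nd 12697 = n25739 := ndS (p := 10728) (l := 7) rfl N10728 D25739
theorem N12698 : nd 12698 = n25764 := ndS (p := 10731) (l := 1) rfl N10731 D25764
theorem N12699 : nd 12699 = n25765 := ndS (p := 10731) (l := 6) rfl N10731 D25765
theorem N12700 : nd 12700 = n25766 := ndS (p := 10732) (l := 5) rfl N10732 D25766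
theorem N12701 : nd 12701 = n25767 := ndS (p := 10732) (l := 7) rfl N10732 D25767
theorem N12702 : nd 12702 = n25768 := ndS (p := 10733) (l := 7) rfl N10733 D25768
theorem N12703 : nd 12703 = n25769 := ndS (p := 10733) (l := 8) rfl N10733 D25769
theorem N12704 : nd 12704 = n25771 := ndS (p := 10735) (l := 6) rfl N10735 D25771
theorem N12705 : nd 12705 = n25772 := ndS (p := 10736) (l := 5) rfl N10736 D25772
theorem N12706 : nd 12706 = n25773 := ndS (p := 10736) (l := 7) rfl N10736 D25773
theorem N12707 : nd 12707 = n25774 := ndS (p := 10737) (l := 7) rfl N10737 D25774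
theorem N12708 : nd 12708 = n25775 := ndS (p := 10737) (l := 8) rfl N10737 D25775
theorem N12709 : nd 12709 = n25776 := ndS (p := 10739) (l := 1) rfl N10739 D25776
theorem N12710 : nd 12710 = n25777 := ndS (p := 10739) (l := 6) rfl N10739 D25777
theorem N12711 : nd 12711 = n25778 := ndS (p := 10740) (l := 5) rfl N10740 D25778
theorem N12712 : nd 12712 = n25779 := ndS (p := 10740) (l := 7) rfl N10740 D25779
theorem N12713 : nd 12713 = n25780 := ndS (p := 10741) (l := 7) rfl N10741 D25780
theorem N12714 : nd 12714 = n25781 := ndS (p := 10741) (l := 8) rfl N10741 D25781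
theorem N12715 : nd 12715 = n25783 := ndS (p := 10743) (l := 6) rfl N10743 D25783
theorem N12716 : nd 12716 = n25784 := ndS (p := 10744) (l := 5) rfl N10744 D25784
theorem N12717 : nd 12717 = n25785 := ndS (p := 10744) (l := 7) rfl N10744 D25785
theorem N12718 : nd 12718 = n25786 := ndS (p := 10745) (l := 4) rfl N10745 D25786
theorem N12719 : nd 12719 = n25787 := ndS (p := 10745) (l := 7) rfl N10745 D25787
theorem N12720 : nd 12720 = n25788 := ndS (p := 10745) (l := 8) rfl N10745 D25788
theorem N12721 : nd 12721 = n25789 := ndS (p := 10747) (l := 6) rfl N10747 D25789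
theorem N12722 : nd 12722 = n25790 := ndS (p := 10747) (l := 8) rfl N10747 D25790
theorem N12723 : nd 12723 = n25795 := ndS (p := 10749) (l := 7) rfl N10749 D25795
theorem N12724 : nd 12724 = n25797 := ndS (p := 10750) (l := 7) rfl N10750 D25797
theorem N12725 : nd 12725 = n25800 := ndS (p := 10752) (l := 8) rfl N10752 D25800
theorem N12726 : nd 12726 = n25801 := ndS (p := 10753) (l := 9) rfl N10753 D25801
theorem N12727 : nd 12727 = n25811 := ndS (p := 10755) (l := 8) rfl N10755 D25811
theorem N12728 : nd 12728 = n25829 := ndS (p := 10758) (l := 2) rfl N10758 D25829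
theorem N12729 : nd 12729 = n25830 := ndS (p := 10758) (l := 6) rfl N10758 D25830
theorem N12730 : nd 12730 = n25831 := ndS (p := 10759) (l := 5) rfl N10759 D25831
theorem N12731 : nd 12731 = n25832 := ndS (p := 10759) (l := 7) rfl N10759 D25832
theorem N12732 : nd 12732 = n25833 := ndS (p := 10761) (l := 1) rfl N10761 D25833
theorem N12733 : nd 12733 = n25834 := ndS (p := 10761) (l := 6) rfl N10761 D25834
theorem N12734 : nd 12734 = n25835 := ndS (p := 10762) (l := 5) rfl N10762 D25835
theorem N12735 : nd 12735 = n25836 := ndS (p := 10762) (l := 7) rfl N10762 D25836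
theorem N12736 : nd 12736 = n25837 := ndS (p := 10763) (l := 7) rfl N10763 D25837
theorem N12737 : nd 12737 = n25838 := ndS (p := 10763) (l := 8) rfl N10763 D25838
theorem N12738 : nd 12738 = n25840 := ndS (p := 10765) (l := 6) rfl N10765 D25840
theorem N12739 : nd 12739 = n25841 := ndS (p := 10766) (l := 5) rfl N10766 D25841
theorem N12740 : nd 12740 = n25842 := ndS (p := 10766) (l := 7) rfl N10766 D25842
theorem N12741 : nd 12741 = n25843 := ndS (p := 10767) (l := 7) rfl N10767 D25843
theorem N12742 : nd 12742 = n25844 := ndS (p := 10767) (l := 8) rfl N10767 D25844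
theorem N12743 : nd 12743 = n25845 := ndS (p := 10769) (l := 1) rfl N10769 D25845
theorem N12744 : nd 12744 = n25846 := ndS (p := 10769) (l := 6) rfl N10769 D25846
theorem N12745 : nd 12745 = n25847 := ndS (p := 10770) (l := 5) rfl N10770 D25847
theorem N12746 : nd 12746 = n25848 := ndS (p := 10770) (l := 7) rfl N10770 D25848
theorem N12747 : nd 12747 = n25849 := ndS (p := 10771) (l := 7) rfl N10771 D25849
theorem N12748 : nd 12748 = n25850 := ndS (p := 10771) (l := 8) rfl N10771 D25850
theorem N12749 : nd 12749 = n25852 := ndS (p := 10773) (l := 6) rfl N10773 D25852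
theorem N12750 : nd 12750 = n25853 := ndS (p := 10774) (l := 5) rfl N10774 D25853
theorem N12751 : nd 12751 = n25854 := ndS (p := 10774) (l := 7) rfl N10774 D25854
theorem N12752 : nd 12752 = n25855 := ndS (p := 10775) (l := 4) rfl N10775 D25855
theorem N12753 : nd 12753 = n25856 := ndS (p := 10775) (l := 7) rfl N10775 D25856
theorem N12754 : nd 12754 = n25857 := ndS (p := 10775) (l := 8) rfl N10775 D25857
theorem N12755 : nd 12755 = n25858 := ndS (p := 10777) (l := 6) rfl N10777 D25858
theorem N12756 : nd 12756 = n25859 := ndS (p := 10777) (l := 8) rfl N10777 D25859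
theorem N12757 : nd 12757 = n25860 := ndS (p := 10778) (l := 9) rfl N10778 D25860
theorem N12758 : nd 12758 = n25861 := ndS (p := 10779) (l := 1) rfl N10779 D25861
theorem N12759 : nd 12759 = n25862 := ndS (p := 10779) (l := 6) rfl N10779 D25862
theorem N12760 : nd 12760 = n25863 := ndS (p := 10780) (l := 5) rfl N10780 D25863
theorem N12761 : nd 12761 = n25864 := ndS (p := 10780) (l := 7) rfl N10780 D25864
theorem N12762 : nd 12762 = n25865 := ndS (p := 10781) (l := 7) rfl N10781 D25865
theorem N12763 : nd 12763 = n25866 := ndS (p := 10781) (l := 8) rfl N10781 D25866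
theorem N12764 : nd 12764 = n25871 := ndS (p := 10783) (l := 4) rfl N10783 D25871
theorem N12765 : nd 12765 = n25872 := ndS (p := 10783) (l := 7) rfl N10783 D25872
theorem N12766 : nd 12766 = n25874 := ndS (p := 10785) (l := 6) rfl N10785 D25874
theorem N12767 : nd 12767 = n25875 := ndS (p := 10785) (l := 8) rfl N10785 D25875
theorem N12768 : nd 12768 = n25876 := ndS (p := 10786) (l := 9) rfl N10786 D25876
theorem N12769 : nd 12769 = n25878 := ndS (p := 10787) (l := 6) rfl N10787 D25878
theorem N12770 : nd 12770 = n25879 := ndS (p := 10788) (l := 5) rfl N10788 D25879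
theorem N12771 : nd 12771 = n25880 := ndS (p := 10788) (l := 7) rfl N10788 D25880
theorem N12772 : nd 12772 = n25881 := ndS (p := 10789) (l := 4) rfl N10789 D25881
theorem N12773 : nd 12773 = n25882 := ndS (p := 10789) (l := 7) rfl N10789 D25882
theorem N12774 : nd 12774 = n25883 := ndS (p := 10789) (l := 8) rfl N10789 D25883
theorem N12775 : nd 12775 = n25884 := ndS (p := 10791) (l := 6) rfl N10791 D25884
theorem N12776 : nd 12776 = n25885 := ndS (p := 10791) (l := 8) rfl N10791 D25885
theorem N12777 : nd 12777 = n25886 := ndS (p := 10792) (l := 9) rfl N10792 D25886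
theorem N12778 : nd 12778 = n25888 := ndS (p := 10793) (l := 5) rfl N10793 D25888
theorem N12779 : nd 12779 = n25889 := ndS (p := 10793) (l := 7) rfl N10793 D25889
theorem N12780 : nd 12780 = n25890 := ndS (p := 10794) (l := 4) rfl N10794 D25890
theorem N12781 : nd 12781 = n25891 := ndS (p := 10794) (l := 7) rfl N10794 D25891
theorem N12782 : nd 12782 = n25892 := ndS (p := 10794) (l := 8) rfl N10794 D25892
theorem N12783 : nd 12783 = n25893 := ndS (p := 10796) (l := 7) rfl N10796 D25893
theorem N12784 : nd 12784 = n25894 := ndS (p := 10796) (l := 8) rfl N10796 D25894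
theorem N12785 : nd 12785 = n25895 := ndS (p := 10797) (l := 6) rfl N10797 D25895
theorem N12786 : nd 12786 = n25896 := ndS (p := 10797) (l := 8) rfl N10797 D25896
theorem N12787 : nd 12787 = n25897 := ndS (p := 10798) (l := 9) rfl N10798 D25897
theorem N12788 : nd 12788 = n25898 := ndS (p := 10799) (l := 8) rfl N10799 D25898
theorem N12789 : nd 12789 = n25899 := ndS (p := 10800) (l := 9) rfl N10800 D25899
theorem N12790 : nd 12790 = n25911 := ndS (p := 10802) (l := 8) rfl N10802 D25911
theorem N12791 : nd 12791 = n25912 := ndS (p := 10803) (l := 9) rfl N10803 D25912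
theorem N12792 : nd 12792 = n25918 := ndS (p := 10806) (l := 7) rfl N10806 D25918
theorem N12793 : nd 12793 = n25919 := ndS (p := 10806) (l := 8) rfl N10806 D25919
theorem N12794 : nd 12794 = n25921 := ndS (p := 10807) (l := 8) rfl N10807 D25921
theorem N12795 : nd 12795 = n25922 := ndS (p := 10808) (l := 9) rfl N10808 D25922
theorem N12796 : nd 12796 = n25924 := ndS (p := 10809) (l := 8) rfl N10809 D25924
theorem N12797 : nd 12797 = n25925 := ndS (p := 10810) (l := 5) rfl N10810 D25925
theorem N12798 : nd 12798 = n25928 := ndS (p := 10811) (l := 9) rfl N10811 D25928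
theorem N12799 : nd 12799 = n25929 := ndS (p := 10813) (l := 5) rfl N10813 D25929
theorem N12800 : nd 12800 = n25930 := ndS (p := 10813) (l := 9) rfl N10813 D25930
theorem N12801 : nd 12801 = n25933 := ndS (p := 10815) (l := 5) rfl N10815 D25933
theorem N12802 : nd 12802 = n25935 := ndS (p := 10816) (l := 6) rfl N10816 D25935
theorem N12803 : nd 12803 = n25939 := ndS (p := 10817) (l := 4) rfl N10817 D25939
theorem N12804 : nd 12804 = n25940 := ndS (p := 10817) (l := 9) rfl N10817 D25940
theorem N12805 : nd 12805 = n25942 := ndS (p := 10819) (l := 6) rfl N10819 D25942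
theorem N12806 : nd 12806 = n25943 := ndS (p := 10820) (l := 5) rfl N10820 D25943
theorem N12807 : nd 12807 = n25944 := ndS (p := 10820) (l := 7) rfl N10820 D25944
theorem N12808 : nd 12808 = n25945 := ndS (p := 10821) (l := 7) rfl N10821 D25945
theorem N12809 : nd 12809 = n25946 := ndS (p := 10821) (l := 8) rfl N10821 D25946
theorem N12810 : nd 12810 = n25950 := ndS (p := 10823) (l := 7) rfl N10823 D25950
theorem N12811 : nd 12811 = n25952 := ndS (p := 10824) (l := 7) rfl N10824 D25952
theorem N12812 : nd 12812 = n25954 := ndS (p := 10826) (l := 6) rfl N10826 D25954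
theorem N12813 : nd 12813 = n25955 := ndS (p := 10826) (l := 8) rfl N10826 D25955
theorem N12814 : nd 12814 = n25958 := ndS (p := 10828) (l := 6) rfl N10828 D25958
theorem N12815 : nd 12815 = n25959 := ndS (p := 10829) (l := 5) rfl N10829 D25959
theorem N12816 : nd 12816 = n25960 := ndS (p := 10829) (l := 7) rfl N10829 D25960
theorem N12817 : nd 12817 = n25961 := ndS (p := 10830) (l := 4) rfl N10830 D25961
theorem N12818 : nd 12818 = n25962 := ndS (p := 10830) (l := 7) rfl N10830 D25962
theorem N12819 : nd 12819 = n25963 := ndS (p := 10830) (l := 8) rfl N10830 D25963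
theorem N12820 : nd 12820 = n25964 := ndS (p := 10832) (l := 6) rfl N10832 D25964
theorem N12821 : nd 12821 = n25965 := ndS (p := 10832) (l := 8) rfl N10832 D25965
theorem N12822 : nd 12822 = n25966 := ndS (p := 10833) (l := 9) rfl N10833 D25966
theorem N12823 : nd 12823 = n25968 := ndS (p := 10834) (l := 5) rfl N10834 D25968
theorem N12824 : nd 12824 = n25969 := ndS (p := 10834) (l := 7) rfl N10834 D25969
theorem N12825 : nd 12825 = n25970 := ndS (p := 10835) (l := 4) rfl N10835 D25970
theorem N12826 : nd 12826 = n25971 := ndS (p := 10835) (l := 7) rfl N10835 D25971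
theorem N12827 : nd 12827 = n25972 := ndS (p := 10835) (l := 8) rfl N10835 D25972
theorem N12828 : nd 12828 = n25973 := ndS (p := 10837) (l := 7) rfl N10837 D25973
theorem N12829 : nd 12829 = n25974 := ndS (p := 10837) (l := 8) rfl N10837 D25974
theorem N12830 : nd 12830 = n25975 := ndS (p := 10838) (l := 6) rfl N10838 D25975
theorem N12831 : nd 12831 = n25976 := ndS (p := 10838) (l := 8) rfl N10838 D25976
theorem N12832 : nd 12832 = n25977 := ndS (p := 10839) (l := 9) rfl N10839 D25977
theorem N12833 : nd 12833 = n25978 := ndS (p := 10840) (l := 8) rfl N10840 D25978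
theorem N12834 : nd 12834 = n25979 := ndS (p := 10841) (l := 9) rfl N10841 D25979
theorem N12835 : nd 12835 = n25981 := ndS (p := 10843) (l := 6) rfl N10843 D25981
theorem N12836 : nd 12836 = n25982 := ndS (p := 10844) (l := 5) rfl N10844 D25982
theorem N12837 : nd 12837 = n25983 := ndS (p := 10844) (l := 7) rfl N10844 D25983
theorem N12838 : nd 12838 = n25984 := ndS (p := 10845) (l := 4) rfl N10845 D25984
theorem N12839 : nd 12839 = n25985 := ndS (p := 10845) (l := 7) rfl N10845 D25985
theorem N12840 : nd 12840 = n25986 := ndS (p := 10845) (l := 8) rfl N10845 D25986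
theorem N12841 : nd 12841 = n25987 := ndS (p := 10847) (l := 6) rfl N10847 D25987
theorem N12842 : nd 12842 = n25988 := ndS (p := 10847) (l := 8) rfl N10847 D25988
theorem N12843 : nd 12843 = n25989 := ndS (p := 10848) (l := 9) rfl N10848 D25989
theorem N12844 : nd 12844 = n25996 := ndS (p := 10849) (l := 7) rfl N10849 D25996
theorem N12845 : nd 12845 = n25998 := ndS (p := 10850) (l := 6) rfl N10850 D25998
theorem N12846 : nd 12846 = n26001 := ndS (p := 10851) (l := 8) rfl N10851 D26001
theorem N12847 : nd 12847 = n26002 := ndS (p := 10852) (l := 9) rfl N10852 D26002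
theorem N12848 : nd 12848 = n26004 := ndS (p := 10854) (l := 5) rfl N10854 D26004
theorem N12849 : nd 12849 = n26006 := ndS (p := 10855) (l := 4) rfl N10855 D26006
theorem N12850 : nd 12850 = n26007 := ndS (p := 10855) (l := 7) rfl N10855 D26007
theorem N12851 : nd 12851 = n26008 := ndS (p := 10855) (l := 8) rfl N10855 D26008
theorem N12852 : nd 12852 = n26009 := ndS (p := 10857) (l := 7) rfl N10857 D26009
theorem N12853 : nd 12853 = n26010 := ndS (p := 10857) (l := 8) rfl N10857 D26010
theorem N12854 : nd 12854 = n26011 := ndS (p := 10858) (l := 6) rfl N10858 D26011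
theorem N12855 : nd 12855 = n26012 := ndS (p := 10858) (l := 8) rfl N10858 D26012
theorem N12856 : nd 12856 = n26013 := ndS (p := 10859) (l := 9) rfl N10859 D26013
theorem N12857 : nd 12857 = n26014 := ndS (p := 10860) (l := 8) rfl N10860 D26014
theorem N12858 : nd 12858 = n26015 := ndS (p := 10861) (l := 9) rfl N10861 D26015
theorem N12859 : nd 12859 = n26018 := ndS (p := 10863) (l := 4) rfl N10863 D26018
theorem N12860 : nd 12860 = n26020 := ndS (p := 10863) (l := 8) rfl N10863 D26020
theorem N12861 : nd 12861 = n26021 := ndS (p := 10864) (l := 3) rfl N10864 D26021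
theorem N12862 : nd 12862 = n26022 := ndS (p := 10864) (l := 7) rfl N10864 D26022
theorem N12863 : nd 12863 = n26023 := ndS (p := 10864) (l := 8) rfl N10864 D26023
theorem N12864 : nd 12864 = n26024 := ndS (p := 10865) (l := 6) rfl N10865 D26024
theorem N12865 : nd 12865 = n26025 := ndS (p := 10865) (l := 8) rfl N10865 D26025
theorem N12866 : nd 12866 = n26026 := ndS (p := 10866) (l := 9) rfl N10866 D26026
theorem N12867 : nd 12867 = n26027 := ndS (p := 10867) (l := 6) rfl N10867 D26027
theorem N12868 : nd 12868 = n26028 := ndS (p := 10867) (l := 8) rfl N10867 D26028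
theorem N12869 : nd 12869 = n26029 := ndS (p := 10868) (l := 9) rfl N10868 D26029
theorem N12870 : nd 12870 = n26030 := ndS (p := 10869) (l := 8) rfl N10869 D26030
theorem N12871 : nd 12871 = n26031 := ndS (p := 10870) (l := 9) rfl N10870 D26031
theorem N12872 : nd 12872 = n26032 := ndS (p := 10872) (l := 5) rfl N10872 D26032
theorem N12873 : nd 12873 = n26033 := ndS (p := 10872) (l := 9) rfl N10872 D26033
theorem N12874 : nd 12874 = n26051 := ndS (p := 10874) (l := 5) rfl N10874 D26051
theorem N12875 : nd 12875 = n26059 := ndS (p := 10877) (l := 9) rfl N10877 D26059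
theorem N12876 : nd 12876 = n26060 := ndS (p := 10879) (l := 5) rfl N10879 D26060
theorem N12877 : nd 12877 = n26061 := ndS (p := 10879) (l := 9) rfl N10879 D26061
theorem N12878 : nd 12878 = n26062 := ndS (p := 10881) (l := 4) rfl N10881 D26062
theorem N12879 : nd 12879 = n26063 := ndS (p := 10881) (l := 9) rfl N10881 D26063
theorem N12880 : nd 12880 = n26067 := ndS (p := 10885) (l := 6) rfl N10885 D26067
theorem N12881 : nd 12881 = n26068 := ndS (p := 10886) (l := 5) rfl N10886 D26068
theorem N12882 : nd 12882 = n26069 := ndS (p := 10886) (l := 7) rfl N10886 D26069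
theorem N12883 : nd 12883 = n26070 := ndS (p := 10887) (l := 4) rfl N10887 D26070
theorem N12884 : nd 12884 = n26071 := ndS (p := 10887) (l := 7) rfl N10887 D26071
theorem N12885 : nd 12885 = n26072 := ndS (p := 10887) (l := 8) rfl N10887 D26072
theorem N12886 : nd 12886 = n26073 := ndS (p := 10889) (l := 7) rfl N10889 D26073
theorem N12887 : nd 12887 = n26075 := ndS (p := 10890) (l := 6) rfl N10890 D26075
theorem N12888 : nd 12888 = n26076 := ndS (p := 10890) (l := 8) rfl N10890 D26076
theorem N12889 : nd 12889 = n26077 := ndS (p := 10892) (l := 8) rfl N10892 D26077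
theorem N12890 : nd 12890 = n26088 := ndS (p := 10894) (l := 6) rfl N10894 D26088
theorem N12891 : nd 12891 = n26095 := ndS (p := 10898) (l := 3) rfl N10898 D26095
theorem N12892 : nd 12892 = n26096 := ndS (p := 10898) (l := 7) rfl N10898 D26096
theorem N12893 : nd 12893 = n26097 := ndS (p := 10899) (l := 6) rfl N10899 D26097
theorem N12894 : nd 12894 = n26099 := ndS (p := 10900) (l := 6) rfl N10900 D26099
theorem N12895 : nd 12895 = n26100 := ndS (p := 10900) (l := 8) rfl N10900 D26100
theorem N12896 : nd 12896 = n26101 := ndS (p := 10902) (l := 8) rfl N10902 D26101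
theorem N12897 : nd 12897 = n26104 := ndS (p := 10905) (l := 3) rfl N10905 D26104
theorem N12898 : nd 12898 = n26107 := ndS (p := 10906) (l := 7) rfl N10906 D26107
theorem N12899 : nd 12899 = n26108 := ndS (p := 10907) (l := 6) rfl N10907 D26108
theorem N12900 : nd 12900 = n26109 := ndS (p := 10909) (l := 5) rfl N10909 D26109
theorem N12901 : nd 12901 = n26134 := ndS (p := 10910) (l := 7) rfl N10910 D26134
theorem N12902 : nd 12902 = n26179 := ndS (p := 10914) (l := 6) rfl N10914 D26179
theorem N12903 : nd 12903 = n26181 := ndS (p := 10915) (l := 7) rfl N10915 D26181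
theorem N12904 : nd 12904 = n26182 := ndS (p := 10916) (l := 4) rfl N10916 D26182
theorem N12905 : nd 12905 = n26183 := ndS (p := 10916) (l := 7) rfl N10916 D26183
theorem N12906 : nd 12906 = n26184 := ndS (p := 10916) (l := 8) rfl N10916 D26184
theorem N12907 : nd 12907 = n26185 := ndS (p := 10918) (l := 6) rfl N10918 D26185
theorem N12908 : nd 12908 = n26186 := ndS (p := 10918) (l := 8) rfl N10918 D26186
theorem N12909 : nd 12909 = n26190 := ndS (p := 10920) (l := 7) rfl N10920 D26190
theorem N12910 : nd 12910 = n26194 := ndS (p := 10922) (l := 7) rfl N10922 D26194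
theorem N12911 : nd 12911 = n26196 := ndS (p := 10923) (l := 6) rfl N10923 D26196
theorem N12912 : nd 12912 = n26209 := ndS (p := 10927) (l := 9) rfl N10927 D26209
theorem N12913 : nd 12913 = n26244 := ndS (p := 10929) (l := 5) rfl N10929 D26244
theorem N12914 : nd 12914 = n26245 := ndS (p := 10929) (l := 7) rfl N10929 D26245
theorem N12915 : nd 12915 = n26247 := ndS (p := 10930) (l := 7) rfl N10930 D26247
theorem N12916 : nd 12916 = n26248 := ndS (p := 10930) (l := 8) rfl N10930 D26248
theorem N12917 : nd 12917 = n26249 := ndS (p := 10932) (l := 7) rfl N10932 D26249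
theorem N12918 : nd 12918 = n26250 := ndS (p := 10932) (l := 8) rfl N10932 D26250
theorem N12919 : nd 12919 = n26251 := ndS (p := 10933) (l := 6) rfl N10933 D26251
theorem N12920 : nd 12920 = n26252 := ndS (p := 10933) (l := 8) rfl N10933 D26252
theorem N12921 : nd 12921 = n26253 := ndS (p := 10934) (l := 9) rfl N10934 D26253
theorem N12922 : nd 12922 = n26254 := ndS (p := 10935) (l := 8) rfl N10935 D26254
theorem N12923 : nd 12923 = n26255 := ndS (p := 10936) (l := 9) rfl N10936 D26255
theorem N12924 : nd 12924 = n26259 := ndS (p := 10938) (l := 7) rfl N10938 D26259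
theorem N12925 : nd 12925 = n26264 := ndS (p := 10940) (l := 6) rfl N10940 D26264
theorem N12926 : nd 12926 = n26265 := ndS (p := 10940) (l := 8) rfl N10940 D26265
theorem N12927 : nd 12927 = n26266 := ndS (p := 10941) (l := 9) rfl N10941 D26266
theorem N12928 : nd 12928 = n26267 := ndS (p := 10942) (l := 6) rfl N10942 D26267
theorem N12929 : nd 12929 = n26268 := ndS (p := 10942) (l := 8) rfl N10942 D26268
theorem N12930 : nd 12930 = n26270 := ndS (p := 10943) (l := 9) rfl N10943 D26270
theorem N12931 : nd 12931 = n26271 := ndS (p := 10944) (l := 8) rfl N10944 D26271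
theorem N12932 : nd 12932 = n26272 := ndS (p := 10945) (l := 9) rfl N10945 D26272
theorem N12933 : nd 12933 = n26273 := ndS (p := 10947) (l := 5) rfl N10947 D26273
theorem N12934 : nd 12934 = n26274 := ndS (p := 10947) (l := 9) rfl N10947 D26274
theorem N12935 : nd 12935 = n26287 := ndS (p := 10949) (l := 5) rfl N10949 D26287
theorem N12936 : nd 12936 = n26288 := ndS (p := 10949) (l := 9) rfl N10949 D26288
theorem N12937 : nd 12937 = n26302 := ndS (p := 10952) (l := 9) rfl N10952 D26302
theorem N12938 : nd 12938 = n26311 := ndS (p := 10955) (l := 9) rfl N10955 D26311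
theorem N12939 : nd 12939 = n26329 := ndS (p := 10958) (l := 6) rfl N10958 D26329
theorem N12940 : nd 12940 = n26330 := ndS (p := 10958) (l := 8) rfl N10958 D26330
theorem N12941 : nd 12941 = n26331 := ndS (p := 10959) (l := 9) rfl N10959 D26331
theorem N12942 : nd 12942 = n26332 := ndS (p := 10960) (l := 6) rfl N10960 D26332
theorem N12943 : nd 12943 = n26333 := ndS (p := 10960) (l := 8) rfl N10960 D26333
theorem N12944 : nd 12944 = n26334 := ndS (p := 10961) (l := 9) rfl N10961 D26334
theorem N12945 : nd 12945 = n26335 := ndS (p := 10962) (l := 8) rfl N10962 D26335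
theorem N12946 : nd 12946 = n26336 := ndS (p := 10963) (l := 9) rfl N10963 D26336
theorem N12947 : nd 12947 = n26337 := ndS (p := 10965) (l := 5) rfl N10965 D26337
theorem N12948 : nd 12948 = n26338 := ndS (p := 10965) (l := 9) rfl N10965 D26338
theorem N12949 : nd 12949 = n26347 := ndS (p := 10967) (l := 9) rfl N10967 D26347
theorem N12950 : nd 12950 = n26353 := ndS (p := 10968) (l := 8) rfl N10968 D26353
theorem N12951 : nd 12951 = n26354 := ndS (p := 10969) (l := 9) rfl N10969 D26354
theorem N12952 : nd 12952 = n26355 := ndS (p := 10971) (l := 8) rfl N10971 D26355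
theorem N12953 : nd 12953 = n26356 := ndS (p := 10972) (l := 9) rfl N10972 D26356
theorem N12954 : nd 12954 = n26357 := ndS (p := 10974) (l := 5) rfl N10974 D26357
theorem N12955 : nd 12955 = n26358 := ndS (p := 10974) (l := 9) rfl N10974 D26358
theorem N12956 : nd 12956 = n26359 := ndS (p := 10976) (l := 4) rfl N10976 D26359
theorem N12957 : nd 12957 = n26360 := ndS (p := 10976) (l := 9) rfl N10976 D26360
theorem N12958 : nd 12958 = n26380 := ndS (p := 10978) (l := 4) rfl N10978 D26380
theorem N12959 : nd 12959 = n26381 := ndS (p := 10978) (l := 9) rfl N10978 D26381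
theorem N12960 : nd 12960 = n26390 := ndS (p := 10982) (l := 9) rfl N10982 D26390
theorem N12961 : nd 12961 = n26455 := ndS (p := 10988) (l := 7) rfl N10988 D26455
theorem N12962 : nd 12962 = n26457 := ndS (p := 10989) (l := 7) rfl N10989 D26457
theorem N12963 : nd 12963 = n26535 := ndS (p := 10994) (l := 6) rfl N10994 D26535
theorem N12964 : nd 12964 = n26536 := ndS (p := 10995) (l := 5) rfl N10995 D26536
theorem N12965 : nd 12965 = n26537 := ndS (p := 10995) (l := 7) rfl N10995 D26537
theorem N12966 : nd 12966 = n26538 := ndS (p := 10996) (l := 4) rfl N10996 D26538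
theorem N12967 : nd 12967 = n26539 := ndS (p := 10996) (l := 7) rfl N10996 D26539
theorem N12968 : nd 12968 = n26540 := ndS (p := 10996) (l := 8) rfl N10996 D26540
theorem N12969 : nd 12969 = n26541 := ndS (p := 10998) (l := 6) rfl N10998 D26541
theorem N12970 : nd 12970 = n26542 := ndS (p := 10998) (l := 8) rfl N10998 D26542
theorem N12971 : nd 12971 = n26543 := ndS (p := 10999) (l := 9) rfl N10999 D26543
theorem N12972 : nd 12972 = n26552 := ndS (p := 11001) (l := 8) rfl N11001 D26552
theorem N12973 : nd 12973 = n26556 := ndS (p := 11003) (l := 7) rfl N11003 D26556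
theorem N12974 : nd 12974 = n26558 := ndS (p := 11004) (l := 7) rfl N11004 D26558
theorem N12975 : nd 12975 = n26559 := ndS (p := 11004) (l := 8) rfl N11004 D26559
theorem N12976 : nd 12976 = n26560 := ndS (p := 11006) (l := 7) rfl N11006 D26560
theorem N12977 : nd 12977 = n26561 := ndS (p := 11006) (l := 8) rfl N11006 D26561
theorem N12978 : nd 12978 = n26563 := ndS (p := 11007) (l := 8) rfl N11007 D26563
theorem N12979 : nd 12979 = n26564 := ndS (p := 11008) (l := 9) rfl N11008 D26564
theorem N12980 : nd 12980 = n26566 := ndS (p := 11010) (l := 9) rfl N11010 D26566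
theorem N12981 : nd 12981 = n26601 := ndS (p := 11013) (l := 5) rfl N11013 D26601
theorem N12982 : nd 12982 = n26602 := ndS (p := 11013) (l := 9) rfl N11013 D26602
theorem N12983 : nd 12983 = n26636 := ndS (p := 11015) (l := 5) rfl N11015 D26636
theorem N12984 : nd 12984 = n26644 := ndS (p := 11017) (l := 6) rfl N11017 D26644
theorem N12985 : nd 12985 = n26655 := ndS (p := 11018) (l := 7) rfl N11018 D26655
theorem N12986 : nd 12986 = n26693 := ndS (p := 11020) (l := 8) rfl N11020 D26693
theorem N12987 : nd 12987 = n26697 := ndS (p := 11022) (l := 5) rfl N11022 D26697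
theorem N12988 : nd 12988 = n26700 := ndS (p := 11023) (l := 9) rfl N11023 D26700
theorem N12989 : nd 12989 = n26701 := ndS (p := 11025) (l := 5) rfl N11025 D26701
theorem N12990 : nd 12990 = n26702 := ndS (p := 11025) (l := 9) rfl N11025 D26702
theorem N12991 : nd 12991 = n26753 := ndS (p := 11028) (l := 4) rfl N11028 D26753
theorem N12992 : nd 12992 = n26754 := ndS (p := 11028) (l := 9) rfl N11028 D26754
theorem N12993 : nd 12993 = n26779 := ndS (p := 11030) (l := 4) rfl N11030 D26779
theorem N12994 : nd 12994 = n26789 := ndS (p := 11031) (l := 9) rfl N11031 D26789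
theorem N12995 : nd 12995 = n27103 := ndS (p := 11038) (l := 1) rfl N11038 D27103
theorem N12996 : nd 12996 = n27104 := ndS (p := 11038) (l := 6) rfl N11038 D27104
theorem N12997 : nd 12997 = n27105 := ndS (p := 11039) (l := 5) rfl N11039 D27105
theorem N12998 : nd 12998 = n27106 := ndS (p := 11039) (l := 7) rfl N11039 D27106
theorem N12999 : nd 12999 = n27107 := ndS (p := 11040) (l := 7) rfl N11040 D27107
theorem N13000 : nd 13000 = n27109 := ndS (p := 11042) (l := 1) rfl N11042 D27109
theorem N13001 : nd 13001 = n27110 := ndS (p := 11042) (l := 6) rfl N11042 D27110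
theorem N13002 : nd 13002 = n27111 := ndS (p := 11043) (l := 5) rfl N11043 D27111
theorem N13003 : nd 13003 = n27112 := ndS (p := 11043) (l := 7) rfl N11043 D27112
theorem N13004 : nd 13004 = n27113 := ndS (p := 11044) (l := 7) rfl N11044 D27113
theorem N13005 : nd 13005 = n27114 := ndS (p := 11044) (l := 8) rfl N11044 D27114
theorem N13006 : nd 13006 = n27115 := ndS (p := 11046) (l := 0) rfl N11046 D27115
theorem N13007 : nd 13007 = n27116 := ndS (p := 11046) (l := 6) rfl N11046 D27116
theorem N13008 : nd 13008 = n27117 := ndS (p := 11047) (l := 5) rfl N11047 D27117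
theorem N13009 : nd 13009 = n27118 := ndS (p := 11047) (l := 7) rfl N11047 D27118
theorem N13010 : nd 13010 = n27120 := ndS (p := 11048) (l := 7) rfl N11048 D27120
theorem N13011 : nd 13011 = n27122 := ndS (p := 11050) (l := 6) rfl N11050 D27122
theorem N13012 : nd 13012 = n27137 := ndS (p := 11052) (l := 0) rfl N11052 D27137
theorem N13013 : nd 13013 = n27138 := ndS (p := 11052) (l := 6) rfl N11052 D27138
theorem N13014 : nd 13014 = n27139 := ndS (p := 11053) (l := 5) rfl N11053 D27139
theorem N13015 : nd 13015 = n27140 := ndS (p := 11053) (l := 7) rfl N11053 D27140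
theorem N13016 : nd 13016 = n27142 := ndS (p := 11054) (l := 7) rfl N11054 D27142
theorem N13017 : nd 13017 = n27144 := ndS (p := 11056) (l := 6) rfl N11056 D27144
theorem N13018 : nd 13018 = n27147 := ndS (p := 11057) (l := 0) rfl N11057 D27147
theorem N13019 : nd 13019 = n27148 := ndS (p := 11057) (l := 6) rfl N11057 D27148
theorem N13020 : nd 13020 = n27149 := ndS (p := 11058) (l := 5) rfl N11058 D27149
theorem N13021 : nd 13021 = n27150 := ndS (p := 11058) (l := 7) rfl N11058 D27150
theorem N13022 : nd 13022 = n27151 := ndS (p := 11059) (l := 4) rfl N11059 D27151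
theorem N13023 : nd 13023 = n27152 := ndS (p := 11059) (l := 7) rfl N11059 D27152
theorem N13024 : nd 13024 = n27153 := ndS (p := 11059) (l := 8) rfl N11059 D27153
theorem N13025 : nd 13025 = n27154 := ndS (p := 11061) (l := 6) rfl N11061 D27154
theorem N13026 : nd 13026 = n27155 := ndS (p := 11061) (l := 8) rfl N11061 D27155
theorem N13027 : nd 13027 = n27156 := ndS (p := 11062) (l := 9) rfl N11062 D27156
theorem N13028 : nd 13028 = n27157 := ndS (p := 11063) (l := 6) rfl N11063 D27157
theorem N13029 : nd 13029 = n27158 := ndS (p := 11064) (l := 5) rfl N11064 D27158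
theorem N13030 : nd 13030 = n27159 := ndS (p := 11064) (l := 7) rfl N11064 D27159
theorem N13031 : nd 13031 = n27161 := ndS (p := 11065) (l := 7) rfl N11065 D27161
theorem N13032 : nd 13032 = n27165 := ndS (p := 11067) (l := 6) rfl N11067 D27165
theorem N13033 : nd 13033 = n27184 := ndS (p := 11069) (l := 0) rfl N11069 D27184
theorem N13034 : nd 13034 = n27185 := ndS (p := 11069) (l := 6) rfl N11069 D27185
theorem N13035 : nd 13035 = n27186 := ndS (p := 11070) (l := 5) rfl N11070 D27186
theorem N13036 : nd 13036 = n27187 := ndS (p := 11070) (l := 7) rfl N11070 D27187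
theorem N13037 : nd 13037 = n27188 := ndS (p := 11071) (l := 4) rfl N11071 D27188
theorem N13038 : nd 13038 = n27189 := ndS (p := 11071) (l := 7) rfl N11071 D27189
theorem N13039 : nd 13039 = n27190 := ndS (p := 11071) (l := 8) rfl N11071 D27190
theorem N13040 : nd 13040 = n27191 := ndS (p := 11073) (l := 6) rfl N11073 D27191
theorem N13041 : nd 13041 = n27192 := ndS (p := 11073) (l := 8) rfl N11073 D27192
theorem N13042 : nd 13042 = n27193 := ndS (p := 11074) (l := 9) rfl N11074 D27193
theorem N13043 : nd 13043 = n27194 := ndS (p := 11075) (l := 0) rfl N11075 D27194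
theorem N13044 : nd 13044 = n27195 := ndS (p := 11075) (l := 6) rfl N11075 D27195
theorem N13045 : nd 13045 = n27196 := ndS (p := 11076) (l := 5) rfl N11076 D27196
theorem N13046 : nd 13046 = n27197 := ndS (p := 11076) (l := 7) rfl N11076 D27197
theorem N13047 : nd 13047 = n27198 := ndS (p := 11077) (l := 4) rfl N11077 D27198
theorem N13048 : nd 13048 = n27199 := ndS (p := 11077) (l := 7) rfl N11077 D27199
theorem N13049 : nd 13049 = n27200 := ndS (p := 11077) (l := 8) rfl N11077 D27200
theorem N13050 : nd 13050 = n27201 := ndS (p := 11079) (l := 6) rfl N11079 D27201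
theorem N13051 : nd 13051 = n27202 := ndS (p := 11079) (l := 8) rfl N11079 D27202
theorem N13052 : nd 13052 = n27203 := ndS (p := 11080) (l := 9) rfl N11080 D27203
theorem N13053 : nd 13053 = n27204 := ndS (p := 11081) (l := 0) rfl N11081 D27204
theorem N13054 : nd 13054 = n27205 := ndS (p := 11081) (l := 6) rfl N11081 D27205
theorem N13055 : nd 13055 = n27206 := ndS (p := 11082) (l := 5) rfl N11082 D27206
theorem N13056 : nd 13056 = n27207 := ndS (p := 11082) (l := 7) rfl N11082 D27207
theorem N13057 : nd 13057 = n27208 := ndS (p := 11083) (l := 4) rfl N11083 D27208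
theorem N13058 : nd 13058 = n27209 := ndS (p := 11083) (l := 7) rfl N11083 D27209
theorem N13059 : nd 13059 = n27210 := ndS (p := 11083) (l := 8) rfl N11083 D27210
theorem N13060 : nd 13060 = n27211 := ndS (p := 11085) (l := 6) rfl N11085 D27211
theorem N13061 : nd 13061 = n27212 := ndS (p := 11085) (l := 8) rfl N11085 D27212
theorem N13062 : nd 13062 = n27213 := ndS (p := 11086) (l := 9) rfl N11086 D27213
theorem N13063 : nd 13063 = n27214 := ndS (p := 11087) (l := 6) rfl N11087 D27214
theorem N13064 : nd 13064 = n27215 := ndS (p := 11088) (l := 5) rfl N11088 D27215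
theorem N13065 : nd 13065 = n27216 := ndS (p := 11088) (l := 7) rfl N11088 D27216
theorem N13066 : nd 13066 = n27217 := ndS (p := 11089) (l := 4) rfl N11089 D27217
theorem N13067 : nd 13067 = n27218 := ndS (p := 11089) (l := 7) rfl N11089 D27218
theorem N13068 : nd 13068 = n27219 := ndS (p := 11089) (l := 8) rfl N11089 D27219
theorem N13069 : nd 13069 = n27220 := ndS (p := 11091) (l := 7) rfl N11091 D27220
theorem N13070 : nd 13070 = n27222 := ndS (p := 11092) (l := 6) rfl N11092 D27222
theorem N13071 : nd 13071 = n27223 := ndS (p := 11092) (l := 8) rfl N11092 D27223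
theorem N13072 : nd 13072 = n27224 := ndS (p := 11093) (l := 9) rfl N11093 D27224
theorem N13073 : nd 13073 = n27225 := ndS (p := 11094) (l := 8) rfl N11094 D27225
theorem N13074 : nd 13074 = n27226 := ndS (p := 11095) (l := 9) rfl N11095 D27226
theorem N13075 : nd 13075 = n27227 := ndS (p := 11097) (l := 6) rfl N11097 D27227
theorem N13076 : nd 13076 = n27228 := ndS (p := 11098) (l := 7) rfl N11098 D27228
theorem N13077 : nd 13077 = n27229 := ndS (p := 11099) (l := 7) rfl N11099 D27229
theorem N13078 : nd 13078 = n27230 := ndS (p := 11101) (l := 7) rfl N11101 D27230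
theorem N13079 : nd 13079 = n27231 := ndS (p := 11102) (l := 6) rfl N11102 D27231
theorem N13080 : nd 13080 = n27232 := ndS (p := 11102) (l := 8) rfl N11102 D27232
theorem N13081 : nd 13081 = n27233 := ndS (p := 11104) (l := 8) rfl N11104 D27233
theorem N13082 : nd 13082 = n27234 := ndS (p := 11105) (l := 9) rfl N11105 D27234
theorem N13083 : nd 13083 = n27235 := ndS (p := 11107) (l := 5) rfl N11107 D27235
theorem N13084 : nd 13084 = n27236 := ndS (p := 11107) (l := 7) rfl N11107 D27236
theorem N13085 : nd 13085 = n27237 := ndS (p := 11108) (l := 4) rfl N11108 D27237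
theorem N13086 : nd 13086 = n27238 := ndS (p := 11108) (l := 7) rfl N11108 D27238
theorem N13087 : nd 13087 = n27239 := ndS (p := 11108) (l := 8) rfl N11108 D27239
theorem N13088 : nd 13088 = n27240 := ndS (p := 11110) (l := 7) rfl N11110 D27240
theorem N13089 : nd 13089 = n27242 := ndS (p := 11111) (l := 6) rfl N11111 D27242
theorem N13090 : nd 13090 = n27243 := ndS (p := 11111) (l := 8) rfl N11111 D27243
theorem N13091 : nd 13091 = n27244 := ndS (p := 11112) (l := 9) rfl N11112 D27244
theorem N13092 : nd 13092 = n27245 := ndS (p := 11113) (l := 6) rfl N11113 D27245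
theorem N13093 : nd 13093 = n27249 := ndS (p := 11114) (l := 8) rfl N11114 D27249
theorem N13094 : nd 13094 = n27250 := ndS (p := 11115) (l := 9) rfl N11115 D27250
theorem N13095 : nd 13095 = n27251 := ndS (p := 11117) (l := 5) rfl N11117 D27251
theorem N13096 : nd 13096 = n27252 := ndS (p := 11117) (l := 9) rfl N11117 D27252
theorem N13097 : nd 13097 = n27253 := ndS (p := 11119) (l := 5) rfl N11119 D27253
theorem N13098 : nd 13098 = n27263 := ndS (p := 11121) (l := 6) rfl N11121 D27263
theorem N13099 : nd 13099 = n27264 := ndS (p := 11122) (l := 5) rfl N11122 D27264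
theorem N13100 : nd 13100 = n27265 := ndS (p := 11122) (l := 7) rfl N11122 D27265
theorem N13101 : nd 13101 = n27266 := ndS (p := 11123) (l := 4) rfl N11123 D27266
theorem N13102 : nd 13102 = n27267 := ndS (p := 11123) (l := 7) rfl N11123 D27267
theorem N13103 : nd 13103 = n27268 := ndS (p := 11123) (l := 8) rfl N11123 D27268
theorem N13104 : nd 13104 = n27269 := ndS (p := 11125) (l := 7) rfl N11125 D27269
theorem N13105 : nd 13105 = n27270 := ndS (p := 11125) (l := 8) rfl N11125 D27270
theorem N13106 : nd 13106 = n27271 := ndS (p := 11126) (l := 6) rfl N11126 D27271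
theorem N13107 : nd 13107 = n27272 := ndS (p := 11126) (l := 8) rfl N11126 D27272
theorem N13108 : nd 13108 = n27273 := ndS (p := 11127) (l := 9) rfl N11127 D27273
theorem N13109 : nd 13109 = n27274 := ndS (p := 11128) (l := 8) rfl N11128 D27274
theorem N13110 : nd 13110 = n27275 := ndS (p := 11129) (l := 9) rfl N11129 D27275
theorem N13111 : nd 13111 = n27278 := ndS (p := 11131) (l := 5) rfl N11131 D27278
theorem N13112 : nd 13112 = n27279 := ndS (p := 11131) (l := 7) rfl N11131 D27279
theorem N13113 : nd 13113 = n27280 := ndS (p := 11132) (l := 4) rfl N11132 D27280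
theorem N13114 : nd 13114 = n27281 := ndS (p := 11132) (l := 7) rfl N11132 D27281
theorem N13115 : nd 13115 = n27282 := ndS (p := 11132) (l := 8) rfl N11132 D27282
theorem N13116 : nd 13116 = n27283 := ndS (p := 11134) (l := 6) rfl N11134 D27283
theorem N13117 : nd 13117 = n27284 := ndS (p := 11134) (l := 8) rfl N11134 D27284
theorem N13118 : nd 13118 = n27285 := ndS (p := 11135) (l := 9) rfl N11135 D27285
theorem N13119 : nd 13119 = n27286 := ndS (p := 11136) (l := 6) rfl N11136 D27286
theorem N13120 : nd 13120 = n27287 := ndS (p := 11137) (l := 7) rfl N11137 D27287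
theorem N13121 : nd 13121 = n27288 := ndS (p := 11138) (l := 7) rfl N11138 D27288
theorem N13122 : nd 13122 = n27289 := ndS (p := 11140) (l := 7) rfl N11140 D27289
theorem N13123 : nd 13123 = n27290 := ndS (p := 11141) (l := 6) rfl N11141 D27290
theorem N13124 : nd 13124 = n27291 := ndS (p := 11141) (l := 8) rfl N11141 D27291
theorem N13125 : nd 13125 = n27292 := ndS (p := 11143) (l := 8) rfl N11143 D27292
theorem N13126 : nd 13126 = n27293 := ndS (p := 11144) (l := 9) rfl N11144 D27293
theorem N13127 : nd 13127 = n27294 := ndS (p := 11146) (l := 6) rfl N11146 D27294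
theorem N13128 : nd 13128 = n27295 := ndS (p := 11147) (l := 5) rfl N11147 D27295
theorem N13129 : nd 13129 = n27296 := ndS (p := 11147) (l := 7) rfl N11147 D27296
theorem N13130 : nd 13130 = n27297 := ndS (p := 11148) (l := 7) rfl N11148 D27297
theorem N13131 : nd 13131 = n27298 := ndS (p := 11150) (l := 7) rfl N11150 D27298
theorem N13132 : nd 13132 = n27299 := ndS (p := 11151) (l := 6) rfl N11151 D27299
theorem N13133 : nd 13133 = n27300 := ndS (p := 11151) (l := 8) rfl N11151 D27300
theorem N13134 : nd 13134 = n27301 := ndS (p := 11153) (l := 8) rfl N11153 D27301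
theorem N13135 : nd 13135 = n27302 := ndS (p := 11154) (l := 9) rfl N11154 D27302
theorem N13136 : nd 13136 = n27303 := ndS (p := 11156) (l := 5) rfl N11156 D27303
theorem N13137 : nd 13137 = n27304 := ndS (p := 11156) (l := 7) rfl N11156 D27304
theorem N13138 : nd 13138 = n27305 := ndS (p := 11157) (l := 4) rfl N11157 D27305
theorem N13139 : nd 13139 = n27306 := ndS (p := 11157) (l := 7) rfl N11157 D27306
theorem N13140 : nd 13140 = n27307 := ndS (p := 11157) (l := 8) rfl N11157 D27307
theorem N13141 : nd 13141 = n27308 := ndS (p := 11159) (l := 7) rfl N11159 D27308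
theorem N13142 : nd 13142 = n27309 := ndS (p := 11160) (l := 6) rfl N11160 D27309
theorem N13143 : nd 13143 = n27310 := ndS (p := 11160) (l := 8) rfl N11160 D27310
theorem N13144 : nd 13144 = n27311 := ndS (p := 11162) (l := 6) rfl N11162 D27311
theorem N13145 : nd 13145 = n27312 := ndS (p := 11162) (l := 8) rfl N11162 D27312
theorem N13146 : nd 13146 = n27313 := ndS (p := 11164) (l := 8) rfl N11164 D27313
theorem N13147 : nd 13147 = n27314 := ndS (p := 11165) (l := 9) rfl N11165 D27314
theorem N13148 : nd 13148 = n27315 := ndS (p := 11167) (l := 5) rfl N11167 D27315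
theorem N13149 : nd 13149 = n27316 := ndS (p := 11167) (l := 9) rfl N11167 D27316
theorem N13150 : nd 13150 = n27317 := ndS (p := 11169) (l := 7) rfl N11169 D27317
theorem N13151 : nd 13151 = n27318 := ndS (p := 11171) (l := 6) rfl N11171 D27318
theorem N13152 : nd 13152 = n27319 := ndS (p := 11172) (l := 6) rfl N11172 D27319
theorem N13153 : nd 13153 = n27320 := ndS (p := 11173) (l := 8) rfl N11173 D27320
theorem N13154 : nd 13154 = n27321 := ndS (p := 11175) (l := 5) rfl N11175 D27321
theorem N13155 : nd 13155 = n27322 := ndS (p := 11175) (l := 9) rfl N11175 D27322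
theorem N13156 : nd 13156 = n27323 := ndS (p := 11177) (l := 7) rfl N11177 D27323
theorem N13157 : nd 13157 = n27324 := ndS (p := 11177) (l := 8) rfl N11177 D27324
theorem N13158 : nd 13158 = n27325 := ndS (p := 11179) (l := 6) rfl N11179 D27325
theorem N13159 : nd 13159 = n27326 := ndS (p := 11179) (l := 8) rfl N11179 D27326
theorem N13160 : nd 13160 = n27327 := ndS (p := 11180) (l := 9) rfl N11180 D27327
theorem N13161 : nd 13161 = n27328 := ndS (p := 11181) (l := 8) rfl N11181 D27328
theorem N13162 : nd 13162 = n27329 := ndS (p := 11182) (l := 9) rfl N11182 D27329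
theorem N13163 : nd 13163 = n27330 := ndS (p := 11184) (l := 5) rfl N11184 D27330
theorem N13164 : nd 13164 = n27331 := ndS (p := 11184) (l := 9) rfl N11184 D27331
theorem N13165 : nd 13165 = n27332 := ndS (p := 11186) (l := 4) rfl N11186 D27332
theorem N13166 : nd 13166 = n27333 := ndS (p := 11186) (l := 9) rfl N11186 D27333
theorem N13167 : nd 13167 = n27344 := ndS (p := 11191) (l := 6) rfl N11191 D27344
theorem N13168 : nd 13168 = n27351 := ndS (p := 11193) (l := 7) rfl N11193 D27351
theorem N13169 : nd 13169 = n27352 := ndS (p := 11194) (l := 6) rfl N11194 D27352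
theorem N13170 : nd 13170 = n27354 := ndS (p := 11195) (l := 8) rfl N11195 D27354
theorem N13171 : nd 13171 = n27356 := ndS (p := 11197) (l := 6) rfl N11197 D27356
theorem N13172 : nd 13172 = n27357 := ndS (p := 11198) (l := 7) rfl N11198 D27357
theorem N13173 : nd 13173 = n27358 := ndS (p := 11199) (l := 7) rfl N11199 D27358
theorem N13174 : nd 13174 = n27359 := ndS (p := 11201) (l := 7) rfl N11201 D27359
theorem N13175 : nd 13175 = n27360 := ndS (p := 11202) (l := 6) rfl N11202 D27360
theorem N13176 : nd 13176 = n27361 := ndS (p := 11202) (l := 8) rfl N11202 D27361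
theorem N13177 : nd 13177 = n27362 := ndS (p := 11204) (l := 8) rfl N11204 D27362
theorem N13178 : nd 13178 = n27364 := ndS (p := 11206) (l := 7) rfl N11206 D27364
theorem N13179 : nd 13179 = n27365 := ndS (p := 11208) (l := 6) rfl N11208 D27365
theorem N13180 : nd 13180 = n27366 := ndS (p := 11209) (l := 6) rfl N11209 D27366
theorem N13181 : nd 13181 = n27367 := ndS (p := 11210) (l := 8) rfl N11210 D27367
theorem N13182 : nd 13182 = n27368 := ndS (p := 11212) (l := 9) rfl N11212 D27368
theorem N13183 : nd 13183 = n27369 := ndS (p := 11214) (l := 5) rfl N11214 D27369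
theorem N13184 : nd 13184 = n27370 := ndS (p := 11214) (l := 7) rfl N11214 D27370
theorem N13185 : nd 13185 = n27371 := ndS (p := 11215) (l := 7) rfl N11215 D27371
theorem N13186 : nd 13186 = n27372 := ndS (p := 11217) (l := 6) rfl N11217 D27372
theorem N13187 : nd 13187 = n27373 := ndS (p := 11218) (l := 6) rfl N11218 D27373
theorem N13188 : nd 13188 = n27374 := ndS (p := 11219) (l := 8) rfl N11219 D27374
theorem N13189 : nd 13189 = n27375 := ndS (p := 11221) (l := 5) rfl N11221 D27375
theorem N13190 : nd 13190 = n27376 := ndS (p := 11222) (l := 4) rfl N11222 D27376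
theorem N13191 : nd 13191 = n27377 := ndS (p := 11222) (l := 7) rfl N11222 D27377
theorem N13192 : nd 13192 = n27378 := ndS (p := 11224) (l := 7) rfl N11224 D27378
theorem N13193 : nd 13193 = n27379 := ndS (p := 11225) (l := 6) rfl N11225 D27379
theorem N13194 : nd 13194 = n27380 := ndS (p := 11226) (l := 6) rfl N11226 D27380
theorem N13195 : nd 13195 = n27381 := ndS (p := 11228) (l := 5) rfl N11228 D27381
theorem N13196 : nd 13196 = n27386 := ndS (p := 11230) (l := 7) rfl N11230 D27386
theorem N13197 : nd 13197 = n27395 := ndS (p := 11232) (l := 6) rfl N11232 D27395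
theorem N13198 : nd 13198 = n27441 := ndS (p := 11233) (l := 6) rfl N11233 D27441
theorem N13199 : nd 13199 = n27451 := ndS (p := 11234) (l := 6) rfl N11234 D27451
theorem N13200 : nd 13200 = n27461 := ndS (p := 11235) (l := 6) rfl N11235 D27461
theorem N13201 : nd 13201 = n27462 := ndS (p := 11235) (l := 8) rfl N11235 D27462
theorem N13202 : nd 13202 = n27529 := ndS (p := 11238) (l := 7) rfl N11238 D27529
theorem N13203 : nd 13203 = n27531 := ndS (p := 11240) (l := 6) rfl N11240 D27531
theorem N13204 : nd 13204 = n27532 := ndS (p := 11240) (l := 8) rfl N11240 D27532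
theorem N13205 : nd 13205 = n27540 := ndS (p := 11243) (l := 7) rfl N11243 D27540
theorem N13206 : nd 13206 = n27542 := ndS (p := 11244) (l := 6) rfl N11244 D27542
theorem N13207 : nd 13207 = n27545 := ndS (p := 11245) (l := 8) rfl N11245 D27545
theorem N13208 : nd 13208 = n27546 := ndS (p := 11246) (l := 9) rfl N11246 D27546
theorem N13209 : nd 13209 = n27554 := ndS (p := 11249) (l := 6) rfl N11249 D27554
theorem N13210 : nd 13210 = n27555 := ndS (p := 11249) (l := 8) rfl N11249 D27555
theorem N13211 : nd 13211 = n27562 := ndS (p := 11251) (l := 7) rfl N11251 D27562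
theorem N13212 : nd 13212 = n27564 := ndS (p := 11253) (l := 6) rfl N11253 D27564
theorem N13213 : nd 13213 = n27573 := ndS (p := 11254) (l := 7) rfl N11254 D27573
theorem N13214 : nd 13214 = n27575 := ndS (p := 11255) (l := 6) rfl N11255 D27575
theorem N13215 : nd 13215 = n27578 := ndS (p := 11256) (l := 8) rfl N11256 D27578
theorem N13216 : nd 13216 = n27579 := ndS (p := 11257) (l := 9) rfl N11257 D27579
theorem N13217 : nd 13217 = n27584 := ndS (p := 11260) (l := 7) rfl N11260 D27584
theorem N13218 : nd 13218 = n27585 := ndS (p := 11261) (l := 6) rfl N11261 D27585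
theorem N13219 : nd 13219 = n27586 := ndS (p := 11261) (l := 8) rfl N11261 D27586
theorem N13220 : nd 13220 = n27587 := ndS (p := 11263) (l := 8) rfl N11263 D27587
theorem N13221 : nd 13221 = n27588 := ndS (p := 11264) (l := 9) rfl N11264 D27588
theorem N13222 : nd 13222 = n27597 := ndS (p := 11266) (l := 6) rfl N11266 D27597
theorem N13223 : nd 13223 = n27603 := ndS (p := 11268) (l := 9) rfl N11268 D27603
theorem N13224 : nd 13224 = n27674 := ndS (p := 11271) (l := 7) rfl N11271 D27674
theorem N13225 : nd 13225 = n27675 := ndS (p := 11273) (l := 7) rfl N11273 D27675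
theorem N13226 : nd 13226 = n27676 := ndS (p := 11274) (l := 6) rfl N11274 D27676
theorem N13227 : nd 13227 = n27677 := ndS (p := 11274) (l := 8) rfl N11274 D27677
theorem N13228 : nd 13228 = n27678 := ndS (p := 11276) (l := 8) rfl N11276 D27678
theorem N13229 : nd 13229 = n27679 := ndS (p := 11277) (l := 9) rfl N11277 D27679
theorem N13230 : nd 13230 = n27685 := ndS (p := 11279) (l := 7) rfl N11279 D27685
theorem N13231 : nd 13231 = n27686 := ndS (p := 11280) (l := 6) rfl N11280 D27686
theorem N13232 : nd 13232 = n27688 := ndS (p := 11281) (l := 6) rfl N11281 D27688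
theorem N13233 : nd 13233 = n27689 := ndS (p := 11281) (l := 8) rfl N11281 D27689
theorem N13234 : nd 13234 = n27690 := ndS (p := 11283) (l := 8) rfl N11283 D27690
theorem N13235 : nd 13235 = n27691 := ndS (p := 11284) (l := 9) rfl N11284 D27691
theorem N13236 : nd 13236 = n27693 := ndS (p := 11286) (l := 9) rfl N11286 D27693
theorem N13237 : nd 13237 = n27702 := ndS (p := 11289) (l := 6) rfl N11289 D27702
theorem N13238 : nd 13238 = n27718 := ndS (p := 11291) (l := 8) rfl N11291 D27718
theorem N13239 : nd 13239 = n27742 := ndS (p := 11293) (l := 6) rfl N11293 D27742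
theorem N13240 : nd 13240 = n27743 := ndS (p := 11294) (l := 6) rfl N11294 D27743
theorem N13241 : nd 13241 = n27744 := ndS (p := 11295) (l := 8) rfl N11295 D27744
theorem N13242 : nd 13242 = n27745 := ndS (p := 11296) (l := 9) rfl N11296 D27745
theorem N13243 : nd 13243 = n27746 := ndS (p := 11298) (l := 5) rfl N11298 D27746
theorem N13244 : nd 13244 = n27747 := ndS (p := 11298) (l := 9) rfl N11298 D27747
theorem N13245 : nd 13245 = n27756 := ndS (p := 11300) (l := 6) rfl N11300 D27756
theorem N13246 : nd 13246 = n27760 := ndS (p := 11302) (l := 5) rfl N11302 D27760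
theorem N13247 : nd 13247 = n27761 := ndS (p := 11302) (l := 8) rfl N11302 D27761
theorem N13248 : nd 13248 = n27762 := ndS (p := 11303) (l := 9) rfl N11303 D27762
theorem N13249 : nd 13249 = n27764 := ndS (p := 11305) (l := 9) rfl N11305 D27764
theorem N13250 : nd 13250 = n27812 := ndS (p := 11308) (l := 7) rfl N11308 D27812
theorem N13251 : nd 13251 = n27814 := ndS (p := 11310) (l := 6) rfl N11310 D27814
theorem N13252 : nd 13252 = n27815 := ndS (p := 11312) (l := 5) rfl N11312 D27815
theorem N13253 : nd 13253 = n27818 := ndS (p := 11313) (l := 7) rfl N11313 D27818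
theorem N13254 : nd 13254 = n27823 := ndS (p := 11315) (l := 6) rfl N11315 D27823
theorem N13255 : nd 13255 = n27858 := ndS (p := 11317) (l := 5) rfl N11317 D27858
theorem N13256 : nd 13256 = n27863 := ndS (p := 11319) (l := 8) rfl N11319 D27863
theorem N13257 : nd 13257 = n27892 := ndS (p := 11320) (l := 7) rfl N11320 D27892
theorem N13258 : nd 13258 = n27961 := ndS (p := 11323) (l := 6) rfl N11323 D27961
theorem N13259 : nd 13259 = n27962 := ndS (p := 11323) (l := 8) rfl N11323 D27962
theorem N13260 : nd 13260 = n27982 := ndS (p := 11326) (l := 8) rfl N11326 D27982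
theorem N13261 : nd 13261 = n28055 := ndS (p := 11328) (l := 6) rfl N11328 D28055
theorem N13262 : nd 13262 = n28058 := ndS (p := 11329) (l := 8) rfl N11329 D28058
theorem N13263 : nd 13263 = n28066 := ndS (p := 11331) (l := 6) rfl N11331 D28066
theorem N13264 : nd 13264 = n28072 := ndS (p := 11333) (l := 9) rfl N11333 D28072
theorem N13265 : nd 13265 = n28078 := ndS (p := 11335) (l := 8) rfl N11335 D28078
theorem N13266 : nd 13266 = n28080 := ndS (p := 11337) (l := 5) rfl N11337 D28080
theorem N13267 : nd 13267 = n28081 := ndS (p := 11337) (l := 9) rfl N11337 D28081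
theorem N13268 : nd 13268 = n28155 := ndS (p := 11340) (l := 5) rfl N11340 D28155
theorem N13269 : nd 13269 = n28169 := ndS (p := 11343) (l := 5) rfl N11343 D28169
theorem N13270 : nd 13270 = n28170 := ndS (p := 11343) (l := 9) rfl N11343 D28170
theorem N13271 : nd 13271 = n28171 := ndS (p := 11345) (l := 4) rfl N11345 D28171
theorem N13272 : nd 13272 = n28172 := ndS (p := 11345) (l := 9) rfl N11345 D28172
theorem N13273 : nd 13273 = n28185 := ndS (p := 11348) (l := 5) rfl N11348 D28185
theorem N13274 : nd 13274 = n28186 := ndS (p := 11348) (l := 9) rfl N11348 D28186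
theorem N13275 : nd 13275 = n29202 := ndS (p := 11352) (l := 7) rfl N11352 D29202
theorem N13276 : nd 13276 = n29203 := ndS (p := 11354) (l := 7) rfl N11354 D29203
theorem N13277 : nd 13277 = n29204 := ndS (p := 11356) (l := 6) rfl N11356 D29204
theorem N13278 : nd 13278 = n29205 := ndS (p := 11356) (l := 8) rfl N11356 D29205
theorem N13279 : nd 13279 = n29206 := ndS (p := 11358) (l := 6) rfl N11358 D29206
theorem N13280 : nd 13280 = n29207 := ndS (p := 11359) (l := 8) rfl N11359 D29207
theorem N13281 : nd 13281 = n29208 := ndS (p := 11361) (l := 5) rfl N11361 D29208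
theorem N13282 : nd 13282 = n29209 := ndS (p := 11361) (l := 9) rfl N11361 D29209
theorem N13283 : nd 13283 = n29210 := ndS (p := 11363) (l := 4) rfl N11363 D29210
theorem N13284 : nd 13284 = n29211 := ndS (p := 11363) (l := 7) rfl N11363 D29211
theorem N13285 : nd 13285 = n29212 := ndS (p := 11363) (l := 8) rfl N11363 D29212
theorem N13286 : nd 13286 = n29213 := ndS (p := 11365) (l := 6) rfl N11365 D29213
theorem N13287 : nd 13287 = n29214 := ndS (p := 11365) (l := 8) rfl N11365 D29214
theorem N13288 : nd 13288 = n29215 := ndS (p := 11366) (l := 9) rfl N11366 D29215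
theorem N13289 : nd 13289 = n29216 := ndS (p := 11367) (l := 7) rfl N11367 D29216
theorem N13290 : nd 13290 = n29217 := ndS (p := 11369) (l := 7) rfl N11369 D29217
theorem N13291 : nd 13291 = n29218 := ndS (p := 11370) (l := 6) rfl N11370 D29218
theorem N13292 : nd 13292 = n29219 := ndS (p := 11370) (l := 8) rfl N11370 D29219
theorem N13293 : nd 13293 = n29220 := ndS (p := 11372) (l := 8) rfl N11372 D29220
theorem N13294 : nd 13294 = n29221 := ndS (p := 11373) (l := 9) rfl N11373 D29221
theorem N13295 : nd 13295 = n29222 := ndS (p := 11375) (l := 6) rfl N11375 D29222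
theorem N13296 : nd 13296 = n29223 := ndS (p := 11376) (l := 8) rfl N11376 D29223
theorem N13297 : nd 13297 = n29224 := ndS (p := 11378) (l := 5) rfl N11378 D29224
theorem N13298 : nd 13298 = n29225 := ndS (p := 11378) (l := 9) rfl N11378 D29225
theorem N13299 : nd 13299 = n29226 := ndS (p := 11380) (l := 4) rfl N11380 D29226
theorem N13300 : nd 13300 = n29227 := ndS (p := 11380) (l := 9) rfl N11380 D29227
theorem N13301 : nd 13301 = n29228 := ndS (p := 11385) (l := 8) rfl N11385 D29228
theorem N13302 : nd 13302 = n29229 := ndS (p := 11387) (l := 6) rfl N11387 D29229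
theorem N13303 : nd 13303 = n29230 := ndS (p := 11388) (l := 5) rfl N11388 D29230
theorem N13304 : nd 13304 = n29231 := ndS (p := 11388) (l := 7) rfl N11388 D29231
theorem N13305 : nd 13305 = n29232 := ndS (p := 11389) (l := 7) rfl N11389 D29232
theorem N13306 : nd 13306 = n29233 := ndS (p := 11389) (l := 8) rfl N11389 D29233
theorem N13307 : nd 13307 = n29234 := ndS (p := 11391) (l := 7) rfl N11391 D29234
theorem N13308 : nd 13308 = n29235 := ndS (p := 11392) (l := 4) rfl N11392 D29235
theorem N13309 : nd 13309 = n29236 := ndS (p := 11392) (l := 7) rfl N11392 D29236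
theorem N13310 : nd 13310 = n29237 := ndS (p := 11392) (l := 8) rfl N11392 D29237
theorem N13311 : nd 13311 = n29238 := ndS (p := 11394) (l := 8) rfl N11394 D29238
theorem N13312 : nd 13312 = n29239 := ndS (p := 11395) (l := 9) rfl N11395 D29239
theorem N13313 : nd 13313 = n29240 := ndS (p := 11396) (l := 7) rfl N11396 D29240
theorem N13314 : nd 13314 = n29241 := ndS (p := 11396) (l := 8) rfl N11396 D29241
theorem N13315 : nd 13315 = n29242 := ndS (p := 11397) (l := 8) rfl N11397 D29242
theorem N13316 : nd 13316 = n29243 := ndS (p := 11398) (l := 9) rfl N11398 D29243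
theorem N13317 : nd 13317 = n29244 := ndS (p := 11399) (l := 8) rfl N11399 D29244
theorem N13318 : nd 13318 = n29245 := ndS (p := 11400) (l := 9) rfl N11400 D29245
theorem N13319 : nd 13319 = n29246 := ndS (p := 11402) (l := 5) rfl N11402 D29246
theorem N13320 : nd 13320 = n29247 := ndS (p := 11402) (l := 7) rfl N11402 D29247
theorem N13321 : nd 13321 = n29248 := ndS (p := 11403) (l := 4) rfl N11403 D29248
theorem N13322 : nd 13322 = n29249 := ndS (p := 11403) (l := 7) rfl N11403 D29249
theorem N13323 : nd 13323 = n29250 := ndS (p := 11405) (l := 6) rfl N11405 D29250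
theorem N13324 : nd 13324 = n29251 := ndS (p := 11405) (l := 8) rfl N11405 D29251
theorem N13325 : nd 13325 = n29252 := ndS (p := 11406) (l := 9) rfl N11406 D29252
theorem N13326 : nd 13326 = n29253 := ndS (p := 11408) (l := 9) rfl N11408 D29253
theorem N13327 : nd 13327 = n29254 := ndS (p := 11410) (l := 5) rfl N11410 D29254
theorem N13328 : nd 13328 = n29255 := ndS (p := 11413) (l := 6) rfl N11413 D29255
theorem N13329 : nd 13329 = n29256 := ndS (p := 11414) (l := 6) rfl N11414 D29256
theorem N13330 : nd 13330 = n29257 := ndS (p := 11415) (l := 5) rfl N11415 D29257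
theorem N13331 : nd 13331 = n29258 := ndS (p := 11416) (l := 4) rfl N11416 D29258
theorem N13332 : nd 13332 = n29259 := ndS (p := 11416) (l := 7) rfl N11416 D29259
theorem N13333 : nd 13333 = n29260 := ndS (p := 11418) (l := 7) rfl N11418 D29260
theorem N13334 : nd 13334 = n29261 := ndS (p := 11419) (l := 6) rfl N11419 D29261
theorem N13335 : nd 13335 = n29262 := ndS (p := 11422) (l := 2) rfl N11422 D29262
theorem N13336 : nd 13336 = n29263 := ndS (p := 11422) (l := 6) rfl N11422 D29263
theorem N13337 : nd 13337 = n29264 := ndS (p := 11423) (l := 5) rfl N11423 D29264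
theorem N13338 : nd 13338 = n29265 := ndS (p := 11423) (l := 7) rfl N11423 D29265
theorem N13339 : nd 13339 = n29266 := ndS (p := 11425) (l := 1) rfl N11425 D29266
theorem N13340 : nd 13340 = n29267 := ndS (p := 11425) (l := 6) rfl N11425 D29267
theorem N13341 : nd 13341 = n29268 := ndS (p := 11426) (l := 5) rfl N11426 D29268
theorem N13342 : nd 13342 = n29269 := ndS (p := 11426) (l := 7) rfl N11426 D29269
theorem N13343 : nd 13343 = n29270 := ndS (p := 11427) (l := 7) rfl N11427 D29270
theorem N13344 : nd 13344 = n29271 := ndS (p := 11427) (l := 8) rfl N11427 D29271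
theorem N13345 : nd 13345 = n29272 := ndS (p := 11429) (l := 7) rfl N11429 D29272
theorem N13346 : nd 13346 = n29273 := ndS (p := 11431) (l := 6) rfl N11431 D29273
theorem N13347 : nd 13347 = n29274 := ndS (p := 11431) (l := 8) rfl N11431 D29274
theorem N13348 : nd 13348 = n29275 := ndS (p := 11432) (l := 9) rfl N11432 D29275
theorem N13349 : nd 13349 = n29276 := ndS (p := 11433) (l := 6) rfl N11433 D29276
theorem N13350 : nd 13350 = n29277 := ndS (p := 11434) (l := 5) rfl N11434 D29277
theorem N13351 : nd 13351 = n29278 := ndS (p := 11434) (l := 7) rfl N11434 D29278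
theorem N13352 : nd 13352 = n29279 := ndS (p := 11435) (l := 7) rfl N11435 D29279
theorem N13353 : nd 13353 = n29280 := ndS (p := 11435) (l := 8) rfl N11435 D29280
theorem N13354 : nd 13354 = n29281 := ndS (p := 11437) (l := 5) rfl N11437 D29281
theorem N13355 : nd 13355 = n29282 := ndS (p := 11437) (l := 7) rfl N11437 D29282
theorem N13356 : nd 13356 = n29283 := ndS (p := 11438) (l := 4) rfl N11438 D29283
theorem N13357 : nd 13357 = n29284 := ndS (p := 11438) (l := 7) rfl N11438 D29284
theorem N13358 : nd 13358 = n29285 := ndS (p := 11438) (l := 8) rfl N11438 D29285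
theorem N13359 : nd 13359 = n29286 := ndS (p := 11440) (l := 6) rfl N11440 D29286
theorem N13360 : nd 13360 = n29287 := ndS (p := 11440) (l := 8) rfl N11440 D29287
theorem N13361 : nd 13361 = n29288 := ndS (p := 11441) (l := 9) rfl N11441 D29288
theorem N13362 : nd 13362 = n29289 := ndS (p := 11442) (l := 7) rfl N11442 D29289
theorem N13363 : nd 13363 = n29290 := ndS (p := 11444) (l := 7) rfl N11444 D29290
theorem N13364 : nd 13364 = n29291 := ndS (p := 11444) (l := 8) rfl N11444 D29291
theorem N13365 : nd 13365 = n29292 := ndS (p := 11445) (l := 6) rfl N11445 D29292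
theorem N13366 : nd 13366 = n29293 := ndS (p := 11445) (l := 8) rfl N11445 D29293
theorem N13367 : nd 13367 = n29294 := ndS (p := 11446) (l := 9) rfl N11446 D29294
theorem N13368 : nd 13368 = n29295 := ndS (p := 11447) (l := 8) rfl N11447 D29295
theorem N13369 : nd 13369 = n29296 := ndS (p := 11448) (l := 9) rfl N11448 D29296
theorem N13370 : nd 13370 = n29297 := ndS (p := 11450) (l := 2) rfl N11450 D29297
theorem N13371 : nd 13371 = n29298 := ndS (p := 11450) (l := 6) rfl N11450 D29298
theorem N13372 : nd 13372 = n29299 := ndS (p := 11451) (l := 5) rfl N11451 D29299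
theorem N13373 : nd 13373 = n29300 := ndS (p := 11451) (l := 7) rfl N11451 D29300
theorem N13374 : nd 13374 = n29301 := ndS (p := 11453) (l := 6) rfl N11453 D29301
theorem N13375 : nd 13375 = n29302 := ndS (p := 11454) (l := 5) rfl N11454 D29302
theorem N13376 : nd 13376 = n29303 := ndS (p := 11454) (l := 7) rfl N11454 D29303
theorem N13377 : nd 13377 = n29304 := ndS (p := 11455) (l := 7) rfl N11455 D29304
theorem N13378 : nd 13378 = n29305 := ndS (p := 11455) (l := 8) rfl N11455 D29305
theorem N13379 : nd 13379 = n29306 := ndS (p := 11457) (l := 5) rfl N11457 D29306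
theorem N13380 : nd 13380 = n29307 := ndS (p := 11457) (l := 7) rfl N11457 D29307
theorem N13381 : nd 13381 = n29308 := ndS (p := 11458) (l := 4) rfl N11458 D29308
theorem N13382 : nd 13382 = n29309 := ndS (p := 11458) (l := 7) rfl N11458 D29309
theorem N13383 : nd 13383 = n29310 := ndS (p := 11458) (l := 8) rfl N11458 D29310
theorem N13384 : nd 13384 = n29311 := ndS (p := 11460) (l := 6) rfl N11460 D29311
theorem N13385 : nd 13385 = n29312 := ndS (p := 11460) (l := 8) rfl N11460 D29312
theorem N13386 : nd 13386 = n29313 := ndS (p := 11461) (l := 9) rfl N11461 D29313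
theorem N13387 : nd 13387 = n29314 := ndS (p := 11462) (l := 4) rfl N11462 D29314
theorem N13388 : nd 13388 = n29315 := ndS (p := 11462) (l := 7) rfl N11462 D29315
theorem N13389 : nd 13389 = n29316 := ndS (p := 11462) (l := 8) rfl N11462 D29316
theorem N13390 : nd 13390 = n29317 := ndS (p := 11464) (l := 7) rfl N11464 D29317
theorem N13391 : nd 13391 = n29318 := ndS (p := 11464) (l := 8) rfl N11464 D29318
theorem N13392 : nd 13392 = n29319 := ndS (p := 11465) (l := 6) rfl N11465 D29319
theorem N13393 : nd 13393 = n29320 := ndS (p := 11465) (l := 8) rfl N11465 D29320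
theorem N13394 : nd 13394 = n29321 := ndS (p := 11466) (l := 9) rfl N11466 D29321
theorem N13395 : nd 13395 = n29322 := ndS (p := 11467) (l := 8) rfl N11467 D29322
theorem N13396 : nd 13396 = n29323 := ndS (p := 11468) (l := 9) rfl N11468 D29323
theorem N13397 : nd 13397 = n29324 := ndS (p := 11470) (l := 6) rfl N11470 D29324
theorem N13398 : nd 13398 = n29325 := ndS (p := 11470) (l := 8) rfl N11470 D29325
theorem N13399 : nd 13399 = n29326 := ndS (p := 11471) (l := 5) rfl N11471 D29326
theorem N13400 : nd 13400 = n29327 := ndS (p := 11471) (l := 9) rfl N11471 D29327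
theorem N13401 : nd 13401 = n29328 := ndS (p := 11472) (l := 8) rfl N11472 D29328
theorem N13402 : nd 13402 = n29329 := ndS (p := 11473) (l := 9) rfl N11473 D29329
theorem N13403 : nd 13403 = n29330 := ndS (p := 11475) (l := 5) rfl N11475 D29330
theorem N13404 : nd 13404 = n29331 := ndS (p := 11475) (l := 9) rfl N11475 D29331
theorem N13405 : nd 13405 = n29332 := ndS (p := 11477) (l := 5) rfl N11477 D29332
theorem N13406 : nd 13406 = n29333 := ndS (p := 11477) (l := 7) rfl N11477 D29333
theorem N13407 : nd 13407 = n29334 := ndS (p := 11478) (l := 4) rfl N11478 D29334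
theorem N13408 : nd 13408 = n29335 := ndS (p := 11478) (l := 7) rfl N11478 D29335
theorem N13409 : nd 13409 = n29336 := ndS (p := 11478) (l := 8) rfl N11478 D29336
theorem N13410 : nd 13410 = n29337 := ndS (p := 11480) (l := 6) rfl N11480 D29337
theorem N13411 : nd 13411 = n29338 := ndS (p := 11480) (l := 8) rfl N11480 D29338
theorem N13412 : nd 13412 = n29339 := ndS (p := 11481) (l := 9) rfl N11481 D29339
theorem N13413 : nd 13413 = n29340 := ndS (p := 11482) (l := 4) rfl N11482 D29340
theorem N13414 : nd 13414 = n29341 := ndS (p := 11482) (l := 7) rfl N11482 D29341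
theorem N13415 : nd 13415 = n29342 := ndS (p := 11482) (l := 8) rfl N11482 D29342
theorem N13416 : nd 13416 = n29343 := ndS (p := 11484) (l := 7) rfl N11484 D29343
theorem N13417 : nd 13417 = n29344 := ndS (p := 11484) (l := 8) rfl N11484 D29344
theorem N13418 : nd 13418 = n29345 := ndS (p := 11485) (l := 6) rfl N11485 D29345
theorem N13419 : nd 13419 = n29346 := ndS (p := 11485) (l := 8) rfl N11485 D29346
theorem N13420 : nd 13420 = n29347 := ndS (p := 11487) (l := 8) rfl N11487 D29347
theorem N13421 : nd 13421 = n29348 := ndS (p := 11488) (l := 9) rfl N11488 D29348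
theorem N13422 : nd 13422 = n29349 := ndS (p := 11490) (l := 6) rfl N11490 D29349
theorem N13423 : nd 13423 = n29350 := ndS (p := 11490) (l := 8) rfl N11490 D29350
theorem N13424 : nd 13424 = n29351 := ndS (p := 11492) (l := 8) rfl N11492 D29351
theorem N13425 : nd 13425 = n29352 := ndS (p := 11494) (l := 5) rfl N11494 D29352
theorem N13426 : nd 13426 = n29353 := ndS (p := 11494) (l := 9) rfl N11494 D29353
theorem N13427 : nd 13427 = n29354 := ndS (p := 11496) (l := 4) rfl N11496 D29354
theorem N13428 : nd 13428 = n29355 := ndS (p := 11496) (l := 9) rfl N11496 D29355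
theorem N13429 : nd 13429 = n29356 := ndS (p := 11498) (l := 3) rfl N11498 D29356
theorem N13430 : nd 13430 = n29357 := ndS (p := 11498) (l := 7) rfl N11498 D29357
theorem N13431 : nd 13431 = n29358 := ndS (p := 11499) (l := 6) rfl N11499 D29358
theorem N13432 : nd 13432 = n29359 := ndS (p := 11500) (l := 6) rfl N11500 D29359
theorem N13433 : nd 13433 = n29360 := ndS (p := 11502) (l := 6) rfl N11502 D29360
theorem N13434 : nd 13434 = n29361 := ndS (p := 11503) (l := 5) rfl N11503 D29361
theorem N13435 : nd 13435 = n29362 := ndS (p := 11503) (l := 7) rfl N11503 D29362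
theorem N13436 : nd 13436 = n29363 := ndS (p := 11504) (l := 7) rfl N11504 D29363
theorem N13437 : nd 13437 = n29364 := ndS (p := 11504) (l := 8) rfl N11504 D29364
theorem N13438 : nd 13438 = n29365 := ndS (p := 11506) (l := 6) rfl N11506 D29365
theorem N13439 : nd 13439 = n29366 := ndS (p := 11506) (l := 8) rfl N11506 D29366
theorem N13440 : nd 13440 = n29367 := ndS (p := 11507) (l := 9) rfl N11507 D29367
theorem N13441 : nd 13441 = n29368 := ndS (p := 11508) (l := 6) rfl N11508 D29368
theorem N13442 : nd 13442 = n29369 := ndS (p := 11508) (l := 8) rfl N11508 D29369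
theorem N13443 : nd 13443 = n29370 := ndS (p := 11509) (l := 9) rfl N11509 D29370
theorem N13444 : nd 13444 = n29371 := ndS (p := 11510) (l := 8) rfl N11510 D29371
theorem N13445 : nd 13445 = n29372 := ndS (p := 11511) (l := 9) rfl N11511 D29372
theorem N13446 : nd 13446 = n29373 := ndS (p := 11513) (l := 7) rfl N11513 D29373
theorem N13447 : nd 13447 = n29374 := ndS (p := 11515) (l := 7) rfl N11515 D29374
theorem N13448 : nd 13448 = n29375 := ndS (p := 11516) (l := 6) rfl N11516 D29375
theorem N13449 : nd 13449 = n29376 := ndS (p := 11516) (l := 8) rfl N11516 D29376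
theorem N13450 : nd 13450 = n29377 := ndS (p := 11517) (l := 9) rfl N11517 D29377
theorem N13451 : nd 13451 = n29378 := ndS (p := 11518) (l := 8) rfl N11518 D29378
theorem N13452 : nd 13452 = n29379 := ndS (p := 11519) (l := 9) rfl N11519 D29379
theorem N13453 : nd 13453 = n29380 := ndS (p := 11521) (l := 6) rfl N11521 D29380
theorem N13454 : nd 13454 = n29381 := ndS (p := 11521) (l := 8) rfl N11521 D29381
theorem N13455 : nd 13455 = n29382 := ndS (p := 11522) (l := 9) rfl N11522 D29382
theorem N13456 : nd 13456 = n29383 := ndS (p := 11523) (l := 6) rfl N11523 D29383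
theorem N13457 : nd 13457 = n29384 := ndS (p := 11523) (l := 8) rfl N11523 D29384
theorem N13458 : nd 13458 = n29385 := ndS (p := 11524) (l := 9) rfl N11524 D29385
theorem N13459 : nd 13459 = n29386 := ndS (p := 11525) (l := 8) rfl N11525 D29386
theorem N13460 : nd 13460 = n29387 := ndS (p := 11526) (l := 9) rfl N11526 D29387
theorem N13461 : nd 13461 = n29388 := ndS (p := 11528) (l := 5) rfl N11528 D29388
theorem N13462 : nd 13462 = n29389 := ndS (p := 11528) (l := 9) rfl N11528 D29389
theorem N13463 : nd 13463 = n29390 := ndS (p := 11530) (l := 7) rfl N11530 D29390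
theorem N13464 : nd 13464 = n29391 := ndS (p := 11531) (l := 6) rfl N11531 D29391
theorem N13465 : nd 13465 = n29392 := ndS (p := 11532) (l := 6) rfl N11532 D29392
theorem N13466 : nd 13466 = n29393 := ndS (p := 11532) (l := 8) rfl N11532 D29393
theorem N13467 : nd 13467 = n29394 := ndS (p := 11533) (l := 9) rfl N11533 D29394
theorem N13468 : nd 13468 = n29395 := ndS (p := 11534) (l := 8) rfl N11534 D29395
theorem N13469 : nd 13469 = n29396 := ndS (p := 11535) (l := 9) rfl N11535 D29396
theorem N13470 : nd 13470 = n29397 := ndS (p := 11537) (l := 5) rfl N11537 D29397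
theorem N13471 : nd 13471 = n29398 := ndS (p := 11537) (l := 9) rfl N11537 D29398
theorem N13472 : nd 13472 = n29399 := ndS (p := 11539) (l := 5) rfl N11539 D29399
theorem N13473 : nd 13473 = n29400 := ndS (p := 11539) (l := 8) rfl N11539 D29400
theorem N13474 : nd 13474 = n29401 := ndS (p := 11540) (l := 5) rfl N11540 D29401
theorem N13475 : nd 13475 = n29402 := ndS (p := 11540) (l := 9) rfl N11540 D29402
theorem N13476 : nd 13476 = n29403 := ndS (p := 11541) (l := 9) rfl N11541 D29403
theorem N13477 : nd 13477 = n29404 := ndS (p := 11543) (l := 5) rfl N11543 D29404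
theorem N13478 : nd 13478 = n29405 := ndS (p := 11543) (l := 9) rfl N11543 D29405
theorem N13479 : nd 13479 = n29406 := ndS (p := 11545) (l := 4) rfl N11545 D29406
theorem N13480 : nd 13480 = n29407 := ndS (p := 11545) (l := 9) rfl N11545 D29407
theorem N13481 : nd 13481 = n29408 := ndS (p := 11548) (l := 4) rfl N11548 D29408
theorem N13482 : nd 13482 = n29409 := ndS (p := 11548) (l := 9) rfl N11548 D29409
theorem N13483 : nd 13483 = n29410 := ndS (p := 11550) (l := 3) rfl N11550 D29410
theorem N13484 : nd 13484 = n29411 := ndS (p := 11550) (l := 9) rfl N11550 D29411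
theorem N13485 : nd 13485 = n29412 := ndS (p := 11551) (l := 8) rfl N11551 D29412
theorem N13486 : nd 13486 = n29413 := ndS (p := 11552) (l := 2) rfl N11552 D29413
theorem N13487 : nd 13487 = n29414 := ndS (p := 11552) (l := 6) rfl N11552 D29414
theorem N13488 : nd 13488 = n29415 := ndS (p := 11553) (l := 5) rfl N11553 D29415
theorem N13489 : nd 13489 = n29416 := ndS (p := 11553) (l := 7) rfl N11553 D29416
theorem N13490 : nd 13490 = n29417 := ndS (p := 11555) (l := 1) rfl N11555 D29417
theorem N13491 : nd 13491 = n29418 := ndS (p := 11555) (l := 6) rfl N11555 D29418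
theorem N13492 : nd 13492 = n29419 := ndS (p := 11556) (l := 5) rfl N11556 D29419
theorem N13493 : nd 13493 = n29420 := ndS (p := 11556) (l := 7) rfl N11556 D29420
theorem N13494 : nd 13494 = n29421 := ndS (p := 11557) (l := 7) rfl N11557 D29421
theorem N13495 : nd 13495 = n29422 := ndS (p := 11557) (l := 8) rfl N11557 D29422
theorem N13496 : nd 13496 = n29423 := ndS (p := 11559) (l := 7) rfl N11559 D29423
theorem N13497 : nd 13497 = n29424 := ndS (p := 11561) (l := 6) rfl N11561 D29424
theorem N13498 : nd 13498 = n29425 := ndS (p := 11561) (l := 8) rfl N11561 D29425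
theorem N13499 : nd 13499 = n29426 := ndS (p := 11563) (l := 2) rfl N11563 D29426
theorem N13500 : nd 13500 = n29427 := ndS (p := 11563) (l := 6) rfl N11563 D29427
theorem N13501 : nd 13501 = n29428 := ndS (p := 11564) (l := 5) rfl N11564 D29428
theorem N13502 : nd 13502 = n29429 := ndS (p := 11564) (l := 7) rfl N11564 D29429
theorem N13503 : nd 13503 = n29430 := ndS (p := 11566) (l := 6) rfl N11566 D29430
theorem N13504 : nd 13504 = n29431 := ndS (p := 11567) (l := 5) rfl N11567 D29431
theorem N13505 : nd 13505 = n29432 := ndS (p := 11567) (l := 7) rfl N11567 D29432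
theorem N13506 : nd 13506 = n29433 := ndS (p := 11568) (l := 7) rfl N11568 D29433
theorem N13507 : nd 13507 = n29434 := ndS (p := 11568) (l := 8) rfl N11568 D29434
theorem N13508 : nd 13508 = n29435 := ndS (p := 11570) (l := 5) rfl N11570 D29435
theorem N13509 : nd 13509 = n29436 := ndS (p := 11570) (l := 7) rfl N11570 D29436
theorem N13510 : nd 13510 = n29437 := ndS (p := 11571) (l := 4) rfl N11571 D29437
theorem N13511 : nd 13511 = n29438 := ndS (p := 11571) (l := 7) rfl N11571 D29438
theorem N13512 : nd 13512 = n29439 := ndS (p := 11571) (l := 8) rfl N11571 D29439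
theorem N13513 : nd 13513 = n29440 := ndS (p := 11573) (l := 6) rfl N11573 D29440
theorem N13514 : nd 13514 = n29441 := ndS (p := 11573) (l := 8) rfl N11573 D29441
theorem N13515 : nd 13515 = n29442 := ndS (p := 11574) (l := 9) rfl N11574 D29442
theorem N13516 : nd 13516 = n29443 := ndS (p := 11575) (l := 7) rfl N11575 D29443
theorem N13517 : nd 13517 = n29444 := ndS (p := 11577) (l := 7) rfl N11577 D29444
theorem N13518 : nd 13518 = n29445 := ndS (p := 11577) (l := 8) rfl N11577 D29445
theorem N13519 : nd 13519 = n29446 := ndS (p := 11578) (l := 6) rfl N11578 D29446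
theorem N13520 : nd 13520 = n29447 := ndS (p := 11578) (l := 8) rfl N11578 D29447
theorem N13521 : nd 13521 = n29448 := ndS (p := 11580) (l := 8) rfl N11580 D29448
theorem N13522 : nd 13522 = n29449 := ndS (p := 11581) (l := 9) rfl N11581 D29449
theorem N13523 : nd 13523 = n29450 := ndS (p := 11583) (l := 2) rfl N11583 D29450
theorem N13524 : nd 13524 = n29451 := ndS (p := 11583) (l := 6) rfl N11583 D29451
theorem N13525 : nd 13525 = n29452 := ndS (p := 11584) (l := 5) rfl N11584 D29452
theorem N13526 : nd 13526 = n29453 := ndS (p := 11584) (l := 7) rfl N11584 D29453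
theorem N13527 : nd 13527 = n29454 := ndS (p := 11586) (l := 2) rfl N11586 D29454
theorem N13528 : nd 13528 = n29455 := ndS (p := 11586) (l := 6) rfl N11586 D29455
theorem N13529 : nd 13529 = n29456 := ndS (p := 11587) (l := 5) rfl N11587 D29456
theorem N13530 : nd 13530 = n29457 := ndS (p := 11587) (l := 7) rfl N11587 D29457
theorem N13531 : nd 13531 = n29458 := ndS (p := 11589) (l := 2) rfl N11589 D29458
theorem N13532 : nd 13532 = n29459 := ndS (p := 11589) (l := 6) rfl N11589 D29459
theorem N13533 : nd 13533 = n29460 := ndS (p := 11590) (l := 5) rfl N11590 D29460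
theorem N13534 : nd 13534 = n29461 := ndS (p := 11590) (l := 7) rfl N11590 D29461
theorem N13535 : nd 13535 = n29462 := ndS (p := 11592) (l := 1) rfl N11592 D29462
theorem N13536 : nd 13536 = n29463 := ndS (p := 11592) (l := 6) rfl N11592 D29463
theorem N13537 : nd 13537 = n29464 := ndS (p := 11593) (l := 5) rfl N11593 D29464
theorem N13538 : nd 13538 = n29465 := ndS (p := 11593) (l := 7) rfl N11593 D29465
theorem N13539 : nd 13539 = n29466 := ndS (p := 11594) (l := 7) rfl N11594 D29466
theorem N13540 : nd 13540 = n29467 := ndS (p := 11594) (l := 8) rfl N11594 D29467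
theorem N13541 : nd 13541 = n29468 := ndS (p := 11596) (l := 2) rfl N11596 D29468
theorem N13542 : nd 13542 = n29469 := ndS (p := 11596) (l := 6) rfl N11596 D29469
theorem N13543 : nd 13543 = n29470 := ndS (p := 11597) (l := 5) rfl N11597 D29470
theorem N13544 : nd 13544 = n29471 := ndS (p := 11597) (l := 7) rfl N11597 D29471
theorem N13545 : nd 13545 = n29472 := ndS (p := 11599) (l := 2) rfl N11599 D29472
theorem N13546 : nd 13546 = n29473 := ndS (p := 11599) (l := 6) rfl N11599 D29473
theorem N13547 : nd 13547 = n29474 := ndS (p := 11600) (l := 5) rfl N11600 D29474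
theorem N13548 : nd 13548 = n29475 := ndS (p := 11600) (l := 7) rfl N11600 D29475
theorem N13549 : nd 13549 = n29476 := ndS (p := 11602) (l := 1) rfl N11602 D29476
theorem N13550 : nd 13550 = n29477 := ndS (p := 11602) (l := 6) rfl N11602 D29477
theorem N13551 : nd 13551 = n29478 := ndS (p := 11603) (l := 5) rfl N11603 D29478
theorem N13552 : nd 13552 = n29479 := ndS (p := 11603) (l := 7) rfl N11603 D29479
theorem N13553 : nd 13553 = n29480 := ndS (p := 11604) (l := 7) rfl N11604 D29480
theorem N13554 : nd 13554 = n29481 := ndS (p := 11604) (l := 8) rfl N11604 D29481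
theorem N13555 : nd 13555 = n29482 := ndS (p := 11606) (l := 1) rfl N11606 D29482
theorem N13556 : nd 13556 = n29483 := ndS (p := 11606) (l := 6) rfl N11606 D29483
theorem N13557 : nd 13557 = n29484 := ndS (p := 11607) (l := 5) rfl N11607 D29484
theorem N13558 : nd 13558 = n29485 := ndS (p := 11607) (l := 7) rfl N11607 D29485
theorem N13559 : nd 13559 = n29486 := ndS (p := 11608) (l := 7) rfl N11608 D29486
theorem N13560 : nd 13560 = n29487 := ndS (p := 11608) (l := 8) rfl N11608 D29487
theorem N13561 : nd 13561 = n29488 := ndS (p := 11610) (l := 0) rfl N11610 D29488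
theorem N13562 : nd 13562 = n29489 := ndS (p := 11610) (l := 6) rfl N11610 D29489
theorem N13563 : nd 13563 = n29490 := ndS (p := 11611) (l := 5) rfl N11611 D29490
theorem N13564 : nd 13564 = n29491 := ndS (p := 11611) (l := 7) rfl N11611 D29491
theorem N13565 : nd 13565 = n29492 := ndS (p := 11612) (l := 4) rfl N11612 D29492
theorem N13566 : nd 13566 = n29493 := ndS (p := 11612) (l := 7) rfl N11612 D29493
theorem N13567 : nd 13567 = n29494 := ndS (p := 11612) (l := 8) rfl N11612 D29494
theorem N13568 : nd 13568 = n29495 := ndS (p := 11614) (l := 6) rfl N11614 D29495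
theorem N13569 : nd 13569 = n29496 := ndS (p := 11614) (l := 8) rfl N11614 D29496
theorem N13570 : nd 13570 = n29497 := ndS (p := 11615) (l := 9) rfl N11615 D29497
theorem N13571 : nd 13571 = n29498 := ndS (p := 11616) (l := 0) rfl N11616 D29498
theorem N13572 : nd 13572 = n29499 := ndS (p := 11617) (l := 7) rfl N11617 D29499
theorem N13573 : nd 13573 = n29500 := ndS (p := 11618) (l := 7) rfl N11618 D29500
theorem N13574 : nd 13574 = n29501 := ndS (p := 11618) (l := 8) rfl N11618 D29501
theorem N13575 : nd 13575 = n29502 := ndS (p := 11620) (l := 6) rfl N11620 D29502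
theorem N13576 : nd 13576 = n29503 := ndS (p := 11620) (l := 8) rfl N11620 D29503
theorem N13577 : nd 13577 = n29504 := ndS (p := 11621) (l := 9) rfl N11621 D29504
theorem N13578 : nd 13578 = n29505 := ndS (p := 11622) (l := 6) rfl N11622 D29505
theorem N13579 : nd 13579 = n29506 := ndS (p := 11623) (l := 5) rfl N11623 D29506
theorem N13580 : nd 13580 = n29507 := ndS (p := 11623) (l := 7) rfl N11623 D29507
theorem N13581 : nd 13581 = n29508 := ndS (p := 11624) (l := 4) rfl N11624 D29508
theorem N13582 : nd 13582 = n29509 := ndS (p := 11624) (l := 7) rfl N11624 D29509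
theorem N13583 : nd 13583 = n29510 := ndS (p := 11624) (l := 8) rfl N11624 D29510
theorem N13584 : nd 13584 = n29511 := ndS (p := 11626) (l := 7) rfl N11626 D29511
theorem N13585 : nd 13585 = n29512 := ndS (p := 11626) (l := 8) rfl N11626 D29512
theorem N13586 : nd 13586 = n29513 := ndS (p := 11627) (l := 6) rfl N11627 D29513
theorem N13587 : nd 13587 = n29514 := ndS (p := 11627) (l := 8) rfl N11627 D29514
theorem N13588 : nd 13588 = n29515 := ndS (p := 11628) (l := 9) rfl N11628 D29515
theorem N13589 : nd 13589 = n29516 := ndS (p := 11629) (l := 8) rfl N11629 D29516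
theorem N13590 : nd 13590 = n29517 := ndS (p := 11630) (l := 9) rfl N11630 D29517
theorem N13591 : nd 13591 = n29518 := ndS (p := 11632) (l := 6) rfl N11632 D29518
theorem N13592 : nd 13592 = n29519 := ndS (p := 11632) (l := 8) rfl N11632 D29519
theorem N13593 : nd 13593 = n29520 := ndS (p := 11633) (l := 5) rfl N11633 D29520
theorem N13594 : nd 13594 = n29521 := ndS (p := 11633) (l := 9) rfl N11633 D29521
theorem N13595 : nd 13595 = n29522 := ndS (p := 11634) (l := 8) rfl N11634 D29522
theorem N13596 : nd 13596 = n29523 := ndS (p := 11635) (l := 9) rfl N11635 D29523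
theorem N13597 : nd 13597 = n29524 := ndS (p := 11637) (l := 5) rfl N11637 D29524
theorem N13598 : nd 13598 = n29525 := ndS (p := 11637) (l := 9) rfl N11637 D29525
theorem N13599 : nd 13599 = n29526 := ndS (p := 11639) (l := 1) rfl N11639 D29526
theorem N13600 : nd 13600 = n29527 := ndS (p := 11639) (l := 6) rfl N11639 D29527
theorem N13601 : nd 13601 = n29528 := ndS (p := 11640) (l := 5) rfl N11640 D29528
theorem N13602 : nd 13602 = n29529 := ndS (p := 11640) (l := 7) rfl N11640 D29529
theorem N13603 : nd 13603 = n29530 := ndS (p := 11641) (l := 7) rfl N11641 D29530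
theorem N13604 : nd 13604 = n29531 := ndS (p := 11641) (l := 8) rfl N11641 D29531
theorem N13605 : nd 13605 = n29532 := ndS (p := 11643) (l := 1) rfl N11643 D29532
theorem N13606 : nd 13606 = n29533 := ndS (p := 11643) (l := 6) rfl N11643 D29533
theorem N13607 : nd 13607 = n29534 := ndS (p := 11644) (l := 5) rfl N11644 D29534
theorem N13608 : nd 13608 = n29535 := ndS (p := 11644) (l := 7) rfl N11644 D29535
theorem N13609 : nd 13609 = n29536 := ndS (p := 11645) (l := 7) rfl N11645 D29536
theorem N13610 : nd 13610 = n29537 := ndS (p := 11645) (l := 8) rfl N11645 D29537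
theorem N13611 : nd 13611 = n29538 := ndS (p := 11647) (l := 0) rfl N11647 D29538
theorem N13612 : nd 13612 = n29539 := ndS (p := 11647) (l := 6) rfl N11647 D29539
theorem N13613 : nd 13613 = n29540 := ndS (p := 11648) (l := 5) rfl N11648 D29540
theorem N13614 : nd 13614 = n29541 := ndS (p := 11648) (l := 7) rfl N11648 D29541
theorem N13615 : nd 13615 = n29542 := ndS (p := 11649) (l := 4) rfl N11649 D29542
theorem N13616 : nd 13616 = n29543 := ndS (p := 11649) (l := 7) rfl N11649 D29543
theorem N13617 : nd 13617 = n29544 := ndS (p := 11649) (l := 8) rfl N11649 D29544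
theorem N13618 : nd 13618 = n29545 := ndS (p := 11651) (l := 6) rfl N11651 D29545
theorem N13619 : nd 13619 = n29546 := ndS (p := 11651) (l := 8) rfl N11651 D29546
theorem N13620 : nd 13620 = n29547 := ndS (p := 11652) (l := 9) rfl N11652 D29547
theorem N13621 : nd 13621 = n29548 := ndS (p := 11653) (l := 1) rfl N11653 D29548
theorem N13622 : nd 13622 = n29549 := ndS (p := 11653) (l := 6) rfl N11653 D29549
theorem N13623 : nd 13623 = n29550 := ndS (p := 11654) (l := 5) rfl N11654 D29550
theorem N13624 : nd 13624 = n29551 := ndS (p := 11654) (l := 7) rfl N11654 D29551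
theorem N13625 : nd 13625 = n29552 := ndS (p := 11655) (l := 7) rfl N11655 D29552
theorem N13626 : nd 13626 = n29553 := ndS (p := 11655) (l := 8) rfl N11655 D29553
theorem N13627 : nd 13627 = n29554 := ndS (p := 11657) (l := 1) rfl N11657 D29554
theorem N13628 : nd 13628 = n29555 := ndS (p := 11657) (l := 6) rfl N11657 D29555
theorem N13629 : nd 13629 = n29556 := ndS (p := 11658) (l := 5) rfl N11658 D29556
theorem N13630 : nd 13630 = n29557 := ndS (p := 11658) (l := 7) rfl N11658 D29557
theorem N13631 : nd 13631 = n29558 := ndS (p := 11659) (l := 7) rfl N11659 D29558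
theorem N13632 : nd 13632 = n29559 := ndS (p := 11659) (l := 8) rfl N11659 D29559
theorem N13633 : nd 13633 = n29560 := ndS (p := 11661) (l := 0) rfl N11661 D29560
theorem N13634 : nd 13634 = n29561 := ndS (p := 11662) (l := 5) rfl N11662 D29561
theorem N13635 : nd 13635 = n29562 := ndS (p := 11662) (l := 7) rfl N11662 D29562
theorem N13636 : nd 13636 = n29563 := ndS (p := 11663) (l := 4) rfl N11663 D29563
theorem N13637 : nd 13637 = n29564 := ndS (p := 11663) (l := 7) rfl N11663 D29564
theorem N13638 : nd 13638 = n29565 := ndS (p := 11663) (l := 8) rfl N11663 D29565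
theorem N13639 : nd 13639 = n29566 := ndS (p := 11665) (l := 6) rfl N11665 D29566
theorem N13640 : nd 13640 = n29567 := ndS (p := 11665) (l := 8) rfl N11665 D29567
theorem N13641 : nd 13641 = n29568 := ndS (p := 11666) (l := 9) rfl N11666 D29568
theorem N13642 : nd 13642 = n29569 := ndS (p := 11667) (l := 0) rfl N11667 D29569
theorem N13643 : nd 13643 = n29570 := ndS (p := 11667) (l := 6) rfl N11667 D29570
theorem N13644 : nd 13644 = n29571 := ndS (p := 11668) (l := 5) rfl N11668 D29571
theorem N13645 : nd 13645 = n29572 := ndS (p := 11668) (l := 7) rfl N11668 D29572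
theorem N13646 : nd 13646 = n29573 := ndS (p := 11669) (l := 4) rfl N11669 D29573
theorem N13647 : nd 13647 = n29574 := ndS (p := 11669) (l := 7) rfl N11669 D29574
theorem N13648 : nd 13648 = n29575 := ndS (p := 11669) (l := 8) rfl N11669 D29575
theorem N13649 : nd 13649 = n29576 := ndS (p := 11671) (l := 6) rfl N11671 D29576
theorem N13650 : nd 13650 = n29577 := ndS (p := 11671) (l := 8) rfl N11671 D29577
theorem N13651 : nd 13651 = n29578 := ndS (p := 11672) (l := 9) rfl N11672 D29578
theorem N13652 : nd 13652 = n29579 := ndS (p := 11673) (l := 6) rfl N11673 D29579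
theorem N13653 : nd 13653 = n29580 := ndS (p := 11674) (l := 5) rfl N11674 D29580
theorem N13654 : nd 13654 = n29581 := ndS (p := 11674) (l := 7) rfl N11674 D29581
theorem N13655 : nd 13655 = n29582 := ndS (p := 11675) (l := 4) rfl N11675 D29582
theorem N13656 : nd 13656 = n29583 := ndS (p := 11675) (l := 7) rfl N11675 D29583
theorem N13657 : nd 13657 = n29584 := ndS (p := 11675) (l := 8) rfl N11675 D29584
theorem N13658 : nd 13658 = n29585 := ndS (p := 11677) (l := 7) rfl N11677 D29585
theorem N13659 : nd 13659 = n29586 := ndS (p := 11677) (l := 8) rfl N11677 D29586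
theorem N13660 : nd 13660 = n29587 := ndS (p := 11678) (l := 6) rfl N11678 D29587
theorem N13661 : nd 13661 = n29588 := ndS (p := 11678) (l := 8) rfl N11678 D29588
theorem N13662 : nd 13662 = n29589 := ndS (p := 11679) (l := 9) rfl N11679 D29589
theorem N13663 : nd 13663 = n29590 := ndS (p := 11680) (l := 8) rfl N11680 D29590
theorem N13664 : nd 13664 = n29591 := ndS (p := 11681) (l := 9) rfl N11681 D29591
theorem N13665 : nd 13665 = n29592 := ndS (p := 11685) (l := 6) rfl N11685 D29592
theorem N13666 : nd 13666 = n29593 := ndS (p := 11685) (l := 8) rfl N11685 D29593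
theorem N13667 : nd 13667 = n29594 := ndS (p := 11687) (l := 8) rfl N11687 D29594
theorem N13668 : nd 13668 = n29595 := ndS (p := 11688) (l := 9) rfl N11688 D29595
theorem N13669 : nd 13669 = n29596 := ndS (p := 11690) (l := 5) rfl N11690 D29596
theorem N13670 : nd 13670 = n29597 := ndS (p := 11690) (l := 7) rfl N11690 D29597
theorem N13671 : nd 13671 = n29598 := ndS (p := 11691) (l := 7) rfl N11691 D29598
theorem N13672 : nd 13672 = n29599 := ndS (p := 11691) (l := 8) rfl N11691 D29599
theorem N13673 : nd 13673 = n29600 := ndS (p := 11693) (l := 6) rfl N11693 D29600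
theorem N13674 : nd 13674 = n29601 := ndS (p := 11693) (l := 8) rfl N11693 D29601
theorem N13675 : nd 13675 = n29602 := ndS (p := 11694) (l := 9) rfl N11694 D29602
theorem N13676 : nd 13676 = n29603 := ndS (p := 11695) (l := 8) rfl N11695 D29603
theorem N13677 : nd 13677 = n29604 := ndS (p := 11696) (l := 9) rfl N11696 D29604
theorem N13678 : nd 13678 = n29605 := ndS (p := 11698) (l := 5) rfl N11698 D29605
theorem N13679 : nd 13679 = n29606 := ndS (p := 11698) (l := 9) rfl N11698 D29606
theorem N13680 : nd 13680 = n29607 := ndS (p := 11700) (l := 4) rfl N11700 D29607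
theorem N13681 : nd 13681 = n29608 := ndS (p := 11700) (l := 9) rfl N11700 D29608
theorem N13682 : nd 13682 = n29609 := ndS (p := 11702) (l := 0) rfl N11702 D29609
theorem N13683 : nd 13683 = n29610 := ndS (p := 11702) (l := 6) rfl N11702 D29610
theorem N13684 : nd 13684 = n29611 := ndS (p := 11703) (l := 7) rfl N11703 D29611
theorem N13685 : nd 13685 = n29612 := ndS (p := 11704) (l := 4) rfl N11704 D29612
theorem N13686 : nd 13686 = n29613 := ndS (p := 11704) (l := 7) rfl N11704 D29613
theorem N13687 : nd 13687 = n29614 := ndS (p := 11706) (l := 6) rfl N11706 D29614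
theorem N13688 : nd 13688 = n29615 := ndS (p := 11706) (l := 8) rfl N11706 D29615
theorem N13689 : nd 13689 = n29616 := ndS (p := 11708) (l := 0) rfl N11708 D29616
theorem N13690 : nd 13690 = n29617 := ndS (p := 11709) (l := 7) rfl N11709 D29617
theorem N13691 : nd 13691 = n29618 := ndS (p := 11710) (l := 4) rfl N11710 D29618
theorem N13692 : nd 13692 = n29619 := ndS (p := 11710) (l := 7) rfl N11710 D29619
theorem N13693 : nd 13693 = n29620 := ndS (p := 11712) (l := 6) rfl N11712 D29620
theorem N13694 : nd 13694 = n29621 := ndS (p := 11712) (l := 8) rfl N11712 D29621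
theorem N13695 : nd 13695 = n29622 := ndS (p := 11716) (l := 7) rfl N11716 D29622
theorem N13696 : nd 13696 = n29623 := ndS (p := 11717) (l := 6) rfl N11717 D29623
theorem N13697 : nd 13697 = n29624 := ndS (p := 11718) (l := 8) rfl N11718 D29624
theorem N13698 : nd 13698 = n29625 := ndS (p := 11720) (l := 6) rfl N11720 D29625
theorem N13699 : nd 13699 = n29626 := ndS (p := 11721) (l := 5) rfl N11721 D29626
theorem N13700 : nd 13700 = n29627 := ndS (p := 11721) (l := 7) rfl N11721 D29627
theorem N13701 : nd 13701 = n29628 := ndS (p := 11722) (l := 4) rfl N11722 D29628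
theorem N13702 : nd 13702 = n29629 := ndS (p := 11722) (l := 7) rfl N11722 D29629
theorem N13703 : nd 13703 = n29630 := ndS (p := 11722) (l := 8) rfl N11722 D29630
theorem N13704 : nd 13704 = n29631 := ndS (p := 11724) (l := 7) rfl N11724 D29631
theorem N13705 : nd 13705 = n29632 := ndS (p := 11724) (l := 8) rfl N11724 D29632
theorem N13706 : nd 13706 = n29633 := ndS (p := 11725) (l := 6) rfl N11725 D29633
theorem N13707 : nd 13707 = n29634 := ndS (p := 11725) (l := 8) rfl N11725 D29634
theorem N13708 : nd 13708 = n29635 := ndS (p := 11727) (l := 8) rfl N11727 D29635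
theorem N13709 : nd 13709 = n29636 := ndS (p := 11729) (l := 5) rfl N11729 D29636
theorem N13710 : nd 13710 = n29637 := ndS (p := 11729) (l := 7) rfl N11729 D29637
theorem N13711 : nd 13711 = n29638 := ndS (p := 11730) (l := 4) rfl N11730 D29638
theorem N13712 : nd 13712 = n29639 := ndS (p := 11730) (l := 7) rfl N11730 D29639
theorem N13713 : nd 13713 = n29640 := ndS (p := 11732) (l := 3) rfl N11732 D29640
theorem N13714 : nd 13714 = n29641 := ndS (p := 11732) (l := 7) rfl N11732 D29641
theorem N13715 : nd 13715 = n29642 := ndS (p := 11733) (l := 6) rfl N11733 D29642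
theorem N13716 : nd 13716 = n29643 := ndS (p := 11734) (l := 6) rfl N11734 D29643
theorem N13717 : nd 13717 = n29644 := ndS (p := 11737) (l := 2) rfl N11737 D29644
theorem N13718 : nd 13718 = n29645 := ndS (p := 11737) (l := 6) rfl N11737 D29645
theorem N13719 : nd 13719 = n29646 := ndS (p := 11738) (l := 5) rfl N11738 D29646
theorem N13720 : nd 13720 = n29647 := ndS (p := 11738) (l := 7) rfl N11738 D29647
theorem N13721 : nd 13721 = n29648 := ndS (p := 11740) (l := 2) rfl N11740 D29648
theorem N13722 : nd 13722 = n29649 := ndS (p := 11740) (l := 6) rfl N11740 D29649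
theorem N13723 : nd 13723 = n29650 := ndS (p := 11741) (l := 5) rfl N11741 D29650
theorem N13724 : nd 13724 = n29651 := ndS (p := 11741) (l := 7) rfl N11741 D29651
theorem N13725 : nd 13725 = n29652 := ndS (p := 11743) (l := 2) rfl N11743 D29652
theorem N13726 : nd 13726 = n29653 := ndS (p := 11743) (l := 6) rfl N11743 D29653
theorem N13727 : nd 13727 = n29654 := ndS (p := 11744) (l := 5) rfl N11744 D29654
theorem N13728 : nd 13728 = n29655 := ndS (p := 11744) (l := 7) rfl N11744 D29655
theorem N13729 : nd 13729 = n29656 := ndS (p := 11746) (l := 1) rfl N11746 D29656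
theorem N13730 : nd 13730 = n29657 := ndS (p := 11746) (l := 6) rfl N11746 D29657
theorem N13731 : nd 13731 = n29658 := ndS (p := 11747) (l := 5) rfl N11747 D29658
theorem N13732 : nd 13732 = n29659 := ndS (p := 11747) (l := 7) rfl N11747 D29659
theorem N13733 : nd 13733 = n29660 := ndS (p := 11748) (l := 7) rfl N11748 D29660
theorem N13734 : nd 13734 = n29661 := ndS (p := 11748) (l := 8) rfl N11748 D29661
theorem N13735 : nd 13735 = n29662 := ndS (p := 11750) (l := 1) rfl N11750 D29662
theorem N13736 : nd 13736 = n29663 := ndS (p := 11750) (l := 6) rfl N11750 D29663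
theorem N13737 : nd 13737 = n29664 := ndS (p := 11751) (l := 5) rfl N11751 D29664
theorem N13738 : nd 13738 = n29665 := ndS (p := 11751) (l := 7) rfl N11751 D29665
theorem N13739 : nd 13739 = n29666 := ndS (p := 11752) (l := 7) rfl N11752 D29666
theorem N13740 : nd 13740 = n29667 := ndS (p := 11752) (l := 8) rfl N11752 D29667
theorem N13741 : nd 13741 = n29668 := ndS (p := 11754) (l := 0) rfl N11754 D29668
theorem N13742 : nd 13742 = n29669 := ndS (p := 11754) (l := 6) rfl N11754 D29669
theorem N13743 : nd 13743 = n29670 := ndS (p := 11755) (l := 5) rfl N11755 D29670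
theorem N13744 : nd 13744 = n29671 := ndS (p := 11755) (l := 7) rfl N11755 D29671
theorem N13745 : nd 13745 = n29672 := ndS (p := 11756) (l := 7) rfl N11756 D29672
theorem N13746 : nd 13746 = n29673 := ndS (p := 11756) (l := 8) rfl N11756 D29673
theorem N13747 : nd 13747 = n29674 := ndS (p := 11758) (l := 8) rfl N11758 D29674
theorem N13748 : nd 13748 = n29675 := ndS (p := 11761) (l := 2) rfl N11761 D29675
theorem N13749 : nd 13749 = n29676 := ndS (p := 11761) (l := 6) rfl N11761 D29676
theorem N13750 : nd 13750 = n29677 := ndS (p := 11762) (l := 5) rfl N11762 D29677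
theorem N13751 : nd 13751 = n29678 := ndS (p := 11762) (l := 7) rfl N11762 D29678
theorem N13752 : nd 13752 = n29679 := ndS (p := 11764) (l := 1) rfl N11764 D29679
theorem N13753 : nd 13753 = n29680 := ndS (p := 11764) (l := 6) rfl N11764 D29680
theorem N13754 : nd 13754 = n29681 := ndS (p := 11765) (l := 5) rfl N11765 D29681
theorem N13755 : nd 13755 = n29682 := ndS (p := 11765) (l := 7) rfl N11765 D29682
theorem N13756 : nd 13756 = n29683 := ndS (p := 11766) (l := 7) rfl N11766 D29683
theorem N13757 : nd 13757 = n29684 := ndS (p := 11766) (l := 8) rfl N11766 D29684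
theorem N13758 : nd 13758 = n29685 := ndS (p := 11768) (l := 2) rfl N11768 D29685
theorem N13759 : nd 13759 = n29686 := ndS (p := 11768) (l := 6) rfl N11768 D29686
theorem N13760 : nd 13760 = n29687 := ndS (p := 11769) (l := 5) rfl N11769 D29687
theorem N13761 : nd 13761 = n29688 := ndS (p := 11769) (l := 7) rfl N11769 D29688
theorem N13762 : nd 13762 = n29689 := ndS (p := 11771) (l := 1) rfl N11771 D29689
theorem N13763 : nd 13763 = n29690 := ndS (p := 11771) (l := 6) rfl N11771 D29690
theorem N13764 : nd 13764 = n29691 := ndS (p := 11772) (l := 5) rfl N11772 D29691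
theorem N13765 : nd 13765 = n29692 := ndS (p := 11772) (l := 7) rfl N11772 D29692
theorem N13766 : nd 13766 = n29693 := ndS (p := 11773) (l := 7) rfl N11773 D29693
theorem N13767 : nd 13767 = n29694 := ndS (p := 11773) (l := 8) rfl N11773 D29694
theorem N13768 : nd 13768 = n29695 := ndS (p := 11775) (l := 6) rfl N11775 D29695
theorem N13769 : nd 13769 = n29696 := ndS (p := 11776) (l := 5) rfl N11776 D29696
theorem N13770 : nd 13770 = n29697 := ndS (p := 11776) (l := 7) rfl N11776 D29697
theorem N13771 : nd 13771 = n29698 := ndS (p := 11777) (l := 7) rfl N11777 D29698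
theorem N13772 : nd 13772 = n29699 := ndS (p := 11777) (l := 8) rfl N11777 D29699
theorem N13773 : nd 13773 = n29700 := ndS (p := 11779) (l := 0) rfl N11779 D29700
theorem N13774 : nd 13774 = n29701 := ndS (p := 11779) (l := 6) rfl N11779 D29701
theorem N13775 : nd 13775 = n29702 := ndS (p := 11780) (l := 5) rfl N11780 D29702
theorem N13776 : nd 13776 = n29703 := ndS (p := 11780) (l := 7) rfl N11780 D29703
theorem N13777 : nd 13777 = n29704 := ndS (p := 11781) (l := 4) rfl N11781 D29704
theorem N13778 : nd 13778 = n29705 := ndS (p := 11781) (l := 7) rfl N11781 D29705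
theorem N13779 : nd 13779 = n29706 := ndS (p := 11781) (l := 8) rfl N11781 D29706
theorem N13780 : nd 13780 = n29707 := ndS (p := 11783) (l := 6) rfl N11783 D29707
theorem N13781 : nd 13781 = n29708 := ndS (p := 11783) (l := 8) rfl N11783 D29708
theorem N13782 : nd 13782 = n29709 := ndS (p := 11784) (l := 9) rfl N11784 D29709
theorem N13783 : nd 13783 = n29710 := ndS (p := 11786) (l := 7) rfl N11786 D29710
theorem N13784 : nd 13784 = n29711 := ndS (p := 11787) (l := 4) rfl N11787 D29711
theorem N13785 : nd 13785 = n29712 := ndS (p := 11787) (l := 7) rfl N11787 D29712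
theorem N13786 : nd 13786 = n29713 := ndS (p := 11787) (l := 8) rfl N11787 D29713
theorem N13787 : nd 13787 = n29714 := ndS (p := 11789) (l := 6) rfl N11789 D29714
theorem N13788 : nd 13788 = n29715 := ndS (p := 11789) (l := 8) rfl N11789 D29715
theorem N13789 : nd 13789 = n29716 := ndS (p := 11790) (l := 9) rfl N11790 D29716
theorem N13790 : nd 13790 = n29717 := ndS (p := 11791) (l := 6) rfl N11791 D29717
theorem N13791 : nd 13791 = n29718 := ndS (p := 11792) (l := 5) rfl N11792 D29718
theorem N13792 : nd 13792 = n29719 := ndS (p := 11792) (l := 7) rfl N11792 D29719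
theorem N13793 : nd 13793 = n29720 := ndS (p := 11793) (l := 4) rfl N11793 D29720
theorem N13794 : nd 13794 = n29721 := ndS (p := 11793) (l := 7) rfl N11793 D29721
theorem N13795 : nd 13795 = n29722 := ndS (p := 11793) (l := 8) rfl N11793 D29722
theorem N13796 : nd 13796 = n29723 := ndS (p := 11795) (l := 7) rfl N11795 D29723
theorem N13797 : nd 13797 = n29724 := ndS (p := 11795) (l := 8) rfl N11795 D29724
theorem N13798 : nd 13798 = n29725 := ndS (p := 11796) (l := 6) rfl N11796 D29725
theorem N13799 : nd 13799 = n29726 := ndS (p := 11796) (l := 8) rfl N11796 D29726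
theorem N13800 : nd 13800 = n29727 := ndS (p := 11797) (l := 9) rfl N11797 D29727
theorem N13801 : nd 13801 = n29728 := ndS (p := 11798) (l := 8) rfl N11798 D29728
theorem N13802 : nd 13802 = n29729 := ndS (p := 11799) (l := 9) rfl N11799 D29729
theorem N13803 : nd 13803 = n29730 := ndS (p := 11801) (l := 8) rfl N11801 D29730
theorem N13804 : nd 13804 = n29731 := ndS (p := 11802) (l := 5) rfl N11802 D29731
theorem N13805 : nd 13805 = n29732 := ndS (p := 11806) (l := 1) rfl N11806 D29732
theorem N13806 : nd 13806 = n29733 := ndS (p := 11806) (l := 6) rfl N11806 D29733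
theorem N13807 : nd 13807 = n29734 := ndS (p := 11807) (l := 5) rfl N11807 D29734
theorem N13808 : nd 13808 = n29735 := ndS (p := 11807) (l := 7) rfl N11807 D29735
theorem N13809 : nd 13809 = n29736 := ndS (p := 11808) (l := 7) rfl N11808 D29736
theorem N13810 : nd 13810 = n29737 := ndS (p := 11808) (l := 8) rfl N11808 D29737
theorem N13811 : nd 13811 = n29738 := ndS (p := 11810) (l := 1) rfl N11810 D29738
theorem N13812 : nd 13812 = n29739 := ndS (p := 11810) (l := 6) rfl N11810 D29739
theorem N13813 : nd 13813 = n29740 := ndS (p := 11811) (l := 5) rfl N11811 D29740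
theorem N13814 : nd 13814 = n29741 := ndS (p := 11811) (l := 7) rfl N11811 D29741
theorem N13815 : nd 13815 = n29742 := ndS (p := 11812) (l := 7) rfl N11812 D29742
theorem N13816 : nd 13816 = n29743 := ndS (p := 11812) (l := 8) rfl N11812 D29743
theorem N13817 : nd 13817 = n29744 := ndS (p := 11814) (l := 6) rfl N11814 D29744
theorem N13818 : nd 13818 = n29745 := ndS (p := 11815) (l := 5) rfl N11815 D29745
theorem N13819 : nd 13819 = n29746 := ndS (p := 11815) (l := 7) rfl N11815 D29746
theorem N13820 : nd 13820 = n29747 := ndS (p := 11816) (l := 7) rfl N11816 D29747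
theorem N13821 : nd 13821 = n29748 := ndS (p := 11816) (l := 8) rfl N11816 D29748
theorem N13822 : nd 13822 = n29749 := ndS (p := 11818) (l := 0) rfl N11818 D29749
theorem N13823 : nd 13823 = n29750 := ndS (p := 11818) (l := 6) rfl N11818 D29750
theorem N13824 : nd 13824 = n29751 := ndS (p := 11819) (l := 5) rfl N11819 D29751
theorem N13825 : nd 13825 = n29752 := ndS (p := 11819) (l := 7) rfl N11819 D29752
theorem N13826 : nd 13826 = n29753 := ndS (p := 11820) (l := 4) rfl N11820 D29753
theorem N13827 : nd 13827 = n29754 := ndS (p := 11820) (l := 7) rfl N11820 D29754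
theorem N13828 : nd 13828 = n29755 := ndS (p := 11820) (l := 8) rfl N11820 D29755
theorem N13829 : nd 13829 = n29756 := ndS (p := 11822) (l := 6) rfl N11822 D29756
theorem N13830 : nd 13830 = n29757 := ndS (p := 11822) (l := 8) rfl N11822 D29757
theorem N13831 : nd 13831 = n29758 := ndS (p := 11823) (l := 9) rfl N11823 D29758
theorem N13832 : nd 13832 = n29759 := ndS (p := 11824) (l := 1) rfl N11824 D29759
theorem N13833 : nd 13833 = n29760 := ndS (p := 11824) (l := 6) rfl N11824 D29760
theorem N13834 : nd 13834 = n29761 := ndS (p := 11825) (l := 5) rfl N11825 D29761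
theorem N13835 : nd 13835 = n29762 := ndS (p := 11825) (l := 7) rfl N11825 D29762
theorem N13836 : nd 13836 = n29763 := ndS (p := 11826) (l := 7) rfl N11826 D29763
theorem N13837 : nd 13837 = n29764 := ndS (p := 11826) (l := 8) rfl N11826 D29764
theorem N13838 : nd 13838 = n29765 := ndS (p := 11829) (l := 5) rfl N11829 D29765
theorem N13839 : nd 13839 = n29766 := ndS (p := 11829) (l := 7) rfl N11829 D29766
theorem N13840 : nd 13840 = n29767 := ndS (p := 11830) (l := 4) rfl N11830 D29767
theorem N13841 : nd 13841 = n29768 := ndS (p := 11830) (l := 7) rfl N11830 D29768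
theorem N13842 : nd 13842 = n29769 := ndS (p := 11830) (l := 8) rfl N11830 D29769
theorem N13843 : nd 13843 = n29770 := ndS (p := 11832) (l := 6) rfl N11832 D29770
theorem N13844 : nd 13844 = n29771 := ndS (p := 11832) (l := 8) rfl N11832 D29771
theorem N13845 : nd 13845 = n29772 := ndS (p := 11833) (l := 9) rfl N11833 D29772
theorem N13846 : nd 13846 = n29773 := ndS (p := 11834) (l := 5) rfl N11834 D29773
theorem N13847 : nd 13847 = n29774 := ndS (p := 11834) (l := 7) rfl N11834 D29774
theorem N13848 : nd 13848 = n29775 := ndS (p := 11835) (l := 4) rfl N11835 D29775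
theorem N13849 : nd 13849 = n29776 := ndS (p := 11835) (l := 7) rfl N11835 D29776
theorem N13850 : nd 13850 = n29777 := ndS (p := 11835) (l := 8) rfl N11835 D29777
theorem N13851 : nd 13851 = n29778 := ndS (p := 11837) (l := 6) rfl N11837 D29778
theorem N13852 : nd 13852 = n29779 := ndS (p := 11837) (l := 8) rfl N11837 D29779
theorem N13853 : nd 13853 = n29780 := ndS (p := 11838) (l := 9) rfl N11838 D29780
theorem N13854 : nd 13854 = n29781 := ndS (p := 11839) (l := 6) rfl N11839 D29781
theorem N13855 : nd 13855 = n29782 := ndS (p := 11840) (l := 5) rfl N11840 D29782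
theorem N13856 : nd 13856 = n29783 := ndS (p := 11840) (l := 7) rfl N11840 D29783
theorem N13857 : nd 13857 = n29784 := ndS (p := 11841) (l := 4) rfl N11841 D29784
theorem N13858 : nd 13858 = n29785 := ndS (p := 11841) (l := 7) rfl N11841 D29785
theorem N13859 : nd 13859 = n29786 := ndS (p := 11841) (l := 8) rfl N11841 D29786
theorem N13860 : nd 13860 = n29787 := ndS (p := 11843) (l := 7) rfl N11843 D29787
theorem N13861 : nd 13861 = n29788 := ndS (p := 11843) (l := 8) rfl N11843 D29788
theorem N13862 : nd 13862 = n29789 := ndS (p := 11844) (l := 6) rfl N11844 D29789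
theorem N13863 : nd 13863 = n29790 := ndS (p := 11844) (l := 8) rfl N11844 D29790
theorem N13864 : nd 13864 = n29791 := ndS (p := 11845) (l := 9) rfl N11845 D29791
theorem N13865 : nd 13865 = n29792 := ndS (p := 11846) (l := 8) rfl N11846 D29792
theorem N13866 : nd 13866 = n29793 := ndS (p := 11847) (l := 9) rfl N11847 D29793
theorem N13867 : nd 13867 = n29794 := ndS (p := 11850) (l := 7) rfl N11850 D29794
theorem N13868 : nd 13868 = n29795 := ndS (p := 11850) (l := 8) rfl N11850 D29795
theorem N13869 : nd 13869 = n29796 := ndS (p := 11851) (l := 6) rfl N11851 D29796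
theorem N13870 : nd 13870 = n29797 := ndS (p := 11851) (l := 8) rfl N11851 D29797
theorem N13871 : nd 13871 = n29798 := ndS (p := 11852) (l := 9) rfl N11852 D29798
theorem N13872 : nd 13872 = n29799 := ndS (p := 11853) (l := 8) rfl N11853 D29799
theorem N13873 : nd 13873 = n29800 := ndS (p := 11854) (l := 9) rfl N11854 D29800
theorem N13874 : nd 13874 = n29801 := ndS (p := 11856) (l := 5) rfl N11856 D29801
theorem N13875 : nd 13875 = n29802 := ndS (p := 11857) (l := 4) rfl N11857 D29802
theorem N13876 : nd 13876 = n29803 := ndS (p := 11857) (l := 7) rfl N11857 D29803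
theorem N13877 : nd 13877 = n29804 := ndS (p := 11857) (l := 8) rfl N11857 D29804
theorem N13878 : nd 13878 = n29805 := ndS (p := 11859) (l := 7) rfl N11859 D29805
theorem N13879 : nd 13879 = n29806 := ndS (p := 11859) (l := 8) rfl N11859 D29806
theorem N13880 : nd 13880 = n29807 := ndS (p := 11860) (l := 6) rfl N11860 D29807
theorem N13881 : nd 13881 = n29808 := ndS (p := 11860) (l := 8) rfl N11860 D29808
theorem N13882 : nd 13882 = n29809 := ndS (p := 11861) (l := 9) rfl N11861 D29809
theorem N13883 : nd 13883 = n29810 := ndS (p := 11862) (l := 6) rfl N11862 D29810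
theorem N13884 : nd 13884 = n29811 := ndS (p := 11862) (l := 8) rfl N11862 D29811
theorem N13885 : nd 13885 = n29812 := ndS (p := 11863) (l := 5) rfl N11863 D29812
theorem N13886 : nd 13886 = n29813 := ndS (p := 11864) (l := 8) rfl N11864 D29813
theorem N13887 : nd 13887 = n29814 := ndS (p := 11865) (l := 9) rfl N11865 D29814
theorem N13888 : nd 13888 = n29815 := ndS (p := 11867) (l := 5) rfl N11867 D29815
theorem N13889 : nd 13889 = n29816 := ndS (p := 11869) (l := 5) rfl N11869 D29816
theorem N13890 : nd 13890 = n29817 := ndS (p := 11870) (l := 5) rfl N11870 D29817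
theorem N13891 : nd 13891 = n29818 := ndS (p := 11871) (l := 6) rfl N11871 D29818
theorem N13892 : nd 13892 = n29819 := ndS (p := 11871) (l := 9) rfl N11871 D29819
theorem N13893 : nd 13893 = n29820 := ndS (p := 11873) (l := 4) rfl N11873 D29820
theorem N13894 : nd 13894 = n29821 := ndS (p := 11874) (l := 1) rfl N11874 D29821
theorem N13895 : nd 13895 = n29822 := ndS (p := 11874) (l := 6) rfl N11874 D29822
theorem N13896 : nd 13896 = n29823 := ndS (p := 11875) (l := 5) rfl N11875 D29823
theorem N13897 : nd 13897 = n29824 := ndS (p := 11875) (l := 7) rfl N11875 D29824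
theorem N13898 : nd 13898 = n29825 := ndS (p := 11876) (l := 7) rfl N11876 D29825
theorem N13899 : nd 13899 = n29826 := ndS (p := 11876) (l := 8) rfl N11876 D29826
theorem N13900 : nd 13900 = n29827 := ndS (p := 11878) (l := 6) rfl N11878 D29827
theorem N13901 : nd 13901 = n29828 := ndS (p := 11879) (l := 5) rfl N11879 D29828
theorem N13902 : nd 13902 = n29829 := ndS (p := 11879) (l := 7) rfl N11879 D29829
theorem N13903 : nd 13903 = n29830 := ndS (p := 11880) (l := 7) rfl N11880 D29830
theorem N13904 : nd 13904 = n29831 := ndS (p := 11882) (l := 6) rfl N11882 D29831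
theorem N13905 : nd 13905 = n29832 := ndS (p := 11882) (l := 8) rfl N11882 D29832
theorem N13906 : nd 13906 = n29833 := ndS (p := 11884) (l := 5) rfl N11884 D29833
theorem N13907 : nd 13907 = n29834 := ndS (p := 11884) (l := 7) rfl N11884 D29834
theorem N13908 : nd 13908 = n29835 := ndS (p := 11885) (l := 4) rfl N11885 D29835
theorem N13909 : nd 13909 = n29836 := ndS (p := 11885) (l := 7) rfl N11885 D29836
theorem N13910 : nd 13910 = n29837 := ndS (p := 11885) (l := 8) rfl N11885 D29837
theorem N13911 : nd 13911 = n29838 := ndS (p := 11887) (l := 6) rfl N11887 D29838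
theorem N13912 : nd 13912 = n29839 := ndS (p := 11887) (l := 8) rfl N11887 D29839
theorem N13913 : nd 13913 = n29840 := ndS (p := 11888) (l := 9) rfl N11888 D29840
theorem N13914 : nd 13914 = n29841 := ndS (p := 11889) (l := 6) rfl N11889 D29841
theorem N13915 : nd 13915 = n29842 := ndS (p := 11890) (l := 5) rfl N11890 D29842
theorem N13916 : nd 13916 = n29843 := ndS (p := 11890) (l := 7) rfl N11890 D29843
theorem N13917 : nd 13917 = n29844 := ndS (p := 11891) (l := 4) rfl N11891 D29844
theorem N13918 : nd 13918 = n29845 := ndS (p := 11891) (l := 7) rfl N11891 D29845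
theorem N13919 : nd 13919 = n29846 := ndS (p := 11891) (l := 8) rfl N11891 D29846
theorem N13920 : nd 13920 = n29847 := ndS (p := 11893) (l := 7) rfl N11893 D29847
theorem N13921 : nd 13921 = n29848 := ndS (p := 11893) (l := 8) rfl N11893 D29848
theorem N13922 : nd 13922 = n29849 := ndS (p := 11894) (l := 6) rfl N11894 D29849
theorem N13923 : nd 13923 = n29850 := ndS (p := 11894) (l := 8) rfl N11894 D29850
theorem N13924 : nd 13924 = n29851 := ndS (p := 11895) (l := 9) rfl N11895 D29851
theorem N13925 : nd 13925 = n29852 := ndS (p := 11896) (l := 8) rfl N11896 D29852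
theorem N13926 : nd 13926 = n29853 := ndS (p := 11897) (l := 9) rfl N11897 D29853
theorem N13927 : nd 13927 = n29854 := ndS (p := 11899) (l := 0) rfl N11899 D29854
theorem N13928 : nd 13928 = n29855 := ndS (p := 11899) (l := 6) rfl N11899 D29855
theorem N13929 : nd 13929 = n29856 := ndS (p := 11900) (l := 5) rfl N11900 D29856
theorem N13930 : nd 13930 = n29857 := ndS (p := 11900) (l := 7) rfl N11900 D29857
theorem N13931 : nd 13931 = n29858 := ndS (p := 11901) (l := 4) rfl N11901 D29858
theorem N13932 : nd 13932 = n29859 := ndS (p := 11901) (l := 7) rfl N11901 D29859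
theorem N13933 : nd 13933 = n29860 := ndS (p := 11901) (l := 8) rfl N11901 D29860
theorem N13934 : nd 13934 = n29861 := ndS (p := 11903) (l := 6) rfl N11903 D29861
theorem N13935 : nd 13935 = n29862 := ndS (p := 11903) (l := 8) rfl N11903 D29862
theorem N13936 : nd 13936 = n29863 := ndS (p := 11904) (l := 9) rfl N11904 D29863
theorem N13937 : nd 13937 = n29864 := ndS (p := 11905) (l := 4) rfl N11905 D29864
theorem N13938 : nd 13938 = n29865 := ndS (p := 11905) (l := 7) rfl N11905 D29865
theorem N13939 : nd 13939 = n29866 := ndS (p := 11907) (l := 7) rfl N11907 D29866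
theorem N13940 : nd 13940 = n29867 := ndS (p := 11908) (l := 6) rfl N11908 D29867
theorem N13941 : nd 13941 = n29868 := ndS (p := 11909) (l := 8) rfl N11909 D29868
theorem N13942 : nd 13942 = n29869 := ndS (p := 11910) (l := 9) rfl N11910 D29869
theorem N13943 : nd 13943 = n29870 := ndS (p := 11912) (l := 4) rfl N11912 D29870
theorem N13944 : nd 13944 = n29871 := ndS (p := 11912) (l := 7) rfl N11912 D29871
theorem N13945 : nd 13945 = n29872 := ndS (p := 11912) (l := 8) rfl N11912 D29872
theorem N13946 : nd 13946 = n29873 := ndS (p := 11914) (l := 7) rfl N11914 D29873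
theorem N13947 : nd 13947 = n29874 := ndS (p := 11914) (l := 8) rfl N11914 D29874
theorem N13948 : nd 13948 = n29875 := ndS (p := 11915) (l := 6) rfl N11915 D29875
theorem N13949 : nd 13949 = n29876 := ndS (p := 11915) (l := 8) rfl N11915 D29876
theorem N13950 : nd 13950 = n29877 := ndS (p := 11916) (l := 9) rfl N11916 D29877
theorem N13951 : nd 13951 = n29878 := ndS (p := 11917) (l := 8) rfl N11917 D29878
theorem N13952 : nd 13952 = n29879 := ndS (p := 11918) (l := 9) rfl N11918 D29879
theorem N13953 : nd 13953 = n29880 := ndS (p := 11920) (l := 4) rfl N11920 D29880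
theorem N13954 : nd 13954 = n29881 := ndS (p := 11920) (l := 7) rfl N11920 D29881
theorem N13955 : nd 13955 = n29882 := ndS (p := 11920) (l := 8) rfl N11920 D29882
theorem N13956 : nd 13956 = n29883 := ndS (p := 11922) (l := 3) rfl N11922 D29883
theorem N13957 : nd 13957 = n29884 := ndS (p := 11922) (l := 7) rfl N11922 D29884
theorem N13958 : nd 13958 = n29885 := ndS (p := 11922) (l := 8) rfl N11922 D29885
theorem N13959 : nd 13959 = n29886 := ndS (p := 11923) (l := 6) rfl N11923 D29886
theorem N13960 : nd 13960 = n29887 := ndS (p := 11923) (l := 8) rfl N11923 D29887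
theorem N13961 : nd 13961 = n29888 := ndS (p := 11924) (l := 9) rfl N11924 D29888
theorem N13962 : nd 13962 = n29889 := ndS (p := 11925) (l := 6) rfl N11925 D29889
theorem N13963 : nd 13963 = n29890 := ndS (p := 11925) (l := 8) rfl N11925 D29890
theorem N13964 : nd 13964 = n29891 := ndS (p := 11926) (l := 9) rfl N11926 D29891
theorem N13965 : nd 13965 = n29892 := ndS (p := 11927) (l := 8) rfl N11927 D29892
theorem N13966 : nd 13966 = n29893 := ndS (p := 11928) (l := 9) rfl N11928 D29893
theorem N13967 : nd 13967 = n29894 := ndS (p := 11930) (l := 5) rfl N11930 D29894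
theorem N13968 : nd 13968 = n29895 := ndS (p := 11930) (l := 9) rfl N11930 D29895
theorem N13969 : nd 13969 = n29896 := ndS (p := 11932) (l := 5) rfl N11932 D29896
theorem N13970 : nd 13970 = n29897 := ndS (p := 11934) (l := 8) rfl N11934 D29897
theorem N13971 : nd 13971 = n29898 := ndS (p := 11935) (l := 8) rfl N11935 D29898
theorem N13972 : nd 13972 = n29899 := ndS (p := 11936) (l := 9) rfl N11936 D29899
theorem N13973 : nd 13973 = n29900 := ndS (p := 11937) (l := 8) rfl N11937 D29900
theorem N13974 : nd 13974 = n29901 := ndS (p := 11938) (l := 9) rfl N11938 D29901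
theorem N13975 : nd 13975 = n29902 := ndS (p := 11940) (l := 5) rfl N11940 D29902
theorem N13976 : nd 13976 = n29903 := ndS (p := 11940) (l := 9) rfl N11940 D29903
theorem N13977 : nd 13977 = n29904 := ndS (p := 11942) (l := 4) rfl N11942 D29904
theorem N13978 : nd 13978 = n29905 := ndS (p := 11942) (l := 9) rfl N11942 D29905
theorem N13979 : nd 13979 = n29906 := ndS (p := 11946) (l := 6) rfl N11946 D29906
theorem N13980 : nd 13980 = n29907 := ndS (p := 11947) (l := 5) rfl N11947 D29907
theorem N13981 : nd 13981 = n29908 := ndS (p := 11947) (l := 7) rfl N11947 D29908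
theorem N13982 : nd 13982 = n29909 := ndS (p := 11948) (l := 4) rfl N11948 D29909
theorem N13983 : nd 13983 = n29910 := ndS (p := 11948) (l := 7) rfl N11948 D29910
theorem N13984 : nd 13984 = n29911 := ndS (p := 11948) (l := 8) rfl N11948 D29911
theorem N13985 : nd 13985 = n29912 := ndS (p := 11950) (l := 7) rfl N11950 D29912
theorem N13986 : nd 13986 = n29913 := ndS (p := 11951) (l := 6) rfl N11951 D29913
theorem N13987 : nd 13987 = n29914 := ndS (p := 11951) (l := 8) rfl N11951 D29914
theorem N13988 : nd 13988 = n29915 := ndS (p := 11953) (l := 8) rfl N11953 D29915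
theorem N13989 : nd 13989 = n29916 := ndS (p := 11955) (l := 3) rfl N11955 D29916
theorem N13990 : nd 13990 = n29917 := ndS (p := 11955) (l := 7) rfl N11955 D29917
theorem N13991 : nd 13991 = n29918 := ndS (p := 11956) (l := 6) rfl N11956 D29918
theorem N13992 : nd 13992 = n29919 := ndS (p := 11957) (l := 6) rfl N11957 D29919
theorem N13993 : nd 13993 = n29920 := ndS (p := 11960) (l := 3) rfl N11960 D29920
theorem N13994 : nd 13994 = n29921 := ndS (p := 11960) (l := 7) rfl N11960 D29921
theorem N13995 : nd 13995 = n29922 := ndS (p := 11961) (l := 6) rfl N11961 D29922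
theorem N13996 : nd 13996 = n29923 := ndS (p := 11962) (l := 6) rfl N11962 D29923
theorem N13997 : nd 13997 = n29924 := ndS (p := 11962) (l := 8) rfl N11962 D29924
theorem N13998 : nd 13998 = n29925 := ndS (p := 11964) (l := 8) rfl N11964 D29925
theorem N13999 : nd 13999 = n29926 := ndS (p := 11967) (l := 3) rfl N11967 D29926
theorem N14000 : nd 14000 = n29927 := ndS (p := 11967) (l := 7) rfl N11967 D29927
theorem N14001 : nd 14001 = n29928 := ndS (p := 11968) (l := 6) rfl N11968 D29928
theorem N14002 : nd 14002 = n29929 := ndS (p := 11969) (l := 7) rfl N11969 D29929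
theorem N14003 : nd 14003 = n29930 := ndS (p := 11970) (l := 6) rfl N11970 D29930
theorem N14004 : nd 14004 = n29931 := ndS (p := 11972) (l := 5) rfl N11972 D29931
theorem N14005 : nd 14005 = n29932 := ndS (p := 11973) (l := 1) rfl N11973 D29932
theorem N14006 : nd 14006 = n29933 := ndS (p := 11973) (l := 6) rfl N11973 D29933
theorem N14007 : nd 14007 = n29934 := ndS (p := 11974) (l := 5) rfl N11974 D29934
theorem N14008 : nd 14008 = n29935 := ndS (p := 11974) (l := 7) rfl N11974 D29935
theorem N14009 : nd 14009 = n29936 := ndS (p := 11975) (l := 7) rfl N11975 D29936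
theorem N14010 : nd 14010 = n29937 := ndS (p := 11975) (l := 8) rfl N11975 D29937
theorem N14011 : nd 14011 = n29938 := ndS (p := 11977) (l := 6) rfl N11977 D29938
theorem N14012 : nd 14012 = n29939 := ndS (p := 11978) (l := 5) rfl N11978 D29939
theorem N14013 : nd 14013 = n29940 := ndS (p := 11978) (l := 7) rfl N11978 D29940
theorem N14014 : nd 14014 = n29941 := ndS (p := 11979) (l := 4) rfl N11979 D29941
theorem N14015 : nd 14015 = n29942 := ndS (p := 11979) (l := 7) rfl N11979 D29942
theorem N14016 : nd 14016 = n29943 := ndS (p := 11981) (l := 6) rfl N11981 D29943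
theorem N14017 : nd 14017 = n29944 := ndS (p := 11982) (l := 6) rfl N11982 D29944
theorem N14018 : nd 14018 = n29945 := ndS (p := 11983) (l := 5) rfl N11983 D29945
theorem N14019 : nd 14019 = n29946 := ndS (p := 11983) (l := 7) rfl N11983 D29946
theorem N14020 : nd 14020 = n29947 := ndS (p := 11984) (l := 4) rfl N11984 D29947
theorem N14021 : nd 14021 = n29948 := ndS (p := 11984) (l := 7) rfl N11984 D29948
theorem N14022 : nd 14022 = n29949 := ndS (p := 11984) (l := 8) rfl N11984 D29949
theorem N14023 : nd 14023 = n29950 := ndS (p := 11986) (l := 8) rfl N11986 D29950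
theorem N14024 : nd 14024 = n29951 := ndS (p := 11987) (l := 9) rfl N11987 D29951
theorem N14025 : nd 14025 = n29952 := ndS (p := 11989) (l := 7) rfl N11989 D29952
theorem N14026 : nd 14026 = n29953 := ndS (p := 11990) (l := 7) rfl N11990 D29953
theorem N14027 : nd 14027 = n29954 := ndS (p := 11993) (l := 5) rfl N11993 D29954
theorem N14028 : nd 14028 = n29955 := ndS (p := 11993) (l := 7) rfl N11993 D29955
theorem N14029 : nd 14029 = n29956 := ndS (p := 11994) (l := 4) rfl N11994 D29956
theorem N14030 : nd 14030 = n29957 := ndS (p := 11994) (l := 7) rfl N11994 D29957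
theorem N14031 : nd 14031 = n29958 := ndS (p := 11994) (l := 8) rfl N11994 D29958
theorem N14032 : nd 14032 = n29959 := ndS (p := 11996) (l := 6) rfl N11996 D29959
theorem N14033 : nd 14033 = n29960 := ndS (p := 11996) (l := 8) rfl N11996 D29960
theorem N14034 : nd 14034 = n29961 := ndS (p := 11997) (l := 9) rfl N11997 D29961
theorem N14035 : nd 14035 = n29962 := ndS (p := 11998) (l := 7) rfl N11998 D29962
theorem N14036 : nd 14036 = n29963 := ndS (p := 12000) (l := 7) rfl N12000 D29963
theorem N14037 : nd 14037 = n29964 := ndS (p := 12001) (l := 6) rfl N12001 D29964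
theorem N14038 : nd 14038 = n29965 := ndS (p := 12001) (l := 8) rfl N12001 D29965
theorem N14039 : nd 14039 = n29966 := ndS (p := 12002) (l := 9) rfl N12002 D29966
theorem N14040 : nd 14040 = n29967 := ndS (p := 12007) (l := 7) rfl N12007 D29967
theorem N14041 : nd 14041 = n29968 := ndS (p := 12008) (l := 6) rfl N12008 D29968
theorem N14042 : nd 14042 = n29969 := ndS (p := 12008) (l := 8) rfl N12008 D29969
theorem N14043 : nd 14043 = n29970 := ndS (p := 12009) (l := 9) rfl N12009 D29970
theorem N14044 : nd 14044 = n29971 := ndS (p := 12011) (l := 9) rfl N12011 D29971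
theorem N14045 : nd 14045 = n29972 := ndS (p := 12013) (l := 7) rfl N12013 D29972
theorem N14046 : nd 14046 = n29973 := ndS (p := 12014) (l := 7) rfl N12014 D29973
theorem N14047 : nd 14047 = n29974 := ndS (p := 12016) (l := 7) rfl N12016 D29974
theorem N14048 : nd 14048 = n29975 := ndS (p := 12017) (l := 8) rfl N12017 D29975
theorem N14049 : nd 14049 = n29976 := ndS (p := 12018) (l := 9) rfl N12018 D29976
theorem N14050 : nd 14050 = n29977 := ndS (p := 12023) (l := 7) rfl N12023 D29977
theorem N14051 : nd 14051 = n29978 := ndS (p := 12023) (l := 8) rfl N12023 D29978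
theorem N14052 : nd 14052 = n29979 := ndS (p := 12025) (l := 7) rfl N12025 D29979
theorem N14053 : nd 14053 = n29980 := ndS (p := 12025) (l := 8) rfl N12025 D29980
theorem N14054 : nd 14054 = n29981 := ndS (p := 12026) (l := 6) rfl N12026 D29981
theorem N14055 : nd 14055 = n29982 := ndS (p := 12026) (l := 8) rfl N12026 D29982
theorem N14056 : nd 14056 = n29983 := ndS (p := 12027) (l := 9) rfl N12027 D29983
theorem N14057 : nd 14057 = n29984 := ndS (p := 12028) (l := 8) rfl N12028 D29984
theorem N14058 : nd 14058 = n29985 := ndS (p := 12029) (l := 9) rfl N12029 D29985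
theorem N14059 : nd 14059 = n29986 := ndS (p := 12031) (l := 6) rfl N12031 D29986
theorem N14060 : nd 14060 = n29987 := ndS (p := 12031) (l := 8) rfl N12031 D29987
theorem N14061 : nd 14061 = n29988 := ndS (p := 12032) (l := 9) rfl N12032 D29988
theorem N14062 : nd 14062 = n29989 := ndS (p := 12033) (l := 6) rfl N12033 D29989
theorem N14063 : nd 14063 = n29990 := ndS (p := 12033) (l := 8) rfl N12033 D29990
theorem N14064 : nd 14064 = n29991 := ndS (p := 12034) (l := 9) rfl N12034 D29991
theorem N14065 : nd 14065 = n29992 := ndS (p := 12035) (l := 8) rfl N12035 D29992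
theorem N14066 : nd 14066 = n29993 := ndS (p := 12036) (l := 9) rfl N12036 D29993
theorem N14067 : nd 14067 = n29994 := ndS (p := 12038) (l := 9) rfl N12038 D29994
theorem N14068 : nd 14068 = n29995 := ndS (p := 12042) (l := 9) rfl N12042 D29995
theorem N14069 : nd 14069 = n29996 := ndS (p := 12044) (l := 9) rfl N12044 D29996
theorem N14070 : nd 14070 = n29997 := ndS (p := 12047) (l := 7) rfl N12047 D29997
theorem N14071 : nd 14071 = n29998 := ndS (p := 12048) (l := 8) rfl N12048 D29998
theorem N14072 : nd 14072 = n29999 := ndS (p := 12049) (l := 9) rfl N12049 D29999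
theorem N14073 : nd 14073 = n30000 := ndS (p := 12052) (l := 9) rfl N12052 D30000
theorem N14074 : nd 14074 = n30001 := ndS (p := 12055) (l := 6) rfl N12055 D30001
theorem N14075 : nd 14075 = n30002 := ndS (p := 12055) (l := 8) rfl N12055 D30002
theorem N14076 : nd 14076 = n30003 := ndS (p := 12056) (l := 9) rfl N12056 D30003
theorem N14077 : nd 14077 = n30004 := ndS (p := 12057) (l := 6) rfl N12057 D30004
theorem N14078 : nd 14078 = n30005 := ndS (p := 12057) (l := 8) rfl N12057 D30005
theorem N14079 : nd 14079 = n30006 := ndS (p := 12058) (l := 9) rfl N12058 D30006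
theorem N14080 : nd 14080 = n30007 := ndS (p := 12059) (l := 8) rfl N12059 D30007
theorem N14081 : nd 14081 = n30008 := ndS (p := 12060) (l := 9) rfl N12060 D30008
theorem N14082 : nd 14082 = n30009 := ndS (p := 12062) (l := 5) rfl N12062 D30009
theorem N14083 : nd 14083 = n30010 := ndS (p := 12062) (l := 9) rfl N12062 D30010
theorem N14084 : nd 14084 = n30011 := ndS (p := 12064) (l := 8) rfl N12064 D30011
theorem N14085 : nd 14085 = n30012 := ndS (p := 12065) (l := 9) rfl N12065 D30012
theorem N14086 : nd 14086 = n30013 := ndS (p := 12067) (l := 8) rfl N12067 D30013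
theorem N14087 : nd 14087 = n30014 := ndS (p := 12068) (l := 9) rfl N12068 D30014
theorem N14088 : nd 14088 = n30015 := ndS (p := 12070) (l := 5) rfl N12070 D30015
theorem N14089 : nd 14089 = n30016 := ndS (p := 12070) (l := 9) rfl N12070 D30016
theorem N14090 : nd 14090 = n30017 := ndS (p := 12072) (l := 9) rfl N12072 D30017
theorem N14091 : nd 14091 = n30018 := ndS (p := 12074) (l := 9) rfl N12074 D30018
theorem N14092 : nd 14092 = n30019 := ndS (p := 12076) (l := 9) rfl N12076 D30019
theorem N14093 : nd 14093 = n30020 := ndS (p := 12078) (l := 9) rfl N12078 D30020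
theorem N14094 : nd 14094 = n30021 := ndS (p := 12080) (l := 9) rfl N12080 D30021
theorem N14095 : nd 14095 = n30022 := ndS (p := 12084) (l := 1) rfl N12084 D30022
theorem N14096 : nd 14096 = n30023 := ndS (p := 12084) (l := 6) rfl N12084 D30023
theorem N14097 : nd 14097 = n30024 := ndS (p := 12085) (l := 5) rfl N12085 D30024
theorem N14098 : nd 14098 = n30025 := ndS (p := 12085) (l := 7) rfl N12085 D30025
theorem N14099 : nd 14099 = n30026 := ndS (p := 12086) (l := 7) rfl N12086 D30026
theorem N14100 : nd 14100 = n30027 := ndS (p := 12088) (l := 1) rfl N12088 D30027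
theorem N14101 : nd 14101 = n30028 := ndS (p := 12088) (l := 6) rfl N12088 D30028
theorem N14102 : nd 14102 = n30029 := ndS (p := 12089) (l := 5) rfl N12089 D30029
theorem N14103 : nd 14103 = n30030 := ndS (p := 12090) (l := 8) rfl N12090 D30030
theorem N14104 : nd 14104 = n30031 := ndS (p := 12092) (l := 5) rfl N12092 D30031
theorem N14105 : nd 14105 = n30032 := ndS (p := 12096) (l := 4) rfl N12096 D30032
theorem N14106 : nd 14106 = n30033 := ndS (p := 12096) (l := 8) rfl N12096 D30033
theorem N14107 : nd 14107 = n30034 := ndS (p := 12097) (l := 9) rfl N12097 D30034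
theorem N14108 : nd 14108 = n30035 := ndS (p := 12098) (l := 1) rfl N12098 D30035
theorem N14109 : nd 14109 = n30036 := ndS (p := 12098) (l := 6) rfl N12098 D30036
theorem N14110 : nd 14110 = n30037 := ndS (p := 12099) (l := 5) rfl N12099 D30037
theorem N14111 : nd 14111 = n30038 := ndS (p := 12099) (l := 7) rfl N12099 D30038
theorem N14112 : nd 14112 = n30039 := ndS (p := 12100) (l := 7) rfl N12100 D30039
theorem N14113 : nd 14113 = n30040 := ndS (p := 12100) (l := 8) rfl N12100 D30040
theorem N14114 : nd 14114 = n30041 := ndS (p := 12102) (l := 6) rfl N12102 D30041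
theorem N14115 : nd 14115 = n30042 := ndS (p := 12103) (l := 5) rfl N12103 D30042
theorem N14116 : nd 14116 = n30043 := ndS (p := 12103) (l := 7) rfl N12103 D30043
theorem N14117 : nd 14117 = n30044 := ndS (p := 12104) (l := 7) rfl N12104 D30044
theorem N14118 : nd 14118 = n30045 := ndS (p := 12104) (l := 8) rfl N12104 D30045
theorem N14119 : nd 14119 = n30046 := ndS (p := 12106) (l := 0) rfl N12106 D30046
theorem N14120 : nd 14120 = n30047 := ndS (p := 12106) (l := 6) rfl N12106 D30047
theorem N14121 : nd 14121 = n30048 := ndS (p := 12107) (l := 5) rfl N12107 D30048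
theorem N14122 : nd 14122 = n30049 := ndS (p := 12107) (l := 7) rfl N12107 D30049
theorem N14123 : nd 14123 = n30050 := ndS (p := 12108) (l := 4) rfl N12108 D30050
theorem N14124 : nd 14124 = n30051 := ndS (p := 12108) (l := 7) rfl N12108 D30051
theorem N14125 : nd 14125 = n30052 := ndS (p := 12108) (l := 8) rfl N12108 D30052
theorem N14126 : nd 14126 = n30053 := ndS (p := 12110) (l := 6) rfl N12110 D30053
theorem N14127 : nd 14127 = n30054 := ndS (p := 12110) (l := 8) rfl N12110 D30054
theorem N14128 : nd 14128 = n30055 := ndS (p := 12111) (l := 9) rfl N12111 D30055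
theorem N14129 : nd 14129 = n30056 := ndS (p := 12112) (l := 8) rfl N12112 D30056
theorem N14130 : nd 14130 = n30057 := ndS (p := 12116) (l := 5) rfl N12116 D30057
theorem N14131 : nd 14131 = n30058 := ndS (p := 12117) (l := 4) rfl N12117 D30058
theorem N14132 : nd 14132 = n30059 := ndS (p := 12117) (l := 8) rfl N12117 D30059
theorem N14133 : nd 14133 = n30060 := ndS (p := 12118) (l := 7) rfl N12118 D30060
theorem N14134 : nd 14134 = n30061 := ndS (p := 12118) (l := 8) rfl N12118 D30061
theorem N14135 : nd 14135 = n30062 := ndS (p := 12119) (l := 6) rfl N12119 D30062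
theorem N14136 : nd 14136 = n30063 := ndS (p := 12120) (l := 9) rfl N12120 D30063
theorem N14137 : nd 14137 = n30064 := ndS (p := 12123) (l := 8) rfl N12123 D30064
theorem N14138 : nd 14138 = n30065 := ndS (p := 12124) (l := 8) rfl N12124 D30065
theorem N14139 : nd 14139 = n30066 := ndS (p := 12125) (l := 9) rfl N12125 D30066
theorem N14140 : nd 14140 = n30067 := ndS (p := 12128) (l := 4) rfl N12128 D30067
theorem N14141 : nd 14141 = n30068 := ndS (p := 12128) (l := 8) rfl N12128 D30068
theorem N14142 : nd 14142 = n30069 := ndS (p := 12129) (l := 8) rfl N12129 D30069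
theorem N14143 : nd 14143 = n30070 := ndS (p := 12130) (l := 9) rfl N12130 D30070
theorem N14144 : nd 14144 = n30071 := ndS (p := 12131) (l := 5) rfl N12131 D30071
theorem N14145 : nd 14145 = n30072 := ndS (p := 12133) (l := 6) rfl N12133 D30072
theorem N14146 : nd 14146 = n30073 := ndS (p := 12134) (l := 6) rfl N12134 D30073
theorem N14147 : nd 14147 = n30074 := ndS (p := 12135) (l := 5) rfl N12135 D30074
theorem N14148 : nd 14148 = n30075 := ndS (p := 12135) (l := 7) rfl N12135 D30075
theorem N14149 : nd 14149 = n30076 := ndS (p := 12136) (l := 4) rfl N12136 D30076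
theorem N14150 : nd 14150 = n30077 := ndS (p := 12136) (l := 7) rfl N12136 D30077
theorem N14151 : nd 14151 = n30078 := ndS (p := 12136) (l := 8) rfl N12136 D30078
theorem N14152 : nd 14152 = n30079 := ndS (p := 12138) (l := 6) rfl N12138 D30079
theorem N14153 : nd 14153 = n30080 := ndS (p := 12138) (l := 8) rfl N12138 D30080
theorem N14154 : nd 14154 = n30081 := ndS (p := 12139) (l := 9) rfl N12139 D30081
theorem N14155 : nd 14155 = n30082 := ndS (p := 12140) (l := 7) rfl N12140 D30082
theorem N14156 : nd 14156 = n30083 := ndS (p := 12141) (l := 7) rfl N12141 D30083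
theorem N14157 : nd 14157 = n30084 := ndS (p := 12141) (l := 8) rfl N12141 D30084
theorem N14158 : nd 14158 = n30085 := ndS (p := 12143) (l := 8) rfl N12143 D30085
theorem N14159 : nd 14159 = n30086 := ndS (p := 12145) (l := 5) rfl N12145 D30086
theorem N14160 : nd 14160 = n30087 := ndS (p := 12145) (l := 7) rfl N12145 D30087
theorem N14161 : nd 14161 = n30088 := ndS (p := 12146) (l := 7) rfl N12146 D30088
theorem N14162 : nd 14162 = n30089 := ndS (p := 12146) (l := 8) rfl N12146 D30089
theorem N14163 : nd 14163 = n30090 := ndS (p := 12148) (l := 7) rfl N12148 D30090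
theorem N14164 : nd 14164 = n30091 := ndS (p := 12148) (l := 8) rfl N12148 D30091
theorem N14165 : nd 14165 = n30092 := ndS (p := 12149) (l := 6) rfl N12149 D30092
theorem N14166 : nd 14166 = n30093 := ndS (p := 12149) (l := 8) rfl N12149 D30093
theorem N14167 : nd 14167 = n30094 := ndS (p := 12150) (l := 9) rfl N12150 D30094
theorem N14168 : nd 14168 = n30095 := ndS (p := 12151) (l := 8) rfl N12151 D30095
theorem N14169 : nd 14169 = n30096 := ndS (p := 12152) (l := 9) rfl N12152 D30096
theorem N14170 : nd 14170 = n30097 := ndS (p := 12155) (l := 8) rfl N12155 D30097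
theorem N14171 : nd 14171 = n30098 := ndS (p := 12156) (l := 8) rfl N12156 D30098
theorem N14172 : nd 14172 = n30099 := ndS (p := 12157) (l := 9) rfl N12157 D30099
theorem N14173 : nd 14173 = n30100 := ndS (p := 12158) (l := 6) rfl N12158 D30100
theorem N14174 : nd 14174 = n30101 := ndS (p := 12158) (l := 8) rfl N12158 D30101
theorem N14175 : nd 14175 = n30102 := ndS (p := 12159) (l := 5) rfl N12159 D30102
theorem N14176 : nd 14176 = n30103 := ndS (p := 12159) (l := 9) rfl N12159 D30103
theorem N14177 : nd 14177 = n30104 := ndS (p := 12160) (l := 8) rfl N12160 D30104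
theorem N14178 : nd 14178 = n30105 := ndS (p := 12163) (l := 5) rfl N12163 D30105
theorem N14179 : nd 14179 = n30106 := ndS (p := 12165) (l := 8) rfl N12165 D30106
theorem N14180 : nd 14180 = n30107 := ndS (p := 12168) (l := 5) rfl N12168 D30107
theorem N14181 : nd 14181 = n30108 := ndS (p := 12169) (l := 8) rfl N12169 D30108
theorem N14182 : nd 14182 = n30109 := ndS (p := 12170) (l := 9) rfl N12170 D30109
theorem N14183 : nd 14183 = n30110 := ndS (p := 12172) (l := 5) rfl N12172 D30110
theorem N14184 : nd 14184 = n30111 := ndS (p := 12173) (l := 8) rfl N12173 D30111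
theorem N14185 : nd 14185 = n30112 := ndS (p := 12176) (l := 6) rfl N12176 D30112
theorem N14186 : nd 14186 = n30113 := ndS (p := 12177) (l := 5) rfl N12177 D30113
theorem N14187 : nd 14187 = n30114 := ndS (p := 12178) (l := 4) rfl N12178 D30114
theorem N14188 : nd 14188 = n30115 := ndS (p := 12179) (l := 7) rfl N12179 D30115
theorem N14189 : nd 14189 = n30116 := ndS (p := 12180) (l := 3) rfl N12180 D30116
theorem N14190 : nd 14190 = n30117 := ndS (p := 12183) (l := 7) rfl N12183 D30117
theorem N14191 : nd 14191 = n30118 := ndS (p := 12183) (l := 8) rfl N12183 D30118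
theorem N14192 : nd 14192 = n30119 := ndS (p := 12185) (l := 8) rfl N12185 D30119
theorem N14193 : nd 14193 = n30120 := ndS (p := 12186) (l := 9) rfl N12186 D30120
theorem N14194 : nd 14194 = n30121 := ndS (p := 12187) (l := 5) rfl N12187 D30121
theorem N14195 : nd 14195 = n30122 := ndS (p := 12188) (l := 9) rfl N12188 D30122
theorem N14196 : nd 14196 = n30123 := ndS (p := 12190) (l := 5) rfl N12190 D30123
theorem N14197 : nd 14197 = n30124 := ndS (p := 12190) (l := 9) rfl N12190 D30124
theorem N14198 : nd 14198 = n30125 := ndS (p := 12193) (l := 9) rfl N12193 D30125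
theorem N14199 : nd 14199 = n30126 := ndS (p := 12196) (l := 4) rfl N12196 D30126
theorem N14200 : nd 14200 = n30127 := ndS (p := 12196) (l := 9) rfl N12196 D30127
theorem N14201 : nd 14201 = n30128 := ndS (p := 12198) (l := 4) rfl N12198 D30128
theorem N14202 : nd 14202 = n30129 := ndS (p := 12200) (l := 5) rfl N12200 D30129
theorem N14203 : nd 14203 = n30130 := ndS (p := 12200) (l := 9) rfl N12200 D30130
theorem N14204 : nd 14204 = n30131 := ndS (p := 12202) (l := 9) rfl N12202 D30131
theorem N14205 : nd 14205 = n30132 := ndS (p := 12219) (l := 8) rfl N12219 D30132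
theorem N14206 : nd 14206 = n30133 := ndS (p := 12221) (l := 1) rfl N12221 D30133
theorem N14207 : nd 14207 = n30134 := ndS (p := 12221) (l := 6) rfl N12221 D30134
theorem N14208 : nd 14208 = n30135 := ndS (p := 12222) (l := 5) rfl N12222 D30135
theorem N14209 : nd 14209 = n30136 := ndS (p := 12222) (l := 7) rfl N12222 D30136
theorem N14210 : nd 14210 = n30137 := ndS (p := 12223) (l := 7) rfl N12223 D30137
theorem N14211 : nd 14211 = n30138 := ndS (p := 12223) (l := 8) rfl N12223 D30138
theorem N14212 : nd 14212 = n30139 := ndS (p := 12225) (l := 6) rfl N12225 D30139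
theorem N14213 : nd 14213 = n30140 := ndS (p := 12226) (l := 5) rfl N12226 D30140
theorem N14214 : nd 14214 = n30141 := ndS (p := 12226) (l := 7) rfl N12226 D30141
theorem N14215 : nd 14215 = n30142 := ndS (p := 12227) (l := 4) rfl N12227 D30142
theorem N14216 : nd 14216 = n30143 := ndS (p := 12227) (l := 7) rfl N12227 D30143
theorem N14217 : nd 14217 = n30144 := ndS (p := 12227) (l := 8) rfl N12227 D30144
theorem N14218 : nd 14218 = n30145 := ndS (p := 12229) (l := 8) rfl N12229 D30145
theorem N14219 : nd 14219 = n30146 := ndS (p := 12230) (l := 9) rfl N12230 D30146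
theorem N14220 : nd 14220 = n30147 := ndS (p := 12231) (l := 7) rfl N12231 D30147
theorem N14221 : nd 14221 = n30148 := ndS (p := 12231) (l := 8) rfl N12231 D30148
theorem N14222 : nd 14222 = n30149 := ndS (p := 12232) (l := 8) rfl N12232 D30149
theorem N14223 : nd 14223 = n30150 := ndS (p := 12233) (l := 9) rfl N12233 D30150
theorem N14224 : nd 14224 = n30151 := ndS (p := 12234) (l := 8) rfl N12234 D30151
theorem N14225 : nd 14225 = n30152 := ndS (p := 12235) (l := 9) rfl N12235 D30152
theorem N14226 : nd 14226 = n30153 := ndS (p := 12237) (l := 5) rfl N12237 D30153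
theorem N14227 : nd 14227 = n30154 := ndS (p := 12237) (l := 7) rfl N12237 D30154
theorem N14228 : nd 14228 = n30155 := ndS (p := 12238) (l := 7) rfl N12238 D30155
theorem N14229 : nd 14229 = n30156 := ndS (p := 12240) (l := 5) rfl N12240 D30156
theorem N14230 : nd 14230 = n30157 := ndS (p := 12240) (l := 7) rfl N12240 D30157
theorem N14231 : nd 14231 = n30158 := ndS (p := 12241) (l := 7) rfl N12241 D30158
theorem N14232 : nd 14232 = n30159 := ndS (p := 12243) (l := 6) rfl N12243 D30159
theorem N14233 : nd 14233 = n30160 := ndS (p := 12244) (l := 5) rfl N12244 D30160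
theorem N14234 : nd 14234 = n30161 := ndS (p := 12244) (l := 7) rfl N12244 D30161
theorem N14235 : nd 14235 = n30162 := ndS (p := 12245) (l := 4) rfl N12245 D30162
theorem N14236 : nd 14236 = n30163 := ndS (p := 12245) (l := 7) rfl N12245 D30163
theorem N14237 : nd 14237 = n30164 := ndS (p := 12245) (l := 8) rfl N12245 D30164
theorem N14238 : nd 14238 = n30165 := ndS (p := 12247) (l := 6) rfl N12247 D30165
theorem N14239 : nd 14239 = n30166 := ndS (p := 12247) (l := 8) rfl N12247 D30166
theorem N14240 : nd 14240 = n30167 := ndS (p := 12248) (l := 9) rfl N12248 D30167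
theorem N14241 : nd 14241 = n30168 := ndS (p := 12250) (l := 7) rfl N12250 D30168
theorem N14242 : nd 14242 = n30169 := ndS (p := 12252) (l := 7) rfl N12252 D30169
theorem N14243 : nd 14243 = n30170 := ndS (p := 12252) (l := 8) rfl N12252 D30170
theorem N14244 : nd 14244 = n30171 := ndS (p := 12253) (l := 8) rfl N12253 D30171
theorem N14245 : nd 14245 = n30172 := ndS (p := 12254) (l := 9) rfl N12254 D30172
theorem N14246 : nd 14246 = n30173 := ndS (p := 12255) (l := 9) rfl N12255 D30173
theorem N14247 : nd 14247 = n30174 := ndS (p := 12257) (l := 8) rfl N12257 D30174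
theorem N14248 : nd 14248 = n30175 := ndS (p := 12258) (l := 5) rfl N12258 D30175
theorem N14249 : nd 14249 = n30176 := ndS (p := 12258) (l := 9) rfl N12258 D30176
theorem N14250 : nd 14250 = n30177 := ndS (p := 12259) (l := 9) rfl N12259 D30177
theorem N14251 : nd 14251 = n30178 := ndS (p := 12261) (l := 5) rfl N12261 D30178
theorem N14252 : nd 14252 = n30179 := ndS (p := 12261) (l := 9) rfl N12261 D30179
theorem N14253 : nd 14253 = n30180 := ndS (p := 12263) (l := 6) rfl N12263 D30180
theorem N14254 : nd 14254 = n30181 := ndS (p := 12264) (l := 6) rfl N12264 D30181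
theorem N14255 : nd 14255 = n30182 := ndS (p := 12265) (l := 5) rfl N12265 D30182
theorem N14256 : nd 14256 = n30183 := ndS (p := 12265) (l := 7) rfl N12265 D30183
theorem N14257 : nd 14257 = n30184 := ndS (p := 12266) (l := 4) rfl N12266 D30184
theorem N14258 : nd 14258 = n30185 := ndS (p := 12266) (l := 7) rfl N12266 D30185
theorem N14259 : nd 14259 = n30186 := ndS (p := 12268) (l := 7) rfl N12268 D30186
theorem N14260 : nd 14260 = n30187 := ndS (p := 12269) (l := 6) rfl N12269 D30187
theorem N14261 : nd 14261 = n30188 := ndS (p := 12270) (l := 8) rfl N12270 D30188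
theorem N14262 : nd 14262 = n30189 := ndS (p := 12271) (l := 9) rfl N12271 D30189
theorem N14263 : nd 14263 = n30190 := ndS (p := 12275) (l := 4) rfl N12275 D30190
theorem N14264 : nd 14264 = n30191 := ndS (p := 12275) (l := 9) rfl N12275 D30191
theorem N14265 : nd 14265 = n30192 := ndS (p := 12278) (l := 7) rfl N12278 D30192
theorem N14266 : nd 14266 = n30193 := ndS (p := 12279) (l := 6) rfl N12279 D30193
theorem N14267 : nd 14267 = n30194 := ndS (p := 12280) (l := 8) rfl N12280 D30194
theorem N14268 : nd 14268 = n30195 := ndS (p := 12282) (l := 5) rfl N12282 D30195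
theorem N14269 : nd 14269 = n30196 := ndS (p := 12283) (l := 4) rfl N12283 D30196
theorem N14270 : nd 14270 = n30197 := ndS (p := 12283) (l := 7) rfl N12283 D30197
theorem N14271 : nd 14271 = n30198 := ndS (p := 12285) (l := 3) rfl N12285 D30198
theorem N14272 : nd 14272 = n30199 := ndS (p := 12285) (l := 7) rfl N12285 D30199
theorem N14273 : nd 14273 = n30200 := ndS (p := 12286) (l := 6) rfl N12286 D30200
theorem N14274 : nd 14274 = n30201 := ndS (p := 12287) (l := 6) rfl N12287 D30201
theorem N14275 : nd 14275 = n30202 := ndS (p := 12289) (l := 5) rfl N12289 D30202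
theorem N14276 : nd 14276 = n30203 := ndS (p := 12289) (l := 7) rfl N12289 D30203
theorem N14277 : nd 14277 = n30204 := ndS (p := 12290) (l := 7) rfl N12290 D30204
theorem N14278 : nd 14278 = n30205 := ndS (p := 12290) (l := 8) rfl N12290 D30205
theorem N14279 : nd 14279 = n30206 := ndS (p := 12292) (l := 7) rfl N12292 D30206
theorem N14280 : nd 14280 = n30207 := ndS (p := 12292) (l := 8) rfl N12292 D30207
theorem N14281 : nd 14281 = n30208 := ndS (p := 12294) (l := 6) rfl N12294 D30208
theorem N14282 : nd 14282 = n30209 := ndS (p := 12294) (l := 8) rfl N12294 D30209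
theorem N14283 : nd 14283 = n30210 := ndS (p := 12295) (l := 9) rfl N12295 D30210
theorem N14284 : nd 14284 = n30211 := ndS (p := 12296) (l := 6) rfl N12296 D30211
theorem N14285 : nd 14285 = n30212 := ndS (p := 12296) (l := 8) rfl N12296 D30212
theorem N14286 : nd 14286 = n30213 := ndS (p := 12297) (l := 9) rfl N12297 D30213
theorem N14287 : nd 14287 = n30214 := ndS (p := 12298) (l := 8) rfl N12298 D30214
theorem N14288 : nd 14288 = n30215 := ndS (p := 12299) (l := 9) rfl N12299 D30215
theorem N14289 : nd 14289 = n30216 := ndS (p := 12301) (l := 1) rfl N12301 D30216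
theorem N14290 : nd 14290 = n30217 := ndS (p := 12301) (l := 6) rfl N12301 D30217
theorem N14291 : nd 14291 = n30218 := ndS (p := 12302) (l := 5) rfl N12302 D30218
theorem N14292 : nd 14292 = n30219 := ndS (p := 12302) (l := 7) rfl N12302 D30219
theorem N14293 : nd 14293 = n30220 := ndS (p := 12303) (l := 7) rfl N12303 D30220
theorem N14294 : nd 14294 = n30221 := ndS (p := 12303) (l := 8) rfl N12303 D30221
theorem N14295 : nd 14295 = n30222 := ndS (p := 12305) (l := 6) rfl N12305 D30222
theorem N14296 : nd 14296 = n30223 := ndS (p := 12306) (l := 5) rfl N12306 D30223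
theorem N14297 : nd 14297 = n30224 := ndS (p := 12306) (l := 7) rfl N12306 D30224
theorem N14298 : nd 14298 = n30225 := ndS (p := 12307) (l := 4) rfl N12307 D30225
theorem N14299 : nd 14299 = n30226 := ndS (p := 12307) (l := 7) rfl N12307 D30226
theorem N14300 : nd 14300 = n30227 := ndS (p := 12307) (l := 8) rfl N12307 D30227
theorem N14301 : nd 14301 = n30228 := ndS (p := 12309) (l := 6) rfl N12309 D30228
theorem N14302 : nd 14302 = n30229 := ndS (p := 12309) (l := 8) rfl N12309 D30229
theorem N14303 : nd 14303 = n30230 := ndS (p := 12310) (l := 9) rfl N12310 D30230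
theorem N14304 : nd 14304 = n30231 := ndS (p := 12311) (l := 7) rfl N12311 D30231
theorem N14305 : nd 14305 = n30232 := ndS (p := 12313) (l := 6) rfl N12313 D30232
theorem N14306 : nd 14306 = n30233 := ndS (p := 12313) (l := 8) rfl N12313 D30233
theorem N14307 : nd 14307 = n30234 := ndS (p := 12314) (l := 9) rfl N12314 D30234
theorem N14308 : nd 14308 = n30235 := ndS (p := 12315) (l := 8) rfl N12315 D30235
theorem N14309 : nd 14309 = n30236 := ndS (p := 12316) (l := 9) rfl N12316 D30236
theorem N14310 : nd 14310 = n30237 := ndS (p := 12318) (l := 8) rfl N12318 D30237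
theorem N14311 : nd 14311 = n30238 := ndS (p := 12319) (l := 9) rfl N12319 D30238
theorem N14312 : nd 14312 = n30239 := ndS (p := 12321) (l := 5) rfl N12321 D30239
theorem N14313 : nd 14313 = n30240 := ndS (p := 12321) (l := 9) rfl N12321 D30240
theorem N14314 : nd 14314 = n30241 := ndS (p := 12323) (l := 1) rfl N12323 D30241
theorem N14315 : nd 14315 = n30242 := ndS (p := 12323) (l := 6) rfl N12323 D30242
theorem N14316 : nd 14316 = n30243 := ndS (p := 12324) (l := 5) rfl N12324 D30243
theorem N14317 : nd 14317 = n30244 := ndS (p := 12324) (l := 7) rfl N12324 D30244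
theorem N14318 : nd 14318 = n30245 := ndS (p := 12325) (l := 7) rfl N12325 D30245
theorem N14319 : nd 14319 = n30246 := ndS (p := 12325) (l := 8) rfl N12325 D30246
theorem N14320 : nd 14320 = n30247 := ndS (p := 12327) (l := 6) rfl N12327 D30247
theorem N14321 : nd 14321 = n30248 := ndS (p := 12328) (l := 5) rfl N12328 D30248
theorem N14322 : nd 14322 = n30249 := ndS (p := 12328) (l := 7) rfl N12328 D30249
theorem N14323 : nd 14323 = n30250 := ndS (p := 12329) (l := 4) rfl N12329 D30250
theorem N14324 : nd 14324 = n30251 := ndS (p := 12329) (l := 7) rfl N12329 D30251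
theorem N14325 : nd 14325 = n30252 := ndS (p := 12329) (l := 8) rfl N12329 D30252
theorem N14326 : nd 14326 = n30253 := ndS (p := 12331) (l := 6) rfl N12331 D30253
theorem N14327 : nd 14327 = n30254 := ndS (p := 12331) (l := 8) rfl N12331 D30254
theorem N14328 : nd 14328 = n30255 := ndS (p := 12332) (l := 9) rfl N12332 D30255
theorem N14329 : nd 14329 = n30256 := ndS (p := 12333) (l := 5) rfl N12333 D30256
theorem N14330 : nd 14330 = n30257 := ndS (p := 12333) (l := 7) rfl N12333 D30257
theorem N14331 : nd 14331 = n30258 := ndS (p := 12334) (l := 4) rfl N12334 D30258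
theorem N14332 : nd 14332 = n30259 := ndS (p := 12334) (l := 7) rfl N12334 D30259
theorem N14333 : nd 14333 = n30260 := ndS (p := 12334) (l := 8) rfl N12334 D30260
theorem N14334 : nd 14334 = n30261 := ndS (p := 12336) (l := 7) rfl N12336 D30261
theorem N14335 : nd 14335 = n30262 := ndS (p := 12336) (l := 8) rfl N12336 D30262
theorem N14336 : nd 14336 = n30263 := ndS (p := 12337) (l := 6) rfl N12337 D30263
theorem N14337 : nd 14337 = n30264 := ndS (p := 12337) (l := 8) rfl N12337 D30264
theorem N14338 : nd 14338 = n30265 := ndS (p := 12338) (l := 9) rfl N12338 D30265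
theorem N14339 : nd 14339 = n30266 := ndS (p := 12339) (l := 8) rfl N12339 D30266
theorem N14340 : nd 14340 = n30267 := ndS (p := 12340) (l := 9) rfl N12340 D30267
theorem N14341 : nd 14341 = n30268 := ndS (p := 12342) (l := 7) rfl N12342 D30268
theorem N14342 : nd 14342 = n30269 := ndS (p := 12342) (l := 8) rfl N12342 D30269
theorem N14343 : nd 14343 = n30270 := ndS (p := 12344) (l := 7) rfl N12344 D30270
theorem N14344 : nd 14344 = n30271 := ndS (p := 12344) (l := 8) rfl N12344 D30271
theorem N14345 : nd 14345 = n30272 := ndS (p := 12345) (l := 6) rfl N12345 D30272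
theorem N14346 : nd 14346 = n30273 := ndS (p := 12345) (l := 8) rfl N12345 D30273
theorem N14347 : nd 14347 = n30274 := ndS (p := 12346) (l := 9) rfl N12346 D30274
theorem N14348 : nd 14348 = n30275 := ndS (p := 12347) (l := 6) rfl N12347 D30275
theorem N14349 : nd 14349 = n30276 := ndS (p := 12347) (l := 8) rfl N12347 D30276
theorem N14350 : nd 14350 = n30277 := ndS (p := 12348) (l := 5) rfl N12348 D30277
theorem N14351 : nd 14351 = n30278 := ndS (p := 12348) (l := 9) rfl N12348 D30278
theorem N14352 : nd 14352 = n30279 := ndS (p := 12349) (l := 8) rfl N12349 D30279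
theorem N14353 : nd 14353 = n30280 := ndS (p := 12350) (l := 9) rfl N12350 D30280
theorem N14354 : nd 14354 = n30281 := ndS (p := 12352) (l := 5) rfl N12352 D30281
theorem N14355 : nd 14355 = n30282 := ndS (p := 12352) (l := 9) rfl N12352 D30282
theorem N14356 : nd 14356 = n30283 := ndS (p := 12354) (l := 5) rfl N12354 D30283
theorem N14357 : nd 14357 = n30284 := ndS (p := 12354) (l := 8) rfl N12354 D30284
theorem N14358 : nd 14358 = n30285 := ndS (p := 12355) (l := 5) rfl N12355 D30285
theorem N14359 : nd 14359 = n30286 := ndS (p := 12355) (l := 9) rfl N12355 D30286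
theorem N14360 : nd 14360 = n30287 := ndS (p := 12356) (l := 6) rfl N12356 D30287
theorem N14361 : nd 14361 = n30288 := ndS (p := 12356) (l := 9) rfl N12356 D30288
theorem N14362 : nd 14362 = n30289 := ndS (p := 12358) (l := 5) rfl N12358 D30289
theorem N14363 : nd 14363 = n30290 := ndS (p := 12358) (l := 9) rfl N12358 D30290
theorem N14364 : nd 14364 = n30291 := ndS (p := 12360) (l := 4) rfl N12360 D30291
theorem N14365 : nd 14365 = n30292 := ndS (p := 12360) (l := 9) rfl N12360 D30292
theorem N14366 : nd 14366 = n30293 := ndS (p := 12362) (l := 5) rfl N12362 D30293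
theorem N14367 : nd 14367 = n30294 := ndS (p := 12362) (l := 7) rfl N12362 D30294
theorem N14368 : nd 14368 = n30295 := ndS (p := 12363) (l := 4) rfl N12363 D30295
theorem N14369 : nd 14369 = n30296 := ndS (p := 12363) (l := 7) rfl N12363 D30296
theorem N14370 : nd 14370 = n30297 := ndS (p := 12363) (l := 8) rfl N12363 D30297
theorem N14371 : nd 14371 = n30298 := ndS (p := 12365) (l := 7) rfl N12365 D30298
theorem N14372 : nd 14372 = n30299 := ndS (p := 12366) (l := 6) rfl N12366 D30299
theorem N14373 : nd 14373 = n30300 := ndS (p := 12366) (l := 8) rfl N12366 D30300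
theorem N14374 : nd 14374 = n30301 := ndS (p := 12368) (l := 8) rfl N12368 D30301
theorem N14375 : nd 14375 = n30302 := ndS (p := 12369) (l := 9) rfl N12369 D30302
theorem N14376 : nd 14376 = n30303 := ndS (p := 12371) (l := 4) rfl N12371 D30303
theorem N14377 : nd 14377 = n30304 := ndS (p := 12371) (l := 7) rfl N12371 D30304
theorem N14378 : nd 14378 = n30305 := ndS (p := 12371) (l := 8) rfl N12371 D30305
theorem N14379 : nd 14379 = n30306 := ndS (p := 12373) (l := 3) rfl N12373 D30306
theorem N14380 : nd 14380 = n30307 := ndS (p := 12373) (l := 7) rfl N12373 D30307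
theorem N14381 : nd 14381 = n30308 := ndS (p := 12373) (l := 8) rfl N12373 D30308
theorem N14382 : nd 14382 = n30309 := ndS (p := 12374) (l := 6) rfl N12374 D30309
theorem N14383 : nd 14383 = n30310 := ndS (p := 12374) (l := 8) rfl N12374 D30310
theorem N14384 : nd 14384 = n30311 := ndS (p := 12375) (l := 9) rfl N12375 D30311
theorem N14385 : nd 14385 = n30312 := ndS (p := 12376) (l := 6) rfl N12376 D30312
theorem N14386 : nd 14386 = n30313 := ndS (p := 12376) (l := 8) rfl N12376 D30313
theorem N14387 : nd 14387 = n30314 := ndS (p := 12378) (l := 8) rfl N12378 D30314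
theorem N14388 : nd 14388 = n30315 := ndS (p := 12379) (l := 9) rfl N12379 D30315
theorem N14389 : nd 14389 = n30316 := ndS (p := 12381) (l := 5) rfl N12381 D30316
theorem N14390 : nd 14390 = n30317 := ndS (p := 12381) (l := 9) rfl N12381 D30317
theorem N14391 : nd 14391 = n30318 := ndS (p := 12383) (l := 8) rfl N12383 D30318
theorem N14392 : nd 14392 = n30319 := ndS (p := 12385) (l := 8) rfl N12385 D30319
theorem N14393 : nd 14393 = n30320 := ndS (p := 12386) (l := 9) rfl N12386 D30320
theorem N14394 : nd 14394 = n30321 := ndS (p := 12388) (l := 5) rfl N12388 D30321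
theorem N14395 : nd 14395 = n30322 := ndS (p := 12388) (l := 9) rfl N12388 D30322
theorem N14396 : nd 14396 = n30323 := ndS (p := 12390) (l := 4) rfl N12390 D30323
theorem N14397 : nd 14397 = n30324 := ndS (p := 12390) (l := 9) rfl N12390 D30324
theorem N14398 : nd 14398 = n30325 := ndS (p := 12392) (l := 3) rfl N12392 D30325
theorem N14399 : nd 14399 = n30326 := ndS (p := 12392) (l := 9) rfl N12392 D30326
theorem N14400 : nd 14400 = n30327 := ndS (p := 12393) (l := 8) rfl N12393 D30327
theorem N14401 : nd 14401 = n30328 := ndS (p := 12394) (l := 3) rfl N12394 D30328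
theorem N14402 : nd 14402 = n30329 := ndS (p := 12394) (l := 7) rfl N12394 D30329
theorem N14403 : nd 14403 = n30330 := ndS (p := 12395) (l := 6) rfl N12395 D30330
theorem N14404 : nd 14404 = n30331 := ndS (p := 12396) (l := 7) rfl N12396 D30331
theorem N14405 : nd 14405 = n30332 := ndS (p := 12397) (l := 6) rfl N12397 D30332
theorem N14406 : nd 14406 = n30333 := ndS (p := 12399) (l := 5) rfl N12399 D30333
theorem N14407 : nd 14407 = n30334 := ndS (p := 12400) (l := 6) rfl N12400 D30334
theorem N14408 : nd 14408 = n30335 := ndS (p := 12400) (l := 8) rfl N12400 D30335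
theorem N14409 : nd 14409 = n30336 := ndS (p := 12401) (l := 9) rfl N12401 D30336
theorem N14410 : nd 14410 = n30337 := ndS (p := 12402) (l := 8) rfl N12402 D30337
theorem N14411 : nd 14411 = n30338 := ndS (p := 12403) (l := 9) rfl N12403 D30338
theorem N14412 : nd 14412 = n30339 := ndS (p := 12405) (l := 8) rfl N12405 D30339
theorem N14413 : nd 14413 = n30340 := ndS (p := 12406) (l := 9) rfl N12406 D30340
theorem N14414 : nd 14414 = n30341 := ndS (p := 12408) (l := 5) rfl N12408 D30341
theorem N14415 : nd 14415 = n30342 := ndS (p := 12408) (l := 9) rfl N12408 D30342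
theorem N14416 : nd 14416 = n30343 := ndS (p := 12411) (l := 8) rfl N12411 D30343
theorem N14417 : nd 14417 = n30344 := ndS (p := 12412) (l := 9) rfl N12412 D30344
theorem N14418 : nd 14418 = n30345 := ndS (p := 12414) (l := 9) rfl N12414 D30345
theorem N14419 : nd 14419 = n30346 := ndS (p := 12416) (l := 5) rfl N12416 D30346
theorem N14420 : nd 14420 = n30347 := ndS (p := 12416) (l := 9) rfl N12416 D30347
theorem N14421 : nd 14421 = n30348 := ndS (p := 12418) (l := 9) rfl N12418 D30348
theorem N14422 : nd 14422 = n30349 := ndS (p := 12420) (l := 6) rfl N12420 D30349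
theorem N14423 : nd 14423 = n30350 := ndS (p := 12421) (l := 6) rfl N12421 D30350
theorem N14424 : nd 14424 = n30351 := ndS (p := 12421) (l := 8) rfl N12421 D30351
theorem N14425 : nd 14425 = n30352 := ndS (p := 12422) (l := 9) rfl N12422 D30352
theorem N14426 : nd 14426 = n30353 := ndS (p := 12423) (l := 8) rfl N12423 D30353
theorem N14427 : nd 14427 = n30354 := ndS (p := 12424) (l := 9) rfl N12424 D30354
theorem N14428 : nd 14428 = n30355 := ndS (p := 12426) (l := 8) rfl N12426 D30355
theorem N14429 : nd 14429 = n30356 := ndS (p := 12427) (l := 9) rfl N12427 D30356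
theorem N14430 : nd 14430 = n30357 := ndS (p := 12429) (l := 5) rfl N12429 D30357
theorem N14431 : nd 14431 = n30358 := ndS (p := 12429) (l := 9) rfl N12429 D30358
theorem N14432 : nd 14432 = n30359 := ndS (p := 12431) (l := 9) rfl N12431 D30359
theorem N14433 : nd 14433 = n30360 := ndS (p := 12434) (l := 9) rfl N12434 D30360
theorem N14434 : nd 14434 = n30361 := ndS (p := 12436) (l := 9) rfl N12436 D30361
theorem N14435 : nd 14435 = n30362 := ndS (p := 12438) (l := 9) rfl N12438 D30362
theorem N14436 : nd 14436 = n30363 := ndS (p := 12439) (l := 8) rfl N12439 D30363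
theorem N14437 : nd 14437 = n30364 := ndS (p := 12440) (l := 9) rfl N12440 D30364
theorem N14438 : nd 14438 = n30365 := ndS (p := 12442) (l := 9) rfl N12442 D30365
theorem N14439 : nd 14439 = n30366 := ndS (p := 12444) (l := 3) rfl N12444 D30366
theorem N14440 : nd 14440 = n30367 := ndS (p := 12444) (l := 9) rfl N12444 D30367
theorem N14441 : nd 14441 = n30368 := ndS (p := 12445) (l := 8) rfl N12445 D30368
theorem N14442 : nd 14442 = n30369 := ndS (p := 12446) (l := 2) rfl N12446 D30369
theorem N14443 : nd 14443 = n30370 := ndS (p := 12446) (l := 9) rfl N12446 D30370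
theorem N14444 : nd 14444 = n30371 := ndS (p := 12447) (l := 8) rfl N12447 D30371
theorem N14445 : nd 14445 = n30372 := ndS (p := 12449) (l := 1) rfl N12449 D30372
theorem N14446 : nd 14446 = n30373 := ndS (p := 12449) (l := 6) rfl N12449 D30373
theorem N14447 : nd 14447 = n30374 := ndS (p := 12450) (l := 5) rfl N12450 D30374
theorem N14448 : nd 14448 = n30375 := ndS (p := 12450) (l := 7) rfl N12450 D30375
theorem N14449 : nd 14449 = n30376 := ndS (p := 12451) (l := 7) rfl N12451 D30376
theorem N14450 : nd 14450 = n30377 := ndS (p := 12453) (l := 6) rfl N12453 D30377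
theorem N14451 : nd 14451 = n30378 := ndS (p := 12454) (l := 5) rfl N12454 D30378
theorem N14452 : nd 14452 = n30379 := ndS (p := 12454) (l := 7) rfl N12454 D30379
theorem N14453 : nd 14453 = n30380 := ndS (p := 12455) (l := 4) rfl N12455 D30380
theorem N14454 : nd 14454 = n30381 := ndS (p := 12455) (l := 7) rfl N12455 D30381
theorem N14455 : nd 14455 = n30382 := ndS (p := 12457) (l := 6) rfl N12457 D30382
theorem N14456 : nd 14456 = n30383 := ndS (p := 12458) (l := 7) rfl N12458 D30383
theorem N14457 : nd 14457 = n30384 := ndS (p := 12459) (l := 6) rfl N12459 D30384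
theorem N14458 : nd 14458 = n30385 := ndS (p := 12461) (l := 1) rfl N12461 D30385
theorem N14459 : nd 14459 = n30386 := ndS (p := 12461) (l := 6) rfl N12461 D30386
theorem N14460 : nd 14460 = n30387 := ndS (p := 12462) (l := 5) rfl N12462 D30387
theorem N14461 : nd 14461 = n30388 := ndS (p := 12462) (l := 7) rfl N12462 D30388
theorem N14462 : nd 14462 = n30389 := ndS (p := 12463) (l := 7) rfl N12463 D30389
theorem N14463 : nd 14463 = n30390 := ndS (p := 12463) (l := 8) rfl N12463 D30390
theorem N14464 : nd 14464 = n30391 := ndS (p := 12465) (l := 1) rfl N12465 D30391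
theorem N14465 : nd 14465 = n30392 := ndS (p := 12465) (l := 6) rfl N12465 D30392
theorem N14466 : nd 14466 = n30393 := ndS (p := 12466) (l := 5) rfl N12466 D30393
theorem N14467 : nd 14467 = n30394 := ndS (p := 12466) (l := 7) rfl N12466 D30394
theorem N14468 : nd 14468 = n30395 := ndS (p := 12467) (l := 7) rfl N12467 D30395
theorem N14469 : nd 14469 = n30396 := ndS (p := 12467) (l := 8) rfl N12467 D30396
theorem N14470 : nd 14470 = n30397 := ndS (p := 12469) (l := 1) rfl N12469 D30397
theorem N14471 : nd 14471 = n30398 := ndS (p := 12469) (l := 6) rfl N12469 D30398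
theorem N14472 : nd 14472 = n30399 := ndS (p := 12470) (l := 5) rfl N12470 D30399
theorem N14473 : nd 14473 = n30400 := ndS (p := 12470) (l := 7) rfl N12470 D30400
theorem N14474 : nd 14474 = n30401 := ndS (p := 12471) (l := 7) rfl N12471 D30401
theorem N14475 : nd 14475 = n30402 := ndS (p := 12471) (l := 8) rfl N12471 D30402
theorem N14476 : nd 14476 = n30403 := ndS (p := 12473) (l := 0) rfl N12473 D30403
theorem N14477 : nd 14477 = n30404 := ndS (p := 12473) (l := 6) rfl N12473 D30404
theorem N14478 : nd 14478 = n30405 := ndS (p := 12474) (l := 5) rfl N12474 D30405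
theorem N14479 : nd 14479 = n30406 := ndS (p := 12474) (l := 7) rfl N12474 D30406
theorem N14480 : nd 14480 = n30407 := ndS (p := 12475) (l := 4) rfl N12475 D30407
theorem N14481 : nd 14481 = n30408 := ndS (p := 12475) (l := 7) rfl N12475 D30408
theorem N14482 : nd 14482 = n30409 := ndS (p := 12475) (l := 8) rfl N12475 D30409
theorem N14483 : nd 14483 = n30410 := ndS (p := 12477) (l := 6) rfl N12477 D30410
theorem N14484 : nd 14484 = n30411 := ndS (p := 12477) (l := 8) rfl N12477 D30411
theorem N14485 : nd 14485 = n30412 := ndS (p := 12479) (l := 0) rfl N12479 D30412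
theorem N14486 : nd 14486 = n30413 := ndS (p := 12479) (l := 6) rfl N12479 D30413
theorem N14487 : nd 14487 = n30414 := ndS (p := 12480) (l := 5) rfl N12480 D30414
theorem N14488 : nd 14488 = n30415 := ndS (p := 12480) (l := 7) rfl N12480 D30415
theorem N14489 : nd 14489 = n30416 := ndS (p := 12481) (l := 4) rfl N12481 D30416
theorem N14490 : nd 14490 = n30417 := ndS (p := 12481) (l := 7) rfl N12481 D30417
theorem N14491 : nd 14491 = n30418 := ndS (p := 12481) (l := 8) rfl N12481 D30418
theorem N14492 : nd 14492 = n30419 := ndS (p := 12483) (l := 6) rfl N12483 D30419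
theorem N14493 : nd 14493 = n30420 := ndS (p := 12483) (l := 8) rfl N12483 D30420
theorem N14494 : nd 14494 = n30421 := ndS (p := 12484) (l := 9) rfl N12484 D30421
theorem N14495 : nd 14495 = n30422 := ndS (p := 12485) (l := 6) rfl N12485 D30422
theorem N14496 : nd 14496 = n30423 := ndS (p := 12486) (l := 5) rfl N12486 D30423
theorem N14497 : nd 14497 = n30424 := ndS (p := 12486) (l := 7) rfl N12486 D30424
theorem N14498 : nd 14498 = n30425 := ndS (p := 12487) (l := 4) rfl N12487 D30425
theorem N14499 : nd 14499 = n30426 := ndS (p := 12487) (l := 7) rfl N12487 D30426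
theorem N14500 : nd 14500 = n30427 := ndS (p := 12487) (l := 8) rfl N12487 D30427
theorem N14501 : nd 14501 = n30428 := ndS (p := 12489) (l := 7) rfl N12489 D30428
theorem N14502 : nd 14502 = n30429 := ndS (p := 12490) (l := 6) rfl N12490 D30429
theorem N14503 : nd 14503 = n30430 := ndS (p := 12490) (l := 8) rfl N12490 D30430
theorem N14504 : nd 14504 = n30431 := ndS (p := 12492) (l := 8) rfl N12492 D30431
theorem N14505 : nd 14505 = n30432 := ndS (p := 12494) (l := 6) rfl N12494 D30432
theorem N14506 : nd 14506 = n30433 := ndS (p := 12497) (l := 1) rfl N12497 D30433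
theorem N14507 : nd 14507 = n30434 := ndS (p := 12497) (l := 6) rfl N12497 D30434
theorem N14508 : nd 14508 = n30435 := ndS (p := 12498) (l := 5) rfl N12498 D30435
theorem N14509 : nd 14509 = n30436 := ndS (p := 12498) (l := 7) rfl N12498 D30436
theorem N14510 : nd 14510 = n30437 := ndS (p := 12499) (l := 7) rfl N12499 D30437
theorem N14511 : nd 14511 = n30438 := ndS (p := 12499) (l := 8) rfl N12499 D30438
theorem N14512 : nd 14512 = n30439 := ndS (p := 12501) (l := 0) rfl N12501 D30439
theorem N14513 : nd 14513 = n30440 := ndS (p := 12501) (l := 6) rfl N12501 D30440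
theorem N14514 : nd 14514 = n30441 := ndS (p := 12502) (l := 5) rfl N12502 D30441
theorem N14515 : nd 14515 = n30442 := ndS (p := 12502) (l := 7) rfl N12502 D30442
theorem N14516 : nd 14516 = n30443 := ndS (p := 12503) (l := 4) rfl N12503 D30443
theorem N14517 : nd 14517 = n30444 := ndS (p := 12503) (l := 7) rfl N12503 D30444
theorem N14518 : nd 14518 = n30445 := ndS (p := 12503) (l := 8) rfl N12503 D30445
theorem N14519 : nd 14519 = n30446 := ndS (p := 12505) (l := 6) rfl N12505 D30446
theorem N14520 : nd 14520 = n30447 := ndS (p := 12505) (l := 8) rfl N12505 D30447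
theorem N14521 : nd 14521 = n30448 := ndS (p := 12506) (l := 9) rfl N12506 D30448
theorem N14522 : nd 14522 = n30449 := ndS (p := 12507) (l := 1) rfl N12507 D30449
theorem N14523 : nd 14523 = n30450 := ndS (p := 12507) (l := 6) rfl N12507 D30450
theorem N14524 : nd 14524 = n30451 := ndS (p := 12508) (l := 5) rfl N12508 D30451
theorem N14525 : nd 14525 = n30452 := ndS (p := 12508) (l := 7) rfl N12508 D30452
theorem N14526 : nd 14526 = n30453 := ndS (p := 12509) (l := 7) rfl N12509 D30453
theorem N14527 : nd 14527 = n30454 := ndS (p := 12509) (l := 8) rfl N12509 D30454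
theorem N14528 : nd 14528 = n30455 := ndS (p := 12511) (l := 0) rfl N12511 D30455
theorem N14529 : nd 14529 = n30456 := ndS (p := 12511) (l := 6) rfl N12511 D30456
theorem N14530 : nd 14530 = n30457 := ndS (p := 12512) (l := 5) rfl N12512 D30457
theorem N14531 : nd 14531 = n30458 := ndS (p := 12512) (l := 7) rfl N12512 D30458
theorem N14532 : nd 14532 = n30459 := ndS (p := 12513) (l := 4) rfl N12513 D30459
theorem N14533 : nd 14533 = n30460 := ndS (p := 12513) (l := 7) rfl N12513 D30460
theorem N14534 : nd 14534 = n30461 := ndS (p := 12513) (l := 8) rfl N12513 D30461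
theorem N14535 : nd 14535 = n30462 := ndS (p := 12515) (l := 6) rfl N12515 D30462
theorem N14536 : nd 14536 = n30463 := ndS (p := 12515) (l := 8) rfl N12515 D30463
theorem N14537 : nd 14537 = n30464 := ndS (p := 12516) (l := 9) rfl N12516 D30464
theorem N14538 : nd 14538 = n30465 := ndS (p := 12517) (l := 0) rfl N12517 D30465
theorem N14539 : nd 14539 = n30466 := ndS (p := 12517) (l := 6) rfl N12517 D30466
theorem N14540 : nd 14540 = n30467 := ndS (p := 12518) (l := 5) rfl N12518 D30467
theorem N14541 : nd 14541 = n30468 := ndS (p := 12518) (l := 7) rfl N12518 D30468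
theorem N14542 : nd 14542 = n30469 := ndS (p := 12519) (l := 4) rfl N12519 D30469
theorem N14543 : nd 14543 = n30470 := ndS (p := 12519) (l := 7) rfl N12519 D30470
theorem N14544 : nd 14544 = n30471 := ndS (p := 12519) (l := 8) rfl N12519 D30471
theorem N14545 : nd 14545 = n30472 := ndS (p := 12521) (l := 6) rfl N12521 D30472
theorem N14546 : nd 14546 = n30473 := ndS (p := 12521) (l := 8) rfl N12521 D30473
theorem N14547 : nd 14547 = n30474 := ndS (p := 12522) (l := 9) rfl N12522 D30474
theorem N14548 : nd 14548 = n30475 := ndS (p := 12523) (l := 6) rfl N12523 D30475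
theorem N14549 : nd 14549 = n30476 := ndS (p := 12524) (l := 5) rfl N12524 D30476
theorem N14550 : nd 14550 = n30477 := ndS (p := 12524) (l := 7) rfl N12524 D30477
theorem N14551 : nd 14551 = n30478 := ndS (p := 12525) (l := 4) rfl N12525 D30478
theorem N14552 : nd 14552 = n30479 := ndS (p := 12525) (l := 7) rfl N12525 D30479
theorem N14553 : nd 14553 = n30480 := ndS (p := 12525) (l := 8) rfl N12525 D30480
theorem N14554 : nd 14554 = n30481 := ndS (p := 12527) (l := 7) rfl N12527 D30481
theorem N14555 : nd 14555 = n30482 := ndS (p := 12527) (l := 8) rfl N12527 D30482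
theorem N14556 : nd 14556 = n30483 := ndS (p := 12528) (l := 6) rfl N12528 D30483
theorem N14557 : nd 14557 = n30484 := ndS (p := 12528) (l := 8) rfl N12528 D30484
theorem N14558 : nd 14558 = n30485 := ndS (p := 12529) (l := 9) rfl N12529 D30485
theorem N14559 : nd 14559 = n30486 := ndS (p := 12530) (l := 8) rfl N12530 D30486
theorem N14560 : nd 14560 = n30487 := ndS (p := 12531) (l := 9) rfl N12531 D30487
theorem N14561 : nd 14561 = n30488 := ndS (p := 12534) (l := 7) rfl N12534 D30488
theorem N14562 : nd 14562 = n30489 := ndS (p := 12535) (l := 7) rfl N12535 D30489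
theorem N14563 : nd 14563 = n30490 := ndS (p := 12535) (l := 8) rfl N12535 D30490
theorem N14564 : nd 14564 = n30491 := ndS (p := 12537) (l := 7) rfl N12537 D30491
theorem N14565 : nd 14565 = n30492 := ndS (p := 12537) (l := 8) rfl N12537 D30492
theorem N14566 : nd 14566 = n30493 := ndS (p := 12538) (l := 6) rfl N12538 D30493
theorem N14567 : nd 14567 = n30494 := ndS (p := 12538) (l := 8) rfl N12538 D30494
theorem N14568 : nd 14568 = n30495 := ndS (p := 12539) (l := 9) rfl N12539 D30495
theorem N14569 : nd 14569 = n30496 := ndS (p := 12540) (l := 8) rfl N12540 D30496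
theorem N14570 : nd 14570 = n30497 := ndS (p := 12541) (l := 9) rfl N12541 D30497
theorem N14571 : nd 14571 = n30498 := ndS (p := 12543) (l := 5) rfl N12543 D30498
theorem N14572 : nd 14572 = n30499 := ndS (p := 12543) (l := 7) rfl N12543 D30499
theorem N14573 : nd 14573 = n30500 := ndS (p := 12544) (l := 4) rfl N12544 D30500
theorem N14574 : nd 14574 = n30501 := ndS (p := 12544) (l := 7) rfl N12544 D30501
theorem N14575 : nd 14575 = n30502 := ndS (p := 12544) (l := 8) rfl N12544 D30502
theorem N14576 : nd 14576 = n30503 := ndS (p := 12546) (l := 7) rfl N12546 D30503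
theorem N14577 : nd 14577 = n30504 := ndS (p := 12546) (l := 8) rfl N12546 D30504
theorem N14578 : nd 14578 = n30505 := ndS (p := 12547) (l := 6) rfl N12547 D30505
theorem N14579 : nd 14579 = n30506 := ndS (p := 12547) (l := 8) rfl N12547 D30506
theorem N14580 : nd 14580 = n30507 := ndS (p := 12548) (l := 9) rfl N12548 D30507
theorem N14581 : nd 14581 = n30508 := ndS (p := 12549) (l := 6) rfl N12549 D30508
theorem N14582 : nd 14582 = n30509 := ndS (p := 12549) (l := 8) rfl N12549 D30509
theorem N14583 : nd 14583 = n30510 := ndS (p := 12550) (l := 5) rfl N12550 D30510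
theorem N14584 : nd 14584 = n30511 := ndS (p := 12551) (l := 8) rfl N12551 D30511
theorem N14585 : nd 14585 = n30512 := ndS (p := 12552) (l := 9) rfl N12552 D30512
theorem N14586 : nd 14586 = n30513 := ndS (p := 12554) (l := 5) rfl N12554 D30513
theorem N14587 : nd 14587 = n30514 := ndS (p := 12554) (l := 9) rfl N12554 D30514
theorem N14588 : nd 14588 = n30515 := ndS (p := 12556) (l := 5) rfl N12556 D30515
theorem N14589 : nd 14589 = n30516 := ndS (p := 12556) (l := 8) rfl N12556 D30516
theorem N14590 : nd 14590 = n30517 := ndS (p := 12557) (l := 5) rfl N12557 D30517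
theorem N14591 : nd 14591 = n30518 := ndS (p := 12558) (l := 6) rfl N12558 D30518
theorem N14592 : nd 14592 = n30519 := ndS (p := 12560) (l := 4) rfl N12560 D30519
theorem N14593 : nd 14593 = n30520 := ndS (p := 12560) (l := 9) rfl N12560 D30520
theorem N14594 : nd 14594 = n30521 := ndS (p := 12562) (l := 0) rfl N12562 D30521
theorem N14595 : nd 14595 = n30522 := ndS (p := 12562) (l := 6) rfl N12562 D30522
theorem N14596 : nd 14596 = n30523 := ndS (p := 12563) (l := 5) rfl N12563 D30523
theorem N14597 : nd 14597 = n30524 := ndS (p := 12563) (l := 7) rfl N12563 D30524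
theorem N14598 : nd 14598 = n30525 := ndS (p := 12564) (l := 4) rfl N12564 D30525
theorem N14599 : nd 14599 = n30526 := ndS (p := 12564) (l := 7) rfl N12564 D30526
theorem N14600 : nd 14600 = n30527 := ndS (p := 12564) (l := 8) rfl N12564 D30527
theorem N14601 : nd 14601 = n30528 := ndS (p := 12566) (l := 6) rfl N12566 D30528
theorem N14602 : nd 14602 = n30529 := ndS (p := 12566) (l := 8) rfl N12566 D30529
theorem N14603 : nd 14603 = n30530 := ndS (p := 12568) (l := 0) rfl N12568 D30530
theorem N14604 : nd 14604 = n30531 := ndS (p := 12568) (l := 6) rfl N12568 D30531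
theorem N14605 : nd 14605 = n30532 := ndS (p := 12569) (l := 5) rfl N12569 D30532
theorem N14606 : nd 14606 = n30533 := ndS (p := 12569) (l := 7) rfl N12569 D30533
theorem N14607 : nd 14607 = n30534 := ndS (p := 12570) (l := 4) rfl N12570 D30534
theorem N14608 : nd 14608 = n30535 := ndS (p := 12570) (l := 7) rfl N12570 D30535
theorem N14609 : nd 14609 = n30536 := ndS (p := 12570) (l := 8) rfl N12570 D30536
theorem N14610 : nd 14610 = n30537 := ndS (p := 12572) (l := 6) rfl N12572 D30537
theorem N14611 : nd 14611 = n30538 := ndS (p := 12572) (l := 8) rfl N12572 D30538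
theorem N14612 : nd 14612 = n30539 := ndS (p := 12573) (l := 9) rfl N12573 D30539
theorem N14613 : nd 14613 = n30540 := ndS (p := 12574) (l := 6) rfl N12574 D30540
theorem N14614 : nd 14614 = n30541 := ndS (p := 12575) (l := 5) rfl N12575 D30541
theorem N14615 : nd 14615 = n30542 := ndS (p := 12575) (l := 7) rfl N12575 D30542
theorem N14616 : nd 14616 = n30543 := ndS (p := 12576) (l := 4) rfl N12576 D30543
theorem N14617 : nd 14617 = n30544 := ndS (p := 12576) (l := 7) rfl N12576 D30544
theorem N14618 : nd 14618 = n30545 := ndS (p := 12576) (l := 8) rfl N12576 D30545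
theorem N14619 : nd 14619 = n30546 := ndS (p := 12578) (l := 7) rfl N12578 D30546
theorem N14620 : nd 14620 = n30547 := ndS (p := 12578) (l := 8) rfl N12578 D30547
theorem N14621 : nd 14621 = n30548 := ndS (p := 12579) (l := 6) rfl N12579 D30548
theorem N14622 : nd 14622 = n30549 := ndS (p := 12579) (l := 8) rfl N12579 D30549
theorem N14623 : nd 14623 = n30550 := ndS (p := 12580) (l := 9) rfl N12580 D30550
theorem N14624 : nd 14624 = n30551 := ndS (p := 12581) (l := 8) rfl N12581 D30551
theorem N14625 : nd 14625 = n30552 := ndS (p := 12582) (l := 9) rfl N12582 D30552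
theorem N14626 : nd 14626 = n30553 := ndS (p := 12585) (l := 5) rfl N12585 D30553
theorem N14627 : nd 14627 = n30554 := ndS (p := 12585) (l := 7) rfl N12585 D30554
theorem N14628 : nd 14628 = n30555 := ndS (p := 12586) (l := 4) rfl N12586 D30555
theorem N14629 : nd 14629 = n30556 := ndS (p := 12586) (l := 7) rfl N12586 D30556
theorem N14630 : nd 14630 = n30557 := ndS (p := 12588) (l := 6) rfl N12588 D30557
theorem N14631 : nd 14631 = n30558 := ndS (p := 12588) (l := 8) rfl N12588 D30558
theorem N14632 : nd 14632 = n30559 := ndS (p := 12590) (l := 0) rfl N12590 D30559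
theorem N14633 : nd 14633 = n30560 := ndS (p := 12590) (l := 6) rfl N12590 D30560
theorem N14634 : nd 14634 = n30561 := ndS (p := 12591) (l := 5) rfl N12591 D30561
theorem N14635 : nd 14635 = n30562 := ndS (p := 12591) (l := 7) rfl N12591 D30562
theorem N14636 : nd 14636 = n30563 := ndS (p := 12592) (l := 4) rfl N12592 D30563
theorem N14637 : nd 14637 = n30564 := ndS (p := 12592) (l := 7) rfl N12592 D30564
theorem N14638 : nd 14638 = n30565 := ndS (p := 12592) (l := 8) rfl N12592 D30565
theorem N14639 : nd 14639 = n30566 := ndS (p := 12594) (l := 6) rfl N12594 D30566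
theorem N14640 : nd 14640 = n30567 := ndS (p := 12594) (l := 8) rfl N12594 D30567
theorem N14641 : nd 14641 = n30568 := ndS (p := 12597) (l := 5) rfl N12597 D30568
theorem N14642 : nd 14642 = n30569 := ndS (p := 12597) (l := 7) rfl N12597 D30569
theorem N14643 : nd 14643 = n30570 := ndS (p := 12598) (l := 4) rfl N12598 D30570
theorem N14644 : nd 14644 = n30571 := ndS (p := 12598) (l := 7) rfl N12598 D30571
theorem N14645 : nd 14645 = n30572 := ndS (p := 12598) (l := 8) rfl N12598 D30572
theorem N14646 : nd 14646 = n30573 := ndS (p := 12600) (l := 7) rfl N12600 D30573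
theorem N14647 : nd 14647 = n30574 := ndS (p := 12601) (l := 6) rfl N12601 D30574
theorem N14648 : nd 14648 = n30575 := ndS (p := 12601) (l := 8) rfl N12601 D30575
theorem N14649 : nd 14649 = n30576 := ndS (p := 12603) (l := 8) rfl N12603 D30576
theorem N14650 : nd 14650 = n30577 := ndS (p := 12604) (l := 9) rfl N12604 D30577
theorem N14651 : nd 14651 = n30578 := ndS (p := 12606) (l := 6) rfl N12606 D30578
theorem N14652 : nd 14652 = n30579 := ndS (p := 12607) (l := 5) rfl N12607 D30579
theorem N14653 : nd 14653 = n30580 := ndS (p := 12607) (l := 7) rfl N12607 D30580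
theorem N14654 : nd 14654 = n30581 := ndS (p := 12608) (l := 4) rfl N12608 D30581
theorem N14655 : nd 14655 = n30582 := ndS (p := 12608) (l := 7) rfl N12608 D30582
theorem N14656 : nd 14656 = n30583 := ndS (p := 12608) (l := 8) rfl N12608 D30583
theorem N14657 : nd 14657 = n30584 := ndS (p := 12610) (l := 7) rfl N12610 D30584
theorem N14658 : nd 14658 = n30585 := ndS (p := 12610) (l := 8) rfl N12610 D30585
theorem N14659 : nd 14659 = n30586 := ndS (p := 12611) (l := 6) rfl N12611 D30586
theorem N14660 : nd 14660 = n30587 := ndS (p := 12611) (l := 8) rfl N12611 D30587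
theorem N14661 : nd 14661 = n30588 := ndS (p := 12612) (l := 9) rfl N12612 D30588
theorem N14662 : nd 14662 = n30589 := ndS (p := 12613) (l := 8) rfl N12613 D30589
theorem N14663 : nd 14663 = n30590 := ndS (p := 12614) (l := 9) rfl N12614 D30590
theorem N14664 : nd 14664 = n30591 := ndS (p := 12616) (l := 5) rfl N12616 D30591
theorem N14665 : nd 14665 = n30592 := ndS (p := 12616) (l := 7) rfl N12616 D30592
theorem N14666 : nd 14666 = n30593 := ndS (p := 12617) (l := 4) rfl N12617 D30593
theorem N14667 : nd 14667 = n30594 := ndS (p := 12617) (l := 7) rfl N12617 D30594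
theorem N14668 : nd 14668 = n30595 := ndS (p := 12617) (l := 8) rfl N12617 D30595
theorem N14669 : nd 14669 = n30596 := ndS (p := 12619) (l := 3) rfl N12619 D30596
theorem N14670 : nd 14670 = n30597 := ndS (p := 12619) (l := 7) rfl N12619 D30597
theorem N14671 : nd 14671 = n30598 := ndS (p := 12619) (l := 8) rfl N12619 D30598
theorem N14672 : nd 14672 = n30599 := ndS (p := 12620) (l := 6) rfl N12620 D30599
theorem N14673 : nd 14673 = n30600 := ndS (p := 12620) (l := 8) rfl N12620 D30600
theorem N14674 : nd 14674 = n30601 := ndS (p := 12621) (l := 9) rfl N12621 D30601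
theorem N14675 : nd 14675 = n30602 := ndS (p := 12622) (l := 6) rfl N12622 D30602
theorem N14676 : nd 14676 = n30603 := ndS (p := 12622) (l := 8) rfl N12622 D30603
theorem N14677 : nd 14677 = n30604 := ndS (p := 12623) (l := 9) rfl N12623 D30604
theorem N14678 : nd 14678 = n30605 := ndS (p := 12624) (l := 8) rfl N12624 D30605
theorem N14679 : nd 14679 = n30606 := ndS (p := 12625) (l := 9) rfl N12625 D30606
theorem N14680 : nd 14680 = n30607 := ndS (p := 12627) (l := 5) rfl N12627 D30607
theorem N14681 : nd 14681 = n30608 := ndS (p := 12627) (l := 9) rfl N12627 D30608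
theorem N14682 : nd 14682 = n30609 := ndS (p := 12630) (l := 6) rfl N12630 D30609
theorem N14683 : nd 14683 = n30610 := ndS (p := 12630) (l := 8) rfl N12630 D30610
theorem N14684 : nd 14684 = n30611 := ndS (p := 12632) (l := 6) rfl N12632 D30611
theorem N14685 : nd 14685 = n30612 := ndS (p := 12633) (l := 8) rfl N12633 D30612
theorem N14686 : nd 14686 = n30613 := ndS (p := 12635) (l := 5) rfl N12635 D30613
theorem N14687 : nd 14687 = n30614 := ndS (p := 12635) (l := 9) rfl N12635 D30614
theorem N14688 : nd 14688 = n30615 := ndS (p := 12637) (l := 7) rfl N12637 D30615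
theorem N14689 : nd 14689 = n30616 := ndS (p := 12637) (l := 8) rfl N12637 D30616
theorem N14690 : nd 14690 = n30617 := ndS (p := 12639) (l := 6) rfl N12639 D30617
theorem N14691 : nd 14691 = n30618 := ndS (p := 12639) (l := 8) rfl N12639 D30618
theorem N14692 : nd 14692 = n30619 := ndS (p := 12640) (l := 9) rfl N12640 D30619
theorem N14693 : nd 14693 = n30620 := ndS (p := 12641) (l := 8) rfl N12641 D30620
theorem N14694 : nd 14694 = n30621 := ndS (p := 12642) (l := 9) rfl N12642 D30621
theorem N14695 : nd 14695 = n30622 := ndS (p := 12644) (l := 5) rfl N12644 D30622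
theorem N14696 : nd 14696 = n30623 := ndS (p := 12644) (l := 9) rfl N12644 D30623
theorem N14697 : nd 14697 = n30624 := ndS (p := 12646) (l := 4) rfl N12646 D30624
theorem N14698 : nd 14698 = n30625 := ndS (p := 12646) (l := 9) rfl N12646 D30625
theorem N14699 : nd 14699 = n30626 := ndS (p := 12651) (l := 7) rfl N12651 D30626
theorem N14700 : nd 14700 = n30627 := ndS (p := 12652) (l := 6) rfl N12652 D30627
theorem N14701 : nd 14701 = n30628 := ndS (p := 12653) (l := 8) rfl N12653 D30628
theorem N14702 : nd 14702 = n30629 := ndS (p := 12656) (l := 7) rfl N12656 D30629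
theorem N14703 : nd 14703 = n30630 := ndS (p := 12657) (l := 4) rfl N12657 D30630
theorem N14704 : nd 14704 = n30631 := ndS (p := 12657) (l := 7) rfl N12657 D30631
theorem N14705 : nd 14705 = n30632 := ndS (p := 12659) (l := 7) rfl N12659 D30632
theorem N14706 : nd 14706 = n30633 := ndS (p := 12660) (l := 6) rfl N12660 D30633
theorem N14707 : nd 14707 = n30634 := ndS (p := 12660) (l := 8) rfl N12660 D30634
theorem N14708 : nd 14708 = n30635 := ndS (p := 12662) (l := 8) rfl N12662 D30635
theorem N14709 : nd 14709 = n30636 := ndS (p := 12665) (l := 3) rfl N12665 D30636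
theorem N14710 : nd 14710 = n30637 := ndS (p := 12665) (l := 7) rfl N12665 D30637
theorem N14711 : nd 14711 = n30638 := ndS (p := 12666) (l := 6) rfl N12666 D30638
theorem N14712 : nd 14712 = n30639 := ndS (p := 12667) (l := 6) rfl N12667 D30639
theorem N14713 : nd 14713 = n30640 := ndS (p := 12668) (l := 8) rfl N12668 D30640
theorem N14714 : nd 14714 = n30641 := ndS (p := 12670) (l := 9) rfl N12670 D30641
theorem N14715 : nd 14715 = n30642 := ndS (p := 12672) (l := 5) rfl N12672 D30642
theorem N14716 : nd 14716 = n30643 := ndS (p := 12672) (l := 7) rfl N12672 D30643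
theorem N14717 : nd 14717 = n30644 := ndS (p := 12673) (l := 4) rfl N12673 D30644
theorem N14718 : nd 14718 = n30645 := ndS (p := 12673) (l := 7) rfl N12673 D30645
theorem N14719 : nd 14719 = n30646 := ndS (p := 12673) (l := 8) rfl N12673 D30646
theorem N14720 : nd 14720 = n30647 := ndS (p := 12675) (l := 3) rfl N12675 D30647
theorem N14721 : nd 14721 = n30648 := ndS (p := 12675) (l := 7) rfl N12675 D30648
theorem N14722 : nd 14722 = n30649 := ndS (p := 12675) (l := 8) rfl N12675 D30649
theorem N14723 : nd 14723 = n30650 := ndS (p := 12676) (l := 6) rfl N12676 D30650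
theorem N14724 : nd 14724 = n30651 := ndS (p := 12676) (l := 8) rfl N12676 D30651
theorem N14725 : nd 14725 = n30652 := ndS (p := 12678) (l := 6) rfl N12678 D30652
theorem N14726 : nd 14726 = n30653 := ndS (p := 12678) (l := 8) rfl N12678 D30653
theorem N14727 : nd 14727 = n30654 := ndS (p := 12680) (l := 8) rfl N12680 D30654
theorem N14728 : nd 14728 = n30655 := ndS (p := 12682) (l := 5) rfl N12682 D30655
theorem N14729 : nd 14729 = n30656 := ndS (p := 12683) (l := 4) rfl N12683 D30656
theorem N14730 : nd 14730 = n30657 := ndS (p := 12683) (l := 7) rfl N12683 D30657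
theorem N14731 : nd 14731 = n30658 := ndS (p := 12685) (l := 3) rfl N12685 D30658
theorem N14732 : nd 14732 = n30659 := ndS (p := 12685) (l := 7) rfl N12685 D30659
theorem N14733 : nd 14733 = n30660 := ndS (p := 12686) (l := 6) rfl N12686 D30660
theorem N14734 : nd 14734 = n30661 := ndS (p := 12687) (l := 7) rfl N12687 D30661
theorem N14735 : nd 14735 = n30662 := ndS (p := 12688) (l := 6) rfl N12688 D30662
theorem N14736 : nd 14736 = n30663 := ndS (p := 12690) (l := 5) rfl N12690 D30663
theorem N14737 : nd 14737 = n30664 := ndS (p := 12691) (l := 5) rfl N12691 D30664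
theorem N14738 : nd 14738 = n30665 := ndS (p := 12691) (l := 7) rfl N12691 D30665
theorem N14739 : nd 14739 = n30666 := ndS (p := 12692) (l := 7) rfl N12692 D30666
theorem N14740 : nd 14740 = n30667 := ndS (p := 12694) (l := 4) rfl N12694 D30667
theorem N14741 : nd 14741 = n30668 := ndS (p := 12694) (l := 7) rfl N12694 D30668
theorem N14742 : nd 14742 = n30669 := ndS (p := 12696) (l := 6) rfl N12696 D30669
theorem N14743 : nd 14743 = n30670 := ndS (p := 12699) (l := 5) rfl N12699 D30670
theorem N14744 : nd 14744 = n30671 := ndS (p := 12699) (l := 7) rfl N12699 D30671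
theorem N14745 : nd 14745 = n30672 := ndS (p := 12700) (l := 4) rfl N12700 D30672
theorem N14746 : nd 14746 = n30673 := ndS (p := 12700) (l := 7) rfl N12700 D30673
theorem N14747 : nd 14747 = n30674 := ndS (p := 12700) (l := 8) rfl N12700 D30674
theorem N14748 : nd 14748 = n30675 := ndS (p := 12702) (l := 6) rfl N12702 D30675
theorem N14749 : nd 14749 = n30676 := ndS (p := 12702) (l := 8) rfl N12702 D30676
theorem N14750 : nd 14750 = n30677 := ndS (p := 12704) (l := 5) rfl N12704 D30677
theorem N14751 : nd 14751 = n30678 := ndS (p := 12704) (l := 7) rfl N12704 D30678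
theorem N14752 : nd 14752 = n30679 := ndS (p := 12705) (l := 4) rfl N12705 D30679
theorem N14753 : nd 14753 = n30680 := ndS (p := 12705) (l := 7) rfl N12705 D30680
theorem N14754 : nd 14754 = n30681 := ndS (p := 12705) (l := 8) rfl N12705 D30681
theorem N14755 : nd 14755 = n30682 := ndS (p := 12707) (l := 6) rfl N12707 D30682
theorem N14756 : nd 14756 = n30683 := ndS (p := 12707) (l := 8) rfl N12707 D30683
theorem N14757 : nd 14757 = n30684 := ndS (p := 12708) (l := 9) rfl N12708 D30684
theorem N14758 : nd 14758 = n30685 := ndS (p := 12709) (l := 6) rfl N12709 D30685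
theorem N14759 : nd 14759 = n30686 := ndS (p := 12710) (l := 5) rfl N12710 D30686
theorem N14760 : nd 14760 = n30687 := ndS (p := 12710) (l := 7) rfl N12710 D30687
theorem N14761 : nd 14761 = n30688 := ndS (p := 12711) (l := 4) rfl N12711 D30688
theorem N14762 : nd 14762 = n30689 := ndS (p := 12711) (l := 7) rfl N12711 D30689
theorem N14763 : nd 14763 = n30690 := ndS (p := 12711) (l := 8) rfl N12711 D30690
theorem N14764 : nd 14764 = n30691 := ndS (p := 12713) (l := 6) rfl N12713 D30691
theorem N14765 : nd 14765 = n30692 := ndS (p := 12713) (l := 8) rfl N12713 D30692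
theorem N14766 : nd 14766 = n30693 := ndS (p := 12715) (l := 7) rfl N12715 D30693
theorem N14767 : nd 14767 = n30694 := ndS (p := 12716) (l := 4) rfl N12716 D30694
theorem N14768 : nd 14768 = n30695 := ndS (p := 12716) (l := 7) rfl N12716 D30695
theorem N14769 : nd 14769 = n30696 := ndS (p := 12718) (l := 7) rfl N12718 D30696
theorem N14770 : nd 14770 = n30697 := ndS (p := 12718) (l := 8) rfl N12718 D30697
theorem N14771 : nd 14771 = n30698 := ndS (p := 12719) (l := 6) rfl N12719 D30698
theorem N14772 : nd 14772 = n30699 := ndS (p := 12719) (l := 8) rfl N12719 D30699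
theorem N14773 : nd 14773 = n30700 := ndS (p := 12721) (l := 8) rfl N12721 D30700
theorem N14774 : nd 14774 = n30701 := ndS (p := 12725) (l := 9) rfl N12725 D30701
theorem N14775 : nd 14775 = n30702 := ndS (p := 12728) (l := 1) rfl N12728 D30702
theorem N14776 : nd 14776 = n30703 := ndS (p := 12728) (l := 6) rfl N12728 D30703
theorem N14777 : nd 14777 = n30704 := ndS (p := 12729) (l := 5) rfl N12729 D30704
theorem N14778 : nd 14778 = n30705 := ndS (p := 12729) (l := 7) rfl N12729 D30705
theorem N14779 : nd 14779 = n30706 := ndS (p := 12730) (l := 7) rfl N12730 D30706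
theorem N14780 : nd 14780 = n30707 := ndS (p := 12730) (l := 8) rfl N12730 D30707
theorem N14781 : nd 14781 = n30708 := ndS (p := 12732) (l := 6) rfl N12732 D30708
theorem N14782 : nd 14782 = n30709 := ndS (p := 12733) (l := 5) rfl N12733 D30709
theorem N14783 : nd 14783 = n30710 := ndS (p := 12733) (l := 7) rfl N12733 D30710
theorem N14784 : nd 14784 = n30711 := ndS (p := 12734) (l := 4) rfl N12734 D30711
theorem N14785 : nd 14785 = n30712 := ndS (p := 12734) (l := 7) rfl N12734 D30712
theorem N14786 : nd 14786 = n30713 := ndS (p := 12734) (l := 8) rfl N12734 D30713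
theorem N14787 : nd 14787 = n30714 := ndS (p := 12736) (l := 6) rfl N12736 D30714
theorem N14788 : nd 14788 = n30715 := ndS (p := 12736) (l := 8) rfl N12736 D30715
theorem N14789 : nd 14789 = n30716 := ndS (p := 12737) (l := 9) rfl N12737 D30716
theorem N14790 : nd 14790 = n30717 := ndS (p := 12738) (l := 7) rfl N12738 D30717
theorem N14791 : nd 14791 = n30718 := ndS (p := 12739) (l := 4) rfl N12739 D30718
theorem N14792 : nd 14792 = n30719 := ndS (p := 12739) (l := 7) rfl N12739 D30719
theorem N14793 : nd 14793 = n30720 := ndS (p := 12741) (l := 6) rfl N12741 D30720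
theorem N14794 : nd 14794 = n30721 := ndS (p := 12741) (l := 8) rfl N12741 D30721
theorem N14795 : nd 14795 = n30722 := ndS (p := 12743) (l := 6) rfl N12743 D30722
theorem N14796 : nd 14796 = n30723 := ndS (p := 12744) (l := 5) rfl N12744 D30723
theorem N14797 : nd 14797 = n30724 := ndS (p := 12744) (l := 7) rfl N12744 D30724
theorem N14798 : nd 14798 = n30725 := ndS (p := 12745) (l := 4) rfl N12745 D30725
theorem N14799 : nd 14799 = n30726 := ndS (p := 12745) (l := 7) rfl N12745 D30726
theorem N14800 : nd 14800 = n30727 := ndS (p := 12745) (l := 8) rfl N12745 D30727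
theorem N14801 : nd 14801 = n30728 := ndS (p := 12747) (l := 6) rfl N12747 D30728
theorem N14802 : nd 14802 = n30729 := ndS (p := 12747) (l := 8) rfl N12747 D30729
theorem N14803 : nd 14803 = n30730 := ndS (p := 12748) (l := 9) rfl N12748 D30730
theorem N14804 : nd 14804 = n30731 := ndS (p := 12749) (l := 5) rfl N12749 D30731
theorem N14805 : nd 14805 = n30732 := ndS (p := 12749) (l := 7) rfl N12749 D30732
theorem N14806 : nd 14806 = n30733 := ndS (p := 12750) (l := 4) rfl N12750 D30733
theorem N14807 : nd 14807 = n30734 := ndS (p := 12750) (l := 7) rfl N12750 D30734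
theorem N14808 : nd 14808 = n30735 := ndS (p := 12750) (l := 8) rfl N12750 D30735
theorem N14809 : nd 14809 = n30736 := ndS (p := 12752) (l := 7) rfl N12752 D30736
theorem N14810 : nd 14810 = n30737 := ndS (p := 12752) (l := 8) rfl N12752 D30737
theorem N14811 : nd 14811 = n30738 := ndS (p := 12753) (l := 6) rfl N12753 D30738
theorem N14812 : nd 14812 = n30739 := ndS (p := 12753) (l := 8) rfl N12753 D30739
theorem N14813 : nd 14813 = n30740 := ndS (p := 12754) (l := 9) rfl N12754 D30740
theorem N14814 : nd 14814 = n30741 := ndS (p := 12755) (l := 8) rfl N12755 D30741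
theorem N14815 : nd 14815 = n30742 := ndS (p := 12756) (l := 9) rfl N12756 D30742
theorem N14816 : nd 14816 = n30743 := ndS (p := 12758) (l := 6) rfl N12758 D30743
theorem N14817 : nd 14817 = n30744 := ndS (p := 12759) (l := 5) rfl N12759 D30744
theorem N14818 : nd 14818 = n30745 := ndS (p := 12759) (l := 7) rfl N12759 D30745
theorem N14819 : nd 14819 = n30746 := ndS (p := 12760) (l := 4) rfl N12760 D30746
theorem N14820 : nd 14820 = n30747 := ndS (p := 12760) (l := 7) rfl N12760 D30747
theorem N14821 : nd 14821 = n30748 := ndS (p := 12760) (l := 8) rfl N12760 D30748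
theorem N14822 : nd 14822 = n30749 := ndS (p := 12762) (l := 6) rfl N12762 D30749
theorem N14823 : nd 14823 = n30750 := ndS (p := 12762) (l := 8) rfl N12762 D30750
theorem N14824 : nd 14824 = n30751 := ndS (p := 12763) (l := 9) rfl N12763 D30751
theorem N14825 : nd 14825 = n30752 := ndS (p := 12764) (l := 7) rfl N12764 D30752
theorem N14826 : nd 14826 = n30753 := ndS (p := 12765) (l := 6) rfl N12765 D30753
theorem N14827 : nd 14827 = n30754 := ndS (p := 12766) (l := 8) rfl N12766 D30754
theorem N14828 : nd 14828 = n30755 := ndS (p := 12767) (l := 9) rfl N12767 D30755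
theorem N14829 : nd 14829 = n30756 := ndS (p := 12769) (l := 5) rfl N12769 D30756
theorem N14830 : nd 14830 = n30757 := ndS (p := 12769) (l := 7) rfl N12769 D30757
theorem N14831 : nd 14831 = n30758 := ndS (p := 12770) (l := 4) rfl N12770 D30758
theorem N14832 : nd 14832 = n30759 := ndS (p := 12770) (l := 7) rfl N12770 D30759
theorem N14833 : nd 14833 = n30760 := ndS (p := 12770) (l := 8) rfl N12770 D30760
theorem N14834 : nd 14834 = n30761 := ndS (p := 12772) (l := 7) rfl N12772 D30761
theorem N14835 : nd 14835 = n30762 := ndS (p := 12772) (l := 8) rfl N12772 D30762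
theorem N14836 : nd 14836 = n30763 := ndS (p := 12773) (l := 6) rfl N12773 D30763
theorem N14837 : nd 14837 = n30764 := ndS (p := 12773) (l := 8) rfl N12773 D30764
theorem N14838 : nd 14838 = n30765 := ndS (p := 12774) (l := 9) rfl N12774 D30765
theorem N14839 : nd 14839 = n30766 := ndS (p := 12775) (l := 8) rfl N12775 D30766
theorem N14840 : nd 14840 = n30767 := ndS (p := 12776) (l := 9) rfl N12776 D30767
theorem N14841 : nd 14841 = n30768 := ndS (p := 12778) (l := 4) rfl N12778 D30768
theorem N14842 : nd 14842 = n30769 := ndS (p := 12778) (l := 7) rfl N12778 D30769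
theorem N14843 : nd 14843 = n30770 := ndS (p := 12780) (l := 3) rfl N12780 D30770
theorem N14844 : nd 14844 = n30771 := ndS (p := 12780) (l := 7) rfl N12780 D30771
theorem N14845 : nd 14845 = n30772 := ndS (p := 12780) (l := 8) rfl N12780 D30772
theorem N14846 : nd 14846 = n30773 := ndS (p := 12781) (l := 6) rfl N12781 D30773
theorem N14847 : nd 14847 = n30774 := ndS (p := 12781) (l := 8) rfl N12781 D30774
theorem N14848 : nd 14848 = n30775 := ndS (p := 12782) (l := 9) rfl N12782 D30775
theorem N14849 : nd 14849 = n30776 := ndS (p := 12783) (l := 6) rfl N12783 D30776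
theorem N14850 : nd 14850 = n30777 := ndS (p := 12783) (l := 8) rfl N12783 D30777
theorem N14851 : nd 14851 = n30778 := ndS (p := 12784) (l := 5) rfl N12784 D30778
theorem N14852 : nd 14852 = n30779 := ndS (p := 12784) (l := 9) rfl N12784 D30779
theorem N14853 : nd 14853 = n30780 := ndS (p := 12785) (l := 8) rfl N12785 D30780
theorem N14854 : nd 14854 = n30781 := ndS (p := 12786) (l := 9) rfl N12786 D30781
theorem N14855 : nd 14855 = n30782 := ndS (p := 12788) (l := 5) rfl N12788 D30782
theorem N14856 : nd 14856 = n30783 := ndS (p := 12788) (l := 9) rfl N12788 D30783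
theorem N14857 : nd 14857 = n30784 := ndS (p := 12790) (l := 5) rfl N12790 D30784
theorem N14858 : nd 14858 = n30785 := ndS (p := 12790) (l := 9) rfl N12790 D30785
theorem N14859 : nd 14859 = n30786 := ndS (p := 12792) (l := 8) rfl N12792 D30786
theorem N14860 : nd 14860 = n30787 := ndS (p := 12793) (l := 5) rfl N12793 D30787
theorem N14861 : nd 14861 = n30788 := ndS (p := 12794) (l := 9) rfl N12794 D30788
theorem N14862 : nd 14862 = n30789 := ndS (p := 12796) (l := 5) rfl N12796 D30789
theorem N14863 : nd 14863 = n30790 := ndS (p := 12797) (l := 6) rfl N12797 D30790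
theorem N14864 : nd 14864 = n30791 := ndS (p := 12799) (l := 4) rfl N12799 D30791
theorem N14865 : nd 14865 = n30792 := ndS (p := 12799) (l := 9) rfl N12799 D30792
theorem N14866 : nd 14866 = n30793 := ndS (p := 12801) (l := 6) rfl N12801 D30793
theorem N14867 : nd 14867 = n30794 := ndS (p := 12802) (l := 7) rfl N12802 D30794
theorem N14868 : nd 14868 = n30795 := ndS (p := 12803) (l := 3) rfl N12803 D30795
theorem N14869 : nd 14869 = n30796 := ndS (p := 12805) (l := 5) rfl N12805 D30796
theorem N14870 : nd 14870 = n30797 := ndS (p := 12806) (l := 7) rfl N12806 D30797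
theorem N14871 : nd 14871 = n30798 := ndS (p := 12808) (l := 6) rfl N12808 D30798
theorem N14872 : nd 14872 = n30799 := ndS (p := 12808) (l := 8) rfl N12808 D30799
theorem N14873 : nd 14873 = n30800 := ndS (p := 12811) (l := 6) rfl N12811 D30800
theorem N14874 : nd 14874 = n30801 := ndS (p := 12812) (l := 8) rfl N12812 D30801
theorem N14875 : nd 14875 = n30802 := ndS (p := 12814) (l := 5) rfl N12814 D30802
theorem N14876 : nd 14876 = n30803 := ndS (p := 12814) (l := 7) rfl N12814 D30803
theorem N14877 : nd 14877 = n30804 := ndS (p := 12815) (l := 4) rfl N12815 D30804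
theorem N14878 : nd 14878 = n30805 := ndS (p := 12815) (l := 7) rfl N12815 D30805
theorem N14879 : nd 14879 = n30806 := ndS (p := 12815) (l := 8) rfl N12815 D30806
theorem N14880 : nd 14880 = n30807 := ndS (p := 12817) (l := 7) rfl N12817 D30807
theorem N14881 : nd 14881 = n30808 := ndS (p := 12817) (l := 8) rfl N12817 D30808
theorem N14882 : nd 14882 = n30809 := ndS (p := 12818) (l := 6) rfl N12818 D30809
theorem N14883 : nd 14883 = n30810 := ndS (p := 12818) (l := 8) rfl N12818 D30810
theorem N14884 : nd 14884 = n30811 := ndS (p := 12819) (l := 9) rfl N12819 D30811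
theorem N14885 : nd 14885 = n30812 := ndS (p := 12820) (l := 8) rfl N12820 D30812
theorem N14886 : nd 14886 = n30813 := ndS (p := 12821) (l := 9) rfl N12821 D30813
theorem N14887 : nd 14887 = n30814 := ndS (p := 12823) (l := 4) rfl N12823 D30814
theorem N14888 : nd 14888 = n30815 := ndS (p := 12823) (l := 7) rfl N12823 D30815
theorem N14889 : nd 14889 = n30816 := ndS (p := 12825) (l := 3) rfl N12825 D30816
theorem N14890 : nd 14890 = n30817 := ndS (p := 12825) (l := 7) rfl N12825 D30817
theorem N14891 : nd 14891 = n30818 := ndS (p := 12825) (l := 8) rfl N12825 D30818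
theorem N14892 : nd 14892 = n30819 := ndS (p := 12826) (l := 6) rfl N12826 D30819
theorem N14893 : nd 14893 = n30820 := ndS (p := 12826) (l := 8) rfl N12826 D30820
theorem N14894 : nd 14894 = n30821 := ndS (p := 12827) (l := 9) rfl N12827 D30821
theorem N14895 : nd 14895 = n30822 := ndS (p := 12828) (l := 6) rfl N12828 D30822
theorem N14896 : nd 14896 = n30823 := ndS (p := 12828) (l := 8) rfl N12828 D30823
theorem N14897 : nd 14897 = n30824 := ndS (p := 12829) (l := 5) rfl N12829 D30824
theorem N14898 : nd 14898 = n30825 := ndS (p := 12829) (l := 9) rfl N12829 D30825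
theorem N14899 : nd 14899 = n30826 := ndS (p := 12830) (l := 8) rfl N12830 D30826
theorem N14900 : nd 14900 = n30827 := ndS (p := 12831) (l := 9) rfl N12831 D30827
theorem N14901 : nd 14901 = n30828 := ndS (p := 12833) (l := 5) rfl N12833 D30828
theorem N14902 : nd 14902 = n30829 := ndS (p := 12833) (l := 9) rfl N12833 D30829
theorem N14903 : nd 14903 = n30830 := ndS (p := 12835) (l := 7) rfl N12835 D30830
theorem N14904 : nd 14904 = n30831 := ndS (p := 12836) (l := 4) rfl N12836 D30831
theorem N14905 : nd 14905 = n30832 := ndS (p := 12836) (l := 7) rfl N12836 D30832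
theorem N14906 : nd 14906 = n30833 := ndS (p := 12836) (l := 8) rfl N12836 D30833
theorem N14907 : nd 14907 = n30834 := ndS (p := 12838) (l := 7) rfl N12838 D30834
theorem N14908 : nd 14908 = n30835 := ndS (p := 12839) (l := 6) rfl N12839 D30835
theorem N14909 : nd 14909 = n30836 := ndS (p := 12839) (l := 8) rfl N12839 D30836
theorem N14910 : nd 14910 = n30837 := ndS (p := 12841) (l := 8) rfl N12841 D30837
theorem N14911 : nd 14911 = n30838 := ndS (p := 12842) (l := 9) rfl N12842 D30838
theorem N14912 : nd 14912 = n30839 := ndS (p := 12844) (l := 6) rfl N12844 D30839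
theorem N14913 : nd 14913 = n30840 := ndS (p := 12846) (l := 5) rfl N12846 D30840
theorem N14914 : nd 14914 = n30841 := ndS (p := 12846) (l := 9) rfl N12846 D30841
theorem N14915 : nd 14915 = n30842 := ndS (p := 12849) (l := 3) rfl N12849 D30842
theorem N14916 : nd 14916 = n30843 := ndS (p := 12849) (l := 7) rfl N12849 D30843
theorem N14917 : nd 14917 = n30844 := ndS (p := 12850) (l := 6) rfl N12850 D30844
theorem N14918 : nd 14918 = n30845 := ndS (p := 12850) (l := 8) rfl N12850 D30845
theorem N14919 : nd 14919 = n30846 := ndS (p := 12851) (l := 9) rfl N12851 D30846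
theorem N14920 : nd 14920 = n30847 := ndS (p := 12852) (l := 6) rfl N12852 D30847
theorem N14921 : nd 14921 = n30848 := ndS (p := 12852) (l := 8) rfl N12852 D30848
theorem N14922 : nd 14922 = n30849 := ndS (p := 12853) (l := 9) rfl N12853 D30849
theorem N14923 : nd 14923 = n30850 := ndS (p := 12854) (l := 8) rfl N12854 D30850
theorem N14924 : nd 14924 = n30851 := ndS (p := 12855) (l := 9) rfl N12855 D30851
theorem N14925 : nd 14925 = n30852 := ndS (p := 12857) (l := 5) rfl N12857 D30852
theorem N14926 : nd 14926 = n30853 := ndS (p := 12857) (l := 9) rfl N12857 D30853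
theorem N14927 : nd 14927 = n30854 := ndS (p := 12859) (l := 3) rfl N12859 D30854
theorem N14928 : nd 14928 = n30855 := ndS (p := 12859) (l := 8) rfl N12859 D30855
theorem N14929 : nd 14929 = n30856 := ndS (p := 12861) (l := 7) rfl N12861 D30856
theorem N14930 : nd 14930 = n30857 := ndS (p := 12861) (l := 8) rfl N12861 D30857
theorem N14931 : nd 14931 = n30858 := ndS (p := 12862) (l := 6) rfl N12862 D30858
theorem N14932 : nd 14932 = n30859 := ndS (p := 12862) (l := 8) rfl N12862 D30859
theorem N14933 : nd 14933 = n30860 := ndS (p := 12863) (l := 9) rfl N12863 D30860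
theorem N14934 : nd 14934 = n30861 := ndS (p := 12864) (l := 8) rfl N12864 D30861
theorem N14935 : nd 14935 = n30862 := ndS (p := 12865) (l := 9) rfl N12865 D30862
theorem N14936 : nd 14936 = n30863 := ndS (p := 12867) (l := 5) rfl N12867 D30863
theorem N14937 : nd 14937 = n30864 := ndS (p := 12867) (l := 8) rfl N12867 D30864
theorem N14938 : nd 14938 = n30865 := ndS (p := 12868) (l := 9) rfl N12868 D30865
theorem N14939 : nd 14939 = n30866 := ndS (p := 12870) (l := 5) rfl N12870 D30866
theorem N14940 : nd 14940 = n30867 := ndS (p := 12870) (l := 9) rfl N12870 D30867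
theorem N14941 : nd 14941 = n30868 := ndS (p := 12872) (l := 4) rfl N12872 D30868
theorem N14942 : nd 14942 = n30869 := ndS (p := 12872) (l := 9) rfl N12872 D30869
theorem N14943 : nd 14943 = n30870 := ndS (p := 12874) (l := 4) rfl N12874 D30870
theorem N14944 : nd 14944 = n30871 := ndS (p := 12876) (l := 9) rfl N12876 D30871
theorem N14945 : nd 14945 = n30872 := ndS (p := 12880) (l := 5) rfl N12880 D30872
theorem N14946 : nd 14946 = n30873 := ndS (p := 12881) (l := 4) rfl N12881 D30873
theorem N14947 : nd 14947 = n30874 := ndS (p := 12881) (l := 7) rfl N12881 D30874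
theorem N14948 : nd 14948 = n30875 := ndS (p := 12881) (l := 8) rfl N12881 D30875
theorem N14949 : nd 14949 = n30876 := ndS (p := 12883) (l := 7) rfl N12883 D30876
theorem N14950 : nd 14950 = n30877 := ndS (p := 12884) (l := 6) rfl N12884 D30877
theorem N14951 : nd 14951 = n30878 := ndS (p := 12884) (l := 8) rfl N12884 D30878
theorem N14952 : nd 14952 = n30879 := ndS (p := 12886) (l := 6) rfl N12886 D30879
theorem N14953 : nd 14953 = n30880 := ndS (p := 12887) (l := 8) rfl N12887 D30880
theorem N14954 : nd 14954 = n30881 := ndS (p := 12889) (l := 5) rfl N12889 D30881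
theorem N14955 : nd 14955 = n30882 := ndS (p := 12890) (l := 5) rfl N12890 D30882
theorem N14956 : nd 14956 = n30883 := ndS (p := 12891) (l := 7) rfl N12891 D30883
theorem N14957 : nd 14957 = n30884 := ndS (p := 12892) (l := 6) rfl N12892 D30884
theorem N14958 : nd 14958 = n30885 := ndS (p := 12894) (l := 5) rfl N12894 D30885
theorem N14959 : nd 14959 = n30886 := ndS (p := 12894) (l := 8) rfl N12894 D30886
theorem N14960 : nd 14960 = n30887 := ndS (p := 12898) (l := 6) rfl N12898 D30887
theorem N14961 : nd 14961 = n30888 := ndS (p := 12899) (l := 5) rfl N12899 D30888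
theorem N14962 : nd 14962 = n30889 := ndS (p := 12900) (l := 8) rfl N12900 D30889
theorem N14963 : nd 14963 = n30890 := ndS (p := 12902) (l := 7) rfl N12902 D30890
theorem N14964 : nd 14964 = n30891 := ndS (p := 12904) (l := 7) rfl N12904 D30891
theorem N14965 : nd 14965 = n30892 := ndS (p := 12904) (l := 8) rfl N12904 D30892
theorem N14966 : nd 14966 = n30893 := ndS (p := 12905) (l := 6) rfl N12905 D30893
theorem N14967 : nd 14967 = n30894 := ndS (p := 12905) (l := 8) rfl N12905 D30894
theorem N14968 : nd 14968 = n30895 := ndS (p := 12907) (l := 8) rfl N12907 D30895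
theorem N14969 : nd 14969 = n30896 := ndS (p := 12910) (l := 6) rfl N12910 D30896
theorem N14970 : nd 14970 = n30897 := ndS (p := 12913) (l := 7) rfl N12913 D30897
theorem N14971 : nd 14971 = n30898 := ndS (p := 12915) (l := 6) rfl N12915 D30898
theorem N14972 : nd 14972 = n30899 := ndS (p := 12915) (l := 8) rfl N12915 D30899
theorem N14973 : nd 14973 = n30900 := ndS (p := 12916) (l := 9) rfl N12916 D30900
theorem N14974 : nd 14974 = n30901 := ndS (p := 12917) (l := 6) rfl N12917 D30901
theorem N14975 : nd 14975 = n30902 := ndS (p := 12917) (l := 8) rfl N12917 D30902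
theorem N14976 : nd 14976 = n30903 := ndS (p := 12918) (l := 5) rfl N12918 D30903
theorem N14977 : nd 14977 = n30904 := ndS (p := 12918) (l := 9) rfl N12918 D30904
theorem N14978 : nd 14978 = n30905 := ndS (p := 12919) (l := 8) rfl N12919 D30905
theorem N14979 : nd 14979 = n30906 := ndS (p := 12920) (l := 9) rfl N12920 D30906
theorem N14980 : nd 14980 = n30907 := ndS (p := 12922) (l := 5) rfl N12922 D30907
theorem N14981 : nd 14981 = n30908 := ndS (p := 12922) (l := 9) rfl N12922 D30908
theorem N14982 : nd 14982 = n30909 := ndS (p := 12924) (l := 6) rfl N12924 D30909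
theorem N14983 : nd 14983 = n30910 := ndS (p := 12925) (l := 8) rfl N12925 D30910
theorem N14984 : nd 14984 = n30911 := ndS (p := 12926) (l := 9) rfl N12926 D30911
theorem N14985 : nd 14985 = n30912 := ndS (p := 12928) (l := 5) rfl N12928 D30912
theorem N14986 : nd 14986 = n30913 := ndS (p := 12928) (l := 8) rfl N12928 D30913
theorem N14987 : nd 14987 = n30914 := ndS (p := 12929) (l := 9) rfl N12929 D30914
theorem N14988 : nd 14988 = n30915 := ndS (p := 12931) (l := 9) rfl N12931 D30915
theorem N14989 : nd 14989 = n30916 := ndS (p := 12933) (l := 9) rfl N12933 D30916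
theorem N14990 : nd 14990 = n30917 := ndS (p := 12935) (l := 9) rfl N12935 D30917
theorem N14991 : nd 14991 = n30918 := ndS (p := 12939) (l := 8) rfl N12939 D30918
theorem N14992 : nd 14992 = n30919 := ndS (p := 12940) (l := 9) rfl N12940 D30919
theorem N14993 : nd 14993 = n30920 := ndS (p := 12942) (l := 8) rfl N12942 D30920
theorem N14994 : nd 14994 = n30921 := ndS (p := 12943) (l := 9) rfl N12943 D30921
theorem N14995 : nd 14995 = n30922 := ndS (p := 12945) (l := 5) rfl N12945 D30922
theorem N14996 : nd 14996 = n30923 := ndS (p := 12945) (l := 9) rfl N12945 D30923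
theorem N14997 : nd 14997 = n30924 := ndS (p := 12947) (l := 4) rfl N12947 D30924
theorem N14998 : nd 14998 = n30925 := ndS (p := 12947) (l := 9) rfl N12947 D30925
theorem N14999 : nd 14999 = n30926 := ndS (p := 12950) (l := 9) rfl N12950 D30926
theorem N15000 : nd 15000 = n30927 := ndS (p := 12952) (l := 5) rfl N12952 D30927
theorem N15001 : nd 15001 = n30928 := ndS (p := 12952) (l := 9) rfl N12952 D30928
theorem N15002 : nd 15002 = n30929 := ndS (p := 12954) (l := 9) rfl N12954 D30929
theorem N15003 : nd 15003 = n30930 := ndS (p := 12963) (l := 7) rfl N12963 D30930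
theorem N15004 : nd 15004 = n30931 := ndS (p := 12964) (l := 7) rfl N12964 D30931
theorem N15005 : nd 15005 = n30932 := ndS (p := 12964) (l := 8) rfl N12964 D30932
theorem N15006 : nd 15006 = n30933 := ndS (p := 12966) (l := 7) rfl N12966 D30933
theorem N15007 : nd 15007 = n30934 := ndS (p := 12966) (l := 8) rfl N12966 D30934
theorem N15008 : nd 15008 = n30935 := ndS (p := 12967) (l := 6) rfl N12967 D30935
theorem N15009 : nd 15009 = n30936 := ndS (p := 12967) (l := 8) rfl N12967 D30936
theorem N15010 : nd 15010 = n30937 := ndS (p := 12968) (l := 9) rfl N12968 D30937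
theorem N15011 : nd 15011 = n30938 := ndS (p := 12969) (l := 8) rfl N12969 D30938
theorem N15012 : nd 15012 = n30939 := ndS (p := 12970) (l := 9) rfl N12970 D30939
theorem N15013 : nd 15013 = n30940 := ndS (p := 12974) (l := 8) rfl N12974 D30940
theorem N15014 : nd 15014 = n30941 := ndS (p := 12976) (l := 8) rfl N12976 D30941
theorem N15015 : nd 15015 = n30942 := ndS (p := 12977) (l := 5) rfl N12977 D30942
theorem N15016 : nd 15016 = n30943 := ndS (p := 12977) (l := 9) rfl N12977 D30943
theorem N15017 : nd 15017 = n30944 := ndS (p := 12978) (l := 9) rfl N12978 D30944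
theorem N15018 : nd 15018 = n30945 := ndS (p := 12981) (l := 6) rfl N12981 D30945
theorem N15019 : nd 15019 = n30946 := ndS (p := 12983) (l := 6) rfl N12983 D30946
theorem N15020 : nd 15020 = n30947 := ndS (p := 12984) (l := 7) rfl N12984 D30947
theorem N15021 : nd 15021 = n30948 := ndS (p := 12989) (l := 4) rfl N12989 D30948
theorem N15022 : nd 15022 = n30949 := ndS (p := 12989) (l := 9) rfl N12989 D30949
theorem N15023 : nd 15023 = n30950 := ndS (p := 12995) (l := 0) rfl N12995 D30950
theorem N15024 : nd 15024 = n30951 := ndS (p := 12995) (l := 6) rfl N12995 D30951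
theorem N15025 : nd 15025 = n30952 := ndS (p := 12996) (l := 5) rfl N12996 D30952
theorem N15026 : nd 15026 = n30953 := ndS (p := 12996) (l := 7) rfl N12996 D30953
theorem N15027 : nd 15027 = n30954 := ndS (p := 12997) (l := 7) rfl N12997 D30954
theorem N15028 : nd 15028 = n30955 := ndS (p := 12999) (l := 6) rfl N12999 D30955
theorem N15029 : nd 15029 = n30956 := ndS (p := 13000) (l := 0) rfl N13000 D30956
theorem N15030 : nd 15030 = n30957 := ndS (p := 13000) (l := 6) rfl N13000 D30957
theorem N15031 : nd 15031 = n30958 := ndS (p := 13001) (l := 5) rfl N13001 D30958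
theorem N15032 : nd 15032 = n30959 := ndS (p := 13001) (l := 7) rfl N13001 D30959
theorem N15033 : nd 15033 = n30960 := ndS (p := 13002) (l := 4) rfl N13002 D30960
theorem N15034 : nd 15034 = n30961 := ndS (p := 13002) (l := 7) rfl N13002 D30961
theorem N15035 : nd 15035 = n30962 := ndS (p := 13002) (l := 8) rfl N13002 D30962
theorem N15036 : nd 15036 = n30963 := ndS (p := 13004) (l := 6) rfl N13004 D30963
theorem N15037 : nd 15037 = n30964 := ndS (p := 13004) (l := 8) rfl N13004 D30964
theorem N15038 : nd 15038 = n30965 := ndS (p := 13005) (l := 9) rfl N13005 D30965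
theorem N15039 : nd 15039 = n30966 := ndS (p := 13006) (l := 6) rfl N13006 D30966
theorem N15040 : nd 15040 = n30967 := ndS (p := 13007) (l := 5) rfl N13007 D30967
theorem N15041 : nd 15041 = n30968 := ndS (p := 13007) (l := 7) rfl N13007 D30968
theorem N15042 : nd 15042 = n30969 := ndS (p := 13008) (l := 7) rfl N13008 D30969
theorem N15043 : nd 15043 = n30970 := ndS (p := 13010) (l := 6) rfl N13010 D30970
theorem N15044 : nd 15044 = n30971 := ndS (p := 13012) (l := 6) rfl N13012 D30971
theorem N15045 : nd 15045 = n30972 := ndS (p := 13013) (l := 5) rfl N13013 D30972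
theorem N15046 : nd 15046 = n30973 := ndS (p := 13013) (l := 7) rfl N13013 D30973
theorem N15047 : nd 15047 = n30974 := ndS (p := 13014) (l := 7) rfl N13014 D30974
theorem N15048 : nd 15048 = n30975 := ndS (p := 13016) (l := 6) rfl N13016 D30975
theorem N15049 : nd 15049 = n30976 := ndS (p := 13018) (l := 6) rfl N13018 D30976
theorem N15050 : nd 15050 = n30977 := ndS (p := 13019) (l := 7) rfl N13019 D30977
theorem N15051 : nd 15051 = n30978 := ndS (p := 13020) (l := 7) rfl N13020 D30978
theorem N15052 : nd 15052 = n30979 := ndS (p := 13022) (l := 7) rfl N13022 D30979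
theorem N15053 : nd 15053 = n30980 := ndS (p := 13023) (l := 6) rfl N13023 D30980
theorem N15054 : nd 15054 = n30981 := ndS (p := 13023) (l := 8) rfl N13023 D30981
theorem N15055 : nd 15055 = n30982 := ndS (p := 13025) (l := 8) rfl N13025 D30982
theorem N15056 : nd 15056 = n30983 := ndS (p := 13026) (l := 9) rfl N13026 D30983
theorem N15057 : nd 15057 = n30984 := ndS (p := 13028) (l := 5) rfl N13028 D30984
theorem N15058 : nd 15058 = n30985 := ndS (p := 13028) (l := 7) rfl N13028 D30985
theorem N15059 : nd 15059 = n30986 := ndS (p := 13029) (l := 7) rfl N13029 D30986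
theorem N15060 : nd 15060 = n30987 := ndS (p := 13031) (l := 6) rfl N13031 D30987
theorem N15061 : nd 15061 = n30988 := ndS (p := 13033) (l := 6) rfl N13033 D30988
theorem N15062 : nd 15062 = n30989 := ndS (p := 13034) (l := 7) rfl N13034 D30989
theorem N15063 : nd 15063 = n30990 := ndS (p := 13035) (l := 7) rfl N13035 D30990
theorem N15064 : nd 15064 = n30991 := ndS (p := 13037) (l := 7) rfl N13037 D30991
theorem N15065 : nd 15065 = n30992 := ndS (p := 13038) (l := 6) rfl N13038 D30992
theorem N15066 : nd 15066 = n30993 := ndS (p := 13038) (l := 8) rfl N13038 D30993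
theorem N15067 : nd 15067 = n30994 := ndS (p := 13040) (l := 8) rfl N13040 D30994
theorem N15068 : nd 15068 = n30995 := ndS (p := 13041) (l := 9) rfl N13041 D30995
theorem N15069 : nd 15069 = n30996 := ndS (p := 13043) (l := 6) rfl N13043 D30996
theorem N15070 : nd 15070 = n30997 := ndS (p := 13044) (l := 7) rfl N13044 D30997
theorem N15071 : nd 15071 = n30998 := ndS (p := 13045) (l := 7) rfl N13045 D30998
theorem N15072 : nd 15072 = n30999 := ndS (p := 13047) (l := 7) rfl N13047 D30999
theorem N15073 : nd 15073 = n31000 := ndS (p := 13048) (l := 6) rfl N13048 D31000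
theorem N15074 : nd 15074 = n31001 := ndS (p := 13048) (l := 8) rfl N13048 D31001
theorem N15075 : nd 15075 = n31002 := ndS (p := 13050) (l := 8) rfl N13050 D31002
theorem N15076 : nd 15076 = n31003 := ndS (p := 13051) (l := 9) rfl N13051 D31003
theorem N15077 : nd 15077 = n31004 := ndS (p := 13053) (l := 6) rfl N13053 D31004
theorem N15078 : nd 15078 = n31005 := ndS (p := 13054) (l := 7) rfl N13054 D31005
theorem N15079 : nd 15079 = n31006 := ndS (p := 13055) (l := 7) rfl N13055 D31006
theorem N15080 : nd 15080 = n31007 := ndS (p := 13057) (l := 7) rfl N13057 D31007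
theorem N15081 : nd 15081 = n31008 := ndS (p := 13058) (l := 6) rfl N13058 D31008
theorem N15082 : nd 15082 = n31009 := ndS (p := 13058) (l := 8) rfl N13058 D31009
theorem N15083 : nd 15083 = n31010 := ndS (p := 13060) (l := 8) rfl N13060 D31010
theorem N15084 : nd 15084 = n31011 := ndS (p := 13061) (l := 9) rfl N13061 D31011
theorem N15085 : nd 15085 = n31012 := ndS (p := 13063) (l := 5) rfl N13063 D31012
theorem N15086 : nd 15086 = n31013 := ndS (p := 13063) (l := 7) rfl N13063 D31013
theorem N15087 : nd 15087 = n31014 := ndS (p := 13064) (l := 7) rfl N13064 D31014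
theorem N15088 : nd 15088 = n31015 := ndS (p := 13066) (l := 7) rfl N13066 D31015
theorem N15089 : nd 15089 = n31016 := ndS (p := 13067) (l := 6) rfl N13067 D31016
theorem N15090 : nd 15090 = n31017 := ndS (p := 13067) (l := 8) rfl N13067 D31017
theorem N15091 : nd 15091 = n31018 := ndS (p := 13069) (l := 6) rfl N13069 D31018
theorem N15092 : nd 15092 = n31019 := ndS (p := 13070) (l := 8) rfl N13070 D31019
theorem N15093 : nd 15093 = n31020 := ndS (p := 13071) (l := 9) rfl N13071 D31020
theorem N15094 : nd 15094 = n31021 := ndS (p := 13073) (l := 5) rfl N13073 D31021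
theorem N15095 : nd 15095 = n31022 := ndS (p := 13073) (l := 9) rfl N13073 D31022
theorem N15096 : nd 15096 = n31023 := ndS (p := 13075) (l := 7) rfl N13075 D31023
theorem N15097 : nd 15097 = n31024 := ndS (p := 13077) (l := 6) rfl N13077 D31024
theorem N15098 : nd 15098 = n31025 := ndS (p := 13078) (l := 6) rfl N13078 D31025
theorem N15099 : nd 15099 = n31026 := ndS (p := 13079) (l := 8) rfl N13079 D31026
theorem N15100 : nd 15100 = n31027 := ndS (p := 13081) (l := 5) rfl N13081 D31027
theorem N15101 : nd 15101 = n31028 := ndS (p := 13081) (l := 9) rfl N13081 D31028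
theorem N15102 : nd 15102 = n31029 := ndS (p := 13083) (l := 4) rfl N13083 D31029
theorem N15103 : nd 15103 = n31030 := ndS (p := 13083) (l := 7) rfl N13083 D31030
theorem N15104 : nd 15104 = n31031 := ndS (p := 13083) (l := 8) rfl N13083 D31031
theorem N15105 : nd 15105 = n31032 := ndS (p := 13085) (l := 7) rfl N13085 D31032
theorem N15106 : nd 15106 = n31033 := ndS (p := 13086) (l := 6) rfl N13086 D31033
theorem N15107 : nd 15107 = n31034 := ndS (p := 13086) (l := 8) rfl N13086 D31034
theorem N15108 : nd 15108 = n31035 := ndS (p := 13088) (l := 6) rfl N13088 D31035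
theorem N15109 : nd 15109 = n31036 := ndS (p := 13089) (l := 8) rfl N13089 D31036
theorem N15110 : nd 15110 = n31037 := ndS (p := 13090) (l := 9) rfl N13090 D31037
theorem N15111 : nd 15111 = n31038 := ndS (p := 13092) (l := 5) rfl N13092 D31038
theorem N15112 : nd 15112 = n31039 := ndS (p := 13093) (l := 5) rfl N13093 D31039
theorem N15113 : nd 15113 = n31040 := ndS (p := 13093) (l := 9) rfl N13093 D31040
theorem N15114 : nd 15114 = n31041 := ndS (p := 13095) (l := 9) rfl N13095 D31041
theorem N15115 : nd 15115 = n31042 := ndS (p := 13097) (l := 8) rfl N13097 D31042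
theorem N15116 : nd 15116 = n31043 := ndS (p := 13098) (l := 5) rfl N13098 D31043
theorem N15117 : nd 15117 = n31044 := ndS (p := 13098) (l := 7) rfl N13098 D31044
theorem N15118 : nd 15118 = n31045 := ndS (p := 13099) (l := 7) rfl N13099 D31045
theorem N15119 : nd 15119 = n31046 := ndS (p := 13101) (l := 7) rfl N13101 D31046
theorem N15120 : nd 15120 = n31047 := ndS (p := 13102) (l := 6) rfl N13102 D31047
theorem N15121 : nd 15121 = n31048 := ndS (p := 13102) (l := 8) rfl N13102 D31048
theorem N15122 : nd 15122 = n31049 := ndS (p := 13104) (l := 6) rfl N13104 D31049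
theorem N15123 : nd 15123 = n31050 := ndS (p := 13104) (l := 8) rfl N13104 D31050
theorem N15124 : nd 15124 = n31051 := ndS (p := 13106) (l := 8) rfl N13106 D31051
theorem N15125 : nd 15125 = n31052 := ndS (p := 13107) (l := 9) rfl N13107 D31052
theorem N15126 : nd 15126 = n31053 := ndS (p := 13109) (l := 5) rfl N13109 D31053
theorem N15127 : nd 15127 = n31054 := ndS (p := 13109) (l := 9) rfl N13109 D31054
theorem N15128 : nd 15128 = n31055 := ndS (p := 13111) (l := 7) rfl N13111 D31055
theorem N15129 : nd 15129 = n31056 := ndS (p := 13113) (l := 7) rfl N13113 D31056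
theorem N15130 : nd 15130 = n31057 := ndS (p := 13114) (l := 6) rfl N13114 D31057
theorem N15131 : nd 15131 = n31058 := ndS (p := 13114) (l := 8) rfl N13114 D31058
theorem N15132 : nd 15132 = n31059 := ndS (p := 13116) (l := 8) rfl N13116 D31059
theorem N15133 : nd 15133 = n31060 := ndS (p := 13117) (l := 9) rfl N13117 D31060
theorem N15134 : nd 15134 = n31061 := ndS (p := 13119) (l := 7) rfl N13119 D31061
theorem N15135 : nd 15135 = n31062 := ndS (p := 13121) (l := 6) rfl N13121 D31062
theorem N15136 : nd 15136 = n31063 := ndS (p := 13122) (l := 6) rfl N13122 D31063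
theorem N15137 : nd 15137 = n31064 := ndS (p := 13123) (l := 8) rfl N13123 D31064
theorem N15138 : nd 15138 = n31065 := ndS (p := 13125) (l := 5) rfl N13125 D31065
theorem N15139 : nd 15139 = n31066 := ndS (p := 13125) (l := 9) rfl N13125 D31066
theorem N15140 : nd 15140 = n31067 := ndS (p := 13127) (l := 5) rfl N13127 D31067
theorem N15141 : nd 15141 = n31068 := ndS (p := 13127) (l := 7) rfl N13127 D31068
theorem N15142 : nd 15142 = n31069 := ndS (p := 13128) (l := 7) rfl N13128 D31069
theorem N15143 : nd 15143 = n31070 := ndS (p := 13130) (l := 6) rfl N13130 D31070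
theorem N15144 : nd 15144 = n31071 := ndS (p := 13131) (l := 6) rfl N13131 D31071
theorem N15145 : nd 15145 = n31072 := ndS (p := 13132) (l := 8) rfl N13132 D31072
theorem N15146 : nd 15146 = n31073 := ndS (p := 13134) (l := 5) rfl N13134 D31073
theorem N15147 : nd 15147 = n31074 := ndS (p := 13134) (l := 9) rfl N13134 D31074
theorem N15148 : nd 15148 = n31075 := ndS (p := 13136) (l := 4) rfl N13136 D31075
theorem N15149 : nd 15149 = n31076 := ndS (p := 13136) (l := 7) rfl N13136 D31076
theorem N15150 : nd 15150 = n31077 := ndS (p := 13136) (l := 8) rfl N13136 D31077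
theorem N15151 : nd 15151 = n31078 := ndS (p := 13138) (l := 7) rfl N13138 D31078
theorem N15152 : nd 15152 = n31079 := ndS (p := 13139) (l := 6) rfl N13139 D31079
theorem N15153 : nd 15153 = n31080 := ndS (p := 13139) (l := 8) rfl N13139 D31080
theorem N15154 : nd 15154 = n31081 := ndS (p := 13141) (l := 6) rfl N13141 D31081
theorem N15155 : nd 15155 = n31082 := ndS (p := 13142) (l := 8) rfl N13142 D31082
theorem N15156 : nd 15156 = n31083 := ndS (p := 13144) (l := 5) rfl N13144 D31083
theorem N15157 : nd 15157 = n31084 := ndS (p := 13144) (l := 8) rfl N13144 D31084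
theorem N15158 : nd 15158 = n31085 := ndS (p := 13146) (l := 5) rfl N13146 D31085
theorem N15159 : nd 15159 = n31086 := ndS (p := 13146) (l := 9) rfl N13146 D31086
theorem N15160 : nd 15160 = n31087 := ndS (p := 13148) (l := 4) rfl N13148 D31087
theorem N15161 : nd 15161 = n31088 := ndS (p := 13148) (l := 9) rfl N13148 D31088
theorem N15162 : nd 15162 = n31089 := ndS (p := 13153) (l := 5) rfl N13153 D31089
theorem N15163 : nd 15163 = n31090 := ndS (p := 13154) (l := 4) rfl N13154 D31090
theorem N15164 : nd 15164 = n31091 := ndS (p := 13154) (l := 9) rfl N13154 D31091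
theorem N15165 : nd 15165 = n31092 := ndS (p := 13156) (l := 6) rfl N13156 D31092
theorem N15166 : nd 15166 = n31093 := ndS (p := 13156) (l := 8) rfl N13156 D31093
theorem N15167 : nd 15167 = n31094 := ndS (p := 13157) (l := 9) rfl N13157 D31094
theorem N15168 : nd 15168 = n31095 := ndS (p := 13158) (l := 8) rfl N13158 D31095
theorem N15169 : nd 15169 = n31096 := ndS (p := 13159) (l := 9) rfl N13159 D31096
theorem N15170 : nd 15170 = n31097 := ndS (p := 13161) (l := 5) rfl N13161 D31097
theorem N15171 : nd 15171 = n31098 := ndS (p := 13161) (l := 9) rfl N13161 D31098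
theorem N15172 : nd 15172 = n31099 := ndS (p := 13163) (l := 4) rfl N13163 D31099
theorem N15173 : nd 15173 = n31100 := ndS (p := 13163) (l := 9) rfl N13163 D31100
theorem N15174 : nd 15174 = n31101 := ndS (p := 13168) (l := 6) rfl N13168 D31101
theorem N15175 : nd 15175 = n31102 := ndS (p := 13171) (l := 7) rfl N13171 D31102
theorem N15176 : nd 15176 = n31103 := ndS (p := 13173) (l := 6) rfl N13173 D31103
theorem N15177 : nd 15177 = n31104 := ndS (p := 13174) (l := 6) rfl N13174 D31104
theorem N15178 : nd 15178 = n31105 := ndS (p := 13175) (l := 8) rfl N13175 D31105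
theorem N15179 : nd 15179 = n31106 := ndS (p := 13177) (l := 5) rfl N13177 D31106
theorem N15180 : nd 15180 = n31107 := ndS (p := 13180) (l := 5) rfl N13180 D31107
theorem N15181 : nd 15181 = n31108 := ndS (p := 13183) (l := 7) rfl N13183 D31108
theorem N15182 : nd 15182 = n31109 := ndS (p := 13185) (l := 6) rfl N13185 D31109
theorem N15183 : nd 15183 = n31110 := ndS (p := 13187) (l := 5) rfl N13187 D31110
theorem N15184 : nd 15184 = n31111 := ndS (p := 13188) (l := 5) rfl N13188 D31111
theorem N15185 : nd 15185 = n31112 := ndS (p := 13190) (l := 7) rfl N13190 D31112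
theorem N15186 : nd 15186 = n31113 := ndS (p := 13191) (l := 6) rfl N13191 D31113
theorem N15187 : nd 15187 = n31114 := ndS (p := 13192) (l := 6) rfl N13192 D31114
theorem N15188 : nd 15188 = n31115 := ndS (p := 13194) (l := 5) rfl N13194 D31115
theorem N15189 : nd 15189 = n31116 := ndS (p := 13195) (l := 8) rfl N13195 D31116
theorem N15190 : nd 15190 = n31117 := ndS (p := 13196) (l := 6) rfl N13196 D31117
theorem N15191 : nd 15191 = n31118 := ndS (p := 13200) (l := 8) rfl N13200 D31118
theorem N15192 : nd 15192 = n31119 := ndS (p := 13202) (l := 6) rfl N13202 D31119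
theorem N15193 : nd 15193 = n31120 := ndS (p := 13203) (l := 8) rfl N13203 D31120
theorem N15194 : nd 15194 = n31121 := ndS (p := 13205) (l := 6) rfl N13205 D31121
theorem N15195 : nd 15195 = n31122 := ndS (p := 13207) (l := 9) rfl N13207 D31122
theorem N15196 : nd 15196 = n31123 := ndS (p := 13209) (l := 8) rfl N13209 D31123
theorem N15197 : nd 15197 = n31124 := ndS (p := 13211) (l := 6) rfl N13211 D31124
theorem N15198 : nd 15198 = n31125 := ndS (p := 13213) (l := 6) rfl N13213 D31125
theorem N15199 : nd 15199 = n31126 := ndS (p := 13215) (l := 9) rfl N13215 D31126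
theorem N15200 : nd 15200 = n31127 := ndS (p := 13217) (l := 6) rfl N13217 D31127
theorem N15201 : nd 15201 = n31128 := ndS (p := 13218) (l := 8) rfl N13218 D31128
theorem N15202 : nd 15202 = n31129 := ndS (p := 13220) (l := 5) rfl N13220 D31129
theorem N15203 : nd 15203 = n31130 := ndS (p := 13220) (l := 9) rfl N13220 D31130
theorem N15204 : nd 15204 = n31131 := ndS (p := 13222) (l := 5) rfl N13222 D31131
theorem N15205 : nd 15205 = n31132 := ndS (p := 13224) (l := 6) rfl N13224 D31132
theorem N15206 : nd 15206 = n31133 := ndS (p := 13225) (l := 6) rfl N13225 D31133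
theorem N15207 : nd 15207 = n31134 := ndS (p := 13226) (l := 8) rfl N13226 D31134
theorem N15208 : nd 15208 = n31135 := ndS (p := 13228) (l := 5) rfl N13228 D31135
theorem N15209 : nd 15209 = n31136 := ndS (p := 13228) (l := 9) rfl N13228 D31136
theorem N15210 : nd 15210 = n31137 := ndS (p := 13230) (l := 6) rfl N13230 D31137
theorem N15211 : nd 15211 = n31138 := ndS (p := 13232) (l := 5) rfl N13232 D31138
theorem N15212 : nd 15212 = n31139 := ndS (p := 13232) (l := 8) rfl N13232 D31139
theorem N15213 : nd 15213 = n31140 := ndS (p := 13234) (l := 9) rfl N13234 D31140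
theorem N15214 : nd 15214 = n31141 := ndS (p := 13238) (l := 5) rfl N13238 D31141
theorem N15215 : nd 15215 = n31142 := ndS (p := 13240) (l := 5) rfl N13240 D31142
theorem N15216 : nd 15216 = n31143 := ndS (p := 13241) (l := 5) rfl N13241 D31143
theorem N15217 : nd 15217 = n31144 := ndS (p := 13241) (l := 9) rfl N13241 D31144
theorem N15218 : nd 15218 = n31145 := ndS (p := 13243) (l := 4) rfl N13243 D31145
theorem N15219 : nd 15219 = n31146 := ndS (p := 13243) (l := 9) rfl N13243 D31146
theorem N15220 : nd 15220 = n31147 := ndS (p := 13246) (l := 8) rfl N13246 D31147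
theorem N15221 : nd 15221 = n31148 := ndS (p := 13247) (l := 5) rfl N13247 D31148
theorem N15222 : nd 15222 = n31149 := ndS (p := 13247) (l := 9) rfl N13247 D31149
theorem N15223 : nd 15223 = n31150 := ndS (p := 13256) (l := 9) rfl N13256 D31150
theorem N15224 : nd 15224 = n31151 := ndS (p := 13258) (l := 8) rfl N13258 D31151
theorem N15225 : nd 15225 = n31152 := ndS (p := 13260) (l := 5) rfl N13260 D31152
theorem N15226 : nd 15226 = n31153 := ndS (p := 13262) (l := 5) rfl N13262 D31153
theorem N15227 : nd 15227 = n31154 := ndS (p := 13265) (l := 5) rfl N13265 D31154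
theorem N15228 : nd 15228 = n31155 := ndS (p := 13266) (l := 4) rfl N13266 D31155
theorem N15229 : nd 15229 = n31156 := ndS (p := 13266) (l := 9) rfl N13266 D31156
theorem N15230 : nd 15230 = n31157 := ndS (p := 13268) (l := 4) rfl N13268 D31157
theorem N15231 : nd 15231 = n31158 := ndS (p := 13269) (l := 9) rfl N13269 D31158
theorem N15232 : nd 15232 = n31159 := ndS (p := 13273) (l := 9) rfl N13273 D31159
theorem N15233 : nd 15233 = n31160 := ndS (p := 13275) (l := 6) rfl N13275 D31160
theorem N15234 : nd 15234 = n31161 := ndS (p := 13276) (l := 6) rfl N13276 D31161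
theorem N15235 : nd 15235 = n31162 := ndS (p := 13277) (l := 8) rfl N13277 D31162
theorem N15236 : nd 15236 = n31163 := ndS (p := 13281) (l := 4) rfl N13281 D31163
theorem N15237 : nd 15237 = n31164 := ndS (p := 13283) (l := 7) rfl N13283 D31164
theorem N15238 : nd 15238 = n31165 := ndS (p := 13284) (l := 6) rfl N13284 D31165
theorem N15239 : nd 15239 = n31166 := ndS (p := 13284) (l := 8) rfl N13284 D31166
theorem N15240 : nd 15240 = n31167 := ndS (p := 13286) (l := 8) rfl N13286 D31167
theorem N15241 : nd 15241 = n31168 := ndS (p := 13287) (l := 9) rfl N13287 D31168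
theorem N15242 : nd 15242 = n31169 := ndS (p := 13289) (l := 6) rfl N13289 D31169
theorem N15243 : nd 15243 = n31170 := ndS (p := 13290) (l := 6) rfl N13290 D31170
theorem N15244 : nd 15244 = n31171 := ndS (p := 13291) (l := 8) rfl N13291 D31171
theorem N15245 : nd 15245 = n31172 := ndS (p := 13293) (l := 5) rfl N13293 D31172
theorem N15246 : nd 15246 = n31173 := ndS (p := 13293) (l := 9) rfl N13293 D31173
theorem N15247 : nd 15247 = n31174 := ndS (p := 13295) (l := 5) rfl N13295 D31174
theorem N15248 : nd 15248 = n31175 := ndS (p := 13296) (l := 5) rfl N13296 D31175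
theorem N15249 : nd 15249 = n31176 := ndS (p := 13297) (l := 9) rfl N13297 D31176
theorem N15250 : nd 15250 = n31177 := ndS (p := 13299) (l := 9) rfl N13299 D31177
theorem N15251 : nd 15251 = n31178 := ndS (p := 13300) (l := 8) rfl N13300 D31178
theorem N15252 : nd 15252 = n31179 := ndS (p := 13302) (l := 5) rfl N13302 D31179
theorem N15253 : nd 15253 = n31180 := ndS (p := 13302) (l := 7) rfl N13302 D31180
theorem N15254 : nd 15254 = n31181 := ndS (p := 13303) (l := 4) rfl N13303 D31181
theorem N15255 : nd 15255 = n31182 := ndS (p := 13303) (l := 7) rfl N13303 D31182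
theorem N15256 : nd 15256 = n31183 := ndS (p := 13303) (l := 8) rfl N13303 D31183
theorem N15257 : nd 15257 = n31184 := ndS (p := 13305) (l := 6) rfl N13305 D31184
theorem N15258 : nd 15258 = n31185 := ndS (p := 13305) (l := 8) rfl N13305 D31185
theorem N15259 : nd 15259 = n31186 := ndS (p := 13306) (l := 9) rfl N13306 D31186
theorem N15260 : nd 15260 = n31187 := ndS (p := 13308) (l := 7) rfl N13308 D31187
theorem N15261 : nd 15261 = n31188 := ndS (p := 13308) (l := 8) rfl N13308 D31188
theorem N15262 : nd 15262 = n31189 := ndS (p := 13309) (l := 8) rfl N13309 D31189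
theorem N15263 : nd 15263 = n31190 := ndS (p := 13310) (l := 9) rfl N13310 D31190
theorem N15264 : nd 15264 = n31191 := ndS (p := 13311) (l := 9) rfl N13311 D31191
theorem N15265 : nd 15265 = n31192 := ndS (p := 13313) (l := 8) rfl N13313 D31192
theorem N15266 : nd 15266 = n31193 := ndS (p := 13314) (l := 5) rfl N13314 D31193
theorem N15267 : nd 15267 = n31194 := ndS (p := 13314) (l := 9) rfl N13314 D31194
theorem N15268 : nd 15268 = n31195 := ndS (p := 13315) (l := 9) rfl N13315 D31195
theorem N15269 : nd 15269 = n31196 := ndS (p := 13317) (l := 5) rfl N13317 D31196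
theorem N15270 : nd 15270 = n31197 := ndS (p := 13319) (l := 4) rfl N13319 D31197
theorem N15271 : nd 15271 = n31198 := ndS (p := 13319) (l := 7) rfl N13319 D31198
theorem N15272 : nd 15272 = n31199 := ndS (p := 13321) (l := 7) rfl N13321 D31199
theorem N15273 : nd 15273 = n31200 := ndS (p := 13322) (l := 6) rfl N13322 D31200
theorem N15274 : nd 15274 = n31201 := ndS (p := 13323) (l := 8) rfl N13323 D31201
theorem N15275 : nd 15275 = n31202 := ndS (p := 13324) (l := 9) rfl N13324 D31202
theorem N15276 : nd 15276 = n31203 := ndS (p := 13327) (l := 4) rfl N13327 D31203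
theorem N15277 : nd 15277 = n31204 := ndS (p := 13329) (l := 5) rfl N13329 D31204
theorem N15278 : nd 15278 = n31205 := ndS (p := 13330) (l := 4) rfl N13330 D31205
theorem N15279 : nd 15279 = n31206 := ndS (p := 13331) (l := 3) rfl N13331 D31206
theorem N15280 : nd 15280 = n31207 := ndS (p := 13331) (l := 7) rfl N13331 D31207
theorem N15281 : nd 15281 = n31208 := ndS (p := 13332) (l := 6) rfl N13332 D31208
theorem N15282 : nd 15282 = n31209 := ndS (p := 13333) (l := 6) rfl N13333 D31209
theorem N15283 : nd 15283 = n31210 := ndS (p := 13335) (l := 1) rfl N13335 D31210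
theorem N15284 : nd 15284 = n31211 := ndS (p := 13335) (l := 6) rfl N13335 D31211
theorem N15285 : nd 15285 = n31212 := ndS (p := 13336) (l := 5) rfl N13336 D31212
theorem N15286 : nd 15286 = n31213 := ndS (p := 13336) (l := 7) rfl N13336 D31213
theorem N15287 : nd 15287 = n31214 := ndS (p := 13337) (l := 7) rfl N13337 D31214
theorem N15288 : nd 15288 = n31215 := ndS (p := 13337) (l := 8) rfl N13337 D31215
theorem N15289 : nd 15289 = n31216 := ndS (p := 13339) (l := 6) rfl N13339 D31216
theorem N15290 : nd 15290 = n31217 := ndS (p := 13340) (l := 5) rfl N13340 D31217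
theorem N15291 : nd 15291 = n31218 := ndS (p := 13340) (l := 7) rfl N13340 D31218
theorem N15292 : nd 15292 = n31219 := ndS (p := 13341) (l := 7) rfl N13341 D31219
theorem N15293 : nd 15293 = n31220 := ndS (p := 13341) (l := 8) rfl N13341 D31220
theorem N15294 : nd 15294 = n31221 := ndS (p := 13343) (l := 6) rfl N13343 D31221
theorem N15295 : nd 15295 = n31222 := ndS (p := 13343) (l := 8) rfl N13343 D31222
theorem N15296 : nd 15296 = n31223 := ndS (p := 13344) (l := 9) rfl N13344 D31223
theorem N15297 : nd 15297 = n31224 := ndS (p := 13345) (l := 6) rfl N13345 D31224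
theorem N15298 : nd 15298 = n31225 := ndS (p := 13346) (l := 8) rfl N13346 D31225
theorem N15299 : nd 15299 = n31226 := ndS (p := 13347) (l := 9) rfl N13347 D31226
theorem N15300 : nd 15300 = n31227 := ndS (p := 13349) (l := 5) rfl N13349 D31227
theorem N15301 : nd 15301 = n31228 := ndS (p := 13349) (l := 7) rfl N13349 D31228
theorem N15302 : nd 15302 = n31229 := ndS (p := 13350) (l := 4) rfl N13350 D31229
theorem N15303 : nd 15303 = n31230 := ndS (p := 13350) (l := 7) rfl N13350 D31230
theorem N15304 : nd 15304 = n31231 := ndS (p := 13350) (l := 8) rfl N13350 D31231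
theorem N15305 : nd 15305 = n31232 := ndS (p := 13352) (l := 6) rfl N13352 D31232
theorem N15306 : nd 15306 = n31233 := ndS (p := 13352) (l := 8) rfl N13352 D31233
theorem N15307 : nd 15307 = n31234 := ndS (p := 13353) (l := 9) rfl N13353 D31234
theorem N15308 : nd 15308 = n31235 := ndS (p := 13354) (l := 4) rfl N13354 D31235
theorem N15309 : nd 15309 = n31236 := ndS (p := 13354) (l := 7) rfl N13354 D31236
theorem N15310 : nd 15310 = n31237 := ndS (p := 13354) (l := 8) rfl N13354 D31237
theorem N15311 : nd 15311 = n31238 := ndS (p := 13356) (l := 7) rfl N13356 D31238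
theorem N15312 : nd 15312 = n31239 := ndS (p := 13356) (l := 8) rfl N13356 D31239
theorem N15313 : nd 15313 = n31240 := ndS (p := 13357) (l := 6) rfl N13357 D31240
theorem N15314 : nd 15314 = n31241 := ndS (p := 13357) (l := 8) rfl N13357 D31241
theorem N15315 : nd 15315 = n31242 := ndS (p := 13358) (l := 9) rfl N13358 D31242
theorem N15316 : nd 15316 = n31243 := ndS (p := 13359) (l := 8) rfl N13359 D31243
theorem N15317 : nd 15317 = n31244 := ndS (p := 13360) (l := 9) rfl N13360 D31244
theorem N15318 : nd 15318 = n31245 := ndS (p := 13362) (l := 6) rfl N13362 D31245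
theorem N15319 : nd 15319 = n31246 := ndS (p := 13363) (l := 6) rfl N13363 D31246
theorem N15320 : nd 15320 = n31247 := ndS (p := 13363) (l := 8) rfl N13363 D31247
theorem N15321 : nd 15321 = n31248 := ndS (p := 13364) (l := 5) rfl N13364 D31248
theorem N15322 : nd 15322 = n31249 := ndS (p := 13364) (l := 9) rfl N13364 D31249
theorem N15323 : nd 15323 = n31250 := ndS (p := 13365) (l := 8) rfl N13365 D31250
theorem N15324 : nd 15324 = n31251 := ndS (p := 13366) (l := 9) rfl N13366 D31251
theorem N15325 : nd 15325 = n31252 := ndS (p := 13368) (l := 9) rfl N13368 D31252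
theorem N15326 : nd 15326 = n31253 := ndS (p := 13370) (l := 6) rfl N13370 D31253
theorem N15327 : nd 15327 = n31254 := ndS (p := 13371) (l := 5) rfl N13371 D31254
theorem N15328 : nd 15328 = n31255 := ndS (p := 13371) (l := 7) rfl N13371 D31255
theorem N15329 : nd 15329 = n31256 := ndS (p := 13372) (l := 7) rfl N13372 D31256
theorem N15330 : nd 15330 = n31257 := ndS (p := 13372) (l := 8) rfl N13372 D31257
theorem N15331 : nd 15331 = n31258 := ndS (p := 13374) (l := 5) rfl N13374 D31258
theorem N15332 : nd 15332 = n31259 := ndS (p := 13374) (l := 7) rfl N13374 D31259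
theorem N15333 : nd 15333 = n31260 := ndS (p := 13375) (l := 4) rfl N13375 D31260
theorem N15334 : nd 15334 = n31261 := ndS (p := 13375) (l := 7) rfl N13375 D31261
theorem N15335 : nd 15335 = n31262 := ndS (p := 13375) (l := 8) rfl N13375 D31262
theorem N15336 : nd 15336 = n31263 := ndS (p := 13377) (l := 6) rfl N13377 D31263
theorem N15337 : nd 15337 = n31264 := ndS (p := 13377) (l := 8) rfl N13377 D31264
theorem N15338 : nd 15338 = n31265 := ndS (p := 13378) (l := 9) rfl N13378 D31265
theorem N15339 : nd 15339 = n31266 := ndS (p := 13379) (l := 4) rfl N13379 D31266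
theorem N15340 : nd 15340 = n31267 := ndS (p := 13379) (l := 7) rfl N13379 D31267
theorem N15341 : nd 15341 = n31268 := ndS (p := 13379) (l := 8) rfl N13379 D31268
theorem N15342 : nd 15342 = n31269 := ndS (p := 13381) (l := 7) rfl N13381 D31269
theorem N15343 : nd 15343 = n31270 := ndS (p := 13381) (l := 8) rfl N13381 D31270
theorem N15344 : nd 15344 = n31271 := ndS (p := 13382) (l := 6) rfl N13382 D31271
theorem N15345 : nd 15345 = n31272 := ndS (p := 13382) (l := 8) rfl N13382 D31272
theorem N15346 : nd 15346 = n31273 := ndS (p := 13383) (l := 9) rfl N13383 D31273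
theorem N15347 : nd 15347 = n31274 := ndS (p := 13384) (l := 8) rfl N13384 D31274
theorem N15348 : nd 15348 = n31275 := ndS (p := 13385) (l := 9) rfl N13385 D31275
theorem N15349 : nd 15349 = n31276 := ndS (p := 13387) (l := 7) rfl N13387 D31276
theorem N15350 : nd 15350 = n31277 := ndS (p := 13387) (l := 8) rfl N13387 D31277
theorem N15351 : nd 15351 = n31278 := ndS (p := 13388) (l := 6) rfl N13388 D31278
theorem N15352 : nd 15352 = n31279 := ndS (p := 13388) (l := 8) rfl N13388 D31279
theorem N15353 : nd 15353 = n31280 := ndS (p := 13390) (l := 6) rfl N13390 D31280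
theorem N15354 : nd 15354 = n31281 := ndS (p := 13390) (l := 8) rfl N13390 D31281
theorem N15355 : nd 15355 = n31282 := ndS (p := 13391) (l := 5) rfl N13391 D31282
theorem N15356 : nd 15356 = n31283 := ndS (p := 13391) (l := 9) rfl N13391 D31283
theorem N15357 : nd 15357 = n31284 := ndS (p := 13392) (l := 8) rfl N13392 D31284
theorem N15358 : nd 15358 = n31285 := ndS (p := 13393) (l := 9) rfl N13393 D31285
theorem N15359 : nd 15359 = n31286 := ndS (p := 13395) (l := 5) rfl N13395 D31286
theorem N15360 : nd 15360 = n31287 := ndS (p := 13395) (l := 9) rfl N13395 D31287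
theorem N15361 : nd 15361 = n31288 := ndS (p := 13397) (l := 5) rfl N13397 D31288
theorem N15362 : nd 15362 = n31289 := ndS (p := 13397) (l := 8) rfl N13397 D31289
theorem N15363 : nd 15363 = n31290 := ndS (p := 13398) (l := 5) rfl N13398 D31290
theorem N15364 : nd 15364 = n31291 := ndS (p := 13398) (l := 9) rfl N13398 D31291
theorem N15365 : nd 15365 = n31292 := ndS (p := 13399) (l := 6) rfl N13399 D31292
theorem N15366 : nd 15366 = n31293 := ndS (p := 13399) (l := 9) rfl N13399 D31293
theorem N15367 : nd 15367 = n31294 := ndS (p := 13401) (l := 5) rfl N13401 D31294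
theorem N15368 : nd 15368 = n31295 := ndS (p := 13401) (l := 9) rfl N13401 D31295
theorem N15369 : nd 15369 = n31296 := ndS (p := 13403) (l := 4) rfl N13403 D31296
theorem N15370 : nd 15370 = n31297 := ndS (p := 13403) (l := 9) rfl N13403 D31297
theorem N15371 : nd 15371 = n31298 := ndS (p := 13405) (l := 4) rfl N13405 D31298
theorem N15372 : nd 15372 = n31299 := ndS (p := 13405) (l := 7) rfl N13405 D31299
theorem N15373 : nd 15373 = n31300 := ndS (p := 13405) (l := 8) rfl N13405 D31300
theorem N15374 : nd 15374 = n31301 := ndS (p := 13407) (l := 7) rfl N13407 D31301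
theorem N15375 : nd 15375 = n31302 := ndS (p := 13408) (l := 6) rfl N13408 D31302
theorem N15376 : nd 15376 = n31303 := ndS (p := 13408) (l := 8) rfl N13408 D31303
theorem N15377 : nd 15377 = n31304 := ndS (p := 13410) (l := 8) rfl N13410 D31304
theorem N15378 : nd 15378 = n31305 := ndS (p := 13411) (l := 9) rfl N13411 D31305
theorem N15379 : nd 15379 = n31306 := ndS (p := 13413) (l := 3) rfl N13413 D31306
theorem N15380 : nd 15380 = n31307 := ndS (p := 13413) (l := 7) rfl N13413 D31307
theorem N15381 : nd 15381 = n31308 := ndS (p := 13413) (l := 8) rfl N13413 D31308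
theorem N15382 : nd 15382 = n31309 := ndS (p := 13414) (l := 6) rfl N13414 D31309
theorem N15383 : nd 15383 = n31310 := ndS (p := 13414) (l := 8) rfl N13414 D31310
theorem N15384 : nd 15384 = n31311 := ndS (p := 13416) (l := 6) rfl N13416 D31311
theorem N15385 : nd 15385 = n31312 := ndS (p := 13416) (l := 8) rfl N13416 D31312
theorem N15386 : nd 15386 = n31313 := ndS (p := 13418) (l := 8) rfl N13418 D31313
theorem N15387 : nd 15387 = n31314 := ndS (p := 13420) (l := 5) rfl N13420 D31314
theorem N15388 : nd 15388 = n31315 := ndS (p := 13420) (l := 9) rfl N13420 D31315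
theorem N15389 : nd 15389 = n31316 := ndS (p := 13422) (l := 8) rfl N13422 D31316
theorem N15390 : nd 15390 = n31317 := ndS (p := 13424) (l := 5) rfl N13424 D31317
theorem N15391 : nd 15391 = n31318 := ndS (p := 13425) (l := 4) rfl N13425 D31318
theorem N15392 : nd 15392 = n31319 := ndS (p := 13425) (l := 9) rfl N13425 D31319
theorem N15393 : nd 15393 = n31320 := ndS (p := 13427) (l := 3) rfl N13427 D31320
theorem N15394 : nd 15394 = n31321 := ndS (p := 13427) (l := 9) rfl N13427 D31321
theorem N15395 : nd 15395 = n31322 := ndS (p := 13428) (l := 8) rfl N13428 D31322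
theorem N15396 : nd 15396 = n31323 := ndS (p := 13429) (l := 7) rfl N13429 D31323
theorem N15397 : nd 15397 = n31324 := ndS (p := 13430) (l := 6) rfl N13430 D31324
theorem N15398 : nd 15398 = n31325 := ndS (p := 13432) (l := 5) rfl N13432 D31325
theorem N15399 : nd 15399 = n31326 := ndS (p := 13433) (l := 7) rfl N13433 D31326
theorem N15400 : nd 15400 = n31327 := ndS (p := 13434) (l := 7) rfl N13434 D31327
theorem N15401 : nd 15401 = n31328 := ndS (p := 13436) (l := 6) rfl N13436 D31328
theorem N15402 : nd 15402 = n31329 := ndS (p := 13436) (l := 8) rfl N13436 D31329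
theorem N15403 : nd 15403 = n31330 := ndS (p := 13438) (l := 8) rfl N13438 D31330
theorem N15404 : nd 15404 = n31331 := ndS (p := 13439) (l := 9) rfl N13439 D31331
theorem N15405 : nd 15405 = n31332 := ndS (p := 13441) (l := 8) rfl N13441 D31332
theorem N15406 : nd 15406 = n31333 := ndS (p := 13442) (l := 9) rfl N13442 D31333
theorem N15407 : nd 15407 = n31334 := ndS (p := 13444) (l := 5) rfl N13444 D31334
theorem N15408 : nd 15408 = n31335 := ndS (p := 13444) (l := 9) rfl N13444 D31335
theorem N15409 : nd 15409 = n31336 := ndS (p := 13446) (l := 6) rfl N13446 D31336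
theorem N15410 : nd 15410 = n31337 := ndS (p := 13447) (l := 6) rfl N13447 D31337
theorem N15411 : nd 15411 = n31338 := ndS (p := 13448) (l := 8) rfl N13448 D31338
theorem N15412 : nd 15412 = n31339 := ndS (p := 13449) (l := 9) rfl N13449 D31339
theorem N15413 : nd 15413 = n31340 := ndS (p := 13451) (l := 9) rfl N13451 D31340
theorem N15414 : nd 15414 = n31341 := ndS (p := 13454) (l := 9) rfl N13454 D31341
theorem N15415 : nd 15415 = n31342 := ndS (p := 13457) (l := 9) rfl N13457 D31342
theorem N15416 : nd 15416 = n31343 := ndS (p := 13459) (l := 9) rfl N13459 D31343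
theorem N15417 : nd 15417 = n31344 := ndS (p := 13461) (l := 4) rfl N13461 D31344
theorem N15418 : nd 15418 = n31345 := ndS (p := 13461) (l := 9) rfl N13461 D31345
theorem N15419 : nd 15419 = n31346 := ndS (p := 13463) (l := 6) rfl N13463 D31346
theorem N15420 : nd 15420 = n31347 := ndS (p := 13465) (l := 5) rfl N13465 D31347
theorem N15421 : nd 15421 = n31348 := ndS (p := 13465) (l := 8) rfl N13465 D31348
theorem N15422 : nd 15422 = n31349 := ndS (p := 13466) (l := 9) rfl N13466 D31349
theorem N15423 : nd 15423 = n31350 := ndS (p := 13468) (l := 9) rfl N13468 D31350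
theorem N15424 : nd 15424 = n31351 := ndS (p := 13470) (l := 9) rfl N13470 D31351
theorem N15425 : nd 15425 = n31352 := ndS (p := 13473) (l := 9) rfl N13473 D31352
theorem N15426 : nd 15426 = n31353 := ndS (p := 13474) (l := 9) rfl N13474 D31353
theorem N15427 : nd 15427 = n31354 := ndS (p := 13476) (l := 8) rfl N13476 D31354
theorem N15428 : nd 15428 = n31355 := ndS (p := 13477) (l := 9) rfl N13477 D31355
theorem N15429 : nd 15429 = n31356 := ndS (p := 13479) (l := 9) rfl N13479 D31356
theorem N15430 : nd 15430 = n31357 := ndS (p := 13480) (l := 8) rfl N13480 D31357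
theorem N15431 : nd 15431 = n31358 := ndS (p := 13481) (l := 9) rfl N13481 D31358
theorem N15432 : nd 15432 = n31359 := ndS (p := 13482) (l := 8) rfl N13482 D31359
theorem N15433 : nd 15433 = n31360 := ndS (p := 13483) (l := 2) rfl N13483 D31360
theorem N15434 : nd 15434 = n31361 := ndS (p := 13483) (l := 9) rfl N13483 D31361
theorem N15435 : nd 15435 = n31362 := ndS (p := 13484) (l := 8) rfl N13484 D31362
theorem N15436 : nd 15436 = n31363 := ndS (p := 13486) (l := 1) rfl N13486 D31363
theorem N15437 : nd 15437 = n31364 := ndS (p := 13486) (l := 6) rfl N13486 D31364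
theorem N15438 : nd 15438 = n31365 := ndS (p := 13487) (l := 5) rfl N13487 D31365
theorem N15439 : nd 15439 = n31366 := ndS (p := 13487) (l := 7) rfl N13487 D31366
theorem N15440 : nd 15440 = n31367 := ndS (p := 13488) (l := 7) rfl N13488 D31367
theorem N15441 : nd 15441 = n31368 := ndS (p := 13488) (l := 8) rfl N13488 D31368
theorem N15442 : nd 15442 = n31369 := ndS (p := 13490) (l := 6) rfl N13490 D31369
theorem N15443 : nd 15443 = n31370 := ndS (p := 13491) (l := 7) rfl N13491 D31370
theorem N15444 : nd 15444 = n31371 := ndS (p := 13492) (l := 7) rfl N13492 D31371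
theorem N15445 : nd 15445 = n31372 := ndS (p := 13492) (l := 8) rfl N13492 D31372
theorem N15446 : nd 15446 = n31373 := ndS (p := 13494) (l := 6) rfl N13494 D31373
theorem N15447 : nd 15447 = n31374 := ndS (p := 13494) (l := 8) rfl N13494 D31374
theorem N15448 : nd 15448 = n31375 := ndS (p := 13496) (l := 6) rfl N13496 D31375
theorem N15449 : nd 15449 = n31376 := ndS (p := 13497) (l := 8) rfl N13497 D31376
theorem N15450 : nd 15450 = n31377 := ndS (p := 13499) (l := 6) rfl N13499 D31377
theorem N15451 : nd 15451 = n31378 := ndS (p := 13500) (l := 5) rfl N13500 D31378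
theorem N15452 : nd 15452 = n31379 := ndS (p := 13500) (l := 7) rfl N13500 D31379
theorem N15453 : nd 15453 = n31380 := ndS (p := 13501) (l := 7) rfl N13501 D31380
theorem N15454 : nd 15454 = n31381 := ndS (p := 13501) (l := 8) rfl N13501 D31381
theorem N15455 : nd 15455 = n31382 := ndS (p := 13503) (l := 5) rfl N13503 D31382
theorem N15456 : nd 15456 = n31383 := ndS (p := 13503) (l := 7) rfl N13503 D31383
theorem N15457 : nd 15457 = n31384 := ndS (p := 13504) (l := 4) rfl N13504 D31384
theorem N15458 : nd 15458 = n31385 := ndS (p := 13504) (l := 7) rfl N13504 D31385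
theorem N15459 : nd 15459 = n31386 := ndS (p := 13504) (l := 8) rfl N13504 D31386
theorem N15460 : nd 15460 = n31387 := ndS (p := 13506) (l := 6) rfl N13506 D31387
theorem N15461 : nd 15461 = n31388 := ndS (p := 13506) (l := 8) rfl N13506 D31388
theorem N15462 : nd 15462 = n31389 := ndS (p := 13507) (l := 9) rfl N13507 D31389
theorem N15463 : nd 15463 = n31390 := ndS (p := 13508) (l := 7) rfl N13508 D31390
theorem N15464 : nd 15464 = n31391 := ndS (p := 13508) (l := 8) rfl N13508 D31391
theorem N15465 : nd 15465 = n31392 := ndS (p := 13510) (l := 7) rfl N13510 D31392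
theorem N15466 : nd 15466 = n31393 := ndS (p := 13510) (l := 8) rfl N13510 D31393
theorem N15467 : nd 15467 = n31394 := ndS (p := 13511) (l := 6) rfl N13511 D31394
theorem N15468 : nd 15468 = n31395 := ndS (p := 13511) (l := 8) rfl N13511 D31395
theorem N15469 : nd 15469 = n31396 := ndS (p := 13512) (l := 9) rfl N13512 D31396
theorem N15470 : nd 15470 = n31397 := ndS (p := 13513) (l := 8) rfl N13513 D31397
theorem N15471 : nd 15471 = n31398 := ndS (p := 13514) (l := 9) rfl N13514 D31398
theorem N15472 : nd 15472 = n31399 := ndS (p := 13516) (l := 6) rfl N13516 D31399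
theorem N15473 : nd 15473 = n31400 := ndS (p := 13517) (l := 6) rfl N13517 D31400
theorem N15474 : nd 15474 = n31401 := ndS (p := 13517) (l := 8) rfl N13517 D31401
theorem N15475 : nd 15475 = n31402 := ndS (p := 13518) (l := 5) rfl N13518 D31402
theorem N15476 : nd 15476 = n31403 := ndS (p := 13519) (l := 8) rfl N13519 D31403
theorem N15477 : nd 15477 = n31404 := ndS (p := 13521) (l := 5) rfl N13521 D31404
theorem N15478 : nd 15478 = n31405 := ndS (p := 13521) (l := 9) rfl N13521 D31405
theorem N15479 : nd 15479 = n31406 := ndS (p := 13523) (l := 6) rfl N13523 D31406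
theorem N15480 : nd 15480 = n31407 := ndS (p := 13524) (l := 5) rfl N13524 D31407
theorem N15481 : nd 15481 = n31408 := ndS (p := 13524) (l := 7) rfl N13524 D31408
theorem N15482 : nd 15482 = n31409 := ndS (p := 13525) (l := 7) rfl N13525 D31409
theorem N15483 : nd 15483 = n31410 := ndS (p := 13525) (l := 8) rfl N13525 D31410
theorem N15484 : nd 15484 = n31411 := ndS (p := 13527) (l := 1) rfl N13527 D31411
theorem N15485 : nd 15485 = n31412 := ndS (p := 13527) (l := 6) rfl N13527 D31412
theorem N15486 : nd 15486 = n31413 := ndS (p := 13528) (l := 5) rfl N13528 D31413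
theorem N15487 : nd 15487 = n31414 := ndS (p := 13528) (l := 7) rfl N13528 D31414
theorem N15488 : nd 15488 = n31415 := ndS (p := 13529) (l := 7) rfl N13529 D31415
theorem N15489 : nd 15489 = n31416 := ndS (p := 13529) (l := 8) rfl N13529 D31416
theorem N15490 : nd 15490 = n31417 := ndS (p := 13531) (l := 1) rfl N13531 D31417
theorem N15491 : nd 15491 = n31418 := ndS (p := 13531) (l := 6) rfl N13531 D31418
theorem N15492 : nd 15492 = n31419 := ndS (p := 13532) (l := 5) rfl N13532 D31419
theorem N15493 : nd 15493 = n31420 := ndS (p := 13532) (l := 7) rfl N13532 D31420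
theorem N15494 : nd 15494 = n31421 := ndS (p := 13533) (l := 7) rfl N13533 D31421
theorem N15495 : nd 15495 = n31422 := ndS (p := 13533) (l := 8) rfl N13533 D31422
theorem N15496 : nd 15496 = n31423 := ndS (p := 13535) (l := 0) rfl N13535 D31423
theorem N15497 : nd 15497 = n31424 := ndS (p := 13535) (l := 6) rfl N13535 D31424
theorem N15498 : nd 15498 = n31425 := ndS (p := 13536) (l := 5) rfl N13536 D31425
theorem N15499 : nd 15499 = n31426 := ndS (p := 13536) (l := 7) rfl N13536 D31426
theorem N15500 : nd 15500 = n31427 := ndS (p := 13537) (l := 4) rfl N13537 D31427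
theorem N15501 : nd 15501 = n31428 := ndS (p := 13537) (l := 7) rfl N13537 D31428
theorem N15502 : nd 15502 = n31429 := ndS (p := 13537) (l := 8) rfl N13537 D31429
theorem N15503 : nd 15503 = n31430 := ndS (p := 13539) (l := 6) rfl N13539 D31430
theorem N15504 : nd 15504 = n31431 := ndS (p := 13539) (l := 8) rfl N13539 D31431
theorem N15505 : nd 15505 = n31432 := ndS (p := 13540) (l := 9) rfl N13540 D31432
theorem N15506 : nd 15506 = n31433 := ndS (p := 13541) (l := 1) rfl N13541 D31433
theorem N15507 : nd 15507 = n31434 := ndS (p := 13541) (l := 6) rfl N13541 D31434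
theorem N15508 : nd 15508 = n31435 := ndS (p := 13542) (l := 5) rfl N13542 D31435
theorem N15509 : nd 15509 = n31436 := ndS (p := 13542) (l := 7) rfl N13542 D31436
theorem N15510 : nd 15510 = n31437 := ndS (p := 13543) (l := 7) rfl N13543 D31437
theorem N15511 : nd 15511 = n31438 := ndS (p := 13543) (l := 8) rfl N13543 D31438
theorem N15512 : nd 15512 = n31439 := ndS (p := 13545) (l := 1) rfl N13545 D31439
theorem N15513 : nd 15513 = n31440 := ndS (p := 13545) (l := 6) rfl N13545 D31440
theorem N15514 : nd 15514 = n31441 := ndS (p := 13546) (l := 5) rfl N13546 D31441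
theorem N15515 : nd 15515 = n31442 := ndS (p := 13546) (l := 7) rfl N13546 D31442
theorem N15516 : nd 15516 = n31443 := ndS (p := 13547) (l := 7) rfl N13547 D31443
theorem N15517 : nd 15517 = n31444 := ndS (p := 13547) (l := 8) rfl N13547 D31444
theorem N15518 : nd 15518 = n31445 := ndS (p := 13549) (l := 0) rfl N13549 D31445
theorem N15519 : nd 15519 = n31446 := ndS (p := 13550) (l := 5) rfl N13550 D31446
theorem N15520 : nd 15520 = n31447 := ndS (p := 13550) (l := 7) rfl N13550 D31447
theorem N15521 : nd 15521 = n31448 := ndS (p := 13551) (l := 4) rfl N13551 D31448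
theorem N15522 : nd 15522 = n31449 := ndS (p := 13551) (l := 7) rfl N13551 D31449
theorem N15523 : nd 15523 = n31450 := ndS (p := 13551) (l := 8) rfl N13551 D31450
theorem N15524 : nd 15524 = n31451 := ndS (p := 13553) (l := 6) rfl N13553 D31451
theorem N15525 : nd 15525 = n31452 := ndS (p := 13553) (l := 8) rfl N13553 D31452
theorem N15526 : nd 15526 = n31453 := ndS (p := 13554) (l := 9) rfl N13554 D31453
theorem N15527 : nd 15527 = n31454 := ndS (p := 13555) (l := 0) rfl N13555 D31454
theorem N15528 : nd 15528 = n31455 := ndS (p := 13555) (l := 6) rfl N13555 D31455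
theorem N15529 : nd 15529 = n31456 := ndS (p := 13556) (l := 5) rfl N13556 D31456
theorem N15530 : nd 15530 = n31457 := ndS (p := 13556) (l := 7) rfl N13556 D31457
theorem N15531 : nd 15531 = n31458 := ndS (p := 13557) (l := 4) rfl N13557 D31458
theorem N15532 : nd 15532 = n31459 := ndS (p := 13557) (l := 7) rfl N13557 D31459
theorem N15533 : nd 15533 = n31460 := ndS (p := 13557) (l := 8) rfl N13557 D31460
theorem N15534 : nd 15534 = n31461 := ndS (p := 13559) (l := 6) rfl N13559 D31461
theorem N15535 : nd 15535 = n31462 := ndS (p := 13559) (l := 8) rfl N13559 D31462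
theorem N15536 : nd 15536 = n31463 := ndS (p := 13560) (l := 9) rfl N13560 D31463
theorem N15537 : nd 15537 = n31464 := ndS (p := 13561) (l := 6) rfl N13561 D31464
theorem N15538 : nd 15538 = n31465 := ndS (p := 13562) (l := 5) rfl N13562 D31465
theorem N15539 : nd 15539 = n31466 := ndS (p := 13562) (l := 7) rfl N13562 D31466
theorem N15540 : nd 15540 = n31467 := ndS (p := 13563) (l := 4) rfl N13563 D31467
theorem N15541 : nd 15541 = n31468 := ndS (p := 13563) (l := 7) rfl N13563 D31468
theorem N15542 : nd 15542 = n31469 := ndS (p := 13563) (l := 8) rfl N13563 D31469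
theorem N15543 : nd 15543 = n31470 := ndS (p := 13565) (l := 7) rfl N13565 D31470
theorem N15544 : nd 15544 = n31471 := ndS (p := 13565) (l := 8) rfl N13565 D31471
theorem N15545 : nd 15545 = n31472 := ndS (p := 13566) (l := 6) rfl N13566 D31472
theorem N15546 : nd 15546 = n31473 := ndS (p := 13566) (l := 8) rfl N13566 D31473
theorem N15547 : nd 15547 = n31474 := ndS (p := 13567) (l := 9) rfl N13567 D31474
theorem N15548 : nd 15548 = n31475 := ndS (p := 13568) (l := 8) rfl N13568 D31475
theorem N15549 : nd 15549 = n31476 := ndS (p := 13569) (l := 9) rfl N13569 D31476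
theorem N15550 : nd 15550 = n31477 := ndS (p := 13573) (l := 6) rfl N13573 D31477
theorem N15551 : nd 15551 = n31478 := ndS (p := 13573) (l := 8) rfl N13573 D31478
theorem N15552 : nd 15552 = n31479 := ndS (p := 13574) (l := 9) rfl N13574 D31479
theorem N15553 : nd 15553 = n31480 := ndS (p := 13575) (l := 8) rfl N13575 D31480
theorem N15554 : nd 15554 = n31481 := ndS (p := 13576) (l := 9) rfl N13576 D31481
theorem N15555 : nd 15555 = n31482 := ndS (p := 13578) (l := 5) rfl N13578 D31482
theorem N15556 : nd 15556 = n31483 := ndS (p := 13578) (l := 7) rfl N13578 D31483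
theorem N15557 : nd 15557 = n31484 := ndS (p := 13579) (l := 7) rfl N13579 D31484
theorem N15558 : nd 15558 = n31485 := ndS (p := 13579) (l := 8) rfl N13579 D31485
theorem N15559 : nd 15559 = n31486 := ndS (p := 13581) (l := 7) rfl N13581 D31486
theorem N15560 : nd 15560 = n31487 := ndS (p := 13581) (l := 8) rfl N13581 D31487
theorem N15561 : nd 15561 = n31488 := ndS (p := 13582) (l := 6) rfl N13582 D31488
theorem N15562 : nd 15562 = n31489 := ndS (p := 13582) (l := 8) rfl N13582 D31489
theorem N15563 : nd 15563 = n31490 := ndS (p := 13583) (l := 9) rfl N13583 D31490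
theorem N15564 : nd 15564 = n31491 := ndS (p := 13584) (l := 6) rfl N13584 D31491
theorem N15565 : nd 15565 = n31492 := ndS (p := 13584) (l := 8) rfl N13584 D31492
theorem N15566 : nd 15566 = n31493 := ndS (p := 13585) (l := 5) rfl N13585 D31493
theorem N15567 : nd 15567 = n31494 := ndS (p := 13585) (l := 9) rfl N13585 D31494
theorem N15568 : nd 15568 = n31495 := ndS (p := 13586) (l := 8) rfl N13586 D31495
theorem N15569 : nd 15569 = n31496 := ndS (p := 13587) (l := 9) rfl N13587 D31496
theorem N15570 : nd 15570 = n31497 := ndS (p := 13589) (l := 5) rfl N13589 D31497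
theorem N15571 : nd 15571 = n31498 := ndS (p := 13589) (l := 9) rfl N13589 D31498
theorem N15572 : nd 15572 = n31499 := ndS (p := 13591) (l := 5) rfl N13591 D31499
theorem N15573 : nd 15573 = n31500 := ndS (p := 13591) (l := 8) rfl N13591 D31500
theorem N15574 : nd 15574 = n31501 := ndS (p := 13592) (l := 5) rfl N13592 D31501
theorem N15575 : nd 15575 = n31502 := ndS (p := 13592) (l := 9) rfl N13592 D31502
theorem N15576 : nd 15576 = n31503 := ndS (p := 13593) (l := 6) rfl N13593 D31503
theorem N15577 : nd 15577 = n31504 := ndS (p := 13593) (l := 9) rfl N13593 D31504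
theorem N15578 : nd 15578 = n31505 := ndS (p := 13597) (l := 4) rfl N13597 D31505
theorem N15579 : nd 15579 = n31506 := ndS (p := 13599) (l := 0) rfl N13599 D31506
theorem N15580 : nd 15580 = n31507 := ndS (p := 13599) (l := 6) rfl N13599 D31507
theorem N15581 : nd 15581 = n31508 := ndS (p := 13600) (l := 5) rfl N13600 D31508
theorem N15582 : nd 15582 = n31509 := ndS (p := 13600) (l := 7) rfl N13600 D31509
theorem N15583 : nd 15583 = n31510 := ndS (p := 13601) (l := 4) rfl N13601 D31510
theorem N15584 : nd 15584 = n31511 := ndS (p := 13601) (l := 7) rfl N13601 D31511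
theorem N15585 : nd 15585 = n31512 := ndS (p := 13601) (l := 8) rfl N13601 D31512
theorem N15586 : nd 15586 = n31513 := ndS (p := 13603) (l := 6) rfl N13603 D31513
theorem N15587 : nd 15587 = n31514 := ndS (p := 13603) (l := 8) rfl N13603 D31514
theorem N15588 : nd 15588 = n31515 := ndS (p := 13605) (l := 0) rfl N13605 D31515
theorem N15589 : nd 15589 = n31516 := ndS (p := 13605) (l := 6) rfl N13605 D31516
theorem N15590 : nd 15590 = n31517 := ndS (p := 13606) (l := 5) rfl N13606 D31517
theorem N15591 : nd 15591 = n31518 := ndS (p := 13606) (l := 7) rfl N13606 D31518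
theorem N15592 : nd 15592 = n31519 := ndS (p := 13607) (l := 4) rfl N13607 D31519
theorem N15593 : nd 15593 = n31520 := ndS (p := 13607) (l := 7) rfl N13607 D31520
theorem N15594 : nd 15594 = n31521 := ndS (p := 13607) (l := 8) rfl N13607 D31521
theorem N15595 : nd 15595 = n31522 := ndS (p := 13609) (l := 6) rfl N13609 D31522
theorem N15596 : nd 15596 = n31523 := ndS (p := 13609) (l := 8) rfl N13609 D31523
theorem N15597 : nd 15597 = n31524 := ndS (p := 13610) (l := 9) rfl N13610 D31524
theorem N15598 : nd 15598 = n31525 := ndS (p := 13611) (l := 6) rfl N13611 D31525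
theorem N15599 : nd 15599 = n31526 := ndS (p := 13612) (l := 5) rfl N13612 D31526
theorem N15600 : nd 15600 = n31527 := ndS (p := 13612) (l := 7) rfl N13612 D31527
theorem N15601 : nd 15601 = n31528 := ndS (p := 13613) (l := 4) rfl N13613 D31528
theorem N15602 : nd 15602 = n31529 := ndS (p := 13613) (l := 7) rfl N13613 D31529
theorem N15603 : nd 15603 = n31530 := ndS (p := 13613) (l := 8) rfl N13613 D31530
theorem N15604 : nd 15604 = n31531 := ndS (p := 13615) (l := 7) rfl N13615 D31531
theorem N15605 : nd 15605 = n31532 := ndS (p := 13615) (l := 8) rfl N13615 D31532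
theorem N15606 : nd 15606 = n31533 := ndS (p := 13616) (l := 6) rfl N13616 D31533
theorem N15607 : nd 15607 = n31534 := ndS (p := 13616) (l := 8) rfl N13616 D31534
theorem N15608 : nd 15608 = n31535 := ndS (p := 13617) (l := 9) rfl N13617 D31535
theorem N15609 : nd 15609 = n31536 := ndS (p := 13618) (l := 8) rfl N13618 D31536
theorem N15610 : nd 15610 = n31537 := ndS (p := 13619) (l := 9) rfl N13619 D31537
theorem N15611 : nd 15611 = n31538 := ndS (p := 13621) (l := 0) rfl N13621 D31538
theorem N15612 : nd 15612 = n31539 := ndS (p := 13621) (l := 6) rfl N13621 D31539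
theorem N15613 : nd 15613 = n31540 := ndS (p := 13622) (l := 5) rfl N13622 D31540
theorem N15614 : nd 15614 = n31541 := ndS (p := 13622) (l := 7) rfl N13622 D31541
theorem N15615 : nd 15615 = n31542 := ndS (p := 13623) (l := 4) rfl N13623 D31542
theorem N15616 : nd 15616 = n31543 := ndS (p := 13623) (l := 7) rfl N13623 D31543
theorem N15617 : nd 15617 = n31544 := ndS (p := 13625) (l := 6) rfl N13625 D31544
theorem N15618 : nd 15618 = n31545 := ndS (p := 13625) (l := 8) rfl N13625 D31545
theorem N15619 : nd 15619 = n31546 := ndS (p := 13627) (l := 0) rfl N13627 D31546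
theorem N15620 : nd 15620 = n31547 := ndS (p := 13628) (l := 5) rfl N13628 D31547
theorem N15621 : nd 15621 = n31548 := ndS (p := 13628) (l := 7) rfl N13628 D31548
theorem N15622 : nd 15622 = n31549 := ndS (p := 13629) (l := 4) rfl N13629 D31549
theorem N15623 : nd 15623 = n31550 := ndS (p := 13629) (l := 7) rfl N13629 D31550
theorem N15624 : nd 15624 = n31551 := ndS (p := 13629) (l := 8) rfl N13629 D31551
theorem N15625 : nd 15625 = n31552 := ndS (p := 13631) (l := 6) rfl N13631 D31552
theorem N15626 : nd 15626 = n31553 := ndS (p := 13631) (l := 8) rfl N13631 D31553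
theorem N15627 : nd 15627 = n31554 := ndS (p := 13634) (l := 7) rfl N13634 D31554
theorem N15628 : nd 15628 = n31555 := ndS (p := 13636) (l := 7) rfl N13636 D31555
theorem N15629 : nd 15629 = n31556 := ndS (p := 13637) (l := 6) rfl N13637 D31556
theorem N15630 : nd 15630 = n31557 := ndS (p := 13637) (l := 8) rfl N13637 D31557
theorem N15631 : nd 15631 = n31558 := ndS (p := 13639) (l := 8) rfl N13639 D31558
theorem N15632 : nd 15632 = n31559 := ndS (p := 13640) (l := 9) rfl N13640 D31559
theorem N15633 : nd 15633 = n31560 := ndS (p := 13642) (l := 6) rfl N13642 D31560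
theorem N15634 : nd 15634 = n31561 := ndS (p := 13643) (l := 5) rfl N13643 D31561
theorem N15635 : nd 15635 = n31562 := ndS (p := 13643) (l := 7) rfl N13643 D31562
theorem N15636 : nd 15636 = n31563 := ndS (p := 13644) (l := 4) rfl N13644 D31563
theorem N15637 : nd 15637 = n31564 := ndS (p := 13644) (l := 7) rfl N13644 D31564
theorem N15638 : nd 15638 = n31565 := ndS (p := 13644) (l := 8) rfl N13644 D31565
theorem N15639 : nd 15639 = n31566 := ndS (p := 13646) (l := 7) rfl N13646 D31566
theorem N15640 : nd 15640 = n31567 := ndS (p := 13646) (l := 8) rfl N13646 D31567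
theorem N15641 : nd 15641 = n31568 := ndS (p := 13647) (l := 6) rfl N13647 D31568
theorem N15642 : nd 15642 = n31569 := ndS (p := 13647) (l := 8) rfl N13647 D31569
theorem N15643 : nd 15643 = n31570 := ndS (p := 13648) (l := 9) rfl N13648 D31570
theorem N15644 : nd 15644 = n31571 := ndS (p := 13649) (l := 8) rfl N13649 D31571
theorem N15645 : nd 15645 = n31572 := ndS (p := 13650) (l := 9) rfl N13650 D31572
theorem N15646 : nd 15646 = n31573 := ndS (p := 13652) (l := 5) rfl N13652 D31573
theorem N15647 : nd 15647 = n31574 := ndS (p := 13652) (l := 7) rfl N13652 D31574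
theorem N15648 : nd 15648 = n31575 := ndS (p := 13653) (l := 4) rfl N13653 D31575
theorem N15649 : nd 15649 = n31576 := ndS (p := 13653) (l := 7) rfl N13653 D31576
theorem N15650 : nd 15650 = n31577 := ndS (p := 13653) (l := 8) rfl N13653 D31577
theorem N15651 : nd 15651 = n31578 := ndS (p := 13655) (l := 3) rfl N13655 D31578
theorem N15652 : nd 15652 = n31579 := ndS (p := 13655) (l := 7) rfl N13655 D31579
theorem N15653 : nd 15653 = n31580 := ndS (p := 13655) (l := 8) rfl N13655 D31580
theorem N15654 : nd 15654 = n31581 := ndS (p := 13656) (l := 6) rfl N13656 D31581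
theorem N15655 : nd 15655 = n31582 := ndS (p := 13656) (l := 8) rfl N13656 D31582
theorem N15656 : nd 15656 = n31583 := ndS (p := 13657) (l := 9) rfl N13657 D31583
theorem N15657 : nd 15657 = n31584 := ndS (p := 13658) (l := 6) rfl N13658 D31584
theorem N15658 : nd 15658 = n31585 := ndS (p := 13658) (l := 8) rfl N13658 D31585
theorem N15659 : nd 15659 = n31586 := ndS (p := 13659) (l := 9) rfl N13659 D31586
theorem N15660 : nd 15660 = n31587 := ndS (p := 13660) (l := 8) rfl N13660 D31587
theorem N15661 : nd 15661 = n31588 := ndS (p := 13661) (l := 9) rfl N13661 D31588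
theorem N15662 : nd 15662 = n31589 := ndS (p := 13663) (l := 5) rfl N13663 D31589
theorem N15663 : nd 15663 = n31590 := ndS (p := 13663) (l := 9) rfl N13663 D31590
theorem N15664 : nd 15664 = n31591 := ndS (p := 13665) (l := 8) rfl N13665 D31591
theorem N15665 : nd 15665 = n31592 := ndS (p := 13667) (l := 5) rfl N13667 D31592
theorem N15666 : nd 15666 = n31593 := ndS (p := 13667) (l := 9) rfl N13667 D31593
theorem N15667 : nd 15667 = n31594 := ndS (p := 13669) (l := 7) rfl N13669 D31594
theorem N15668 : nd 15668 = n31595 := ndS (p := 13669) (l := 8) rfl N13669 D31595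
theorem N15669 : nd 15669 = n31596 := ndS (p := 13671) (l := 8) rfl N13671 D31596
theorem N15670 : nd 15670 = n31597 := ndS (p := 13672) (l := 9) rfl N13672 D31597
theorem N15671 : nd 15671 = n31598 := ndS (p := 13673) (l := 8) rfl N13673 D31598
theorem N15672 : nd 15672 = n31599 := ndS (p := 13674) (l := 9) rfl N13674 D31599
theorem N15673 : nd 15673 = n31600 := ndS (p := 13676) (l := 5) rfl N13676 D31600
theorem N15674 : nd 15674 = n31601 := ndS (p := 13676) (l := 9) rfl N13676 D31601
theorem N15675 : nd 15675 = n31602 := ndS (p := 13678) (l := 4) rfl N13678 D31602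
theorem N15676 : nd 15676 = n31603 := ndS (p := 13678) (l := 9) rfl N13678 D31603
theorem N15677 : nd 15677 = n31604 := ndS (p := 13683) (l := 7) rfl N13683 D31604
theorem N15678 : nd 15678 = n31605 := ndS (p := 13685) (l := 7) rfl N13685 D31605
theorem N15679 : nd 15679 = n31606 := ndS (p := 13686) (l := 6) rfl N13686 D31606
theorem N15680 : nd 15680 = n31607 := ndS (p := 13687) (l := 8) rfl N13687 D31607
theorem N15681 : nd 15681 = n31608 := ndS (p := 13691) (l := 7) rfl N13691 D31608
theorem N15682 : nd 15682 = n31609 := ndS (p := 13692) (l := 6) rfl N13692 D31609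
theorem N15683 : nd 15683 = n31610 := ndS (p := 13693) (l := 8) rfl N13693 D31610
theorem N15684 : nd 15684 = n31611 := ndS (p := 13695) (l := 6) rfl N13695 D31611
theorem N15685 : nd 15685 = n31612 := ndS (p := 13698) (l := 5) rfl N13698 D31612
theorem N15686 : nd 15686 = n31613 := ndS (p := 13698) (l := 7) rfl N13698 D31613
theorem N15687 : nd 15687 = n31614 := ndS (p := 13699) (l := 4) rfl N13699 D31614
theorem N15688 : nd 15688 = n31615 := ndS (p := 13699) (l := 7) rfl N13699 D31615
theorem N15689 : nd 15689 = n31616 := ndS (p := 13699) (l := 8) rfl N13699 D31616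
theorem N15690 : nd 15690 = n31617 := ndS (p := 13701) (l := 3) rfl N13701 D31617
theorem N15691 : nd 15691 = n31618 := ndS (p := 13701) (l := 7) rfl N13701 D31618
theorem N15692 : nd 15692 = n31619 := ndS (p := 13701) (l := 8) rfl N13701 D31619
theorem N15693 : nd 15693 = n31620 := ndS (p := 13702) (l := 6) rfl N13702 D31620
theorem N15694 : nd 15694 = n31621 := ndS (p := 13702) (l := 8) rfl N13702 D31621
theorem N15695 : nd 15695 = n31622 := ndS (p := 13704) (l := 6) rfl N13704 D31622
theorem N15696 : nd 15696 = n31623 := ndS (p := 13704) (l := 8) rfl N13704 D31623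
theorem N15697 : nd 15697 = n31624 := ndS (p := 13706) (l := 8) rfl N13706 D31624
theorem N15698 : nd 15698 = n31625 := ndS (p := 13708) (l := 5) rfl N13708 D31625
theorem N15699 : nd 15699 = n31626 := ndS (p := 13709) (l := 4) rfl N13709 D31626
theorem N15700 : nd 15700 = n31627 := ndS (p := 13709) (l := 7) rfl N13709 D31627
theorem N15701 : nd 15701 = n31628 := ndS (p := 13711) (l := 3) rfl N13711 D31628
theorem N15702 : nd 15702 = n31629 := ndS (p := 13711) (l := 7) rfl N13711 D31629
theorem N15703 : nd 15703 = n31630 := ndS (p := 13713) (l := 7) rfl N13713 D31630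
theorem N15704 : nd 15704 = n31631 := ndS (p := 13714) (l := 6) rfl N13714 D31631
theorem N15705 : nd 15705 = n31632 := ndS (p := 13716) (l := 5) rfl N13716 D31632
theorem N15706 : nd 15706 = n31633 := ndS (p := 13717) (l := 1) rfl N13717 D31633
theorem N15707 : nd 15707 = n31634 := ndS (p := 13717) (l := 6) rfl N13717 D31634
theorem N15708 : nd 15708 = n31635 := ndS (p := 13718) (l := 5) rfl N13718 D31635
theorem N15709 : nd 15709 = n31636 := ndS (p := 13718) (l := 7) rfl N13718 D31636
theorem N15710 : nd 15710 = n31637 := ndS (p := 13719) (l := 7) rfl N13719 D31637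
theorem N15711 : nd 15711 = n31638 := ndS (p := 13719) (l := 8) rfl N13719 D31638
theorem N15712 : nd 15712 = n31639 := ndS (p := 13721) (l := 1) rfl N13721 D31639
theorem N15713 : nd 15713 = n31640 := ndS (p := 13721) (l := 6) rfl N13721 D31640
theorem N15714 : nd 15714 = n31641 := ndS (p := 13722) (l := 5) rfl N13722 D31641
theorem N15715 : nd 15715 = n31642 := ndS (p := 13722) (l := 7) rfl N13722 D31642
theorem N15716 : nd 15716 = n31643 := ndS (p := 13723) (l := 7) rfl N13723 D31643
theorem N15717 : nd 15717 = n31644 := ndS (p := 13723) (l := 8) rfl N13723 D31644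
theorem N15718 : nd 15718 = n31645 := ndS (p := 13725) (l := 1) rfl N13725 D31645
theorem N15719 : nd 15719 = n31646 := ndS (p := 13725) (l := 6) rfl N13725 D31646
theorem N15720 : nd 15720 = n31647 := ndS (p := 13726) (l := 5) rfl N13726 D31647
theorem N15721 : nd 15721 = n31648 := ndS (p := 13726) (l := 7) rfl N13726 D31648
theorem N15722 : nd 15722 = n31649 := ndS (p := 13727) (l := 7) rfl N13727 D31649
theorem N15723 : nd 15723 = n31650 := ndS (p := 13727) (l := 8) rfl N13727 D31650
theorem N15724 : nd 15724 = n31651 := ndS (p := 13729) (l := 0) rfl N13729 D31651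
theorem N15725 : nd 15725 = n31652 := ndS (p := 13729) (l := 6) rfl N13729 D31652
theorem N15726 : nd 15726 = n31653 := ndS (p := 13730) (l := 5) rfl N13730 D31653
theorem N15727 : nd 15727 = n31654 := ndS (p := 13730) (l := 7) rfl N13730 D31654
theorem N15728 : nd 15728 = n31655 := ndS (p := 13731) (l := 4) rfl N13731 D31655
theorem N15729 : nd 15729 = n31656 := ndS (p := 13731) (l := 7) rfl N13731 D31656
theorem N15730 : nd 15730 = n31657 := ndS (p := 13731) (l := 8) rfl N13731 D31657
theorem N15731 : nd 15731 = n31658 := ndS (p := 13733) (l := 6) rfl N13733 D31658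
theorem N15732 : nd 15732 = n31659 := ndS (p := 13733) (l := 8) rfl N13733 D31659
theorem N15733 : nd 15733 = n31660 := ndS (p := 13735) (l := 6) rfl N13735 D31660
theorem N15734 : nd 15734 = n31661 := ndS (p := 13736) (l := 5) rfl N13736 D31661
theorem N15735 : nd 15735 = n31662 := ndS (p := 13736) (l := 7) rfl N13736 D31662
theorem N15736 : nd 15736 = n31663 := ndS (p := 13737) (l := 4) rfl N13737 D31663
theorem N15737 : nd 15737 = n31664 := ndS (p := 13737) (l := 7) rfl N13737 D31664
theorem N15738 : nd 15738 = n31665 := ndS (p := 13737) (l := 8) rfl N13737 D31665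
theorem N15739 : nd 15739 = n31666 := ndS (p := 13739) (l := 8) rfl N13739 D31666
theorem N15740 : nd 15740 = n31667 := ndS (p := 13740) (l := 9) rfl N13740 D31667
theorem N15741 : nd 15741 = n31668 := ndS (p := 13742) (l := 7) rfl N13742 D31668
theorem N15742 : nd 15742 = n31669 := ndS (p := 13743) (l := 7) rfl N13743 D31669
theorem N15743 : nd 15743 = n31670 := ndS (p := 13743) (l := 8) rfl N13743 D31670
theorem N15744 : nd 15744 = n31671 := ndS (p := 13745) (l := 8) rfl N13745 D31671
theorem N15745 : nd 15745 = n31672 := ndS (p := 13748) (l := 1) rfl N13748 D31672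
theorem N15746 : nd 15746 = n31673 := ndS (p := 13748) (l := 6) rfl N13748 D31673
theorem N15747 : nd 15747 = n31674 := ndS (p := 13749) (l := 5) rfl N13749 D31674
theorem N15748 : nd 15748 = n31675 := ndS (p := 13749) (l := 7) rfl N13749 D31675
theorem N15749 : nd 15749 = n31676 := ndS (p := 13750) (l := 7) rfl N13750 D31676
theorem N15750 : nd 15750 = n31677 := ndS (p := 13750) (l := 8) rfl N13750 D31677
theorem N15751 : nd 15751 = n31678 := ndS (p := 13752) (l := 0) rfl N13752 D31678
theorem N15752 : nd 15752 = n31679 := ndS (p := 13752) (l := 6) rfl N13752 D31679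
theorem N15753 : nd 15753 = n31680 := ndS (p := 13753) (l := 5) rfl N13753 D31680
theorem N15754 : nd 15754 = n31681 := ndS (p := 13753) (l := 7) rfl N13753 D31681
theorem N15755 : nd 15755 = n31682 := ndS (p := 13754) (l := 4) rfl N13754 D31682
theorem N15756 : nd 15756 = n31683 := ndS (p := 13754) (l := 7) rfl N13754 D31683
theorem N15757 : nd 15757 = n31684 := ndS (p := 13754) (l := 8) rfl N13754 D31684
theorem N15758 : nd 15758 = n31685 := ndS (p := 13756) (l := 6) rfl N13756 D31685
theorem N15759 : nd 15759 = n31686 := ndS (p := 13756) (l := 8) rfl N13756 D31686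
theorem N15760 : nd 15760 = n31687 := ndS (p := 13757) (l := 9) rfl N13757 D31687
theorem N15761 : nd 15761 = n31688 := ndS (p := 13758) (l := 1) rfl N13758 D31688
theorem N15762 : nd 15762 = n31689 := ndS (p := 13758) (l := 6) rfl N13758 D31689
theorem N15763 : nd 15763 = n31690 := ndS (p := 13759) (l := 5) rfl N13759 D31690
theorem N15764 : nd 15764 = n31691 := ndS (p := 13759) (l := 7) rfl N13759 D31691
theorem N15765 : nd 15765 = n31692 := ndS (p := 13760) (l := 7) rfl N13760 D31692
theorem N15766 : nd 15766 = n31693 := ndS (p := 13760) (l := 8) rfl N13760 D31693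
theorem N15767 : nd 15767 = n31694 := ndS (p := 13763) (l := 5) rfl N13763 D31694
theorem N15768 : nd 15768 = n31695 := ndS (p := 13763) (l := 7) rfl N13763 D31695
theorem N15769 : nd 15769 = n31696 := ndS (p := 13764) (l := 4) rfl N13764 D31696
theorem N15770 : nd 15770 = n31697 := ndS (p := 13764) (l := 7) rfl N13764 D31697
theorem N15771 : nd 15771 = n31698 := ndS (p := 13764) (l := 8) rfl N13764 D31698
theorem N15772 : nd 15772 = n31699 := ndS (p := 13766) (l := 6) rfl N13766 D31699
theorem N15773 : nd 15773 = n31700 := ndS (p := 13766) (l := 8) rfl N13766 D31700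
theorem N15774 : nd 15774 = n31701 := ndS (p := 13767) (l := 9) rfl N13767 D31701
theorem N15775 : nd 15775 = n31702 := ndS (p := 13768) (l := 5) rfl N13768 D31702
theorem N15776 : nd 15776 = n31703 := ndS (p := 13768) (l := 7) rfl N13768 D31703
theorem N15777 : nd 15777 = n31704 := ndS (p := 13769) (l := 4) rfl N13769 D31704
theorem N15778 : nd 15778 = n31705 := ndS (p := 13769) (l := 7) rfl N13769 D31705
theorem N15779 : nd 15779 = n31706 := ndS (p := 13769) (l := 8) rfl N13769 D31706
theorem N15780 : nd 15780 = n31707 := ndS (p := 13771) (l := 6) rfl N13771 D31707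
theorem N15781 : nd 15781 = n31708 := ndS (p := 13771) (l := 8) rfl N13771 D31708
theorem N15782 : nd 15782 = n31709 := ndS (p := 13772) (l := 9) rfl N13772 D31709
theorem N15783 : nd 15783 = n31710 := ndS (p := 13773) (l := 6) rfl N13773 D31710
theorem N15784 : nd 15784 = n31711 := ndS (p := 13774) (l := 5) rfl N13774 D31711
theorem N15785 : nd 15785 = n31712 := ndS (p := 13774) (l := 7) rfl N13774 D31712
theorem N15786 : nd 15786 = n31713 := ndS (p := 13775) (l := 4) rfl N13775 D31713
theorem N15787 : nd 15787 = n31714 := ndS (p := 13775) (l := 7) rfl N13775 D31714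
theorem N15788 : nd 15788 = n31715 := ndS (p := 13775) (l := 8) rfl N13775 D31715
theorem N15789 : nd 15789 = n31716 := ndS (p := 13777) (l := 7) rfl N13777 D31716
theorem N15790 : nd 15790 = n31717 := ndS (p := 13777) (l := 8) rfl N13777 D31717
theorem N15791 : nd 15791 = n31718 := ndS (p := 13778) (l := 6) rfl N13778 D31718
theorem N15792 : nd 15792 = n31719 := ndS (p := 13778) (l := 8) rfl N13778 D31719
theorem N15793 : nd 15793 = n31720 := ndS (p := 13779) (l := 9) rfl N13779 D31720
theorem N15794 : nd 15794 = n31721 := ndS (p := 13780) (l := 8) rfl N13780 D31721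
theorem N15795 : nd 15795 = n31722 := ndS (p := 13781) (l := 9) rfl N13781 D31722
theorem N15796 : nd 15796 = n31723 := ndS (p := 13784) (l := 7) rfl N13784 D31723
theorem N15797 : nd 15797 = n31724 := ndS (p := 13784) (l := 8) rfl N13784 D31724
theorem N15798 : nd 15798 = n31725 := ndS (p := 13785) (l := 6) rfl N13785 D31725
theorem N15799 : nd 15799 = n31726 := ndS (p := 13785) (l := 8) rfl N13785 D31726
theorem N15800 : nd 15800 = n31727 := ndS (p := 13786) (l := 9) rfl N13786 D31727
theorem N15801 : nd 15801 = n31728 := ndS (p := 13787) (l := 8) rfl N13787 D31728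
theorem N15802 : nd 15802 = n31729 := ndS (p := 13788) (l := 9) rfl N13788 D31729
theorem N15803 : nd 15803 = n31730 := ndS (p := 13790) (l := 7) rfl N13790 D31730
theorem N15804 : nd 15804 = n31731 := ndS (p := 13791) (l := 4) rfl N13791 D31731
theorem N15805 : nd 15805 = n31732 := ndS (p := 13791) (l := 7) rfl N13791 D31732
theorem N15806 : nd 15806 = n31733 := ndS (p := 13791) (l := 8) rfl N13791 D31733
theorem N15807 : nd 15807 = n31734 := ndS (p := 13793) (l := 7) rfl N13793 D31734
theorem N15808 : nd 15808 = n31735 := ndS (p := 13793) (l := 8) rfl N13793 D31735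
theorem N15809 : nd 15809 = n31736 := ndS (p := 13794) (l := 8) rfl N13794 D31736
theorem N15810 : nd 15810 = n31737 := ndS (p := 13795) (l := 9) rfl N13795 D31737
theorem N15811 : nd 15811 = n31738 := ndS (p := 13796) (l := 8) rfl N13796 D31738
theorem N15812 : nd 15812 = n31739 := ndS (p := 13797) (l := 5) rfl N13797 D31739
theorem N15813 : nd 15813 = n31740 := ndS (p := 13798) (l := 8) rfl N13798 D31740
theorem N15814 : nd 15814 = n31741 := ndS (p := 13799) (l := 9) rfl N13799 D31741
theorem N15815 : nd 15815 = n31742 := ndS (p := 13801) (l := 5) rfl N13801 D31742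
theorem N15816 : nd 15816 = n31743 := ndS (p := 13803) (l := 5) rfl N13803 D31743
theorem N15817 : nd 15817 = n31744 := ndS (p := 13804) (l := 6) rfl N13804 D31744
theorem N15818 : nd 15818 = n31745 := ndS (p := 13805) (l := 0) rfl N13805 D31745
theorem N15819 : nd 15819 = n31746 := ndS (p := 13805) (l := 6) rfl N13805 D31746
theorem N15820 : nd 15820 = n31747 := ndS (p := 13806) (l := 5) rfl N13806 D31747
theorem N15821 : nd 15821 = n31748 := ndS (p := 13806) (l := 7) rfl N13806 D31748
theorem N15822 : nd 15822 = n31749 := ndS (p := 13807) (l := 4) rfl N13807 D31749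
theorem N15823 : nd 15823 = n31750 := ndS (p := 13807) (l := 7) rfl N13807 D31750
theorem N15824 : nd 15824 = n31751 := ndS (p := 13807) (l := 8) rfl N13807 D31751
theorem N15825 : nd 15825 = n31752 := ndS (p := 13809) (l := 6) rfl N13809 D31752
theorem N15826 : nd 15826 = n31753 := ndS (p := 13809) (l := 8) rfl N13809 D31753
theorem N15827 : nd 15827 = n31754 := ndS (p := 13810) (l := 9) rfl N13810 D31754
theorem N15828 : nd 15828 = n31755 := ndS (p := 13811) (l := 6) rfl N13811 D31755
theorem N15829 : nd 15829 = n31756 := ndS (p := 13812) (l := 5) rfl N13812 D31756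
theorem N15830 : nd 15830 = n31757 := ndS (p := 13812) (l := 7) rfl N13812 D31757
theorem N15831 : nd 15831 = n31758 := ndS (p := 13813) (l := 4) rfl N13813 D31758
theorem N15832 : nd 15832 = n31759 := ndS (p := 13813) (l := 7) rfl N13813 D31759
theorem N15833 : nd 15833 = n31760 := ndS (p := 13813) (l := 8) rfl N13813 D31760
theorem N15834 : nd 15834 = n31761 := ndS (p := 13815) (l := 6) rfl N13815 D31761
theorem N15835 : nd 15835 = n31762 := ndS (p := 13815) (l := 8) rfl N13815 D31762
theorem N15836 : nd 15836 = n31763 := ndS (p := 13817) (l := 5) rfl N13817 D31763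
theorem N15837 : nd 15837 = n31764 := ndS (p := 13817) (l := 7) rfl N13817 D31764
theorem N15838 : nd 15838 = n31765 := ndS (p := 13818) (l := 4) rfl N13818 D31765
theorem N15839 : nd 15839 = n31766 := ndS (p := 13818) (l := 7) rfl N13818 D31766
theorem N15840 : nd 15840 = n31767 := ndS (p := 13818) (l := 8) rfl N13818 D31767
theorem N15841 : nd 15841 = n31768 := ndS (p := 13820) (l := 6) rfl N13820 D31768
theorem N15842 : nd 15842 = n31769 := ndS (p := 13820) (l := 8) rfl N13820 D31769
theorem N15843 : nd 15843 = n31770 := ndS (p := 13821) (l := 9) rfl N13821 D31770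
theorem N15844 : nd 15844 = n31771 := ndS (p := 13822) (l := 6) rfl N13822 D31771
theorem N15845 : nd 15845 = n31772 := ndS (p := 13823) (l := 5) rfl N13823 D31772
theorem N15846 : nd 15846 = n31773 := ndS (p := 13823) (l := 7) rfl N13823 D31773
theorem N15847 : nd 15847 = n31774 := ndS (p := 13824) (l := 4) rfl N13824 D31774
theorem N15848 : nd 15848 = n31775 := ndS (p := 13824) (l := 7) rfl N13824 D31775
theorem N15849 : nd 15849 = n31776 := ndS (p := 13824) (l := 8) rfl N13824 D31776
theorem N15850 : nd 15850 = n31777 := ndS (p := 13826) (l := 7) rfl N13826 D31777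
theorem N15851 : nd 15851 = n31778 := ndS (p := 13826) (l := 8) rfl N13826 D31778
theorem N15852 : nd 15852 = n31779 := ndS (p := 13827) (l := 6) rfl N13827 D31779
theorem N15853 : nd 15853 = n31780 := ndS (p := 13827) (l := 8) rfl N13827 D31780
theorem N15854 : nd 15854 = n31781 := ndS (p := 13828) (l := 9) rfl N13828 D31781
theorem N15855 : nd 15855 = n31782 := ndS (p := 13829) (l := 8) rfl N13829 D31782
theorem N15856 : nd 15856 = n31783 := ndS (p := 13830) (l := 9) rfl N13830 D31783
theorem N15857 : nd 15857 = n31784 := ndS (p := 13832) (l := 0) rfl N13832 D31784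
theorem N15858 : nd 15858 = n31785 := ndS (p := 13832) (l := 6) rfl N13832 D31785
theorem N15859 : nd 15859 = n31786 := ndS (p := 13833) (l := 5) rfl N13833 D31786
theorem N15860 : nd 15860 = n31787 := ndS (p := 13833) (l := 7) rfl N13833 D31787
theorem N15861 : nd 15861 = n31788 := ndS (p := 13834) (l := 4) rfl N13834 D31788
theorem N15862 : nd 15862 = n31789 := ndS (p := 13834) (l := 7) rfl N13834 D31789
theorem N15863 : nd 15863 = n31790 := ndS (p := 13834) (l := 8) rfl N13834 D31790
theorem N15864 : nd 15864 = n31791 := ndS (p := 13836) (l := 6) rfl N13836 D31791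
theorem N15865 : nd 15865 = n31792 := ndS (p := 13836) (l := 8) rfl N13836 D31792
theorem N15866 : nd 15866 = n31793 := ndS (p := 13837) (l := 9) rfl N13837 D31793
theorem N15867 : nd 15867 = n31794 := ndS (p := 13838) (l := 4) rfl N13838 D31794
theorem N15868 : nd 15868 = n31795 := ndS (p := 13838) (l := 7) rfl N13838 D31795
theorem N15869 : nd 15869 = n31796 := ndS (p := 13840) (l := 7) rfl N13840 D31796
theorem N15870 : nd 15870 = n31797 := ndS (p := 13840) (l := 8) rfl N13840 D31797
theorem N15871 : nd 15871 = n31798 := ndS (p := 13841) (l := 6) rfl N13841 D31798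
theorem N15872 : nd 15872 = n31799 := ndS (p := 13841) (l := 8) rfl N13841 D31799
theorem N15873 : nd 15873 = n31800 := ndS (p := 13842) (l := 9) rfl N13842 D31800
theorem N15874 : nd 15874 = n31801 := ndS (p := 13843) (l := 8) rfl N13843 D31801
theorem N15875 : nd 15875 = n31802 := ndS (p := 13844) (l := 9) rfl N13844 D31802
theorem N15876 : nd 15876 = n31803 := ndS (p := 13846) (l := 4) rfl N13846 D31803
theorem N15877 : nd 15877 = n31804 := ndS (p := 13846) (l := 7) rfl N13846 D31804
theorem N15878 : nd 15878 = n31805 := ndS (p := 13846) (l := 8) rfl N13846 D31805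
theorem N15879 : nd 15879 = n31806 := ndS (p := 13848) (l := 7) rfl N13848 D31806
theorem N15880 : nd 15880 = n31807 := ndS (p := 13848) (l := 8) rfl N13848 D31807
theorem N15881 : nd 15881 = n31808 := ndS (p := 13849) (l := 6) rfl N13849 D31808
theorem N15882 : nd 15882 = n31809 := ndS (p := 13849) (l := 8) rfl N13849 D31809
theorem N15883 : nd 15883 = n31810 := ndS (p := 13850) (l := 9) rfl N13850 D31810
theorem N15884 : nd 15884 = n31811 := ndS (p := 13851) (l := 8) rfl N13851 D31811
theorem N15885 : nd 15885 = n31812 := ndS (p := 13852) (l := 9) rfl N13852 D31812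
theorem N15886 : nd 15886 = n31813 := ndS (p := 13854) (l := 5) rfl N13854 D31813
theorem N15887 : nd 15887 = n31814 := ndS (p := 13855) (l := 4) rfl N13855 D31814
theorem N15888 : nd 15888 = n31815 := ndS (p := 13855) (l := 7) rfl N13855 D31815
theorem N15889 : nd 15889 = n31816 := ndS (p := 13855) (l := 8) rfl N13855 D31816
theorem N15890 : nd 15890 = n31817 := ndS (p := 13857) (l := 3) rfl N13857 D31817
theorem N15891 : nd 15891 = n31818 := ndS (p := 13857) (l := 7) rfl N13857 D31818
theorem N15892 : nd 15892 = n31819 := ndS (p := 13857) (l := 8) rfl N13857 D31819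
theorem N15893 : nd 15893 = n31820 := ndS (p := 13858) (l := 6) rfl N13858 D31820
theorem N15894 : nd 15894 = n31821 := ndS (p := 13858) (l := 8) rfl N13858 D31821
theorem N15895 : nd 15895 = n31822 := ndS (p := 13859) (l := 9) rfl N13859 D31822
theorem N15896 : nd 15896 = n31823 := ndS (p := 13860) (l := 6) rfl N13860 D31823
theorem N15897 : nd 15897 = n31824 := ndS (p := 13860) (l := 8) rfl N13860 D31824
theorem N15898 : nd 15898 = n31825 := ndS (p := 13861) (l := 5) rfl N13861 D31825
theorem N15899 : nd 15899 = n31826 := ndS (p := 13861) (l := 9) rfl N13861 D31826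
theorem N15900 : nd 15900 = n31827 := ndS (p := 13862) (l := 8) rfl N13862 D31827
theorem N15901 : nd 15901 = n31828 := ndS (p := 13863) (l := 9) rfl N13863 D31828
theorem N15902 : nd 15902 = n31829 := ndS (p := 13865) (l := 5) rfl N13865 D31829
theorem N15903 : nd 15903 = n31830 := ndS (p := 13865) (l := 9) rfl N13865 D31830
theorem N15904 : nd 15904 = n31831 := ndS (p := 13867) (l := 6) rfl N13867 D31831
theorem N15905 : nd 15905 = n31832 := ndS (p := 13867) (l := 8) rfl N13867 D31832
theorem N15906 : nd 15906 = n31833 := ndS (p := 13868) (l := 5) rfl N13868 D31833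
theorem N15907 : nd 15907 = n31834 := ndS (p := 13869) (l := 8) rfl N13869 D31834
theorem N15908 : nd 15908 = n31835 := ndS (p := 13870) (l := 9) rfl N13870 D31835
theorem N15909 : nd 15909 = n31836 := ndS (p := 13872) (l := 5) rfl N13872 D31836
theorem N15910 : nd 15910 = n31837 := ndS (p := 13872) (l := 9) rfl N13872 D31837
theorem N15911 : nd 15911 = n31838 := ndS (p := 13874) (l := 4) rfl N13874 D31838
theorem N15912 : nd 15912 = n31839 := ndS (p := 13874) (l := 8) rfl N13874 D31839
theorem N15913 : nd 15913 = n31840 := ndS (p := 13875) (l := 7) rfl N13875 D31840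
theorem N15914 : nd 15914 = n31841 := ndS (p := 13875) (l := 8) rfl N13875 D31841
theorem N15915 : nd 15915 = n31842 := ndS (p := 13876) (l := 8) rfl N13876 D31842
theorem N15916 : nd 15916 = n31843 := ndS (p := 13877) (l := 9) rfl N13877 D31843
theorem N15917 : nd 15917 = n31844 := ndS (p := 13878) (l := 6) rfl N13878 D31844
theorem N15918 : nd 15918 = n31845 := ndS (p := 13878) (l := 8) rfl N13878 D31845
theorem N15919 : nd 15919 = n31846 := ndS (p := 13879) (l := 5) rfl N13879 D31846
theorem N15920 : nd 15920 = n31847 := ndS (p := 13880) (l := 8) rfl N13880 D31847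
theorem N15921 : nd 15921 = n31848 := ndS (p := 13881) (l := 9) rfl N13881 D31848
theorem N15922 : nd 15922 = n31849 := ndS (p := 13883) (l := 5) rfl N13883 D31849
theorem N15923 : nd 15923 = n31850 := ndS (p := 13884) (l := 5) rfl N13884 D31850
theorem N15924 : nd 15924 = n31851 := ndS (p := 13885) (l := 6) rfl N13885 D31851
theorem N15925 : nd 15925 = n31852 := ndS (p := 13886) (l := 5) rfl N13886 D31852
theorem N15926 : nd 15926 = n31853 := ndS (p := 13888) (l := 4) rfl N13888 D31853
theorem N15927 : nd 15927 = n31854 := ndS (p := 13889) (l := 8) rfl N13889 D31854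
theorem N15928 : nd 15928 = n31855 := ndS (p := 13890) (l := 6) rfl N13890 D31855
theorem N15929 : nd 15929 = n31856 := ndS (p := 13891) (l := 7) rfl N13891 D31856
theorem N15930 : nd 15930 = n31857 := ndS (p := 13891) (l := 9) rfl N13891 D31857
theorem N15931 : nd 15931 = n31858 := ndS (p := 13892) (l := 8) rfl N13892 D31858
theorem N15932 : nd 15932 = n31859 := ndS (p := 13893) (l := 3) rfl N13893 D31859
theorem N15933 : nd 15933 = n31860 := ndS (p := 13895) (l := 5) rfl N13895 D31860
theorem N15934 : nd 15934 = n31861 := ndS (p := 13896) (l := 7) rfl N13896 D31861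
theorem N15935 : nd 15935 = n31862 := ndS (p := 13898) (l := 6) rfl N13898 D31862
theorem N15936 : nd 15936 = n31863 := ndS (p := 13898) (l := 8) rfl N13898 D31863
theorem N15937 : nd 15937 = n31864 := ndS (p := 13900) (l := 7) rfl N13900 D31864
theorem N15938 : nd 15938 = n31865 := ndS (p := 13901) (l := 7) rfl N13901 D31865
theorem N15939 : nd 15939 = n31866 := ndS (p := 13903) (l := 6) rfl N13903 D31866
theorem N15940 : nd 15940 = n31867 := ndS (p := 13904) (l := 8) rfl N13904 D31867
theorem N15941 : nd 15941 = n31868 := ndS (p := 13906) (l := 4) rfl N13906 D31868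
theorem N15942 : nd 15942 = n31869 := ndS (p := 13906) (l := 7) rfl N13906 D31869
theorem N15943 : nd 15943 = n31870 := ndS (p := 13906) (l := 8) rfl N13906 D31870
theorem N15944 : nd 15944 = n31871 := ndS (p := 13908) (l := 7) rfl N13908 D31871
theorem N15945 : nd 15945 = n31872 := ndS (p := 13908) (l := 8) rfl N13908 D31872
theorem N15946 : nd 15946 = n31873 := ndS (p := 13909) (l := 6) rfl N13909 D31873
theorem N15947 : nd 15947 = n31874 := ndS (p := 13909) (l := 8) rfl N13909 D31874
theorem N15948 : nd 15948 = n31875 := ndS (p := 13910) (l := 9) rfl N13910 D31875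
theorem N15949 : nd 15949 = n31876 := ndS (p := 13911) (l := 8) rfl N13911 D31876
theorem N15950 : nd 15950 = n31877 := ndS (p := 13912) (l := 9) rfl N13912 D31877
theorem N15951 : nd 15951 = n31878 := ndS (p := 13914) (l := 7) rfl N13914 D31878
theorem N15952 : nd 15952 = n31879 := ndS (p := 13915) (l := 4) rfl N13915 D31879
theorem N15953 : nd 15953 = n31880 := ndS (p := 13915) (l := 7) rfl N13915 D31880
theorem N15954 : nd 15954 = n31881 := ndS (p := 13915) (l := 8) rfl N13915 D31881
theorem N15955 : nd 15955 = n31882 := ndS (p := 13917) (l := 3) rfl N13917 D31882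
theorem N15956 : nd 15956 = n31883 := ndS (p := 13917) (l := 7) rfl N13917 D31883
theorem N15957 : nd 15957 = n31884 := ndS (p := 13917) (l := 8) rfl N13917 D31884
theorem N15958 : nd 15958 = n31885 := ndS (p := 13918) (l := 6) rfl N13918 D31885
theorem N15959 : nd 15959 = n31886 := ndS (p := 13918) (l := 8) rfl N13918 D31886
theorem N15960 : nd 15960 = n31887 := ndS (p := 13919) (l := 9) rfl N13919 D31887
theorem N15961 : nd 15961 = n31888 := ndS (p := 13920) (l := 6) rfl N13920 D31888
theorem N15962 : nd 15962 = n31889 := ndS (p := 13920) (l := 8) rfl N13920 D31889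
theorem N15963 : nd 15963 = n31890 := ndS (p := 13921) (l := 5) rfl N13921 D31890
theorem N15964 : nd 15964 = n31891 := ndS (p := 13921) (l := 9) rfl N13921 D31891
theorem N15965 : nd 15965 = n31892 := ndS (p := 13922) (l := 8) rfl N13922 D31892
theorem N15966 : nd 15966 = n31893 := ndS (p := 13923) (l := 9) rfl N13923 D31893
theorem N15967 : nd 15967 = n31894 := ndS (p := 13925) (l := 5) rfl N13925 D31894
theorem N15968 : nd 15968 = n31895 := ndS (p := 13925) (l := 9) rfl N13925 D31895
theorem N15969 : nd 15969 = n31896 := ndS (p := 13927) (l := 6) rfl N13927 D31896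
theorem N15970 : nd 15970 = n31897 := ndS (p := 13928) (l := 5) rfl N13928 D31897
theorem N15971 : nd 15971 = n31898 := ndS (p := 13928) (l := 7) rfl N13928 D31898
theorem N15972 : nd 15972 = n31899 := ndS (p := 13929) (l := 4) rfl N13929 D31899
theorem N15973 : nd 15973 = n31900 := ndS (p := 13929) (l := 7) rfl N13929 D31900
theorem N15974 : nd 15974 = n31901 := ndS (p := 13929) (l := 8) rfl N13929 D31901
theorem N15975 : nd 15975 = n31902 := ndS (p := 13931) (l := 7) rfl N13931 D31902
theorem N15976 : nd 15976 = n31903 := ndS (p := 13932) (l := 6) rfl N13932 D31903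
theorem N15977 : nd 15977 = n31904 := ndS (p := 13932) (l := 8) rfl N13932 D31904
theorem N15978 : nd 15978 = n31905 := ndS (p := 13934) (l := 8) rfl N13934 D31905
theorem N15979 : nd 15979 = n31906 := ndS (p := 13935) (l := 9) rfl N13935 D31906
theorem N15980 : nd 15980 = n31907 := ndS (p := 13937) (l := 3) rfl N13937 D31907
theorem N15981 : nd 15981 = n31908 := ndS (p := 13937) (l := 7) rfl N13937 D31908
theorem N15982 : nd 15982 = n31909 := ndS (p := 13938) (l := 6) rfl N13938 D31909
theorem N15983 : nd 15983 = n31910 := ndS (p := 13939) (l := 6) rfl N13939 D31910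
theorem N15984 : nd 15984 = n31911 := ndS (p := 13941) (l := 5) rfl N13941 D31911
theorem N15985 : nd 15985 = n31912 := ndS (p := 13941) (l := 9) rfl N13941 D31912
theorem N15986 : nd 15986 = n31913 := ndS (p := 13943) (l := 3) rfl N13943 D31913
theorem N15987 : nd 15987 = n31914 := ndS (p := 13943) (l := 7) rfl N13943 D31914
theorem N15988 : nd 15988 = n31915 := ndS (p := 13943) (l := 8) rfl N13943 D31915
theorem N15989 : nd 15989 = n31916 := ndS (p := 13944) (l := 6) rfl N13944 D31916
theorem N15990 : nd 15990 = n31917 := ndS (p := 13944) (l := 8) rfl N13944 D31917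
theorem N15991 : nd 15991 = n31918 := ndS (p := 13945) (l := 9) rfl N13945 D31918
theorem N15992 : nd 15992 = n31919 := ndS (p := 13946) (l := 6) rfl N13946 D31919
theorem N15993 : nd 15993 = n31920 := ndS (p := 13946) (l := 8) rfl N13946 D31920
theorem N15994 : nd 15994 = n31921 := ndS (p := 13947) (l := 9) rfl N13947 D31921
theorem N15995 : nd 15995 = n31922 := ndS (p := 13948) (l := 8) rfl N13948 D31922
theorem N15996 : nd 15996 = n31923 := ndS (p := 13949) (l := 9) rfl N13949 D31923
theorem N15997 : nd 15997 = n31924 := ndS (p := 13951) (l := 5) rfl N13951 D31924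
theorem N15998 : nd 15998 = n31925 := ndS (p := 13951) (l := 9) rfl N13951 D31925
theorem N15999 : nd 15999 = n31926 := ndS (p := 13953) (l := 3) rfl N13953 D31926
theorem N16000 : nd 16000 = n31927 := ndS (p := 13953) (l := 7) rfl N13953 D31927
theorem N16001 : nd 16001 = n31928 := ndS (p := 13953) (l := 8) rfl N13953 D31928
theorem N16002 : nd 16002 = n31929 := ndS (p := 13954) (l := 6) rfl N13954 D31929
theorem N16003 : nd 16003 = n31930 := ndS (p := 13954) (l := 8) rfl N13954 D31930
theorem N16004 : nd 16004 = n31931 := ndS (p := 13955) (l := 9) rfl N13955 D31931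
theorem N16005 : nd 16005 = n31932 := ndS (p := 13956) (l := 7) rfl N13956 D31932
theorem N16006 : nd 16006 = n31933 := ndS (p := 13956) (l := 8) rfl N13956 D31933
theorem N16007 : nd 16007 = n31934 := ndS (p := 13957) (l := 6) rfl N13957 D31934
theorem N16008 : nd 16008 = n31935 := ndS (p := 13957) (l := 8) rfl N13957 D31935
theorem N16009 : nd 16009 = n31936 := ndS (p := 13958) (l := 9) rfl N13958 D31936
theorem N16010 : nd 16010 = n31937 := ndS (p := 13959) (l := 8) rfl N13959 D31937
theorem N16011 : nd 16011 = n31938 := ndS (p := 13960) (l := 9) rfl N13960 D31938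
theorem N16012 : nd 16012 = n31939 := ndS (p := 13962) (l := 5) rfl N13962 D31939
theorem N16013 : nd 16013 = n31940 := ndS (p := 13962) (l := 8) rfl N13962 D31940
theorem N16014 : nd 16014 = n31941 := ndS (p := 13963) (l := 9) rfl N13963 D31941
theorem N16015 : nd 16015 = n31942 := ndS (p := 13965) (l := 5) rfl N13965 D31942
theorem N16016 : nd 16016 = n31943 := ndS (p := 13965) (l := 9) rfl N13965 D31943
theorem N16017 : nd 16017 = n31944 := ndS (p := 13967) (l := 4) rfl N13967 D31944
theorem N16018 : nd 16018 = n31945 := ndS (p := 13967) (l := 9) rfl N13967 D31945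
theorem N16019 : nd 16019 = n31946 := ndS (p := 13969) (l := 4) rfl N13969 D31946
theorem N16020 : nd 16020 = n31947 := ndS (p := 13971) (l := 9) rfl N13971 D31947
theorem N16021 : nd 16021 = n31948 := ndS (p := 13973) (l := 5) rfl N13973 D31948
theorem N16022 : nd 16022 = n31949 := ndS (p := 13973) (l := 9) rfl N13973 D31949
theorem N16023 : nd 16023 = n31950 := ndS (p := 13975) (l := 9) rfl N13975 D31950
theorem N16024 : nd 16024 = n31951 := ndS (p := 13979) (l := 5) rfl N13979 D31951
theorem N16025 : nd 16025 = n31952 := ndS (p := 13979) (l := 7) rfl N13979 D31952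
theorem N16026 : nd 16026 = n31953 := ndS (p := 13980) (l := 4) rfl N13980 D31953
theorem N16027 : nd 16027 = n31954 := ndS (p := 13980) (l := 7) rfl N13980 D31954
theorem N16028 : nd 16028 = n31955 := ndS (p := 13980) (l := 8) rfl N13980 D31955
theorem N16029 : nd 16029 = n31956 := ndS (p := 13982) (l := 3) rfl N13982 D31956
theorem N16030 : nd 16030 = n31957 := ndS (p := 13982) (l := 7) rfl N13982 D31957
theorem N16031 : nd 16031 = n31958 := ndS (p := 13983) (l := 6) rfl N13983 D31958
theorem N16032 : nd 16032 = n31959 := ndS (p := 13983) (l := 8) rfl N13983 D31959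
theorem N16033 : nd 16033 = n31960 := ndS (p := 13985) (l := 6) rfl N13985 D31960
theorem N16034 : nd 16034 = n31961 := ndS (p := 13986) (l := 8) rfl N13986 D31961
theorem N16035 : nd 16035 = n31962 := ndS (p := 13988) (l := 5) rfl N13988 D31962
theorem N16036 : nd 16036 = n31963 := ndS (p := 13989) (l := 7) rfl N13989 D31963
theorem N16037 : nd 16037 = n31964 := ndS (p := 13990) (l := 6) rfl N13990 D31964
theorem N16038 : nd 16038 = n31965 := ndS (p := 13992) (l := 5) rfl N13992 D31965
theorem N16039 : nd 16039 = n31966 := ndS (p := 13993) (l := 7) rfl N13993 D31966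
theorem N16040 : nd 16040 = n31967 := ndS (p := 13994) (l := 6) rfl N13994 D31967
theorem N16041 : nd 16041 = n31968 := ndS (p := 13996) (l := 5) rfl N13996 D31968
theorem N16042 : nd 16042 = n31969 := ndS (p := 13996) (l := 8) rfl N13996 D31969
theorem N16043 : nd 16043 = n31970 := ndS (p := 13999) (l := 2) rfl N13999 D31970
theorem N16044 : nd 16044 = n31971 := ndS (p := 13999) (l := 7) rfl N13999 D31971
theorem N16045 : nd 16045 = n31972 := ndS (p := 14000) (l := 6) rfl N14000 D31972
theorem N16046 : nd 16046 = n31973 := ndS (p := 14002) (l := 6) rfl N14002 D31973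
theorem N16047 : nd 16047 = n31974 := ndS (p := 14003) (l := 5) rfl N14003 D31974
theorem N16048 : nd 16048 = n31975 := ndS (p := 14004) (l := 8) rfl N14004 D31975
theorem N16049 : nd 16049 = n31976 := ndS (p := 14006) (l := 5) rfl N14006 D31976
theorem N16050 : nd 16050 = n31977 := ndS (p := 14007) (l := 4) rfl N14007 D31977
theorem N16051 : nd 16051 = n31978 := ndS (p := 14007) (l := 7) rfl N14007 D31978
theorem N16052 : nd 16052 = n31979 := ndS (p := 14007) (l := 8) rfl N14007 D31979
theorem N16053 : nd 16053 = n31980 := ndS (p := 14009) (l := 6) rfl N14009 D31980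
theorem N16054 : nd 16054 = n31981 := ndS (p := 14009) (l := 8) rfl N14009 D31981
theorem N16055 : nd 16055 = n31982 := ndS (p := 14011) (l := 7) rfl N14011 D31982
theorem N16056 : nd 16056 = n31983 := ndS (p := 14012) (l := 7) rfl N14012 D31983
theorem N16057 : nd 16057 = n31984 := ndS (p := 14014) (l := 7) rfl N14014 D31984
theorem N16058 : nd 16058 = n31985 := ndS (p := 14015) (l := 6) rfl N14015 D31985
theorem N16059 : nd 16059 = n31986 := ndS (p := 14017) (l := 7) rfl N14017 D31986
theorem N16060 : nd 16060 = n31987 := ndS (p := 14018) (l := 7) rfl N14018 D31987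
theorem N16061 : nd 16061 = n31988 := ndS (p := 14020) (l := 7) rfl N14020 D31988
theorem N16062 : nd 16062 = n31989 := ndS (p := 14021) (l := 8) rfl N14021 D31989
theorem N16063 : nd 16063 = n31990 := ndS (p := 14023) (l := 9) rfl N14023 D31990
theorem N16064 : nd 16064 = n31991 := ndS (p := 14027) (l := 7) rfl N14027 D31991
theorem N16065 : nd 16065 = n31992 := ndS (p := 14027) (l := 8) rfl N14027 D31992
theorem N16066 : nd 16066 = n31993 := ndS (p := 14029) (l := 7) rfl N14029 D31993
theorem N16067 : nd 16067 = n31994 := ndS (p := 14029) (l := 8) rfl N14029 D31994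
theorem N16068 : nd 16068 = n31995 := ndS (p := 14030) (l := 6) rfl N14030 D31995
theorem N16069 : nd 16069 = n31996 := ndS (p := 14030) (l := 8) rfl N14030 D31996
theorem N16070 : nd 16070 = n31997 := ndS (p := 14031) (l := 9) rfl N14031 D31997
theorem N16071 : nd 16071 = n31998 := ndS (p := 14032) (l := 8) rfl N14032 D31998
theorem N16072 : nd 16072 = n31999 := ndS (p := 14035) (l := 6) rfl N14035 D31999
theorem N16073 : nd 16073 = n32000 := ndS (p := 14036) (l := 6) rfl N14036 D32000
theorem N16074 : nd 16074 = n32001 := ndS (p := 14042) (l := 9) rfl N14042 D32001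
theorem N16075 : nd 16075 = n32002 := ndS (p := 14050) (l := 6) rfl N14050 D32002
theorem N16076 : nd 16076 = n32003 := ndS (p := 14050) (l := 8) rfl N14050 D32003
theorem N16077 : nd 16077 = n32004 := ndS (p := 14051) (l := 9) rfl N14051 D32004
theorem N16078 : nd 16078 = n32005 := ndS (p := 14052) (l := 6) rfl N14052 D32005
theorem N16079 : nd 16079 = n32006 := ndS (p := 14052) (l := 8) rfl N14052 D32006
theorem N16080 : nd 16080 = n32007 := ndS (p := 14053) (l := 5) rfl N14053 D32007
theorem N16081 : nd 16081 = n32008 := ndS (p := 14053) (l := 9) rfl N14053 D32008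
theorem N16082 : nd 16082 = n32009 := ndS (p := 14054) (l := 8) rfl N14054 D32009
theorem N16083 : nd 16083 = n32010 := ndS (p := 14055) (l := 9) rfl N14055 D32010
theorem N16084 : nd 16084 = n32011 := ndS (p := 14057) (l := 5) rfl N14057 D32011
theorem N16085 : nd 16085 = n32012 := ndS (p := 14057) (l := 9) rfl N14057 D32012
theorem N16086 : nd 16086 = n32013 := ndS (p := 14059) (l := 8) rfl N14059 D32013
theorem N16087 : nd 16087 = n32014 := ndS (p := 14060) (l := 9) rfl N14060 D32014
theorem N16088 : nd 16088 = n32015 := ndS (p := 14062) (l := 8) rfl N14062 D32015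
theorem N16089 : nd 16089 = n32016 := ndS (p := 14063) (l := 9) rfl N14063 D32016
theorem N16090 : nd 16090 = n32017 := ndS (p := 14065) (l := 9) rfl N14065 D32017
theorem N16091 : nd 16091 = n32018 := ndS (p := 14071) (l := 9) rfl N14071 D32018
theorem N16092 : nd 16092 = n32019 := ndS (p := 14074) (l := 8) rfl N14074 D32019
theorem N16093 : nd 16093 = n32020 := ndS (p := 14075) (l := 9) rfl N14075 D32020
theorem N16094 : nd 16094 = n32021 := ndS (p := 14077) (l := 8) rfl N14077 D32021
theorem N16095 : nd 16095 = n32022 := ndS (p := 14078) (l := 9) rfl N14078 D32022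
theorem N16096 : nd 16096 = n32023 := ndS (p := 14080) (l := 5) rfl N14080 D32023
theorem N16097 : nd 16097 = n32024 := ndS (p := 14080) (l := 9) rfl N14080 D32024
theorem N16098 : nd 16098 = n32025 := ndS (p := 14082) (l := 4) rfl N14082 D32025
theorem N16099 : nd 16099 = n32026 := ndS (p := 14082) (l := 9) rfl N14082 D32026
theorem N16100 : nd 16100 = n32027 := ndS (p := 14084) (l := 9) rfl N14084 D32027
theorem N16101 : nd 16101 = n32028 := ndS (p := 14086) (l := 5) rfl N14086 D32028
theorem N16102 : nd 16102 = n32029 := ndS (p := 14086) (l := 9) rfl N14086 D32029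
theorem N16103 : nd 16103 = n32030 := ndS (p := 14088) (l := 9) rfl N14088 D32030
theorem N16104 : nd 16104 = n32031 := ndS (p := 14095) (l := 0) rfl N14095 D32031
theorem N16105 : nd 16105 = n32032 := ndS (p := 14095) (l := 6) rfl N14095 D32032
theorem N16106 : nd 16106 = n32033 := ndS (p := 14096) (l := 5) rfl N14096 D32033
theorem N16107 : nd 16107 = n32034 := ndS (p := 14096) (l := 7) rfl N14096 D32034
theorem N16108 : nd 16108 = n32035 := ndS (p := 14097) (l := 7) rfl N14097 D32035
theorem N16109 : nd 16109 = n32036 := ndS (p := 14102) (l := 8) rfl N14102 D32036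
theorem N16110 : nd 16110 = n32037 := ndS (p := 14105) (l := 8) rfl N14105 D32037
theorem N16111 : nd 16111 = n32038 := ndS (p := 14106) (l := 9) rfl N14106 D32038
theorem N16112 : nd 16112 = n32039 := ndS (p := 14108) (l := 0) rfl N14108 D32039
theorem N16113 : nd 16113 = n32040 := ndS (p := 14108) (l := 6) rfl N14108 D32040
theorem N16114 : nd 16114 = n32041 := ndS (p := 14109) (l := 5) rfl N14109 D32041
theorem N16115 : nd 16115 = n32042 := ndS (p := 14109) (l := 7) rfl N14109 D32042
theorem N16116 : nd 16116 = n32043 := ndS (p := 14110) (l := 4) rfl N14110 D32043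
theorem N16117 : nd 16117 = n32044 := ndS (p := 14110) (l := 7) rfl N14110 D32044
theorem N16118 : nd 16118 = n32045 := ndS (p := 14110) (l := 8) rfl N14110 D32045
theorem N16119 : nd 16119 = n32046 := ndS (p := 14112) (l := 6) rfl N14112 D32046
theorem N16120 : nd 16120 = n32047 := ndS (p := 14112) (l := 8) rfl N14112 D32047
theorem N16121 : nd 16121 = n32048 := ndS (p := 14113) (l := 9) rfl N14113 D32048
theorem N16122 : nd 16122 = n32049 := ndS (p := 14114) (l := 7) rfl N14114 D32049
theorem N16123 : nd 16123 = n32050 := ndS (p := 14115) (l := 7) rfl N14115 D32050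
theorem N16124 : nd 16124 = n32051 := ndS (p := 14115) (l := 8) rfl N14115 D32051
theorem N16125 : nd 16125 = n32052 := ndS (p := 14117) (l := 8) rfl N14117 D32052
theorem N16126 : nd 16126 = n32053 := ndS (p := 14119) (l := 6) rfl N14119 D32053
theorem N16127 : nd 16127 = n32054 := ndS (p := 14120) (l := 5) rfl N14120 D32054
theorem N16128 : nd 16128 = n32055 := ndS (p := 14120) (l := 7) rfl N14120 D32055
theorem N16129 : nd 16129 = n32056 := ndS (p := 14121) (l := 4) rfl N14121 D32056
theorem N16130 : nd 16130 = n32057 := ndS (p := 14121) (l := 7) rfl N14121 D32057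
theorem N16131 : nd 16131 = n32058 := ndS (p := 14121) (l := 8) rfl N14121 D32058
theorem N16132 : nd 16132 = n32059 := ndS (p := 14123) (l := 7) rfl N14123 D32059
theorem N16133 : nd 16133 = n32060 := ndS (p := 14123) (l := 8) rfl N14123 D32060
theorem N16134 : nd 16134 = n32061 := ndS (p := 14124) (l := 6) rfl N14124 D32061
theorem N16135 : nd 16135 = n32062 := ndS (p := 14124) (l := 8) rfl N14124 D32062
theorem N16136 : nd 16136 = n32063 := ndS (p := 14125) (l := 9) rfl N14125 D32063
theorem N16137 : nd 16137 = n32064 := ndS (p := 14127) (l := 9) rfl N14127 D32064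
theorem N16138 : nd 16138 = n32065 := ndS (p := 14130) (l := 8) rfl N14130 D32065
theorem N16139 : nd 16139 = n32066 := ndS (p := 14131) (l := 8) rfl N14131 D32066
theorem N16140 : nd 16140 = n32067 := ndS (p := 14132) (l := 9) rfl N14132 D32067
theorem N16141 : nd 16141 = n32068 := ndS (p := 14133) (l := 6) rfl N14133 D32068
theorem N16142 : nd 16142 = n32069 := ndS (p := 14134) (l := 5) rfl N14134 D32069
theorem N16143 : nd 16143 = n32070 := ndS (p := 14134) (l := 9) rfl N14134 D32070
theorem N16144 : nd 16144 = n32071 := ndS (p := 14142) (l := 5) rfl N14142 D32071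
theorem N16145 : nd 16145 = n32072 := ndS (p := 14144) (l := 6) rfl N14144 D32072
theorem N16146 : nd 16146 = n32073 := ndS (p := 14145) (l := 7) rfl N14145 D32073
theorem N16147 : nd 16147 = n32074 := ndS (p := 14146) (l := 5) rfl N14146 D32074
theorem N16148 : nd 16148 = n32075 := ndS (p := 14146) (l := 7) rfl N14146 D32075
theorem N16149 : nd 16149 = n32076 := ndS (p := 14147) (l := 7) rfl N14147 D32076
theorem N16150 : nd 16150 = n32077 := ndS (p := 14147) (l := 8) rfl N14147 D32077
theorem N16151 : nd 16151 = n32078 := ndS (p := 14149) (l := 7) rfl N14149 D32078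
theorem N16152 : nd 16152 = n32079 := ndS (p := 14149) (l := 8) rfl N14149 D32079
theorem N16153 : nd 16153 = n32080 := ndS (p := 14150) (l := 6) rfl N14150 D32080
theorem N16154 : nd 16154 = n32081 := ndS (p := 14150) (l := 8) rfl N14150 D32081
theorem N16155 : nd 16155 = n32082 := ndS (p := 14151) (l := 9) rfl N14151 D32082
theorem N16156 : nd 16156 = n32083 := ndS (p := 14152) (l := 8) rfl N14152 D32083
theorem N16157 : nd 16157 = n32084 := ndS (p := 14153) (l := 9) rfl N14153 D32084
theorem N16158 : nd 16158 = n32085 := ndS (p := 14156) (l := 8) rfl N14156 D32085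
theorem N16159 : nd 16159 = n32086 := ndS (p := 14159) (l := 7) rfl N14159 D32086
theorem N16160 : nd 16160 = n32087 := ndS (p := 14159) (l := 8) rfl N14159 D32087
theorem N16161 : nd 16161 = n32088 := ndS (p := 14161) (l := 8) rfl N14161 D32088
theorem N16162 : nd 16162 = n32089 := ndS (p := 14162) (l := 9) rfl N14162 D32089
theorem N16163 : nd 16163 = n32090 := ndS (p := 14163) (l := 6) rfl N14163 D32090
theorem N16164 : nd 16164 = n32091 := ndS (p := 14163) (l := 8) rfl N14163 D32091
theorem N16165 : nd 16165 = n32092 := ndS (p := 14164) (l := 5) rfl N14164 D32092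
theorem N16166 : nd 16166 = n32093 := ndS (p := 14164) (l := 9) rfl N14164 D32093
theorem N16167 : nd 16167 = n32094 := ndS (p := 14165) (l := 8) rfl N14165 D32094
theorem N16168 : nd 16168 = n32095 := ndS (p := 14166) (l := 9) rfl N14166 D32095
theorem N16169 : nd 16169 = n32096 := ndS (p := 14168) (l := 5) rfl N14168 D32096
theorem N16170 : nd 16170 = n32097 := ndS (p := 14173) (l := 8) rfl N14173 D32097
theorem N16171 : nd 16171 = n32098 := ndS (p := 14175) (l := 6) rfl N14175 D32098
theorem N16172 : nd 16172 = n32099 := ndS (p := 14177) (l := 5) rfl N14177 D32099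
theorem N16173 : nd 16173 = n32100 := ndS (p := 14178) (l := 4) rfl N14178 D32100
theorem N16174 : nd 16174 = n32101 := ndS (p := 14179) (l := 5) rfl N14179 D32101
theorem N16175 : nd 16175 = n32102 := ndS (p := 14180) (l := 4) rfl N14180 D32102
theorem N16176 : nd 16176 = n32103 := ndS (p := 14181) (l := 5) rfl N14181 D32103
theorem N16177 : nd 16177 = n32104 := ndS (p := 14183) (l := 6) rfl N14183 D32104
theorem N16178 : nd 16178 = n32105 := ndS (p := 14184) (l := 5) rfl N14184 D32105
theorem N16179 : nd 16179 = n32106 := ndS (p := 14185) (l := 7) rfl N14185 D32106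
theorem N16180 : nd 16180 = n32107 := ndS (p := 14186) (l := 4) rfl N14186 D32107
theorem N16181 : nd 16181 = n32108 := ndS (p := 14187) (l := 3) rfl N14187 D32108
theorem N16182 : nd 16182 = n32109 := ndS (p := 14190) (l := 8) rfl N14190 D32109
theorem N16183 : nd 16183 = n32110 := ndS (p := 14192) (l := 9) rfl N14192 D32110
theorem N16184 : nd 16184 = n32111 := ndS (p := 14196) (l := 4) rfl N14196 D32111
theorem N16185 : nd 16185 = n32112 := ndS (p := 14196) (l := 9) rfl N14196 D32112
theorem N16186 : nd 16186 = n32113 := ndS (p := 14202) (l := 9) rfl N14202 D32113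
theorem N16187 : nd 16187 = n32114 := ndS (p := 14206) (l := 6) rfl N14206 D32114
theorem N16188 : nd 16188 = n32115 := ndS (p := 14207) (l := 5) rfl N14207 D32115
theorem N16189 : nd 16189 = n32116 := ndS (p := 14207) (l := 7) rfl N14207 D32116
theorem N16190 : nd 16190 = n32117 := ndS (p := 14208) (l := 4) rfl N14208 D32117
theorem N16191 : nd 16191 = n32118 := ndS (p := 14208) (l := 7) rfl N14208 D32118
theorem N16192 : nd 16192 = n32119 := ndS (p := 14208) (l := 8) rfl N14208 D32119
theorem N16193 : nd 16193 = n32120 := ndS (p := 14210) (l := 6) rfl N14210 D32120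
theorem N16194 : nd 16194 = n32121 := ndS (p := 14210) (l := 8) rfl N14210 D32121
theorem N16195 : nd 16195 = n32122 := ndS (p := 14211) (l := 9) rfl N14211 D32122
theorem N16196 : nd 16196 = n32123 := ndS (p := 14212) (l := 7) rfl N14212 D32123
theorem N16197 : nd 16197 = n32124 := ndS (p := 14213) (l := 4) rfl N14213 D32124
theorem N16198 : nd 16198 = n32125 := ndS (p := 14213) (l := 7) rfl N14213 D32125
theorem N16199 : nd 16199 = n32126 := ndS (p := 14213) (l := 8) rfl N14213 D32126
theorem N16200 : nd 16200 = n32127 := ndS (p := 14215) (l := 7) rfl N14215 D32127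
theorem N16201 : nd 16201 = n32128 := ndS (p := 14215) (l := 8) rfl N14215 D32128
theorem N16202 : nd 16202 = n32129 := ndS (p := 14216) (l := 8) rfl N14216 D32129
theorem N16203 : nd 16203 = n32130 := ndS (p := 14217) (l := 9) rfl N14217 D32130
theorem N16204 : nd 16204 = n32131 := ndS (p := 14218) (l := 9) rfl N14218 D32131
theorem N16205 : nd 16205 = n32132 := ndS (p := 14220) (l := 8) rfl N14220 D32132
theorem N16206 : nd 16206 = n32133 := ndS (p := 14221) (l := 9) rfl N14221 D32133
theorem N16207 : nd 16207 = n32134 := ndS (p := 14222) (l := 9) rfl N14222 D32134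
theorem N16208 : nd 16208 = n32135 := ndS (p := 14224) (l := 5) rfl N14224 D32135
theorem N16209 : nd 16209 = n32136 := ndS (p := 14226) (l := 4) rfl N14226 D32136
theorem N16210 : nd 16210 = n32137 := ndS (p := 14226) (l := 7) rfl N14226 D32137
theorem N16211 : nd 16211 = n32138 := ndS (p := 14228) (l := 6) rfl N14228 D32138
theorem N16212 : nd 16212 = n32139 := ndS (p := 14229) (l := 4) rfl N14229 D32139
theorem N16213 : nd 16213 = n32140 := ndS (p := 14229) (l := 7) rfl N14229 D32140
theorem N16214 : nd 16214 = n32141 := ndS (p := 14231) (l := 6) rfl N14231 D32141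
theorem N16215 : nd 16215 = n32142 := ndS (p := 14232) (l := 5) rfl N14232 D32142
theorem N16216 : nd 16216 = n32143 := ndS (p := 14232) (l := 7) rfl N14232 D32143
theorem N16217 : nd 16217 = n32144 := ndS (p := 14233) (l := 4) rfl N14233 D32144
theorem N16218 : nd 16218 = n32145 := ndS (p := 14233) (l := 7) rfl N14233 D32145
theorem N16219 : nd 16219 = n32146 := ndS (p := 14235) (l := 7) rfl N14235 D32146
theorem N16220 : nd 16220 = n32147 := ndS (p := 14235) (l := 8) rfl N14235 D32147
theorem N16221 : nd 16221 = n32148 := ndS (p := 14236) (l := 6) rfl N14236 D32148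
theorem N16222 : nd 16222 = n32149 := ndS (p := 14236) (l := 8) rfl N14236 D32149
theorem N16223 : nd 16223 = n32150 := ndS (p := 14237) (l := 9) rfl N14237 D32150
theorem N16224 : nd 16224 = n32151 := ndS (p := 14238) (l := 8) rfl N14238 D32151
theorem N16225 : nd 16225 = n32152 := ndS (p := 14239) (l := 9) rfl N14239 D32152
theorem N16226 : nd 16226 = n32153 := ndS (p := 14242) (l := 8) rfl N14242 D32153
theorem N16227 : nd 16227 = n32154 := ndS (p := 14243) (l := 5) rfl N14243 D32154
theorem N16228 : nd 16228 = n32155 := ndS (p := 14243) (l := 9) rfl N14243 D32155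
theorem N16229 : nd 16229 = n32156 := ndS (p := 14244) (l := 9) rfl N14244 D32156
theorem N16230 : nd 16230 = n32157 := ndS (p := 14247) (l := 5) rfl N14247 D32157
theorem N16231 : nd 16231 = n32158 := ndS (p := 14247) (l := 9) rfl N14247 D32158
theorem N16232 : nd 16232 = n32159 := ndS (p := 14248) (l := 6) rfl N14248 D32159
theorem N16233 : nd 16233 = n32160 := ndS (p := 14248) (l := 9) rfl N14248 D32160
theorem N16234 : nd 16234 = n32161 := ndS (p := 14251) (l := 4) rfl N14251 D32161
theorem N16235 : nd 16235 = n32162 := ndS (p := 14251) (l := 9) rfl N14251 D32162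
theorem N16236 : nd 16236 = n32163 := ndS (p := 14255) (l := 4) rfl N14255 D32163
theorem N16237 : nd 16237 = n32164 := ndS (p := 14255) (l := 7) rfl N14255 D32164
theorem N16238 : nd 16238 = n32165 := ndS (p := 14257) (l := 3) rfl N14257 D32165
theorem N16239 : nd 16239 = n32166 := ndS (p := 14257) (l := 7) rfl N14257 D32166
theorem N16240 : nd 16240 = n32167 := ndS (p := 14258) (l := 6) rfl N14258 D32167
theorem N16241 : nd 16241 = n32168 := ndS (p := 14259) (l := 6) rfl N14259 D32168
theorem N16242 : nd 16242 = n32169 := ndS (p := 14261) (l := 9) rfl N14261 D32169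
theorem N16243 : nd 16243 = n32170 := ndS (p := 14263) (l := 3) rfl N14263 D32170
theorem N16244 : nd 16244 = n32171 := ndS (p := 14263) (l := 9) rfl N14263 D32171
theorem N16245 : nd 16245 = n32172 := ndS (p := 14264) (l := 8) rfl N14264 D32172
theorem N16246 : nd 16246 = n32173 := ndS (p := 14265) (l := 6) rfl N14265 D32173
theorem N16247 : nd 16247 = n32174 := ndS (p := 14268) (l := 4) rfl N14268 D32174
theorem N16248 : nd 16248 = n32175 := ndS (p := 14269) (l := 3) rfl N14269 D32175
theorem N16249 : nd 16249 = n32176 := ndS (p := 14269) (l := 7) rfl N14269 D32176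
theorem N16250 : nd 16250 = n32177 := ndS (p := 14270) (l := 6) rfl N14270 D32177
theorem N16251 : nd 16251 = n32178 := ndS (p := 14271) (l := 7) rfl N14271 D32178
theorem N16252 : nd 16252 = n32179 := ndS (p := 14272) (l := 6) rfl N14272 D32179
theorem N16253 : nd 16253 = n32180 := ndS (p := 14274) (l := 5) rfl N14274 D32180
theorem N16254 : nd 16254 = n32181 := ndS (p := 14275) (l := 4) rfl N14275 D32181
theorem N16255 : nd 16255 = n32182 := ndS (p := 14275) (l := 7) rfl N14275 D32182
theorem N16256 : nd 16256 = n32183 := ndS (p := 14275) (l := 8) rfl N14275 D32183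
theorem N16257 : nd 16257 = n32184 := ndS (p := 14277) (l := 6) rfl N14277 D32184
theorem N16258 : nd 16258 = n32185 := ndS (p := 14277) (l := 8) rfl N14277 D32185
theorem N16259 : nd 16259 = n32186 := ndS (p := 14278) (l := 9) rfl N14278 D32186
theorem N16260 : nd 16260 = n32187 := ndS (p := 14279) (l := 6) rfl N14279 D32187
theorem N16261 : nd 16261 = n32188 := ndS (p := 14279) (l := 8) rfl N14279 D32188
theorem N16262 : nd 16262 = n32189 := ndS (p := 14280) (l := 9) rfl N14280 D32189
theorem N16263 : nd 16263 = n32190 := ndS (p := 14281) (l := 8) rfl N14281 D32190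
theorem N16264 : nd 16264 = n32191 := ndS (p := 14282) (l := 9) rfl N14282 D32191
theorem N16265 : nd 16265 = n32192 := ndS (p := 14284) (l := 8) rfl N14284 D32192
theorem N16266 : nd 16266 = n32193 := ndS (p := 14285) (l := 9) rfl N14285 D32193
theorem N16267 : nd 16267 = n32194 := ndS (p := 14287) (l := 9) rfl N14287 D32194
theorem N16268 : nd 16268 = n32195 := ndS (p := 14289) (l := 6) rfl N14289 D32195
theorem N16269 : nd 16269 = n32196 := ndS (p := 14290) (l := 5) rfl N14290 D32196
theorem N16270 : nd 16270 = n32197 := ndS (p := 14290) (l := 7) rfl N14290 D32197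
theorem N16271 : nd 16271 = n32198 := ndS (p := 14291) (l := 4) rfl N14291 D32198
theorem N16272 : nd 16272 = n32199 := ndS (p := 14291) (l := 7) rfl N14291 D32199
theorem N16273 : nd 16273 = n32200 := ndS (p := 14291) (l := 8) rfl N14291 D32200
theorem N16274 : nd 16274 = n32201 := ndS (p := 14293) (l := 6) rfl N14293 D32201
theorem N16275 : nd 16275 = n32202 := ndS (p := 14293) (l := 8) rfl N14293 D32202
theorem N16276 : nd 16276 = n32203 := ndS (p := 14294) (l := 9) rfl N14294 D32203
theorem N16277 : nd 16277 = n32204 := ndS (p := 14295) (l := 5) rfl N14295 D32204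
theorem N16278 : nd 16278 = n32205 := ndS (p := 14295) (l := 7) rfl N14295 D32205
theorem N16279 : nd 16279 = n32206 := ndS (p := 14296) (l := 4) rfl N14296 D32206
theorem N16280 : nd 16280 = n32207 := ndS (p := 14296) (l := 7) rfl N14296 D32207
theorem N16281 : nd 16281 = n32208 := ndS (p := 14298) (l := 7) rfl N14298 D32208
theorem N16282 : nd 16282 = n32209 := ndS (p := 14298) (l := 8) rfl N14298 D32209
theorem N16283 : nd 16283 = n32210 := ndS (p := 14299) (l := 6) rfl N14299 D32210
theorem N16284 : nd 16284 = n32211 := ndS (p := 14299) (l := 8) rfl N14299 D32211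
theorem N16285 : nd 16285 = n32212 := ndS (p := 14300) (l := 9) rfl N14300 D32212
theorem N16286 : nd 16286 = n32213 := ndS (p := 14301) (l := 8) rfl N14301 D32213
theorem N16287 : nd 16287 = n32214 := ndS (p := 14302) (l := 9) rfl N14302 D32214
theorem N16288 : nd 16288 = n32215 := ndS (p := 14305) (l := 8) rfl N14305 D32215
theorem N16289 : nd 16289 = n32216 := ndS (p := 14306) (l := 9) rfl N14306 D32216
theorem N16290 : nd 16290 = n32217 := ndS (p := 14308) (l := 5) rfl N14308 D32217
theorem N16291 : nd 16291 = n32218 := ndS (p := 14308) (l := 9) rfl N14308 D32218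
theorem N16292 : nd 16292 = n32219 := ndS (p := 14310) (l := 5) rfl N14310 D32219
theorem N16293 : nd 16293 = n32220 := ndS (p := 14310) (l := 9) rfl N14310 D32220
theorem N16294 : nd 16294 = n32221 := ndS (p := 14312) (l := 4) rfl N14312 D32221
theorem N16295 : nd 16295 = n32222 := ndS (p := 14312) (l := 9) rfl N14312 D32222
theorem N16296 : nd 16296 = n32223 := ndS (p := 14314) (l := 6) rfl N14314 D32223
theorem N16297 : nd 16297 = n32224 := ndS (p := 14315) (l := 5) rfl N14315 D32224
theorem N16298 : nd 16298 = n32225 := ndS (p := 14315) (l := 7) rfl N14315 D32225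
theorem N16299 : nd 16299 = n32226 := ndS (p := 14316) (l := 4) rfl N14316 D32226
theorem N16300 : nd 16300 = n32227 := ndS (p := 14316) (l := 7) rfl N14316 D32227
theorem N16301 : nd 16301 = n32228 := ndS (p := 14316) (l := 8) rfl N14316 D32228
theorem N16302 : nd 16302 = n32229 := ndS (p := 14318) (l := 6) rfl N14318 D32229
theorem N16303 : nd 16303 = n32230 := ndS (p := 14318) (l := 8) rfl N14318 D32230
theorem N16304 : nd 16304 = n32231 := ndS (p := 14319) (l := 9) rfl N14319 D32231
theorem N16305 : nd 16305 = n32232 := ndS (p := 14320) (l := 5) rfl N14320 D32232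
theorem N16306 : nd 16306 = n32233 := ndS (p := 14320) (l := 7) rfl N14320 D32233
theorem N16307 : nd 16307 = n32234 := ndS (p := 14321) (l := 4) rfl N14321 D32234
theorem N16308 : nd 16308 = n32235 := ndS (p := 14321) (l := 7) rfl N14321 D32235
theorem N16309 : nd 16309 = n32236 := ndS (p := 14321) (l := 8) rfl N14321 D32236
theorem N16310 : nd 16310 = n32237 := ndS (p := 14323) (l := 7) rfl N14323 D32237
theorem N16311 : nd 16311 = n32238 := ndS (p := 14323) (l := 8) rfl N14323 D32238
theorem N16312 : nd 16312 = n32239 := ndS (p := 14324) (l := 6) rfl N14324 D32239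
theorem N16313 : nd 16313 = n32240 := ndS (p := 14324) (l := 8) rfl N14324 D32240
theorem N16314 : nd 16314 = n32241 := ndS (p := 14325) (l := 9) rfl N14325 D32241
theorem N16315 : nd 16315 = n32242 := ndS (p := 14326) (l := 8) rfl N14326 D32242
theorem N16316 : nd 16316 = n32243 := ndS (p := 14327) (l := 9) rfl N14327 D32243
theorem N16317 : nd 16317 = n32244 := ndS (p := 14329) (l := 4) rfl N14329 D32244
theorem N16318 : nd 16318 = n32245 := ndS (p := 14329) (l := 7) rfl N14329 D32245
theorem N16319 : nd 16319 = n32246 := ndS (p := 14329) (l := 8) rfl N14329 D32246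
theorem N16320 : nd 16320 = n32247 := ndS (p := 14331) (l := 3) rfl N14331 D32247
theorem N16321 : nd 16321 = n32248 := ndS (p := 14331) (l := 7) rfl N14331 D32248
theorem N16322 : nd 16322 = n32249 := ndS (p := 14331) (l := 8) rfl N14331 D32249
theorem N16323 : nd 16323 = n32250 := ndS (p := 14332) (l := 6) rfl N14332 D32250
theorem N16324 : nd 16324 = n32251 := ndS (p := 14332) (l := 8) rfl N14332 D32251
theorem N16325 : nd 16325 = n32252 := ndS (p := 14333) (l := 9) rfl N14333 D32252
theorem N16326 : nd 16326 = n32253 := ndS (p := 14334) (l := 6) rfl N14334 D32253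
theorem N16327 : nd 16327 = n32254 := ndS (p := 14334) (l := 8) rfl N14334 D32254
theorem N16328 : nd 16328 = n32255 := ndS (p := 14335) (l := 5) rfl N14335 D32255
theorem N16329 : nd 16329 = n32256 := ndS (p := 14335) (l := 9) rfl N14335 D32256
theorem N16330 : nd 16330 = n32257 := ndS (p := 14336) (l := 8) rfl N14336 D32257
theorem N16331 : nd 16331 = n32258 := ndS (p := 14337) (l := 9) rfl N14337 D32258
theorem N16332 : nd 16332 = n32259 := ndS (p := 14339) (l := 5) rfl N14339 D32259
theorem N16333 : nd 16333 = n32260 := ndS (p := 14339) (l := 9) rfl N14339 D32260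
theorem N16334 : nd 16334 = n32261 := ndS (p := 14341) (l := 6) rfl N14341 D32261
theorem N16335 : nd 16335 = n32262 := ndS (p := 14341) (l := 8) rfl N14341 D32262
theorem N16336 : nd 16336 = n32263 := ndS (p := 14343) (l := 6) rfl N14343 D32263
theorem N16337 : nd 16337 = n32264 := ndS (p := 14343) (l := 8) rfl N14343 D32264
theorem N16338 : nd 16338 = n32265 := ndS (p := 14344) (l := 5) rfl N14344 D32265
theorem N16339 : nd 16339 = n32266 := ndS (p := 14344) (l := 9) rfl N14344 D32266
theorem N16340 : nd 16340 = n32267 := ndS (p := 14345) (l := 8) rfl N14345 D32267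
theorem N16341 : nd 16341 = n32268 := ndS (p := 14346) (l := 9) rfl N14346 D32268
theorem N16342 : nd 16342 = n32269 := ndS (p := 14348) (l := 8) rfl N14348 D32269
theorem N16343 : nd 16343 = n32270 := ndS (p := 14349) (l := 5) rfl N14349 D32270
theorem N16344 : nd 16344 = n32271 := ndS (p := 14349) (l := 9) rfl N14349 D32271
theorem N16345 : nd 16345 = n32272 := ndS (p := 14350) (l := 6) rfl N14350 D32272
theorem N16346 : nd 16346 = n32273 := ndS (p := 14350) (l := 9) rfl N14350 D32273
theorem N16347 : nd 16347 = n32274 := ndS (p := 14352) (l := 5) rfl N14352 D32274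
theorem N16348 : nd 16348 = n32275 := ndS (p := 14352) (l := 9) rfl N14352 D32275
theorem N16349 : nd 16349 = n32276 := ndS (p := 14354) (l := 4) rfl N14354 D32276
theorem N16350 : nd 16350 = n32277 := ndS (p := 14354) (l := 9) rfl N14354 D32277
theorem N16351 : nd 16351 = n32278 := ndS (p := 14356) (l := 8) rfl N14356 D32278
theorem N16352 : nd 16352 = n32279 := ndS (p := 14357) (l := 5) rfl N14357 D32279
theorem N16353 : nd 16353 = n32280 := ndS (p := 14357) (l := 9) rfl N14357 D32280
theorem N16354 : nd 16354 = n32281 := ndS (p := 14358) (l := 6) rfl N14358 D32281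
theorem N16355 : nd 16355 = n32282 := ndS (p := 14358) (l := 9) rfl N14358 D32282
theorem N16356 : nd 16356 = n32283 := ndS (p := 14360) (l := 7) rfl N14360 D32283
theorem N16357 : nd 16357 = n32284 := ndS (p := 14360) (l := 9) rfl N14360 D32284
theorem N16358 : nd 16358 = n32285 := ndS (p := 14362) (l := 4) rfl N14362 D32285
theorem N16359 : nd 16359 = n32286 := ndS (p := 14362) (l := 9) rfl N14362 D32286
theorem N16360 : nd 16360 = n32287 := ndS (p := 14364) (l := 3) rfl N14364 D32287
theorem N16361 : nd 16361 = n32288 := ndS (p := 14364) (l := 9) rfl N14364 D32288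
theorem N16362 : nd 16362 = n32289 := ndS (p := 14365) (l := 8) rfl N14365 D32289
theorem N16363 : nd 16363 = n32290 := ndS (p := 14366) (l := 4) rfl N14366 D32290
theorem N16364 : nd 16364 = n32291 := ndS (p := 14366) (l := 7) rfl N14366 D32291
theorem N16365 : nd 16365 = n32292 := ndS (p := 14366) (l := 8) rfl N14366 D32292
theorem N16366 : nd 16366 = n32293 := ndS (p := 14368) (l := 3) rfl N14368 D32293
theorem N16367 : nd 16367 = n32294 := ndS (p := 14368) (l := 7) rfl N14368 D32294
theorem N16368 : nd 16368 = n32295 := ndS (p := 14369) (l := 6) rfl N14369 D32295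
theorem N16369 : nd 16369 = n32296 := ndS (p := 14369) (l := 8) rfl N14369 D32296
theorem N16370 : nd 16370 = n32297 := ndS (p := 14371) (l := 6) rfl N14371 D32297
theorem N16371 : nd 16371 = n32298 := ndS (p := 14372) (l := 8) rfl N14372 D32298
theorem N16372 : nd 16372 = n32299 := ndS (p := 14374) (l := 5) rfl N14374 D32299
theorem N16373 : nd 16373 = n32300 := ndS (p := 14374) (l := 9) rfl N14374 D32300
theorem N16374 : nd 16374 = n32301 := ndS (p := 14376) (l := 3) rfl N14376 D32301
theorem N16375 : nd 16375 = n32302 := ndS (p := 14376) (l := 7) rfl N14376 D32302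
theorem N16376 : nd 16376 = n32303 := ndS (p := 14377) (l := 6) rfl N14377 D32303
theorem N16377 : nd 16377 = n32304 := ndS (p := 14377) (l := 8) rfl N14377 D32304
theorem N16378 : nd 16378 = n32305 := ndS (p := 14379) (l := 7) rfl N14379 D32305
theorem N16379 : nd 16379 = n32306 := ndS (p := 14379) (l := 8) rfl N14379 D32306
theorem N16380 : nd 16380 = n32307 := ndS (p := 14380) (l := 6) rfl N14380 D32307
theorem N16381 : nd 16381 = n32308 := ndS (p := 14380) (l := 8) rfl N14380 D32308
theorem N16382 : nd 16382 = n32309 := ndS (p := 14382) (l := 8) rfl N14382 D32309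
theorem N16383 : nd 16383 = n32310 := ndS (p := 14383) (l := 9) rfl N14383 D32310
theorem N16384 : nd 16384 = n32311 := ndS (p := 14385) (l := 5) rfl N14385 D32311
theorem N16385 : nd 16385 = n32312 := ndS (p := 14385) (l := 8) rfl N14385 D32312
theorem N16386 : nd 16386 = n32313 := ndS (p := 14387) (l := 5) rfl N14387 D32313
theorem N16387 : nd 16387 = n32314 := ndS (p := 14387) (l := 9) rfl N14387 D32314
theorem N16388 : nd 16388 = n32315 := ndS (p := 14389) (l := 4) rfl N14389 D32315
theorem N16389 : nd 16389 = n32316 := ndS (p := 14389) (l := 9) rfl N14389 D32316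
theorem N16390 : nd 16390 = n32317 := ndS (p := 14392) (l := 5) rfl N14392 D32317
theorem N16391 : nd 16391 = n32318 := ndS (p := 14392) (l := 9) rfl N14392 D32318
theorem N16392 : nd 16392 = n32319 := ndS (p := 14394) (l := 4) rfl N14394 D32319
theorem N16393 : nd 16393 = n32320 := ndS (p := 14394) (l := 9) rfl N14394 D32320
theorem N16394 : nd 16394 = n32321 := ndS (p := 14396) (l := 3) rfl N14396 D32321
theorem N16395 : nd 16395 = n32322 := ndS (p := 14396) (l := 9) rfl N14396 D32322
theorem N16396 : nd 16396 = n32323 := ndS (p := 14397) (l := 8) rfl N14397 D32323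
theorem N16397 : nd 16397 = n32324 := ndS (p := 14398) (l := 2) rfl N14398 D32324
theorem N16398 : nd 16398 = n32325 := ndS (p := 14398) (l := 9) rfl N14398 D32325
theorem N16399 : nd 16399 = n32326 := ndS (p := 14399) (l := 8) rfl N14399 D32326
theorem N16400 : nd 16400 = n32327 := ndS (p := 14401) (l := 2) rfl N14401 D32327
theorem N16401 : nd 16401 = n32328 := ndS (p := 14401) (l := 7) rfl N14401 D32328
theorem N16402 : nd 16402 = n32329 := ndS (p := 14402) (l := 6) rfl N14402 D32329
theorem N16403 : nd 16403 = n32330 := ndS (p := 14404) (l := 6) rfl N14404 D32330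
theorem N16404 : nd 16404 = n32331 := ndS (p := 14405) (l := 5) rfl N14405 D32331
theorem N16405 : nd 16405 = n32332 := ndS (p := 14406) (l := 8) rfl N14406 D32332
theorem N16406 : nd 16406 = n32333 := ndS (p := 14407) (l := 8) rfl N14407 D32333
theorem N16407 : nd 16407 = n32334 := ndS (p := 14408) (l := 9) rfl N14408 D32334
theorem N16408 : nd 16408 = n32335 := ndS (p := 14410) (l := 9) rfl N14410 D32335
theorem N16409 : nd 16409 = n32336 := ndS (p := 14412) (l := 9) rfl N14412 D32336
theorem N16410 : nd 16410 = n32337 := ndS (p := 14414) (l := 9) rfl N14414 D32337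
theorem N16411 : nd 16411 = n32338 := ndS (p := 14416) (l := 9) rfl N14416 D32338
theorem N16412 : nd 16412 = n32339 := ndS (p := 14419) (l := 9) rfl N14419 D32339
theorem N16413 : nd 16413 = n32340 := ndS (p := 14421) (l := 8) rfl N14421 D32340
theorem N16414 : nd 16414 = n32341 := ndS (p := 14423) (l := 8) rfl N14423 D32341
theorem N16415 : nd 16415 = n32342 := ndS (p := 14424) (l := 9) rfl N14424 D32342
theorem N16416 : nd 16416 = n32343 := ndS (p := 14426) (l := 9) rfl N14426 D32343
theorem N16417 : nd 16417 = n32344 := ndS (p := 14428) (l := 9) rfl N14428 D32344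
theorem N16418 : nd 16418 = n32345 := ndS (p := 14430) (l := 9) rfl N14430 D32345
theorem N16419 : nd 16419 = n32346 := ndS (p := 14432) (l := 8) rfl N14432 D32346
theorem N16420 : nd 16420 = n32347 := ndS (p := 14434) (l := 8) rfl N14434 D32347
theorem N16421 : nd 16421 = n32348 := ndS (p := 14435) (l := 8) rfl N14435 D32348
theorem N16422 : nd 16422 = n32349 := ndS (p := 14442) (l := 9) rfl N14442 D32349
theorem N16423 : nd 16423 = n32350 := ndS (p := 14445) (l := 6) rfl N14445 D32350
theorem N16424 : nd 16424 = n32351 := ndS (p := 14446) (l := 5) rfl N14446 D32351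
theorem N16425 : nd 16425 = n32352 := ndS (p := 14446) (l := 7) rfl N14446 D32352
theorem N16426 : nd 16426 = n32353 := ndS (p := 14447) (l := 4) rfl N14447 D32353
theorem N16427 : nd 16427 = n32354 := ndS (p := 14447) (l := 7) rfl N14447 D32354
theorem N16428 : nd 16428 = n32355 := ndS (p := 14449) (l := 6) rfl N14449 D32355
theorem N16429 : nd 16429 = n32356 := ndS (p := 14450) (l := 5) rfl N14450 D32356
theorem N16430 : nd 16430 = n32357 := ndS (p := 14450) (l := 7) rfl N14450 D32357
theorem N16431 : nd 16431 = n32358 := ndS (p := 14451) (l := 4) rfl N14451 D32358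
theorem N16432 : nd 16432 = n32359 := ndS (p := 14451) (l := 7) rfl N14451 D32359
theorem N16433 : nd 16433 = n32360 := ndS (p := 14453) (l := 7) rfl N14453 D32360
theorem N16434 : nd 16434 = n32361 := ndS (p := 14454) (l := 6) rfl N14454 D32361
theorem N16435 : nd 16435 = n32362 := ndS (p := 14456) (l := 6) rfl N14456 D32362
theorem N16436 : nd 16436 = n32363 := ndS (p := 14458) (l := 0) rfl N14458 D32363
theorem N16437 : nd 16437 = n32364 := ndS (p := 14458) (l := 6) rfl N14458 D32364
theorem N16438 : nd 16438 = n32365 := ndS (p := 14459) (l := 5) rfl N14459 D32365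
theorem N16439 : nd 16439 = n32366 := ndS (p := 14459) (l := 7) rfl N14459 D32366
theorem N16440 : nd 16440 = n32367 := ndS (p := 14460) (l := 4) rfl N14460 D32367
theorem N16441 : nd 16441 = n32368 := ndS (p := 14460) (l := 7) rfl N14460 D32368
theorem N16442 : nd 16442 = n32369 := ndS (p := 14460) (l := 8) rfl N14460 D32369
theorem N16443 : nd 16443 = n32370 := ndS (p := 14462) (l := 6) rfl N14462 D32370
theorem N16444 : nd 16444 = n32371 := ndS (p := 14462) (l := 8) rfl N14462 D32371
theorem N16445 : nd 16445 = n32372 := ndS (p := 14464) (l := 0) rfl N14464 D32372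
theorem N16446 : nd 16446 = n32373 := ndS (p := 14464) (l := 6) rfl N14464 D32373
theorem N16447 : nd 16447 = n32374 := ndS (p := 14465) (l := 5) rfl N14465 D32374
theorem N16448 : nd 16448 = n32375 := ndS (p := 14465) (l := 7) rfl N14465 D32375
theorem N16449 : nd 16449 = n32376 := ndS (p := 14466) (l := 4) rfl N14466 D32376
theorem N16450 : nd 16450 = n32377 := ndS (p := 14466) (l := 7) rfl N14466 D32377
theorem N16451 : nd 16451 = n32378 := ndS (p := 14466) (l := 8) rfl N14466 D32378
theorem N16452 : nd 16452 = n32379 := ndS (p := 14468) (l := 6) rfl N14468 D32379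
theorem N16453 : nd 16453 = n32380 := ndS (p := 14468) (l := 8) rfl N14468 D32380
theorem N16454 : nd 16454 = n32381 := ndS (p := 14469) (l := 9) rfl N14469 D32381
theorem N16455 : nd 16455 = n32382 := ndS (p := 14470) (l := 0) rfl N14470 D32382
theorem N16456 : nd 16456 = n32383 := ndS (p := 14470) (l := 6) rfl N14470 D32383
theorem N16457 : nd 16457 = n32384 := ndS (p := 14471) (l := 5) rfl N14471 D32384
theorem N16458 : nd 16458 = n32385 := ndS (p := 14471) (l := 7) rfl N14471 D32385
theorem N16459 : nd 16459 = n32386 := ndS (p := 14472) (l := 4) rfl N14472 D32386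
theorem N16460 : nd 16460 = n32387 := ndS (p := 14472) (l := 7) rfl N14472 D32387
theorem N16461 : nd 16461 = n32388 := ndS (p := 14472) (l := 8) rfl N14472 D32388
theorem N16462 : nd 16462 = n32389 := ndS (p := 14474) (l := 6) rfl N14474 D32389
theorem N16463 : nd 16463 = n32390 := ndS (p := 14474) (l := 8) rfl N14474 D32390
theorem N16464 : nd 16464 = n32391 := ndS (p := 14476) (l := 6) rfl N14476 D32391
theorem N16465 : nd 16465 = n32392 := ndS (p := 14477) (l := 5) rfl N14477 D32392
theorem N16466 : nd 16466 = n32393 := ndS (p := 14477) (l := 7) rfl N14477 D32393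
theorem N16467 : nd 16467 = n32394 := ndS (p := 14478) (l := 4) rfl N14478 D32394
theorem N16468 : nd 16468 = n32395 := ndS (p := 14478) (l := 7) rfl N14478 D32395
theorem N16469 : nd 16469 = n32396 := ndS (p := 14478) (l := 8) rfl N14478 D32396
theorem N16470 : nd 16470 = n32397 := ndS (p := 14480) (l := 7) rfl N14480 D32397
theorem N16471 : nd 16471 = n32398 := ndS (p := 14480) (l := 8) rfl N14480 D32398
theorem N16472 : nd 16472 = n32399 := ndS (p := 14481) (l := 6) rfl N14481 D32399
theorem N16473 : nd 16473 = n32400 := ndS (p := 14481) (l := 8) rfl N14481 D32400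
theorem N16474 : nd 16474 = n32401 := ndS (p := 14483) (l := 8) rfl N14483 D32401
theorem N16475 : nd 16475 = n32402 := ndS (p := 14486) (l := 7) rfl N14486 D32402
theorem N16476 : nd 16476 = n32403 := ndS (p := 14487) (l := 7) rfl N14487 D32403
theorem N16477 : nd 16477 = n32404 := ndS (p := 14487) (l := 8) rfl N14487 D32404
theorem N16478 : nd 16478 = n32405 := ndS (p := 14489) (l := 7) rfl N14489 D32405
theorem N16479 : nd 16479 = n32406 := ndS (p := 14489) (l := 8) rfl N14489 D32406
theorem N16480 : nd 16480 = n32407 := ndS (p := 14490) (l := 6) rfl N14490 D32407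
theorem N16481 : nd 16481 = n32408 := ndS (p := 14490) (l := 8) rfl N14490 D32408
theorem N16482 : nd 16482 = n32409 := ndS (p := 14491) (l := 9) rfl N14491 D32409
theorem N16483 : nd 16483 = n32410 := ndS (p := 14492) (l := 8) rfl N14492 D32410
theorem N16484 : nd 16484 = n32411 := ndS (p := 14493) (l := 9) rfl N14493 D32411
theorem N16485 : nd 16485 = n32412 := ndS (p := 14495) (l := 5) rfl N14495 D32412
theorem N16486 : nd 16486 = n32413 := ndS (p := 14495) (l := 7) rfl N14495 D32413
theorem N16487 : nd 16487 = n32414 := ndS (p := 14496) (l := 4) rfl N14496 D32414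
theorem N16488 : nd 16488 = n32415 := ndS (p := 14496) (l := 7) rfl N14496 D32415
theorem N16489 : nd 16489 = n32416 := ndS (p := 14496) (l := 8) rfl N14496 D32416
theorem N16490 : nd 16490 = n32417 := ndS (p := 14498) (l := 7) rfl N14498 D32417
theorem N16491 : nd 16491 = n32418 := ndS (p := 14499) (l := 6) rfl N14499 D32418
theorem N16492 : nd 16492 = n32419 := ndS (p := 14499) (l := 8) rfl N14499 D32419
theorem N16493 : nd 16493 = n32420 := ndS (p := 14501) (l := 6) rfl N14501 D32420
theorem N16494 : nd 16494 = n32421 := ndS (p := 14502) (l := 8) rfl N14502 D32421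
theorem N16495 : nd 16495 = n32422 := ndS (p := 14504) (l := 5) rfl N14504 D32422
theorem N16496 : nd 16496 = n32423 := ndS (p := 14505) (l := 5) rfl N14505 D32423
theorem N16497 : nd 16497 = n32424 := ndS (p := 14506) (l := 6) rfl N14506 D32424
theorem N16498 : nd 16498 = n32425 := ndS (p := 14507) (l := 5) rfl N14507 D32425
theorem N16499 : nd 16499 = n32426 := ndS (p := 14507) (l := 7) rfl N14507 D32426
theorem N16500 : nd 16500 = n32427 := ndS (p := 14508) (l := 4) rfl N14508 D32427
theorem N16501 : nd 16501 = n32428 := ndS (p := 14508) (l := 7) rfl N14508 D32428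
theorem N16502 : nd 16502 = n32429 := ndS (p := 14508) (l := 8) rfl N14508 D32429
theorem N16503 : nd 16503 = n32430 := ndS (p := 14510) (l := 6) rfl N14510 D32430
theorem N16504 : nd 16504 = n32431 := ndS (p := 14510) (l := 8) rfl N14510 D32431
theorem N16505 : nd 16505 = n32432 := ndS (p := 14512) (l := 6) rfl N14512 D32432
theorem N16506 : nd 16506 = n32433 := ndS (p := 14513) (l := 5) rfl N14513 D32433
theorem N16507 : nd 16507 = n32434 := ndS (p := 14513) (l := 7) rfl N14513 D32434
theorem N16508 : nd 16508 = n32435 := ndS (p := 14514) (l := 4) rfl N14514 D32435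
theorem N16509 : nd 16509 = n32436 := ndS (p := 14514) (l := 7) rfl N14514 D32436
theorem N16510 : nd 16510 = n32437 := ndS (p := 14514) (l := 8) rfl N14514 D32437
theorem N16511 : nd 16511 = n32438 := ndS (p := 14516) (l := 7) rfl N14516 D32438
theorem N16512 : nd 16512 = n32439 := ndS (p := 14516) (l := 8) rfl N14516 D32439
theorem N16513 : nd 16513 = n32440 := ndS (p := 14517) (l := 6) rfl N14517 D32440
theorem N16514 : nd 16514 = n32441 := ndS (p := 14517) (l := 8) rfl N14517 D32441
theorem N16515 : nd 16515 = n32442 := ndS (p := 14518) (l := 9) rfl N14518 D32442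
theorem N16516 : nd 16516 = n32443 := ndS (p := 14519) (l := 8) rfl N14519 D32443
theorem N16517 : nd 16517 = n32444 := ndS (p := 14520) (l := 9) rfl N14520 D32444
theorem N16518 : nd 16518 = n32445 := ndS (p := 14523) (l := 5) rfl N14523 D32445
theorem N16519 : nd 16519 = n32446 := ndS (p := 14523) (l := 7) rfl N14523 D32446
theorem N16520 : nd 16520 = n32447 := ndS (p := 14524) (l := 4) rfl N14524 D32447
theorem N16521 : nd 16521 = n32448 := ndS (p := 14524) (l := 7) rfl N14524 D32448
theorem N16522 : nd 16522 = n32449 := ndS (p := 14524) (l := 8) rfl N14524 D32449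
theorem N16523 : nd 16523 = n32450 := ndS (p := 14526) (l := 6) rfl N14526 D32450
theorem N16524 : nd 16524 = n32451 := ndS (p := 14526) (l := 8) rfl N14526 D32451
theorem N16525 : nd 16525 = n32452 := ndS (p := 14529) (l := 5) rfl N14529 D32452
theorem N16526 : nd 16526 = n32453 := ndS (p := 14529) (l := 7) rfl N14529 D32453
theorem N16527 : nd 16527 = n32454 := ndS (p := 14530) (l := 4) rfl N14530 D32454
theorem N16528 : nd 16528 = n32455 := ndS (p := 14530) (l := 7) rfl N14530 D32455
theorem N16529 : nd 16529 = n32456 := ndS (p := 14530) (l := 8) rfl N14530 D32456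
theorem N16530 : nd 16530 = n32457 := ndS (p := 14532) (l := 7) rfl N14532 D32457
theorem N16531 : nd 16531 = n32458 := ndS (p := 14532) (l := 8) rfl N14532 D32458
theorem N16532 : nd 16532 = n32459 := ndS (p := 14533) (l := 6) rfl N14533 D32459
theorem N16533 : nd 16533 = n32460 := ndS (p := 14533) (l := 8) rfl N14533 D32460
theorem N16534 : nd 16534 = n32461 := ndS (p := 14534) (l := 9) rfl N14534 D32461
theorem N16535 : nd 16535 = n32462 := ndS (p := 14535) (l := 8) rfl N14535 D32462
theorem N16536 : nd 16536 = n32463 := ndS (p := 14536) (l := 9) rfl N14536 D32463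
theorem N16537 : nd 16537 = n32464 := ndS (p := 14538) (l := 6) rfl N14538 D32464
theorem N16538 : nd 16538 = n32465 := ndS (p := 14539) (l := 5) rfl N14539 D32465
theorem N16539 : nd 16539 = n32466 := ndS (p := 14539) (l := 7) rfl N14539 D32466
theorem N16540 : nd 16540 = n32467 := ndS (p := 14540) (l := 4) rfl N14540 D32467
theorem N16541 : nd 16541 = n32468 := ndS (p := 14540) (l := 7) rfl N14540 D32468
theorem N16542 : nd 16542 = n32469 := ndS (p := 14540) (l := 8) rfl N14540 D32469
theorem N16543 : nd 16543 = n32470 := ndS (p := 14542) (l := 7) rfl N14542 D32470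
theorem N16544 : nd 16544 = n32471 := ndS (p := 14542) (l := 8) rfl N14542 D32471
theorem N16545 : nd 16545 = n32472 := ndS (p := 14543) (l := 6) rfl N14543 D32472
theorem N16546 : nd 16546 = n32473 := ndS (p := 14543) (l := 8) rfl N14543 D32473
theorem N16547 : nd 16547 = n32474 := ndS (p := 14544) (l := 9) rfl N14544 D32474
theorem N16548 : nd 16548 = n32475 := ndS (p := 14545) (l := 8) rfl N14545 D32475
theorem N16549 : nd 16549 = n32476 := ndS (p := 14546) (l := 9) rfl N14546 D32476
theorem N16550 : nd 16550 = n32477 := ndS (p := 14548) (l := 5) rfl N14548 D32477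
theorem N16551 : nd 16551 = n32478 := ndS (p := 14548) (l := 7) rfl N14548 D32478
theorem N16552 : nd 16552 = n32479 := ndS (p := 14549) (l := 4) rfl N14549 D32479
theorem N16553 : nd 16553 = n32480 := ndS (p := 14549) (l := 7) rfl N14549 D32480
theorem N16554 : nd 16554 = n32481 := ndS (p := 14549) (l := 8) rfl N14549 D32481
theorem N16555 : nd 16555 = n32482 := ndS (p := 14551) (l := 3) rfl N14551 D32482
theorem N16556 : nd 16556 = n32483 := ndS (p := 14551) (l := 7) rfl N14551 D32483
theorem N16557 : nd 16557 = n32484 := ndS (p := 14551) (l := 8) rfl N14551 D32484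
theorem N16558 : nd 16558 = n32485 := ndS (p := 14552) (l := 6) rfl N14552 D32485
theorem N16559 : nd 16559 = n32486 := ndS (p := 14552) (l := 8) rfl N14552 D32486
theorem N16560 : nd 16560 = n32487 := ndS (p := 14553) (l := 9) rfl N14553 D32487
theorem N16561 : nd 16561 = n32488 := ndS (p := 14554) (l := 6) rfl N14554 D32488
theorem N16562 : nd 16562 = n32489 := ndS (p := 14554) (l := 8) rfl N14554 D32489
theorem N16563 : nd 16563 = n32490 := ndS (p := 14555) (l := 5) rfl N14555 D32490
theorem N16564 : nd 16564 = n32491 := ndS (p := 14555) (l := 9) rfl N14555 D32491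
theorem N16565 : nd 16565 = n32492 := ndS (p := 14556) (l := 8) rfl N14556 D32492
theorem N16566 : nd 16566 = n32493 := ndS (p := 14557) (l := 9) rfl N14557 D32493
theorem N16567 : nd 16567 = n32494 := ndS (p := 14559) (l := 5) rfl N14559 D32494
theorem N16568 : nd 16568 = n32495 := ndS (p := 14559) (l := 9) rfl N14559 D32495
theorem N16569 : nd 16569 = n32496 := ndS (p := 14562) (l := 6) rfl N14562 D32496
theorem N16570 : nd 16570 = n32497 := ndS (p := 14562) (l := 8) rfl N14562 D32497
theorem N16571 : nd 16571 = n32498 := ndS (p := 14564) (l := 6) rfl N14564 D32498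
theorem N16572 : nd 16572 = n32499 := ndS (p := 14564) (l := 8) rfl N14564 D32499
theorem N16573 : nd 16573 = n32500 := ndS (p := 14565) (l := 5) rfl N14565 D32500
theorem N16574 : nd 16574 = n32501 := ndS (p := 14566) (l := 8) rfl N14566 D32501
theorem N16575 : nd 16575 = n32502 := ndS (p := 14567) (l := 9) rfl N14567 D32502
theorem N16576 : nd 16576 = n32503 := ndS (p := 14569) (l := 5) rfl N14569 D32503
theorem N16577 : nd 16577 = n32504 := ndS (p := 14569) (l := 9) rfl N14569 D32504
theorem N16578 : nd 16578 = n32505 := ndS (p := 14571) (l := 7) rfl N14571 D32505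
theorem N16579 : nd 16579 = n32506 := ndS (p := 14571) (l := 8) rfl N14571 D32506
theorem N16580 : nd 16580 = n32507 := ndS (p := 14573) (l := 7) rfl N14573 D32507
theorem N16581 : nd 16581 = n32508 := ndS (p := 14573) (l := 8) rfl N14573 D32508
theorem N16582 : nd 16582 = n32509 := ndS (p := 14574) (l := 6) rfl N14574 D32509
theorem N16583 : nd 16583 = n32510 := ndS (p := 14574) (l := 8) rfl N14574 D32510
theorem N16584 : nd 16584 = n32511 := ndS (p := 14575) (l := 9) rfl N14575 D32511
theorem N16585 : nd 16585 = n32512 := ndS (p := 14576) (l := 6) rfl N14576 D32512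
theorem N16586 : nd 16586 = n32513 := ndS (p := 14576) (l := 8) rfl N14576 D32513
theorem N16587 : nd 16587 = n32514 := ndS (p := 14577) (l := 5) rfl N14577 D32514
theorem N16588 : nd 16588 = n32515 := ndS (p := 14578) (l := 8) rfl N14578 D32515
theorem N16589 : nd 16589 = n32516 := ndS (p := 14579) (l := 9) rfl N14579 D32516
theorem N16590 : nd 16590 = n32517 := ndS (p := 14581) (l := 5) rfl N14581 D32517
theorem N16591 : nd 16591 = n32518 := ndS (p := 14581) (l := 8) rfl N14581 D32518
theorem N16592 : nd 16592 = n32519 := ndS (p := 14582) (l := 5) rfl N14582 D32519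
theorem N16593 : nd 16593 = n32520 := ndS (p := 14583) (l := 6) rfl N14583 D32520
theorem N16594 : nd 16594 = n32521 := ndS (p := 14584) (l := 5) rfl N14584 D32521
theorem N16595 : nd 16595 = n32522 := ndS (p := 14584) (l := 9) rfl N14584 D32522
theorem N16596 : nd 16596 = n32523 := ndS (p := 14586) (l := 4) rfl N14586 D32523
theorem N16597 : nd 16597 = n32524 := ndS (p := 14586) (l := 9) rfl N14586 D32524
theorem N16598 : nd 16598 = n32525 := ndS (p := 14588) (l := 8) rfl N14588 D32525
theorem N16599 : nd 16599 = n32526 := ndS (p := 14589) (l := 5) rfl N14589 D32526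
theorem N16600 : nd 16600 = n32527 := ndS (p := 14590) (l := 6) rfl N14590 D32527
theorem N16601 : nd 16601 = n32528 := ndS (p := 14591) (l := 7) rfl N14591 D32528
theorem N16602 : nd 16602 = n32529 := ndS (p := 14592) (l := 3) rfl N14592 D32529
theorem N16603 : nd 16603 = n32530 := ndS (p := 14592) (l := 9) rfl N14592 D32530
theorem N16604 : nd 16604 = n32531 := ndS (p := 14594) (l := 6) rfl N14594 D32531
theorem N16605 : nd 16605 = n32532 := ndS (p := 14595) (l := 5) rfl N14595 D32532
theorem N16606 : nd 16606 = n32533 := ndS (p := 14595) (l := 7) rfl N14595 D32533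
theorem N16607 : nd 16607 = n32534 := ndS (p := 14596) (l := 4) rfl N14596 D32534
theorem N16608 : nd 16608 = n32535 := ndS (p := 14596) (l := 7) rfl N14596 D32535
theorem N16609 : nd 16609 = n32536 := ndS (p := 14596) (l := 8) rfl N14596 D32536
theorem N16610 : nd 16610 = n32537 := ndS (p := 14598) (l := 7) rfl N14598 D32537
theorem N16611 : nd 16611 = n32538 := ndS (p := 14599) (l := 6) rfl N14599 D32538
theorem N16612 : nd 16612 = n32539 := ndS (p := 14599) (l := 8) rfl N14599 D32539
theorem N16613 : nd 16613 = n32540 := ndS (p := 14601) (l := 8) rfl N14601 D32540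
theorem N16614 : nd 16614 = n32541 := ndS (p := 14603) (l := 6) rfl N14603 D32541
theorem N16615 : nd 16615 = n32542 := ndS (p := 14604) (l := 5) rfl N14604 D32542
theorem N16616 : nd 16616 = n32543 := ndS (p := 14604) (l := 7) rfl N14604 D32543
theorem N16617 : nd 16617 = n32544 := ndS (p := 14605) (l := 4) rfl N14605 D32544
theorem N16618 : nd 16618 = n32545 := ndS (p := 14605) (l := 7) rfl N14605 D32545
theorem N16619 : nd 16619 = n32546 := ndS (p := 14605) (l := 8) rfl N14605 D32546
theorem N16620 : nd 16620 = n32547 := ndS (p := 14607) (l := 7) rfl N14607 D32547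
theorem N16621 : nd 16621 = n32548 := ndS (p := 14608) (l := 6) rfl N14608 D32548
theorem N16622 : nd 16622 = n32549 := ndS (p := 14608) (l := 8) rfl N14608 D32549
theorem N16623 : nd 16623 = n32550 := ndS (p := 14610) (l := 8) rfl N14610 D32550
theorem N16624 : nd 16624 = n32551 := ndS (p := 14611) (l := 9) rfl N14611 D32551
theorem N16625 : nd 16625 = n32552 := ndS (p := 14613) (l := 5) rfl N14613 D32552
theorem N16626 : nd 16626 = n32553 := ndS (p := 14613) (l := 7) rfl N14613 D32553
theorem N16627 : nd 16627 = n32554 := ndS (p := 14614) (l := 4) rfl N14614 D32554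
theorem N16628 : nd 16628 = n32555 := ndS (p := 14614) (l := 7) rfl N14614 D32555
theorem N16629 : nd 16629 = n32556 := ndS (p := 14614) (l := 8) rfl N14614 D32556
theorem N16630 : nd 16630 = n32557 := ndS (p := 14616) (l := 3) rfl N14616 D32557
theorem N16631 : nd 16631 = n32558 := ndS (p := 14616) (l := 7) rfl N14616 D32558
theorem N16632 : nd 16632 = n32559 := ndS (p := 14616) (l := 8) rfl N14616 D32559
theorem N16633 : nd 16633 = n32560 := ndS (p := 14617) (l := 6) rfl N14617 D32560
theorem N16634 : nd 16634 = n32561 := ndS (p := 14617) (l := 8) rfl N14617 D32561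
theorem N16635 : nd 16635 = n32562 := ndS (p := 14618) (l := 9) rfl N14618 D32562
theorem N16636 : nd 16636 = n32563 := ndS (p := 14619) (l := 6) rfl N14619 D32563
theorem N16637 : nd 16637 = n32564 := ndS (p := 14619) (l := 8) rfl N14619 D32564
theorem N16638 : nd 16638 = n32565 := ndS (p := 14621) (l := 8) rfl N14621 D32565
theorem N16639 : nd 16639 = n32566 := ndS (p := 14622) (l := 9) rfl N14622 D32566
theorem N16640 : nd 16640 = n32567 := ndS (p := 14624) (l := 5) rfl N14624 D32567
theorem N16641 : nd 16641 = n32568 := ndS (p := 14624) (l := 9) rfl N14624 D32568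
theorem N16642 : nd 16642 = n32569 := ndS (p := 14626) (l := 7) rfl N14626 D32569
theorem N16643 : nd 16643 = n32570 := ndS (p := 14628) (l := 7) rfl N14628 D32570
theorem N16644 : nd 16644 = n32571 := ndS (p := 14629) (l := 6) rfl N14629 D32571
theorem N16645 : nd 16645 = n32572 := ndS (p := 14630) (l := 8) rfl N14630 D32572
theorem N16646 : nd 16646 = n32573 := ndS (p := 14633) (l := 5) rfl N14633 D32573
theorem N16647 : nd 16647 = n32574 := ndS (p := 14633) (l := 7) rfl N14633 D32574
theorem N16648 : nd 16648 = n32575 := ndS (p := 14634) (l := 4) rfl N14634 D32575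
theorem N16649 : nd 16649 = n32576 := ndS (p := 14634) (l := 7) rfl N14634 D32576
theorem N16650 : nd 16650 = n32577 := ndS (p := 14634) (l := 8) rfl N14634 D32577
theorem N16651 : nd 16651 = n32578 := ndS (p := 14636) (l := 7) rfl N14636 D32578
theorem N16652 : nd 16652 = n32579 := ndS (p := 14637) (l := 6) rfl N14637 D32579
theorem N16653 : nd 16653 = n32580 := ndS (p := 14637) (l := 8) rfl N14637 D32580
theorem N16654 : nd 16654 = n32581 := ndS (p := 14639) (l := 8) rfl N14639 D32581
theorem N16655 : nd 16655 = n32582 := ndS (p := 14641) (l := 7) rfl N14641 D32582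
theorem N16656 : nd 16656 = n32583 := ndS (p := 14643) (l := 3) rfl N14643 D32583
theorem N16657 : nd 16657 = n32584 := ndS (p := 14643) (l := 7) rfl N14643 D32584
theorem N16658 : nd 16658 = n32585 := ndS (p := 14644) (l := 6) rfl N14644 D32585
theorem N16659 : nd 16659 = n32586 := ndS (p := 14644) (l := 8) rfl N14644 D32586
theorem N16660 : nd 16660 = n32587 := ndS (p := 14646) (l := 6) rfl N14646 D32587
theorem N16661 : nd 16661 = n32588 := ndS (p := 14647) (l := 8) rfl N14647 D32588
theorem N16662 : nd 16662 = n32589 := ndS (p := 14649) (l := 5) rfl N14649 D32589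
theorem N16663 : nd 16663 = n32590 := ndS (p := 14649) (l := 9) rfl N14649 D32590
theorem N16664 : nd 16664 = n32591 := ndS (p := 14651) (l := 5) rfl N14651 D32591
theorem N16665 : nd 16665 = n32592 := ndS (p := 14651) (l := 7) rfl N14651 D32592
theorem N16666 : nd 16666 = n32593 := ndS (p := 14652) (l := 7) rfl N14652 D32593
theorem N16667 : nd 16667 = n32594 := ndS (p := 14654) (l := 3) rfl N14654 D32594
theorem N16668 : nd 16668 = n32595 := ndS (p := 14654) (l := 7) rfl N14654 D32595
theorem N16669 : nd 16669 = n32596 := ndS (p := 14655) (l := 6) rfl N14655 D32596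
theorem N16670 : nd 16670 = n32597 := ndS (p := 14655) (l := 8) rfl N14655 D32597
theorem N16671 : nd 16671 = n32598 := ndS (p := 14657) (l := 6) rfl N14657 D32598
theorem N16672 : nd 16672 = n32599 := ndS (p := 14657) (l := 8) rfl N14657 D32599
theorem N16673 : nd 16673 = n32600 := ndS (p := 14659) (l := 8) rfl N14659 D32600
theorem N16674 : nd 16674 = n32601 := ndS (p := 14660) (l := 9) rfl N14660 D32601
theorem N16675 : nd 16675 = n32602 := ndS (p := 14662) (l := 5) rfl N14662 D32602
theorem N16676 : nd 16676 = n32603 := ndS (p := 14662) (l := 9) rfl N14662 D32603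
theorem N16677 : nd 16677 = n32604 := ndS (p := 14664) (l := 4) rfl N14664 D32604
theorem N16678 : nd 16678 = n32605 := ndS (p := 14664) (l := 7) rfl N14664 D32605
theorem N16679 : nd 16679 = n32606 := ndS (p := 14664) (l := 8) rfl N14664 D32606
theorem N16680 : nd 16680 = n32607 := ndS (p := 14666) (l := 3) rfl N14666 D32607
theorem N16681 : nd 16681 = n32608 := ndS (p := 14666) (l := 7) rfl N14666 D32608
theorem N16682 : nd 16682 = n32609 := ndS (p := 14667) (l := 6) rfl N14667 D32609
theorem N16683 : nd 16683 = n32610 := ndS (p := 14667) (l := 8) rfl N14667 D32610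
theorem N16684 : nd 16684 = n32611 := ndS (p := 14669) (l := 7) rfl N14669 D32611
theorem N16685 : nd 16685 = n32612 := ndS (p := 14669) (l := 8) rfl N14669 D32612
theorem N16686 : nd 16686 = n32613 := ndS (p := 14670) (l := 6) rfl N14670 D32613
theorem N16687 : nd 16687 = n32614 := ndS (p := 14670) (l := 8) rfl N14670 D32614
theorem N16688 : nd 16688 = n32615 := ndS (p := 14672) (l := 8) rfl N14672 D32615
theorem N16689 : nd 16689 = n32616 := ndS (p := 14673) (l := 9) rfl N14673 D32616
theorem N16690 : nd 16690 = n32617 := ndS (p := 14675) (l := 5) rfl N14675 D32617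
theorem N16691 : nd 16691 = n32618 := ndS (p := 14675) (l := 8) rfl N14675 D32618
theorem N16692 : nd 16692 = n32619 := ndS (p := 14676) (l := 9) rfl N14676 D32619
theorem N16693 : nd 16693 = n32620 := ndS (p := 14678) (l := 5) rfl N14678 D32620
theorem N16694 : nd 16694 = n32621 := ndS (p := 14678) (l := 9) rfl N14678 D32621
theorem N16695 : nd 16695 = n32622 := ndS (p := 14680) (l := 4) rfl N14680 D32622
theorem N16696 : nd 16696 = n32623 := ndS (p := 14680) (l := 9) rfl N14680 D32623
theorem N16697 : nd 16697 = n32624 := ndS (p := 14685) (l := 5) rfl N14685 D32624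
theorem N16698 : nd 16698 = n32625 := ndS (p := 14686) (l := 4) rfl N14686 D32625
theorem N16699 : nd 16699 = n32626 := ndS (p := 14686) (l := 9) rfl N14686 D32626
theorem N16700 : nd 16700 = n32627 := ndS (p := 14688) (l := 8) rfl N14688 D32627
theorem N16701 : nd 16701 = n32628 := ndS (p := 14689) (l := 9) rfl N14689 D32628
theorem N16702 : nd 16702 = n32629 := ndS (p := 14690) (l := 8) rfl N14690 D32629
theorem N16703 : nd 16703 = n32630 := ndS (p := 14691) (l := 9) rfl N14691 D32630
theorem N16704 : nd 16704 = n32631 := ndS (p := 14693) (l := 5) rfl N14693 D32631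
theorem N16705 : nd 16705 = n32632 := ndS (p := 14693) (l := 9) rfl N14693 D32632
theorem N16706 : nd 16706 = n32633 := ndS (p := 14695) (l := 4) rfl N14695 D32633
theorem N16707 : nd 16707 = n32634 := ndS (p := 14695) (l := 9) rfl N14695 D32634
theorem N16708 : nd 16708 = n32635 := ndS (p := 14699) (l := 6) rfl N14699 D32635
theorem N16709 : nd 16709 = n32636 := ndS (p := 14703) (l := 7) rfl N14703 D32636
theorem N16710 : nd 16710 = n32637 := ndS (p := 14704) (l := 6) rfl N14704 D32637
theorem N16711 : nd 16711 = n32638 := ndS (p := 14709) (l := 7) rfl N14709 D32638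
theorem N16712 : nd 16712 = n32639 := ndS (p := 14710) (l := 6) rfl N14710 D32639
theorem N16713 : nd 16713 = n32640 := ndS (p := 14712) (l := 5) rfl N14712 D32640
theorem N16714 : nd 16714 = n32641 := ndS (p := 14715) (l := 4) rfl N14715 D32641
theorem N16715 : nd 16715 = n32642 := ndS (p := 14715) (l := 7) rfl N14715 D32642
theorem N16716 : nd 16716 = n32643 := ndS (p := 14715) (l := 8) rfl N14715 D32643
theorem N16717 : nd 16717 = n32644 := ndS (p := 14717) (l := 7) rfl N14717 D32644
theorem N16718 : nd 16718 = n32645 := ndS (p := 14718) (l := 6) rfl N14718 D32645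
theorem N16719 : nd 16719 = n32646 := ndS (p := 14718) (l := 8) rfl N14718 D32646
theorem N16720 : nd 16720 = n32647 := ndS (p := 14720) (l := 7) rfl N14720 D32647
theorem N16721 : nd 16721 = n32648 := ndS (p := 14721) (l := 6) rfl N14721 D32648
theorem N16722 : nd 16722 = n32649 := ndS (p := 14721) (l := 8) rfl N14721 D32649
theorem N16723 : nd 16723 = n32650 := ndS (p := 14723) (l := 8) rfl N14723 D32650
theorem N16724 : nd 16724 = n32651 := ndS (p := 14725) (l := 5) rfl N14725 D32651
theorem N16725 : nd 16725 = n32652 := ndS (p := 14725) (l := 8) rfl N14725 D32652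
theorem N16726 : nd 16726 = n32653 := ndS (p := 14729) (l := 3) rfl N14729 D32653
theorem N16727 : nd 16727 = n32654 := ndS (p := 14729) (l := 7) rfl N14729 D32654
theorem N16728 : nd 16728 = n32655 := ndS (p := 14731) (l := 7) rfl N14731 D32655
theorem N16729 : nd 16729 = n32656 := ndS (p := 14732) (l := 6) rfl N14732 D32656
theorem N16730 : nd 16730 = n32657 := ndS (p := 14734) (l := 6) rfl N14734 D32657
theorem N16731 : nd 16731 = n32658 := ndS (p := 14735) (l := 5) rfl N14735 D32658
theorem N16732 : nd 16732 = n32659 := ndS (p := 14736) (l := 8) rfl N14736 D32659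
theorem N16733 : nd 16733 = n32660 := ndS (p := 14737) (l := 4) rfl N14737 D32660
theorem N16734 : nd 16734 = n32661 := ndS (p := 14737) (l := 7) rfl N14737 D32661
theorem N16735 : nd 16735 = n32662 := ndS (p := 14739) (l := 6) rfl N14739 D32662
theorem N16736 : nd 16736 = n32663 := ndS (p := 14740) (l := 7) rfl N14740 D32663
theorem N16737 : nd 16737 = n32664 := ndS (p := 14741) (l := 6) rfl N14741 D32664
theorem N16738 : nd 16738 = n32665 := ndS (p := 14743) (l := 4) rfl N14743 D32665
theorem N16739 : nd 16739 = n32666 := ndS (p := 14743) (l := 7) rfl N14743 D32666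
theorem N16740 : nd 16740 = n32667 := ndS (p := 14745) (l := 7) rfl N14745 D32667
theorem N16741 : nd 16741 = n32668 := ndS (p := 14745) (l := 8) rfl N14745 D32668
theorem N16742 : nd 16742 = n32669 := ndS (p := 14746) (l := 6) rfl N14746 D32669
theorem N16743 : nd 16743 = n32670 := ndS (p := 14746) (l := 8) rfl N14746 D32670
theorem N16744 : nd 16744 = n32671 := ndS (p := 14748) (l := 8) rfl N14748 D32671
theorem N16745 : nd 16745 = n32672 := ndS (p := 14750) (l := 4) rfl N14750 D32672
theorem N16746 : nd 16746 = n32673 := ndS (p := 14750) (l := 7) rfl N14750 D32673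
theorem N16747 : nd 16747 = n32674 := ndS (p := 14752) (l := 7) rfl N14752 D32674
theorem N16748 : nd 16748 = n32675 := ndS (p := 14752) (l := 8) rfl N14752 D32675
theorem N16749 : nd 16749 = n32676 := ndS (p := 14753) (l := 6) rfl N14753 D32676
theorem N16750 : nd 16750 = n32677 := ndS (p := 14753) (l := 8) rfl N14753 D32677
theorem N16751 : nd 16751 = n32678 := ndS (p := 14754) (l := 9) rfl N14754 D32678
theorem N16752 : nd 16752 = n32679 := ndS (p := 14755) (l := 8) rfl N14755 D32679
theorem N16753 : nd 16753 = n32680 := ndS (p := 14756) (l := 9) rfl N14756 D32680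
theorem N16754 : nd 16754 = n32681 := ndS (p := 14758) (l := 7) rfl N14758 D32681
theorem N16755 : nd 16755 = n32682 := ndS (p := 14759) (l := 4) rfl N14759 D32682
theorem N16756 : nd 16756 = n32683 := ndS (p := 14759) (l := 7) rfl N14759 D32683
theorem N16757 : nd 16757 = n32684 := ndS (p := 14761) (l := 7) rfl N14761 D32684
theorem N16758 : nd 16758 = n32685 := ndS (p := 14761) (l := 8) rfl N14761 D32685
theorem N16759 : nd 16759 = n32686 := ndS (p := 14762) (l := 6) rfl N14762 D32686
theorem N16760 : nd 16760 = n32687 := ndS (p := 14762) (l := 8) rfl N14762 D32687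
theorem N16761 : nd 16761 = n32688 := ndS (p := 14764) (l := 8) rfl N14764 D32688
theorem N16762 : nd 16762 = n32689 := ndS (p := 14767) (l := 3) rfl N14767 D32689
theorem N16763 : nd 16763 = n32690 := ndS (p := 14767) (l := 7) rfl N14767 D32690
theorem N16764 : nd 16764 = n32691 := ndS (p := 14768) (l := 6) rfl N14768 D32691
theorem N16765 : nd 16765 = n32692 := ndS (p := 14769) (l := 6) rfl N14769 D32692
theorem N16766 : nd 16766 = n32693 := ndS (p := 14769) (l := 8) rfl N14769 D32693
theorem N16767 : nd 16767 = n32694 := ndS (p := 14771) (l := 8) rfl N14771 D32694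
theorem N16768 : nd 16768 = n32695 := ndS (p := 14775) (l := 6) rfl N14775 D32695
theorem N16769 : nd 16769 = n32696 := ndS (p := 14776) (l := 5) rfl N14776 D32696
theorem N16770 : nd 16770 = n32697 := ndS (p := 14776) (l := 7) rfl N14776 D32697
theorem N16771 : nd 16771 = n32698 := ndS (p := 14777) (l := 4) rfl N14777 D32698
theorem N16772 : nd 16772 = n32699 := ndS (p := 14777) (l := 7) rfl N14777 D32699
theorem N16773 : nd 16773 = n32700 := ndS (p := 14777) (l := 8) rfl N14777 D32700
theorem N16774 : nd 16774 = n32701 := ndS (p := 14779) (l := 6) rfl N14779 D32701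
theorem N16775 : nd 16775 = n32702 := ndS (p := 14779) (l := 8) rfl N14779 D32702
theorem N16776 : nd 16776 = n32703 := ndS (p := 14781) (l := 5) rfl N14781 D32703
theorem N16777 : nd 16777 = n32704 := ndS (p := 14781) (l := 7) rfl N14781 D32704
theorem N16778 : nd 16778 = n32705 := ndS (p := 14782) (l := 4) rfl N14782 D32705
theorem N16779 : nd 16779 = n32706 := ndS (p := 14782) (l := 7) rfl N14782 D32706
theorem N16780 : nd 16780 = n32707 := ndS (p := 14782) (l := 8) rfl N14782 D32707
theorem N16781 : nd 16781 = n32708 := ndS (p := 14784) (l := 7) rfl N14784 D32708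
theorem N16782 : nd 16782 = n32709 := ndS (p := 14784) (l := 8) rfl N14784 D32709
theorem N16783 : nd 16783 = n32710 := ndS (p := 14785) (l := 6) rfl N14785 D32710
theorem N16784 : nd 16784 = n32711 := ndS (p := 14785) (l := 8) rfl N14785 D32711
theorem N16785 : nd 16785 = n32712 := ndS (p := 14786) (l := 9) rfl N14786 D32712
theorem N16786 : nd 16786 = n32713 := ndS (p := 14787) (l := 8) rfl N14787 D32713
theorem N16787 : nd 16787 = n32714 := ndS (p := 14788) (l := 9) rfl N14788 D32714
theorem N16788 : nd 16788 = n32715 := ndS (p := 14791) (l := 7) rfl N14791 D32715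
theorem N16789 : nd 16789 = n32716 := ndS (p := 14792) (l := 6) rfl N14792 D32716
theorem N16790 : nd 16790 = n32717 := ndS (p := 14793) (l := 8) rfl N14793 D32717
theorem N16791 : nd 16791 = n32718 := ndS (p := 14795) (l := 5) rfl N14795 D32718
theorem N16792 : nd 16792 = n32719 := ndS (p := 14795) (l := 7) rfl N14795 D32719
theorem N16793 : nd 16793 = n32720 := ndS (p := 14796) (l := 4) rfl N14796 D32720
theorem N16794 : nd 16794 = n32721 := ndS (p := 14796) (l := 7) rfl N14796 D32721
theorem N16795 : nd 16795 = n32722 := ndS (p := 14796) (l := 8) rfl N14796 D32722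
theorem N16796 : nd 16796 = n32723 := ndS (p := 14798) (l := 7) rfl N14798 D32723
theorem N16797 : nd 16797 = n32724 := ndS (p := 14798) (l := 8) rfl N14798 D32724
theorem N16798 : nd 16798 = n32725 := ndS (p := 14799) (l := 6) rfl N14799 D32725
theorem N16799 : nd 16799 = n32726 := ndS (p := 14799) (l := 8) rfl N14799 D32726
theorem N16800 : nd 16800 = n32727 := ndS (p := 14800) (l := 9) rfl N14800 D32727
theorem N16801 : nd 16801 = n32728 := ndS (p := 14801) (l := 8) rfl N14801 D32728
theorem N16802 : nd 16802 = n32729 := ndS (p := 14802) (l := 9) rfl N14802 D32729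
theorem N16803 : nd 16803 = n32730 := ndS (p := 14804) (l := 4) rfl N14804 D32730
theorem N16804 : nd 16804 = n32731 := ndS (p := 14804) (l := 7) rfl N14804 D32731
theorem N16805 : nd 16805 = n32732 := ndS (p := 14806) (l := 3) rfl N14806 D32732
theorem N16806 : nd 16806 = n32733 := ndS (p := 14806) (l := 7) rfl N14806 D32733
theorem N16807 : nd 16807 = n32734 := ndS (p := 14806) (l := 8) rfl N14806 D32734
theorem N16808 : nd 16808 = n32735 := ndS (p := 14807) (l := 6) rfl N14807 D32735
theorem N16809 : nd 16809 = n32736 := ndS (p := 14807) (l := 8) rfl N14807 D32736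
theorem N16810 : nd 16810 = n32737 := ndS (p := 14808) (l := 9) rfl N14808 D32737
theorem N16811 : nd 16811 = n32738 := ndS (p := 14809) (l := 6) rfl N14809 D32738
theorem N16812 : nd 16812 = n32739 := ndS (p := 14809) (l := 8) rfl N14809 D32739
theorem N16813 : nd 16813 = n32740 := ndS (p := 14810) (l := 5) rfl N14810 D32740
theorem N16814 : nd 16814 = n32741 := ndS (p := 14810) (l := 9) rfl N14810 D32741
theorem N16815 : nd 16815 = n32742 := ndS (p := 14811) (l := 8) rfl N14811 D32742
theorem N16816 : nd 16816 = n32743 := ndS (p := 14812) (l := 9) rfl N14812 D32743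
theorem N16817 : nd 16817 = n32744 := ndS (p := 14814) (l := 5) rfl N14814 D32744
theorem N16818 : nd 16818 = n32745 := ndS (p := 14814) (l := 9) rfl N14814 D32745
theorem N16819 : nd 16819 = n32746 := ndS (p := 14816) (l := 7) rfl N14816 D32746
theorem N16820 : nd 16820 = n32747 := ndS (p := 14817) (l := 4) rfl N14817 D32747
theorem N16821 : nd 16821 = n32748 := ndS (p := 14817) (l := 7) rfl N14817 D32748
theorem N16822 : nd 16822 = n32749 := ndS (p := 14817) (l := 8) rfl N14817 D32749
theorem N16823 : nd 16823 = n32750 := ndS (p := 14819) (l := 7) rfl N14819 D32750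
theorem N16824 : nd 16824 = n32751 := ndS (p := 14820) (l := 6) rfl N14820 D32751
theorem N16825 : nd 16825 = n32752 := ndS (p := 14820) (l := 8) rfl N14820 D32752
theorem N16826 : nd 16826 = n32753 := ndS (p := 14821) (l := 9) rfl N14821 D32753
theorem N16827 : nd 16827 = n32754 := ndS (p := 14822) (l := 8) rfl N14822 D32754
theorem N16828 : nd 16828 = n32755 := ndS (p := 14823) (l := 9) rfl N14823 D32755
theorem N16829 : nd 16829 = n32756 := ndS (p := 14825) (l := 6) rfl N14825 D32756
theorem N16830 : nd 16830 = n32757 := ndS (p := 14827) (l := 5) rfl N14827 D32757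
theorem N16831 : nd 16831 = n32758 := ndS (p := 14827) (l := 9) rfl N14827 D32758
theorem N16832 : nd 16832 = n32759 := ndS (p := 14829) (l := 4) rfl N14829 D32759
theorem N16833 : nd 16833 = n32760 := ndS (p := 14829) (l := 7) rfl N14829 D32760
theorem N16834 : nd 16834 = n32761 := ndS (p := 14831) (l := 3) rfl N14831 D32761
theorem N16835 : nd 16835 = n32762 := ndS (p := 14831) (l := 7) rfl N14831 D32762
theorem N16836 : nd 16836 = n32763 := ndS (p := 14831) (l := 8) rfl N14831 D32763
theorem N16837 : nd 16837 = n32764 := ndS (p := 14832) (l := 6) rfl N14832 D32764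
theorem N16838 : nd 16838 = n32765 := ndS (p := 14832) (l := 8) rfl N14832 D32765
theorem N16839 : nd 16839 = n32766 := ndS (p := 14833) (l := 9) rfl N14833 D32766
theorem N16840 : nd 16840 = n32767 := ndS (p := 14834) (l := 6) rfl N14834 D32767
theorem N16841 : nd 16841 = n32768 := ndS (p := 14834) (l := 8) rfl N14834 D32768
theorem N16842 : nd 16842 = n32769 := ndS (p := 14835) (l := 5) rfl N14835 D32769
theorem N16843 : nd 16843 = n32770 := ndS (p := 14835) (l := 9) rfl N14835 D32770
theorem N16844 : nd 16844 = n32771 := ndS (p := 14836) (l := 8) rfl N14836 D32771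
theorem N16845 : nd 16845 = n32772 := ndS (p := 14837) (l := 9) rfl N14837 D32772
theorem N16846 : nd 16846 = n32773 := ndS (p := 14839) (l := 5) rfl N14839 D32773
theorem N16847 : nd 16847 = n32774 := ndS (p := 14839) (l := 9) rfl N14839 D32774
theorem N16848 : nd 16848 = n32775 := ndS (p := 14841) (l := 3) rfl N14841 D32775
theorem N16849 : nd 16849 = n32776 := ndS (p := 14841) (l := 7) rfl N14841 D32776
theorem N16850 : nd 16850 = n32777 := ndS (p := 14842) (l := 6) rfl N14842 D32777
theorem N16851 : nd 16851 = n32778 := ndS (p := 14843) (l := 7) rfl N14843 D32778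
theorem N16852 : nd 16852 = n32779 := ndS (p := 14843) (l := 8) rfl N14843 D32779
theorem N16853 : nd 16853 = n32780 := ndS (p := 14844) (l := 6) rfl N14844 D32780
theorem N16854 : nd 16854 = n32781 := ndS (p := 14844) (l := 8) rfl N14844 D32781
theorem N16855 : nd 16855 = n32782 := ndS (p := 14845) (l := 5) rfl N14845 D32782
theorem N16856 : nd 16856 = n32783 := ndS (p := 14845) (l := 9) rfl N14845 D32783
theorem N16857 : nd 16857 = n32784 := ndS (p := 14846) (l := 8) rfl N14846 D32784
theorem N16858 : nd 16858 = n32785 := ndS (p := 14847) (l := 9) rfl N14847 D32785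
theorem N16859 : nd 16859 = n32786 := ndS (p := 14849) (l := 5) rfl N14849 D32786
theorem N16860 : nd 16860 = n32787 := ndS (p := 14849) (l := 8) rfl N14849 D32787
theorem N16861 : nd 16861 = n32788 := ndS (p := 14850) (l := 5) rfl N14850 D32788
theorem N16862 : nd 16862 = n32789 := ndS (p := 14850) (l := 9) rfl N14850 D32789
theorem N16863 : nd 16863 = n32790 := ndS (p := 14851) (l := 6) rfl N14851 D32790
theorem N16864 : nd 16864 = n32791 := ndS (p := 14853) (l := 9) rfl N14853 D32791
theorem N16865 : nd 16865 = n32792 := ndS (p := 14855) (l := 4) rfl N14855 D32792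
theorem N16866 : nd 16866 = n32793 := ndS (p := 14855) (l := 9) rfl N14855 D32793
theorem N16867 : nd 16867 = n32794 := ndS (p := 14857) (l := 4) rfl N14857 D32794
theorem N16868 : nd 16868 = n32795 := ndS (p := 14857) (l := 9) rfl N14857 D32795
theorem N16869 : nd 16869 = n32796 := ndS (p := 14859) (l := 5) rfl N14859 D32796
theorem N16870 : nd 16870 = n32797 := ndS (p := 14860) (l := 6) rfl N14860 D32797
theorem N16871 : nd 16871 = n32798 := ndS (p := 14862) (l := 6) rfl N14862 D32798
theorem N16872 : nd 16872 = n32799 := ndS (p := 14863) (l := 7) rfl N14863 D32799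
theorem N16873 : nd 16873 = n32800 := ndS (p := 14864) (l := 3) rfl N14864 D32800
theorem N16874 : nd 16874 = n32801 := ndS (p := 14866) (l := 7) rfl N14866 D32801
theorem N16875 : nd 16875 = n32802 := ndS (p := 14870) (l := 6) rfl N14870 D32802
theorem N16876 : nd 16876 = n32803 := ndS (p := 14871) (l := 8) rfl N14871 D32803
theorem N16877 : nd 16877 = n32804 := ndS (p := 14875) (l := 7) rfl N14875 D32804
theorem N16878 : nd 16878 = n32805 := ndS (p := 14877) (l := 3) rfl N14877 D32805
theorem N16879 : nd 16879 = n32806 := ndS (p := 14877) (l := 7) rfl N14877 D32806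
theorem N16880 : nd 16880 = n32807 := ndS (p := 14878) (l := 6) rfl N14878 D32807
theorem N16881 : nd 16881 = n32808 := ndS (p := 14878) (l := 8) rfl N14878 D32808
theorem N16882 : nd 16882 = n32809 := ndS (p := 14879) (l := 9) rfl N14879 D32809
theorem N16883 : nd 16883 = n32810 := ndS (p := 14880) (l := 6) rfl N14880 D32810
theorem N16884 : nd 16884 = n32811 := ndS (p := 14880) (l := 8) rfl N14880 D32811
theorem N16885 : nd 16885 = n32812 := ndS (p := 14882) (l := 8) rfl N14882 D32812
theorem N16886 : nd 16886 = n32813 := ndS (p := 14883) (l := 9) rfl N14883 D32813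
theorem N16887 : nd 16887 = n32814 := ndS (p := 14885) (l := 5) rfl N14885 D32814
theorem N16888 : nd 16888 = n32815 := ndS (p := 14885) (l := 9) rfl N14885 D32815
theorem N16889 : nd 16889 = n32816 := ndS (p := 14887) (l := 3) rfl N14887 D32816
theorem N16890 : nd 16890 = n32817 := ndS (p := 14887) (l := 7) rfl N14887 D32817
theorem N16891 : nd 16891 = n32818 := ndS (p := 14889) (l := 7) rfl N14889 D32818
theorem N16892 : nd 16892 = n32819 := ndS (p := 14889) (l := 8) rfl N14889 D32819
theorem N16893 : nd 16893 = n32820 := ndS (p := 14890) (l := 6) rfl N14890 D32820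
theorem N16894 : nd 16894 = n32821 := ndS (p := 14890) (l := 8) rfl N14890 D32821
theorem N16895 : nd 16895 = n32822 := ndS (p := 14891) (l := 9) rfl N14891 D32822
theorem N16896 : nd 16896 = n32823 := ndS (p := 14892) (l := 8) rfl N14892 D32823
theorem N16897 : nd 16897 = n32824 := ndS (p := 14893) (l := 9) rfl N14893 D32824
theorem N16898 : nd 16898 = n32825 := ndS (p := 14895) (l := 5) rfl N14895 D32825
theorem N16899 : nd 16899 = n32826 := ndS (p := 14895) (l := 8) rfl N14895 D32826
theorem N16900 : nd 16900 = n32827 := ndS (p := 14896) (l := 9) rfl N14896 D32827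
theorem N16901 : nd 16901 = n32828 := ndS (p := 14899) (l := 9) rfl N14899 D32828
theorem N16902 : nd 16902 = n32829 := ndS (p := 14901) (l := 4) rfl N14901 D32829
theorem N16903 : nd 16903 = n32830 := ndS (p := 14901) (l := 9) rfl N14901 D32830
theorem N16904 : nd 16904 = n32831 := ndS (p := 14904) (l := 7) rfl N14904 D32831
theorem N16905 : nd 16905 = n32832 := ndS (p := 14905) (l := 6) rfl N14905 D32832
theorem N16906 : nd 16906 = n32833 := ndS (p := 14905) (l := 8) rfl N14905 D32833
theorem N16907 : nd 16907 = n32834 := ndS (p := 14907) (l := 6) rfl N14907 D32834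
theorem N16908 : nd 16908 = n32835 := ndS (p := 14908) (l := 8) rfl N14908 D32835
theorem N16909 : nd 16909 = n32836 := ndS (p := 14910) (l := 5) rfl N14910 D32836
theorem N16910 : nd 16910 = n32837 := ndS (p := 14910) (l := 9) rfl N14910 D32837
theorem N16911 : nd 16911 = n32838 := ndS (p := 14912) (l := 5) rfl N14912 D32838
theorem N16912 : nd 16912 = n32839 := ndS (p := 14913) (l := 4) rfl N14913 D32839
theorem N16913 : nd 16913 = n32840 := ndS (p := 14915) (l := 7) rfl N14915 D32840
theorem N16914 : nd 16914 = n32841 := ndS (p := 14916) (l := 6) rfl N14916 D32841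
theorem N16915 : nd 16915 = n32842 := ndS (p := 14917) (l := 8) rfl N14917 D32842
theorem N16916 : nd 16916 = n32843 := ndS (p := 14918) (l := 9) rfl N14918 D32843
theorem N16917 : nd 16917 = n32844 := ndS (p := 14920) (l := 5) rfl N14920 D32844
theorem N16918 : nd 16918 = n32845 := ndS (p := 14920) (l := 8) rfl N14920 D32845
theorem N16919 : nd 16919 = n32846 := ndS (p := 14921) (l := 9) rfl N14921 D32846
theorem N16920 : nd 16920 = n32847 := ndS (p := 14923) (l := 5) rfl N14923 D32847
theorem N16921 : nd 16921 = n32848 := ndS (p := 14923) (l := 9) rfl N14923 D32848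
theorem N16922 : nd 16922 = n32849 := ndS (p := 14925) (l := 4) rfl N14925 D32849
theorem N16923 : nd 16923 = n32850 := ndS (p := 14925) (l := 9) rfl N14925 D32850
theorem N16924 : nd 16924 = n32851 := ndS (p := 14927) (l := 8) rfl N14927 D32851
theorem N16925 : nd 16925 = n32852 := ndS (p := 14929) (l := 6) rfl N14929 D32852
theorem N16926 : nd 16926 = n32853 := ndS (p := 14929) (l := 8) rfl N14929 D32853
theorem N16927 : nd 16927 = n32854 := ndS (p := 14930) (l := 9) rfl N14930 D32854
theorem N16928 : nd 16928 = n32855 := ndS (p := 14931) (l := 5) rfl N14931 D32855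
theorem N16929 : nd 16929 = n32856 := ndS (p := 14931) (l := 8) rfl N14931 D32856
theorem N16930 : nd 16930 = n32857 := ndS (p := 14932) (l := 9) rfl N14932 D32857
theorem N16931 : nd 16931 = n32858 := ndS (p := 14934) (l := 9) rfl N14934 D32858
theorem N16932 : nd 16932 = n32859 := ndS (p := 14936) (l := 8) rfl N14936 D32859
theorem N16933 : nd 16933 = n32860 := ndS (p := 14937) (l := 5) rfl N14937 D32860
theorem N16934 : nd 16934 = n32861 := ndS (p := 14937) (l := 9) rfl N14937 D32861
theorem N16935 : nd 16935 = n32862 := ndS (p := 14939) (l := 9) rfl N14939 D32862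
theorem N16936 : nd 16936 = n32863 := ndS (p := 14945) (l := 4) rfl N14945 D32863
theorem N16937 : nd 16937 = n32864 := ndS (p := 14945) (l := 8) rfl N14945 D32864
theorem N16938 : nd 16938 = n32865 := ndS (p := 14946) (l := 7) rfl N14946 D32865
theorem N16939 : nd 16939 = n32866 := ndS (p := 14947) (l := 8) rfl N14947 D32866
theorem N16940 : nd 16940 = n32867 := ndS (p := 14949) (l := 6) rfl N14949 D32867
theorem N16941 : nd 16941 = n32868 := ndS (p := 14950) (l := 8) rfl N14950 D32868
theorem N16942 : nd 16942 = n32869 := ndS (p := 14952) (l := 5) rfl N14952 D32869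
theorem N16943 : nd 16943 = n32870 := ndS (p := 14953) (l := 5) rfl N14953 D32870
theorem N16944 : nd 16944 = n32871 := ndS (p := 14955) (l := 8) rfl N14955 D32871
theorem N16945 : nd 16945 = n32872 := ndS (p := 14956) (l := 6) rfl N14956 D32872
theorem N16946 : nd 16946 = n32873 := ndS (p := 14957) (l := 5) rfl N14957 D32873
theorem N16947 : nd 16947 = n32874 := ndS (p := 14958) (l := 8) rfl N14958 D32874
theorem N16948 : nd 16948 = n32875 := ndS (p := 14960) (l := 5) rfl N14960 D32875
theorem N16949 : nd 16949 = n32876 := ndS (p := 14961) (l := 8) rfl N14961 D32876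
theorem N16950 : nd 16950 = n32877 := ndS (p := 14962) (l := 9) rfl N14962 D32877
theorem N16951 : nd 16951 = n32878 := ndS (p := 14964) (l := 6) rfl N14964 D32878
theorem N16952 : nd 16952 = n32879 := ndS (p := 14964) (l := 8) rfl N14964 D32879
theorem N16953 : nd 16953 = n32880 := ndS (p := 14965) (l := 5) rfl N14965 D32880
theorem N16954 : nd 16954 = n32881 := ndS (p := 14966) (l := 8) rfl N14966 D32881
theorem N16955 : nd 16955 = n32882 := ndS (p := 14968) (l := 5) rfl N14968 D32882
theorem N16956 : nd 16956 = n32883 := ndS (p := 14970) (l := 6) rfl N14970 D32883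
theorem N16957 : nd 16957 = n32884 := ndS (p := 14971) (l := 8) rfl N14971 D32884
theorem N16958 : nd 16958 = n32885 := ndS (p := 14972) (l := 9) rfl N14972 D32885
theorem N16959 : nd 16959 = n32886 := ndS (p := 14974) (l := 5) rfl N14974 D32886
theorem N16960 : nd 16960 = n32887 := ndS (p := 14974) (l := 8) rfl N14974 D32887
theorem N16961 : nd 16961 = n32888 := ndS (p := 14975) (l := 5) rfl N14975 D32888
theorem N16962 : nd 16962 = n32889 := ndS (p := 14975) (l := 9) rfl N14975 D32889
theorem N16963 : nd 16963 = n32890 := ndS (p := 14976) (l := 6) rfl N14976 D32890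
theorem N16964 : nd 16964 = n32891 := ndS (p := 14976) (l := 9) rfl N14976 D32891
theorem N16965 : nd 16965 = n32892 := ndS (p := 14978) (l := 5) rfl N14978 D32892
theorem N16966 : nd 16966 = n32893 := ndS (p := 14978) (l := 9) rfl N14978 D32893
theorem N16967 : nd 16967 = n32894 := ndS (p := 14980) (l := 4) rfl N14980 D32894
theorem N16968 : nd 16968 = n32895 := ndS (p := 14980) (l := 9) rfl N14980 D32895
theorem N16969 : nd 16969 = n32896 := ndS (p := 14983) (l := 9) rfl N14983 D32896
theorem N16970 : nd 16970 = n32897 := ndS (p := 14986) (l := 9) rfl N14986 D32897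
theorem N16971 : nd 16971 = n32898 := ndS (p := 14991) (l := 5) rfl N14991 D32898
theorem N16972 : nd 16972 = n32899 := ndS (p := 14991) (l := 9) rfl N14991 D32899
theorem N16973 : nd 16973 = n32900 := ndS (p := 14993) (l := 9) rfl N14993 D32900
theorem N16974 : nd 16974 = n32901 := ndS (p := 14995) (l := 4) rfl N14995 D32901
theorem N16975 : nd 16975 = n32902 := ndS (p := 14995) (l := 9) rfl N14995 D32902
theorem N16976 : nd 16976 = n32903 := ndS (p := 15000) (l := 9) rfl N15000 D32903
theorem N16977 : nd 16977 = n32904 := ndS (p := 15004) (l := 6) rfl N15004 D32904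
theorem N16978 : nd 16978 = n32905 := ndS (p := 15004) (l := 8) rfl N15004 D32905
theorem N16979 : nd 16979 = n32906 := ndS (p := 15005) (l := 9) rfl N15005 D32906
theorem N16980 : nd 16980 = n32907 := ndS (p := 15006) (l := 6) rfl N15006 D32907
theorem N16981 : nd 16981 = n32908 := ndS (p := 15006) (l := 8) rfl N15006 D32908
theorem N16982 : nd 16982 = n32909 := ndS (p := 15007) (l := 5) rfl N15007 D32909
theorem N16983 : nd 16983 = n32910 := ndS (p := 15007) (l := 9) rfl N15007 D32910
theorem N16984 : nd 16984 = n32911 := ndS (p := 15008) (l := 8) rfl N15008 D32911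
theorem N16985 : nd 16985 = n32912 := ndS (p := 15009) (l := 9) rfl N15009 D32912
theorem N16986 : nd 16986 = n32913 := ndS (p := 15011) (l := 5) rfl N15011 D32913
theorem N16987 : nd 16987 = n32914 := ndS (p := 15011) (l := 9) rfl N15011 D32914
theorem N16988 : nd 16988 = n32915 := ndS (p := 15014) (l := 5) rfl N15014 D32915
theorem N16989 : nd 16989 = n32916 := ndS (p := 15014) (l := 9) rfl N15014 D32916
theorem N16990 : nd 16990 = n32917 := ndS (p := 15015) (l := 6) rfl N15015 D32917
theorem N16991 : nd 16991 = n32918 := ndS (p := 15015) (l := 9) rfl N15015 D32918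
theorem N16992 : nd 16992 = n32919 := ndS (p := 15018) (l := 7) rfl N15018 D32919
theorem N16993 : nd 16993 = n32920 := ndS (p := 15019) (l := 7) rfl N15019 D32920
theorem N16994 : nd 16994 = n32921 := ndS (p := 15023) (l := 6) rfl N15023 D32921
theorem N16995 : nd 16995 = n32922 := ndS (p := 15024) (l := 5) rfl N15024 D32922
theorem N16996 : nd 16996 = n32923 := ndS (p := 15024) (l := 7) rfl N15024 D32923
theorem N16997 : nd 16997 = n32924 := ndS (p := 15025) (l := 7) rfl N15025 D32924
theorem N16998 : nd 16998 = n32925 := ndS (p := 15027) (l := 6) rfl N15027 D32925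
theorem N16999 : nd 16999 = n32926 := ndS (p := 15029) (l := 6) rfl N15029 D32926
theorem N17000 : nd 17000 = n32927 := ndS (p := 15030) (l := 5) rfl N15030 D32927
theorem N17001 : nd 17001 = n32928 := ndS (p := 15030) (l := 7) rfl N15030 D32928
theorem N17002 : nd 17002 = n32929 := ndS (p := 15031) (l := 7) rfl N15031 D32929
theorem N17003 : nd 17003 = n32930 := ndS (p := 15033) (l := 7) rfl N15033 D32930
theorem N17004 : nd 17004 = n32931 := ndS (p := 15034) (l := 6) rfl N15034 D32931
theorem N17005 : nd 17005 = n32932 := ndS (p := 15034) (l := 8) rfl N15034 D32932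
theorem N17006 : nd 17006 = n32933 := ndS (p := 15036) (l := 8) rfl N15036 D32933
theorem N17007 : nd 17007 = n32934 := ndS (p := 15037) (l := 9) rfl N15037 D32934
theorem N17008 : nd 17008 = n32935 := ndS (p := 15039) (l := 5) rfl N15039 D32935
theorem N17009 : nd 17009 = n32936 := ndS (p := 15039) (l := 7) rfl N15039 D32936
theorem N17010 : nd 17010 = n32937 := ndS (p := 15040) (l := 7) rfl N15040 D32937
theorem N17011 : nd 17011 = n32938 := ndS (p := 15042) (l := 6) rfl N15042 D32938
theorem N17012 : nd 17012 = n32939 := ndS (p := 15044) (l := 5) rfl N15044 D32939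
theorem N17013 : nd 17013 = n32940 := ndS (p := 15044) (l := 7) rfl N15044 D32940
theorem N17014 : nd 17014 = n32941 := ndS (p := 15045) (l := 7) rfl N15045 D32941
theorem N17015 : nd 17015 = n32942 := ndS (p := 15047) (l := 6) rfl N15047 D32942
theorem N17016 : nd 17016 = n32943 := ndS (p := 15049) (l := 7) rfl N15049 D32943
theorem N17017 : nd 17017 = n32944 := ndS (p := 15051) (l := 6) rfl N15051 D32944
theorem N17018 : nd 17018 = n32945 := ndS (p := 15052) (l := 6) rfl N15052 D32945
theorem N17019 : nd 17019 = n32946 := ndS (p := 15053) (l := 8) rfl N15053 D32946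
theorem N17020 : nd 17020 = n32947 := ndS (p := 15055) (l := 9) rfl N15055 D32947
theorem N17021 : nd 17021 = n32948 := ndS (p := 15057) (l := 7) rfl N15057 D32948
theorem N17022 : nd 17022 = n32949 := ndS (p := 15059) (l := 6) rfl N15059 D32949
theorem N17023 : nd 17023 = n32950 := ndS (p := 15061) (l := 7) rfl N15061 D32950
theorem N17024 : nd 17024 = n32951 := ndS (p := 15063) (l := 6) rfl N15063 D32951
theorem N17025 : nd 17025 = n32952 := ndS (p := 15064) (l := 6) rfl N15064 D32952
theorem N17026 : nd 17026 = n32953 := ndS (p := 15065) (l := 8) rfl N15065 D32953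
theorem N17027 : nd 17027 = n32954 := ndS (p := 15067) (l := 5) rfl N15067 D32954
theorem N17028 : nd 17028 = n32955 := ndS (p := 15067) (l := 9) rfl N15067 D32955
theorem N17029 : nd 17029 = n32956 := ndS (p := 15069) (l := 7) rfl N15069 D32956
theorem N17030 : nd 17030 = n32957 := ndS (p := 15071) (l := 6) rfl N15071 D32957
theorem N17031 : nd 17031 = n32958 := ndS (p := 15072) (l := 6) rfl N15072 D32958
theorem N17032 : nd 17032 = n32959 := ndS (p := 15073) (l := 8) rfl N15073 D32959
theorem N17033 : nd 17033 = n32960 := ndS (p := 15075) (l := 5) rfl N15075 D32960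
theorem N17034 : nd 17034 = n32961 := ndS (p := 15075) (l := 9) rfl N15075 D32961
theorem N17035 : nd 17035 = n32962 := ndS (p := 15077) (l := 7) rfl N15077 D32962
theorem N17036 : nd 17036 = n32963 := ndS (p := 15079) (l := 6) rfl N15079 D32963
theorem N17037 : nd 17037 = n32964 := ndS (p := 15080) (l := 6) rfl N15080 D32964
theorem N17038 : nd 17038 = n32965 := ndS (p := 15081) (l := 8) rfl N15081 D32965
theorem N17039 : nd 17039 = n32966 := ndS (p := 15083) (l := 5) rfl N15083 D32966
theorem N17040 : nd 17040 = n32967 := ndS (p := 15083) (l := 9) rfl N15083 D32967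
theorem N17041 : nd 17041 = n32968 := ndS (p := 15085) (l := 7) rfl N15085 D32968
theorem N17042 : nd 17042 = n32969 := ndS (p := 15087) (l := 6) rfl N15087 D32969
theorem N17043 : nd 17043 = n32970 := ndS (p := 15088) (l := 6) rfl N15088 D32970
theorem N17044 : nd 17044 = n32971 := ndS (p := 15089) (l := 8) rfl N15089 D32971
theorem N17045 : nd 17045 = n32972 := ndS (p := 15091) (l := 5) rfl N15091 D32972
theorem N17046 : nd 17046 = n32973 := ndS (p := 15092) (l := 5) rfl N15092 D32973
theorem N17047 : nd 17047 = n32974 := ndS (p := 15092) (l := 9) rfl N15092 D32974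
theorem N17048 : nd 17048 = n32975 := ndS (p := 15094) (l := 9) rfl N15094 D32975
theorem N17049 : nd 17049 = n32976 := ndS (p := 15098) (l := 5) rfl N15098 D32976
theorem N17050 : nd 17050 = n32977 := ndS (p := 15099) (l := 5) rfl N15099 D32977
theorem N17051 : nd 17051 = n32978 := ndS (p := 15100) (l := 9) rfl N15100 D32978
theorem N17052 : nd 17052 = n32979 := ndS (p := 15109) (l := 5) rfl N15109 D32979
theorem N17053 : nd 17053 = n32980 := ndS (p := 15112) (l := 4) rfl N15112 D32980
theorem N17054 : nd 17054 = n32981 := ndS (p := 15112) (l := 9) rfl N15112 D32981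
theorem N17055 : nd 17055 = n32982 := ndS (p := 15114) (l := 8) rfl N15114 D32982
theorem N17056 : nd 17056 = n32983 := ndS (p := 15116) (l := 7) rfl N15116 D32983
theorem N17057 : nd 17057 = n32984 := ndS (p := 15118) (l := 6) rfl N15118 D32984
theorem N17058 : nd 17058 = n32985 := ndS (p := 15119) (l := 6) rfl N15119 D32985
theorem N17059 : nd 17059 = n32986 := ndS (p := 15120) (l := 8) rfl N15120 D32986
theorem N17060 : nd 17060 = n32987 := ndS (p := 15122) (l := 5) rfl N15122 D32987
theorem N17061 : nd 17061 = n32988 := ndS (p := 15122) (l := 8) rfl N15122 D32988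
theorem N17062 : nd 17062 = n32989 := ndS (p := 15124) (l := 5) rfl N15124 D32989
theorem N17063 : nd 17063 = n32990 := ndS (p := 15124) (l := 9) rfl N15124 D32990
theorem N17064 : nd 17064 = n32991 := ndS (p := 15126) (l := 4) rfl N15126 D32991
theorem N17065 : nd 17065 = n32992 := ndS (p := 15126) (l := 9) rfl N15126 D32992
theorem N17066 : nd 17066 = n32993 := ndS (p := 15128) (l := 6) rfl N15128 D32993
theorem N17067 : nd 17067 = n32994 := ndS (p := 15129) (l := 6) rfl N15129 D32994
theorem N17068 : nd 17068 = n32995 := ndS (p := 15130) (l := 8) rfl N15130 D32995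
theorem N17069 : nd 17069 = n32996 := ndS (p := 15132) (l := 5) rfl N15132 D32996
theorem N17070 : nd 17070 = n32997 := ndS (p := 15132) (l := 9) rfl N15132 D32997
theorem N17071 : nd 17071 = n32998 := ndS (p := 15136) (l := 5) rfl N15136 D32998
theorem N17072 : nd 17072 = n32999 := ndS (p := 15137) (l := 5) rfl N15137 D32999
theorem N17073 : nd 17073 = n33000 := ndS (p := 15138) (l := 4) rfl N15138 D33000
theorem N17074 : nd 17074 = n33001 := ndS (p := 15138) (l := 9) rfl N15138 D33001
theorem N17075 : nd 17075 = n33002 := ndS (p := 15140) (l := 7) rfl N15140 D33002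
theorem N17076 : nd 17076 = n33003 := ndS (p := 15142) (l := 6) rfl N15142 D33003
theorem N17077 : nd 17077 = n33004 := ndS (p := 15144) (l := 5) rfl N15144 D33004
theorem N17078 : nd 17078 = n33005 := ndS (p := 15145) (l := 5) rfl N15145 D33005
theorem N17079 : nd 17079 = n33006 := ndS (p := 15146) (l := 4) rfl N15146 D33006
theorem N17080 : nd 17080 = n33007 := ndS (p := 15146) (l := 9) rfl N15146 D33007
theorem N17081 : nd 17081 = n33008 := ndS (p := 15148) (l := 7) rfl N15148 D33008
theorem N17082 : nd 17082 = n33009 := ndS (p := 15149) (l := 6) rfl N15149 D33009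
theorem N17083 : nd 17083 = n33010 := ndS (p := 15149) (l := 8) rfl N15149 D33010
theorem N17084 : nd 17084 = n33011 := ndS (p := 15151) (l := 6) rfl N15151 D33011
theorem N17085 : nd 17085 = n33012 := ndS (p := 15152) (l := 8) rfl N15152 D33012
theorem N17086 : nd 17086 = n33013 := ndS (p := 15154) (l := 5) rfl N15154 D33013
theorem N17087 : nd 17087 = n33014 := ndS (p := 15155) (l := 5) rfl N15155 D33014
theorem N17088 : nd 17088 = n33015 := ndS (p := 15156) (l := 8) rfl N15156 D33015
theorem N17089 : nd 17089 = n33016 := ndS (p := 15157) (l := 5) rfl N15157 D33016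
theorem N17090 : nd 17090 = n33017 := ndS (p := 15158) (l := 4) rfl N15158 D33017
theorem N17091 : nd 17091 = n33018 := ndS (p := 15158) (l := 9) rfl N15158 D33018
theorem N17092 : nd 17092 = n33019 := ndS (p := 15163) (l := 3) rfl N15163 D33019
theorem N17093 : nd 17093 = n33020 := ndS (p := 15163) (l := 9) rfl N15163 D33020
theorem N17094 : nd 17094 = n33021 := ndS (p := 15170) (l := 9) rfl N15170 D33021
theorem N17095 : nd 17095 = n33022 := ndS (p := 15177) (l := 5) rfl N15177 D33022
theorem N17096 : nd 17096 = n33023 := ndS (p := 15181) (l := 6) rfl N15181 D33023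
theorem N17097 : nd 17097 = n33024 := ndS (p := 15185) (l := 6) rfl N15185 D33024
theorem N17098 : nd 17098 = n33025 := ndS (p := 15188) (l := 8) rfl N15188 D33025
theorem N17099 : nd 17099 = n33026 := ndS (p := 15191) (l := 5) rfl N15191 D33026
theorem N17100 : nd 17100 = n33027 := ndS (p := 15194) (l := 5) rfl N15194 D33027
theorem N17101 : nd 17101 = n33028 := ndS (p := 15196) (l := 5) rfl N15196 D33028
theorem N17102 : nd 17102 = n33029 := ndS (p := 15198) (l := 5) rfl N15198 D33029
theorem N17103 : nd 17103 = n33030 := ndS (p := 15200) (l := 5) rfl N15200 D33030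
theorem N17104 : nd 17104 = n33031 := ndS (p := 15201) (l := 5) rfl N15201 D33031
theorem N17105 : nd 17105 = n33032 := ndS (p := 15202) (l := 4) rfl N15202 D33032
theorem N17106 : nd 17106 = n33033 := ndS (p := 15202) (l := 9) rfl N15202 D33033
theorem N17107 : nd 17107 = n33034 := ndS (p := 15206) (l := 5) rfl N15206 D33034
theorem N17108 : nd 17108 = n33035 := ndS (p := 15207) (l := 5) rfl N15207 D33035
theorem N17109 : nd 17109 = n33036 := ndS (p := 15208) (l := 4) rfl N15208 D33036
theorem N17110 : nd 17110 = n33037 := ndS (p := 15208) (l := 9) rfl N15208 D33037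
theorem N17111 : nd 17111 = n33038 := ndS (p := 15212) (l := 5) rfl N15212 D33038
theorem N17112 : nd 17112 = n33039 := ndS (p := 15216) (l := 9) rfl N15216 D33039
theorem N17113 : nd 17113 = n33040 := ndS (p := 15218) (l := 3) rfl N15218 D33040
theorem N17114 : nd 17114 = n33041 := ndS (p := 15221) (l := 9) rfl N15221 D33041
theorem N17115 : nd 17115 = n33042 := ndS (p := 15224) (l := 5) rfl N15224 D33042
theorem N17116 : nd 17116 = n33043 := ndS (p := 15225) (l := 4) rfl N15225 D33043
theorem N17117 : nd 17117 = n33044 := ndS (p := 15238) (l := 8) rfl N15238 D33044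
theorem N17118 : nd 17118 = n33045 := ndS (p := 15240) (l := 5) rfl N15240 D33045
theorem N17119 : nd 17119 = n33046 := ndS (p := 15240) (l := 9) rfl N15240 D33046
theorem N17120 : nd 17120 = n33047 := ndS (p := 15245) (l := 9) rfl N15245 D33047
theorem N17121 : nd 17121 = n33048 := ndS (p := 15252) (l := 4) rfl N15252 D33048
theorem N17122 : nd 17122 = n33049 := ndS (p := 15252) (l := 7) rfl N15252 D33049
theorem N17123 : nd 17123 = n33050 := ndS (p := 15254) (l := 7) rfl N15254 D33050
theorem N17124 : nd 17124 = n33051 := ndS (p := 15254) (l := 8) rfl N15254 D33051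
theorem N17125 : nd 17125 = n33052 := ndS (p := 15255) (l := 6) rfl N15255 D33052
theorem N17126 : nd 17126 = n33053 := ndS (p := 15255) (l := 8) rfl N15255 D33053
theorem N17127 : nd 17127 = n33054 := ndS (p := 15256) (l := 9) rfl N15256 D33054
theorem N17128 : nd 17128 = n33055 := ndS (p := 15257) (l := 8) rfl N15257 D33055
theorem N17129 : nd 17129 = n33056 := ndS (p := 15258) (l := 9) rfl N15258 D33056
theorem N17130 : nd 17130 = n33057 := ndS (p := 15260) (l := 8) rfl N15260 D33057
theorem N17131 : nd 17131 = n33058 := ndS (p := 15261) (l := 5) rfl N15261 D33058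
theorem N17132 : nd 17132 = n33059 := ndS (p := 15261) (l := 9) rfl N15261 D33059
theorem N17133 : nd 17133 = n33060 := ndS (p := 15262) (l := 9) rfl N15262 D33060
theorem N17134 : nd 17134 = n33061 := ndS (p := 15265) (l := 5) rfl N15265 D33061
theorem N17135 : nd 17135 = n33062 := ndS (p := 15265) (l := 9) rfl N15265 D33062
theorem N17136 : nd 17136 = n33063 := ndS (p := 15266) (l := 6) rfl N15266 D33063
theorem N17137 : nd 17137 = n33064 := ndS (p := 15266) (l := 9) rfl N15266 D33064
theorem N17138 : nd 17138 = n33065 := ndS (p := 15269) (l := 4) rfl N15269 D33065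
theorem N17139 : nd 17139 = n33066 := ndS (p := 15270) (l := 3) rfl N15270 D33066
theorem N17140 : nd 17140 = n33067 := ndS (p := 15270) (l := 7) rfl N15270 D33067
theorem N17141 : nd 17141 = n33068 := ndS (p := 15271) (l := 6) rfl N15271 D33068
theorem N17142 : nd 17142 = n33069 := ndS (p := 15272) (l := 6) rfl N15272 D33069
theorem N17143 : nd 17143 = n33070 := ndS (p := 15274) (l := 9) rfl N15274 D33070
theorem N17144 : nd 17144 = n33071 := ndS (p := 15277) (l := 4) rfl N15277 D33071
theorem N17145 : nd 17145 = n33072 := ndS (p := 15278) (l := 3) rfl N15278 D33072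
theorem N17146 : nd 17146 = n33073 := ndS (p := 15279) (l := 7) rfl N15279 D33073
theorem N17147 : nd 17147 = n33074 := ndS (p := 15280) (l := 6) rfl N15280 D33074
theorem N17148 : nd 17148 = n33075 := ndS (p := 15282) (l := 5) rfl N15282 D33075
theorem N17149 : nd 17149 = n33076 := ndS (p := 15283) (l := 6) rfl N15283 D33076
theorem N17150 : nd 17150 = n33077 := ndS (p := 15284) (l := 5) rfl N15284 D33077
theorem N17151 : nd 17151 = n33078 := ndS (p := 15284) (l := 7) rfl N15284 D33078
theorem N17152 : nd 17152 = n33079 := ndS (p := 15285) (l := 4) rfl N15285 D33079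
theorem N17153 : nd 17153 = n33080 := ndS (p := 15285) (l := 7) rfl N15285 D33080
theorem N17154 : nd 17154 = n33081 := ndS (p := 15285) (l := 8) rfl N15285 D33081
theorem N17155 : nd 17155 = n33082 := ndS (p := 15287) (l := 6) rfl N15287 D33082
theorem N17156 : nd 17156 = n33083 := ndS (p := 15287) (l := 8) rfl N15287 D33083
theorem N17157 : nd 17157 = n33084 := ndS (p := 15288) (l := 9) rfl N15288 D33084
theorem N17158 : nd 17158 = n33085 := ndS (p := 15289) (l := 7) rfl N15289 D33085
theorem N17159 : nd 17159 = n33086 := ndS (p := 15290) (l := 7) rfl N15290 D33086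
theorem N17160 : nd 17160 = n33087 := ndS (p := 15290) (l := 8) rfl N15290 D33087
theorem N17161 : nd 17161 = n33088 := ndS (p := 15292) (l := 6) rfl N15292 D33088
theorem N17162 : nd 17162 = n33089 := ndS (p := 15292) (l := 8) rfl N15292 D33089
theorem N17163 : nd 17163 = n33090 := ndS (p := 15293) (l := 9) rfl N15293 D33090
theorem N17164 : nd 17164 = n33091 := ndS (p := 15294) (l := 8) rfl N15294 D33091
theorem N17165 : nd 17165 = n33092 := ndS (p := 15295) (l := 9) rfl N15295 D33092
theorem N17166 : nd 17166 = n33093 := ndS (p := 15298) (l := 9) rfl N15298 D33093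
theorem N17167 : nd 17167 = n33094 := ndS (p := 15300) (l := 4) rfl N15300 D33094
theorem N17168 : nd 17168 = n33095 := ndS (p := 15300) (l := 7) rfl N15300 D33095
theorem N17169 : nd 17169 = n33096 := ndS (p := 15300) (l := 8) rfl N15300 D33096
theorem N17170 : nd 17170 = n33097 := ndS (p := 15302) (l := 7) rfl N15302 D33097
theorem N17171 : nd 17171 = n33098 := ndS (p := 15302) (l := 8) rfl N15302 D33098
theorem N17172 : nd 17172 = n33099 := ndS (p := 15303) (l := 6) rfl N15303 D33099
theorem N17173 : nd 17173 = n33100 := ndS (p := 15303) (l := 8) rfl N15303 D33100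
theorem N17174 : nd 17174 = n33101 := ndS (p := 15304) (l := 9) rfl N15304 D33101
theorem N17175 : nd 17175 = n33102 := ndS (p := 15305) (l := 8) rfl N15305 D33102
theorem N17176 : nd 17176 = n33103 := ndS (p := 15306) (l := 9) rfl N15306 D33103
theorem N17177 : nd 17177 = n33104 := ndS (p := 15308) (l := 7) rfl N15308 D33104
theorem N17178 : nd 17178 = n33105 := ndS (p := 15309) (l := 6) rfl N15309 D33105
theorem N17179 : nd 17179 = n33106 := ndS (p := 15309) (l := 8) rfl N15309 D33106
theorem N17180 : nd 17180 = n33107 := ndS (p := 15311) (l := 6) rfl N15311 D33107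
theorem N17181 : nd 17181 = n33108 := ndS (p := 15311) (l := 8) rfl N15311 D33108
theorem N17182 : nd 17182 = n33109 := ndS (p := 15312) (l := 5) rfl N15312 D33109
theorem N17183 : nd 17183 = n33110 := ndS (p := 15313) (l := 8) rfl N15313 D33110
theorem N17184 : nd 17184 = n33111 := ndS (p := 15314) (l := 9) rfl N15314 D33111
theorem N17185 : nd 17185 = n33112 := ndS (p := 15316) (l := 5) rfl N15316 D33112
theorem N17186 : nd 17186 = n33113 := ndS (p := 15316) (l := 9) rfl N15316 D33113
theorem N17187 : nd 17187 = n33114 := ndS (p := 15319) (l := 8) rfl N15319 D33114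
theorem N17188 : nd 17188 = n33115 := ndS (p := 15320) (l := 5) rfl N15320 D33115
theorem N17189 : nd 17189 = n33116 := ndS (p := 15320) (l := 9) rfl N15320 D33116
theorem N17190 : nd 17190 = n33117 := ndS (p := 15321) (l := 6) rfl N15321 D33117
theorem N17191 : nd 17191 = n33118 := ndS (p := 15321) (l := 9) rfl N15321 D33118
theorem N17192 : nd 17192 = n33119 := ndS (p := 15323) (l := 9) rfl N15323 D33119
theorem N17193 : nd 17193 = n33120 := ndS (p := 15326) (l := 5) rfl N15326 D33120
theorem N17194 : nd 17194 = n33121 := ndS (p := 15326) (l := 7) rfl N15326 D33121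
theorem N17195 : nd 17195 = n33122 := ndS (p := 15327) (l := 4) rfl N15327 D33122
theorem N17196 : nd 17196 = n33123 := ndS (p := 15327) (l := 7) rfl N15327 D33123
theorem N17197 : nd 17197 = n33124 := ndS (p := 15327) (l := 8) rfl N15327 D33124
theorem N17198 : nd 17198 = n33125 := ndS (p := 15329) (l := 6) rfl N15329 D33125
theorem N17199 : nd 17199 = n33126 := ndS (p := 15329) (l := 8) rfl N15329 D33126
theorem N17200 : nd 17200 = n33127 := ndS (p := 15330) (l := 9) rfl N15330 D33127
theorem N17201 : nd 17201 = n33128 := ndS (p := 15331) (l := 4) rfl N15331 D33128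
theorem N17202 : nd 17202 = n33129 := ndS (p := 15331) (l := 7) rfl N15331 D33129
theorem N17203 : nd 17203 = n33130 := ndS (p := 15331) (l := 8) rfl N15331 D33130
theorem N17204 : nd 17204 = n33131 := ndS (p := 15333) (l := 7) rfl N15333 D33131
theorem N17205 : nd 17205 = n33132 := ndS (p := 15333) (l := 8) rfl N15333 D33132
theorem N17206 : nd 17206 = n33133 := ndS (p := 15334) (l := 6) rfl N15334 D33133
theorem N17207 : nd 17207 = n33134 := ndS (p := 15334) (l := 8) rfl N15334 D33134
theorem N17208 : nd 17208 = n33135 := ndS (p := 15335) (l := 9) rfl N15335 D33135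
theorem N17209 : nd 17209 = n33136 := ndS (p := 15336) (l := 8) rfl N15336 D33136
theorem N17210 : nd 17210 = n33137 := ndS (p := 15337) (l := 9) rfl N15337 D33137
theorem N17211 : nd 17211 = n33138 := ndS (p := 15339) (l := 3) rfl N15339 D33138
theorem N17212 : nd 17212 = n33139 := ndS (p := 15339) (l := 7) rfl N15339 D33139
theorem N17213 : nd 17213 = n33140 := ndS (p := 15339) (l := 8) rfl N15339 D33140
theorem N17214 : nd 17214 = n33141 := ndS (p := 15340) (l := 6) rfl N15340 D33141
theorem N17215 : nd 17215 = n33142 := ndS (p := 15340) (l := 8) rfl N15340 D33142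
theorem N17216 : nd 17216 = n33143 := ndS (p := 15342) (l := 6) rfl N15342 D33143
theorem N17217 : nd 17217 = n33144 := ndS (p := 15342) (l := 8) rfl N15342 D33144
theorem N17218 : nd 17218 = n33145 := ndS (p := 15343) (l := 5) rfl N15343 D33145
theorem N17219 : nd 17219 = n33146 := ndS (p := 15343) (l := 9) rfl N15343 D33146
theorem N17220 : nd 17220 = n33147 := ndS (p := 15344) (l := 8) rfl N15344 D33147
theorem N17221 : nd 17221 = n33148 := ndS (p := 15345) (l := 9) rfl N15345 D33148
theorem N17222 : nd 17222 = n33149 := ndS (p := 15347) (l := 5) rfl N15347 D33149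
theorem N17223 : nd 17223 = n33150 := ndS (p := 15347) (l := 9) rfl N15347 D33150
theorem N17224 : nd 17224 = n33151 := ndS (p := 15349) (l := 6) rfl N15349 D33151
theorem N17225 : nd 17225 = n33152 := ndS (p := 15349) (l := 8) rfl N15349 D33152
theorem N17226 : nd 17226 = n33153 := ndS (p := 15350) (l := 5) rfl N15350 D33153
theorem N17227 : nd 17227 = n33154 := ndS (p := 15351) (l := 8) rfl N15351 D33154
theorem N17228 : nd 17228 = n33155 := ndS (p := 15353) (l := 5) rfl N15353 D33155
theorem N17229 : nd 17229 = n33156 := ndS (p := 15353) (l := 8) rfl N15353 D33156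
theorem N17230 : nd 17230 = n33157 := ndS (p := 15354) (l := 5) rfl N15354 D33157
theorem N17231 : nd 17231 = n33158 := ndS (p := 15354) (l := 9) rfl N15354 D33158
theorem N17232 : nd 17232 = n33159 := ndS (p := 15355) (l := 6) rfl N15355 D33159
theorem N17233 : nd 17233 = n33160 := ndS (p := 15355) (l := 9) rfl N15355 D33160
theorem N17234 : nd 17234 = n33161 := ndS (p := 15357) (l := 5) rfl N15357 D33161
theorem N17235 : nd 17235 = n33162 := ndS (p := 15357) (l := 9) rfl N15357 D33162
theorem N17236 : nd 17236 = n33163 := ndS (p := 15359) (l := 4) rfl N15359 D33163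
theorem N17237 : nd 17237 = n33164 := ndS (p := 15359) (l := 9) rfl N15359 D33164
theorem N17238 : nd 17238 = n33165 := ndS (p := 15361) (l := 8) rfl N15361 D33165
theorem N17239 : nd 17239 = n33166 := ndS (p := 15362) (l := 5) rfl N15362 D33166
theorem N17240 : nd 17240 = n33167 := ndS (p := 15362) (l := 9) rfl N15362 D33167
theorem N17241 : nd 17241 = n33168 := ndS (p := 15363) (l := 6) rfl N15363 D33168
theorem N17242 : nd 17242 = n33169 := ndS (p := 15363) (l := 9) rfl N15363 D33169
theorem N17243 : nd 17243 = n33170 := ndS (p := 15365) (l := 7) rfl N15365 D33170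
theorem N17244 : nd 17244 = n33171 := ndS (p := 15365) (l := 9) rfl N15365 D33171
theorem N17245 : nd 17245 = n33172 := ndS (p := 15366) (l := 8) rfl N15366 D33172
theorem N17246 : nd 17246 = n33173 := ndS (p := 15367) (l := 4) rfl N15367 D33173
theorem N17247 : nd 17247 = n33174 := ndS (p := 15367) (l := 9) rfl N15367 D33174
theorem N17248 : nd 17248 = n33175 := ndS (p := 15369) (l := 3) rfl N15369 D33175
theorem N17249 : nd 17249 = n33176 := ndS (p := 15369) (l := 9) rfl N15369 D33176
theorem N17250 : nd 17250 = n33177 := ndS (p := 15370) (l := 8) rfl N15370 D33177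
theorem N17251 : nd 17251 = n33178 := ndS (p := 15371) (l := 3) rfl N15371 D33178
theorem N17252 : nd 17252 = n33179 := ndS (p := 15371) (l := 7) rfl N15371 D33179
theorem N17253 : nd 17253 = n33180 := ndS (p := 15372) (l := 6) rfl N15372 D33180
theorem N17254 : nd 17254 = n33181 := ndS (p := 15372) (l := 8) rfl N15372 D33181
theorem N17255 : nd 17255 = n33182 := ndS (p := 15374) (l := 6) rfl N15374 D33182
theorem N17256 : nd 17256 = n33183 := ndS (p := 15375) (l := 8) rfl N15375 D33183
theorem N17257 : nd 17257 = n33184 := ndS (p := 15377) (l := 5) rfl N15377 D33184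
theorem N17258 : nd 17258 = n33185 := ndS (p := 15377) (l := 9) rfl N15377 D33185
theorem N17259 : nd 17259 = n33186 := ndS (p := 15379) (l := 7) rfl N15379 D33186
theorem N17260 : nd 17260 = n33187 := ndS (p := 15379) (l := 8) rfl N15379 D33187
theorem N17261 : nd 17261 = n33188 := ndS (p := 15380) (l := 6) rfl N15380 D33188
theorem N17262 : nd 17262 = n33189 := ndS (p := 15380) (l := 8) rfl N15380 D33189
theorem N17263 : nd 17263 = n33190 := ndS (p := 15382) (l := 8) rfl N15382 D33190
theorem N17264 : nd 17264 = n33191 := ndS (p := 15384) (l := 5) rfl N15384 D33191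
theorem N17265 : nd 17265 = n33192 := ndS (p := 15384) (l := 8) rfl N15384 D33192
theorem N17266 : nd 17266 = n33193 := ndS (p := 15386) (l := 5) rfl N15386 D33193
theorem N17267 : nd 17267 = n33194 := ndS (p := 15387) (l := 4) rfl N15387 D33194
theorem N17268 : nd 17268 = n33195 := ndS (p := 15387) (l := 9) rfl N15387 D33195
theorem N17269 : nd 17269 = n33196 := ndS (p := 15389) (l := 5) rfl N15389 D33196
theorem N17270 : nd 17270 = n33197 := ndS (p := 15390) (l := 4) rfl N15390 D33197
theorem N17271 : nd 17271 = n33198 := ndS (p := 15391) (l := 3) rfl N15391 D33198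
theorem N17272 : nd 17272 = n33199 := ndS (p := 15391) (l := 9) rfl N15391 D33199
theorem N17273 : nd 17273 = n33200 := ndS (p := 15392) (l := 8) rfl N15392 D33200
theorem N17274 : nd 17274 = n33201 := ndS (p := 15393) (l := 2) rfl N15393 D33201
theorem N17275 : nd 17275 = n33202 := ndS (p := 15396) (l := 6) rfl N15396 D33202
theorem N17276 : nd 17276 = n33203 := ndS (p := 15397) (l := 5) rfl N15397 D33203
theorem N17277 : nd 17277 = n33204 := ndS (p := 15398) (l := 8) rfl N15398 D33204
theorem N17278 : nd 17278 = n33205 := ndS (p := 15401) (l := 8) rfl N15401 D33205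
theorem N17279 : nd 17279 = n33206 := ndS (p := 15403) (l := 9) rfl N15403 D33206
theorem N17280 : nd 17280 = n33207 := ndS (p := 15405) (l := 9) rfl N15405 D33207
theorem N17281 : nd 17281 = n33208 := ndS (p := 15407) (l := 9) rfl N15407 D33208
theorem N17282 : nd 17282 = n33209 := ndS (p := 15411) (l := 9) rfl N15411 D33209
theorem N17283 : nd 17283 = n33210 := ndS (p := 15417) (l := 9) rfl N15417 D33210
theorem N17284 : nd 17284 = n33211 := ndS (p := 15418) (l := 8) rfl N15418 D33211
theorem N17285 : nd 17285 = n33212 := ndS (p := 15419) (l := 5) rfl N15419 D33212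
theorem N17286 : nd 17286 = n33213 := ndS (p := 15421) (l := 9) rfl N15421 D33213
theorem N17287 : nd 17287 = n33214 := ndS (p := 15424) (l := 8) rfl N15424 D33214
theorem N17288 : nd 17288 = n33215 := ndS (p := 15426) (l := 8) rfl N15426 D33215
theorem N17289 : nd 17289 = n33216 := ndS (p := 15428) (l := 8) rfl N15428 D33216
theorem N17290 : nd 17290 = n33217 := ndS (p := 15429) (l := 8) rfl N15429 D33217
theorem N17291 : nd 17291 = n33218 := ndS (p := 15433) (l := 9) rfl N15433 D33218
theorem N17292 : nd 17292 = n33219 := ndS (p := 15436) (l := 6) rfl N15436 D33219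
theorem N17293 : nd 17293 = n33220 := ndS (p := 15437) (l := 5) rfl N15437 D33220
theorem N17294 : nd 17294 = n33221 := ndS (p := 15437) (l := 7) rfl N15437 D33221
theorem N17295 : nd 17295 = n33222 := ndS (p := 15438) (l := 4) rfl N15438 D33222
theorem N17296 : nd 17296 = n33223 := ndS (p := 15438) (l := 7) rfl N15438 D33223
theorem N17297 : nd 17297 = n33224 := ndS (p := 15438) (l := 8) rfl N15438 D33224
theorem N17298 : nd 17298 = n33225 := ndS (p := 15440) (l := 6) rfl N15440 D33225
theorem N17299 : nd 17299 = n33226 := ndS (p := 15440) (l := 8) rfl N15440 D33226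
theorem N17300 : nd 17300 = n33227 := ndS (p := 15442) (l := 7) rfl N15442 D33227
theorem N17301 : nd 17301 = n33228 := ndS (p := 15444) (l := 6) rfl N15444 D33228
theorem N17302 : nd 17302 = n33229 := ndS (p := 15444) (l := 8) rfl N15444 D33229
theorem N17303 : nd 17303 = n33230 := ndS (p := 15446) (l := 8) rfl N15446 D33230
theorem N17304 : nd 17304 = n33231 := ndS (p := 15450) (l := 5) rfl N15450 D33231
theorem N17305 : nd 17305 = n33232 := ndS (p := 15450) (l := 7) rfl N15450 D33232
theorem N17306 : nd 17306 = n33233 := ndS (p := 15451) (l := 4) rfl N15451 D33233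
theorem N17307 : nd 17307 = n33234 := ndS (p := 15451) (l := 7) rfl N15451 D33234
theorem N17308 : nd 17308 = n33235 := ndS (p := 15451) (l := 8) rfl N15451 D33235
theorem N17309 : nd 17309 = n33236 := ndS (p := 15453) (l := 6) rfl N15453 D33236
theorem N17310 : nd 17310 = n33237 := ndS (p := 15453) (l := 8) rfl N15453 D33237
theorem N17311 : nd 17311 = n33238 := ndS (p := 15454) (l := 9) rfl N15454 D33238
theorem N17312 : nd 17312 = n33239 := ndS (p := 15455) (l := 4) rfl N15455 D33239
theorem N17313 : nd 17313 = n33240 := ndS (p := 15455) (l := 7) rfl N15455 D33240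
theorem N17314 : nd 17314 = n33241 := ndS (p := 15455) (l := 8) rfl N15455 D33241
theorem N17315 : nd 17315 = n33242 := ndS (p := 15457) (l := 7) rfl N15457 D33242
theorem N17316 : nd 17316 = n33243 := ndS (p := 15457) (l := 8) rfl N15457 D33243
theorem N17317 : nd 17317 = n33244 := ndS (p := 15458) (l := 6) rfl N15458 D33244
theorem N17318 : nd 17318 = n33245 := ndS (p := 15458) (l := 8) rfl N15458 D33245
theorem N17319 : nd 17319 = n33246 := ndS (p := 15459) (l := 9) rfl N15459 D33246
theorem N17320 : nd 17320 = n33247 := ndS (p := 15460) (l := 8) rfl N15460 D33247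
theorem N17321 : nd 17321 = n33248 := ndS (p := 15461) (l := 9) rfl N15461 D33248
theorem N17322 : nd 17322 = n33249 := ndS (p := 15463) (l := 6) rfl N15463 D33249
theorem N17323 : nd 17323 = n33250 := ndS (p := 15463) (l := 8) rfl N15463 D33250
theorem N17324 : nd 17324 = n33251 := ndS (p := 15464) (l := 9) rfl N15464 D33251
theorem N17325 : nd 17325 = n33252 := ndS (p := 15465) (l := 6) rfl N15465 D33252
theorem N17326 : nd 17326 = n33253 := ndS (p := 15465) (l := 8) rfl N15465 D33253
theorem N17327 : nd 17327 = n33254 := ndS (p := 15466) (l := 5) rfl N15466 D33254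
theorem N17328 : nd 17328 = n33255 := ndS (p := 15467) (l := 8) rfl N15467 D33255
theorem N17329 : nd 17329 = n33256 := ndS (p := 15468) (l := 9) rfl N15468 D33256
theorem N17330 : nd 17330 = n33257 := ndS (p := 15470) (l := 5) rfl N15470 D33257
theorem N17331 : nd 17331 = n33258 := ndS (p := 15470) (l := 9) rfl N15470 D33258
theorem N17332 : nd 17332 = n33259 := ndS (p := 15473) (l := 8) rfl N15473 D33259
theorem N17333 : nd 17333 = n33260 := ndS (p := 15474) (l := 5) rfl N15474 D33260
theorem N17334 : nd 17334 = n33261 := ndS (p := 15475) (l := 6) rfl N15475 D33261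
theorem N17335 : nd 17335 = n33262 := ndS (p := 15477) (l := 4) rfl N15477 D33262
theorem N17336 : nd 17336 = n33263 := ndS (p := 15479) (l := 5) rfl N15479 D33263
theorem N17337 : nd 17337 = n33264 := ndS (p := 15479) (l := 7) rfl N15479 D33264
theorem N17338 : nd 17338 = n33265 := ndS (p := 15480) (l := 4) rfl N15480 D33265
theorem N17339 : nd 17339 = n33266 := ndS (p := 15480) (l := 7) rfl N15480 D33266
theorem N17340 : nd 17340 = n33267 := ndS (p := 15480) (l := 8) rfl N15480 D33267
theorem N17341 : nd 17341 = n33268 := ndS (p := 15482) (l := 6) rfl N15482 D33268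
theorem N17342 : nd 17342 = n33269 := ndS (p := 15482) (l := 8) rfl N15482 D33269
theorem N17343 : nd 17343 = n33270 := ndS (p := 15483) (l := 9) rfl N15483 D33270
theorem N17344 : nd 17344 = n33271 := ndS (p := 15484) (l := 0) rfl N15484 D33271
theorem N17345 : nd 17345 = n33272 := ndS (p := 15484) (l := 6) rfl N15484 D33272
theorem N17346 : nd 17346 = n33273 := ndS (p := 15485) (l := 5) rfl N15485 D33273
theorem N17347 : nd 17347 = n33274 := ndS (p := 15485) (l := 7) rfl N15485 D33274
theorem N17348 : nd 17348 = n33275 := ndS (p := 15486) (l := 4) rfl N15486 D33275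
theorem N17349 : nd 17349 = n33276 := ndS (p := 15486) (l := 7) rfl N15486 D33276
theorem N17350 : nd 17350 = n33277 := ndS (p := 15486) (l := 8) rfl N15486 D33277
theorem N17351 : nd 17351 = n33278 := ndS (p := 15488) (l := 6) rfl N15488 D33278
theorem N17352 : nd 17352 = n33279 := ndS (p := 15488) (l := 8) rfl N15488 D33279
theorem N17353 : nd 17353 = n33280 := ndS (p := 15490) (l := 0) rfl N15490 D33280
theorem N17354 : nd 17354 = n33281 := ndS (p := 15490) (l := 6) rfl N15490 D33281
theorem N17355 : nd 17355 = n33282 := ndS (p := 15491) (l := 5) rfl N15491 D33282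
theorem N17356 : nd 17356 = n33283 := ndS (p := 15491) (l := 7) rfl N15491 D33283
theorem N17357 : nd 17357 = n33284 := ndS (p := 15492) (l := 4) rfl N15492 D33284
theorem N17358 : nd 17358 = n33285 := ndS (p := 15492) (l := 7) rfl N15492 D33285
theorem N17359 : nd 17359 = n33286 := ndS (p := 15492) (l := 8) rfl N15492 D33286
theorem N17360 : nd 17360 = n33287 := ndS (p := 15494) (l := 6) rfl N15494 D33287
theorem N17361 : nd 17361 = n33288 := ndS (p := 15494) (l := 8) rfl N15494 D33288
theorem N17362 : nd 17362 = n33289 := ndS (p := 15495) (l := 9) rfl N15495 D33289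
theorem N17363 : nd 17363 = n33290 := ndS (p := 15496) (l := 6) rfl N15496 D33290
theorem N17364 : nd 17364 = n33291 := ndS (p := 15497) (l := 5) rfl N15497 D33291
theorem N17365 : nd 17365 = n33292 := ndS (p := 15497) (l := 7) rfl N15497 D33292
theorem N17366 : nd 17366 = n33293 := ndS (p := 15498) (l := 4) rfl N15498 D33293
theorem N17367 : nd 17367 = n33294 := ndS (p := 15498) (l := 7) rfl N15498 D33294
theorem N17368 : nd 17368 = n33295 := ndS (p := 15498) (l := 8) rfl N15498 D33295
theorem N17369 : nd 17369 = n33296 := ndS (p := 15500) (l := 7) rfl N15500 D33296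
theorem N17370 : nd 17370 = n33297 := ndS (p := 15500) (l := 8) rfl N15500 D33297
theorem N17371 : nd 17371 = n33298 := ndS (p := 15501) (l := 6) rfl N15501 D33298
theorem N17372 : nd 17372 = n33299 := ndS (p := 15501) (l := 8) rfl N15501 D33299
theorem N17373 : nd 17373 = n33300 := ndS (p := 15502) (l := 9) rfl N15502 D33300
theorem N17374 : nd 17374 = n33301 := ndS (p := 15503) (l := 8) rfl N15503 D33301
theorem N17375 : nd 17375 = n33302 := ndS (p := 15504) (l := 9) rfl N15504 D33302
theorem N17376 : nd 17376 = n33303 := ndS (p := 15506) (l := 0) rfl N15506 D33303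
theorem N17377 : nd 17377 = n33304 := ndS (p := 15506) (l := 6) rfl N15506 D33304
theorem N17378 : nd 17378 = n33305 := ndS (p := 15507) (l := 5) rfl N15507 D33305
theorem N17379 : nd 17379 = n33306 := ndS (p := 15507) (l := 7) rfl N15507 D33306
theorem N17380 : nd 17380 = n33307 := ndS (p := 15508) (l := 4) rfl N15508 D33307
theorem N17381 : nd 17381 = n33308 := ndS (p := 15508) (l := 7) rfl N15508 D33308
theorem N17382 : nd 17382 = n33309 := ndS (p := 15508) (l := 8) rfl N15508 D33309
theorem N17383 : nd 17383 = n33310 := ndS (p := 15510) (l := 6) rfl N15510 D33310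
theorem N17384 : nd 17384 = n33311 := ndS (p := 15510) (l := 8) rfl N15510 D33311
theorem N17385 : nd 17385 = n33312 := ndS (p := 15512) (l := 0) rfl N15512 D33312
theorem N17386 : nd 17386 = n33313 := ndS (p := 15513) (l := 5) rfl N15513 D33313
theorem N17387 : nd 17387 = n33314 := ndS (p := 15513) (l := 7) rfl N15513 D33314
theorem N17388 : nd 17388 = n33315 := ndS (p := 15514) (l := 4) rfl N15514 D33315
theorem N17389 : nd 17389 = n33316 := ndS (p := 15514) (l := 7) rfl N15514 D33316
theorem N17390 : nd 17390 = n33317 := ndS (p := 15514) (l := 8) rfl N15514 D33317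
theorem N17391 : nd 17391 = n33318 := ndS (p := 15516) (l := 6) rfl N15516 D33318
theorem N17392 : nd 17392 = n33319 := ndS (p := 15516) (l := 8) rfl N15516 D33319
theorem N17393 : nd 17393 = n33320 := ndS (p := 15519) (l := 4) rfl N15519 D33320
theorem N17394 : nd 17394 = n33321 := ndS (p := 15519) (l := 7) rfl N15519 D33321
theorem N17395 : nd 17395 = n33322 := ndS (p := 15521) (l := 7) rfl N15521 D33322
theorem N17396 : nd 17396 = n33323 := ndS (p := 15521) (l := 8) rfl N15521 D33323
theorem N17397 : nd 17397 = n33324 := ndS (p := 15522) (l := 6) rfl N15522 D33324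
theorem N17398 : nd 17398 = n33325 := ndS (p := 15522) (l := 8) rfl N15522 D33325
theorem N17399 : nd 17399 = n33326 := ndS (p := 15523) (l := 9) rfl N15523 D33326
theorem N17400 : nd 17400 = n33327 := ndS (p := 15524) (l := 8) rfl N15524 D33327
theorem N17401 : nd 17401 = n33328 := ndS (p := 15525) (l := 9) rfl N15525 D33328
theorem N17402 : nd 17402 = n33329 := ndS (p := 15527) (l := 6) rfl N15527 D33329
theorem N17403 : nd 17403 = n33330 := ndS (p := 15528) (l := 5) rfl N15528 D33330
theorem N17404 : nd 17404 = n33331 := ndS (p := 15528) (l := 7) rfl N15528 D33331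
theorem N17405 : nd 17405 = n33332 := ndS (p := 15529) (l := 4) rfl N15529 D33332
theorem N17406 : nd 17406 = n33333 := ndS (p := 15529) (l := 7) rfl N15529 D33333
theorem N17407 : nd 17407 = n33334 := ndS (p := 15529) (l := 8) rfl N15529 D33334
theorem N17408 : nd 17408 = n33335 := ndS (p := 15531) (l := 7) rfl N15531 D33335
theorem N17409 : nd 17409 = n33336 := ndS (p := 15531) (l := 8) rfl N15531 D33336
theorem N17410 : nd 17410 = n33337 := ndS (p := 15532) (l := 6) rfl N15532 D33337
theorem N17411 : nd 17411 = n33338 := ndS (p := 15532) (l := 8) rfl N15532 D33338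
theorem N17412 : nd 17412 = n33339 := ndS (p := 15533) (l := 9) rfl N15533 D33339
theorem N17413 : nd 17413 = n33340 := ndS (p := 15534) (l := 8) rfl N15534 D33340
theorem N17414 : nd 17414 = n33341 := ndS (p := 15535) (l := 9) rfl N15535 D33341
theorem N17415 : nd 17415 = n33342 := ndS (p := 15537) (l := 5) rfl N15537 D33342
theorem N17416 : nd 17416 = n33343 := ndS (p := 15537) (l := 7) rfl N15537 D33343
theorem N17417 : nd 17417 = n33344 := ndS (p := 15538) (l := 4) rfl N15538 D33344
theorem N17418 : nd 17418 = n33345 := ndS (p := 15538) (l := 7) rfl N15538 D33345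
theorem N17419 : nd 17419 = n33346 := ndS (p := 15538) (l := 8) rfl N15538 D33346
theorem N17420 : nd 17420 = n33347 := ndS (p := 15540) (l := 3) rfl N15540 D33347
theorem N17421 : nd 17421 = n33348 := ndS (p := 15540) (l := 7) rfl N15540 D33348
theorem N17422 : nd 17422 = n33349 := ndS (p := 15540) (l := 8) rfl N15540 D33349
theorem N17423 : nd 17423 = n33350 := ndS (p := 15541) (l := 6) rfl N15541 D33350
theorem N17424 : nd 17424 = n33351 := ndS (p := 15541) (l := 8) rfl N15541 D33351
theorem N17425 : nd 17425 = n33352 := ndS (p := 15542) (l := 9) rfl N15542 D33352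
theorem N17426 : nd 17426 = n33353 := ndS (p := 15543) (l := 6) rfl N15543 D33353
theorem N17427 : nd 17427 = n33354 := ndS (p := 15543) (l := 8) rfl N15543 D33354
theorem N17428 : nd 17428 = n33355 := ndS (p := 15544) (l := 5) rfl N15544 D33355
theorem N17429 : nd 17429 = n33356 := ndS (p := 15544) (l := 9) rfl N15544 D33356
theorem N17430 : nd 17430 = n33357 := ndS (p := 15545) (l := 8) rfl N15545 D33357
theorem N17431 : nd 17431 = n33358 := ndS (p := 15546) (l := 9) rfl N15546 D33358
theorem N17432 : nd 17432 = n33359 := ndS (p := 15548) (l := 5) rfl N15548 D33359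
theorem N17433 : nd 17433 = n33360 := ndS (p := 15548) (l := 9) rfl N15548 D33360
theorem N17434 : nd 17434 = n33361 := ndS (p := 15550) (l := 8) rfl N15550 D33361
theorem N17435 : nd 17435 = n33362 := ndS (p := 15551) (l := 9) rfl N15551 D33362
theorem N17436 : nd 17436 = n33363 := ndS (p := 15553) (l := 5) rfl N15553 D33363
theorem N17437 : nd 17437 = n33364 := ndS (p := 15553) (l := 9) rfl N15553 D33364
theorem N17438 : nd 17438 = n33365 := ndS (p := 15555) (l := 7) rfl N15555 D33365
theorem N17439 : nd 17439 = n33366 := ndS (p := 15555) (l := 8) rfl N15555 D33366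
theorem N17440 : nd 17440 = n33367 := ndS (p := 15557) (l := 6) rfl N15557 D33367
theorem N17441 : nd 17441 = n33368 := ndS (p := 15557) (l := 8) rfl N15557 D33368
theorem N17442 : nd 17442 = n33369 := ndS (p := 15558) (l := 9) rfl N15558 D33369
theorem N17443 : nd 17443 = n33370 := ndS (p := 15559) (l := 6) rfl N15559 D33370
theorem N17444 : nd 17444 = n33371 := ndS (p := 15559) (l := 8) rfl N15559 D33371
theorem N17445 : nd 17445 = n33372 := ndS (p := 15560) (l := 5) rfl N15560 D33372
theorem N17446 : nd 17446 = n33373 := ndS (p := 15560) (l := 9) rfl N15560 D33373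
theorem N17447 : nd 17447 = n33374 := ndS (p := 15561) (l := 8) rfl N15561 D33374
theorem N17448 : nd 17448 = n33375 := ndS (p := 15562) (l := 9) rfl N15562 D33375
theorem N17449 : nd 17449 = n33376 := ndS (p := 15564) (l := 8) rfl N15564 D33376
theorem N17450 : nd 17450 = n33377 := ndS (p := 15565) (l := 5) rfl N15565 D33377
theorem N17451 : nd 17451 = n33378 := ndS (p := 15565) (l := 9) rfl N15565 D33378
theorem N17452 : nd 17452 = n33379 := ndS (p := 15566) (l := 6) rfl N15566 D33379
theorem N17453 : nd 17453 = n33380 := ndS (p := 15566) (l := 9) rfl N15566 D33380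
theorem N17454 : nd 17454 = n33381 := ndS (p := 15568) (l := 5) rfl N15568 D33381
theorem N17455 : nd 17455 = n33382 := ndS (p := 15568) (l := 9) rfl N15568 D33382
theorem N17456 : nd 17456 = n33383 := ndS (p := 15570) (l := 4) rfl N15570 D33383
theorem N17457 : nd 17457 = n33384 := ndS (p := 15570) (l := 9) rfl N15570 D33384
theorem N17458 : nd 17458 = n33385 := ndS (p := 15572) (l := 8) rfl N15572 D33385
theorem N17459 : nd 17459 = n33386 := ndS (p := 15573) (l := 5) rfl N15573 D33386
theorem N17460 : nd 17460 = n33387 := ndS (p := 15574) (l := 6) rfl N15574 D33387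
theorem N17461 : nd 17461 = n33388 := ndS (p := 15574) (l := 9) rfl N15574 D33388
theorem N17462 : nd 17462 = n33389 := ndS (p := 15576) (l := 7) rfl N15576 D33389
theorem N17463 : nd 17463 = n33390 := ndS (p := 15576) (l := 9) rfl N15576 D33390
theorem N17464 : nd 17464 = n33391 := ndS (p := 15577) (l := 8) rfl N15577 D33391
theorem N17465 : nd 17465 = n33392 := ndS (p := 15578) (l := 3) rfl N15578 D33392
theorem N17466 : nd 17466 = n33393 := ndS (p := 15579) (l := 6) rfl N15579 D33393
theorem N17467 : nd 17467 = n33394 := ndS (p := 15580) (l := 7) rfl N15580 D33394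
theorem N17468 : nd 17468 = n33395 := ndS (p := 15581) (l := 7) rfl N15581 D33395
theorem N17469 : nd 17469 = n33396 := ndS (p := 15583) (l := 7) rfl N15583 D33396
theorem N17470 : nd 17470 = n33397 := ndS (p := 15584) (l := 6) rfl N15584 D33397
theorem N17471 : nd 17471 = n33398 := ndS (p := 15584) (l := 8) rfl N15584 D33398
theorem N17472 : nd 17472 = n33399 := ndS (p := 15586) (l := 8) rfl N15586 D33399
theorem N17473 : nd 17473 = n33400 := ndS (p := 15588) (l := 6) rfl N15588 D33400
theorem N17474 : nd 17474 = n33401 := ndS (p := 15589) (l := 5) rfl N15589 D33401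
theorem N17475 : nd 17475 = n33402 := ndS (p := 15589) (l := 7) rfl N15589 D33402
theorem N17476 : nd 17476 = n33403 := ndS (p := 15590) (l := 4) rfl N15590 D33403
theorem N17477 : nd 17477 = n33404 := ndS (p := 15590) (l := 7) rfl N15590 D33404
theorem N17478 : nd 17478 = n33405 := ndS (p := 15590) (l := 8) rfl N15590 D33405
theorem N17479 : nd 17479 = n33406 := ndS (p := 15592) (l := 7) rfl N15592 D33406
theorem N17480 : nd 17480 = n33407 := ndS (p := 15593) (l := 6) rfl N15593 D33407
theorem N17481 : nd 17481 = n33408 := ndS (p := 15593) (l := 8) rfl N15593 D33408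
theorem N17482 : nd 17482 = n33409 := ndS (p := 15595) (l := 8) rfl N15595 D33409
theorem N17483 : nd 17483 = n33410 := ndS (p := 15596) (l := 9) rfl N15596 D33410
theorem N17484 : nd 17484 = n33411 := ndS (p := 15598) (l := 5) rfl N15598 D33411
theorem N17485 : nd 17485 = n33412 := ndS (p := 15598) (l := 7) rfl N15598 D33412
theorem N17486 : nd 17486 = n33413 := ndS (p := 15599) (l := 4) rfl N15599 D33413
theorem N17487 : nd 17487 = n33414 := ndS (p := 15599) (l := 7) rfl N15599 D33414
theorem N17488 : nd 17488 = n33415 := ndS (p := 15599) (l := 8) rfl N15599 D33415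
theorem N17489 : nd 17489 = n33416 := ndS (p := 15601) (l := 3) rfl N15601 D33416
theorem N17490 : nd 17490 = n33417 := ndS (p := 15601) (l := 7) rfl N15601 D33417
theorem N17491 : nd 17491 = n33418 := ndS (p := 15601) (l := 8) rfl N15601 D33418
theorem N17492 : nd 17492 = n33419 := ndS (p := 15602) (l := 6) rfl N15602 D33419
theorem N17493 : nd 17493 = n33420 := ndS (p := 15602) (l := 8) rfl N15602 D33420
theorem N17494 : nd 17494 = n33421 := ndS (p := 15603) (l := 9) rfl N15603 D33421
theorem N17495 : nd 17495 = n33422 := ndS (p := 15604) (l := 6) rfl N15604 D33422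
theorem N17496 : nd 17496 = n33423 := ndS (p := 15604) (l := 8) rfl N15604 D33423
theorem N17497 : nd 17497 = n33424 := ndS (p := 15606) (l := 8) rfl N15606 D33424
theorem N17498 : nd 17498 = n33425 := ndS (p := 15607) (l := 9) rfl N15607 D33425
theorem N17499 : nd 17499 = n33426 := ndS (p := 15609) (l := 5) rfl N15609 D33426
theorem N17500 : nd 17500 = n33427 := ndS (p := 15609) (l := 9) rfl N15609 D33427
theorem N17501 : nd 17501 = n33428 := ndS (p := 15612) (l := 5) rfl N15612 D33428
theorem N17502 : nd 17502 = n33429 := ndS (p := 15612) (l := 7) rfl N15612 D33429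
theorem N17503 : nd 17503 = n33430 := ndS (p := 15613) (l := 7) rfl N15613 D33430
theorem N17504 : nd 17504 = n33431 := ndS (p := 15615) (l := 7) rfl N15615 D33431
theorem N17505 : nd 17505 = n33432 := ndS (p := 15616) (l := 6) rfl N15616 D33432
theorem N17506 : nd 17506 = n33433 := ndS (p := 15617) (l := 8) rfl N15617 D33433
theorem N17507 : nd 17507 = n33434 := ndS (p := 15620) (l := 7) rfl N15620 D33434
theorem N17508 : nd 17508 = n33435 := ndS (p := 15620) (l := 8) rfl N15620 D33435
theorem N17509 : nd 17509 = n33436 := ndS (p := 15622) (l := 7) rfl N15622 D33436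
theorem N17510 : nd 17510 = n33437 := ndS (p := 15623) (l := 6) rfl N15623 D33437
theorem N17511 : nd 17511 = n33438 := ndS (p := 15623) (l := 8) rfl N15623 D33438
theorem N17512 : nd 17512 = n33439 := ndS (p := 15625) (l := 8) rfl N15625 D33439
theorem N17513 : nd 17513 = n33440 := ndS (p := 15627) (l := 6) rfl N15627 D33440
theorem N17514 : nd 17514 = n33441 := ndS (p := 15628) (l := 6) rfl N15628 D33441
theorem N17515 : nd 17515 = n33442 := ndS (p := 15629) (l := 8) rfl N15629 D33442
theorem N17516 : nd 17516 = n33443 := ndS (p := 15631) (l := 5) rfl N15631 D33443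
theorem N17517 : nd 17517 = n33444 := ndS (p := 15631) (l := 9) rfl N15631 D33444
theorem N17518 : nd 17518 = n33445 := ndS (p := 15633) (l := 5) rfl N15633 D33445
theorem N17519 : nd 17519 = n33446 := ndS (p := 15633) (l := 7) rfl N15633 D33446
theorem N17520 : nd 17520 = n33447 := ndS (p := 15634) (l := 4) rfl N15634 D33447
theorem N17521 : nd 17521 = n33448 := ndS (p := 15634) (l := 7) rfl N15634 D33448
theorem N17522 : nd 17522 = n33449 := ndS (p := 15634) (l := 8) rfl N15634 D33449
theorem N17523 : nd 17523 = n33450 := ndS (p := 15636) (l := 3) rfl N15636 D33450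
theorem N17524 : nd 17524 = n33451 := ndS (p := 15636) (l := 7) rfl N15636 D33451
theorem N17525 : nd 17525 = n33452 := ndS (p := 15636) (l := 8) rfl N15636 D33452
theorem N17526 : nd 17526 = n33453 := ndS (p := 15637) (l := 6) rfl N15637 D33453
theorem N17527 : nd 17527 = n33454 := ndS (p := 15637) (l := 8) rfl N15637 D33454
theorem N17528 : nd 17528 = n33455 := ndS (p := 15638) (l := 9) rfl N15638 D33455
theorem N17529 : nd 17529 = n33456 := ndS (p := 15639) (l := 6) rfl N15639 D33456
theorem N17530 : nd 17530 = n33457 := ndS (p := 15639) (l := 8) rfl N15639 D33457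
theorem N17531 : nd 17531 = n33458 := ndS (p := 15641) (l := 8) rfl N15641 D33458
theorem N17532 : nd 17532 = n33459 := ndS (p := 15642) (l := 9) rfl N15642 D33459
theorem N17533 : nd 17533 = n33460 := ndS (p := 15644) (l := 5) rfl N15644 D33460
theorem N17534 : nd 17534 = n33461 := ndS (p := 15644) (l := 9) rfl N15644 D33461
theorem N17535 : nd 17535 = n33462 := ndS (p := 15646) (l := 4) rfl N15646 D33462
theorem N17536 : nd 17536 = n33463 := ndS (p := 15646) (l := 7) rfl N15646 D33463
theorem N17537 : nd 17537 = n33464 := ndS (p := 15646) (l := 8) rfl N15646 D33464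
theorem N17538 : nd 17538 = n33465 := ndS (p := 15648) (l := 3) rfl N15648 D33465
theorem N17539 : nd 17539 = n33466 := ndS (p := 15648) (l := 7) rfl N15648 D33466
theorem N17540 : nd 17540 = n33467 := ndS (p := 15648) (l := 8) rfl N15648 D33467
theorem N17541 : nd 17541 = n33468 := ndS (p := 15649) (l := 6) rfl N15649 D33468
theorem N17542 : nd 17542 = n33469 := ndS (p := 15649) (l := 8) rfl N15649 D33469
theorem N17543 : nd 17543 = n33470 := ndS (p := 15650) (l := 9) rfl N15650 D33470
theorem N17544 : nd 17544 = n33471 := ndS (p := 15651) (l := 7) rfl N15651 D33471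
theorem N17545 : nd 17545 = n33472 := ndS (p := 15651) (l := 8) rfl N15651 D33472
theorem N17546 : nd 17546 = n33473 := ndS (p := 15652) (l := 6) rfl N15652 D33473
theorem N17547 : nd 17547 = n33474 := ndS (p := 15652) (l := 8) rfl N15652 D33474
theorem N17548 : nd 17548 = n33475 := ndS (p := 15653) (l := 9) rfl N15653 D33475
theorem N17549 : nd 17549 = n33476 := ndS (p := 15654) (l := 8) rfl N15654 D33476
theorem N17550 : nd 17550 = n33477 := ndS (p := 15655) (l := 9) rfl N15655 D33477
theorem N17551 : nd 17551 = n33478 := ndS (p := 15657) (l := 5) rfl N15657 D33478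
theorem N17552 : nd 17552 = n33479 := ndS (p := 15657) (l := 8) rfl N15657 D33479
theorem N17553 : nd 17553 = n33480 := ndS (p := 15658) (l := 9) rfl N15658 D33480
theorem N17554 : nd 17554 = n33481 := ndS (p := 15660) (l := 5) rfl N15660 D33481
theorem N17555 : nd 17555 = n33482 := ndS (p := 15660) (l := 9) rfl N15660 D33482
theorem N17556 : nd 17556 = n33483 := ndS (p := 15662) (l := 4) rfl N15662 D33483
theorem N17557 : nd 17557 = n33484 := ndS (p := 15662) (l := 9) rfl N15662 D33484
theorem N17558 : nd 17558 = n33485 := ndS (p := 15664) (l := 5) rfl N15664 D33485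
theorem N17559 : nd 17559 = n33486 := ndS (p := 15665) (l := 4) rfl N15665 D33486
theorem N17560 : nd 17560 = n33487 := ndS (p := 15665) (l := 9) rfl N15665 D33487
theorem N17561 : nd 17561 = n33488 := ndS (p := 15667) (l := 8) rfl N15667 D33488
theorem N17562 : nd 17562 = n33489 := ndS (p := 15668) (l := 9) rfl N15668 D33489
theorem N17563 : nd 17563 = n33490 := ndS (p := 15669) (l := 9) rfl N15669 D33490
theorem N17564 : nd 17564 = n33491 := ndS (p := 15671) (l := 5) rfl N15671 D33491
theorem N17565 : nd 17565 = n33492 := ndS (p := 15671) (l := 9) rfl N15671 D33492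
theorem N17566 : nd 17566 = n33493 := ndS (p := 15673) (l := 4) rfl N15673 D33493
theorem N17567 : nd 17567 = n33494 := ndS (p := 15673) (l := 9) rfl N15673 D33494
theorem N17568 : nd 17568 = n33495 := ndS (p := 15678) (l := 6) rfl N15678 D33495
theorem N17569 : nd 17569 = n33496 := ndS (p := 15684) (l := 5) rfl N15684 D33496
theorem N17570 : nd 17570 = n33497 := ndS (p := 15685) (l := 4) rfl N15685 D33497
theorem N17571 : nd 17571 = n33498 := ndS (p := 15685) (l := 7) rfl N15685 D33498
theorem N17572 : nd 17572 = n33499 := ndS (p := 15685) (l := 8) rfl N15685 D33499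
theorem N17573 : nd 17573 = n33500 := ndS (p := 15687) (l := 3) rfl N15687 D33500
theorem N17574 : nd 17574 = n33501 := ndS (p := 15687) (l := 7) rfl N15687 D33501
theorem N17575 : nd 17575 = n33502 := ndS (p := 15687) (l := 8) rfl N15687 D33502
theorem N17576 : nd 17576 = n33503 := ndS (p := 15688) (l := 8) rfl N15688 D33503
theorem N17577 : nd 17577 = n33504 := ndS (p := 15690) (l := 7) rfl N15690 D33504
theorem N17578 : nd 17578 = n33505 := ndS (p := 15691) (l := 6) rfl N15691 D33505
theorem N17579 : nd 17579 = n33506 := ndS (p := 15691) (l := 8) rfl N15691 D33506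
theorem N17580 : nd 17580 = n33507 := ndS (p := 15693) (l := 8) rfl N15693 D33507
theorem N17581 : nd 17581 = n33508 := ndS (p := 15695) (l := 5) rfl N15695 D33508
theorem N17582 : nd 17582 = n33509 := ndS (p := 15695) (l := 8) rfl N15695 D33509
theorem N17583 : nd 17583 = n33510 := ndS (p := 15699) (l := 3) rfl N15699 D33510
theorem N17584 : nd 17584 = n33511 := ndS (p := 15699) (l := 7) rfl N15699 D33511
theorem N17585 : nd 17585 = n33512 := ndS (p := 15701) (l := 2) rfl N15701 D33512
theorem N17586 : nd 17586 = n33513 := ndS (p := 15701) (l := 7) rfl N15701 D33513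
theorem N17587 : nd 17587 = n33514 := ndS (p := 15703) (l := 6) rfl N15703 D33514
theorem N17588 : nd 17588 = n33515 := ndS (p := 15704) (l := 5) rfl N15704 D33515
theorem N17589 : nd 17589 = n33516 := ndS (p := 15705) (l := 8) rfl N15705 D33516
theorem N17590 : nd 17590 = n33517 := ndS (p := 15706) (l := 0) rfl N15706 D33517
theorem N17591 : nd 17591 = n33518 := ndS (p := 15706) (l := 6) rfl N15706 D33518
theorem N17592 : nd 17592 = n33519 := ndS (p := 15707) (l := 5) rfl N15707 D33519
theorem N17593 : nd 17593 = n33520 := ndS (p := 15707) (l := 7) rfl N15707 D33520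
theorem N17594 : nd 17594 = n33521 := ndS (p := 15708) (l := 4) rfl N15708 D33521
theorem N17595 : nd 17595 = n33522 := ndS (p := 15708) (l := 7) rfl N15708 D33522
theorem N17596 : nd 17596 = n33523 := ndS (p := 15708) (l := 8) rfl N15708 D33523
theorem N17597 : nd 17597 = n33524 := ndS (p := 15710) (l := 6) rfl N15710 D33524
theorem N17598 : nd 17598 = n33525 := ndS (p := 15710) (l := 8) rfl N15710 D33525
theorem N17599 : nd 17599 = n33526 := ndS (p := 15712) (l := 6) rfl N15712 D33526
theorem N17600 : nd 17600 = n33527 := ndS (p := 15713) (l := 5) rfl N15713 D33527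
theorem N17601 : nd 17601 = n33528 := ndS (p := 15713) (l := 7) rfl N15713 D33528
theorem N17602 : nd 17602 = n33529 := ndS (p := 15714) (l := 4) rfl N15714 D33529
theorem N17603 : nd 17603 = n33530 := ndS (p := 15714) (l := 7) rfl N15714 D33530
theorem N17604 : nd 17604 = n33531 := ndS (p := 15714) (l := 8) rfl N15714 D33531
theorem N17605 : nd 17605 = n33532 := ndS (p := 15716) (l := 6) rfl N15716 D33532
theorem N17606 : nd 17606 = n33533 := ndS (p := 15716) (l := 8) rfl N15716 D33533
theorem N17607 : nd 17607 = n33534 := ndS (p := 15717) (l := 9) rfl N15717 D33534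
theorem N17608 : nd 17608 = n33535 := ndS (p := 15718) (l := 6) rfl N15718 D33535
theorem N17609 : nd 17609 = n33536 := ndS (p := 15719) (l := 5) rfl N15719 D33536
theorem N17610 : nd 17610 = n33537 := ndS (p := 15719) (l := 7) rfl N15719 D33537
theorem N17611 : nd 17611 = n33538 := ndS (p := 15720) (l := 4) rfl N15720 D33538
theorem N17612 : nd 17612 = n33539 := ndS (p := 15720) (l := 7) rfl N15720 D33539
theorem N17613 : nd 17613 = n33540 := ndS (p := 15720) (l := 8) rfl N15720 D33540
theorem N17614 : nd 17614 = n33541 := ndS (p := 15722) (l := 6) rfl N15722 D33541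
theorem N17615 : nd 17615 = n33542 := ndS (p := 15722) (l := 8) rfl N15722 D33542
theorem N17616 : nd 17616 = n33543 := ndS (p := 15724) (l := 6) rfl N15724 D33543
theorem N17617 : nd 17617 = n33544 := ndS (p := 15725) (l := 5) rfl N15725 D33544
theorem N17618 : nd 17618 = n33545 := ndS (p := 15725) (l := 7) rfl N15725 D33545
theorem N17619 : nd 17619 = n33546 := ndS (p := 15726) (l := 4) rfl N15726 D33546
theorem N17620 : nd 17620 = n33547 := ndS (p := 15726) (l := 7) rfl N15726 D33547
theorem N17621 : nd 17621 = n33548 := ndS (p := 15726) (l := 8) rfl N15726 D33548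
theorem N17622 : nd 17622 = n33549 := ndS (p := 15728) (l := 7) rfl N15728 D33549
theorem N17623 : nd 17623 = n33550 := ndS (p := 15728) (l := 8) rfl N15728 D33550
theorem N17624 : nd 17624 = n33551 := ndS (p := 15729) (l := 6) rfl N15729 D33551
theorem N17625 : nd 17625 = n33552 := ndS (p := 15729) (l := 8) rfl N15729 D33552
theorem N17626 : nd 17626 = n33553 := ndS (p := 15731) (l := 8) rfl N15731 D33553
theorem N17627 : nd 17627 = n33554 := ndS (p := 15733) (l := 7) rfl N15733 D33554
theorem N17628 : nd 17628 = n33555 := ndS (p := 15734) (l := 7) rfl N15734 D33555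
theorem N17629 : nd 17629 = n33556 := ndS (p := 15736) (l := 7) rfl N15736 D33556
theorem N17630 : nd 17630 = n33557 := ndS (p := 15736) (l := 8) rfl N15736 D33557
theorem N17631 : nd 17631 = n33558 := ndS (p := 15737) (l := 8) rfl N15737 D33558
theorem N17632 : nd 17632 = n33559 := ndS (p := 15738) (l := 9) rfl N15738 D33559
theorem N17633 : nd 17633 = n33560 := ndS (p := 15739) (l := 9) rfl N15739 D33560
theorem N17634 : nd 17634 = n33561 := ndS (p := 15742) (l := 8) rfl N15742 D33561
theorem N17635 : nd 17635 = n33562 := ndS (p := 15745) (l := 6) rfl N15745 D33562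
theorem N17636 : nd 17636 = n33563 := ndS (p := 15746) (l := 5) rfl N15746 D33563
theorem N17637 : nd 17637 = n33564 := ndS (p := 15746) (l := 7) rfl N15746 D33564
theorem N17638 : nd 17638 = n33565 := ndS (p := 15747) (l := 4) rfl N15747 D33565
theorem N17639 : nd 17639 = n33566 := ndS (p := 15747) (l := 7) rfl N15747 D33566
theorem N17640 : nd 17640 = n33567 := ndS (p := 15747) (l := 8) rfl N15747 D33567
theorem N17641 : nd 17641 = n33568 := ndS (p := 15749) (l := 6) rfl N15749 D33568
theorem N17642 : nd 17642 = n33569 := ndS (p := 15749) (l := 8) rfl N15749 D33569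
theorem N17643 : nd 17643 = n33570 := ndS (p := 15751) (l := 6) rfl N15751 D33570
theorem N17644 : nd 17644 = n33571 := ndS (p := 15752) (l := 5) rfl N15752 D33571
theorem N17645 : nd 17645 = n33572 := ndS (p := 15752) (l := 7) rfl N15752 D33572
theorem N17646 : nd 17646 = n33573 := ndS (p := 15753) (l := 4) rfl N15753 D33573
theorem N17647 : nd 17647 = n33574 := ndS (p := 15753) (l := 7) rfl N15753 D33574
theorem N17648 : nd 17648 = n33575 := ndS (p := 15753) (l := 8) rfl N15753 D33575
theorem N17649 : nd 17649 = n33576 := ndS (p := 15755) (l := 7) rfl N15755 D33576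
theorem N17650 : nd 17650 = n33577 := ndS (p := 15755) (l := 8) rfl N15755 D33577
theorem N17651 : nd 17651 = n33578 := ndS (p := 15756) (l := 6) rfl N15756 D33578
theorem N17652 : nd 17652 = n33579 := ndS (p := 15756) (l := 8) rfl N15756 D33579
theorem N17653 : nd 17653 = n33580 := ndS (p := 15757) (l := 9) rfl N15757 D33580
theorem N17654 : nd 17654 = n33581 := ndS (p := 15758) (l := 8) rfl N15758 D33581
theorem N17655 : nd 17655 = n33582 := ndS (p := 15759) (l := 9) rfl N15759 D33582
theorem N17656 : nd 17656 = n33583 := ndS (p := 15761) (l := 0) rfl N15761 D33583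
theorem N17657 : nd 17657 = n33584 := ndS (p := 15761) (l := 6) rfl N15761 D33584
theorem N17658 : nd 17658 = n33585 := ndS (p := 15762) (l := 5) rfl N15762 D33585
theorem N17659 : nd 17659 = n33586 := ndS (p := 15762) (l := 7) rfl N15762 D33586
theorem N17660 : nd 17660 = n33587 := ndS (p := 15763) (l := 4) rfl N15763 D33587
theorem N17661 : nd 17661 = n33588 := ndS (p := 15763) (l := 7) rfl N15763 D33588
theorem N17662 : nd 17662 = n33589 := ndS (p := 15763) (l := 8) rfl N15763 D33589
theorem N17663 : nd 17663 = n33590 := ndS (p := 15765) (l := 6) rfl N15765 D33590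
theorem N17664 : nd 17664 = n33591 := ndS (p := 15765) (l := 8) rfl N15765 D33591
theorem N17665 : nd 17665 = n33592 := ndS (p := 15766) (l := 9) rfl N15766 D33592
theorem N17666 : nd 17666 = n33593 := ndS (p := 15767) (l := 4) rfl N15767 D33593
theorem N17667 : nd 17667 = n33594 := ndS (p := 15767) (l := 7) rfl N15767 D33594
theorem N17668 : nd 17668 = n33595 := ndS (p := 15769) (l := 7) rfl N15769 D33595
theorem N17669 : nd 17669 = n33596 := ndS (p := 15769) (l := 8) rfl N15769 D33596
theorem N17670 : nd 17670 = n33597 := ndS (p := 15770) (l := 6) rfl N15770 D33597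
theorem N17671 : nd 17671 = n33598 := ndS (p := 15770) (l := 8) rfl N15770 D33598
theorem N17672 : nd 17672 = n33599 := ndS (p := 15771) (l := 9) rfl N15771 D33599
theorem N17673 : nd 17673 = n33600 := ndS (p := 15772) (l := 8) rfl N15772 D33600
theorem N17674 : nd 17674 = n33601 := ndS (p := 15773) (l := 9) rfl N15773 D33601
theorem N17675 : nd 17675 = n33602 := ndS (p := 15775) (l := 4) rfl N15775 D33602
theorem N17676 : nd 17676 = n33603 := ndS (p := 15775) (l := 7) rfl N15775 D33603
theorem N17677 : nd 17677 = n33604 := ndS (p := 15775) (l := 8) rfl N15775 D33604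
theorem N17678 : nd 17678 = n33605 := ndS (p := 15777) (l := 7) rfl N15777 D33605
theorem N17679 : nd 17679 = n33606 := ndS (p := 15777) (l := 8) rfl N15777 D33606
theorem N17680 : nd 17680 = n33607 := ndS (p := 15778) (l := 6) rfl N15778 D33607
theorem N17681 : nd 17681 = n33608 := ndS (p := 15778) (l := 8) rfl N15778 D33608
theorem N17682 : nd 17682 = n33609 := ndS (p := 15779) (l := 9) rfl N15779 D33609
theorem N17683 : nd 17683 = n33610 := ndS (p := 15780) (l := 8) rfl N15780 D33610
theorem N17684 : nd 17684 = n33611 := ndS (p := 15781) (l := 9) rfl N15781 D33611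
theorem N17685 : nd 17685 = n33612 := ndS (p := 15783) (l := 5) rfl N15783 D33612
theorem N17686 : nd 17686 = n33613 := ndS (p := 15783) (l := 7) rfl N15783 D33613
theorem N17687 : nd 17687 = n33614 := ndS (p := 15784) (l := 4) rfl N15784 D33614
theorem N17688 : nd 17688 = n33615 := ndS (p := 15784) (l := 7) rfl N15784 D33615
theorem N17689 : nd 17689 = n33616 := ndS (p := 15784) (l := 8) rfl N15784 D33616
theorem N17690 : nd 17690 = n33617 := ndS (p := 15786) (l := 3) rfl N15786 D33617
theorem N17691 : nd 17691 = n33618 := ndS (p := 15786) (l := 7) rfl N15786 D33618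
theorem N17692 : nd 17692 = n33619 := ndS (p := 15786) (l := 8) rfl N15786 D33619
theorem N17693 : nd 17693 = n33620 := ndS (p := 15787) (l := 6) rfl N15787 D33620
theorem N17694 : nd 17694 = n33621 := ndS (p := 15787) (l := 8) rfl N15787 D33621
theorem N17695 : nd 17695 = n33622 := ndS (p := 15788) (l := 9) rfl N15788 D33622
theorem N17696 : nd 17696 = n33623 := ndS (p := 15789) (l := 6) rfl N15789 D33623
theorem N17697 : nd 17697 = n33624 := ndS (p := 15789) (l := 8) rfl N15789 D33624
theorem N17698 : nd 17698 = n33625 := ndS (p := 15790) (l := 5) rfl N15790 D33625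
theorem N17699 : nd 17699 = n33626 := ndS (p := 15790) (l := 9) rfl N15790 D33626
theorem N17700 : nd 17700 = n33627 := ndS (p := 15791) (l := 8) rfl N15791 D33627
theorem N17701 : nd 17701 = n33628 := ndS (p := 15792) (l := 9) rfl N15792 D33628
theorem N17702 : nd 17702 = n33629 := ndS (p := 15794) (l := 5) rfl N15794 D33629
theorem N17703 : nd 17703 = n33630 := ndS (p := 15794) (l := 9) rfl N15794 D33630
theorem N17704 : nd 17704 = n33631 := ndS (p := 15796) (l := 6) rfl N15796 D33631
theorem N17705 : nd 17705 = n33632 := ndS (p := 15796) (l := 8) rfl N15796 D33632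
theorem N17706 : nd 17706 = n33633 := ndS (p := 15797) (l := 5) rfl N15797 D33633
theorem N17707 : nd 17707 = n33634 := ndS (p := 15798) (l := 8) rfl N15798 D33634
theorem N17708 : nd 17708 = n33635 := ndS (p := 15799) (l := 9) rfl N15799 D33635
theorem N17709 : nd 17709 = n33636 := ndS (p := 15801) (l := 5) rfl N15801 D33636
theorem N17710 : nd 17710 = n33637 := ndS (p := 15804) (l := 7) rfl N15804 D33637
theorem N17711 : nd 17711 = n33638 := ndS (p := 15805) (l := 8) rfl N15805 D33638
theorem N17712 : nd 17712 = n33639 := ndS (p := 15807) (l := 8) rfl N15807 D33639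
theorem N17713 : nd 17713 = n33640 := ndS (p := 15808) (l := 5) rfl N15808 D33640
theorem N17714 : nd 17714 = n33641 := ndS (p := 15809) (l := 9) rfl N15809 D33641
theorem N17715 : nd 17715 = n33642 := ndS (p := 15811) (l := 5) rfl N15811 D33642
theorem N17716 : nd 17716 = n33643 := ndS (p := 15812) (l := 6) rfl N15812 D33643
theorem N17717 : nd 17717 = n33644 := ndS (p := 15813) (l := 5) rfl N15813 D33644
theorem N17718 : nd 17718 = n33645 := ndS (p := 15816) (l := 6) rfl N15816 D33645
theorem N17719 : nd 17719 = n33646 := ndS (p := 15817) (l := 7) rfl N15817 D33646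
theorem N17720 : nd 17720 = n33647 := ndS (p := 15818) (l := 6) rfl N15818 D33647
theorem N17721 : nd 17721 = n33648 := ndS (p := 15819) (l := 5) rfl N15819 D33648
theorem N17722 : nd 17722 = n33649 := ndS (p := 15819) (l := 7) rfl N15819 D33649
theorem N17723 : nd 17723 = n33650 := ndS (p := 15820) (l := 4) rfl N15820 D33650
theorem N17724 : nd 17724 = n33651 := ndS (p := 15820) (l := 7) rfl N15820 D33651
theorem N17725 : nd 17725 = n33652 := ndS (p := 15820) (l := 8) rfl N15820 D33652
theorem N17726 : nd 17726 = n33653 := ndS (p := 15822) (l := 7) rfl N15822 D33653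
theorem N17727 : nd 17727 = n33654 := ndS (p := 15822) (l := 8) rfl N15822 D33654
theorem N17728 : nd 17728 = n33655 := ndS (p := 15823) (l := 6) rfl N15823 D33655
theorem N17729 : nd 17729 = n33656 := ndS (p := 15823) (l := 8) rfl N15823 D33656
theorem N17730 : nd 17730 = n33657 := ndS (p := 15824) (l := 9) rfl N15824 D33657
theorem N17731 : nd 17731 = n33658 := ndS (p := 15825) (l := 8) rfl N15825 D33658
theorem N17732 : nd 17732 = n33659 := ndS (p := 15826) (l := 9) rfl N15826 D33659
theorem N17733 : nd 17733 = n33660 := ndS (p := 15828) (l := 7) rfl N15828 D33660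
theorem N17734 : nd 17734 = n33661 := ndS (p := 15829) (l := 4) rfl N15829 D33661
theorem N17735 : nd 17735 = n33662 := ndS (p := 15829) (l := 7) rfl N15829 D33662
theorem N17736 : nd 17736 = n33663 := ndS (p := 15831) (l := 7) rfl N15831 D33663
theorem N17737 : nd 17737 = n33664 := ndS (p := 15831) (l := 8) rfl N15831 D33664
theorem N17738 : nd 17738 = n33665 := ndS (p := 15832) (l := 6) rfl N15832 D33665
theorem N17739 : nd 17739 = n33666 := ndS (p := 15832) (l := 8) rfl N15832 D33666
theorem N17740 : nd 17740 = n33667 := ndS (p := 15834) (l := 8) rfl N15834 D33667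
theorem N17741 : nd 17741 = n33668 := ndS (p := 15836) (l := 4) rfl N15836 D33668
theorem N17742 : nd 17742 = n33669 := ndS (p := 15836) (l := 7) rfl N15836 D33669
theorem N17743 : nd 17743 = n33670 := ndS (p := 15836) (l := 8) rfl N15836 D33670
theorem N17744 : nd 17744 = n33671 := ndS (p := 15838) (l := 7) rfl N15838 D33671
theorem N17745 : nd 17745 = n33672 := ndS (p := 15838) (l := 8) rfl N15838 D33672
theorem N17746 : nd 17746 = n33673 := ndS (p := 15839) (l := 6) rfl N15839 D33673
theorem N17747 : nd 17747 = n33674 := ndS (p := 15839) (l := 8) rfl N15839 D33674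
theorem N17748 : nd 17748 = n33675 := ndS (p := 15840) (l := 9) rfl N15840 D33675
theorem N17749 : nd 17749 = n33676 := ndS (p := 15841) (l := 8) rfl N15841 D33676
theorem N17750 : nd 17750 = n33677 := ndS (p := 15842) (l := 9) rfl N15842 D33677
theorem N17751 : nd 17751 = n33678 := ndS (p := 15844) (l := 5) rfl N15844 D33678
theorem N17752 : nd 17752 = n33679 := ndS (p := 15844) (l := 7) rfl N15844 D33679
theorem N17753 : nd 17753 = n33680 := ndS (p := 15845) (l := 4) rfl N15845 D33680
theorem N17754 : nd 17754 = n33681 := ndS (p := 15845) (l := 7) rfl N15845 D33681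
theorem N17755 : nd 17755 = n33682 := ndS (p := 15845) (l := 8) rfl N15845 D33682
theorem N17756 : nd 17756 = n33683 := ndS (p := 15847) (l := 3) rfl N15847 D33683
theorem N17757 : nd 17757 = n33684 := ndS (p := 15847) (l := 7) rfl N15847 D33684
theorem N17758 : nd 17758 = n33685 := ndS (p := 15847) (l := 8) rfl N15847 D33685
theorem N17759 : nd 17759 = n33686 := ndS (p := 15848) (l := 6) rfl N15848 D33686
theorem N17760 : nd 17760 = n33687 := ndS (p := 15848) (l := 8) rfl N15848 D33687
theorem N17761 : nd 17761 = n33688 := ndS (p := 15849) (l := 9) rfl N15849 D33688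
theorem N17762 : nd 17762 = n33689 := ndS (p := 15850) (l := 6) rfl N15850 D33689
theorem N17763 : nd 17763 = n33690 := ndS (p := 15850) (l := 8) rfl N15850 D33690
theorem N17764 : nd 17764 = n33691 := ndS (p := 15851) (l := 5) rfl N15851 D33691
theorem N17765 : nd 17765 = n33692 := ndS (p := 15851) (l := 9) rfl N15851 D33692
theorem N17766 : nd 17766 = n33693 := ndS (p := 15852) (l := 8) rfl N15852 D33693
theorem N17767 : nd 17767 = n33694 := ndS (p := 15853) (l := 9) rfl N15853 D33694
theorem N17768 : nd 17768 = n33695 := ndS (p := 15855) (l := 5) rfl N15855 D33695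
theorem N17769 : nd 17769 = n33696 := ndS (p := 15855) (l := 9) rfl N15855 D33696
theorem N17770 : nd 17770 = n33697 := ndS (p := 15857) (l := 6) rfl N15857 D33697
theorem N17771 : nd 17771 = n33698 := ndS (p := 15858) (l := 5) rfl N15858 D33698
theorem N17772 : nd 17772 = n33699 := ndS (p := 15858) (l := 7) rfl N15858 D33699
theorem N17773 : nd 17773 = n33700 := ndS (p := 15859) (l := 4) rfl N15859 D33700
theorem N17774 : nd 17774 = n33701 := ndS (p := 15859) (l := 7) rfl N15859 D33701
theorem N17775 : nd 17775 = n33702 := ndS (p := 15859) (l := 8) rfl N15859 D33702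
theorem N17776 : nd 17776 = n33703 := ndS (p := 15861) (l := 7) rfl N15861 D33703
theorem N17777 : nd 17777 = n33704 := ndS (p := 15861) (l := 8) rfl N15861 D33704
theorem N17778 : nd 17778 = n33705 := ndS (p := 15862) (l := 6) rfl N15862 D33705
theorem N17779 : nd 17779 = n33706 := ndS (p := 15862) (l := 8) rfl N15862 D33706
theorem N17780 : nd 17780 = n33707 := ndS (p := 15863) (l := 9) rfl N15863 D33707
theorem N17781 : nd 17781 = n33708 := ndS (p := 15864) (l := 8) rfl N15864 D33708
theorem N17782 : nd 17782 = n33709 := ndS (p := 15865) (l := 9) rfl N15865 D33709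
theorem N17783 : nd 17783 = n33710 := ndS (p := 15867) (l := 3) rfl N15867 D33710
theorem N17784 : nd 17784 = n33711 := ndS (p := 15867) (l := 7) rfl N15867 D33711
theorem N17785 : nd 17785 = n33712 := ndS (p := 15868) (l := 6) rfl N15868 D33712
theorem N17786 : nd 17786 = n33713 := ndS (p := 15869) (l := 6) rfl N15869 D33713
theorem N17787 : nd 17787 = n33714 := ndS (p := 15869) (l := 8) rfl N15869 D33714
theorem N17788 : nd 17788 = n33715 := ndS (p := 15870) (l := 5) rfl N15870 D33715
theorem N17789 : nd 17789 = n33716 := ndS (p := 15870) (l := 9) rfl N15870 D33716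
theorem N17790 : nd 17790 = n33717 := ndS (p := 15871) (l := 8) rfl N15871 D33717
theorem N17791 : nd 17791 = n33718 := ndS (p := 15872) (l := 9) rfl N15872 D33718
theorem N17792 : nd 17792 = n33719 := ndS (p := 15874) (l := 5) rfl N15874 D33719
theorem N17793 : nd 17793 = n33720 := ndS (p := 15874) (l := 9) rfl N15874 D33720
theorem N17794 : nd 17794 = n33721 := ndS (p := 15876) (l := 3) rfl N15876 D33721
theorem N17795 : nd 17795 = n33722 := ndS (p := 15876) (l := 7) rfl N15876 D33722
theorem N17796 : nd 17796 = n33723 := ndS (p := 15876) (l := 8) rfl N15876 D33723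
theorem N17797 : nd 17797 = n33724 := ndS (p := 15877) (l := 6) rfl N15877 D33724
theorem N17798 : nd 17798 = n33725 := ndS (p := 15877) (l := 8) rfl N15877 D33725
theorem N17799 : nd 17799 = n33726 := ndS (p := 15878) (l := 9) rfl N15878 D33726
theorem N17800 : nd 17800 = n33727 := ndS (p := 15879) (l := 6) rfl N15879 D33727
theorem N17801 : nd 17801 = n33728 := ndS (p := 15879) (l := 8) rfl N15879 D33728
theorem N17802 : nd 17802 = n33729 := ndS (p := 15880) (l := 5) rfl N15880 D33729
theorem N17803 : nd 17803 = n33730 := ndS (p := 15880) (l := 9) rfl N15880 D33730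
theorem N17804 : nd 17804 = n33731 := ndS (p := 15881) (l := 8) rfl N15881 D33731
theorem N17805 : nd 17805 = n33732 := ndS (p := 15882) (l := 9) rfl N15882 D33732
theorem N17806 : nd 17806 = n33733 := ndS (p := 15884) (l := 5) rfl N15884 D33733
theorem N17807 : nd 17807 = n33734 := ndS (p := 15884) (l := 9) rfl N15884 D33734
theorem N17808 : nd 17808 = n33735 := ndS (p := 15886) (l := 4) rfl N15886 D33735
theorem N17809 : nd 17809 = n33736 := ndS (p := 15886) (l := 8) rfl N15886 D33736
theorem N17810 : nd 17810 = n33737 := ndS (p := 15887) (l := 3) rfl N15887 D33737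
theorem N17811 : nd 17811 = n33738 := ndS (p := 15887) (l := 7) rfl N15887 D33738
theorem N17812 : nd 17812 = n33739 := ndS (p := 15887) (l := 8) rfl N15887 D33739
theorem N17813 : nd 17813 = n33740 := ndS (p := 15888) (l := 6) rfl N15888 D33740
theorem N17814 : nd 17814 = n33741 := ndS (p := 15888) (l := 8) rfl N15888 D33741
theorem N17815 : nd 17815 = n33742 := ndS (p := 15889) (l := 9) rfl N15889 D33742
theorem N17816 : nd 17816 = n33743 := ndS (p := 15890) (l := 7) rfl N15890 D33743
theorem N17817 : nd 17817 = n33744 := ndS (p := 15890) (l := 8) rfl N15890 D33744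
theorem N17818 : nd 17818 = n33745 := ndS (p := 15891) (l := 6) rfl N15891 D33745
theorem N17819 : nd 17819 = n33746 := ndS (p := 15891) (l := 8) rfl N15891 D33746
theorem N17820 : nd 17820 = n33747 := ndS (p := 15892) (l := 5) rfl N15892 D33747
theorem N17821 : nd 17821 = n33748 := ndS (p := 15892) (l := 9) rfl N15892 D33748
theorem N17822 : nd 17822 = n33749 := ndS (p := 15893) (l := 8) rfl N15893 D33749
theorem N17823 : nd 17823 = n33750 := ndS (p := 15894) (l := 9) rfl N15894 D33750
theorem N17824 : nd 17824 = n33751 := ndS (p := 15896) (l := 5) rfl N15896 D33751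
theorem N17825 : nd 17825 = n33752 := ndS (p := 15896) (l := 8) rfl N15896 D33752
theorem N17826 : nd 17826 = n33753 := ndS (p := 15897) (l := 5) rfl N15897 D33753
theorem N17827 : nd 17827 = n33754 := ndS (p := 15897) (l := 9) rfl N15897 D33754
theorem N17828 : nd 17828 = n33755 := ndS (p := 15898) (l := 6) rfl N15898 D33755
theorem N17829 : nd 17829 = n33756 := ndS (p := 15900) (l := 5) rfl N15900 D33756
theorem N17830 : nd 17830 = n33757 := ndS (p := 15900) (l := 9) rfl N15900 D33757
theorem N17831 : nd 17831 = n33758 := ndS (p := 15902) (l := 4) rfl N15902 D33758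
theorem N17832 : nd 17832 = n33759 := ndS (p := 15904) (l := 5) rfl N15904 D33759
theorem N17833 : nd 17833 = n33760 := ndS (p := 15905) (l := 5) rfl N15905 D33760
theorem N17834 : nd 17834 = n33761 := ndS (p := 15907) (l := 5) rfl N15907 D33761
theorem N17835 : nd 17835 = n33762 := ndS (p := 15909) (l := 4) rfl N15909 D33762
theorem N17836 : nd 17836 = n33763 := ndS (p := 15909) (l := 9) rfl N15909 D33763
theorem N17837 : nd 17837 = n33764 := ndS (p := 15913) (l := 8) rfl N15913 D33764
theorem N17838 : nd 17838 = n33765 := ndS (p := 15914) (l := 5) rfl N15914 D33765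
theorem N17839 : nd 17839 = n33766 := ndS (p := 15915) (l := 9) rfl N15915 D33766
theorem N17840 : nd 17840 = n33767 := ndS (p := 15917) (l := 5) rfl N15917 D33767
theorem N17841 : nd 17841 = n33768 := ndS (p := 15918) (l := 5) rfl N15918 D33768
theorem N17842 : nd 17842 = n33769 := ndS (p := 15919) (l := 6) rfl N15919 D33769
theorem N17843 : nd 17843 = n33770 := ndS (p := 15920) (l := 5) rfl N15920 D33770
theorem N17844 : nd 17844 = n33771 := ndS (p := 15922) (l := 8) rfl N15922 D33771
theorem N17845 : nd 17845 = n33772 := ndS (p := 15923) (l := 6) rfl N15923 D33772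
theorem N17846 : nd 17846 = n33773 := ndS (p := 15924) (l := 7) rfl N15924 D33773
theorem N17847 : nd 17847 = n33774 := ndS (p := 15925) (l := 4) rfl N15925 D33774
theorem N17848 : nd 17848 = n33775 := ndS (p := 15926) (l := 3) rfl N15926 D33775
theorem N17849 : nd 17849 = n33776 := ndS (p := 15928) (l := 7) rfl N15928 D33776
theorem N17850 : nd 17850 = n33777 := ndS (p := 15929) (l := 9) rfl N15929 D33777
theorem N17851 : nd 17851 = n33778 := ndS (p := 15934) (l := 6) rfl N15934 D33778
theorem N17852 : nd 17852 = n33779 := ndS (p := 15935) (l := 8) rfl N15935 D33779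
theorem N17853 : nd 17853 = n33780 := ndS (p := 15938) (l := 6) rfl N15938 D33780
theorem N17854 : nd 17854 = n33781 := ndS (p := 15941) (l := 3) rfl N15941 D33781
theorem N17855 : nd 17855 = n33782 := ndS (p := 15941) (l := 7) rfl N15941 D33782
theorem N17856 : nd 17856 = n33783 := ndS (p := 15941) (l := 8) rfl N15941 D33783
theorem N17857 : nd 17857 = n33784 := ndS (p := 15942) (l := 6) rfl N15942 D33784
theorem N17858 : nd 17858 = n33785 := ndS (p := 15942) (l := 8) rfl N15942 D33785
theorem N17859 : nd 17859 = n33786 := ndS (p := 15943) (l := 9) rfl N15943 D33786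
theorem N17860 : nd 17860 = n33787 := ndS (p := 15944) (l := 6) rfl N15944 D33787
theorem N17861 : nd 17861 = n33788 := ndS (p := 15944) (l := 8) rfl N15944 D33788
theorem N17862 : nd 17862 = n33789 := ndS (p := 15946) (l := 8) rfl N15946 D33789
theorem N17863 : nd 17863 = n33790 := ndS (p := 15947) (l := 9) rfl N15947 D33790
theorem N17864 : nd 17864 = n33791 := ndS (p := 15949) (l := 5) rfl N15949 D33791
theorem N17865 : nd 17865 = n33792 := ndS (p := 15949) (l := 9) rfl N15949 D33792
theorem N17866 : nd 17866 = n33793 := ndS (p := 15952) (l := 3) rfl N15952 D33793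
theorem N17867 : nd 17867 = n33794 := ndS (p := 15952) (l := 7) rfl N15952 D33794
theorem N17868 : nd 17868 = n33795 := ndS (p := 15952) (l := 8) rfl N15952 D33795
theorem N17869 : nd 17869 = n33796 := ndS (p := 15953) (l := 6) rfl N15953 D33796
theorem N17870 : nd 17870 = n33797 := ndS (p := 15953) (l := 8) rfl N15953 D33797
theorem N17871 : nd 17871 = n33798 := ndS (p := 15954) (l := 9) rfl N15954 D33798
theorem N17872 : nd 17872 = n33799 := ndS (p := 15955) (l := 7) rfl N15955 D33799
theorem N17873 : nd 17873 = n33800 := ndS (p := 15955) (l := 8) rfl N15955 D33800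
theorem N17874 : nd 17874 = n33801 := ndS (p := 15956) (l := 6) rfl N15956 D33801
theorem N17875 : nd 17875 = n33802 := ndS (p := 15956) (l := 8) rfl N15956 D33802
theorem N17876 : nd 17876 = n33803 := ndS (p := 15957) (l := 9) rfl N15957 D33803
theorem N17877 : nd 17877 = n33804 := ndS (p := 15958) (l := 8) rfl N15958 D33804
theorem N17878 : nd 17878 = n33805 := ndS (p := 15959) (l := 9) rfl N15959 D33805
theorem N17879 : nd 17879 = n33806 := ndS (p := 15961) (l := 5) rfl N15961 D33806
theorem N17880 : nd 17880 = n33807 := ndS (p := 15961) (l := 8) rfl N15961 D33807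
theorem N17881 : nd 17881 = n33808 := ndS (p := 15962) (l := 9) rfl N15962 D33808
theorem N17882 : nd 17882 = n33809 := ndS (p := 15965) (l := 9) rfl N15965 D33809
theorem N17883 : nd 17883 = n33810 := ndS (p := 15967) (l := 4) rfl N15967 D33810
theorem N17884 : nd 17884 = n33811 := ndS (p := 15967) (l := 9) rfl N15967 D33811
theorem N17885 : nd 17885 = n33812 := ndS (p := 15969) (l := 7) rfl N15969 D33812
theorem N17886 : nd 17886 = n33813 := ndS (p := 15970) (l := 4) rfl N15970 D33813
theorem N17887 : nd 17887 = n33814 := ndS (p := 15970) (l := 7) rfl N15970 D33814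
theorem N17888 : nd 17888 = n33815 := ndS (p := 15972) (l := 3) rfl N15972 D33815
theorem N17889 : nd 17889 = n33816 := ndS (p := 15972) (l := 7) rfl N15972 D33816
theorem N17890 : nd 17890 = n33817 := ndS (p := 15973) (l := 6) rfl N15973 D33817
theorem N17891 : nd 17891 = n33818 := ndS (p := 15973) (l := 8) rfl N15973 D33818
theorem N17892 : nd 17892 = n33819 := ndS (p := 15975) (l := 6) rfl N15975 D33819
theorem N17893 : nd 17893 = n33820 := ndS (p := 15976) (l := 8) rfl N15976 D33820
theorem N17894 : nd 17894 = n33821 := ndS (p := 15978) (l := 5) rfl N15978 D33821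
theorem N17895 : nd 17895 = n33822 := ndS (p := 15978) (l := 9) rfl N15978 D33822
theorem N17896 : nd 17896 = n33823 := ndS (p := 15980) (l := 7) rfl N15980 D33823
theorem N17897 : nd 17897 = n33824 := ndS (p := 15981) (l := 6) rfl N15981 D33824
theorem N17898 : nd 17898 = n33825 := ndS (p := 15983) (l := 5) rfl N15983 D33825
theorem N17899 : nd 17899 = n33826 := ndS (p := 15984) (l := 4) rfl N15984 D33826
theorem N17900 : nd 17900 = n33827 := ndS (p := 15986) (l := 7) rfl N15986 D33827
theorem N17901 : nd 17901 = n33828 := ndS (p := 15986) (l := 8) rfl N15986 D33828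
theorem N17902 : nd 17902 = n33829 := ndS (p := 15987) (l := 6) rfl N15987 D33829
theorem N17903 : nd 17903 = n33830 := ndS (p := 15987) (l := 8) rfl N15987 D33830
theorem N17904 : nd 17904 = n33831 := ndS (p := 15988) (l := 9) rfl N15988 D33831
theorem N17905 : nd 17905 = n33832 := ndS (p := 15989) (l := 8) rfl N15989 D33832
theorem N17906 : nd 17906 = n33833 := ndS (p := 15990) (l := 9) rfl N15990 D33833
theorem N17907 : nd 17907 = n33834 := ndS (p := 15992) (l := 5) rfl N15992 D33834
theorem N17908 : nd 17908 = n33835 := ndS (p := 15992) (l := 8) rfl N15992 D33835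
theorem N17909 : nd 17909 = n33836 := ndS (p := 15993) (l := 9) rfl N15993 D33836
theorem N17910 : nd 17910 = n33837 := ndS (p := 15995) (l := 5) rfl N15995 D33837
theorem N17911 : nd 17911 = n33838 := ndS (p := 15995) (l := 9) rfl N15995 D33838
theorem N17912 : nd 17912 = n33839 := ndS (p := 15997) (l := 4) rfl N15997 D33839
theorem N17913 : nd 17913 = n33840 := ndS (p := 15997) (l := 9) rfl N15997 D33840
theorem N17914 : nd 17914 = n33841 := ndS (p := 15999) (l := 2) rfl N15999 D33841
theorem N17915 : nd 17915 = n33842 := ndS (p := 15999) (l := 7) rfl N15999 D33842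
theorem N17916 : nd 17916 = n33843 := ndS (p := 15999) (l := 8) rfl N15999 D33843
theorem N17917 : nd 17917 = n33844 := ndS (p := 16000) (l := 6) rfl N16000 D33844
theorem N17918 : nd 17918 = n33845 := ndS (p := 16000) (l := 8) rfl N16000 D33845
theorem N17919 : nd 17919 = n33846 := ndS (p := 16001) (l := 9) rfl N16001 D33846
theorem N17920 : nd 17920 = n33847 := ndS (p := 16002) (l := 8) rfl N16002 D33847
theorem N17921 : nd 17921 = n33848 := ndS (p := 16003) (l := 9) rfl N16003 D33848
theorem N17922 : nd 17922 = n33849 := ndS (p := 16005) (l := 6) rfl N16005 D33849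
theorem N17923 : nd 17923 = n33850 := ndS (p := 16005) (l := 8) rfl N16005 D33850
theorem N17924 : nd 17924 = n33851 := ndS (p := 16006) (l := 9) rfl N16006 D33851
theorem N17925 : nd 17925 = n33852 := ndS (p := 16007) (l := 5) rfl N16007 D33852
theorem N17926 : nd 17926 = n33853 := ndS (p := 16007) (l := 8) rfl N16007 D33853
theorem N17927 : nd 17927 = n33854 := ndS (p := 16008) (l := 9) rfl N16008 D33854
theorem N17928 : nd 17928 = n33855 := ndS (p := 16010) (l := 5) rfl N16010 D33855
theorem N17929 : nd 17929 = n33856 := ndS (p := 16010) (l := 9) rfl N16010 D33856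
theorem N17930 : nd 17930 = n33857 := ndS (p := 16012) (l := 8) rfl N16012 D33857
theorem N17931 : nd 17931 = n33858 := ndS (p := 16013) (l := 5) rfl N16013 D33858
theorem N17932 : nd 17932 = n33859 := ndS (p := 16013) (l := 9) rfl N16013 D33859
theorem N17933 : nd 17933 = n33860 := ndS (p := 16015) (l := 9) rfl N16015 D33860
theorem N17934 : nd 17934 = n33861 := ndS (p := 16021) (l := 9) rfl N16021 D33861
theorem N17935 : nd 17935 = n33862 := ndS (p := 16024) (l := 4) rfl N16024 D33862
theorem N17936 : nd 17936 = n33863 := ndS (p := 16024) (l := 7) rfl N16024 D33863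
theorem N17937 : nd 17937 = n33864 := ndS (p := 16024) (l := 8) rfl N16024 D33864
theorem N17938 : nd 17938 = n33865 := ndS (p := 16026) (l := 3) rfl N16026 D33865
theorem N17939 : nd 17939 = n33866 := ndS (p := 16026) (l := 7) rfl N16026 D33866
theorem N17940 : nd 17940 = n33867 := ndS (p := 16027) (l := 6) rfl N16027 D33867
theorem N17941 : nd 17941 = n33868 := ndS (p := 16027) (l := 8) rfl N16027 D33868
theorem N17942 : nd 17942 = n33869 := ndS (p := 16029) (l := 7) rfl N16029 D33869
theorem N17943 : nd 17943 = n33870 := ndS (p := 16030) (l := 6) rfl N16030 D33870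
theorem N17944 : nd 17944 = n33871 := ndS (p := 16031) (l := 8) rfl N16031 D33871
theorem N17945 : nd 17945 = n33872 := ndS (p := 16033) (l := 5) rfl N16033 D33872
theorem N17946 : nd 17946 = n33873 := ndS (p := 16034) (l := 5) rfl N16034 D33873
theorem N17947 : nd 17947 = n33874 := ndS (p := 16036) (l := 6) rfl N16036 D33874
theorem N17948 : nd 17948 = n33875 := ndS (p := 16037) (l := 5) rfl N16037 D33875
theorem N17949 : nd 17949 = n33876 := ndS (p := 16038) (l := 8) rfl N16038 D33876
theorem N17950 : nd 17950 = n33877 := ndS (p := 16039) (l := 6) rfl N16039 D33877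
theorem N17951 : nd 17951 = n33878 := ndS (p := 16040) (l := 5) rfl N16040 D33878
theorem N17952 : nd 17952 = n33879 := ndS (p := 16041) (l := 8) rfl N16041 D33879
theorem N17953 : nd 17953 = n33880 := ndS (p := 16043) (l := 7) rfl N16043 D33880
theorem N17954 : nd 17954 = n33881 := ndS (p := 16044) (l := 6) rfl N16044 D33881
theorem N17955 : nd 17955 = n33882 := ndS (p := 16045) (l := 5) rfl N16045 D33882
theorem N17956 : nd 17956 = n33883 := ndS (p := 16046) (l := 5) rfl N16046 D33883
theorem N17957 : nd 17957 = n33884 := ndS (p := 16047) (l := 8) rfl N16047 D33884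
theorem N17958 : nd 17958 = n33885 := ndS (p := 16048) (l := 9) rfl N16048 D33885
theorem N17959 : nd 17959 = n33886 := ndS (p := 16049) (l := 8) rfl N16049 D33886
theorem N17960 : nd 17960 = n33887 := ndS (p := 16050) (l := 8) rfl N16050 D33887
theorem N17961 : nd 17961 = n33888 := ndS (p := 16051) (l := 6) rfl N16051 D33888
theorem N17962 : nd 17962 = n33889 := ndS (p := 16051) (l := 8) rfl N16051 D33889
theorem N17963 : nd 17963 = n33890 := ndS (p := 16053) (l := 8) rfl N16053 D33890
theorem N17964 : nd 17964 = n33891 := ndS (p := 16064) (l := 6) rfl N16064 D33891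
theorem N17965 : nd 17965 = n33892 := ndS (p := 16064) (l := 8) rfl N16064 D33892
theorem N17966 : nd 17966 = n33893 := ndS (p := 16066) (l := 6) rfl N16066 D33893
theorem N17967 : nd 17967 = n33894 := ndS (p := 16066) (l := 8) rfl N16066 D33894
theorem N17968 : nd 17968 = n33895 := ndS (p := 16067) (l := 5) rfl N16067 D33895
theorem N17969 : nd 17969 = n33896 := ndS (p := 16068) (l := 8) rfl N16068 D33896
theorem N17970 : nd 17970 = n33897 := ndS (p := 16071) (l := 5) rfl N16071 D33897
theorem N17971 : nd 17971 = n33898 := ndS (p := 16075) (l := 8) rfl N16075 D33898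
theorem N17972 : nd 17972 = n33899 := ndS (p := 16076) (l := 9) rfl N16076 D33899
theorem N17973 : nd 17973 = n33900 := ndS (p := 16078) (l := 8) rfl N16078 D33900
theorem N17974 : nd 17974 = n33901 := ndS (p := 16079) (l := 5) rfl N16079 D33901
theorem N17975 : nd 17975 = n33902 := ndS (p := 16079) (l := 9) rfl N16079 D33902
theorem N17976 : nd 17976 = n33903 := ndS (p := 16080) (l := 6) rfl N16080 D33903
theorem N17977 : nd 17977 = n33904 := ndS (p := 16080) (l := 9) rfl N16080 D33904
theorem N17978 : nd 17978 = n33905 := ndS (p := 16082) (l := 5) rfl N16082 D33905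
theorem N17979 : nd 17979 = n33906 := ndS (p := 16082) (l := 9) rfl N16082 D33906
theorem N17980 : nd 17980 = n33907 := ndS (p := 16084) (l := 4) rfl N16084 D33907
theorem N17981 : nd 17981 = n33908 := ndS (p := 16084) (l := 9) rfl N16084 D33908
theorem N17982 : nd 17982 = n33909 := ndS (p := 16086) (l := 9) rfl N16086 D33909
theorem N17983 : nd 17983 = n33910 := ndS (p := 16088) (l := 9) rfl N16088 D33910
theorem N17984 : nd 17984 = n33911 := ndS (p := 16092) (l := 5) rfl N16092 D33911
theorem N17985 : nd 17985 = n33912 := ndS (p := 16092) (l := 9) rfl N16092 D33912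
theorem N17986 : nd 17986 = n33913 := ndS (p := 16094) (l := 9) rfl N16094 D33913
theorem N17987 : nd 17987 = n33914 := ndS (p := 16096) (l := 4) rfl N16096 D33914
theorem N17988 : nd 17988 = n33915 := ndS (p := 16096) (l := 9) rfl N16096 D33915
theorem N17989 : nd 17989 = n33916 := ndS (p := 16101) (l := 9) rfl N16101 D33916
theorem N17990 : nd 17990 = n33917 := ndS (p := 16105) (l := 7) rfl N16105 D33917
theorem N17991 : nd 17991 = n33918 := ndS (p := 16106) (l := 7) rfl N16106 D33918
theorem N17992 : nd 17992 = n33919 := ndS (p := 16112) (l := 6) rfl N16112 D33919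
theorem N17993 : nd 17993 = n33920 := ndS (p := 16113) (l := 5) rfl N16113 D33920
theorem N17994 : nd 17994 = n33921 := ndS (p := 16113) (l := 7) rfl N16113 D33921
theorem N17995 : nd 17995 = n33922 := ndS (p := 16114) (l := 4) rfl N16114 D33922
theorem N17996 : nd 17996 = n33923 := ndS (p := 16114) (l := 7) rfl N16114 D33923
theorem N17997 : nd 17997 = n33924 := ndS (p := 16114) (l := 8) rfl N16114 D33924
theorem N17998 : nd 17998 = n33925 := ndS (p := 16116) (l := 7) rfl N16116 D33925
theorem N17999 : nd 17999 = n33926 := ndS (p := 16116) (l := 8) rfl N16116 D33926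
theorem N18000 : nd 18000 = n33927 := ndS (p := 16117) (l := 6) rfl N16117 D33927
theorem N18001 : nd 18001 = n33928 := ndS (p := 16117) (l := 8) rfl N16117 D33928
theorem N18002 : nd 18002 = n33929 := ndS (p := 16118) (l := 9) rfl N16118 D33929
theorem N18003 : nd 18003 = n33930 := ndS (p := 16119) (l := 8) rfl N16119 D33930
theorem N18004 : nd 18004 = n33931 := ndS (p := 16120) (l := 9) rfl N16120 D33931
theorem N18005 : nd 18005 = n33932 := ndS (p := 16123) (l := 8) rfl N16123 D33932
theorem N18006 : nd 18006 = n33933 := ndS (p := 16126) (l := 7) rfl N16126 D33933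
theorem N18007 : nd 18007 = n33934 := ndS (p := 16127) (l := 7) rfl N16127 D33934
theorem N18008 : nd 18008 = n33935 := ndS (p := 16127) (l := 8) rfl N16127 D33935
theorem N18009 : nd 18009 = n33936 := ndS (p := 16129) (l := 7) rfl N16129 D33936
theorem N18010 : nd 18010 = n33937 := ndS (p := 16129) (l := 8) rfl N16129 D33937
theorem N18011 : nd 18011 = n33938 := ndS (p := 16130) (l := 8) rfl N16130 D33938
theorem N18012 : nd 18012 = n33939 := ndS (p := 16131) (l := 9) rfl N16131 D33939
theorem N18013 : nd 18013 = n33940 := ndS (p := 16132) (l := 6) rfl N16132 D33940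
theorem N18014 : nd 18014 = n33941 := ndS (p := 16132) (l := 8) rfl N16132 D33941
theorem N18015 : nd 18015 = n33942 := ndS (p := 16133) (l := 5) rfl N16133 D33942
theorem N18016 : nd 18016 = n33943 := ndS (p := 16133) (l := 9) rfl N16133 D33943
theorem N18017 : nd 18017 = n33944 := ndS (p := 16135) (l := 9) rfl N16135 D33944
theorem N18018 : nd 18018 = n33945 := ndS (p := 16142) (l := 6) rfl N16142 D33945
theorem N18019 : nd 18019 = n33946 := ndS (p := 16145) (l := 7) rfl N16145 D33946
theorem N18020 : nd 18020 = n33947 := ndS (p := 16147) (l := 7) rfl N16147 D33947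
theorem N18021 : nd 18021 = n33948 := ndS (p := 16147) (l := 8) rfl N16147 D33948
theorem N18022 : nd 18022 = n33949 := ndS (p := 16149) (l := 6) rfl N16149 D33949
theorem N18023 : nd 18023 = n33950 := ndS (p := 16149) (l := 8) rfl N16149 D33950
theorem N18024 : nd 18024 = n33951 := ndS (p := 16150) (l := 9) rfl N16150 D33951
theorem N18025 : nd 18025 = n33952 := ndS (p := 16151) (l := 6) rfl N16151 D33952
theorem N18026 : nd 18026 = n33953 := ndS (p := 16151) (l := 8) rfl N16151 D33953
theorem N18027 : nd 18027 = n33954 := ndS (p := 16152) (l := 5) rfl N16152 D33954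
theorem N18028 : nd 18028 = n33955 := ndS (p := 16152) (l := 9) rfl N16152 D33955
theorem N18029 : nd 18029 = n33956 := ndS (p := 16153) (l := 8) rfl N16153 D33956
theorem N18030 : nd 18030 = n33957 := ndS (p := 16154) (l := 9) rfl N16154 D33957
theorem N18031 : nd 18031 = n33958 := ndS (p := 16156) (l := 5) rfl N16156 D33958
theorem N18032 : nd 18032 = n33959 := ndS (p := 16156) (l := 9) rfl N16156 D33959
theorem N18033 : nd 18033 = n33960 := ndS (p := 16159) (l := 8) rfl N16159 D33960
theorem N18034 : nd 18034 = n33961 := ndS (p := 16161) (l := 9) rfl N16161 D33961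
theorem N18035 : nd 18035 = n33962 := ndS (p := 16163) (l := 8) rfl N16163 D33962
theorem N18036 : nd 18036 = n33963 := ndS (p := 16164) (l := 5) rfl N16164 D33963
theorem N18037 : nd 18037 = n33964 := ndS (p := 16164) (l := 9) rfl N16164 D33964
theorem N18038 : nd 18038 = n33965 := ndS (p := 16165) (l := 6) rfl N16165 D33965
theorem N18039 : nd 18039 = n33966 := ndS (p := 16165) (l := 9) rfl N16165 D33966
theorem N18040 : nd 18040 = n33967 := ndS (p := 16167) (l := 5) rfl N16167 D33967
theorem N18041 : nd 18041 = n33968 := ndS (p := 16169) (l := 4) rfl N16169 D33968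
theorem N18042 : nd 18042 = n33969 := ndS (p := 16170) (l := 5) rfl N16170 D33969
theorem N18043 : nd 18043 = n33970 := ndS (p := 16171) (l := 7) rfl N16171 D33970
theorem N18044 : nd 18044 = n33971 := ndS (p := 16172) (l := 4) rfl N16172 D33971
theorem N18045 : nd 18045 = n33972 := ndS (p := 16173) (l := 3) rfl N16173 D33972
theorem N18046 : nd 18046 = n33973 := ndS (p := 16174) (l := 4) rfl N16174 D33973
theorem N18047 : nd 18047 = n33974 := ndS (p := 16175) (l := 3) rfl N16175 D33974
theorem N18048 : nd 18048 = n33975 := ndS (p := 16176) (l := 6) rfl N16176 D33975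
theorem N18049 : nd 18049 = n33976 := ndS (p := 16177) (l := 7) rfl N16177 D33976
theorem N18050 : nd 18050 = n33977 := ndS (p := 16178) (l := 4) rfl N16178 D33977
theorem N18051 : nd 18051 = n33978 := ndS (p := 16180) (l := 3) rfl N16180 D33978
theorem N18052 : nd 18052 = n33979 := ndS (p := 16187) (l := 5) rfl N16187 D33979
theorem N18053 : nd 18053 = n33980 := ndS (p := 16187) (l := 7) rfl N16187 D33980
theorem N18054 : nd 18054 = n33981 := ndS (p := 16188) (l := 4) rfl N16188 D33981
theorem N18055 : nd 18055 = n33982 := ndS (p := 16188) (l := 7) rfl N16188 D33982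
theorem N18056 : nd 18056 = n33983 := ndS (p := 16188) (l := 8) rfl N16188 D33983
theorem N18057 : nd 18057 = n33984 := ndS (p := 16190) (l := 7) rfl N16190 D33984
theorem N18058 : nd 18058 = n33985 := ndS (p := 16190) (l := 8) rfl N16190 D33985
theorem N18059 : nd 18059 = n33986 := ndS (p := 16191) (l := 6) rfl N16191 D33986
theorem N18060 : nd 18060 = n33987 := ndS (p := 16191) (l := 8) rfl N16191 D33987
theorem N18061 : nd 18061 = n33988 := ndS (p := 16192) (l := 9) rfl N16192 D33988
theorem N18062 : nd 18062 = n33989 := ndS (p := 16193) (l := 8) rfl N16193 D33989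
theorem N18063 : nd 18063 = n33990 := ndS (p := 16194) (l := 9) rfl N16194 D33990
theorem N18064 : nd 18064 = n33991 := ndS (p := 16197) (l := 7) rfl N16197 D33991
theorem N18065 : nd 18065 = n33992 := ndS (p := 16197) (l := 8) rfl N16197 D33992
theorem N18066 : nd 18066 = n33993 := ndS (p := 16198) (l := 8) rfl N16198 D33993
theorem N18067 : nd 18067 = n33994 := ndS (p := 16200) (l := 8) rfl N16200 D33994
theorem N18068 : nd 18068 = n33995 := ndS (p := 16201) (l := 9) rfl N16201 D33995
theorem N18069 : nd 18069 = n33996 := ndS (p := 16202) (l := 9) rfl N16202 D33996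
theorem N18070 : nd 18070 = n33997 := ndS (p := 16205) (l := 9) rfl N16205 D33997
theorem N18071 : nd 18071 = n33998 := ndS (p := 16208) (l := 4) rfl N16208 D33998
theorem N18072 : nd 18072 = n33999 := ndS (p := 16209) (l := 7) rfl N16209 D33999
theorem N18073 : nd 18073 = n34000 := ndS (p := 16210) (l := 6) rfl N16210 D34000
theorem N18074 : nd 18074 = n34001 := ndS (p := 16212) (l := 7) rfl N16212 D34001
theorem N18075 : nd 18075 = n34002 := ndS (p := 16213) (l := 6) rfl N16213 D34002
theorem N18076 : nd 18076 = n34003 := ndS (p := 16215) (l := 4) rfl N16215 D34003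
theorem N18077 : nd 18077 = n34004 := ndS (p := 16215) (l := 7) rfl N16215 D34004
theorem N18078 : nd 18078 = n34005 := ndS (p := 16217) (l := 3) rfl N16217 D34005
theorem N18079 : nd 18079 = n34006 := ndS (p := 16217) (l := 7) rfl N16217 D34006
theorem N18080 : nd 18080 = n34007 := ndS (p := 16218) (l := 6) rfl N16218 D34007
theorem N18081 : nd 18081 = n34008 := ndS (p := 16219) (l := 6) rfl N16219 D34008
theorem N18082 : nd 18082 = n34009 := ndS (p := 16219) (l := 8) rfl N16219 D34009
theorem N18083 : nd 18083 = n34010 := ndS (p := 16220) (l := 5) rfl N16220 D34010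
theorem N18084 : nd 18084 = n34011 := ndS (p := 16220) (l := 9) rfl N16220 D34011
theorem N18085 : nd 18085 = n34012 := ndS (p := 16221) (l := 8) rfl N16221 D34012
theorem N18086 : nd 18086 = n34013 := ndS (p := 16222) (l := 9) rfl N16222 D34013
theorem N18087 : nd 18087 = n34014 := ndS (p := 16224) (l := 9) rfl N16224 D34014
theorem N18088 : nd 18088 = n34015 := ndS (p := 16226) (l := 5) rfl N16226 D34015
theorem N18089 : nd 18089 = n34016 := ndS (p := 16226) (l := 9) rfl N16226 D34016
theorem N18090 : nd 18090 = n34017 := ndS (p := 16227) (l := 6) rfl N16227 D34017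
theorem N18091 : nd 18091 = n34018 := ndS (p := 16227) (l := 9) rfl N16227 D34018
theorem N18092 : nd 18092 = n34019 := ndS (p := 16230) (l := 6) rfl N16230 D34019
theorem N18093 : nd 18093 = n34020 := ndS (p := 16230) (l := 9) rfl N16230 D34020
theorem N18094 : nd 18094 = n34021 := ndS (p := 16232) (l := 7) rfl N16232 D34021
theorem N18095 : nd 18095 = n34022 := ndS (p := 16232) (l := 9) rfl N16232 D34022
theorem N18096 : nd 18096 = n34023 := ndS (p := 16234) (l := 3) rfl N16234 D34023
theorem N18097 : nd 18097 = n34024 := ndS (p := 16234) (l := 9) rfl N16234 D34024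
theorem N18098 : nd 18098 = n34025 := ndS (p := 16235) (l := 8) rfl N16235 D34025
theorem N18099 : nd 18099 = n34026 := ndS (p := 16236) (l := 3) rfl N16236 D34026
theorem N18100 : nd 18100 = n34027 := ndS (p := 16236) (l := 7) rfl N16236 D34027
theorem N18101 : nd 18101 = n34028 := ndS (p := 16237) (l := 6) rfl N16237 D34028
theorem N18102 : nd 18102 = n34029 := ndS (p := 16238) (l := 7) rfl N16238 D34029
theorem N18103 : nd 18103 = n34030 := ndS (p := 16239) (l := 6) rfl N16239 D34030
theorem N18104 : nd 18104 = n34031 := ndS (p := 16241) (l := 5) rfl N16241 D34031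
theorem N18105 : nd 18105 = n34032 := ndS (p := 16243) (l := 2) rfl N16243 D34032
theorem N18106 : nd 18106 = n34033 := ndS (p := 16246) (l := 5) rfl N16246 D34033
theorem N18107 : nd 18107 = n34034 := ndS (p := 16247) (l := 3) rfl N16247 D34034
theorem N18108 : nd 18108 = n34035 := ndS (p := 16248) (l := 2) rfl N16248 D34035
theorem N18109 : nd 18109 = n34036 := ndS (p := 16248) (l := 7) rfl N16248 D34036
theorem N18110 : nd 18110 = n34037 := ndS (p := 16249) (l := 6) rfl N16249 D34037
theorem N18111 : nd 18111 = n34038 := ndS (p := 16251) (l := 6) rfl N16251 D34038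
theorem N18112 : nd 18112 = n34039 := ndS (p := 16252) (l := 5) rfl N16252 D34039
theorem N18113 : nd 18113 = n34040 := ndS (p := 16253) (l := 8) rfl N16253 D34040
theorem N18114 : nd 18114 = n34041 := ndS (p := 16254) (l := 7) rfl N16254 D34041
theorem N18115 : nd 18115 = n34042 := ndS (p := 16254) (l := 8) rfl N16254 D34042
theorem N18116 : nd 18116 = n34043 := ndS (p := 16255) (l := 6) rfl N16255 D34043
theorem N18117 : nd 18117 = n34044 := ndS (p := 16255) (l := 8) rfl N16255 D34044
theorem N18118 : nd 18118 = n34045 := ndS (p := 16256) (l := 9) rfl N16256 D34045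
theorem N18119 : nd 18119 = n34046 := ndS (p := 16257) (l := 8) rfl N16257 D34046
theorem N18120 : nd 18120 = n34047 := ndS (p := 16258) (l := 9) rfl N16258 D34047
theorem N18121 : nd 18121 = n34048 := ndS (p := 16260) (l := 8) rfl N16260 D34048
theorem N18122 : nd 18122 = n34049 := ndS (p := 16261) (l := 9) rfl N16261 D34049
theorem N18123 : nd 18123 = n34050 := ndS (p := 16263) (l := 5) rfl N16263 D34050
theorem N18124 : nd 18124 = n34051 := ndS (p := 16263) (l := 9) rfl N16263 D34051
theorem N18125 : nd 18125 = n34052 := ndS (p := 16265) (l := 9) rfl N16265 D34052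
theorem N18126 : nd 18126 = n34053 := ndS (p := 16268) (l := 5) rfl N16268 D34053
theorem N18127 : nd 18127 = n34054 := ndS (p := 16268) (l := 7) rfl N16268 D34054
theorem N18128 : nd 18128 = n34055 := ndS (p := 16269) (l := 4) rfl N16269 D34055
theorem N18129 : nd 18129 = n34056 := ndS (p := 16269) (l := 7) rfl N16269 D34056
theorem N18130 : nd 18130 = n34057 := ndS (p := 16271) (l := 7) rfl N16271 D34057
theorem N18131 : nd 18131 = n34058 := ndS (p := 16271) (l := 8) rfl N16271 D34058
theorem N18132 : nd 18132 = n34059 := ndS (p := 16272) (l := 6) rfl N16272 D34059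
theorem N18133 : nd 18133 = n34060 := ndS (p := 16272) (l := 8) rfl N16272 D34060
theorem N18134 : nd 18134 = n34061 := ndS (p := 16273) (l := 9) rfl N16273 D34061
theorem N18135 : nd 18135 = n34062 := ndS (p := 16274) (l := 8) rfl N16274 D34062
theorem N18136 : nd 18136 = n34063 := ndS (p := 16275) (l := 9) rfl N16275 D34063
theorem N18137 : nd 18137 = n34064 := ndS (p := 16277) (l := 4) rfl N16277 D34064
theorem N18138 : nd 18138 = n34065 := ndS (p := 16277) (l := 7) rfl N16277 D34065
theorem N18139 : nd 18139 = n34066 := ndS (p := 16279) (l := 3) rfl N16279 D34066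
theorem N18140 : nd 18140 = n34067 := ndS (p := 16279) (l := 7) rfl N16279 D34067
theorem N18141 : nd 18141 = n34068 := ndS (p := 16280) (l := 6) rfl N16280 D34068
theorem N18142 : nd 18142 = n34069 := ndS (p := 16281) (l := 6) rfl N16281 D34069
theorem N18143 : nd 18143 = n34070 := ndS (p := 16281) (l := 8) rfl N16281 D34070
theorem N18144 : nd 18144 = n34071 := ndS (p := 16282) (l := 9) rfl N16282 D34071
theorem N18145 : nd 18145 = n34072 := ndS (p := 16283) (l := 8) rfl N16283 D34072
theorem N18146 : nd 18146 = n34073 := ndS (p := 16284) (l := 9) rfl N16284 D34073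
theorem N18147 : nd 18147 = n34074 := ndS (p := 16286) (l := 5) rfl N16286 D34074
theorem N18148 : nd 18148 = n34075 := ndS (p := 16286) (l := 9) rfl N16286 D34075
theorem N18149 : nd 18149 = n34076 := ndS (p := 16288) (l := 5) rfl N16288 D34076
theorem N18150 : nd 18150 = n34077 := ndS (p := 16288) (l := 9) rfl N16288 D34077
theorem N18151 : nd 18151 = n34078 := ndS (p := 16290) (l := 4) rfl N16290 D34078
theorem N18152 : nd 18152 = n34079 := ndS (p := 16290) (l := 9) rfl N16290 D34079
theorem N18153 : nd 18153 = n34080 := ndS (p := 16292) (l := 4) rfl N16292 D34080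
theorem N18154 : nd 18154 = n34081 := ndS (p := 16292) (l := 9) rfl N16292 D34081
theorem N18155 : nd 18155 = n34082 := ndS (p := 16294) (l := 3) rfl N16294 D34082
theorem N18156 : nd 18156 = n34083 := ndS (p := 16294) (l := 9) rfl N16294 D34083
theorem N18157 : nd 18157 = n34084 := ndS (p := 16295) (l := 8) rfl N16295 D34084
theorem N18158 : nd 18158 = n34085 := ndS (p := 16296) (l := 5) rfl N16296 D34085
theorem N18159 : nd 18159 = n34086 := ndS (p := 16296) (l := 7) rfl N16296 D34086
theorem N18160 : nd 18160 = n34087 := ndS (p := 16297) (l := 4) rfl N16297 D34087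
theorem N18161 : nd 18161 = n34088 := ndS (p := 16297) (l := 7) rfl N16297 D34088
theorem N18162 : nd 18162 = n34089 := ndS (p := 16297) (l := 8) rfl N16297 D34089
theorem N18163 : nd 18163 = n34090 := ndS (p := 16299) (l := 7) rfl N16299 D34090
theorem N18164 : nd 18164 = n34091 := ndS (p := 16299) (l := 8) rfl N16299 D34091
theorem N18165 : nd 18165 = n34092 := ndS (p := 16300) (l := 6) rfl N16300 D34092
theorem N18166 : nd 18166 = n34093 := ndS (p := 16300) (l := 8) rfl N16300 D34093
theorem N18167 : nd 18167 = n34094 := ndS (p := 16301) (l := 9) rfl N16301 D34094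
theorem N18168 : nd 18168 = n34095 := ndS (p := 16302) (l := 8) rfl N16302 D34095
theorem N18169 : nd 18169 = n34096 := ndS (p := 16303) (l := 9) rfl N16303 D34096
theorem N18170 : nd 18170 = n34097 := ndS (p := 16305) (l := 4) rfl N16305 D34097
theorem N18171 : nd 18171 = n34098 := ndS (p := 16305) (l := 7) rfl N16305 D34098
theorem N18172 : nd 18172 = n34099 := ndS (p := 16305) (l := 8) rfl N16305 D34099
theorem N18173 : nd 18173 = n34100 := ndS (p := 16307) (l := 3) rfl N16307 D34100
theorem N18174 : nd 18174 = n34101 := ndS (p := 16307) (l := 7) rfl N16307 D34101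
theorem N18175 : nd 18175 = n34102 := ndS (p := 16307) (l := 8) rfl N16307 D34102
theorem N18176 : nd 18176 = n34103 := ndS (p := 16308) (l := 6) rfl N16308 D34103
theorem N18177 : nd 18177 = n34104 := ndS (p := 16308) (l := 8) rfl N16308 D34104
theorem N18178 : nd 18178 = n34105 := ndS (p := 16310) (l := 6) rfl N16310 D34105
theorem N18179 : nd 18179 = n34106 := ndS (p := 16310) (l := 8) rfl N16310 D34106
theorem N18180 : nd 18180 = n34107 := ndS (p := 16311) (l := 5) rfl N16311 D34107
theorem N18181 : nd 18181 = n34108 := ndS (p := 16311) (l := 9) rfl N16311 D34108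
theorem N18182 : nd 18182 = n34109 := ndS (p := 16312) (l := 8) rfl N16312 D34109
theorem N18183 : nd 18183 = n34110 := ndS (p := 16313) (l := 9) rfl N16313 D34110
theorem N18184 : nd 18184 = n34111 := ndS (p := 16315) (l := 5) rfl N16315 D34111
theorem N18185 : nd 18185 = n34112 := ndS (p := 16315) (l := 9) rfl N16315 D34112
theorem N18186 : nd 18186 = n34113 := ndS (p := 16317) (l := 3) rfl N16317 D34113
theorem N18187 : nd 18187 = n34114 := ndS (p := 16317) (l := 7) rfl N16317 D34114
theorem N18188 : nd 18188 = n34115 := ndS (p := 16317) (l := 8) rfl N16317 D34115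
theorem N18189 : nd 18189 = n34116 := ndS (p := 16318) (l := 6) rfl N16318 D34116
theorem N18190 : nd 18190 = n34117 := ndS (p := 16318) (l := 8) rfl N16318 D34117
theorem N18191 : nd 18191 = n34118 := ndS (p := 16320) (l := 7) rfl N16320 D34118
theorem N18192 : nd 18192 = n34119 := ndS (p := 16320) (l := 8) rfl N16320 D34119
theorem N18193 : nd 18193 = n34120 := ndS (p := 16321) (l := 6) rfl N16321 D34120
theorem N18194 : nd 18194 = n34121 := ndS (p := 16321) (l := 8) rfl N16321 D34121
theorem N18195 : nd 18195 = n34122 := ndS (p := 16322) (l := 5) rfl N16322 D34122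
theorem N18196 : nd 18196 = n34123 := ndS (p := 16322) (l := 9) rfl N16322 D34123
theorem N18197 : nd 18197 = n34124 := ndS (p := 16323) (l := 8) rfl N16323 D34124
theorem N18198 : nd 18198 = n34125 := ndS (p := 16324) (l := 9) rfl N16324 D34125
theorem N18199 : nd 18199 = n34126 := ndS (p := 16326) (l := 5) rfl N16326 D34126
theorem N18200 : nd 18200 = n34127 := ndS (p := 16326) (l := 8) rfl N16326 D34127
theorem N18201 : nd 18201 = n34128 := ndS (p := 16327) (l := 5) rfl N16327 D34128
theorem N18202 : nd 18202 = n34129 := ndS (p := 16327) (l := 9) rfl N16327 D34129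
theorem N18203 : nd 18203 = n34130 := ndS (p := 16328) (l := 6) rfl N16328 D34130
theorem N18204 : nd 18204 = n34131 := ndS (p := 16328) (l := 9) rfl N16328 D34131
theorem N18205 : nd 18205 = n34132 := ndS (p := 16330) (l := 5) rfl N16330 D34132
theorem N18206 : nd 18206 = n34133 := ndS (p := 16330) (l := 9) rfl N16330 D34133
theorem N18207 : nd 18207 = n34134 := ndS (p := 16332) (l := 4) rfl N16332 D34134
theorem N18208 : nd 18208 = n34135 := ndS (p := 16332) (l := 9) rfl N16332 D34135
theorem N18209 : nd 18209 = n34136 := ndS (p := 16334) (l := 8) rfl N16334 D34136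
theorem N18210 : nd 18210 = n34137 := ndS (p := 16336) (l := 8) rfl N16336 D34137
theorem N18211 : nd 18211 = n34138 := ndS (p := 16337) (l := 5) rfl N16337 D34138
theorem N18212 : nd 18212 = n34139 := ndS (p := 16337) (l := 9) rfl N16337 D34139
theorem N18213 : nd 18213 = n34140 := ndS (p := 16338) (l := 6) rfl N16338 D34140
theorem N18214 : nd 18214 = n34141 := ndS (p := 16338) (l := 9) rfl N16338 D34141
theorem N18215 : nd 18215 = n34142 := ndS (p := 16340) (l := 5) rfl N16340 D34142
theorem N18216 : nd 18216 = n34143 := ndS (p := 16340) (l := 9) rfl N16340 D34143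
theorem N18217 : nd 18217 = n34144 := ndS (p := 16342) (l := 5) rfl N16342 D34144
theorem N18218 : nd 18218 = n34145 := ndS (p := 16342) (l := 9) rfl N16342 D34145
theorem N18219 : nd 18219 = n34146 := ndS (p := 16343) (l := 6) rfl N16343 D34146
theorem N18220 : nd 18220 = n34147 := ndS (p := 16343) (l := 9) rfl N16343 D34147
theorem N18221 : nd 18221 = n34148 := ndS (p := 16345) (l := 7) rfl N16345 D34148
theorem N18222 : nd 18222 = n34149 := ndS (p := 16345) (l := 9) rfl N16345 D34149
theorem N18223 : nd 18223 = n34150 := ndS (p := 16347) (l := 4) rfl N16347 D34150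
theorem N18224 : nd 18224 = n34151 := ndS (p := 16347) (l := 9) rfl N16347 D34151
theorem N18225 : nd 18225 = n34152 := ndS (p := 16349) (l := 3) rfl N16349 D34152
theorem N18226 : nd 18226 = n34153 := ndS (p := 16349) (l := 9) rfl N16349 D34153
theorem N18227 : nd 18227 = n34154 := ndS (p := 16350) (l := 8) rfl N16350 D34154
theorem N18228 : nd 18228 = n34155 := ndS (p := 16351) (l := 5) rfl N16351 D34155
theorem N18229 : nd 18229 = n34156 := ndS (p := 16352) (l := 4) rfl N16352 D34156
theorem N18230 : nd 18230 = n34157 := ndS (p := 16352) (l := 6) rfl N16352 D34157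
theorem N18231 : nd 18231 = n34158 := ndS (p := 16352) (l := 9) rfl N16352 D34158
theorem N18232 : nd 18232 = n34159 := ndS (p := 16354) (l := 7) rfl N16354 D34159
theorem N18233 : nd 18233 = n34160 := ndS (p := 16354) (l := 9) rfl N16354 D34160
theorem N18234 : nd 18234 = n34161 := ndS (p := 16356) (l := 9) rfl N16356 D34161
theorem N18235 : nd 18235 = n34162 := ndS (p := 16358) (l := 3) rfl N16358 D34162
theorem N18236 : nd 18236 = n34163 := ndS (p := 16358) (l := 9) rfl N16358 D34163
theorem N18237 : nd 18237 = n34164 := ndS (p := 16359) (l := 8) rfl N16359 D34164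
theorem N18238 : nd 18238 = n34165 := ndS (p := 16360) (l := 2) rfl N16360 D34165
theorem N18239 : nd 18239 = n34166 := ndS (p := 16360) (l := 9) rfl N16360 D34166
theorem N18240 : nd 18240 = n34167 := ndS (p := 16361) (l := 8) rfl N16361 D34167
theorem N18241 : nd 18241 = n34168 := ndS (p := 16363) (l := 3) rfl N16363 D34168
theorem N18242 : nd 18242 = n34169 := ndS (p := 16363) (l := 7) rfl N16363 D34169
theorem N18243 : nd 18243 = n34170 := ndS (p := 16364) (l := 6) rfl N16364 D34170
theorem N18244 : nd 18244 = n34171 := ndS (p := 16364) (l := 8) rfl N16364 D34171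
theorem N18245 : nd 18245 = n34172 := ndS (p := 16366) (l := 7) rfl N16366 D34172
theorem N18246 : nd 18246 = n34173 := ndS (p := 16367) (l := 6) rfl N16367 D34173
theorem N18247 : nd 18247 = n34174 := ndS (p := 16368) (l := 8) rfl N16368 D34174
theorem N18248 : nd 18248 = n34175 := ndS (p := 16370) (l := 5) rfl N16370 D34175
theorem N18249 : nd 18249 = n34176 := ndS (p := 16371) (l := 5) rfl N16371 D34176
theorem N18250 : nd 18250 = n34177 := ndS (p := 16372) (l := 9) rfl N16372 D34177
theorem N18251 : nd 18251 = n34178 := ndS (p := 16374) (l := 2) rfl N16374 D34178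
theorem N18252 : nd 18252 = n34179 := ndS (p := 16374) (l := 7) rfl N16374 D34179
theorem N18253 : nd 18253 = n34180 := ndS (p := 16375) (l := 6) rfl N16375 D34180
theorem N18254 : nd 18254 = n34181 := ndS (p := 16376) (l := 8) rfl N16376 D34181
theorem N18255 : nd 18255 = n34182 := ndS (p := 16378) (l := 6) rfl N16378 D34182
theorem N18256 : nd 18256 = n34183 := ndS (p := 16378) (l := 8) rfl N16378 D34183
theorem N18257 : nd 18257 = n34184 := ndS (p := 16380) (l := 5) rfl N16380 D34184
theorem N18258 : nd 18258 = n34185 := ndS (p := 16380) (l := 8) rfl N16380 D34185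
theorem N18259 : nd 18259 = n34186 := ndS (p := 16382) (l := 5) rfl N16382 D34186
theorem N18260 : nd 18260 = n34187 := ndS (p := 16382) (l := 9) rfl N16382 D34187
theorem N18261 : nd 18261 = n34188 := ndS (p := 16384) (l := 8) rfl N16384 D34188
theorem N18262 : nd 18262 = n34189 := ndS (p := 16385) (l := 5) rfl N16385 D34189
theorem N18263 : nd 18263 = n34190 := ndS (p := 16386) (l := 4) rfl N16386 D34190
theorem N18264 : nd 18264 = n34191 := ndS (p := 16386) (l := 9) rfl N16386 D34191
theorem N18265 : nd 18265 = n34192 := ndS (p := 16388) (l := 3) rfl N16388 D34192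
theorem N18266 : nd 18266 = n34193 := ndS (p := 16388) (l := 9) rfl N16388 D34193
theorem N18267 : nd 18267 = n34194 := ndS (p := 16389) (l := 8) rfl N16389 D34194
theorem N18268 : nd 18268 = n34195 := ndS (p := 16390) (l := 4) rfl N16390 D34195
theorem N18269 : nd 18269 = n34196 := ndS (p := 16390) (l := 9) rfl N16390 D34196
theorem N18270 : nd 18270 = n34197 := ndS (p := 16392) (l := 3) rfl N16392 D34197
theorem N18271 : nd 18271 = n34198 := ndS (p := 16394) (l := 2) rfl N16394 D34198
theorem N18272 : nd 18272 = n34199 := ndS (p := 16397) (l := 1) rfl N16397 D34199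
theorem N18273 : nd 18273 = n34200 := ndS (p := 16397) (l := 9) rfl N16397 D34200
theorem N18274 : nd 18274 = n34201 := ndS (p := 16400) (l := 7) rfl N16400 D34201
theorem N18275 : nd 18275 = n34202 := ndS (p := 16401) (l := 6) rfl N16401 D34202
theorem N18276 : nd 18276 = n34203 := ndS (p := 16402) (l := 5) rfl N16402 D34203
theorem N18277 : nd 18277 = n34204 := ndS (p := 16403) (l := 5) rfl N16403 D34204
theorem N18278 : nd 18278 = n34205 := ndS (p := 16404) (l := 8) rfl N16404 D34205
theorem N18279 : nd 18279 = n34206 := ndS (p := 16406) (l := 9) rfl N16406 D34206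
theorem N18280 : nd 18280 = n34207 := ndS (p := 16410) (l := 8) rfl N16410 D34207
theorem N18281 : nd 18281 = n34208 := ndS (p := 16412) (l := 8) rfl N16412 D34208
theorem N18282 : nd 18282 = n34209 := ndS (p := 16414) (l := 9) rfl N16414 D34209
theorem N18283 : nd 18283 = n34210 := ndS (p := 16418) (l := 8) rfl N16418 D34210
theorem N18284 : nd 18284 = n34211 := ndS (p := 16423) (l := 5) rfl N16423 D34211
theorem N18285 : nd 18285 = n34212 := ndS (p := 16423) (l := 7) rfl N16423 D34212
theorem N18286 : nd 18286 = n34213 := ndS (p := 16424) (l := 4) rfl N16424 D34213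
theorem N18287 : nd 18287 = n34214 := ndS (p := 16424) (l := 7) rfl N16424 D34214
theorem N18288 : nd 18288 = n34215 := ndS (p := 16426) (l := 7) rfl N16426 D34215
theorem N18289 : nd 18289 = n34216 := ndS (p := 16427) (l := 6) rfl N16427 D34216
theorem N18290 : nd 18290 = n34217 := ndS (p := 16429) (l := 7) rfl N16429 D34217
theorem N18291 : nd 18291 = n34218 := ndS (p := 16431) (l := 7) rfl N16431 D34218
theorem N18292 : nd 18292 = n34219 := ndS (p := 16432) (l := 6) rfl N16432 D34219
theorem N18293 : nd 18293 = n34220 := ndS (p := 16433) (l := 6) rfl N16433 D34220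
theorem N18294 : nd 18294 = n34221 := ndS (p := 16437) (l := 5) rfl N16437 D34221
theorem N18295 : nd 18295 = n34222 := ndS (p := 16437) (l := 7) rfl N16437 D34222
theorem N18296 : nd 18296 = n34223 := ndS (p := 16438) (l := 4) rfl N16438 D34223
theorem N18297 : nd 18297 = n34224 := ndS (p := 16438) (l := 7) rfl N16438 D34224
theorem N18298 : nd 18298 = n34225 := ndS (p := 16438) (l := 8) rfl N16438 D34225
theorem N18299 : nd 18299 = n34226 := ndS (p := 16440) (l := 7) rfl N16440 D34226
theorem N18300 : nd 18300 = n34227 := ndS (p := 16440) (l := 8) rfl N16440 D34227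
theorem N18301 : nd 18301 = n34228 := ndS (p := 16441) (l := 6) rfl N16441 D34228
theorem N18302 : nd 18302 = n34229 := ndS (p := 16441) (l := 8) rfl N16441 D34229
theorem N18303 : nd 18303 = n34230 := ndS (p := 16443) (l := 8) rfl N16443 D34230
theorem N18304 : nd 18304 = n34231 := ndS (p := 16446) (l := 5) rfl N16446 D34231
theorem N18305 : nd 18305 = n34232 := ndS (p := 16446) (l := 7) rfl N16446 D34232
theorem N18306 : nd 18306 = n34233 := ndS (p := 16447) (l := 4) rfl N16447 D34233
theorem N18307 : nd 18307 = n34234 := ndS (p := 16447) (l := 7) rfl N16447 D34234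
theorem N18308 : nd 18308 = n34235 := ndS (p := 16447) (l := 8) rfl N16447 D34235
theorem N18309 : nd 18309 = n34236 := ndS (p := 16449) (l := 7) rfl N16449 D34236
theorem N18310 : nd 18310 = n34237 := ndS (p := 16449) (l := 8) rfl N16449 D34237
theorem N18311 : nd 18311 = n34238 := ndS (p := 16450) (l := 6) rfl N16450 D34238
theorem N18312 : nd 18312 = n34239 := ndS (p := 16450) (l := 8) rfl N16450 D34239
theorem N18313 : nd 18313 = n34240 := ndS (p := 16451) (l := 9) rfl N16451 D34240
theorem N18314 : nd 18314 = n34241 := ndS (p := 16452) (l := 8) rfl N16452 D34241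
theorem N18315 : nd 18315 = n34242 := ndS (p := 16453) (l := 9) rfl N16453 D34242
theorem N18316 : nd 18316 = n34243 := ndS (p := 16455) (l := 6) rfl N16455 D34243
theorem N18317 : nd 18317 = n34244 := ndS (p := 16456) (l := 5) rfl N16456 D34244
theorem N18318 : nd 18318 = n34245 := ndS (p := 16456) (l := 7) rfl N16456 D34245
theorem N18319 : nd 18319 = n34246 := ndS (p := 16457) (l := 4) rfl N16457 D34246
theorem N18320 : nd 18320 = n34247 := ndS (p := 16457) (l := 7) rfl N16457 D34247
theorem N18321 : nd 18321 = n34248 := ndS (p := 16457) (l := 8) rfl N16457 D34248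
theorem N18322 : nd 18322 = n34249 := ndS (p := 16459) (l := 7) rfl N16459 D34249
theorem N18323 : nd 18323 = n34250 := ndS (p := 16459) (l := 8) rfl N16459 D34250
theorem N18324 : nd 18324 = n34251 := ndS (p := 16460) (l := 6) rfl N16460 D34251
theorem N18325 : nd 18325 = n34252 := ndS (p := 16460) (l := 8) rfl N16460 D34252
theorem N18326 : nd 18326 = n34253 := ndS (p := 16462) (l := 8) rfl N16462 D34253
theorem N18327 : nd 18327 = n34254 := ndS (p := 16464) (l := 5) rfl N16464 D34254
theorem N18328 : nd 18328 = n34255 := ndS (p := 16464) (l := 7) rfl N16464 D34255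
theorem N18329 : nd 18329 = n34256 := ndS (p := 16465) (l := 4) rfl N16465 D34256
theorem N18330 : nd 18330 = n34257 := ndS (p := 16465) (l := 7) rfl N16465 D34257
theorem N18331 : nd 18331 = n34258 := ndS (p := 16465) (l := 8) rfl N16465 D34258
theorem N18332 : nd 18332 = n34259 := ndS (p := 16467) (l := 3) rfl N16467 D34259
theorem N18333 : nd 18333 = n34260 := ndS (p := 16467) (l := 7) rfl N16467 D34260
theorem N18334 : nd 18334 = n34261 := ndS (p := 16467) (l := 8) rfl N16467 D34261
theorem N18335 : nd 18335 = n34262 := ndS (p := 16468) (l := 6) rfl N16468 D34262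
theorem N18336 : nd 18336 = n34263 := ndS (p := 16468) (l := 8) rfl N16468 D34263
theorem N18337 : nd 18337 = n34264 := ndS (p := 16470) (l := 6) rfl N16470 D34264
theorem N18338 : nd 18338 = n34265 := ndS (p := 16470) (l := 8) rfl N16470 D34265
theorem N18339 : nd 18339 = n34266 := ndS (p := 16472) (l := 8) rfl N16472 D34266
theorem N18340 : nd 18340 = n34267 := ndS (p := 16474) (l := 5) rfl N16474 D34267
theorem N18341 : nd 18341 = n34268 := ndS (p := 16476) (l := 6) rfl N16476 D34268
theorem N18342 : nd 18342 = n34269 := ndS (p := 16476) (l := 8) rfl N16476 D34269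
theorem N18343 : nd 18343 = n34270 := ndS (p := 16478) (l := 6) rfl N16478 D34270
theorem N18344 : nd 18344 = n34271 := ndS (p := 16478) (l := 8) rfl N16478 D34271
theorem N18345 : nd 18345 = n34272 := ndS (p := 16479) (l := 5) rfl N16479 D34272
theorem N18346 : nd 18346 = n34273 := ndS (p := 16480) (l := 8) rfl N16480 D34273
theorem N18347 : nd 18347 = n34274 := ndS (p := 16481) (l := 9) rfl N16481 D34274
theorem N18348 : nd 18348 = n34275 := ndS (p := 16483) (l := 5) rfl N16483 D34275
theorem N18349 : nd 18349 = n34276 := ndS (p := 16483) (l := 9) rfl N16483 D34276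
theorem N18350 : nd 18350 = n34277 := ndS (p := 16485) (l := 7) rfl N16485 D34277
theorem N18351 : nd 18351 = n34278 := ndS (p := 16485) (l := 8) rfl N16485 D34278
theorem N18352 : nd 18352 = n34279 := ndS (p := 16487) (l := 7) rfl N16487 D34279
theorem N18353 : nd 18353 = n34280 := ndS (p := 16488) (l := 6) rfl N16488 D34280
theorem N18354 : nd 18354 = n34281 := ndS (p := 16488) (l := 8) rfl N16488 D34281
theorem N18355 : nd 18355 = n34282 := ndS (p := 16490) (l := 6) rfl N16490 D34282
theorem N18356 : nd 18356 = n34283 := ndS (p := 16491) (l := 8) rfl N16491 D34283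
theorem N18357 : nd 18357 = n34284 := ndS (p := 16493) (l := 5) rfl N16493 D34284
theorem N18358 : nd 18358 = n34285 := ndS (p := 16494) (l := 5) rfl N16494 D34285
theorem N18359 : nd 18359 = n34286 := ndS (p := 16497) (l := 5) rfl N16497 D34286
theorem N18360 : nd 18360 = n34287 := ndS (p := 16497) (l := 7) rfl N16497 D34287
theorem N18361 : nd 18361 = n34288 := ndS (p := 16498) (l := 4) rfl N16498 D34288
theorem N18362 : nd 18362 = n34289 := ndS (p := 16498) (l := 7) rfl N16498 D34289
theorem N18363 : nd 18363 = n34290 := ndS (p := 16498) (l := 8) rfl N16498 D34290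
theorem N18364 : nd 18364 = n34291 := ndS (p := 16500) (l := 7) rfl N16500 D34291
theorem N18365 : nd 18365 = n34292 := ndS (p := 16500) (l := 8) rfl N16500 D34292
theorem N18366 : nd 18366 = n34293 := ndS (p := 16501) (l := 6) rfl N16501 D34293
theorem N18367 : nd 18367 = n34294 := ndS (p := 16501) (l := 8) rfl N16501 D34294
theorem N18368 : nd 18368 = n34295 := ndS (p := 16503) (l := 8) rfl N16503 D34295
theorem N18369 : nd 18369 = n34296 := ndS (p := 16505) (l := 5) rfl N16505 D34296
theorem N18370 : nd 18370 = n34297 := ndS (p := 16505) (l := 7) rfl N16505 D34297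
theorem N18371 : nd 18371 = n34298 := ndS (p := 16506) (l := 4) rfl N16506 D34298
theorem N18372 : nd 18372 = n34299 := ndS (p := 16506) (l := 7) rfl N16506 D34299
theorem N18373 : nd 18373 = n34300 := ndS (p := 16506) (l := 8) rfl N16506 D34300
theorem N18374 : nd 18374 = n34301 := ndS (p := 16508) (l := 3) rfl N16508 D34301
theorem N18375 : nd 18375 = n34302 := ndS (p := 16508) (l := 7) rfl N16508 D34302
theorem N18376 : nd 18376 = n34303 := ndS (p := 16508) (l := 8) rfl N16508 D34303
theorem N18377 : nd 18377 = n34304 := ndS (p := 16509) (l := 6) rfl N16509 D34304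
theorem N18378 : nd 18378 = n34305 := ndS (p := 16509) (l := 8) rfl N16509 D34305
theorem N18379 : nd 18379 = n34306 := ndS (p := 16510) (l := 9) rfl N16510 D34306
theorem N18380 : nd 18380 = n34307 := ndS (p := 16511) (l := 6) rfl N16511 D34307
theorem N18381 : nd 18381 = n34308 := ndS (p := 16511) (l := 8) rfl N16511 D34308
theorem N18382 : nd 18382 = n34309 := ndS (p := 16512) (l := 5) rfl N16512 D34309
theorem N18383 : nd 18383 = n34310 := ndS (p := 16512) (l := 9) rfl N16512 D34310
theorem N18384 : nd 18384 = n34311 := ndS (p := 16513) (l := 8) rfl N16513 D34311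
theorem N18385 : nd 18385 = n34312 := ndS (p := 16514) (l := 9) rfl N16514 D34312
theorem N18386 : nd 18386 = n34313 := ndS (p := 16516) (l := 5) rfl N16516 D34313
theorem N18387 : nd 18387 = n34314 := ndS (p := 16516) (l := 9) rfl N16516 D34314
theorem N18388 : nd 18388 = n34315 := ndS (p := 16518) (l := 4) rfl N16518 D34315
theorem N18389 : nd 18389 = n34316 := ndS (p := 16518) (l := 7) rfl N16518 D34316
theorem N18390 : nd 18390 = n34317 := ndS (p := 16520) (l := 7) rfl N16520 D34317
theorem N18391 : nd 18391 = n34318 := ndS (p := 16520) (l := 8) rfl N16520 D34318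
theorem N18392 : nd 18392 = n34319 := ndS (p := 16521) (l := 6) rfl N16521 D34319
theorem N18393 : nd 18393 = n34320 := ndS (p := 16521) (l := 8) rfl N16521 D34320
theorem N18394 : nd 18394 = n34321 := ndS (p := 16523) (l := 8) rfl N16523 D34321
theorem N18395 : nd 18395 = n34322 := ndS (p := 16525) (l := 4) rfl N16525 D34322
theorem N18396 : nd 18396 = n34323 := ndS (p := 16525) (l := 7) rfl N16525 D34323
theorem N18397 : nd 18397 = n34324 := ndS (p := 16527) (l := 3) rfl N16527 D34324
theorem N18398 : nd 18398 = n34325 := ndS (p := 16527) (l := 7) rfl N16527 D34325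
theorem N18399 : nd 18399 = n34326 := ndS (p := 16527) (l := 8) rfl N16527 D34326
theorem N18400 : nd 18400 = n34327 := ndS (p := 16528) (l := 6) rfl N16528 D34327
theorem N18401 : nd 18401 = n34328 := ndS (p := 16528) (l := 8) rfl N16528 D34328
theorem N18402 : nd 18402 = n34329 := ndS (p := 16530) (l := 6) rfl N16530 D34329
theorem N18403 : nd 18403 = n34330 := ndS (p := 16530) (l := 8) rfl N16530 D34330
theorem N18404 : nd 18404 = n34331 := ndS (p := 16531) (l := 5) rfl N16531 D34331
theorem N18405 : nd 18405 = n34332 := ndS (p := 16531) (l := 9) rfl N16531 D34332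
theorem N18406 : nd 18406 = n34333 := ndS (p := 16532) (l := 8) rfl N16532 D34333
theorem N18407 : nd 18407 = n34334 := ndS (p := 16533) (l := 9) rfl N16533 D34334
theorem N18408 : nd 18408 = n34335 := ndS (p := 16535) (l := 5) rfl N16535 D34335
theorem N18409 : nd 18409 = n34336 := ndS (p := 16535) (l := 9) rfl N16535 D34336
theorem N18410 : nd 18410 = n34337 := ndS (p := 16537) (l := 5) rfl N16537 D34337
theorem N18411 : nd 18411 = n34338 := ndS (p := 16537) (l := 7) rfl N16537 D34338
theorem N18412 : nd 18412 = n34339 := ndS (p := 16538) (l := 4) rfl N16538 D34339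
theorem N18413 : nd 18413 = n34340 := ndS (p := 16538) (l := 7) rfl N16538 D34340
theorem N18414 : nd 18414 = n34341 := ndS (p := 16538) (l := 8) rfl N16538 D34341
theorem N18415 : nd 18415 = n34342 := ndS (p := 16540) (l := 3) rfl N16540 D34342
theorem N18416 : nd 18416 = n34343 := ndS (p := 16540) (l := 7) rfl N16540 D34343
theorem N18417 : nd 18417 = n34344 := ndS (p := 16540) (l := 8) rfl N16540 D34344
theorem N18418 : nd 18418 = n34345 := ndS (p := 16541) (l := 6) rfl N16541 D34345
theorem N18419 : nd 18419 = n34346 := ndS (p := 16541) (l := 8) rfl N16541 D34346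
theorem N18420 : nd 18420 = n34347 := ndS (p := 16542) (l := 9) rfl N16542 D34347
theorem N18421 : nd 18421 = n34348 := ndS (p := 16543) (l := 6) rfl N16543 D34348
theorem N18422 : nd 18422 = n34349 := ndS (p := 16543) (l := 8) rfl N16543 D34349
theorem N18423 : nd 18423 = n34350 := ndS (p := 16544) (l := 5) rfl N16544 D34350
theorem N18424 : nd 18424 = n34351 := ndS (p := 16544) (l := 9) rfl N16544 D34351
theorem N18425 : nd 18425 = n34352 := ndS (p := 16545) (l := 8) rfl N16545 D34352
theorem N18426 : nd 18426 = n34353 := ndS (p := 16546) (l := 9) rfl N16546 D34353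
theorem N18427 : nd 18427 = n34354 := ndS (p := 16548) (l := 5) rfl N16548 D34354
theorem N18428 : nd 18428 = n34355 := ndS (p := 16548) (l := 9) rfl N16548 D34355
theorem N18429 : nd 18429 = n34356 := ndS (p := 16550) (l := 4) rfl N16550 D34356
theorem N18430 : nd 18430 = n34357 := ndS (p := 16550) (l := 7) rfl N16550 D34357
theorem N18431 : nd 18431 = n34358 := ndS (p := 16550) (l := 8) rfl N16550 D34358
theorem N18432 : nd 18432 = n34359 := ndS (p := 16552) (l := 3) rfl N16552 D34359
theorem N18433 : nd 18433 = n34360 := ndS (p := 16552) (l := 7) rfl N16552 D34360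
theorem N18434 : nd 18434 = n34361 := ndS (p := 16552) (l := 8) rfl N16552 D34361
theorem N18435 : nd 18435 = n34362 := ndS (p := 16553) (l := 6) rfl N16553 D34362
theorem N18436 : nd 18436 = n34363 := ndS (p := 16553) (l := 8) rfl N16553 D34363
theorem N18437 : nd 18437 = n34364 := ndS (p := 16554) (l := 9) rfl N16554 D34364
theorem N18438 : nd 18438 = n34365 := ndS (p := 16555) (l := 7) rfl N16555 D34365
theorem N18439 : nd 18439 = n34366 := ndS (p := 16555) (l := 8) rfl N16555 D34366
theorem N18440 : nd 18440 = n34367 := ndS (p := 16556) (l := 6) rfl N16556 D34367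
theorem N18441 : nd 18441 = n34368 := ndS (p := 16556) (l := 8) rfl N16556 D34368
theorem N18442 : nd 18442 = n34369 := ndS (p := 16557) (l := 5) rfl N16557 D34369
theorem N18443 : nd 18443 = n34370 := ndS (p := 16557) (l := 9) rfl N16557 D34370
theorem N18444 : nd 18444 = n34371 := ndS (p := 16558) (l := 8) rfl N16558 D34371
theorem N18445 : nd 18445 = n34372 := ndS (p := 16559) (l := 9) rfl N16559 D34372
theorem N18446 : nd 18446 = n34373 := ndS (p := 16561) (l := 5) rfl N16561 D34373
theorem N18447 : nd 18447 = n34374 := ndS (p := 16561) (l := 8) rfl N16561 D34374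
theorem N18448 : nd 18448 = n34375 := ndS (p := 16562) (l := 5) rfl N16562 D34375
theorem N18449 : nd 18449 = n34376 := ndS (p := 16562) (l := 9) rfl N16562 D34376
theorem N18450 : nd 18450 = n34377 := ndS (p := 16563) (l := 6) rfl N16563 D34377
theorem N18451 : nd 18451 = n34378 := ndS (p := 16565) (l := 5) rfl N16565 D34378
theorem N18452 : nd 18452 = n34379 := ndS (p := 16565) (l := 9) rfl N16565 D34379
theorem N18453 : nd 18453 = n34380 := ndS (p := 16567) (l := 4) rfl N16567 D34380
theorem N18454 : nd 18454 = n34381 := ndS (p := 16567) (l := 9) rfl N16567 D34381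
theorem N18455 : nd 18455 = n34382 := ndS (p := 16569) (l := 8) rfl N16569 D34382
theorem N18456 : nd 18456 = n34383 := ndS (p := 16571) (l := 8) rfl N16571 D34383
theorem N18457 : nd 18457 = n34384 := ndS (p := 16572) (l := 5) rfl N16572 D34384
theorem N18458 : nd 18458 = n34385 := ndS (p := 16573) (l := 6) rfl N16573 D34385
theorem N18459 : nd 18459 = n34386 := ndS (p := 16574) (l := 5) rfl N16574 D34386
theorem N18460 : nd 18460 = n34387 := ndS (p := 16574) (l := 9) rfl N16574 D34387
theorem N18461 : nd 18461 = n34388 := ndS (p := 16576) (l := 4) rfl N16576 D34388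
theorem N18462 : nd 18462 = n34389 := ndS (p := 16576) (l := 9) rfl N16576 D34389
theorem N18463 : nd 18463 = n34390 := ndS (p := 16578) (l := 8) rfl N16578 D34390
theorem N18464 : nd 18464 = n34391 := ndS (p := 16579) (l := 9) rfl N16579 D34391
theorem N18465 : nd 18465 = n34392 := ndS (p := 16580) (l := 6) rfl N16580 D34392
theorem N18466 : nd 18466 = n34393 := ndS (p := 16580) (l := 8) rfl N16580 D34393
theorem N18467 : nd 18467 = n34394 := ndS (p := 16581) (l := 5) rfl N16581 D34394
theorem N18468 : nd 18468 = n34395 := ndS (p := 16582) (l := 8) rfl N16582 D34395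
theorem N18469 : nd 18469 = n34396 := ndS (p := 16583) (l := 9) rfl N16583 D34396
theorem N18470 : nd 18470 = n34397 := ndS (p := 16585) (l := 8) rfl N16585 D34397
theorem N18471 : nd 18471 = n34398 := ndS (p := 16586) (l := 5) rfl N16586 D34398
theorem N18472 : nd 18472 = n34399 := ndS (p := 16587) (l := 6) rfl N16587 D34399
theorem N18473 : nd 18473 = n34400 := ndS (p := 16588) (l := 5) rfl N16588 D34400
theorem N18474 : nd 18474 = n34401 := ndS (p := 16588) (l := 9) rfl N16588 D34401
theorem N18475 : nd 18475 = n34402 := ndS (p := 16590) (l := 8) rfl N16590 D34402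
theorem N18476 : nd 18476 = n34403 := ndS (p := 16591) (l := 5) rfl N16591 D34403
theorem N18477 : nd 18477 = n34404 := ndS (p := 16592) (l := 6) rfl N16592 D34404
theorem N18478 : nd 18478 = n34405 := ndS (p := 16593) (l := 7) rfl N16593 D34405
theorem N18479 : nd 18479 = n34406 := ndS (p := 16594) (l := 4) rfl N16594 D34406
theorem N18480 : nd 18480 = n34407 := ndS (p := 16594) (l := 9) rfl N16594 D34407
theorem N18481 : nd 18481 = n34408 := ndS (p := 16596) (l := 3) rfl N16596 D34408
theorem N18482 : nd 18482 = n34409 := ndS (p := 16596) (l := 9) rfl N16596 D34409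
theorem N18483 : nd 18483 = n34410 := ndS (p := 16597) (l := 8) rfl N16597 D34410
theorem N18484 : nd 18484 = n34411 := ndS (p := 16598) (l := 5) rfl N16598 D34411
theorem N18485 : nd 18485 = n34412 := ndS (p := 16599) (l := 6) rfl N16599 D34412
theorem N18486 : nd 18486 = n34413 := ndS (p := 16600) (l := 7) rfl N16600 D34413
theorem N18487 : nd 18487 = n34414 := ndS (p := 16604) (l := 7) rfl N16604 D34414
theorem N18488 : nd 18488 = n34415 := ndS (p := 16605) (l := 7) rfl N16605 D34415
theorem N18489 : nd 18489 = n34416 := ndS (p := 16607) (l := 3) rfl N16607 D34416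
theorem N18490 : nd 18490 = n34417 := ndS (p := 16607) (l := 7) rfl N16607 D34417
theorem N18491 : nd 18491 = n34418 := ndS (p := 16608) (l := 6) rfl N16608 D34418
theorem N18492 : nd 18492 = n34419 := ndS (p := 16608) (l := 8) rfl N16608 D34419
theorem N18493 : nd 18493 = n34420 := ndS (p := 16610) (l := 6) rfl N16610 D34420
theorem N18494 : nd 18494 = n34421 := ndS (p := 16611) (l := 8) rfl N16611 D34421
theorem N18495 : nd 18495 = n34422 := ndS (p := 16613) (l := 5) rfl N16613 D34422
theorem N18496 : nd 18496 = n34423 := ndS (p := 16614) (l := 7) rfl N16614 D34423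
theorem N18497 : nd 18497 = n34424 := ndS (p := 16615) (l := 7) rfl N16615 D34424
theorem N18498 : nd 18498 = n34425 := ndS (p := 16617) (l := 7) rfl N16617 D34425
theorem N18499 : nd 18499 = n34426 := ndS (p := 16618) (l := 6) rfl N16618 D34426
theorem N18500 : nd 18500 = n34427 := ndS (p := 16618) (l := 8) rfl N16618 D34427
theorem N18501 : nd 18501 = n34428 := ndS (p := 16620) (l := 6) rfl N16620 D34428
theorem N18502 : nd 18502 = n34429 := ndS (p := 16621) (l := 8) rfl N16621 D34429
theorem N18503 : nd 18503 = n34430 := ndS (p := 16623) (l := 5) rfl N16623 D34430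
theorem N18504 : nd 18504 = n34431 := ndS (p := 16623) (l := 9) rfl N16623 D34431
theorem N18505 : nd 18505 = n34432 := ndS (p := 16625) (l := 7) rfl N16625 D34432
theorem N18506 : nd 18506 = n34433 := ndS (p := 16627) (l := 7) rfl N16627 D34433
theorem N18507 : nd 18507 = n34434 := ndS (p := 16628) (l := 6) rfl N16628 D34434
theorem N18508 : nd 18508 = n34435 := ndS (p := 16628) (l := 8) rfl N16628 D34435
theorem N18509 : nd 18509 = n34436 := ndS (p := 16630) (l := 7) rfl N16630 D34436
theorem N18510 : nd 18510 = n34437 := ndS (p := 16631) (l := 6) rfl N16631 D34437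
theorem N18511 : nd 18511 = n34438 := ndS (p := 16631) (l := 8) rfl N16631 D34438
theorem N18512 : nd 18512 = n34439 := ndS (p := 16633) (l := 8) rfl N16633 D34439
theorem N18513 : nd 18513 = n34440 := ndS (p := 16634) (l := 9) rfl N16634 D34440
theorem N18514 : nd 18514 = n34441 := ndS (p := 16636) (l := 5) rfl N16636 D34441
theorem N18515 : nd 18515 = n34442 := ndS (p := 16636) (l := 8) rfl N16636 D34442
theorem N18516 : nd 18516 = n34443 := ndS (p := 16638) (l := 5) rfl N16638 D34443
theorem N18517 : nd 18517 = n34444 := ndS (p := 16638) (l := 9) rfl N16638 D34444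
theorem N18518 : nd 18518 = n34445 := ndS (p := 16640) (l := 4) rfl N16640 D34445
theorem N18519 : nd 18519 = n34446 := ndS (p := 16640) (l := 9) rfl N16640 D34446
theorem N18520 : nd 18520 = n34447 := ndS (p := 16642) (l := 6) rfl N16642 D34447
theorem N18521 : nd 18521 = n34448 := ndS (p := 16643) (l := 6) rfl N16643 D34448
theorem N18522 : nd 18522 = n34449 := ndS (p := 16645) (l := 5) rfl N16645 D34449
theorem N18523 : nd 18523 = n34450 := ndS (p := 16646) (l := 7) rfl N16646 D34450
theorem N18524 : nd 18524 = n34451 := ndS (p := 16648) (l := 7) rfl N16648 D34451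
theorem N18525 : nd 18525 = n34452 := ndS (p := 16649) (l := 6) rfl N16649 D34452
theorem N18526 : nd 18526 = n34453 := ndS (p := 16649) (l := 8) rfl N16649 D34453
theorem N18527 : nd 18527 = n34454 := ndS (p := 16651) (l := 6) rfl N16651 D34454
theorem N18528 : nd 18528 = n34455 := ndS (p := 16652) (l := 8) rfl N16652 D34455
theorem N18529 : nd 18529 = n34456 := ndS (p := 16654) (l := 5) rfl N16654 D34456
theorem N18530 : nd 18530 = n34457 := ndS (p := 16655) (l := 6) rfl N16655 D34457
theorem N18531 : nd 18531 = n34458 := ndS (p := 16656) (l := 7) rfl N16656 D34458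
theorem N18532 : nd 18532 = n34459 := ndS (p := 16657) (l := 6) rfl N16657 D34459
theorem N18533 : nd 18533 = n34460 := ndS (p := 16658) (l := 8) rfl N16658 D34460
theorem N18534 : nd 18534 = n34461 := ndS (p := 16660) (l := 5) rfl N16660 D34461
theorem N18535 : nd 18535 = n34462 := ndS (p := 16661) (l := 5) rfl N16661 D34462
theorem N18536 : nd 18536 = n34463 := ndS (p := 16662) (l := 4) rfl N16662 D34463
theorem N18537 : nd 18537 = n34464 := ndS (p := 16662) (l := 9) rfl N16662 D34464
theorem N18538 : nd 18538 = n34465 := ndS (p := 16664) (l := 7) rfl N16664 D34465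
theorem N18539 : nd 18539 = n34466 := ndS (p := 16666) (l := 6) rfl N16666 D34466
theorem N18540 : nd 18540 = n34467 := ndS (p := 16667) (l := 7) rfl N16667 D34467
theorem N18541 : nd 18541 = n34468 := ndS (p := 16668) (l := 6) rfl N16668 D34468
theorem N18542 : nd 18542 = n34469 := ndS (p := 16669) (l := 8) rfl N16669 D34469
theorem N18543 : nd 18543 = n34470 := ndS (p := 16671) (l := 5) rfl N16671 D34470
theorem N18544 : nd 18544 = n34471 := ndS (p := 16671) (l := 8) rfl N16671 D34471
theorem N18545 : nd 18545 = n34472 := ndS (p := 16673) (l := 5) rfl N16673 D34472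
theorem N18546 : nd 18546 = n34473 := ndS (p := 16673) (l := 9) rfl N16673 D34473
theorem N18547 : nd 18547 = n34474 := ndS (p := 16675) (l := 4) rfl N16675 D34474
theorem N18548 : nd 18548 = n34475 := ndS (p := 16675) (l := 9) rfl N16675 D34475
theorem N18549 : nd 18549 = n34476 := ndS (p := 16677) (l := 3) rfl N16677 D34476
theorem N18550 : nd 18550 = n34477 := ndS (p := 16677) (l := 7) rfl N16677 D34477
theorem N18551 : nd 18551 = n34478 := ndS (p := 16678) (l := 6) rfl N16678 D34478
theorem N18552 : nd 18552 = n34479 := ndS (p := 16678) (l := 8) rfl N16678 D34479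
theorem N18553 : nd 18553 = n34480 := ndS (p := 16680) (l := 7) rfl N16680 D34480
theorem N18554 : nd 18554 = n34481 := ndS (p := 16681) (l := 6) rfl N16681 D34481
theorem N18555 : nd 18555 = n34482 := ndS (p := 16682) (l := 8) rfl N16682 D34482
theorem N18556 : nd 18556 = n34483 := ndS (p := 16684) (l := 6) rfl N16684 D34483
theorem N18557 : nd 18557 = n34484 := ndS (p := 16684) (l := 8) rfl N16684 D34484
theorem N18558 : nd 18558 = n34485 := ndS (p := 16686) (l := 5) rfl N16686 D34485
theorem N18559 : nd 18559 = n34486 := ndS (p := 16686) (l := 8) rfl N16686 D34486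
theorem N18560 : nd 18560 = n34487 := ndS (p := 16688) (l := 5) rfl N16688 D34487
theorem N18561 : nd 18561 = n34488 := ndS (p := 16688) (l := 9) rfl N16688 D34488
theorem N18562 : nd 18562 = n34489 := ndS (p := 16690) (l := 8) rfl N16690 D34489
theorem N18563 : nd 18563 = n34490 := ndS (p := 16691) (l := 5) rfl N16691 D34490
theorem N18564 : nd 18564 = n34491 := ndS (p := 16691) (l := 9) rfl N16691 D34491
theorem N18565 : nd 18565 = n34492 := ndS (p := 16693) (l := 4) rfl N16693 D34492
theorem N18566 : nd 18566 = n34493 := ndS (p := 16693) (l := 9) rfl N16693 D34493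
theorem N18567 : nd 18567 = n34494 := ndS (p := 16698) (l := 3) rfl N16698 D34494
theorem N18568 : nd 18568 = n34495 := ndS (p := 16698) (l := 9) rfl N16698 D34495
theorem N18569 : nd 18569 = n34496 := ndS (p := 16702) (l := 5) rfl N16702 D34496
theorem N18570 : nd 18570 = n34497 := ndS (p := 16704) (l := 9) rfl N16704 D34497
theorem N18571 : nd 18571 = n34498 := ndS (p := 16708) (l := 5) rfl N16708 D34498
theorem N18572 : nd 18572 = n34499 := ndS (p := 16711) (l := 6) rfl N16711 D34499
theorem N18573 : nd 18573 = n34500 := ndS (p := 16712) (l := 5) rfl N16712 D34500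
theorem N18574 : nd 18574 = n34501 := ndS (p := 16714) (l := 7) rfl N16714 D34501
theorem N18575 : nd 18575 = n34502 := ndS (p := 16715) (l := 8) rfl N16715 D34502
theorem N18576 : nd 18576 = n34503 := ndS (p := 16717) (l := 6) rfl N16717 D34503
theorem N18577 : nd 18577 = n34504 := ndS (p := 16718) (l := 8) rfl N16718 D34504
theorem N18578 : nd 18578 = n34505 := ndS (p := 16720) (l := 6) rfl N16720 D34505
theorem N18579 : nd 18579 = n34506 := ndS (p := 16721) (l := 5) rfl N16721 D34506
theorem N18580 : nd 18580 = n34507 := ndS (p := 16721) (l := 8) rfl N16721 D34507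
theorem N18581 : nd 18581 = n34508 := ndS (p := 16726) (l := 7) rfl N16726 D34508
theorem N18582 : nd 18582 = n34509 := ndS (p := 16728) (l := 6) rfl N16728 D34509
theorem N18583 : nd 18583 = n34510 := ndS (p := 16729) (l := 5) rfl N16729 D34510
theorem N18584 : nd 18584 = n34511 := ndS (p := 16730) (l := 5) rfl N16730 D34511
theorem N18585 : nd 18585 = n34512 := ndS (p := 16731) (l := 8) rfl N16731 D34512
theorem N18586 : nd 18586 = n34513 := ndS (p := 16733) (l := 7) rfl N16733 D34513
theorem N18587 : nd 18587 = n34514 := ndS (p := 16734) (l := 6) rfl N16734 D34514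
theorem N18588 : nd 18588 = n34515 := ndS (p := 16736) (l := 6) rfl N16736 D34515
theorem N18589 : nd 18589 = n34516 := ndS (p := 16738) (l := 7) rfl N16738 D34516
theorem N18590 : nd 18590 = n34517 := ndS (p := 16739) (l := 6) rfl N16739 D34517
theorem N18591 : nd 18591 = n34518 := ndS (p := 16740) (l := 6) rfl N16740 D34518
theorem N18592 : nd 18592 = n34519 := ndS (p := 16740) (l := 8) rfl N16740 D34519
theorem N18593 : nd 18593 = n34520 := ndS (p := 16742) (l := 8) rfl N16742 D34520
theorem N18594 : nd 18594 = n34521 := ndS (p := 16745) (l := 3) rfl N16745 D34521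
theorem N18595 : nd 18595 = n34522 := ndS (p := 16745) (l := 7) rfl N16745 D34522
theorem N18596 : nd 18596 = n34523 := ndS (p := 16746) (l := 6) rfl N16746 D34523
theorem N18597 : nd 18597 = n34524 := ndS (p := 16747) (l := 6) rfl N16747 D34524
theorem N18598 : nd 18598 = n34525 := ndS (p := 16747) (l := 8) rfl N16747 D34525
theorem N18599 : nd 18599 = n34526 := ndS (p := 16748) (l := 9) rfl N16748 D34526
theorem N18600 : nd 18600 = n34527 := ndS (p := 16749) (l := 8) rfl N16749 D34527
theorem N18601 : nd 18601 = n34528 := ndS (p := 16750) (l := 9) rfl N16750 D34528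
theorem N18602 : nd 18602 = n34529 := ndS (p := 16752) (l := 9) rfl N16752 D34529
theorem N18603 : nd 18603 = n34530 := ndS (p := 16755) (l := 3) rfl N16755 D34530
theorem N18604 : nd 18604 = n34531 := ndS (p := 16755) (l := 7) rfl N16755 D34531
theorem N18605 : nd 18605 = n34532 := ndS (p := 16756) (l := 6) rfl N16756 D34532
theorem N18606 : nd 18606 = n34533 := ndS (p := 16757) (l := 6) rfl N16757 D34533
theorem N18607 : nd 18607 = n34534 := ndS (p := 16757) (l := 8) rfl N16757 D34534
theorem N18608 : nd 18608 = n34535 := ndS (p := 16758) (l := 5) rfl N16758 D34535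
theorem N18609 : nd 18609 = n34536 := ndS (p := 16759) (l := 8) rfl N16759 D34536
theorem N18610 : nd 18610 = n34537 := ndS (p := 16761) (l := 5) rfl N16761 D34537
theorem N18611 : nd 18611 = n34538 := ndS (p := 16762) (l := 7) rfl N16762 D34538
theorem N18612 : nd 18612 = n34539 := ndS (p := 16763) (l := 6) rfl N16763 D34539
theorem N18613 : nd 18613 = n34540 := ndS (p := 16765) (l := 5) rfl N16765 D34540
theorem N18614 : nd 18614 = n34541 := ndS (p := 16765) (l := 8) rfl N16765 D34541
theorem N18615 : nd 18615 = n34542 := ndS (p := 16768) (l := 5) rfl N16768 D34542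
theorem N18616 : nd 18616 = n34543 := ndS (p := 16768) (l := 7) rfl N16768 D34543
theorem N18617 : nd 18617 = n34544 := ndS (p := 16769) (l := 4) rfl N16769 D34544
theorem N18618 : nd 18618 = n34545 := ndS (p := 16769) (l := 7) rfl N16769 D34545
theorem N18619 : nd 18619 = n34546 := ndS (p := 16771) (l := 7) rfl N16771 D34546
theorem N18620 : nd 18620 = n34547 := ndS (p := 16771) (l := 8) rfl N16771 D34547
theorem N18621 : nd 18621 = n34548 := ndS (p := 16772) (l := 6) rfl N16772 D34548
theorem N18622 : nd 18622 = n34549 := ndS (p := 16772) (l := 8) rfl N16772 D34549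
theorem N18623 : nd 18623 = n34550 := ndS (p := 16774) (l := 8) rfl N16774 D34550
theorem N18624 : nd 18624 = n34551 := ndS (p := 16776) (l := 4) rfl N16776 D34551
theorem N18625 : nd 18625 = n34552 := ndS (p := 16776) (l := 7) rfl N16776 D34552
theorem N18626 : nd 18626 = n34553 := ndS (p := 16778) (l := 3) rfl N16778 D34553
theorem N18627 : nd 18627 = n34554 := ndS (p := 16778) (l := 7) rfl N16778 D34554
theorem N18628 : nd 18628 = n34555 := ndS (p := 16778) (l := 8) rfl N16778 D34555
theorem N18629 : nd 18629 = n34556 := ndS (p := 16779) (l := 6) rfl N16779 D34556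
theorem N18630 : nd 18630 = n34557 := ndS (p := 16779) (l := 8) rfl N16779 D34557
theorem N18631 : nd 18631 = n34558 := ndS (p := 16780) (l := 9) rfl N16780 D34558
theorem N18632 : nd 18632 = n34559 := ndS (p := 16781) (l := 6) rfl N16781 D34559
theorem N18633 : nd 18633 = n34560 := ndS (p := 16781) (l := 8) rfl N16781 D34560
theorem N18634 : nd 18634 = n34561 := ndS (p := 16782) (l := 5) rfl N16782 D34561
theorem N18635 : nd 18635 = n34562 := ndS (p := 16782) (l := 9) rfl N16782 D34562
theorem N18636 : nd 18636 = n34563 := ndS (p := 16783) (l := 8) rfl N16783 D34563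
theorem N18637 : nd 18637 = n34564 := ndS (p := 16784) (l := 9) rfl N16784 D34564
theorem N18638 : nd 18638 = n34565 := ndS (p := 16786) (l := 5) rfl N16786 D34565
theorem N18639 : nd 18639 = n34566 := ndS (p := 16786) (l := 9) rfl N16786 D34566
theorem N18640 : nd 18640 = n34567 := ndS (p := 16788) (l := 6) rfl N16788 D34567
theorem N18641 : nd 18641 = n34568 := ndS (p := 16791) (l := 4) rfl N16791 D34568
theorem N18642 : nd 18642 = n34569 := ndS (p := 16791) (l := 7) rfl N16791 D34569
theorem N18643 : nd 18643 = n34570 := ndS (p := 16793) (l := 3) rfl N16793 D34570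
theorem N18644 : nd 18644 = n34571 := ndS (p := 16793) (l := 7) rfl N16793 D34571
theorem N18645 : nd 18645 = n34572 := ndS (p := 16793) (l := 8) rfl N16793 D34572
theorem N18646 : nd 18646 = n34573 := ndS (p := 16794) (l := 6) rfl N16794 D34573
theorem N18647 : nd 18647 = n34574 := ndS (p := 16794) (l := 8) rfl N16794 D34574
theorem N18648 : nd 18648 = n34575 := ndS (p := 16795) (l := 9) rfl N16795 D34575
theorem N18649 : nd 18649 = n34576 := ndS (p := 16796) (l := 6) rfl N16796 D34576
theorem N18650 : nd 18650 = n34577 := ndS (p := 16796) (l := 8) rfl N16796 D34577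
theorem N18651 : nd 18651 = n34578 := ndS (p := 16797) (l := 5) rfl N16797 D34578
theorem N18652 : nd 18652 = n34579 := ndS (p := 16797) (l := 9) rfl N16797 D34579
theorem N18653 : nd 18653 = n34580 := ndS (p := 16798) (l := 8) rfl N16798 D34580
theorem N18654 : nd 18654 = n34581 := ndS (p := 16799) (l := 9) rfl N16799 D34581
theorem N18655 : nd 18655 = n34582 := ndS (p := 16801) (l := 5) rfl N16801 D34582
theorem N18656 : nd 18656 = n34583 := ndS (p := 16801) (l := 9) rfl N16801 D34583
theorem N18657 : nd 18657 = n34584 := ndS (p := 16803) (l := 3) rfl N16803 D34584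
theorem N18658 : nd 18658 = n34585 := ndS (p := 16803) (l := 7) rfl N16803 D34585
theorem N18659 : nd 18659 = n34586 := ndS (p := 16804) (l := 6) rfl N16804 D34586
theorem N18660 : nd 18660 = n34587 := ndS (p := 16805) (l := 7) rfl N16805 D34587
theorem N18661 : nd 18661 = n34588 := ndS (p := 16805) (l := 8) rfl N16805 D34588
theorem N18662 : nd 18662 = n34589 := ndS (p := 16806) (l := 6) rfl N16806 D34589
theorem N18663 : nd 18663 = n34590 := ndS (p := 16806) (l := 8) rfl N16806 D34590
theorem N18664 : nd 18664 = n34591 := ndS (p := 16807) (l := 9) rfl N16807 D34591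
theorem N18665 : nd 18665 = n34592 := ndS (p := 16808) (l := 8) rfl N16808 D34592
theorem N18666 : nd 18666 = n34593 := ndS (p := 16809) (l := 9) rfl N16809 D34593
theorem N18667 : nd 18667 = n34594 := ndS (p := 16811) (l := 5) rfl N16811 D34594
theorem N18668 : nd 18668 = n34595 := ndS (p := 16811) (l := 8) rfl N16811 D34595
theorem N18669 : nd 18669 = n34596 := ndS (p := 16812) (l := 5) rfl N16812 D34596
theorem N18670 : nd 18670 = n34597 := ndS (p := 16812) (l := 9) rfl N16812 D34597
theorem N18671 : nd 18671 = n34598 := ndS (p := 16813) (l := 6) rfl N16813 D34598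
theorem N18672 : nd 18672 = n34599 := ndS (p := 16813) (l := 9) rfl N16813 D34599
theorem N18673 : nd 18673 = n34600 := ndS (p := 16815) (l := 9) rfl N16815 D34600
theorem N18674 : nd 18674 = n34601 := ndS (p := 16817) (l := 4) rfl N16817 D34601
theorem N18675 : nd 18675 = n34602 := ndS (p := 16817) (l := 9) rfl N16817 D34602
theorem N18676 : nd 18676 = n34603 := ndS (p := 16820) (l := 7) rfl N16820 D34603
theorem N18677 : nd 18677 = n34604 := ndS (p := 16821) (l := 6) rfl N16821 D34604
theorem N18678 : nd 18678 = n34605 := ndS (p := 16821) (l := 8) rfl N16821 D34605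
theorem N18679 : nd 18679 = n34606 := ndS (p := 16823) (l := 6) rfl N16823 D34606
theorem N18680 : nd 18680 = n34607 := ndS (p := 16824) (l := 8) rfl N16824 D34607
theorem N18681 : nd 18681 = n34608 := ndS (p := 16825) (l := 9) rfl N16825 D34608
theorem N18682 : nd 18682 = n34609 := ndS (p := 16827) (l := 5) rfl N16827 D34609
theorem N18683 : nd 18683 = n34610 := ndS (p := 16827) (l := 9) rfl N16827 D34610
theorem N18684 : nd 18684 = n34611 := ndS (p := 16829) (l := 5) rfl N16829 D34611
theorem N18685 : nd 18685 = n34612 := ndS (p := 16830) (l := 4) rfl N16830 D34612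
theorem N18686 : nd 18686 = n34613 := ndS (p := 16830) (l := 9) rfl N16830 D34613
theorem N18687 : nd 18687 = n34614 := ndS (p := 16832) (l := 7) rfl N16832 D34614
theorem N18688 : nd 18688 = n34615 := ndS (p := 16833) (l := 6) rfl N16833 D34615
theorem N18689 : nd 18689 = n34616 := ndS (p := 16834) (l := 7) rfl N16834 D34616
theorem N18690 : nd 18690 = n34617 := ndS (p := 16835) (l := 6) rfl N16835 D34617
theorem N18691 : nd 18691 = n34618 := ndS (p := 16835) (l := 8) rfl N16835 D34618
theorem N18692 : nd 18692 = n34619 := ndS (p := 16836) (l := 9) rfl N16836 D34619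
theorem N18693 : nd 18693 = n34620 := ndS (p := 16837) (l := 8) rfl N16837 D34620
theorem N18694 : nd 18694 = n34621 := ndS (p := 16838) (l := 9) rfl N16838 D34621
theorem N18695 : nd 18695 = n34622 := ndS (p := 16840) (l := 5) rfl N16840 D34622
theorem N18696 : nd 18696 = n34623 := ndS (p := 16840) (l := 8) rfl N16840 D34623
theorem N18697 : nd 18697 = n34624 := ndS (p := 16841) (l := 5) rfl N16841 D34624
theorem N18698 : nd 18698 = n34625 := ndS (p := 16841) (l := 9) rfl N16841 D34625
theorem N18699 : nd 18699 = n34626 := ndS (p := 16842) (l := 6) rfl N16842 D34626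
theorem N18700 : nd 18700 = n34627 := ndS (p := 16842) (l := 9) rfl N16842 D34627
theorem N18701 : nd 18701 = n34628 := ndS (p := 16844) (l := 5) rfl N16844 D34628
theorem N18702 : nd 18702 = n34629 := ndS (p := 16844) (l := 9) rfl N16844 D34629
theorem N18703 : nd 18703 = n34630 := ndS (p := 16846) (l := 4) rfl N16846 D34630
theorem N18704 : nd 18704 = n34631 := ndS (p := 16846) (l := 9) rfl N16846 D34631
theorem N18705 : nd 18705 = n34632 := ndS (p := 16848) (l := 7) rfl N16848 D34632
theorem N18706 : nd 18706 = n34633 := ndS (p := 16849) (l := 6) rfl N16849 D34633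
theorem N18707 : nd 18707 = n34634 := ndS (p := 16851) (l := 6) rfl N16851 D34634
theorem N18708 : nd 18708 = n34635 := ndS (p := 16851) (l := 8) rfl N16851 D34635
theorem N18709 : nd 18709 = n34636 := ndS (p := 16852) (l := 5) rfl N16852 D34636
theorem N18710 : nd 18710 = n34637 := ndS (p := 16852) (l := 9) rfl N16852 D34637
theorem N18711 : nd 18711 = n34638 := ndS (p := 16853) (l := 5) rfl N16853 D34638
theorem N18712 : nd 18712 = n34639 := ndS (p := 16853) (l := 8) rfl N16853 D34639
theorem N18713 : nd 18713 = n34640 := ndS (p := 16854) (l := 5) rfl N16854 D34640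
theorem N18714 : nd 18714 = n34641 := ndS (p := 16854) (l := 9) rfl N16854 D34641
theorem N18715 : nd 18715 = n34642 := ndS (p := 16855) (l := 6) rfl N16855 D34642
theorem N18716 : nd 18716 = n34643 := ndS (p := 16857) (l := 9) rfl N16857 D34643
theorem N18717 : nd 18717 = n34644 := ndS (p := 16859) (l := 8) rfl N16859 D34644
theorem N18718 : nd 18718 = n34645 := ndS (p := 16860) (l := 5) rfl N16860 D34645
theorem N18719 : nd 18719 = n34646 := ndS (p := 16860) (l := 9) rfl N16860 D34646
theorem N18720 : nd 18720 = n34647 := ndS (p := 16861) (l := 6) rfl N16861 D34647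
theorem N18721 : nd 18721 = n34648 := ndS (p := 16863) (l := 7) rfl N16863 D34648
theorem N18722 : nd 18722 = n34649 := ndS (p := 16865) (l := 3) rfl N16865 D34649
theorem N18723 : nd 18723 = n34650 := ndS (p := 16867) (l := 3) rfl N16867 D34650
theorem N18724 : nd 18724 = n34651 := ndS (p := 16869) (l := 6) rfl N16869 D34651
theorem N18725 : nd 18725 = n34652 := ndS (p := 16870) (l := 7) rfl N16870 D34652
theorem N18726 : nd 18726 = n34653 := ndS (p := 16871) (l := 7) rfl N16871 D34653
theorem N18727 : nd 18727 = n34654 := ndS (p := 16876) (l := 5) rfl N16876 D34654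
theorem N18728 : nd 18728 = n34655 := ndS (p := 16878) (l := 7) rfl N16878 D34655
theorem N18729 : nd 18729 = n34656 := ndS (p := 16879) (l := 6) rfl N16879 D34656
theorem N18730 : nd 18730 = n34657 := ndS (p := 16880) (l := 8) rfl N16880 D34657
theorem N18731 : nd 18731 = n34658 := ndS (p := 16881) (l := 9) rfl N16881 D34658
theorem N18732 : nd 18732 = n34659 := ndS (p := 16883) (l := 5) rfl N16883 D34659
theorem N18733 : nd 18733 = n34660 := ndS (p := 16883) (l := 8) rfl N16883 D34660
theorem N18734 : nd 18734 = n34661 := ndS (p := 16885) (l := 5) rfl N16885 D34661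
theorem N18735 : nd 18735 = n34662 := ndS (p := 16885) (l := 9) rfl N16885 D34662
theorem N18736 : nd 18736 = n34663 := ndS (p := 16887) (l := 4) rfl N16887 D34663
theorem N18737 : nd 18737 = n34664 := ndS (p := 16887) (l := 9) rfl N16887 D34664
theorem N18738 : nd 18738 = n34665 := ndS (p := 16889) (l := 7) rfl N16889 D34665
theorem N18739 : nd 18739 = n34666 := ndS (p := 16891) (l := 6) rfl N16891 D34666
theorem N18740 : nd 18740 = n34667 := ndS (p := 16891) (l := 8) rfl N16891 D34667
theorem N18741 : nd 18741 = n34668 := ndS (p := 16893) (l := 5) rfl N16893 D34668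
theorem N18742 : nd 18742 = n34669 := ndS (p := 16893) (l := 8) rfl N16893 D34669
theorem N18743 : nd 18743 = n34670 := ndS (p := 16894) (l := 9) rfl N16894 D34670
theorem N18744 : nd 18744 = n34671 := ndS (p := 16896) (l := 9) rfl N16896 D34671
theorem N18745 : nd 18745 = n34672 := ndS (p := 16899) (l := 9) rfl N16899 D34672
theorem N18746 : nd 18746 = n34673 := ndS (p := 16904) (l := 6) rfl N16904 D34673
theorem N18747 : nd 18747 = n34674 := ndS (p := 16905) (l := 8) rfl N16905 D34674
theorem N18748 : nd 18748 = n34675 := ndS (p := 16907) (l := 5) rfl N16907 D34675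
theorem N18749 : nd 18749 = n34676 := ndS (p := 16908) (l := 5) rfl N16908 D34676
theorem N18750 : nd 18750 = n34677 := ndS (p := 16909) (l := 4) rfl N16909 D34677
theorem N18751 : nd 18751 = n34678 := ndS (p := 16909) (l := 9) rfl N16909 D34678
theorem N18752 : nd 18752 = n34679 := ndS (p := 16913) (l := 6) rfl N16913 D34679
theorem N18753 : nd 18753 = n34680 := ndS (p := 16914) (l := 5) rfl N16914 D34680
theorem N18754 : nd 18754 = n34681 := ndS (p := 16915) (l := 5) rfl N16915 D34681
theorem N18755 : nd 18755 = n34682 := ndS (p := 16915) (l := 9) rfl N16915 D34682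
theorem N18756 : nd 18756 = n34683 := ndS (p := 16917) (l := 8) rfl N16917 D34683
theorem N18757 : nd 18757 = n34684 := ndS (p := 16918) (l := 9) rfl N16918 D34684
theorem N18758 : nd 18758 = n34685 := ndS (p := 16920) (l := 4) rfl N16920 D34685
theorem N18759 : nd 18759 = n34686 := ndS (p := 16920) (l := 9) rfl N16920 D34686
theorem N18760 : nd 18760 = n34687 := ndS (p := 16922) (l := 3) rfl N16922 D34687
theorem N18761 : nd 18761 = n34688 := ndS (p := 16925) (l := 5) rfl N16925 D34688
theorem N18762 : nd 18762 = n34689 := ndS (p := 16925) (l := 8) rfl N16925 D34689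
theorem N18763 : nd 18763 = n34690 := ndS (p := 16926) (l := 9) rfl N16926 D34690
theorem N18764 : nd 18764 = n34691 := ndS (p := 16928) (l := 8) rfl N16928 D34691
theorem N18765 : nd 18765 = n34692 := ndS (p := 16929) (l := 5) rfl N16929 D34692
theorem N18766 : nd 18766 = n34693 := ndS (p := 16929) (l := 9) rfl N16929 D34693
theorem N18767 : nd 18767 = n34694 := ndS (p := 16933) (l := 9) rfl N16933 D34694
theorem N18768 : nd 18768 = n34695 := ndS (p := 16940) (l := 5) rfl N16940 D34695
theorem N18769 : nd 18769 = n34696 := ndS (p := 16942) (l := 8) rfl N16942 D34696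
theorem N18770 : nd 18770 = n34697 := ndS (p := 16943) (l := 4) rfl N16943 D34697
theorem N18771 : nd 18771 = n34698 := ndS (p := 16944) (l := 9) rfl N16944 D34698
theorem N18772 : nd 18772 = n34699 := ndS (p := 16945) (l := 5) rfl N16945 D34699
theorem N18773 : nd 18773 = n34700 := ndS (p := 16948) (l := 4) rfl N16948 D34700
theorem N18774 : nd 18774 = n34701 := ndS (p := 16948) (l := 8) rfl N16948 D34701
theorem N18775 : nd 18775 = n34702 := ndS (p := 16949) (l := 9) rfl N16949 D34702
theorem N18776 : nd 18776 = n34703 := ndS (p := 16951) (l := 8) rfl N16951 D34703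
theorem N18777 : nd 18777 = n34704 := ndS (p := 16952) (l := 5) rfl N16952 D34704
theorem N18778 : nd 18778 = n34705 := ndS (p := 16953) (l := 6) rfl N16953 D34705
theorem N18779 : nd 18779 = n34706 := ndS (p := 16954) (l := 5) rfl N16954 D34706
theorem N18780 : nd 18780 = n34707 := ndS (p := 16955) (l := 4) rfl N16955 D34707
theorem N18781 : nd 18781 = n34708 := ndS (p := 16957) (l := 5) rfl N16957 D34708
theorem N18782 : nd 18782 = n34709 := ndS (p := 16957) (l := 9) rfl N16957 D34709
theorem N18783 : nd 18783 = n34710 := ndS (p := 16959) (l := 8) rfl N16959 D34710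
theorem N18784 : nd 18784 = n34711 := ndS (p := 16960) (l := 5) rfl N16960 D34711
theorem N18785 : nd 18785 = n34712 := ndS (p := 16960) (l := 9) rfl N16960 D34712
theorem N18786 : nd 18786 = n34713 := ndS (p := 16961) (l := 6) rfl N16961 D34713
theorem N18787 : nd 18787 = n34714 := ndS (p := 16961) (l := 9) rfl N16961 D34714
theorem N18788 : nd 18788 = n34715 := ndS (p := 16963) (l := 7) rfl N16963 D34715
theorem N18789 : nd 18789 = n34716 := ndS (p := 16963) (l := 9) rfl N16963 D34716
theorem N18790 : nd 18790 = n34717 := ndS (p := 16965) (l := 4) rfl N16965 D34717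
theorem N18791 : nd 18791 = n34718 := ndS (p := 16965) (l := 9) rfl N16965 D34718
theorem N18792 : nd 18792 = n34719 := ndS (p := 16967) (l := 3) rfl N16967 D34719
theorem N18793 : nd 18793 = n34720 := ndS (p := 16971) (l := 9) rfl N16971 D34720
theorem N18794 : nd 18794 = n34721 := ndS (p := 16977) (l := 8) rfl N16977 D34721
theorem N18795 : nd 18795 = n34722 := ndS (p := 16978) (l := 9) rfl N16978 D34722
theorem N18796 : nd 18796 = n34723 := ndS (p := 16980) (l := 8) rfl N16980 D34723
theorem N18797 : nd 18797 = n34724 := ndS (p := 16981) (l := 5) rfl N16981 D34724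
theorem N18798 : nd 18798 = n34725 := ndS (p := 16981) (l := 9) rfl N16981 D34725
theorem N18799 : nd 18799 = n34726 := ndS (p := 16982) (l := 6) rfl N16982 D34726
theorem N18800 : nd 18800 = n34727 := ndS (p := 16982) (l := 9) rfl N16982 D34727
theorem N18801 : nd 18801 = n34728 := ndS (p := 16984) (l := 5) rfl N16984 D34728
theorem N18802 : nd 18802 = n34729 := ndS (p := 16984) (l := 9) rfl N16984 D34729
theorem N18803 : nd 18803 = n34730 := ndS (p := 16986) (l := 4) rfl N16986 D34730
theorem N18804 : nd 18804 = n34731 := ndS (p := 16986) (l := 9) rfl N16986 D34731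
theorem N18805 : nd 18805 = n34732 := ndS (p := 16988) (l := 6) rfl N16988 D34732
theorem N18806 : nd 18806 = n34733 := ndS (p := 16988) (l := 9) rfl N16988 D34733
theorem N18807 : nd 18807 = n34734 := ndS (p := 16990) (l := 7) rfl N16990 D34734
theorem N18808 : nd 18808 = n34735 := ndS (p := 16991) (l := 8) rfl N16991 D34735
theorem N18809 : nd 18809 = n34736 := ndS (p := 16994) (l := 7) rfl N16994 D34736
theorem N18810 : nd 18810 = n34737 := ndS (p := 16995) (l := 7) rfl N16995 D34737
theorem N18811 : nd 18811 = n34738 := ndS (p := 16997) (l := 6) rfl N16997 D34738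
theorem N18812 : nd 18812 = n34739 := ndS (p := 16999) (l := 7) rfl N16999 D34739
theorem N18813 : nd 18813 = n34740 := ndS (p := 17000) (l := 7) rfl N17000 D34740
theorem N18814 : nd 18814 = n34741 := ndS (p := 17002) (l := 6) rfl N17002 D34741
theorem N18815 : nd 18815 = n34742 := ndS (p := 17003) (l := 6) rfl N17003 D34742
theorem N18816 : nd 18816 = n34743 := ndS (p := 17004) (l := 8) rfl N17004 D34743
theorem N18817 : nd 18817 = n34744 := ndS (p := 17006) (l := 9) rfl N17006 D34744
theorem N18818 : nd 18818 = n34745 := ndS (p := 17008) (l := 7) rfl N17008 D34745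
theorem N18819 : nd 18819 = n34746 := ndS (p := 17010) (l := 6) rfl N17010 D34746
theorem N18820 : nd 18820 = n34747 := ndS (p := 17012) (l := 7) rfl N17012 D34747
theorem N18821 : nd 18821 = n34748 := ndS (p := 17014) (l := 6) rfl N17014 D34748
theorem N18822 : nd 18822 = n34749 := ndS (p := 17025) (l := 5) rfl N17025 D34749
theorem N18823 : nd 18823 = n34750 := ndS (p := 17026) (l := 5) rfl N17026 D34750
theorem N18824 : nd 18824 = n34751 := ndS (p := 17027) (l := 9) rfl N17027 D34751
theorem N18825 : nd 18825 = n34752 := ndS (p := 17031) (l := 5) rfl N17031 D34752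
theorem N18826 : nd 18826 = n34753 := ndS (p := 17032) (l := 5) rfl N17032 D34753
theorem N18827 : nd 18827 = n34754 := ndS (p := 17033) (l := 9) rfl N17033 D34754
theorem N18828 : nd 18828 = n34755 := ndS (p := 17037) (l := 5) rfl N17037 D34755
theorem N18829 : nd 18829 = n34756 := ndS (p := 17038) (l := 5) rfl N17038 D34756
theorem N18830 : nd 18830 = n34757 := ndS (p := 17039) (l := 4) rfl N17039 D34757
theorem N18831 : nd 18831 = n34758 := ndS (p := 17039) (l := 9) rfl N17039 D34758
theorem N18832 : nd 18832 = n34759 := ndS (p := 17041) (l := 6) rfl N17041 D34759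
theorem N18833 : nd 18833 = n34760 := ndS (p := 17043) (l := 5) rfl N17043 D34760
theorem N18834 : nd 18834 = n34761 := ndS (p := 17044) (l := 5) rfl N17044 D34761
theorem N18835 : nd 18835 = n34762 := ndS (p := 17045) (l := 8) rfl N17045 D34762
theorem N18836 : nd 18836 = n34763 := ndS (p := 17046) (l := 4) rfl N17046 D34763
theorem N18837 : nd 18837 = n34764 := ndS (p := 17046) (l := 9) rfl N17046 D34764
theorem N18838 : nd 18838 = n34765 := ndS (p := 17048) (l := 8) rfl N17048 D34765
theorem N18839 : nd 18839 = n34766 := ndS (p := 17051) (l := 8) rfl N17051 D34766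
theorem N18840 : nd 18840 = n34767 := ndS (p := 17056) (l := 6) rfl N17056 D34767
theorem N18841 : nd 18841 = n34768 := ndS (p := 17058) (l := 5) rfl N17058 D34768
theorem N18842 : nd 18842 = n34769 := ndS (p := 17059) (l := 5) rfl N17059 D34769
theorem N18843 : nd 18843 = n34770 := ndS (p := 17060) (l := 8) rfl N17060 D34770
theorem N18844 : nd 18844 = n34771 := ndS (p := 17061) (l := 5) rfl N17061 D34771
theorem N18845 : nd 18845 = n34772 := ndS (p := 17062) (l := 4) rfl N17062 D34772
theorem N18846 : nd 18846 = n34773 := ndS (p := 17062) (l := 9) rfl N17062 D34773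
theorem N18847 : nd 18847 = n34774 := ndS (p := 17069) (l := 4) rfl N17069 D34774
theorem N18848 : nd 18848 = n34775 := ndS (p := 17069) (l := 9) rfl N17069 D34775
theorem N18849 : nd 18849 = n34776 := ndS (p := 17073) (l := 3) rfl N17073 D34776
theorem N18850 : nd 18850 = n34777 := ndS (p := 17073) (l := 9) rfl N17073 D34777
theorem N18851 : nd 18851 = n34778 := ndS (p := 17075) (l := 6) rfl N17075 D34778
theorem N18852 : nd 18852 = n34779 := ndS (p := 17079) (l := 9) rfl N17079 D34779
theorem N18853 : nd 18853 = n34780 := ndS (p := 17080) (l := 8) rfl N17080 D34780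
theorem N18854 : nd 18854 = n34781 := ndS (p := 17081) (l := 6) rfl N17081 D34781
theorem N18855 : nd 18855 = n34782 := ndS (p := 17082) (l := 8) rfl N17082 D34782
theorem N18856 : nd 18856 = n34783 := ndS (p := 17086) (l := 8) rfl N17086 D34783
theorem N18857 : nd 18857 = n34784 := ndS (p := 17099) (l := 4) rfl N17099 D34784
theorem N18858 : nd 18858 = n34785 := ndS (p := 17118) (l := 9) rfl N17118 D34785
theorem N18859 : nd 18859 = n34786 := ndS (p := 17121) (l := 3) rfl N17121 D34786
theorem N18860 : nd 18860 = n34787 := ndS (p := 17121) (l := 7) rfl N17121 D34787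
theorem N18861 : nd 18861 = n34788 := ndS (p := 17122) (l := 6) rfl N17122 D34788
theorem N18862 : nd 18862 = n34789 := ndS (p := 17123) (l := 6) rfl N17123 D34789
theorem N18863 : nd 18863 = n34790 := ndS (p := 17123) (l := 8) rfl N17123 D34790
theorem N18864 : nd 18864 = n34791 := ndS (p := 17124) (l := 5) rfl N17124 D34791
theorem N18865 : nd 18865 = n34792 := ndS (p := 17124) (l := 9) rfl N17124 D34792
theorem N18866 : nd 18866 = n34793 := ndS (p := 17125) (l := 8) rfl N17125 D34793
theorem N18867 : nd 18867 = n34794 := ndS (p := 17126) (l := 9) rfl N17126 D34794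
theorem N18868 : nd 18868 = n34795 := ndS (p := 17128) (l := 9) rfl N17128 D34795
theorem N18869 : nd 18869 = n34796 := ndS (p := 17130) (l := 5) rfl N17130 D34796
theorem N18870 : nd 18870 = n34797 := ndS (p := 17130) (l := 9) rfl N17130 D34797
theorem N18871 : nd 18871 = n34798 := ndS (p := 17131) (l := 6) rfl N17131 D34798
theorem N18872 : nd 18872 = n34799 := ndS (p := 17131) (l := 9) rfl N17131 D34799
theorem N18873 : nd 18873 = n34800 := ndS (p := 17134) (l := 6) rfl N17134 D34800
theorem N18874 : nd 18874 = n34801 := ndS (p := 17134) (l := 9) rfl N17134 D34801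
theorem N18875 : nd 18875 = n34802 := ndS (p := 17136) (l := 7) rfl N17136 D34802
theorem N18876 : nd 18876 = n34803 := ndS (p := 17137) (l := 8) rfl N17137 D34803
theorem N18877 : nd 18877 = n34804 := ndS (p := 17138) (l := 3) rfl N17138 D34804
theorem N18878 : nd 18878 = n34805 := ndS (p := 17139) (l := 7) rfl N17139 D34805
theorem N18879 : nd 18879 = n34806 := ndS (p := 17140) (l := 6) rfl N17140 D34806
theorem N18880 : nd 18880 = n34807 := ndS (p := 17142) (l := 5) rfl N17142 D34807
theorem N18881 : nd 18881 = n34808 := ndS (p := 17144) (l := 3) rfl N17144 D34808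
theorem N18882 : nd 18882 = n34809 := ndS (p := 17146) (l := 6) rfl N17146 D34809
theorem N18883 : nd 18883 = n34810 := ndS (p := 17147) (l := 5) rfl N17147 D34810
theorem N18884 : nd 18884 = n34811 := ndS (p := 17149) (l := 5) rfl N17149 D34811
theorem N18885 : nd 18885 = n34812 := ndS (p := 17149) (l := 7) rfl N17149 D34812
theorem N18886 : nd 18886 = n34813 := ndS (p := 17150) (l := 4) rfl N17150 D34813
theorem N18887 : nd 18887 = n34814 := ndS (p := 17150) (l := 7) rfl N17150 D34814
theorem N18888 : nd 18888 = n34815 := ndS (p := 17150) (l := 8) rfl N17150 D34815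
theorem N18889 : nd 18889 = n34816 := ndS (p := 17152) (l := 7) rfl N17152 D34816
theorem N18890 : nd 18890 = n34817 := ndS (p := 17152) (l := 8) rfl N17152 D34817
theorem N18891 : nd 18891 = n34818 := ndS (p := 17153) (l := 6) rfl N17153 D34818
theorem N18892 : nd 18892 = n34819 := ndS (p := 17153) (l := 8) rfl N17153 D34819
theorem N18893 : nd 18893 = n34820 := ndS (p := 17154) (l := 9) rfl N17154 D34820
theorem N18894 : nd 18894 = n34821 := ndS (p := 17155) (l := 8) rfl N17155 D34821
theorem N18895 : nd 18895 = n34822 := ndS (p := 17156) (l := 9) rfl N17156 D34822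
theorem N18896 : nd 18896 = n34823 := ndS (p := 17159) (l := 8) rfl N17159 D34823
theorem N18897 : nd 18897 = n34824 := ndS (p := 17161) (l := 8) rfl N17161 D34824
theorem N18898 : nd 18898 = n34825 := ndS (p := 17162) (l := 9) rfl N17162 D34825
theorem N18899 : nd 18899 = n34826 := ndS (p := 17164) (l := 5) rfl N17164 D34826
theorem N18900 : nd 18900 = n34827 := ndS (p := 17164) (l := 9) rfl N17164 D34827
theorem N18901 : nd 18901 = n34828 := ndS (p := 17167) (l := 3) rfl N17167 D34828
theorem N18902 : nd 18902 = n34829 := ndS (p := 17167) (l := 7) rfl N17167 D34829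
theorem N18903 : nd 18903 = n34830 := ndS (p := 17167) (l := 8) rfl N17167 D34830
theorem N18904 : nd 18904 = n34831 := ndS (p := 17168) (l := 6) rfl N17168 D34831
theorem N18905 : nd 18905 = n34832 := ndS (p := 17168) (l := 8) rfl N17168 D34832
theorem N18906 : nd 18906 = n34833 := ndS (p := 17170) (l := 6) rfl N17170 D34833
theorem N18907 : nd 18907 = n34834 := ndS (p := 17170) (l := 8) rfl N17170 D34834
theorem N18908 : nd 18908 = n34835 := ndS (p := 17171) (l := 5) rfl N17171 D34835
theorem N18909 : nd 18909 = n34836 := ndS (p := 17171) (l := 9) rfl N17171 D34836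
theorem N18910 : nd 18910 = n34837 := ndS (p := 17172) (l := 8) rfl N17172 D34837
theorem N18911 : nd 18911 = n34838 := ndS (p := 17173) (l := 9) rfl N17173 D34838
theorem N18912 : nd 18912 = n34839 := ndS (p := 17175) (l := 5) rfl N17175 D34839
theorem N18913 : nd 18913 = n34840 := ndS (p := 17175) (l := 9) rfl N17175 D34840
theorem N18914 : nd 18914 = n34841 := ndS (p := 17177) (l := 6) rfl N17177 D34841
theorem N18915 : nd 18915 = n34842 := ndS (p := 17178) (l := 8) rfl N17178 D34842
theorem N18916 : nd 18916 = n34843 := ndS (p := 17180) (l := 8) rfl N17180 D34843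
theorem N18917 : nd 18917 = n34844 := ndS (p := 17181) (l := 5) rfl N17181 D34844
theorem N18918 : nd 18918 = n34845 := ndS (p := 17182) (l := 6) rfl N17182 D34845
theorem N18919 : nd 18919 = n34846 := ndS (p := 17183) (l := 5) rfl N17183 D34846
theorem N18920 : nd 18920 = n34847 := ndS (p := 17183) (l := 9) rfl N17183 D34847
theorem N18921 : nd 18921 = n34848 := ndS (p := 17185) (l := 9) rfl N17185 D34848
theorem N18922 : nd 18922 = n34849 := ndS (p := 17187) (l := 5) rfl N17187 D34849
theorem N18923 : nd 18923 = n34850 := ndS (p := 17188) (l := 6) rfl N17188 D34850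
theorem N18924 : nd 18924 = n34851 := ndS (p := 17188) (l := 9) rfl N17188 D34851
theorem N18925 : nd 18925 = n34852 := ndS (p := 17190) (l := 7) rfl N17190 D34852
theorem N18926 : nd 18926 = n34853 := ndS (p := 17193) (l := 4) rfl N17193 D34853
theorem N18927 : nd 18927 = n34854 := ndS (p := 17193) (l := 7) rfl N17193 D34854
theorem N18928 : nd 18928 = n34855 := ndS (p := 17193) (l := 8) rfl N17193 D34855
theorem N18929 : nd 18929 = n34856 := ndS (p := 17195) (l := 7) rfl N17195 D34856
theorem N18930 : nd 18930 = n34857 := ndS (p := 17195) (l := 8) rfl N17195 D34857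
theorem N18931 : nd 18931 = n34858 := ndS (p := 17196) (l := 6) rfl N17196 D34858
theorem N18932 : nd 18932 = n34859 := ndS (p := 17196) (l := 8) rfl N17196 D34859
theorem N18933 : nd 18933 = n34860 := ndS (p := 17197) (l := 9) rfl N17197 D34860
theorem N18934 : nd 18934 = n34861 := ndS (p := 17198) (l := 8) rfl N17198 D34861
theorem N18935 : nd 18935 = n34862 := ndS (p := 17199) (l := 9) rfl N17199 D34862
theorem N18936 : nd 18936 = n34863 := ndS (p := 17201) (l := 3) rfl N17201 D34863
theorem N18937 : nd 18937 = n34864 := ndS (p := 17201) (l := 7) rfl N17201 D34864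
theorem N18938 : nd 18938 = n34865 := ndS (p := 17201) (l := 8) rfl N17201 D34865
theorem N18939 : nd 18939 = n34866 := ndS (p := 17202) (l := 6) rfl N17202 D34866
theorem N18940 : nd 18940 = n34867 := ndS (p := 17202) (l := 8) rfl N17202 D34867
theorem N18941 : nd 18941 = n34868 := ndS (p := 17204) (l := 6) rfl N17204 D34868
theorem N18942 : nd 18942 = n34869 := ndS (p := 17204) (l := 8) rfl N17204 D34869
theorem N18943 : nd 18943 = n34870 := ndS (p := 17205) (l := 5) rfl N17205 D34870
theorem N18944 : nd 18944 = n34871 := ndS (p := 17205) (l := 9) rfl N17205 D34871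
theorem N18945 : nd 18945 = n34872 := ndS (p := 17206) (l := 8) rfl N17206 D34872
theorem N18946 : nd 18946 = n34873 := ndS (p := 17207) (l := 9) rfl N17207 D34873
theorem N18947 : nd 18947 = n34874 := ndS (p := 17209) (l := 5) rfl N17209 D34874
theorem N18948 : nd 18948 = n34875 := ndS (p := 17209) (l := 9) rfl N17209 D34875
theorem N18949 : nd 18949 = n34876 := ndS (p := 17211) (l := 7) rfl N17211 D34876
theorem N18950 : nd 18950 = n34877 := ndS (p := 17211) (l := 8) rfl N17211 D34877
theorem N18951 : nd 18951 = n34878 := ndS (p := 17212) (l := 6) rfl N17212 D34878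
theorem N18952 : nd 18952 = n34879 := ndS (p := 17212) (l := 8) rfl N17212 D34879
theorem N18953 : nd 18953 = n34880 := ndS (p := 17213) (l := 5) rfl N17213 D34880
theorem N18954 : nd 18954 = n34881 := ndS (p := 17214) (l := 8) rfl N17214 D34881
theorem N18955 : nd 18955 = n34882 := ndS (p := 17216) (l := 5) rfl N17216 D34882
theorem N18956 : nd 18956 = n34883 := ndS (p := 17216) (l := 8) rfl N17216 D34883
theorem N18957 : nd 18957 = n34884 := ndS (p := 17217) (l := 5) rfl N17217 D34884
theorem N18958 : nd 18958 = n34885 := ndS (p := 17217) (l := 9) rfl N17217 D34885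
theorem N18959 : nd 18959 = n34886 := ndS (p := 17218) (l := 6) rfl N17218 D34886
theorem N18960 : nd 18960 = n34887 := ndS (p := 17218) (l := 9) rfl N17218 D34887
theorem N18961 : nd 18961 = n34888 := ndS (p := 17220) (l := 5) rfl N17220 D34888
theorem N18962 : nd 18962 = n34889 := ndS (p := 17220) (l := 9) rfl N17220 D34889
theorem N18963 : nd 18963 = n34890 := ndS (p := 17222) (l := 4) rfl N17222 D34890
theorem N18964 : nd 18964 = n34891 := ndS (p := 17222) (l := 9) rfl N17222 D34891
theorem N18965 : nd 18965 = n34892 := ndS (p := 17224) (l := 5) rfl N17224 D34892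
theorem N18966 : nd 18966 = n34893 := ndS (p := 17224) (l := 8) rfl N17224 D34893
theorem N18967 : nd 18967 = n34894 := ndS (p := 17225) (l := 5) rfl N17225 D34894
theorem N18968 : nd 18968 = n34895 := ndS (p := 17226) (l := 6) rfl N17226 D34895
theorem N18969 : nd 18969 = n34896 := ndS (p := 17227) (l := 5) rfl N17227 D34896
theorem N18970 : nd 18970 = n34897 := ndS (p := 17228) (l := 8) rfl N17228 D34897
theorem N18971 : nd 18971 = n34898 := ndS (p := 17229) (l := 5) rfl N17229 D34898
theorem N18972 : nd 18972 = n34899 := ndS (p := 17229) (l := 9) rfl N17229 D34899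
theorem N18973 : nd 18973 = n34900 := ndS (p := 17230) (l := 6) rfl N17230 D34900
theorem N18974 : nd 18974 = n34901 := ndS (p := 17230) (l := 9) rfl N17230 D34901
theorem N18975 : nd 18975 = n34902 := ndS (p := 17232) (l := 7) rfl N17232 D34902
theorem N18976 : nd 18976 = n34903 := ndS (p := 17232) (l := 9) rfl N17232 D34903
theorem N18977 : nd 18977 = n34904 := ndS (p := 17234) (l := 4) rfl N17234 D34904
theorem N18978 : nd 18978 = n34905 := ndS (p := 17234) (l := 9) rfl N17234 D34905
theorem N18979 : nd 18979 = n34906 := ndS (p := 17236) (l := 3) rfl N17236 D34906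
theorem N18980 : nd 18980 = n34907 := ndS (p := 17236) (l := 9) rfl N17236 D34907
theorem N18981 : nd 18981 = n34908 := ndS (p := 17237) (l := 8) rfl N17237 D34908
theorem N18982 : nd 18982 = n34909 := ndS (p := 17238) (l := 5) rfl N17238 D34909
theorem N18983 : nd 18983 = n34910 := ndS (p := 17239) (l := 4) rfl N17239 D34910
theorem N18984 : nd 18984 = n34911 := ndS (p := 17239) (l := 6) rfl N17239 D34911
theorem N18985 : nd 18985 = n34912 := ndS (p := 17239) (l := 9) rfl N17239 D34912
theorem N18986 : nd 18986 = n34913 := ndS (p := 17241) (l := 7) rfl N17241 D34913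
theorem N18987 : nd 18987 = n34914 := ndS (p := 17241) (l := 9) rfl N17241 D34914
theorem N18988 : nd 18988 = n34915 := ndS (p := 17242) (l := 8) rfl N17242 D34915
theorem N18989 : nd 18989 = n34916 := ndS (p := 17243) (l := 9) rfl N17243 D34916
theorem N18990 : nd 18990 = n34917 := ndS (p := 17246) (l := 3) rfl N17246 D34917
theorem N18991 : nd 18991 = n34918 := ndS (p := 17246) (l := 9) rfl N17246 D34918
theorem N18992 : nd 18992 = n34919 := ndS (p := 17247) (l := 8) rfl N17247 D34919
theorem N18993 : nd 18993 = n34920 := ndS (p := 17248) (l := 2) rfl N17248 D34920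
theorem N18994 : nd 18994 = n34921 := ndS (p := 17248) (l := 9) rfl N17248 D34921
theorem N18995 : nd 18995 = n34922 := ndS (p := 17251) (l := 7) rfl N17251 D34922
theorem N18996 : nd 18996 = n34923 := ndS (p := 17252) (l := 6) rfl N17252 D34923
theorem N18997 : nd 18997 = n34924 := ndS (p := 17253) (l := 8) rfl N17253 D34924
theorem N18998 : nd 18998 = n34925 := ndS (p := 17255) (l := 5) rfl N17255 D34925
theorem N18999 : nd 18999 = n34926 := ndS (p := 17256) (l := 5) rfl N17256 D34926
theorem N19000 : nd 19000 = n34927 := ndS (p := 17257) (l := 9) rfl N17257 D34927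
theorem N19001 : nd 19001 = n34928 := ndS (p := 17259) (l := 6) rfl N17259 D34928
theorem N19002 : nd 19002 = n34929 := ndS (p := 17259) (l := 8) rfl N17259 D34929
theorem N19003 : nd 19003 = n34930 := ndS (p := 17261) (l := 5) rfl N17261 D34930
theorem N19004 : nd 19004 = n34931 := ndS (p := 17261) (l := 8) rfl N17261 D34931
theorem N19005 : nd 19005 = n34932 := ndS (p := 17263) (l := 5) rfl N17263 D34932
theorem N19006 : nd 19006 = n34933 := ndS (p := 17264) (l := 8) rfl N17264 D34933
theorem N19007 : nd 19007 = n34934 := ndS (p := 17265) (l := 5) rfl N17265 D34934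
theorem N19008 : nd 19008 = n34935 := ndS (p := 17266) (l := 4) rfl N17266 D34935
theorem N19009 : nd 19009 = n34936 := ndS (p := 17267) (l := 3) rfl N17267 D34936
theorem N19010 : nd 19010 = n34937 := ndS (p := 17267) (l := 9) rfl N17267 D34937
theorem N19011 : nd 19011 = n34938 := ndS (p := 17268) (l := 8) rfl N17268 D34938
theorem N19012 : nd 19012 = n34939 := ndS (p := 17269) (l := 4) rfl N17269 D34939
theorem N19013 : nd 19013 = n34940 := ndS (p := 17270) (l := 3) rfl N17270 D34940
theorem N19014 : nd 19014 = n34941 := ndS (p := 17271) (l := 2) rfl N17271 D34941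
theorem N19015 : nd 19015 = n34942 := ndS (p := 17275) (l := 5) rfl N17275 D34942
theorem N19016 : nd 19016 = n34943 := ndS (p := 17276) (l := 8) rfl N17276 D34943
theorem N19017 : nd 19017 = n34944 := ndS (p := 17281) (l := 8) rfl N17281 D34944
theorem N19018 : nd 19018 = n34945 := ndS (p := 17283) (l := 8) rfl N17283 D34945
theorem N19019 : nd 19019 = n34946 := ndS (p := 17292) (l := 5) rfl N17292 D34946
theorem N19020 : nd 19020 = n34947 := ndS (p := 17292) (l := 7) rfl N17292 D34947
theorem N19021 : nd 19021 = n34948 := ndS (p := 17293) (l := 4) rfl N17293 D34948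
theorem N19022 : nd 19022 = n34949 := ndS (p := 17293) (l := 7) rfl N17293 D34949
theorem N19023 : nd 19023 = n34950 := ndS (p := 17295) (l := 7) rfl N17295 D34950
theorem N19024 : nd 19024 = n34951 := ndS (p := 17295) (l := 8) rfl N17295 D34951
theorem N19025 : nd 19025 = n34952 := ndS (p := 17296) (l := 6) rfl N17296 D34952
theorem N19026 : nd 19026 = n34953 := ndS (p := 17296) (l := 8) rfl N17296 D34953
theorem N19027 : nd 19027 = n34954 := ndS (p := 17298) (l := 8) rfl N17298 D34954
theorem N19028 : nd 19028 = n34955 := ndS (p := 17301) (l := 8) rfl N17301 D34955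
theorem N19029 : nd 19029 = n34956 := ndS (p := 17303) (l := 5) rfl N17303 D34956
theorem N19030 : nd 19030 = n34957 := ndS (p := 17304) (l := 4) rfl N17304 D34957
theorem N19031 : nd 19031 = n34958 := ndS (p := 17304) (l := 7) rfl N17304 D34958
theorem N19032 : nd 19032 = n34959 := ndS (p := 17304) (l := 8) rfl N17304 D34959
theorem N19033 : nd 19033 = n34960 := ndS (p := 17306) (l := 7) rfl N17306 D34960
theorem N19034 : nd 19034 = n34961 := ndS (p := 17306) (l := 8) rfl N17306 D34961
theorem N19035 : nd 19035 = n34962 := ndS (p := 17307) (l := 6) rfl N17307 D34962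
theorem N19036 : nd 19036 = n34963 := ndS (p := 17307) (l := 8) rfl N17307 D34963
theorem N19037 : nd 19037 = n34964 := ndS (p := 17308) (l := 9) rfl N17308 D34964
theorem N19038 : nd 19038 = n34965 := ndS (p := 17309) (l := 8) rfl N17309 D34965
theorem N19039 : nd 19039 = n34966 := ndS (p := 17310) (l := 9) rfl N17310 D34966
theorem N19040 : nd 19040 = n34967 := ndS (p := 17312) (l := 3) rfl N17312 D34967
theorem N19041 : nd 19041 = n34968 := ndS (p := 17312) (l := 7) rfl N17312 D34968
theorem N19042 : nd 19042 = n34969 := ndS (p := 17312) (l := 8) rfl N17312 D34969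
theorem N19043 : nd 19043 = n34970 := ndS (p := 17313) (l := 6) rfl N17313 D34970
theorem N19044 : nd 19044 = n34971 := ndS (p := 17313) (l := 8) rfl N17313 D34971
theorem N19045 : nd 19045 = n34972 := ndS (p := 17314) (l := 9) rfl N17314 D34972
theorem N19046 : nd 19046 = n34973 := ndS (p := 17315) (l := 6) rfl N17315 D34973
theorem N19047 : nd 19047 = n34974 := ndS (p := 17315) (l := 8) rfl N17315 D34974
theorem N19048 : nd 19048 = n34975 := ndS (p := 17316) (l := 5) rfl N17316 D34975
theorem N19049 : nd 19049 = n34976 := ndS (p := 17316) (l := 9) rfl N17316 D34976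
theorem N19050 : nd 19050 = n34977 := ndS (p := 17317) (l := 8) rfl N17317 D34977
theorem N19051 : nd 19051 = n34978 := ndS (p := 17318) (l := 9) rfl N17318 D34978
theorem N19052 : nd 19052 = n34979 := ndS (p := 17320) (l := 5) rfl N17320 D34979
theorem N19053 : nd 19053 = n34980 := ndS (p := 17320) (l := 9) rfl N17320 D34980
theorem N19054 : nd 19054 = n34981 := ndS (p := 17322) (l := 8) rfl N17322 D34981
theorem N19055 : nd 19055 = n34982 := ndS (p := 17323) (l := 9) rfl N17323 D34982
theorem N19056 : nd 19056 = n34983 := ndS (p := 17325) (l := 8) rfl N17325 D34983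
theorem N19057 : nd 19057 = n34984 := ndS (p := 17326) (l := 5) rfl N17326 D34984
theorem N19058 : nd 19058 = n34985 := ndS (p := 17327) (l := 6) rfl N17327 D34985
theorem N19059 : nd 19059 = n34986 := ndS (p := 17328) (l := 5) rfl N17328 D34986
theorem N19060 : nd 19060 = n34987 := ndS (p := 17328) (l := 9) rfl N17328 D34987
theorem N19061 : nd 19061 = n34988 := ndS (p := 17330) (l := 4) rfl N17330 D34988
theorem N19062 : nd 19062 = n34989 := ndS (p := 17330) (l := 9) rfl N17330 D34989
theorem N19063 : nd 19063 = n34990 := ndS (p := 17332) (l := 5) rfl N17332 D34990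
theorem N19064 : nd 19064 = n34991 := ndS (p := 17333) (l := 6) rfl N17333 D34991
theorem N19065 : nd 19065 = n34992 := ndS (p := 17334) (l := 7) rfl N17334 D34992
theorem N19066 : nd 19066 = n34993 := ndS (p := 17335) (l := 3) rfl N17335 D34993
theorem N19067 : nd 19067 = n34994 := ndS (p := 17336) (l := 4) rfl N17336 D34994
theorem N19068 : nd 19068 = n34995 := ndS (p := 17336) (l := 7) rfl N17336 D34995
theorem N19069 : nd 19069 = n34996 := ndS (p := 17336) (l := 8) rfl N17336 D34996
theorem N19070 : nd 19070 = n34997 := ndS (p := 17338) (l := 7) rfl N17338 D34997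
theorem N19071 : nd 19071 = n34998 := ndS (p := 17338) (l := 8) rfl N17338 D34998
theorem N19072 : nd 19072 = n34999 := ndS (p := 17339) (l := 6) rfl N17339 D34999
theorem N19073 : nd 19073 = n35000 := ndS (p := 17339) (l := 8) rfl N17339 D35000
theorem N19074 : nd 19074 = n35001 := ndS (p := 17340) (l := 9) rfl N17340 D35001
theorem N19075 : nd 19075 = n35002 := ndS (p := 17341) (l := 8) rfl N17341 D35002
theorem N19076 : nd 19076 = n35003 := ndS (p := 17342) (l := 9) rfl N17342 D35003
theorem N19077 : nd 19077 = n35004 := ndS (p := 17344) (l := 6) rfl N17344 D35004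
theorem N19078 : nd 19078 = n35005 := ndS (p := 17345) (l := 7) rfl N17345 D35005
theorem N19079 : nd 19079 = n35006 := ndS (p := 17346) (l := 4) rfl N17346 D35006
theorem N19080 : nd 19080 = n35007 := ndS (p := 17346) (l := 7) rfl N17346 D35007
theorem N19081 : nd 19081 = n35008 := ndS (p := 17348) (l := 7) rfl N17348 D35008
theorem N19082 : nd 19082 = n35009 := ndS (p := 17348) (l := 8) rfl N17348 D35009
theorem N19083 : nd 19083 = n35010 := ndS (p := 17349) (l := 6) rfl N17349 D35010
theorem N19084 : nd 19084 = n35011 := ndS (p := 17349) (l := 8) rfl N17349 D35011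
theorem N19085 : nd 19085 = n35012 := ndS (p := 17351) (l := 8) rfl N17351 D35012
theorem N19086 : nd 19086 = n35013 := ndS (p := 17353) (l := 6) rfl N17353 D35013
theorem N19087 : nd 19087 = n35014 := ndS (p := 17354) (l := 5) rfl N17354 D35014
theorem N19088 : nd 19088 = n35015 := ndS (p := 17354) (l := 7) rfl N17354 D35015
theorem N19089 : nd 19089 = n35016 := ndS (p := 17355) (l := 4) rfl N17355 D35016
theorem N19090 : nd 19090 = n35017 := ndS (p := 17355) (l := 7) rfl N17355 D35017
theorem N19091 : nd 19091 = n35018 := ndS (p := 17355) (l := 8) rfl N17355 D35018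
theorem N19092 : nd 19092 = n35019 := ndS (p := 17357) (l := 7) rfl N17357 D35019
theorem N19093 : nd 19093 = n35020 := ndS (p := 17357) (l := 8) rfl N17357 D35020
theorem N19094 : nd 19094 = n35021 := ndS (p := 17358) (l := 6) rfl N17358 D35021
theorem N19095 : nd 19095 = n35022 := ndS (p := 17358) (l := 8) rfl N17358 D35022
theorem N19096 : nd 19096 = n35023 := ndS (p := 17359) (l := 9) rfl N17359 D35023
theorem N19097 : nd 19097 = n35024 := ndS (p := 17360) (l := 8) rfl N17360 D35024
theorem N19098 : nd 19098 = n35025 := ndS (p := 17361) (l := 9) rfl N17361 D35025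
theorem N19099 : nd 19099 = n35026 := ndS (p := 17363) (l := 5) rfl N17363 D35026
theorem N19100 : nd 19100 = n35027 := ndS (p := 17363) (l := 7) rfl N17363 D35027
theorem N19101 : nd 19101 = n35028 := ndS (p := 17364) (l := 4) rfl N17364 D35028
theorem N19102 : nd 19102 = n35029 := ndS (p := 17364) (l := 7) rfl N17364 D35029
theorem N19103 : nd 19103 = n35030 := ndS (p := 17364) (l := 8) rfl N17364 D35030
theorem N19104 : nd 19104 = n35031 := ndS (p := 17366) (l := 3) rfl N17366 D35031
theorem N19105 : nd 19105 = n35032 := ndS (p := 17366) (l := 7) rfl N17366 D35032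
theorem N19106 : nd 19106 = n35033 := ndS (p := 17366) (l := 8) rfl N17366 D35033
theorem N19107 : nd 19107 = n35034 := ndS (p := 17367) (l := 6) rfl N17367 D35034
theorem N19108 : nd 19108 = n35035 := ndS (p := 17367) (l := 8) rfl N17367 D35035
theorem N19109 : nd 19109 = n35036 := ndS (p := 17368) (l := 9) rfl N17368 D35036
theorem N19110 : nd 19110 = n35037 := ndS (p := 17369) (l := 6) rfl N17369 D35037
theorem N19111 : nd 19111 = n35038 := ndS (p := 17369) (l := 8) rfl N17369 D35038
theorem N19112 : nd 19112 = n35039 := ndS (p := 17370) (l := 5) rfl N17370 D35039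
theorem N19113 : nd 19113 = n35040 := ndS (p := 17370) (l := 9) rfl N17370 D35040
theorem N19114 : nd 19114 = n35041 := ndS (p := 17371) (l := 8) rfl N17371 D35041
theorem N19115 : nd 19115 = n35042 := ndS (p := 17372) (l := 9) rfl N17372 D35042
theorem N19116 : nd 19116 = n35043 := ndS (p := 17374) (l := 5) rfl N17374 D35043
theorem N19117 : nd 19117 = n35044 := ndS (p := 17374) (l := 9) rfl N17374 D35044
theorem N19118 : nd 19118 = n35045 := ndS (p := 17377) (l := 5) rfl N17377 D35045
theorem N19119 : nd 19119 = n35046 := ndS (p := 17377) (l := 7) rfl N17377 D35046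
theorem N19120 : nd 19120 = n35047 := ndS (p := 17378) (l := 4) rfl N17378 D35047
theorem N19121 : nd 19121 = n35048 := ndS (p := 17378) (l := 7) rfl N17378 D35048
theorem N19122 : nd 19122 = n35049 := ndS (p := 17380) (l := 7) rfl N17380 D35049
theorem N19123 : nd 19123 = n35050 := ndS (p := 17380) (l := 8) rfl N17380 D35050
theorem N19124 : nd 19124 = n35051 := ndS (p := 17381) (l := 6) rfl N17381 D35051
theorem N19125 : nd 19125 = n35052 := ndS (p := 17381) (l := 8) rfl N17381 D35052
theorem N19126 : nd 19126 = n35053 := ndS (p := 17383) (l := 8) rfl N17383 D35053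
theorem N19127 : nd 19127 = n35054 := ndS (p := 17386) (l := 4) rfl N17386 D35054
theorem N19128 : nd 19128 = n35055 := ndS (p := 17386) (l := 7) rfl N17386 D35055
theorem N19129 : nd 19129 = n35056 := ndS (p := 17386) (l := 8) rfl N17386 D35056
theorem N19130 : nd 19130 = n35057 := ndS (p := 17388) (l := 7) rfl N17388 D35057
theorem N19131 : nd 19131 = n35058 := ndS (p := 17388) (l := 8) rfl N17388 D35058
theorem N19132 : nd 19132 = n35059 := ndS (p := 17389) (l := 6) rfl N17389 D35059
theorem N19133 : nd 19133 = n35060 := ndS (p := 17389) (l := 8) rfl N17389 D35060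
theorem N19134 : nd 19134 = n35061 := ndS (p := 17391) (l := 8) rfl N17391 D35061
theorem N19135 : nd 19135 = n35062 := ndS (p := 17393) (l := 7) rfl N17393 D35062
theorem N19136 : nd 19136 = n35063 := ndS (p := 17394) (l := 6) rfl N17394 D35063
theorem N19137 : nd 19137 = n35064 := ndS (p := 17395) (l := 6) rfl N17395 D35064
theorem N19138 : nd 19138 = n35065 := ndS (p := 17395) (l := 8) rfl N17395 D35065
theorem N19139 : nd 19139 = n35066 := ndS (p := 17396) (l := 9) rfl N17396 D35066
theorem N19140 : nd 19140 = n35067 := ndS (p := 17397) (l := 8) rfl N17397 D35067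
theorem N19141 : nd 19141 = n35068 := ndS (p := 17398) (l := 9) rfl N17398 D35068
theorem N19142 : nd 19142 = n35069 := ndS (p := 17400) (l := 5) rfl N17400 D35069
theorem N19143 : nd 19143 = n35070 := ndS (p := 17400) (l := 9) rfl N17400 D35070
theorem N19144 : nd 19144 = n35071 := ndS (p := 17402) (l := 5) rfl N17402 D35071
theorem N19145 : nd 19145 = n35072 := ndS (p := 17402) (l := 7) rfl N17402 D35072
theorem N19146 : nd 19146 = n35073 := ndS (p := 17403) (l := 4) rfl N17403 D35073
theorem N19147 : nd 19147 = n35074 := ndS (p := 17403) (l := 7) rfl N17403 D35074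
theorem N19148 : nd 19148 = n35075 := ndS (p := 17403) (l := 8) rfl N17403 D35075
theorem N19149 : nd 19149 = n35076 := ndS (p := 17405) (l := 3) rfl N17405 D35076
theorem N19150 : nd 19150 = n35077 := ndS (p := 17405) (l := 7) rfl N17405 D35077
theorem N19151 : nd 19151 = n35078 := ndS (p := 17405) (l := 8) rfl N17405 D35078
theorem N19152 : nd 19152 = n35079 := ndS (p := 17406) (l := 6) rfl N17406 D35079
theorem N19153 : nd 19153 = n35080 := ndS (p := 17406) (l := 8) rfl N17406 D35080
theorem N19154 : nd 19154 = n35081 := ndS (p := 17407) (l := 9) rfl N17407 D35081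
theorem N19155 : nd 19155 = n35082 := ndS (p := 17408) (l := 6) rfl N17408 D35082
theorem N19156 : nd 19156 = n35083 := ndS (p := 17408) (l := 8) rfl N17408 D35083
theorem N19157 : nd 19157 = n35084 := ndS (p := 17409) (l := 5) rfl N17409 D35084
theorem N19158 : nd 19158 = n35085 := ndS (p := 17409) (l := 9) rfl N17409 D35085
theorem N19159 : nd 19159 = n35086 := ndS (p := 17410) (l := 8) rfl N17410 D35086
theorem N19160 : nd 19160 = n35087 := ndS (p := 17411) (l := 9) rfl N17411 D35087
theorem N19161 : nd 19161 = n35088 := ndS (p := 17413) (l := 5) rfl N17413 D35088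
theorem N19162 : nd 19162 = n35089 := ndS (p := 17413) (l := 9) rfl N17413 D35089
theorem N19163 : nd 19163 = n35090 := ndS (p := 17415) (l := 4) rfl N17415 D35090
theorem N19164 : nd 19164 = n35091 := ndS (p := 17415) (l := 7) rfl N17415 D35091
theorem N19165 : nd 19165 = n35092 := ndS (p := 17415) (l := 8) rfl N17415 D35092
theorem N19166 : nd 19166 = n35093 := ndS (p := 17417) (l := 3) rfl N17417 D35093
theorem N19167 : nd 19167 = n35094 := ndS (p := 17417) (l := 7) rfl N17417 D35094
theorem N19168 : nd 19168 = n35095 := ndS (p := 17417) (l := 8) rfl N17417 D35095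
theorem N19169 : nd 19169 = n35096 := ndS (p := 17418) (l := 6) rfl N17418 D35096
theorem N19170 : nd 19170 = n35097 := ndS (p := 17418) (l := 8) rfl N17418 D35097
theorem N19171 : nd 19171 = n35098 := ndS (p := 17419) (l := 9) rfl N17419 D35098
theorem N19172 : nd 19172 = n35099 := ndS (p := 17420) (l := 7) rfl N17420 D35099
theorem N19173 : nd 19173 = n35100 := ndS (p := 17420) (l := 8) rfl N17420 D35100
theorem N19174 : nd 19174 = n35101 := ndS (p := 17421) (l := 6) rfl N17421 D35101
theorem N19175 : nd 19175 = n35102 := ndS (p := 17421) (l := 8) rfl N17421 D35102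
theorem N19176 : nd 19176 = n35103 := ndS (p := 17422) (l := 5) rfl N17422 D35103
theorem N19177 : nd 19177 = n35104 := ndS (p := 17422) (l := 9) rfl N17422 D35104
theorem N19178 : nd 19178 = n35105 := ndS (p := 17423) (l := 8) rfl N17423 D35105
theorem N19179 : nd 19179 = n35106 := ndS (p := 17424) (l := 9) rfl N17424 D35106
theorem N19180 : nd 19180 = n35107 := ndS (p := 17426) (l := 5) rfl N17426 D35107
theorem N19181 : nd 19181 = n35108 := ndS (p := 17426) (l := 8) rfl N17426 D35108
theorem N19182 : nd 19182 = n35109 := ndS (p := 17427) (l := 5) rfl N17427 D35109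
theorem N19183 : nd 19183 = n35110 := ndS (p := 17427) (l := 9) rfl N17427 D35110
theorem N19184 : nd 19184 = n35111 := ndS (p := 17428) (l := 6) rfl N17428 D35111
theorem N19185 : nd 19185 = n35112 := ndS (p := 17428) (l := 9) rfl N17428 D35112
theorem N19186 : nd 19186 = n35113 := ndS (p := 17430) (l := 5) rfl N17430 D35113
theorem N19187 : nd 19187 = n35114 := ndS (p := 17430) (l := 9) rfl N17430 D35114
theorem N19188 : nd 19188 = n35115 := ndS (p := 17432) (l := 4) rfl N17432 D35115
theorem N19189 : nd 19189 = n35116 := ndS (p := 17432) (l := 9) rfl N17432 D35116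
theorem N19190 : nd 19190 = n35117 := ndS (p := 17434) (l := 5) rfl N17434 D35117
theorem N19191 : nd 19191 = n35118 := ndS (p := 17434) (l := 9) rfl N17434 D35118
theorem N19192 : nd 19192 = n35119 := ndS (p := 17436) (l := 4) rfl N17436 D35119
theorem N19193 : nd 19193 = n35120 := ndS (p := 17436) (l := 9) rfl N17436 D35120
theorem N19194 : nd 19194 = n35121 := ndS (p := 17438) (l := 8) rfl N17438 D35121
theorem N19195 : nd 19195 = n35122 := ndS (p := 17439) (l := 9) rfl N17439 D35122
theorem N19196 : nd 19196 = n35123 := ndS (p := 17440) (l := 8) rfl N17440 D35123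
theorem N19197 : nd 19197 = n35124 := ndS (p := 17441) (l := 9) rfl N17441 D35124
theorem N19198 : nd 19198 = n35125 := ndS (p := 17443) (l := 8) rfl N17443 D35125
theorem N19199 : nd 19199 = n35126 := ndS (p := 17444) (l := 5) rfl N17444 D35126
theorem N19200 : nd 19200 = n35127 := ndS (p := 17444) (l := 9) rfl N17444 D35127
theorem N19201 : nd 19201 = n35128 := ndS (p := 17445) (l := 6) rfl N17445 D35128
theorem N19202 : nd 19202 = n35129 := ndS (p := 17445) (l := 9) rfl N17445 D35129
theorem N19203 : nd 19203 = n35130 := ndS (p := 17447) (l := 5) rfl N17447 D35130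
theorem N19204 : nd 19204 = n35131 := ndS (p := 17447) (l := 9) rfl N17447 D35131
theorem N19205 : nd 19205 = n35132 := ndS (p := 17449) (l := 5) rfl N17449 D35132
theorem N19206 : nd 19206 = n35133 := ndS (p := 17450) (l := 6) rfl N17450 D35133
theorem N19207 : nd 19207 = n35134 := ndS (p := 17450) (l := 9) rfl N17450 D35134
theorem N19208 : nd 19208 = n35135 := ndS (p := 17452) (l := 7) rfl N17452 D35135
theorem N19209 : nd 19209 = n35136 := ndS (p := 17452) (l := 9) rfl N17452 D35136
theorem N19210 : nd 19210 = n35137 := ndS (p := 17453) (l := 8) rfl N17453 D35137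
theorem N19211 : nd 19211 = n35138 := ndS (p := 17454) (l := 4) rfl N17454 D35138
theorem N19212 : nd 19212 = n35139 := ndS (p := 17454) (l := 9) rfl N17454 D35139
theorem N19213 : nd 19213 = n35140 := ndS (p := 17456) (l := 3) rfl N17456 D35140
theorem N19214 : nd 19214 = n35141 := ndS (p := 17457) (l := 8) rfl N17457 D35141
theorem N19215 : nd 19215 = n35142 := ndS (p := 17458) (l := 5) rfl N17458 D35142
theorem N19216 : nd 19216 = n35143 := ndS (p := 17458) (l := 9) rfl N17458 D35143
theorem N19217 : nd 19217 = n35144 := ndS (p := 17459) (l := 6) rfl N17459 D35144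
theorem N19218 : nd 19218 = n35145 := ndS (p := 17460) (l := 7) rfl N17460 D35145
theorem N19219 : nd 19219 = n35146 := ndS (p := 17460) (l := 9) rfl N17460 D35146
theorem N19220 : nd 19220 = n35147 := ndS (p := 17461) (l := 8) rfl N17461 D35147
theorem N19221 : nd 19221 = n35148 := ndS (p := 17462) (l := 9) rfl N17462 D35148
theorem N19222 : nd 19222 = n35149 := ndS (p := 17466) (l := 7) rfl N17466 D35149
theorem N19223 : nd 19223 = n35150 := ndS (p := 17468) (l := 6) rfl N17468 D35150
theorem N19224 : nd 19224 = n35151 := ndS (p := 17469) (l := 6) rfl N17469 D35151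
theorem N19225 : nd 19225 = n35152 := ndS (p := 17470) (l := 8) rfl N17470 D35152
theorem N19226 : nd 19226 = n35153 := ndS (p := 17472) (l := 5) rfl N17472 D35153
theorem N19227 : nd 19227 = n35154 := ndS (p := 17473) (l := 5) rfl N17473 D35154
theorem N19228 : nd 19228 = n35155 := ndS (p := 17473) (l := 7) rfl N17473 D35155
theorem N19229 : nd 19229 = n35156 := ndS (p := 17474) (l := 4) rfl N17474 D35156
theorem N19230 : nd 19230 = n35157 := ndS (p := 17474) (l := 7) rfl N17474 D35157
theorem N19231 : nd 19231 = n35158 := ndS (p := 17474) (l := 8) rfl N17474 D35158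
theorem N19232 : nd 19232 = n35159 := ndS (p := 17476) (l := 3) rfl N17476 D35159
theorem N19233 : nd 19233 = n35160 := ndS (p := 17476) (l := 7) rfl N17476 D35160
theorem N19234 : nd 19234 = n35161 := ndS (p := 17477) (l := 6) rfl N17477 D35161
theorem N19235 : nd 19235 = n35162 := ndS (p := 17477) (l := 8) rfl N17477 D35162
theorem N19236 : nd 19236 = n35163 := ndS (p := 17479) (l := 6) rfl N17479 D35163
theorem N19237 : nd 19237 = n35164 := ndS (p := 17480) (l := 8) rfl N17480 D35164
theorem N19238 : nd 19238 = n35165 := ndS (p := 17482) (l := 5) rfl N17482 D35165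
theorem N19239 : nd 19239 = n35166 := ndS (p := 17482) (l := 9) rfl N17482 D35166
theorem N19240 : nd 19240 = n35167 := ndS (p := 17484) (l := 4) rfl N17484 D35167
theorem N19241 : nd 19241 = n35168 := ndS (p := 17484) (l := 7) rfl N17484 D35168
theorem N19242 : nd 19242 = n35169 := ndS (p := 17484) (l := 8) rfl N17484 D35169
theorem N19243 : nd 19243 = n35170 := ndS (p := 17486) (l := 3) rfl N17486 D35170
theorem N19244 : nd 19244 = n35171 := ndS (p := 17486) (l := 7) rfl N17486 D35171
theorem N19245 : nd 19245 = n35172 := ndS (p := 17486) (l := 8) rfl N17486 D35172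
theorem N19246 : nd 19246 = n35173 := ndS (p := 17487) (l := 6) rfl N17487 D35173
theorem N19247 : nd 19247 = n35174 := ndS (p := 17487) (l := 8) rfl N17487 D35174
theorem N19248 : nd 19248 = n35175 := ndS (p := 17488) (l := 9) rfl N17488 D35175
theorem N19249 : nd 19249 = n35176 := ndS (p := 17489) (l := 7) rfl N17489 D35176
theorem N19250 : nd 19250 = n35177 := ndS (p := 17489) (l := 8) rfl N17489 D35177
theorem N19251 : nd 19251 = n35178 := ndS (p := 17490) (l := 6) rfl N17490 D35178
theorem N19252 : nd 19252 = n35179 := ndS (p := 17490) (l := 8) rfl N17490 D35179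
theorem N19253 : nd 19253 = n35180 := ndS (p := 17492) (l := 8) rfl N17492 D35180
theorem N19254 : nd 19254 = n35181 := ndS (p := 17493) (l := 9) rfl N17493 D35181
theorem N19255 : nd 19255 = n35182 := ndS (p := 17495) (l := 5) rfl N17495 D35182
theorem N19256 : nd 19256 = n35183 := ndS (p := 17495) (l := 8) rfl N17495 D35183
theorem N19257 : nd 19257 = n35184 := ndS (p := 17497) (l := 5) rfl N17497 D35184
theorem N19258 : nd 19258 = n35185 := ndS (p := 17497) (l := 9) rfl N17497 D35185
theorem N19259 : nd 19259 = n35186 := ndS (p := 17499) (l := 4) rfl N17499 D35186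
theorem N19260 : nd 19260 = n35187 := ndS (p := 17499) (l := 9) rfl N17499 D35187
theorem N19261 : nd 19261 = n35188 := ndS (p := 17501) (l := 7) rfl N17501 D35188
theorem N19262 : nd 19262 = n35189 := ndS (p := 17503) (l := 6) rfl N17503 D35189
theorem N19263 : nd 19263 = n35190 := ndS (p := 17504) (l := 6) rfl N17504 D35190
theorem N19264 : nd 19264 = n35191 := ndS (p := 17506) (l := 5) rfl N17506 D35191
theorem N19265 : nd 19265 = n35192 := ndS (p := 17507) (l := 6) rfl N17507 D35192
theorem N19266 : nd 19266 = n35193 := ndS (p := 17507) (l := 8) rfl N17507 D35193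
theorem N19267 : nd 19267 = n35194 := ndS (p := 17509) (l := 6) rfl N17509 D35194
theorem N19268 : nd 19268 = n35195 := ndS (p := 17510) (l := 8) rfl N17510 D35195
theorem N19269 : nd 19269 = n35196 := ndS (p := 17512) (l := 5) rfl N17512 D35196
theorem N19270 : nd 19270 = n35197 := ndS (p := 17514) (l := 5) rfl N17514 D35197
theorem N19271 : nd 19271 = n35198 := ndS (p := 17515) (l := 5) rfl N17515 D35198
theorem N19272 : nd 19272 = n35199 := ndS (p := 17516) (l := 4) rfl N17516 D35199
theorem N19273 : nd 19273 = n35200 := ndS (p := 17516) (l := 9) rfl N17516 D35200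
theorem N19274 : nd 19274 = n35201 := ndS (p := 17518) (l := 7) rfl N17518 D35201
theorem N19275 : nd 19275 = n35202 := ndS (p := 17520) (l := 3) rfl N17520 D35202
theorem N19276 : nd 19276 = n35203 := ndS (p := 17520) (l := 7) rfl N17520 D35203
theorem N19277 : nd 19277 = n35204 := ndS (p := 17521) (l := 6) rfl N17521 D35204
theorem N19278 : nd 19278 = n35205 := ndS (p := 17521) (l := 8) rfl N17521 D35205
theorem N19279 : nd 19279 = n35206 := ndS (p := 17523) (l := 7) rfl N17523 D35206
theorem N19280 : nd 19280 = n35207 := ndS (p := 17523) (l := 8) rfl N17523 D35207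
theorem N19281 : nd 19281 = n35208 := ndS (p := 17524) (l := 6) rfl N17524 D35208
theorem N19282 : nd 19282 = n35209 := ndS (p := 17524) (l := 8) rfl N17524 D35209
theorem N19283 : nd 19283 = n35210 := ndS (p := 17526) (l := 8) rfl N17526 D35210
theorem N19284 : nd 19284 = n35211 := ndS (p := 17527) (l := 9) rfl N17527 D35211
theorem N19285 : nd 19285 = n35212 := ndS (p := 17529) (l := 5) rfl N17529 D35212
theorem N19286 : nd 19286 = n35213 := ndS (p := 17529) (l := 8) rfl N17529 D35213
theorem N19287 : nd 19287 = n35214 := ndS (p := 17531) (l := 5) rfl N17531 D35214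
theorem N19288 : nd 19288 = n35215 := ndS (p := 17531) (l := 9) rfl N17531 D35215
theorem N19289 : nd 19289 = n35216 := ndS (p := 17533) (l := 4) rfl N17533 D35216
theorem N19290 : nd 19290 = n35217 := ndS (p := 17533) (l := 9) rfl N17533 D35217
theorem N19291 : nd 19291 = n35218 := ndS (p := 17535) (l := 3) rfl N17535 D35218
theorem N19292 : nd 19292 = n35219 := ndS (p := 17535) (l := 7) rfl N17535 D35219
theorem N19293 : nd 19293 = n35220 := ndS (p := 17536) (l := 6) rfl N17536 D35220
theorem N19294 : nd 19294 = n35221 := ndS (p := 17536) (l := 8) rfl N17536 D35221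
theorem N19295 : nd 19295 = n35222 := ndS (p := 17538) (l := 2) rfl N17538 D35222
theorem N19296 : nd 19296 = n35223 := ndS (p := 17538) (l := 7) rfl N17538 D35223
theorem N19297 : nd 19297 = n35224 := ndS (p := 17538) (l := 8) rfl N17538 D35224
theorem N19298 : nd 19298 = n35225 := ndS (p := 17539) (l := 6) rfl N17539 D35225
theorem N19299 : nd 19299 = n35226 := ndS (p := 17539) (l := 8) rfl N17539 D35226
theorem N19300 : nd 19300 = n35227 := ndS (p := 17541) (l := 8) rfl N17541 D35227
theorem N19301 : nd 19301 = n35228 := ndS (p := 17542) (l := 9) rfl N17542 D35228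
theorem N19302 : nd 19302 = n35229 := ndS (p := 17544) (l := 6) rfl N17544 D35229
theorem N19303 : nd 19303 = n35230 := ndS (p := 17544) (l := 8) rfl N17544 D35230
theorem N19304 : nd 19304 = n35231 := ndS (p := 17545) (l := 9) rfl N17545 D35231
theorem N19305 : nd 19305 = n35232 := ndS (p := 17546) (l := 5) rfl N17546 D35232
theorem N19306 : nd 19306 = n35233 := ndS (p := 17546) (l := 8) rfl N17546 D35233
theorem N19307 : nd 19307 = n35234 := ndS (p := 17547) (l := 9) rfl N17547 D35234
theorem N19308 : nd 19308 = n35235 := ndS (p := 17549) (l := 5) rfl N17549 D35235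
theorem N19309 : nd 19309 = n35236 := ndS (p := 17549) (l := 9) rfl N17549 D35236
theorem N19310 : nd 19310 = n35237 := ndS (p := 17551) (l := 8) rfl N17551 D35237
theorem N19311 : nd 19311 = n35238 := ndS (p := 17552) (l := 5) rfl N17552 D35238
theorem N19312 : nd 19312 = n35239 := ndS (p := 17552) (l := 9) rfl N17552 D35239
theorem N19313 : nd 19313 = n35240 := ndS (p := 17554) (l := 4) rfl N17554 D35240
theorem N19314 : nd 19314 = n35241 := ndS (p := 17554) (l := 9) rfl N17554 D35241
theorem N19315 : nd 19315 = n35242 := ndS (p := 17559) (l := 3) rfl N17559 D35242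
theorem N19316 : nd 19316 = n35243 := ndS (p := 17559) (l := 9) rfl N17559 D35243
theorem N19317 : nd 19317 = n35244 := ndS (p := 17561) (l := 9) rfl N17561 D35244
theorem N19318 : nd 19318 = n35245 := ndS (p := 17564) (l := 9) rfl N17564 D35245
theorem N19319 : nd 19319 = n35246 := ndS (p := 17568) (l := 5) rfl N17568 D35246
theorem N19320 : nd 19320 = n35247 := ndS (p := 17570) (l := 3) rfl N17570 D35247
theorem N19321 : nd 19321 = n35248 := ndS (p := 17570) (l := 7) rfl N17570 D35248
theorem N19322 : nd 19322 = n35249 := ndS (p := 17571) (l := 8) rfl N17571 D35249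
theorem N19323 : nd 19323 = n35250 := ndS (p := 17573) (l := 7) rfl N17573 D35250
theorem N19324 : nd 19324 = n35251 := ndS (p := 17574) (l := 8) rfl N17574 D35251
theorem N19325 : nd 19325 = n35252 := ndS (p := 17577) (l := 6) rfl N17577 D35252
theorem N19326 : nd 19326 = n35253 := ndS (p := 17578) (l := 5) rfl N17578 D35253
theorem N19327 : nd 19327 = n35254 := ndS (p := 17578) (l := 8) rfl N17578 D35254
theorem N19328 : nd 19328 = n35255 := ndS (p := 17583) (l := 2) rfl N17583 D35255
theorem N19329 : nd 19329 = n35256 := ndS (p := 17583) (l := 7) rfl N17583 D35256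
theorem N19330 : nd 19330 = n35257 := ndS (p := 17585) (l := 7) rfl N17585 D35257
theorem N19331 : nd 19331 = n35258 := ndS (p := 17587) (l := 5) rfl N17587 D35258
theorem N19332 : nd 19332 = n35259 := ndS (p := 17588) (l := 8) rfl N17588 D35259
theorem N19333 : nd 19333 = n35260 := ndS (p := 17591) (l := 5) rfl N17591 D35260
theorem N19334 : nd 19334 = n35261 := ndS (p := 17591) (l := 7) rfl N17591 D35261
theorem N19335 : nd 19335 = n35262 := ndS (p := 17592) (l := 4) rfl N17592 D35262
theorem N19336 : nd 19336 = n35263 := ndS (p := 17592) (l := 7) rfl N17592 D35263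
theorem N19337 : nd 19337 = n35264 := ndS (p := 17592) (l := 8) rfl N17592 D35264
theorem N19338 : nd 19338 = n35265 := ndS (p := 17594) (l := 7) rfl N17594 D35265
theorem N19339 : nd 19339 = n35266 := ndS (p := 17594) (l := 8) rfl N17594 D35266
theorem N19340 : nd 19340 = n35267 := ndS (p := 17595) (l := 6) rfl N17595 D35267
theorem N19341 : nd 19341 = n35268 := ndS (p := 17595) (l := 8) rfl N17595 D35268
theorem N19342 : nd 19342 = n35269 := ndS (p := 17597) (l := 8) rfl N17597 D35269
theorem N19343 : nd 19343 = n35270 := ndS (p := 17599) (l := 5) rfl N17599 D35270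
theorem N19344 : nd 19344 = n35271 := ndS (p := 17599) (l := 7) rfl N17599 D35271
theorem N19345 : nd 19345 = n35272 := ndS (p := 17600) (l := 4) rfl N17600 D35272
theorem N19346 : nd 19346 = n35273 := ndS (p := 17600) (l := 7) rfl N17600 D35273
theorem N19347 : nd 19347 = n35274 := ndS (p := 17600) (l := 8) rfl N17600 D35274
theorem N19348 : nd 19348 = n35275 := ndS (p := 17602) (l := 7) rfl N17602 D35275
theorem N19349 : nd 19349 = n35276 := ndS (p := 17602) (l := 8) rfl N17602 D35276
theorem N19350 : nd 19350 = n35277 := ndS (p := 17603) (l := 6) rfl N17603 D35277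
theorem N19351 : nd 19351 = n35278 := ndS (p := 17603) (l := 8) rfl N17603 D35278
theorem N19352 : nd 19352 = n35279 := ndS (p := 17604) (l := 9) rfl N17604 D35279
theorem N19353 : nd 19353 = n35280 := ndS (p := 17605) (l := 8) rfl N17605 D35280
theorem N19354 : nd 19354 = n35281 := ndS (p := 17606) (l := 9) rfl N17606 D35281
theorem N19355 : nd 19355 = n35282 := ndS (p := 17608) (l := 5) rfl N17608 D35282
theorem N19356 : nd 19356 = n35283 := ndS (p := 17608) (l := 7) rfl N17608 D35283
theorem N19357 : nd 19357 = n35284 := ndS (p := 17609) (l := 4) rfl N17609 D35284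
theorem N19358 : nd 19358 = n35285 := ndS (p := 17609) (l := 7) rfl N17609 D35285
theorem N19359 : nd 19359 = n35286 := ndS (p := 17609) (l := 8) rfl N17609 D35286
theorem N19360 : nd 19360 = n35287 := ndS (p := 17611) (l := 7) rfl N17611 D35287
theorem N19361 : nd 19361 = n35288 := ndS (p := 17611) (l := 8) rfl N17611 D35288
theorem N19362 : nd 19362 = n35289 := ndS (p := 17612) (l := 6) rfl N17612 D35289
theorem N19363 : nd 19363 = n35290 := ndS (p := 17612) (l := 8) rfl N17612 D35290
theorem N19364 : nd 19364 = n35291 := ndS (p := 17614) (l := 8) rfl N17614 D35291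
theorem N19365 : nd 19365 = n35292 := ndS (p := 17616) (l := 7) rfl N17616 D35292
theorem N19366 : nd 19366 = n35293 := ndS (p := 17617) (l := 4) rfl N17617 D35293
theorem N19367 : nd 19367 = n35294 := ndS (p := 17617) (l := 7) rfl N17617 D35294
theorem N19368 : nd 19368 = n35295 := ndS (p := 17619) (l := 3) rfl N17619 D35295
theorem N19369 : nd 19369 = n35296 := ndS (p := 17619) (l := 7) rfl N17619 D35296
theorem N19370 : nd 19370 = n35297 := ndS (p := 17619) (l := 8) rfl N17619 D35297
theorem N19371 : nd 19371 = n35298 := ndS (p := 17620) (l := 6) rfl N17620 D35298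
theorem N19372 : nd 19372 = n35299 := ndS (p := 17620) (l := 8) rfl N17620 D35299
theorem N19373 : nd 19373 = n35300 := ndS (p := 17622) (l := 6) rfl N17622 D35300
theorem N19374 : nd 19374 = n35301 := ndS (p := 17622) (l := 8) rfl N17622 D35301
theorem N19375 : nd 19375 = n35302 := ndS (p := 17624) (l := 8) rfl N17624 D35302
theorem N19376 : nd 19376 = n35303 := ndS (p := 17629) (l := 8) rfl N17629 D35303
theorem N19377 : nd 19377 = n35304 := ndS (p := 17630) (l := 5) rfl N17630 D35304
theorem N19378 : nd 19378 = n35305 := ndS (p := 17631) (l := 9) rfl N17631 D35305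
theorem N19379 : nd 19379 = n35306 := ndS (p := 17635) (l := 7) rfl N17635 D35306
theorem N19380 : nd 19380 = n35307 := ndS (p := 17636) (l := 4) rfl N17636 D35307
theorem N19381 : nd 19381 = n35308 := ndS (p := 17636) (l := 7) rfl N17636 D35308
theorem N19382 : nd 19382 = n35309 := ndS (p := 17638) (l := 7) rfl N17638 D35309
theorem N19383 : nd 19383 = n35310 := ndS (p := 17638) (l := 8) rfl N17638 D35310
theorem N19384 : nd 19384 = n35311 := ndS (p := 17639) (l := 6) rfl N17639 D35311
theorem N19385 : nd 19385 = n35312 := ndS (p := 17639) (l := 8) rfl N17639 D35312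
theorem N19386 : nd 19386 = n35313 := ndS (p := 17641) (l := 8) rfl N17641 D35313
theorem N19387 : nd 19387 = n35314 := ndS (p := 17643) (l := 5) rfl N17643 D35314
theorem N19388 : nd 19388 = n35315 := ndS (p := 17643) (l := 7) rfl N17643 D35315
theorem N19389 : nd 19389 = n35316 := ndS (p := 17644) (l := 4) rfl N17644 D35316
theorem N19390 : nd 19390 = n35317 := ndS (p := 17644) (l := 7) rfl N17644 D35317
theorem N19391 : nd 19391 = n35318 := ndS (p := 17644) (l := 8) rfl N17644 D35318
theorem N19392 : nd 19392 = n35319 := ndS (p := 17646) (l := 3) rfl N17646 D35319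
theorem N19393 : nd 19393 = n35320 := ndS (p := 17646) (l := 7) rfl N17646 D35320
theorem N19394 : nd 19394 = n35321 := ndS (p := 17646) (l := 8) rfl N17646 D35321
theorem N19395 : nd 19395 = n35322 := ndS (p := 17647) (l := 6) rfl N17647 D35322
theorem N19396 : nd 19396 = n35323 := ndS (p := 17647) (l := 8) rfl N17647 D35323
theorem N19397 : nd 19397 = n35324 := ndS (p := 17648) (l := 9) rfl N17648 D35324
theorem N19398 : nd 19398 = n35325 := ndS (p := 17649) (l := 6) rfl N17649 D35325
theorem N19399 : nd 19399 = n35326 := ndS (p := 17649) (l := 8) rfl N17649 D35326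
theorem N19400 : nd 19400 = n35327 := ndS (p := 17650) (l := 5) rfl N17650 D35327
theorem N19401 : nd 19401 = n35328 := ndS (p := 17650) (l := 9) rfl N17650 D35328
theorem N19402 : nd 19402 = n35329 := ndS (p := 17651) (l := 8) rfl N17651 D35329
theorem N19403 : nd 19403 = n35330 := ndS (p := 17652) (l := 9) rfl N17652 D35330
theorem N19404 : nd 19404 = n35331 := ndS (p := 17654) (l := 5) rfl N17654 D35331
theorem N19405 : nd 19405 = n35332 := ndS (p := 17654) (l := 9) rfl N17654 D35332
theorem N19406 : nd 19406 = n35333 := ndS (p := 17656) (l := 6) rfl N17656 D35333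
theorem N19407 : nd 19407 = n35334 := ndS (p := 17657) (l := 5) rfl N17657 D35334
theorem N19408 : nd 19408 = n35335 := ndS (p := 17657) (l := 7) rfl N17657 D35335
theorem N19409 : nd 19409 = n35336 := ndS (p := 17658) (l := 4) rfl N17658 D35336
theorem N19410 : nd 19410 = n35337 := ndS (p := 17658) (l := 7) rfl N17658 D35337
theorem N19411 : nd 19411 = n35338 := ndS (p := 17660) (l := 7) rfl N17660 D35338
theorem N19412 : nd 19412 = n35339 := ndS (p := 17660) (l := 8) rfl N17660 D35339
theorem N19413 : nd 19413 = n35340 := ndS (p := 17661) (l := 6) rfl N17661 D35340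
theorem N19414 : nd 19414 = n35341 := ndS (p := 17661) (l := 8) rfl N17661 D35341
theorem N19415 : nd 19415 = n35342 := ndS (p := 17662) (l := 9) rfl N17662 D35342
theorem N19416 : nd 19416 = n35343 := ndS (p := 17663) (l := 8) rfl N17663 D35343
theorem N19417 : nd 19417 = n35344 := ndS (p := 17664) (l := 9) rfl N17664 D35344
theorem N19418 : nd 19418 = n35345 := ndS (p := 17666) (l := 3) rfl N17666 D35345
theorem N19419 : nd 19419 = n35346 := ndS (p := 17666) (l := 7) rfl N17666 D35346
theorem N19420 : nd 19420 = n35347 := ndS (p := 17667) (l := 6) rfl N17667 D35347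
theorem N19421 : nd 19421 = n35348 := ndS (p := 17668) (l := 6) rfl N17668 D35348
theorem N19422 : nd 19422 = n35349 := ndS (p := 17668) (l := 8) rfl N17668 D35349
theorem N19423 : nd 19423 = n35350 := ndS (p := 17669) (l := 5) rfl N17669 D35350
theorem N19424 : nd 19424 = n35351 := ndS (p := 17669) (l := 9) rfl N17669 D35351
theorem N19425 : nd 19425 = n35352 := ndS (p := 17670) (l := 8) rfl N17670 D35352
theorem N19426 : nd 19426 = n35353 := ndS (p := 17671) (l := 9) rfl N17671 D35353
theorem N19427 : nd 19427 = n35354 := ndS (p := 17673) (l := 5) rfl N17673 D35354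
theorem N19428 : nd 19428 = n35355 := ndS (p := 17673) (l := 9) rfl N17673 D35355
theorem N19429 : nd 19429 = n35356 := ndS (p := 17675) (l := 3) rfl N17675 D35356
theorem N19430 : nd 19430 = n35357 := ndS (p := 17675) (l := 7) rfl N17675 D35357
theorem N19431 : nd 19431 = n35358 := ndS (p := 17675) (l := 8) rfl N17675 D35358
theorem N19432 : nd 19432 = n35359 := ndS (p := 17676) (l := 6) rfl N17676 D35359
theorem N19433 : nd 19433 = n35360 := ndS (p := 17676) (l := 8) rfl N17676 D35360
theorem N19434 : nd 19434 = n35361 := ndS (p := 17677) (l := 9) rfl N17677 D35361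
theorem N19435 : nd 19435 = n35362 := ndS (p := 17678) (l := 6) rfl N17678 D35362
theorem N19436 : nd 19436 = n35363 := ndS (p := 17678) (l := 8) rfl N17678 D35363
theorem N19437 : nd 19437 = n35364 := ndS (p := 17679) (l := 5) rfl N17679 D35364
theorem N19438 : nd 19438 = n35365 := ndS (p := 17679) (l := 9) rfl N17679 D35365
theorem N19439 : nd 19439 = n35366 := ndS (p := 17680) (l := 8) rfl N17680 D35366
theorem N19440 : nd 19440 = n35367 := ndS (p := 17681) (l := 9) rfl N17681 D35367
theorem N19441 : nd 19441 = n35368 := ndS (p := 17683) (l := 5) rfl N17683 D35368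
theorem N19442 : nd 19442 = n35369 := ndS (p := 17683) (l := 9) rfl N17683 D35369
theorem N19443 : nd 19443 = n35370 := ndS (p := 17685) (l := 4) rfl N17685 D35370
theorem N19444 : nd 19444 = n35371 := ndS (p := 17685) (l := 7) rfl N17685 D35371
theorem N19445 : nd 19445 = n35372 := ndS (p := 17687) (l := 3) rfl N17687 D35372
theorem N19446 : nd 19446 = n35373 := ndS (p := 17687) (l := 7) rfl N17687 D35373
theorem N19447 : nd 19447 = n35374 := ndS (p := 17687) (l := 8) rfl N17687 D35374
theorem N19448 : nd 19448 = n35375 := ndS (p := 17688) (l := 6) rfl N17688 D35375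
theorem N19449 : nd 19449 = n35376 := ndS (p := 17688) (l := 8) rfl N17688 D35376
theorem N19450 : nd 19450 = n35377 := ndS (p := 17690) (l := 7) rfl N17690 D35377
theorem N19451 : nd 19451 = n35378 := ndS (p := 17690) (l := 8) rfl N17690 D35378
theorem N19452 : nd 19452 = n35379 := ndS (p := 17691) (l := 6) rfl N17691 D35379
theorem N19453 : nd 19453 = n35380 := ndS (p := 17691) (l := 8) rfl N17691 D35380
theorem N19454 : nd 19454 = n35381 := ndS (p := 17692) (l := 5) rfl N17692 D35381
theorem N19455 : nd 19455 = n35382 := ndS (p := 17692) (l := 9) rfl N17692 D35382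
theorem N19456 : nd 19456 = n35383 := ndS (p := 17693) (l := 8) rfl N17693 D35383
theorem N19457 : nd 19457 = n35384 := ndS (p := 17694) (l := 9) rfl N17694 D35384
theorem N19458 : nd 19458 = n35385 := ndS (p := 17696) (l := 5) rfl N17696 D35385
theorem N19459 : nd 19459 = n35386 := ndS (p := 17696) (l := 8) rfl N17696 D35386
theorem N19460 : nd 19460 = n35387 := ndS (p := 17697) (l := 5) rfl N17697 D35387
theorem N19461 : nd 19461 = n35388 := ndS (p := 17697) (l := 9) rfl N17697 D35388
theorem N19462 : nd 19462 = n35389 := ndS (p := 17698) (l := 6) rfl N17698 D35389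
theorem N19463 : nd 19463 = n35390 := ndS (p := 17700) (l := 5) rfl N17700 D35390
theorem N19464 : nd 19464 = n35391 := ndS (p := 17700) (l := 9) rfl N17700 D35391
theorem N19465 : nd 19465 = n35392 := ndS (p := 17705) (l := 5) rfl N17705 D35392
theorem N19466 : nd 19466 = n35393 := ndS (p := 17707) (l := 5) rfl N17707 D35393
theorem N19467 : nd 19467 = n35394 := ndS (p := 17712) (l := 5) rfl N17712 D35394
theorem N19468 : nd 19468 = n35395 := ndS (p := 17715) (l := 6) rfl N17715 D35395
theorem N19469 : nd 19469 = n35396 := ndS (p := 17716) (l := 7) rfl N17716 D35396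
theorem N19470 : nd 19470 = n35397 := ndS (p := 17717) (l := 4) rfl N17717 D35397
theorem N19471 : nd 19471 = n35398 := ndS (p := 17718) (l := 7) rfl N17718 D35398
theorem N19472 : nd 19472 = n35399 := ndS (p := 17720) (l := 5) rfl N17720 D35399
theorem N19473 : nd 19473 = n35400 := ndS (p := 17720) (l := 7) rfl N17720 D35400
theorem N19474 : nd 19474 = n35401 := ndS (p := 17721) (l := 4) rfl N17721 D35401
theorem N19475 : nd 19475 = n35402 := ndS (p := 17721) (l := 7) rfl N17721 D35402
theorem N19476 : nd 19476 = n35403 := ndS (p := 17721) (l := 8) rfl N17721 D35403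
theorem N19477 : nd 19477 = n35404 := ndS (p := 17723) (l := 3) rfl N17723 D35404
theorem N19478 : nd 19478 = n35405 := ndS (p := 17723) (l := 7) rfl N17723 D35405
theorem N19479 : nd 19479 = n35406 := ndS (p := 17723) (l := 8) rfl N17723 D35406
theorem N19480 : nd 19480 = n35407 := ndS (p := 17724) (l := 6) rfl N17724 D35407
theorem N19481 : nd 19481 = n35408 := ndS (p := 17724) (l := 8) rfl N17724 D35408
theorem N19482 : nd 19482 = n35409 := ndS (p := 17725) (l := 9) rfl N17725 D35409
theorem N19483 : nd 19483 = n35410 := ndS (p := 17726) (l := 6) rfl N17726 D35410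
theorem N19484 : nd 19484 = n35411 := ndS (p := 17726) (l := 8) rfl N17726 D35411
theorem N19485 : nd 19485 = n35412 := ndS (p := 17727) (l := 5) rfl N17727 D35412
theorem N19486 : nd 19486 = n35413 := ndS (p := 17727) (l := 9) rfl N17727 D35413
theorem N19487 : nd 19487 = n35414 := ndS (p := 17728) (l := 8) rfl N17728 D35414
theorem N19488 : nd 19488 = n35415 := ndS (p := 17729) (l := 9) rfl N17729 D35415
theorem N19489 : nd 19489 = n35416 := ndS (p := 17731) (l := 5) rfl N17731 D35416
theorem N19490 : nd 19490 = n35417 := ndS (p := 17731) (l := 9) rfl N17731 D35417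
theorem N19491 : nd 19491 = n35418 := ndS (p := 17734) (l := 7) rfl N17734 D35418
theorem N19492 : nd 19492 = n35419 := ndS (p := 17735) (l := 6) rfl N17735 D35419
theorem N19493 : nd 19493 = n35420 := ndS (p := 17736) (l := 6) rfl N17736 D35420
theorem N19494 : nd 19494 = n35421 := ndS (p := 17736) (l := 8) rfl N17736 D35421
theorem N19495 : nd 19495 = n35422 := ndS (p := 17738) (l := 8) rfl N17738 D35422
theorem N19496 : nd 19496 = n35423 := ndS (p := 17741) (l := 3) rfl N17741 D35423
theorem N19497 : nd 19497 = n35424 := ndS (p := 17741) (l := 7) rfl N17741 D35424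
theorem N19498 : nd 19498 = n35425 := ndS (p := 17741) (l := 8) rfl N17741 D35425
theorem N19499 : nd 19499 = n35426 := ndS (p := 17742) (l := 6) rfl N17742 D35426
theorem N19500 : nd 19500 = n35427 := ndS (p := 17742) (l := 8) rfl N17742 D35427
theorem N19501 : nd 19501 = n35428 := ndS (p := 17743) (l := 9) rfl N17743 D35428
theorem N19502 : nd 19502 = n35429 := ndS (p := 17744) (l := 6) rfl N17744 D35429
theorem N19503 : nd 19503 = n35430 := ndS (p := 17744) (l := 8) rfl N17744 D35430
theorem N19504 : nd 19504 = n35431 := ndS (p := 17745) (l := 5) rfl N17745 D35431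
theorem N19505 : nd 19505 = n35432 := ndS (p := 17745) (l := 9) rfl N17745 D35432
theorem N19506 : nd 19506 = n35433 := ndS (p := 17746) (l := 8) rfl N17746 D35433
theorem N19507 : nd 19507 = n35434 := ndS (p := 17747) (l := 9) rfl N17747 D35434
theorem N19508 : nd 19508 = n35435 := ndS (p := 17749) (l := 5) rfl N17749 D35435
theorem N19509 : nd 19509 = n35436 := ndS (p := 17749) (l := 9) rfl N17749 D35436
theorem N19510 : nd 19510 = n35437 := ndS (p := 17751) (l := 4) rfl N17751 D35437
theorem N19511 : nd 19511 = n35438 := ndS (p := 17751) (l := 7) rfl N17751 D35438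
theorem N19512 : nd 19512 = n35439 := ndS (p := 17753) (l := 3) rfl N17753 D35439
theorem N19513 : nd 19513 = n35440 := ndS (p := 17753) (l := 7) rfl N17753 D35440
theorem N19514 : nd 19514 = n35441 := ndS (p := 17753) (l := 8) rfl N17753 D35441
theorem N19515 : nd 19515 = n35442 := ndS (p := 17754) (l := 6) rfl N17754 D35442
theorem N19516 : nd 19516 = n35443 := ndS (p := 17754) (l := 8) rfl N17754 D35443
theorem N19517 : nd 19517 = n35444 := ndS (p := 17755) (l := 9) rfl N17755 D35444
theorem N19518 : nd 19518 = n35445 := ndS (p := 17756) (l := 7) rfl N17756 D35445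
theorem N19519 : nd 19519 = n35446 := ndS (p := 17756) (l := 8) rfl N17756 D35446
theorem N19520 : nd 19520 = n35447 := ndS (p := 17757) (l := 6) rfl N17757 D35447
theorem N19521 : nd 19521 = n35448 := ndS (p := 17757) (l := 8) rfl N17757 D35448
theorem N19522 : nd 19522 = n35449 := ndS (p := 17758) (l := 9) rfl N17758 D35449
theorem N19523 : nd 19523 = n35450 := ndS (p := 17759) (l := 8) rfl N17759 D35450
theorem N19524 : nd 19524 = n35451 := ndS (p := 17760) (l := 9) rfl N17760 D35451
theorem N19525 : nd 19525 = n35452 := ndS (p := 17762) (l := 5) rfl N17762 D35452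
theorem N19526 : nd 19526 = n35453 := ndS (p := 17762) (l := 8) rfl N17762 D35453
theorem N19527 : nd 19527 = n35454 := ndS (p := 17763) (l := 5) rfl N17763 D35454
theorem N19528 : nd 19528 = n35455 := ndS (p := 17763) (l := 9) rfl N17763 D35455
theorem N19529 : nd 19529 = n35456 := ndS (p := 17764) (l := 6) rfl N17764 D35456
theorem N19530 : nd 19530 = n35457 := ndS (p := 17764) (l := 9) rfl N17764 D35457
theorem N19531 : nd 19531 = n35458 := ndS (p := 17766) (l := 5) rfl N17766 D35458
theorem N19532 : nd 19532 = n35459 := ndS (p := 17766) (l := 9) rfl N17766 D35459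
theorem N19533 : nd 19533 = n35460 := ndS (p := 17768) (l := 4) rfl N17768 D35460
theorem N19534 : nd 19534 = n35461 := ndS (p := 17770) (l := 7) rfl N17770 D35461
theorem N19535 : nd 19535 = n35462 := ndS (p := 17771) (l := 4) rfl N17771 D35462
theorem N19536 : nd 19536 = n35463 := ndS (p := 17771) (l := 7) rfl N17771 D35463
theorem N19537 : nd 19537 = n35464 := ndS (p := 17773) (l := 3) rfl N17773 D35464
theorem N19538 : nd 19538 = n35465 := ndS (p := 17773) (l := 7) rfl N17773 D35465
theorem N19539 : nd 19539 = n35466 := ndS (p := 17773) (l := 8) rfl N17773 D35466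
theorem N19540 : nd 19540 = n35467 := ndS (p := 17774) (l := 6) rfl N17774 D35467
theorem N19541 : nd 19541 = n35468 := ndS (p := 17774) (l := 8) rfl N17774 D35468
theorem N19542 : nd 19542 = n35469 := ndS (p := 17776) (l := 6) rfl N17776 D35469
theorem N19543 : nd 19543 = n35470 := ndS (p := 17776) (l := 8) rfl N17776 D35470
theorem N19544 : nd 19544 = n35471 := ndS (p := 17777) (l := 5) rfl N17777 D35471
theorem N19545 : nd 19545 = n35472 := ndS (p := 17777) (l := 9) rfl N17777 D35472
theorem N19546 : nd 19546 = n35473 := ndS (p := 17778) (l := 8) rfl N17778 D35473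
theorem N19547 : nd 19547 = n35474 := ndS (p := 17779) (l := 9) rfl N17779 D35474
theorem N19548 : nd 19548 = n35475 := ndS (p := 17781) (l := 5) rfl N17781 D35475
theorem N19549 : nd 19549 = n35476 := ndS (p := 17781) (l := 9) rfl N17781 D35476
theorem N19550 : nd 19550 = n35477 := ndS (p := 17783) (l := 7) rfl N17783 D35477
theorem N19551 : nd 19551 = n35478 := ndS (p := 17784) (l := 6) rfl N17784 D35478
theorem N19552 : nd 19552 = n35479 := ndS (p := 17786) (l := 5) rfl N17786 D35479
theorem N19553 : nd 19553 = n35480 := ndS (p := 17786) (l := 8) rfl N17786 D35480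
theorem N19554 : nd 19554 = n35481 := ndS (p := 17787) (l := 5) rfl N17787 D35481
theorem N19555 : nd 19555 = n35482 := ndS (p := 17787) (l := 9) rfl N17787 D35482
theorem N19556 : nd 19556 = n35483 := ndS (p := 17790) (l := 5) rfl N17790 D35483
theorem N19557 : nd 19557 = n35484 := ndS (p := 17790) (l := 9) rfl N17790 D35484
theorem N19558 : nd 19558 = n35485 := ndS (p := 17792) (l := 4) rfl N17792 D35485
theorem N19559 : nd 19559 = n35486 := ndS (p := 17792) (l := 9) rfl N17792 D35486
theorem N19560 : nd 19560 = n35487 := ndS (p := 17794) (l := 7) rfl N17794 D35487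
theorem N19561 : nd 19561 = n35488 := ndS (p := 17794) (l := 8) rfl N17794 D35488
theorem N19562 : nd 19562 = n35489 := ndS (p := 17795) (l := 6) rfl N17795 D35489
theorem N19563 : nd 19563 = n35490 := ndS (p := 17795) (l := 8) rfl N17795 D35490
theorem N19564 : nd 19564 = n35491 := ndS (p := 17796) (l := 9) rfl N17796 D35491
theorem N19565 : nd 19565 = n35492 := ndS (p := 17797) (l := 8) rfl N17797 D35492
theorem N19566 : nd 19566 = n35493 := ndS (p := 17798) (l := 9) rfl N17798 D35493
theorem N19567 : nd 19567 = n35494 := ndS (p := 17800) (l := 5) rfl N17800 D35494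
theorem N19568 : nd 19568 = n35495 := ndS (p := 17800) (l := 8) rfl N17800 D35495
theorem N19569 : nd 19569 = n35496 := ndS (p := 17801) (l := 5) rfl N17801 D35496
theorem N19570 : nd 19570 = n35497 := ndS (p := 17801) (l := 9) rfl N17801 D35497
theorem N19571 : nd 19571 = n35498 := ndS (p := 17802) (l := 6) rfl N17802 D35498
theorem N19572 : nd 19572 = n35499 := ndS (p := 17802) (l := 9) rfl N17802 D35499
theorem N19573 : nd 19573 = n35500 := ndS (p := 17804) (l := 5) rfl N17804 D35500
theorem N19574 : nd 19574 = n35501 := ndS (p := 17804) (l := 9) rfl N17804 D35501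
theorem N19575 : nd 19575 = n35502 := ndS (p := 17806) (l := 4) rfl N17806 D35502
theorem N19576 : nd 19576 = n35503 := ndS (p := 17806) (l := 9) rfl N17806 D35503
theorem N19577 : nd 19577 = n35504 := ndS (p := 17808) (l := 8) rfl N17808 D35504
theorem N19578 : nd 19578 = n35505 := ndS (p := 17810) (l := 2) rfl N17810 D35505
theorem N19579 : nd 19579 = n35506 := ndS (p := 17810) (l := 7) rfl N17810 D35506
theorem N19580 : nd 19580 = n35507 := ndS (p := 17810) (l := 8) rfl N17810 D35507
theorem N19581 : nd 19581 = n35508 := ndS (p := 17811) (l := 6) rfl N17811 D35508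
theorem N19582 : nd 19582 = n35509 := ndS (p := 17811) (l := 8) rfl N17811 D35509
theorem N19583 : nd 19583 = n35510 := ndS (p := 17812) (l := 5) rfl N17812 D35510
theorem N19584 : nd 19584 = n35511 := ndS (p := 17812) (l := 9) rfl N17812 D35511
theorem N19585 : nd 19585 = n35512 := ndS (p := 17813) (l := 8) rfl N17813 D35512
theorem N19586 : nd 19586 = n35513 := ndS (p := 17814) (l := 9) rfl N17814 D35513
theorem N19587 : nd 19587 = n35514 := ndS (p := 17816) (l := 6) rfl N17816 D35514
theorem N19588 : nd 19588 = n35515 := ndS (p := 17816) (l := 8) rfl N17816 D35515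
theorem N19589 : nd 19589 = n35516 := ndS (p := 17817) (l := 5) rfl N17817 D35516
theorem N19590 : nd 19590 = n35517 := ndS (p := 17817) (l := 9) rfl N17817 D35517
theorem N19591 : nd 19591 = n35518 := ndS (p := 17818) (l := 5) rfl N17818 D35518
theorem N19592 : nd 19592 = n35519 := ndS (p := 17818) (l := 8) rfl N17818 D35519
theorem N19593 : nd 19593 = n35520 := ndS (p := 17819) (l := 5) rfl N17819 D35520
theorem N19594 : nd 19594 = n35521 := ndS (p := 17819) (l := 9) rfl N17819 D35521
theorem N19595 : nd 19595 = n35522 := ndS (p := 17820) (l := 6) rfl N17820 D35522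
theorem N19596 : nd 19596 = n35523 := ndS (p := 17822) (l := 5) rfl N17822 D35523
theorem N19597 : nd 19597 = n35524 := ndS (p := 17822) (l := 9) rfl N17822 D35524
theorem N19598 : nd 19598 = n35525 := ndS (p := 17824) (l := 8) rfl N17824 D35525
theorem N19599 : nd 19599 = n35526 := ndS (p := 17825) (l := 5) rfl N17825 D35526
theorem N19600 : nd 19600 = n35527 := ndS (p := 17825) (l := 9) rfl N17825 D35527
theorem N19601 : nd 19601 = n35528 := ndS (p := 17826) (l := 6) rfl N17826 D35528
theorem N19602 : nd 19602 = n35529 := ndS (p := 17828) (l := 7) rfl N17828 D35529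
theorem N19603 : nd 19603 = n35530 := ndS (p := 17829) (l := 4) rfl N17829 D35530
theorem N19604 : nd 19604 = n35531 := ndS (p := 17831) (l := 3) rfl N17831 D35531
theorem N19605 : nd 19605 = n35532 := ndS (p := 17832) (l := 8) rfl N17832 D35532
theorem N19606 : nd 19606 = n35533 := ndS (p := 17833) (l := 6) rfl N17833 D35533
theorem N19607 : nd 19607 = n35534 := ndS (p := 17834) (l := 4) rfl N17834 D35534
theorem N19608 : nd 19608 = n35535 := ndS (p := 17835) (l := 3) rfl N17835 D35535
theorem N19609 : nd 19609 = n35536 := ndS (p := 17837) (l := 5) rfl N17837 D35536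
theorem N19610 : nd 19610 = n35537 := ndS (p := 17838) (l := 6) rfl N17838 D35537
theorem N19611 : nd 19611 = n35538 := ndS (p := 17840) (l := 8) rfl N17840 D35538
theorem N19612 : nd 19612 = n35539 := ndS (p := 17841) (l := 6) rfl N17841 D35539
theorem N19613 : nd 19613 = n35540 := ndS (p := 17842) (l := 7) rfl N17842 D35540
theorem N19614 : nd 19614 = n35541 := ndS (p := 17843) (l := 4) rfl N17843 D35541
theorem N19615 : nd 19615 = n35542 := ndS (p := 17845) (l := 7) rfl N17845 D35542
theorem N19616 : nd 19616 = n35543 := ndS (p := 17847) (l := 3) rfl N17847 D35543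
theorem N19617 : nd 19617 = n35544 := ndS (p := 17852) (l := 5) rfl N17852 D35544
theorem N19618 : nd 19618 = n35545 := ndS (p := 17854) (l := 7) rfl N17854 D35545
theorem N19619 : nd 19619 = n35546 := ndS (p := 17854) (l := 8) rfl N17854 D35546
theorem N19620 : nd 19620 = n35547 := ndS (p := 17855) (l := 6) rfl N17855 D35547
theorem N19621 : nd 19621 = n35548 := ndS (p := 17855) (l := 8) rfl N17855 D35548
theorem N19622 : nd 19622 = n35549 := ndS (p := 17857) (l := 8) rfl N17857 D35549
theorem N19623 : nd 19623 = n35550 := ndS (p := 17858) (l := 9) rfl N17858 D35550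
theorem N19624 : nd 19624 = n35551 := ndS (p := 17860) (l := 5) rfl N17860 D35551
theorem N19625 : nd 19625 = n35552 := ndS (p := 17860) (l := 8) rfl N17860 D35552
theorem N19626 : nd 19626 = n35553 := ndS (p := 17862) (l := 5) rfl N17862 D35553
theorem N19627 : nd 19627 = n35554 := ndS (p := 17862) (l := 9) rfl N17862 D35554
theorem N19628 : nd 19628 = n35555 := ndS (p := 17864) (l := 4) rfl N17864 D35555
theorem N19629 : nd 19629 = n35556 := ndS (p := 17864) (l := 9) rfl N17864 D35556
theorem N19630 : nd 19630 = n35557 := ndS (p := 17866) (l := 2) rfl N17866 D35557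
theorem N19631 : nd 19631 = n35558 := ndS (p := 17866) (l := 7) rfl N17866 D35558
theorem N19632 : nd 19632 = n35559 := ndS (p := 17866) (l := 8) rfl N17866 D35559
theorem N19633 : nd 19633 = n35560 := ndS (p := 17867) (l := 6) rfl N17867 D35560
theorem N19634 : nd 19634 = n35561 := ndS (p := 17867) (l := 8) rfl N17867 D35561
theorem N19635 : nd 19635 = n35562 := ndS (p := 17868) (l := 9) rfl N17868 D35562
theorem N19636 : nd 19636 = n35563 := ndS (p := 17869) (l := 8) rfl N17869 D35563
theorem N19637 : nd 19637 = n35564 := ndS (p := 17870) (l := 9) rfl N17870 D35564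
theorem N19638 : nd 19638 = n35565 := ndS (p := 17872) (l := 6) rfl N17872 D35565
theorem N19639 : nd 19639 = n35566 := ndS (p := 17872) (l := 8) rfl N17872 D35566
theorem N19640 : nd 19640 = n35567 := ndS (p := 17873) (l := 9) rfl N17873 D35567
theorem N19641 : nd 19641 = n35568 := ndS (p := 17874) (l := 5) rfl N17874 D35568
theorem N19642 : nd 19642 = n35569 := ndS (p := 17874) (l := 8) rfl N17874 D35569
theorem N19643 : nd 19643 = n35570 := ndS (p := 17875) (l := 9) rfl N17875 D35570
theorem N19644 : nd 19644 = n35571 := ndS (p := 17877) (l := 9) rfl N17877 D35571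
theorem N19645 : nd 19645 = n35572 := ndS (p := 17880) (l := 9) rfl N17880 D35572
theorem N19646 : nd 19646 = n35573 := ndS (p := 17886) (l := 3) rfl N17886 D35573
theorem N19647 : nd 19647 = n35574 := ndS (p := 17886) (l := 7) rfl N17886 D35574
theorem N19648 : nd 19648 = n35575 := ndS (p := 17887) (l := 6) rfl N17887 D35575
theorem N19649 : nd 19649 = n35576 := ndS (p := 17888) (l := 7) rfl N17888 D35576
theorem N19650 : nd 19650 = n35577 := ndS (p := 17889) (l := 6) rfl N17889 D35577
theorem N19651 : nd 19651 = n35578 := ndS (p := 17890) (l := 8) rfl N17890 D35578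
theorem N19652 : nd 19652 = n35579 := ndS (p := 17892) (l := 5) rfl N17892 D35579
theorem N19653 : nd 19653 = n35580 := ndS (p := 17893) (l := 5) rfl N17893 D35580
theorem N19654 : nd 19654 = n35581 := ndS (p := 17894) (l := 4) rfl N17894 D35581
theorem N19655 : nd 19655 = n35582 := ndS (p := 17894) (l := 9) rfl N17894 D35582
theorem N19656 : nd 19656 = n35583 := ndS (p := 17896) (l := 6) rfl N17896 D35583
theorem N19657 : nd 19657 = n35584 := ndS (p := 17897) (l := 5) rfl N17897 D35584
theorem N19658 : nd 19658 = n35585 := ndS (p := 17900) (l := 6) rfl N17900 D35585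
theorem N19659 : nd 19659 = n35586 := ndS (p := 17900) (l := 8) rfl N17900 D35586
theorem N19660 : nd 19660 = n35587 := ndS (p := 17901) (l := 9) rfl N17901 D35587
theorem N19661 : nd 19661 = n35588 := ndS (p := 17902) (l := 5) rfl N17902 D35588
theorem N19662 : nd 19662 = n35589 := ndS (p := 17902) (l := 8) rfl N17902 D35589
theorem N19663 : nd 19663 = n35590 := ndS (p := 17903) (l := 9) rfl N17903 D35590
theorem N19664 : nd 19664 = n35591 := ndS (p := 17905) (l := 5) rfl N17905 D35591
theorem N19665 : nd 19665 = n35592 := ndS (p := 17905) (l := 9) rfl N17905 D35592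
theorem N19666 : nd 19666 = n35593 := ndS (p := 17907) (l := 8) rfl N17907 D35593
theorem N19667 : nd 19667 = n35594 := ndS (p := 17908) (l := 9) rfl N17908 D35594
theorem N19668 : nd 19668 = n35595 := ndS (p := 17910) (l := 4) rfl N17910 D35595
theorem N19669 : nd 19669 = n35596 := ndS (p := 17910) (l := 9) rfl N17910 D35596
theorem N19670 : nd 19670 = n35597 := ndS (p := 17912) (l := 3) rfl N17912 D35597
theorem N19671 : nd 19671 = n35598 := ndS (p := 17914) (l := 7) rfl N17914 D35598
theorem N19672 : nd 19672 = n35599 := ndS (p := 17914) (l := 8) rfl N17914 D35599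
theorem N19673 : nd 19673 = n35600 := ndS (p := 17915) (l := 6) rfl N17915 D35600
theorem N19674 : nd 19674 = n35601 := ndS (p := 17915) (l := 8) rfl N17915 D35601
theorem N19675 : nd 19675 = n35602 := ndS (p := 17916) (l := 9) rfl N17916 D35602
theorem N19676 : nd 19676 = n35603 := ndS (p := 17917) (l := 5) rfl N17917 D35603
theorem N19677 : nd 19677 = n35604 := ndS (p := 17917) (l := 8) rfl N17917 D35604
theorem N19678 : nd 19678 = n35605 := ndS (p := 17918) (l := 9) rfl N17918 D35605
theorem N19679 : nd 19679 = n35606 := ndS (p := 17920) (l := 9) rfl N17920 D35606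
theorem N19680 : nd 19680 = n35607 := ndS (p := 17922) (l := 5) rfl N17922 D35607
theorem N19681 : nd 19681 = n35608 := ndS (p := 17922) (l := 8) rfl N17922 D35608
theorem N19682 : nd 19682 = n35609 := ndS (p := 17923) (l := 9) rfl N17923 D35609
theorem N19683 : nd 19683 = n35610 := ndS (p := 17925) (l := 8) rfl N17925 D35610
theorem N19684 : nd 19684 = n35611 := ndS (p := 17926) (l := 5) rfl N17926 D35611
theorem N19685 : nd 19685 = n35612 := ndS (p := 17926) (l := 9) rfl N17926 D35612
theorem N19686 : nd 19686 = n35613 := ndS (p := 17928) (l := 9) rfl N17928 D35613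
theorem N19687 : nd 19687 = n35614 := ndS (p := 17931) (l := 9) rfl N17931 D35614
theorem N19688 : nd 19688 = n35615 := ndS (p := 17935) (l := 3) rfl N17935 D35615
theorem N19689 : nd 19689 = n35616 := ndS (p := 17935) (l := 7) rfl N17935 D35616
theorem N19690 : nd 19690 = n35617 := ndS (p := 17936) (l := 8) rfl N17936 D35617
theorem N19691 : nd 19691 = n35618 := ndS (p := 17938) (l := 7) rfl N17938 D35618
theorem N19692 : nd 19692 = n35619 := ndS (p := 17939) (l := 6) rfl N17939 D35619
theorem N19693 : nd 19693 = n35620 := ndS (p := 17940) (l := 8) rfl N17940 D35620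
theorem N19694 : nd 19694 = n35621 := ndS (p := 17942) (l := 6) rfl N17942 D35621
theorem N19695 : nd 19695 = n35622 := ndS (p := 17943) (l := 5) rfl N17943 D35622
theorem N19696 : nd 19696 = n35623 := ndS (p := 17945) (l := 8) rfl N17945 D35623
theorem N19697 : nd 19697 = n35624 := ndS (p := 17946) (l := 4) rfl N17946 D35624
theorem N19698 : nd 19698 = n35625 := ndS (p := 17947) (l := 5) rfl N17947 D35625
theorem N19699 : nd 19699 = n35626 := ndS (p := 17948) (l := 8) rfl N17948 D35626
theorem N19700 : nd 19700 = n35627 := ndS (p := 17949) (l := 9) rfl N17949 D35627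
theorem N19701 : nd 19701 = n35628 := ndS (p := 17950) (l := 5) rfl N17950 D35628
theorem N19702 : nd 19702 = n35629 := ndS (p := 17951) (l := 8) rfl N17951 D35629
theorem N19703 : nd 19703 = n35630 := ndS (p := 17953) (l := 6) rfl N17953 D35630
theorem N19704 : nd 19704 = n35631 := ndS (p := 17954) (l := 5) rfl N17954 D35631
theorem N19705 : nd 19705 = n35632 := ndS (p := 17955) (l := 8) rfl N17955 D35632
theorem N19706 : nd 19706 = n35633 := ndS (p := 17956) (l := 4) rfl N17956 D35633
theorem N19707 : nd 19707 = n35634 := ndS (p := 17956) (l := 8) rfl N17956 D35634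
theorem N19708 : nd 19708 = n35635 := ndS (p := 17957) (l := 9) rfl N17957 D35635
theorem N19709 : nd 19709 = n35636 := ndS (p := 17961) (l := 8) rfl N17961 D35636
theorem N19710 : nd 19710 = n35637 := ndS (p := 17963) (l := 5) rfl N17963 D35637
theorem N19711 : nd 19711 = n35638 := ndS (p := 17964) (l := 8) rfl N17964 D35638
theorem N19712 : nd 19712 = n35639 := ndS (p := 17966) (l := 8) rfl N17966 D35639
theorem N19713 : nd 19713 = n35640 := ndS (p := 17967) (l := 5) rfl N17967 D35640
theorem N19714 : nd 19714 = n35641 := ndS (p := 17968) (l := 6) rfl N17968 D35641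
theorem N19715 : nd 19715 = n35642 := ndS (p := 17969) (l := 5) rfl N17969 D35642
theorem N19716 : nd 19716 = n35643 := ndS (p := 17970) (l := 4) rfl N17970 D35643
theorem N19717 : nd 19717 = n35644 := ndS (p := 17971) (l := 5) rfl N17971 D35644
theorem N19718 : nd 19718 = n35645 := ndS (p := 17971) (l := 9) rfl N17971 D35645
theorem N19719 : nd 19719 = n35646 := ndS (p := 17973) (l := 5) rfl N17973 D35646
theorem N19720 : nd 19720 = n35647 := ndS (p := 17973) (l := 9) rfl N17973 D35647
theorem N19721 : nd 19721 = n35648 := ndS (p := 17974) (l := 6) rfl N17974 D35648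
theorem N19722 : nd 19722 = n35649 := ndS (p := 17974) (l := 9) rfl N17974 D35649
theorem N19723 : nd 19723 = n35650 := ndS (p := 17976) (l := 7) rfl N17976 D35650
theorem N19724 : nd 19724 = n35651 := ndS (p := 17976) (l := 9) rfl N17976 D35651
theorem N19725 : nd 19725 = n35652 := ndS (p := 17978) (l := 4) rfl N17978 D35652
theorem N19726 : nd 19726 = n35653 := ndS (p := 17978) (l := 9) rfl N17978 D35653
theorem N19727 : nd 19727 = n35654 := ndS (p := 17980) (l := 3) rfl N17980 D35654
theorem N19728 : nd 19728 = n35655 := ndS (p := 17984) (l := 4) rfl N17984 D35655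
theorem N19729 : nd 19729 = n35656 := ndS (p := 17984) (l := 9) rfl N17984 D35656
theorem N19730 : nd 19730 = n35657 := ndS (p := 17992) (l := 7) rfl N17992 D35657
theorem N19731 : nd 19731 = n35658 := ndS (p := 17993) (l := 7) rfl N17993 D35658
theorem N19732 : nd 19732 = n35659 := ndS (p := 17995) (l := 7) rfl N17995 D35659
theorem N19733 : nd 19733 = n35660 := ndS (p := 17996) (l := 6) rfl N17996 D35660
theorem N19734 : nd 19734 = n35661 := ndS (p := 17996) (l := 8) rfl N17996 D35661
theorem N19735 : nd 19735 = n35662 := ndS (p := 17998) (l := 6) rfl N17998 D35662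
theorem N19736 : nd 19736 = n35663 := ndS (p := 17998) (l := 8) rfl N17998 D35663
theorem N19737 : nd 19737 = n35664 := ndS (p := 17999) (l := 5) rfl N17999 D35664
theorem N19738 : nd 19738 = n35665 := ndS (p := 17999) (l := 9) rfl N17999 D35665
theorem N19739 : nd 19739 = n35666 := ndS (p := 18000) (l := 8) rfl N18000 D35666
theorem N19740 : nd 19740 = n35667 := ndS (p := 18001) (l := 9) rfl N18001 D35667
theorem N19741 : nd 19741 = n35668 := ndS (p := 18003) (l := 9) rfl N18003 D35668
theorem N19742 : nd 19742 = n35669 := ndS (p := 18007) (l := 8) rfl N18007 D35669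
theorem N19743 : nd 19743 = n35670 := ndS (p := 18009) (l := 8) rfl N18009 D35670
theorem N19744 : nd 19744 = n35671 := ndS (p := 18010) (l := 5) rfl N18010 D35671
theorem N19745 : nd 19745 = n35672 := ndS (p := 18011) (l := 9) rfl N18011 D35672
theorem N19746 : nd 19746 = n35673 := ndS (p := 18014) (l := 5) rfl N18014 D35673
theorem N19747 : nd 19747 = n35674 := ndS (p := 18014) (l := 9) rfl N18014 D35674
theorem N19748 : nd 19748 = n35675 := ndS (p := 18015) (l := 6) rfl N18015 D35675
theorem N19749 : nd 19749 = n35676 := ndS (p := 18015) (l := 9) rfl N18015 D35676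
theorem N19750 : nd 19750 = n35677 := ndS (p := 18018) (l := 7) rfl N18018 D35677
theorem N19751 : nd 19751 = n35678 := ndS (p := 18020) (l := 6) rfl N18020 D35678
theorem N19752 : nd 19752 = n35679 := ndS (p := 18020) (l := 8) rfl N18020 D35679
theorem N19753 : nd 19753 = n35680 := ndS (p := 18022) (l := 8) rfl N18022 D35680
theorem N19754 : nd 19754 = n35681 := ndS (p := 18023) (l := 9) rfl N18023 D35681
theorem N19755 : nd 19755 = n35682 := ndS (p := 18025) (l := 8) rfl N18025 D35682
theorem N19756 : nd 19756 = n35683 := ndS (p := 18026) (l := 5) rfl N18026 D35683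
theorem N19757 : nd 19757 = n35684 := ndS (p := 18026) (l := 9) rfl N18026 D35684
theorem N19758 : nd 19758 = n35685 := ndS (p := 18027) (l := 6) rfl N18027 D35685
theorem N19759 : nd 19759 = n35686 := ndS (p := 18027) (l := 9) rfl N18027 D35686
theorem N19760 : nd 19760 = n35687 := ndS (p := 18029) (l := 5) rfl N18029 D35687
theorem N19761 : nd 19761 = n35688 := ndS (p := 18029) (l := 9) rfl N18029 D35688
theorem N19762 : nd 19762 = n35689 := ndS (p := 18031) (l := 9) rfl N18031 D35689
theorem N19763 : nd 19763 = n35690 := ndS (p := 18035) (l := 5) rfl N18035 D35690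
theorem N19764 : nd 19764 = n35691 := ndS (p := 18036) (l := 6) rfl N18036 D35691
theorem N19765 : nd 19765 = n35692 := ndS (p := 18036) (l := 9) rfl N18036 D35692
theorem N19766 : nd 19766 = n35693 := ndS (p := 18038) (l := 7) rfl N18038 D35693
theorem N19767 : nd 19767 = n35694 := ndS (p := 18039) (l := 8) rfl N18039 D35694
theorem N19768 : nd 19768 = n35695 := ndS (p := 18040) (l := 4) rfl N18040 D35695
theorem N19769 : nd 19769 = n35696 := ndS (p := 18041) (l := 3) rfl N18041 D35696
theorem N19770 : nd 19770 = n35697 := ndS (p := 18042) (l := 4) rfl N18042 D35697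
theorem N19771 : nd 19771 = n35698 := ndS (p := 18044) (l := 3) rfl N18044 D35698
theorem N19772 : nd 19772 = n35699 := ndS (p := 18046) (l := 3) rfl N18046 D35699
theorem N19773 : nd 19773 = n35700 := ndS (p := 18048) (l := 7) rfl N18048 D35700
theorem N19774 : nd 19774 = n35701 := ndS (p := 18052) (l := 4) rfl N18052 D35701
theorem N19775 : nd 19775 = n35702 := ndS (p := 18052) (l := 7) rfl N18052 D35702
theorem N19776 : nd 19776 = n35703 := ndS (p := 18054) (l := 3) rfl N18054 D35703
theorem N19777 : nd 19777 = n35704 := ndS (p := 18054) (l := 7) rfl N18054 D35704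
theorem N19778 : nd 19778 = n35705 := ndS (p := 18054) (l := 8) rfl N18054 D35705
theorem N19779 : nd 19779 = n35706 := ndS (p := 18055) (l := 6) rfl N18055 D35706
theorem N19780 : nd 19780 = n35707 := ndS (p := 18055) (l := 8) rfl N18055 D35707
theorem N19781 : nd 19781 = n35708 := ndS (p := 18057) (l := 6) rfl N18057 D35708
theorem N19782 : nd 19782 = n35709 := ndS (p := 18057) (l := 8) rfl N18057 D35709
theorem N19783 : nd 19783 = n35710 := ndS (p := 18058) (l := 9) rfl N18058 D35710
theorem N19784 : nd 19784 = n35711 := ndS (p := 18059) (l := 8) rfl N18059 D35711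
theorem N19785 : nd 19785 = n35712 := ndS (p := 18060) (l := 9) rfl N18060 D35712
theorem N19786 : nd 19786 = n35713 := ndS (p := 18062) (l := 9) rfl N18062 D35713
theorem N19787 : nd 19787 = n35714 := ndS (p := 18064) (l := 8) rfl N18064 D35714
theorem N19788 : nd 19788 = n35715 := ndS (p := 18067) (l := 9) rfl N18067 D35715
theorem N19789 : nd 19789 = n35716 := ndS (p := 18071) (l := 3) rfl N18071 D35716
theorem N19790 : nd 19790 = n35717 := ndS (p := 18072) (l := 6) rfl N18072 D35717
theorem N19791 : nd 19791 = n35718 := ndS (p := 18074) (l := 6) rfl N18074 D35718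
theorem N19792 : nd 19792 = n35719 := ndS (p := 18076) (l := 3) rfl N18076 D35719
theorem N19793 : nd 19793 = n35720 := ndS (p := 18076) (l := 7) rfl N18076 D35720
theorem N19794 : nd 19794 = n35721 := ndS (p := 18077) (l := 6) rfl N18077 D35721
theorem N19795 : nd 19795 = n35722 := ndS (p := 18078) (l := 7) rfl N18078 D35722
theorem N19796 : nd 19796 = n35723 := ndS (p := 18079) (l := 6) rfl N18079 D35723
theorem N19797 : nd 19797 = n35724 := ndS (p := 18081) (l := 5) rfl N18081 D35724
theorem N19798 : nd 19798 = n35725 := ndS (p := 18081) (l := 8) rfl N18081 D35725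
theorem N19799 : nd 19799 = n35726 := ndS (p := 18082) (l := 5) rfl N18082 D35726
theorem N19800 : nd 19800 = n35727 := ndS (p := 18082) (l := 9) rfl N18082 D35727
theorem N19801 : nd 19801 = n35728 := ndS (p := 18083) (l := 6) rfl N18083 D35728
theorem N19802 : nd 19802 = n35729 := ndS (p := 18083) (l := 9) rfl N18083 D35729
theorem N19803 : nd 19803 = n35730 := ndS (p := 18085) (l := 9) rfl N18085 D35730
theorem N19804 : nd 19804 = n35731 := ndS (p := 18088) (l := 6) rfl N18088 D35731
theorem N19805 : nd 19805 = n35732 := ndS (p := 18088) (l := 9) rfl N18088 D35732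
theorem N19806 : nd 19806 = n35733 := ndS (p := 18090) (l := 7) rfl N18090 D35733
theorem N19807 : nd 19807 = n35734 := ndS (p := 18092) (l := 7) rfl N18092 D35734
theorem N19808 : nd 19808 = n35735 := ndS (p := 18092) (l := 9) rfl N18092 D35735
theorem N19809 : nd 19809 = n35736 := ndS (p := 18094) (l := 9) rfl N18094 D35736
theorem N19810 : nd 19810 = n35737 := ndS (p := 18096) (l := 2) rfl N18096 D35737
theorem N19811 : nd 19811 = n35738 := ndS (p := 18096) (l := 9) rfl N18096 D35738
theorem N19812 : nd 19812 = n35739 := ndS (p := 18099) (l := 2) rfl N18099 D35739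
theorem N19813 : nd 19813 = n35740 := ndS (p := 18099) (l := 7) rfl N18099 D35740
theorem N19814 : nd 19814 = n35741 := ndS (p := 18100) (l := 6) rfl N18100 D35741
theorem N19815 : nd 19815 = n35742 := ndS (p := 18102) (l := 6) rfl N18102 D35742
theorem N19816 : nd 19816 = n35743 := ndS (p := 18103) (l := 5) rfl N18103 D35743
theorem N19817 : nd 19817 = n35744 := ndS (p := 18104) (l := 8) rfl N18104 D35744
theorem N19818 : nd 19818 = n35745 := ndS (p := 18108) (l := 7) rfl N18108 D35745
theorem N19819 : nd 19819 = n35746 := ndS (p := 18109) (l := 6) rfl N18109 D35746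
theorem N19820 : nd 19820 = n35747 := ndS (p := 18110) (l := 5) rfl N18110 D35747
theorem N19821 : nd 19821 = n35748 := ndS (p := 18111) (l := 5) rfl N18111 D35748
theorem N19822 : nd 19822 = n35749 := ndS (p := 18112) (l := 8) rfl N18112 D35749
theorem N19823 : nd 19823 = n35750 := ndS (p := 18114) (l := 6) rfl N18114 D35750
theorem N19824 : nd 19824 = n35751 := ndS (p := 18114) (l := 8) rfl N18114 D35751
theorem N19825 : nd 19825 = n35752 := ndS (p := 18115) (l := 9) rfl N18115 D35752
theorem N19826 : nd 19826 = n35753 := ndS (p := 18116) (l := 8) rfl N18116 D35753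
theorem N19827 : nd 19827 = n35754 := ndS (p := 18117) (l := 9) rfl N18117 D35754
theorem N19828 : nd 19828 = n35755 := ndS (p := 18119) (l := 5) rfl N18119 D35755
theorem N19829 : nd 19829 = n35756 := ndS (p := 18119) (l := 9) rfl N18119 D35756
theorem N19830 : nd 19830 = n35757 := ndS (p := 18121) (l := 5) rfl N18121 D35757
theorem N19831 : nd 19831 = n35758 := ndS (p := 18121) (l := 9) rfl N18121 D35758
theorem N19832 : nd 19832 = n35759 := ndS (p := 18123) (l := 9) rfl N18123 D35759
theorem N19833 : nd 19833 = n35760 := ndS (p := 18126) (l := 4) rfl N18126 D35760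
theorem N19834 : nd 19834 = n35761 := ndS (p := 18126) (l := 7) rfl N18126 D35761
theorem N19835 : nd 19835 = n35762 := ndS (p := 18128) (l := 3) rfl N18128 D35762
theorem N19836 : nd 19836 = n35763 := ndS (p := 18128) (l := 7) rfl N18128 D35763
theorem N19837 : nd 19837 = n35764 := ndS (p := 18129) (l := 6) rfl N18129 D35764
theorem N19838 : nd 19838 = n35765 := ndS (p := 18130) (l := 6) rfl N18130 D35765
theorem N19839 : nd 19839 = n35766 := ndS (p := 18130) (l := 8) rfl N18130 D35766
theorem N19840 : nd 19840 = n35767 := ndS (p := 18131) (l := 5) rfl N18131 D35767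
theorem N19841 : nd 19841 = n35768 := ndS (p := 18131) (l := 9) rfl N18131 D35768
theorem N19842 : nd 19842 = n35769 := ndS (p := 18132) (l := 8) rfl N18132 D35769
theorem N19843 : nd 19843 = n35770 := ndS (p := 18133) (l := 9) rfl N18133 D35770
theorem N19844 : nd 19844 = n35771 := ndS (p := 18135) (l := 5) rfl N18135 D35771
theorem N19845 : nd 19845 = n35772 := ndS (p := 18135) (l := 9) rfl N18135 D35772
theorem N19846 : nd 19846 = n35773 := ndS (p := 18137) (l := 7) rfl N18137 D35773
theorem N19847 : nd 19847 = n35774 := ndS (p := 18138) (l := 6) rfl N18138 D35774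
theorem N19848 : nd 19848 = n35775 := ndS (p := 18139) (l := 7) rfl N18139 D35775
theorem N19849 : nd 19849 = n35776 := ndS (p := 18140) (l := 6) rfl N18140 D35776
theorem N19850 : nd 19850 = n35777 := ndS (p := 18142) (l := 5) rfl N18142 D35777
theorem N19851 : nd 19851 = n35778 := ndS (p := 18142) (l := 8) rfl N18142 D35778
theorem N19852 : nd 19852 = n35779 := ndS (p := 18143) (l := 9) rfl N18143 D35779
theorem N19853 : nd 19853 = n35780 := ndS (p := 18145) (l := 5) rfl N18145 D35780
theorem N19854 : nd 19854 = n35781 := ndS (p := 18145) (l := 9) rfl N18145 D35781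
theorem N19855 : nd 19855 = n35782 := ndS (p := 18147) (l := 4) rfl N18147 D35782
theorem N19856 : nd 19856 = n35783 := ndS (p := 18147) (l := 9) rfl N18147 D35783
theorem N19857 : nd 19857 = n35784 := ndS (p := 18149) (l := 4) rfl N18149 D35784
theorem N19858 : nd 19858 = n35785 := ndS (p := 18149) (l := 9) rfl N18149 D35785
theorem N19859 : nd 19859 = n35786 := ndS (p := 18151) (l := 3) rfl N18151 D35786
theorem N19860 : nd 19860 = n35787 := ndS (p := 18151) (l := 9) rfl N18151 D35787
theorem N19861 : nd 19861 = n35788 := ndS (p := 18153) (l := 3) rfl N18153 D35788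
theorem N19862 : nd 19862 = n35789 := ndS (p := 18153) (l := 9) rfl N18153 D35789
theorem N19863 : nd 19863 = n35790 := ndS (p := 18154) (l := 8) rfl N18154 D35790
theorem N19864 : nd 19864 = n35791 := ndS (p := 18155) (l := 2) rfl N18155 D35791
theorem N19865 : nd 19865 = n35792 := ndS (p := 18155) (l := 9) rfl N18155 D35792
theorem N19866 : nd 19866 = n35793 := ndS (p := 18156) (l := 8) rfl N18156 D35793
theorem N19867 : nd 19867 = n35794 := ndS (p := 18158) (l := 4) rfl N18158 D35794
theorem N19868 : nd 19868 = n35795 := ndS (p := 18158) (l := 7) rfl N18158 D35795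
theorem N19869 : nd 19869 = n35796 := ndS (p := 18160) (l := 3) rfl N18160 D35796
theorem N19870 : nd 19870 = n35797 := ndS (p := 18160) (l := 7) rfl N18160 D35797
theorem N19871 : nd 19871 = n35798 := ndS (p := 18160) (l := 8) rfl N18160 D35798
theorem N19872 : nd 19872 = n35799 := ndS (p := 18161) (l := 6) rfl N18161 D35799
theorem N19873 : nd 19873 = n35800 := ndS (p := 18161) (l := 8) rfl N18161 D35800
theorem N19874 : nd 19874 = n35801 := ndS (p := 18162) (l := 9) rfl N18162 D35801
theorem N19875 : nd 19875 = n35802 := ndS (p := 18163) (l := 6) rfl N18163 D35802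
theorem N19876 : nd 19876 = n35803 := ndS (p := 18163) (l := 8) rfl N18163 D35803
theorem N19877 : nd 19877 = n35804 := ndS (p := 18164) (l := 5) rfl N18164 D35804
theorem N19878 : nd 19878 = n35805 := ndS (p := 18164) (l := 9) rfl N18164 D35805
theorem N19879 : nd 19879 = n35806 := ndS (p := 18165) (l := 8) rfl N18165 D35806
theorem N19880 : nd 19880 = n35807 := ndS (p := 18166) (l := 9) rfl N18166 D35807
theorem N19881 : nd 19881 = n35808 := ndS (p := 18168) (l := 5) rfl N18168 D35808
theorem N19882 : nd 19882 = n35809 := ndS (p := 18168) (l := 9) rfl N18168 D35809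
theorem N19883 : nd 19883 = n35810 := ndS (p := 18170) (l := 3) rfl N18170 D35810
theorem N19884 : nd 19884 = n35811 := ndS (p := 18170) (l := 7) rfl N18170 D35811
theorem N19885 : nd 19885 = n35812 := ndS (p := 18170) (l := 8) rfl N18170 D35812
theorem N19886 : nd 19886 = n35813 := ndS (p := 18171) (l := 6) rfl N18171 D35813
theorem N19887 : nd 19887 = n35814 := ndS (p := 18171) (l := 8) rfl N18171 D35814
theorem N19888 : nd 19888 = n35815 := ndS (p := 18173) (l := 7) rfl N18173 D35815
theorem N19889 : nd 19889 = n35816 := ndS (p := 18174) (l := 6) rfl N18174 D35816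
theorem N19890 : nd 19890 = n35817 := ndS (p := 18174) (l := 8) rfl N18174 D35817
theorem N19891 : nd 19891 = n35818 := ndS (p := 18175) (l := 5) rfl N18175 D35818
theorem N19892 : nd 19892 = n35819 := ndS (p := 18176) (l := 8) rfl N18176 D35819
theorem N19893 : nd 19893 = n35820 := ndS (p := 18178) (l := 5) rfl N18178 D35820
theorem N19894 : nd 19894 = n35821 := ndS (p := 18178) (l := 8) rfl N18178 D35821
theorem N19895 : nd 19895 = n35822 := ndS (p := 18179) (l := 5) rfl N18179 D35822
theorem N19896 : nd 19896 = n35823 := ndS (p := 18179) (l := 9) rfl N18179 D35823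
theorem N19897 : nd 19897 = n35824 := ndS (p := 18180) (l := 6) rfl N18180 D35824
theorem N19898 : nd 19898 = n35825 := ndS (p := 18182) (l := 5) rfl N18182 D35825
theorem N19899 : nd 19899 = n35826 := ndS (p := 18182) (l := 9) rfl N18182 D35826
theorem N19900 : nd 19900 = n35827 := ndS (p := 18184) (l := 9) rfl N18184 D35827
theorem N19901 : nd 19901 = n35828 := ndS (p := 18186) (l := 2) rfl N18186 D35828
theorem N19902 : nd 19902 = n35829 := ndS (p := 18186) (l := 7) rfl N18186 D35829
theorem N19903 : nd 19903 = n35830 := ndS (p := 18187) (l := 6) rfl N18187 D35830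
theorem N19904 : nd 19904 = n35831 := ndS (p := 18187) (l := 8) rfl N18187 D35831
theorem N19905 : nd 19905 = n35832 := ndS (p := 18189) (l := 8) rfl N18189 D35832
theorem N19906 : nd 19906 = n35833 := ndS (p := 18191) (l := 6) rfl N18191 D35833
theorem N19907 : nd 19907 = n35834 := ndS (p := 18191) (l := 8) rfl N18191 D35834
theorem N19908 : nd 19908 = n35835 := ndS (p := 18192) (l := 5) rfl N18192 D35835
theorem N19909 : nd 19909 = n35836 := ndS (p := 18193) (l := 5) rfl N18193 D35836
theorem N19910 : nd 19910 = n35837 := ndS (p := 18193) (l := 8) rfl N18193 D35837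
theorem N19911 : nd 19911 = n35838 := ndS (p := 18194) (l := 5) rfl N18194 D35838
theorem N19912 : nd 19912 = n35839 := ndS (p := 18194) (l := 9) rfl N18194 D35839
theorem N19913 : nd 19913 = n35840 := ndS (p := 18195) (l := 6) rfl N18195 D35840
theorem N19914 : nd 19914 = n35841 := ndS (p := 18195) (l := 9) rfl N18195 D35841
theorem N19915 : nd 19915 = n35842 := ndS (p := 18197) (l := 5) rfl N18197 D35842
theorem N19916 : nd 19916 = n35843 := ndS (p := 18197) (l := 9) rfl N18197 D35843
theorem N19917 : nd 19917 = n35844 := ndS (p := 18199) (l := 8) rfl N18199 D35844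
theorem N19918 : nd 19918 = n35845 := ndS (p := 18200) (l := 5) rfl N18200 D35845
theorem N19919 : nd 19919 = n35846 := ndS (p := 18200) (l := 9) rfl N18200 D35846
theorem N19920 : nd 19920 = n35847 := ndS (p := 18201) (l := 6) rfl N18201 D35847
theorem N19921 : nd 19921 = n35848 := ndS (p := 18201) (l := 9) rfl N18201 D35848
theorem N19922 : nd 19922 = n35849 := ndS (p := 18203) (l := 7) rfl N18203 D35849
theorem N19923 : nd 19923 = n35850 := ndS (p := 18203) (l := 9) rfl N18203 D35850
theorem N19924 : nd 19924 = n35851 := ndS (p := 18205) (l := 4) rfl N18205 D35851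
theorem N19925 : nd 19925 = n35852 := ndS (p := 18205) (l := 9) rfl N18205 D35852
theorem N19926 : nd 19926 = n35853 := ndS (p := 18207) (l := 3) rfl N18207 D35853
theorem N19927 : nd 19927 = n35854 := ndS (p := 18207) (l := 9) rfl N18207 D35854
theorem N19928 : nd 19928 = n35855 := ndS (p := 18208) (l := 8) rfl N18208 D35855
theorem N19929 : nd 19929 = n35856 := ndS (p := 18209) (l := 5) rfl N18209 D35856
theorem N19930 : nd 19930 = n35857 := ndS (p := 18210) (l := 5) rfl N18210 D35857
theorem N19931 : nd 19931 = n35858 := ndS (p := 18210) (l := 9) rfl N18210 D35858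
theorem N19932 : nd 19932 = n35859 := ndS (p := 18211) (l := 6) rfl N18211 D35859
theorem N19933 : nd 19933 = n35860 := ndS (p := 18211) (l := 9) rfl N18211 D35860
theorem N19934 : nd 19934 = n35861 := ndS (p := 18213) (l := 7) rfl N18213 D35861
theorem N19935 : nd 19935 = n35862 := ndS (p := 18213) (l := 9) rfl N18213 D35862
theorem N19936 : nd 19936 = n35863 := ndS (p := 18215) (l := 4) rfl N18215 D35863
theorem N19937 : nd 19937 = n35864 := ndS (p := 18215) (l := 9) rfl N18215 D35864
theorem N19938 : nd 19938 = n35865 := ndS (p := 18217) (l := 4) rfl N18217 D35865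
theorem N19939 : nd 19939 = n35866 := ndS (p := 18217) (l := 6) rfl N18217 D35866
theorem N19940 : nd 19940 = n35867 := ndS (p := 18217) (l := 9) rfl N18217 D35867
theorem N19941 : nd 19941 = n35868 := ndS (p := 18219) (l := 7) rfl N18219 D35868
theorem N19942 : nd 19942 = n35869 := ndS (p := 18219) (l := 9) rfl N18219 D35869
theorem N19943 : nd 19943 = n35870 := ndS (p := 18221) (l := 9) rfl N18221 D35870
theorem N19944 : nd 19944 = n35871 := ndS (p := 18223) (l := 3) rfl N18223 D35871
theorem N19945 : nd 19945 = n35872 := ndS (p := 18223) (l := 9) rfl N18223 D35872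
theorem N19946 : nd 19946 = n35873 := ndS (p := 18224) (l := 8) rfl N18224 D35873
theorem N19947 : nd 19947 = n35874 := ndS (p := 18225) (l := 2) rfl N18225 D35874
theorem N19948 : nd 19948 = n35875 := ndS (p := 18225) (l := 9) rfl N18225 D35875
theorem N19949 : nd 19949 = n35876 := ndS (p := 18228) (l := 4) rfl N18228 D35876
theorem N19950 : nd 19950 = n35877 := ndS (p := 18228) (l := 6) rfl N18228 D35877
theorem N19951 : nd 19951 = n35878 := ndS (p := 18229) (l := 3) rfl N18229 D35878
theorem N19952 : nd 19952 = n35879 := ndS (p := 18229) (l := 6) rfl N18229 D35879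
theorem N19953 : nd 19953 = n35880 := ndS (p := 18229) (l := 9) rfl N18229 D35880
theorem N19954 : nd 19954 = n35881 := ndS (p := 18230) (l := 7) rfl N18230 D35881
theorem N19955 : nd 19955 = n35882 := ndS (p := 18230) (l := 9) rfl N18230 D35882
theorem N19956 : nd 19956 = n35883 := ndS (p := 18232) (l := 9) rfl N18232 D35883
theorem N19957 : nd 19957 = n35884 := ndS (p := 18235) (l := 2) rfl N18235 D35884
theorem N19958 : nd 19958 = n35885 := ndS (p := 18235) (l := 9) rfl N18235 D35885
theorem N19959 : nd 19959 = n35886 := ndS (p := 18236) (l := 8) rfl N18236 D35886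
theorem N19960 : nd 19960 = n35887 := ndS (p := 18238) (l := 1) rfl N18238 D35887
theorem N19961 : nd 19961 = n35888 := ndS (p := 18238) (l := 9) rfl N18238 D35888
theorem N19962 : nd 19962 = n35889 := ndS (p := 18239) (l := 8) rfl N18239 D35889
theorem N19963 : nd 19963 = n35890 := ndS (p := 18241) (l := 2) rfl N18241 D35890
theorem N19964 : nd 19964 = n35891 := ndS (p := 18241) (l := 7) rfl N18241 D35891
theorem N19965 : nd 19965 = n35892 := ndS (p := 18242) (l := 6) rfl N18242 D35892
theorem N19966 : nd 19966 = n35893 := ndS (p := 18243) (l := 8) rfl N18243 D35893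
theorem N19967 : nd 19967 = n35894 := ndS (p := 18245) (l := 6) rfl N18245 D35894
theorem N19968 : nd 19968 = n35895 := ndS (p := 18246) (l := 5) rfl N18246 D35895
theorem N19969 : nd 19969 = n35896 := ndS (p := 18247) (l := 5) rfl N18247 D35896
theorem N19970 : nd 19970 = n35897 := ndS (p := 18248) (l := 8) rfl N18248 D35897
theorem N19971 : nd 19971 = n35898 := ndS (p := 18249) (l := 4) rfl N18249 D35898
theorem N19972 : nd 19972 = n35899 := ndS (p := 18251) (l := 7) rfl N18251 D35899
theorem N19973 : nd 19973 = n35900 := ndS (p := 18252) (l := 6) rfl N18252 D35900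
theorem N19974 : nd 19974 = n35901 := ndS (p := 18253) (l := 5) rfl N18253 D35901
theorem N19975 : nd 19975 = n35902 := ndS (p := 18255) (l := 5) rfl N18255 D35902
theorem N19976 : nd 19976 = n35903 := ndS (p := 18255) (l := 8) rfl N18255 D35903
theorem N19977 : nd 19977 = n35904 := ndS (p := 18257) (l := 8) rfl N18257 D35904
theorem N19978 : nd 19978 = n35905 := ndS (p := 18258) (l := 5) rfl N18258 D35905
theorem N19979 : nd 19979 = n35906 := ndS (p := 18259) (l := 4) rfl N18259 D35906
theorem N19980 : nd 19980 = n35907 := ndS (p := 18259) (l := 9) rfl N18259 D35907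
theorem N19981 : nd 19981 = n35908 := ndS (p := 18261) (l := 5) rfl N18261 D35908
theorem N19982 : nd 19982 = n35909 := ndS (p := 18261) (l := 9) rfl N18261 D35909
theorem N19983 : nd 19983 = n35910 := ndS (p := 18262) (l := 4) rfl N18262 D35910
theorem N19984 : nd 19984 = n35911 := ndS (p := 18265) (l := 2) rfl N18265 D35911
theorem N19985 : nd 19985 = n35912 := ndS (p := 18268) (l := 3) rfl N18268 D35912
theorem N19986 : nd 19986 = n35913 := ndS (p := 18270) (l := 2) rfl N18270 D35913
theorem N19987 : nd 19987 = n35914 := ndS (p := 18271) (l := 1) rfl N18271 D35914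
theorem N19988 : nd 19988 = n35915 := ndS (p := 18274) (l := 6) rfl N18274 D35915
theorem N19989 : nd 19989 = n35916 := ndS (p := 18275) (l := 5) rfl N18275 D35916
theorem N19990 : nd 19990 = n35917 := ndS (p := 18276) (l := 8) rfl N18276 D35917
theorem N19991 : nd 19991 = n35918 := ndS (p := 18277) (l := 4) rfl N18277 D35918
theorem N19992 : nd 19992 = n35919 := ndS (p := 18277) (l := 8) rfl N18277 D35919
theorem N19993 : nd 19993 = n35920 := ndS (p := 18284) (l := 4) rfl N18284 D35920
theorem N19994 : nd 19994 = n35921 := ndS (p := 18284) (l := 7) rfl N18284 D35921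
theorem N19995 : nd 19995 = n35922 := ndS (p := 18286) (l := 7) rfl N18286 D35922
theorem N19996 : nd 19996 = n35923 := ndS (p := 18287) (l := 6) rfl N18287 D35923
theorem N19997 : nd 19997 = n35924 := ndS (p := 18288) (l := 6) rfl N18288 D35924
theorem N19998 : nd 19998 = n35925 := ndS (p := 18290) (l := 6) rfl N18290 D35925
theorem N19999 : nd 19999 = n35926 := ndS (p := 18291) (l := 6) rfl N18291 D35926
theorem N20000 : nd 20000 = n35927 := ndS (p := 18294) (l := 4) rfl N18294 D35927

end Cfsg.Agent.Helper17.SP6TC
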