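import Cfsg.Agent.Helper17.SP6TC.Fin2

set_option autoImplicit false
set_option linter.all false
set_option maxRecDepth 100000

noncomputable section

namespace Cfsg.Agent.Helper17.SP6TC

theorem N20001 : nd 20001 = n35928 := ndS (p := 18294) (l := 7) rfl N18294 D35928
theorem N20002 : nd 20002 = n35929 := ndS (p := 18296) (l := 7) rfl N18296 D35929
theorem N20003 : nd 20003 = n35930 := ndS (p := 18297) (l := 6) rfl N18297 D35930
theorem N20004 : nd 20004 = n35931 := ndS (p := 18297) (l := 8) rfl N18297 D35931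
theorem N20005 : nd 20005 = n35932 := ndS (p := 18299) (l := 6) rfl N18299 D35932
theorem N20006 : nd 20006 = n35933 := ndS (p := 18299) (l := 8) rfl N18299 D35933
theorem N20007 : nd 20007 = n35934 := ndS (p := 18301) (l := 8) rfl N18301 D35934
theorem N20008 : nd 20008 = n35935 := ndS (p := 18303) (l := 5) rfl N18303 D35935
theorem N20009 : nd 20009 = n35936 := ndS (p := 18304) (l := 4) rfl N18304 D35936
theorem N20010 : nd 20010 = n35937 := ndS (p := 18304) (l := 7) rfl N18304 D35937
theorem N20011 : nd 20011 = n35938 := ndS (p := 18306) (l := 3) rfl N18306 D35938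
theorem N20012 : nd 20012 = n35939 := ndS (p := 18306) (l := 7) rfl N18306 D35939
theorem N20013 : nd 20013 = n35940 := ndS (p := 18306) (l := 8) rfl N18306 D35940
theorem N20014 : nd 20014 = n35941 := ndS (p := 18307) (l := 6) rfl N18307 D35941
theorem N20015 : nd 20015 = n35942 := ndS (p := 18307) (l := 8) rfl N18307 D35942
theorem N20016 : nd 20016 = n35943 := ndS (p := 18309) (l := 6) rfl N18309 D35943
theorem N20017 : nd 20017 = n35944 := ndS (p := 18309) (l := 8) rfl N18309 D35944
theorem N20018 : nd 20018 = n35945 := ndS (p := 18310) (l := 5) rfl N18310 D35945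
theorem N20019 : nd 20019 = n35946 := ndS (p := 18310) (l := 9) rfl N18310 D35946
theorem N20020 : nd 20020 = n35947 := ndS (p := 18311) (l := 8) rfl N18311 D35947
theorem N20021 : nd 20021 = n35948 := ndS (p := 18312) (l := 9) rfl N18312 D35948
theorem N20022 : nd 20022 = n35949 := ndS (p := 18314) (l := 5) rfl N18314 D35949
theorem N20023 : nd 20023 = n35950 := ndS (p := 18314) (l := 9) rfl N18314 D35950
theorem N20024 : nd 20024 = n35951 := ndS (p := 18316) (l := 7) rfl N18316 D35951
theorem N20025 : nd 20025 = n35952 := ndS (p := 18317) (l := 4) rfl N18317 D35952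
theorem N20026 : nd 20026 = n35953 := ndS (p := 18317) (l := 7) rfl N18317 D35953
theorem N20027 : nd 20027 = n35954 := ndS (p := 18319) (l := 3) rfl N18319 D35954
theorem N20028 : nd 20028 = n35955 := ndS (p := 18319) (l := 7) rfl N18319 D35955
theorem N20029 : nd 20029 = n35956 := ndS (p := 18319) (l := 8) rfl N18319 D35956
theorem N20030 : nd 20030 = n35957 := ndS (p := 18320) (l := 6) rfl N18320 D35957
theorem N20031 : nd 20031 = n35958 := ndS (p := 18320) (l := 8) rfl N18320 D35958
theorem N20032 : nd 20032 = n35959 := ndS (p := 18322) (l := 6) rfl N18322 D35959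
theorem N20033 : nd 20033 = n35960 := ndS (p := 18322) (l := 8) rfl N18322 D35960
theorem N20034 : nd 20034 = n35961 := ndS (p := 18323) (l := 5) rfl N18323 D35961
theorem N20035 : nd 20035 = n35962 := ndS (p := 18324) (l := 8) rfl N18324 D35962
theorem N20036 : nd 20036 = n35963 := ndS (p := 18326) (l := 5) rfl N18326 D35963
theorem N20037 : nd 20037 = n35964 := ndS (p := 18327) (l := 4) rfl N18327 D35964
theorem N20038 : nd 20038 = n35965 := ndS (p := 18327) (l := 7) rfl N18327 D35965
theorem N20039 : nd 20039 = n35966 := ndS (p := 18329) (l := 3) rfl N18329 D35966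
theorem N20040 : nd 20040 = n35967 := ndS (p := 18329) (l := 7) rfl N18329 D35967
theorem N20041 : nd 20041 = n35968 := ndS (p := 18329) (l := 8) rfl N18329 D35968
theorem N20042 : nd 20042 = n35969 := ndS (p := 18330) (l := 6) rfl N18330 D35969
theorem N20043 : nd 20043 = n35970 := ndS (p := 18330) (l := 8) rfl N18330 D35970
theorem N20044 : nd 20044 = n35971 := ndS (p := 18332) (l := 7) rfl N18332 D35971
theorem N20045 : nd 20045 = n35972 := ndS (p := 18333) (l := 6) rfl N18333 D35972
theorem N20046 : nd 20046 = n35973 := ndS (p := 18333) (l := 8) rfl N18333 D35973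
theorem N20047 : nd 20047 = n35974 := ndS (p := 18335) (l := 8) rfl N18335 D35974
theorem N20048 : nd 20048 = n35975 := ndS (p := 18337) (l := 5) rfl N18337 D35975
theorem N20049 : nd 20049 = n35976 := ndS (p := 18337) (l := 8) rfl N18337 D35976
theorem N20050 : nd 20050 = n35977 := ndS (p := 18339) (l := 5) rfl N18339 D35977
theorem N20051 : nd 20051 = n35978 := ndS (p := 18341) (l := 8) rfl N18341 D35978
theorem N20052 : nd 20052 = n35979 := ndS (p := 18343) (l := 8) rfl N18343 D35979
theorem N20053 : nd 20053 = n35980 := ndS (p := 18344) (l := 5) rfl N18344 D35980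
theorem N20054 : nd 20054 = n35981 := ndS (p := 18345) (l := 6) rfl N18345 D35981
theorem N20055 : nd 20055 = n35982 := ndS (p := 18346) (l := 5) rfl N18346 D35982
theorem N20056 : nd 20056 = n35983 := ndS (p := 18346) (l := 9) rfl N18346 D35983
theorem N20057 : nd 20057 = n35984 := ndS (p := 18348) (l := 9) rfl N18348 D35984
theorem N20058 : nd 20058 = n35985 := ndS (p := 18352) (l := 6) rfl N18352 D35985
theorem N20059 : nd 20059 = n35986 := ndS (p := 18356) (l := 5) rfl N18356 D35986
theorem N20060 : nd 20060 = n35987 := ndS (p := 18358) (l := 4) rfl N18358 D35987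
theorem N20061 : nd 20061 = n35988 := ndS (p := 18359) (l := 4) rfl N18359 D35988
theorem N20062 : nd 20062 = n35989 := ndS (p := 18359) (l := 7) rfl N18359 D35989
theorem N20063 : nd 20063 = n35990 := ndS (p := 18361) (l := 3) rfl N18361 D35990
theorem N20064 : nd 20064 = n35991 := ndS (p := 18361) (l := 7) rfl N18361 D35991
theorem N20065 : nd 20065 = n35992 := ndS (p := 18361) (l := 8) rfl N18361 D35992
theorem N20066 : nd 20066 = n35993 := ndS (p := 18362) (l := 6) rfl N18362 D35993
theorem N20067 : nd 20067 = n35994 := ndS (p := 18362) (l := 8) rfl N18362 D35994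
theorem N20068 : nd 20068 = n35995 := ndS (p := 18364) (l := 6) rfl N18364 D35995
theorem N20069 : nd 20069 = n35996 := ndS (p := 18364) (l := 8) rfl N18364 D35996
theorem N20070 : nd 20070 = n35997 := ndS (p := 18365) (l := 5) rfl N18365 D35997
theorem N20071 : nd 20071 = n35998 := ndS (p := 18366) (l := 8) rfl N18366 D35998
theorem N20072 : nd 20072 = n35999 := ndS (p := 18368) (l := 5) rfl N18368 D35999
theorem N20073 : nd 20073 = n36000 := ndS (p := 18369) (l := 4) rfl N18369 D36000
theorem N20074 : nd 20074 = n36001 := ndS (p := 18369) (l := 7) rfl N18369 D36001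
theorem N20075 : nd 20075 = n36002 := ndS (p := 18371) (l := 3) rfl N18371 D36002
theorem N20076 : nd 20076 = n36003 := ndS (p := 18371) (l := 7) rfl N18371 D36003
theorem N20077 : nd 20077 = n36004 := ndS (p := 18371) (l := 8) rfl N18371 D36004
theorem N20078 : nd 20078 = n36005 := ndS (p := 18372) (l := 6) rfl N18372 D36005
theorem N20079 : nd 20079 = n36006 := ndS (p := 18372) (l := 8) rfl N18372 D36006
theorem N20080 : nd 20080 = n36007 := ndS (p := 18374) (l := 7) rfl N18374 D36007
theorem N20081 : nd 20081 = n36008 := ndS (p := 18374) (l := 8) rfl N18374 D36008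
theorem N20082 : nd 20082 = n36009 := ndS (p := 18375) (l := 6) rfl N18375 D36009
theorem N20083 : nd 20083 = n36010 := ndS (p := 18375) (l := 8) rfl N18375 D36010
theorem N20084 : nd 20084 = n36011 := ndS (p := 18376) (l := 5) rfl N18376 D36011
theorem N20085 : nd 20085 = n36012 := ndS (p := 18376) (l := 9) rfl N18376 D36012
theorem N20086 : nd 20086 = n36013 := ndS (p := 18377) (l := 8) rfl N18377 D36013
theorem N20087 : nd 20087 = n36014 := ndS (p := 18378) (l := 9) rfl N18378 D36014
theorem N20088 : nd 20088 = n36015 := ndS (p := 18380) (l := 5) rfl N18380 D36015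
theorem N20089 : nd 20089 = n36016 := ndS (p := 18380) (l := 8) rfl N18380 D36016
theorem N20090 : nd 20090 = n36017 := ndS (p := 18381) (l := 5) rfl N18381 D36017
theorem N20091 : nd 20091 = n36018 := ndS (p := 18381) (l := 9) rfl N18381 D36018
theorem N20092 : nd 20092 = n36019 := ndS (p := 18382) (l := 6) rfl N18382 D36019
theorem N20093 : nd 20093 = n36020 := ndS (p := 18382) (l := 9) rfl N18382 D36020
theorem N20094 : nd 20094 = n36021 := ndS (p := 18384) (l := 5) rfl N18384 D36021
theorem N20095 : nd 20095 = n36022 := ndS (p := 18384) (l := 9) rfl N18384 D36022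
theorem N20096 : nd 20096 = n36023 := ndS (p := 18386) (l := 4) rfl N18386 D36023
theorem N20097 : nd 20097 = n36024 := ndS (p := 18386) (l := 9) rfl N18386 D36024
theorem N20098 : nd 20098 = n36025 := ndS (p := 18388) (l := 7) rfl N18388 D36025
theorem N20099 : nd 20099 = n36026 := ndS (p := 18389) (l := 6) rfl N18389 D36026
theorem N20100 : nd 20100 = n36027 := ndS (p := 18390) (l := 6) rfl N18390 D36027
theorem N20101 : nd 20101 = n36028 := ndS (p := 18390) (l := 8) rfl N18390 D36028
theorem N20102 : nd 20102 = n36029 := ndS (p := 18391) (l := 5) rfl N18391 D36029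
theorem N20103 : nd 20103 = n36030 := ndS (p := 18392) (l := 8) rfl N18392 D36030
theorem N20104 : nd 20104 = n36031 := ndS (p := 18394) (l := 5) rfl N18394 D36031
theorem N20105 : nd 20105 = n36032 := ndS (p := 18395) (l := 7) rfl N18395 D36032
theorem N20106 : nd 20106 = n36033 := ndS (p := 18396) (l := 6) rfl N18396 D36033
theorem N20107 : nd 20107 = n36034 := ndS (p := 18397) (l := 7) rfl N18397 D36034
theorem N20108 : nd 20108 = n36035 := ndS (p := 18398) (l := 6) rfl N18398 D36035
theorem N20109 : nd 20109 = n36036 := ndS (p := 18398) (l := 8) rfl N18398 D36036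
theorem N20110 : nd 20110 = n36037 := ndS (p := 18400) (l := 8) rfl N18400 D36037
theorem N20111 : nd 20111 = n36038 := ndS (p := 18402) (l := 5) rfl N18402 D36038
theorem N20112 : nd 20112 = n36039 := ndS (p := 18402) (l := 8) rfl N18402 D36039
theorem N20113 : nd 20113 = n36040 := ndS (p := 18403) (l := 5) rfl N18403 D36040
theorem N20114 : nd 20114 = n36041 := ndS (p := 18403) (l := 9) rfl N18403 D36041
theorem N20115 : nd 20115 = n36042 := ndS (p := 18404) (l := 6) rfl N18404 D36042
theorem N20116 : nd 20116 = n36043 := ndS (p := 18406) (l := 5) rfl N18406 D36043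
theorem N20117 : nd 20117 = n36044 := ndS (p := 18406) (l := 9) rfl N18406 D36044
theorem N20118 : nd 20118 = n36045 := ndS (p := 18408) (l := 4) rfl N18408 D36045
theorem N20119 : nd 20119 = n36046 := ndS (p := 18408) (l := 9) rfl N18408 D36046
theorem N20120 : nd 20120 = n36047 := ndS (p := 18410) (l := 4) rfl N18410 D36047
theorem N20121 : nd 20121 = n36048 := ndS (p := 18410) (l := 7) rfl N18410 D36048
theorem N20122 : nd 20122 = n36049 := ndS (p := 18412) (l := 7) rfl N18412 D36049
theorem N20123 : nd 20123 = n36050 := ndS (p := 18413) (l := 6) rfl N18413 D36050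
theorem N20124 : nd 20124 = n36051 := ndS (p := 18413) (l := 8) rfl N18413 D36051
theorem N20125 : nd 20125 = n36052 := ndS (p := 18415) (l := 7) rfl N18415 D36052
theorem N20126 : nd 20126 = n36053 := ndS (p := 18416) (l := 6) rfl N18416 D36053
theorem N20127 : nd 20127 = n36054 := ndS (p := 18416) (l := 8) rfl N18416 D36054
theorem N20128 : nd 20128 = n36055 := ndS (p := 18417) (l := 5) rfl N18417 D36055
theorem N20129 : nd 20129 = n36056 := ndS (p := 18418) (l := 8) rfl N18418 D36056
theorem N20130 : nd 20130 = n36057 := ndS (p := 18419) (l := 9) rfl N18419 D36057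
theorem N20131 : nd 20131 = n36058 := ndS (p := 18421) (l := 5) rfl N18421 D36058
theorem N20132 : nd 20132 = n36059 := ndS (p := 18421) (l := 8) rfl N18421 D36059
theorem N20133 : nd 20133 = n36060 := ndS (p := 18422) (l := 5) rfl N18422 D36060
theorem N20134 : nd 20134 = n36061 := ndS (p := 18422) (l := 9) rfl N18422 D36061
theorem N20135 : nd 20135 = n36062 := ndS (p := 18423) (l := 6) rfl N18423 D36062
theorem N20136 : nd 20136 = n36063 := ndS (p := 18423) (l := 9) rfl N18423 D36063
theorem N20137 : nd 20137 = n36064 := ndS (p := 18425) (l := 5) rfl N18425 D36064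
theorem N20138 : nd 20138 = n36065 := ndS (p := 18425) (l := 9) rfl N18425 D36065
theorem N20139 : nd 20139 = n36066 := ndS (p := 18427) (l := 4) rfl N18427 D36066
theorem N20140 : nd 20140 = n36067 := ndS (p := 18427) (l := 9) rfl N18427 D36067
theorem N20141 : nd 20141 = n36068 := ndS (p := 18429) (l := 3) rfl N18429 D36068
theorem N20142 : nd 20142 = n36069 := ndS (p := 18429) (l := 7) rfl N18429 D36069
theorem N20143 : nd 20143 = n36070 := ndS (p := 18429) (l := 8) rfl N18429 D36070
theorem N20144 : nd 20144 = n36071 := ndS (p := 18430) (l := 6) rfl N18430 D36071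
theorem N20145 : nd 20145 = n36072 := ndS (p := 18430) (l := 8) rfl N18430 D36072
theorem N20146 : nd 20146 = n36073 := ndS (p := 18432) (l := 7) rfl N18432 D36073
theorem N20147 : nd 20147 = n36074 := ndS (p := 18433) (l := 6) rfl N18433 D36074
theorem N20148 : nd 20148 = n36075 := ndS (p := 18433) (l := 8) rfl N18433 D36075
theorem N20149 : nd 20149 = n36076 := ndS (p := 18434) (l := 5) rfl N18434 D36076
theorem N20150 : nd 20150 = n36077 := ndS (p := 18435) (l := 8) rfl N18435 D36077
theorem N20151 : nd 20151 = n36078 := ndS (p := 18436) (l := 9) rfl N18436 D36078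
theorem N20152 : nd 20152 = n36079 := ndS (p := 18438) (l := 6) rfl N18438 D36079
theorem N20153 : nd 20153 = n36080 := ndS (p := 18438) (l := 8) rfl N18438 D36080
theorem N20154 : nd 20154 = n36081 := ndS (p := 18439) (l := 5) rfl N18439 D36081
theorem N20155 : nd 20155 = n36082 := ndS (p := 18440) (l := 5) rfl N18440 D36082
theorem N20156 : nd 20156 = n36083 := ndS (p := 18440) (l := 8) rfl N18440 D36083
theorem N20157 : nd 20157 = n36084 := ndS (p := 18441) (l := 5) rfl N18441 D36084
theorem N20158 : nd 20158 = n36085 := ndS (p := 18441) (l := 9) rfl N18441 D36085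
theorem N20159 : nd 20159 = n36086 := ndS (p := 18442) (l := 6) rfl N18442 D36086
theorem N20160 : nd 20160 = n36087 := ndS (p := 18444) (l := 5) rfl N18444 D36087
theorem N20161 : nd 20161 = n36088 := ndS (p := 18444) (l := 9) rfl N18444 D36088
theorem N20162 : nd 20162 = n36089 := ndS (p := 18446) (l := 8) rfl N18446 D36089
theorem N20163 : nd 20163 = n36090 := ndS (p := 18447) (l := 5) rfl N18447 D36090
theorem N20164 : nd 20164 = n36091 := ndS (p := 18447) (l := 9) rfl N18447 D36091
theorem N20165 : nd 20165 = n36092 := ndS (p := 18448) (l := 6) rfl N18448 D36092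
theorem N20166 : nd 20166 = n36093 := ndS (p := 18450) (l := 7) rfl N18450 D36093
theorem N20167 : nd 20167 = n36094 := ndS (p := 18451) (l := 4) rfl N18451 D36094
theorem N20168 : nd 20168 = n36095 := ndS (p := 18451) (l := 9) rfl N18451 D36095
theorem N20169 : nd 20169 = n36096 := ndS (p := 18453) (l := 3) rfl N18453 D36096
theorem N20170 : nd 20170 = n36097 := ndS (p := 18453) (l := 9) rfl N18453 D36097
theorem N20171 : nd 20171 = n36098 := ndS (p := 18454) (l := 8) rfl N18454 D36098
theorem N20172 : nd 20172 = n36099 := ndS (p := 18455) (l := 5) rfl N18455 D36099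
theorem N20173 : nd 20173 = n36100 := ndS (p := 18456) (l := 5) rfl N18456 D36100
theorem N20174 : nd 20174 = n36101 := ndS (p := 18457) (l := 6) rfl N18457 D36101
theorem N20175 : nd 20175 = n36102 := ndS (p := 18458) (l := 7) rfl N18458 D36102
theorem N20176 : nd 20176 = n36103 := ndS (p := 18459) (l := 4) rfl N18459 D36103
theorem N20177 : nd 20177 = n36104 := ndS (p := 18459) (l := 9) rfl N18459 D36104
theorem N20178 : nd 20178 = n36105 := ndS (p := 18461) (l := 3) rfl N18461 D36105
theorem N20179 : nd 20179 = n36106 := ndS (p := 18461) (l := 9) rfl N18461 D36106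
theorem N20180 : nd 20180 = n36107 := ndS (p := 18462) (l := 8) rfl N18462 D36107
theorem N20181 : nd 20181 = n36108 := ndS (p := 18465) (l := 8) rfl N18465 D36108
theorem N20182 : nd 20182 = n36109 := ndS (p := 18466) (l := 5) rfl N18466 D36109
theorem N20183 : nd 20183 = n36110 := ndS (p := 18468) (l := 5) rfl N18468 D36110
theorem N20184 : nd 20184 = n36111 := ndS (p := 18470) (l := 5) rfl N18470 D36111
theorem N20185 : nd 20185 = n36112 := ndS (p := 18471) (l := 6) rfl N18471 D36112
theorem N20186 : nd 20186 = n36113 := ndS (p := 18472) (l := 7) rfl N18472 D36113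
theorem N20187 : nd 20187 = n36114 := ndS (p := 18473) (l := 4) rfl N18473 D36114
theorem N20188 : nd 20188 = n36115 := ndS (p := 18473) (l := 9) rfl N18473 D36115
theorem N20189 : nd 20189 = n36116 := ndS (p := 18475) (l := 5) rfl N18475 D36116
theorem N20190 : nd 20190 = n36117 := ndS (p := 18476) (l := 4) rfl N18476 D36117
theorem N20191 : nd 20191 = n36118 := ndS (p := 18476) (l := 6) rfl N18476 D36118
theorem N20192 : nd 20192 = n36119 := ndS (p := 18477) (l := 7) rfl N18477 D36119
theorem N20193 : nd 20193 = n36120 := ndS (p := 18479) (l := 3) rfl N18479 D36120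
theorem N20194 : nd 20194 = n36121 := ndS (p := 18479) (l := 9) rfl N18479 D36121
theorem N20195 : nd 20195 = n36122 := ndS (p := 18480) (l := 8) rfl N18480 D36122
theorem N20196 : nd 20196 = n36123 := ndS (p := 18484) (l := 6) rfl N18484 D36123
theorem N20197 : nd 20197 = n36124 := ndS (p := 18485) (l := 7) rfl N18485 D36124
theorem N20198 : nd 20198 = n36125 := ndS (p := 18488) (l := 6) rfl N18488 D36125
theorem N20199 : nd 20199 = n36126 := ndS (p := 18489) (l := 7) rfl N18489 D36126
theorem N20200 : nd 20200 = n36127 := ndS (p := 18490) (l := 6) rfl N18490 D36127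
theorem N20201 : nd 20201 = n36128 := ndS (p := 18491) (l := 8) rfl N18491 D36128
theorem N20202 : nd 20202 = n36129 := ndS (p := 18493) (l := 5) rfl N18493 D36129
theorem N20203 : nd 20203 = n36130 := ndS (p := 18494) (l := 5) rfl N18494 D36130
theorem N20204 : nd 20204 = n36131 := ndS (p := 18495) (l := 4) rfl N18495 D36131
theorem N20205 : nd 20205 = n36132 := ndS (p := 18497) (l := 6) rfl N18497 D36132
theorem N20206 : nd 20206 = n36133 := ndS (p := 18498) (l := 6) rfl N18498 D36133
theorem N20207 : nd 20207 = n36134 := ndS (p := 18499) (l := 8) rfl N18499 D36134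
theorem N20208 : nd 20208 = n36135 := ndS (p := 18501) (l := 5) rfl N18501 D36135
theorem N20209 : nd 20209 = n36136 := ndS (p := 18502) (l := 5) rfl N18502 D36136
theorem N20210 : nd 20210 = n36137 := ndS (p := 18503) (l := 9) rfl N18503 D36137
theorem N20211 : nd 20211 = n36138 := ndS (p := 18505) (l := 6) rfl N18505 D36138
theorem N20212 : nd 20212 = n36139 := ndS (p := 18506) (l := 6) rfl N18506 D36139
theorem N20213 : nd 20213 = n36140 := ndS (p := 18507) (l := 8) rfl N18507 D36140
theorem N20214 : nd 20214 = n36141 := ndS (p := 18509) (l := 6) rfl N18509 D36141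
theorem N20215 : nd 20215 = n36142 := ndS (p := 18510) (l := 5) rfl N18510 D36142
theorem N20216 : nd 20216 = n36143 := ndS (p := 18510) (l := 8) rfl N18510 D36143
theorem N20217 : nd 20217 = n36144 := ndS (p := 18512) (l := 5) rfl N18512 D36144
theorem N20218 : nd 20218 = n36145 := ndS (p := 18512) (l := 9) rfl N18512 D36145
theorem N20219 : nd 20219 = n36146 := ndS (p := 18514) (l := 8) rfl N18514 D36146
theorem N20220 : nd 20220 = n36147 := ndS (p := 18516) (l := 4) rfl N18516 D36147
theorem N20221 : nd 20221 = n36148 := ndS (p := 18516) (l := 9) rfl N18516 D36148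
theorem N20222 : nd 20222 = n36149 := ndS (p := 18521) (l := 5) rfl N18521 D36149
theorem N20223 : nd 20223 = n36150 := ndS (p := 18522) (l := 4) rfl N18522 D36150
theorem N20224 : nd 20224 = n36151 := ndS (p := 18523) (l := 6) rfl N18523 D36151
theorem N20225 : nd 20225 = n36152 := ndS (p := 18524) (l := 6) rfl N18524 D36152
theorem N20226 : nd 20226 = n36153 := ndS (p := 18525) (l := 8) rfl N18525 D36153
theorem N20227 : nd 20227 = n36154 := ndS (p := 18528) (l := 5) rfl N18528 D36154
theorem N20228 : nd 20228 = n36155 := ndS (p := 18531) (l := 6) rfl N18531 D36155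
theorem N20229 : nd 20229 = n36156 := ndS (p := 18532) (l := 5) rfl N18532 D36156
theorem N20230 : nd 20230 = n36157 := ndS (p := 18536) (l := 3) rfl N18536 D36157
theorem N20231 : nd 20231 = n36158 := ndS (p := 18536) (l := 9) rfl N18536 D36158
theorem N20232 : nd 20232 = n36159 := ndS (p := 18538) (l := 6) rfl N18538 D36159
theorem N20233 : nd 20233 = n36160 := ndS (p := 18540) (l := 6) rfl N18540 D36160
theorem N20234 : nd 20234 = n36161 := ndS (p := 18541) (l := 5) rfl N18541 D36161
theorem N20235 : nd 20235 = n36162 := ndS (p := 18542) (l := 5) rfl N18542 D36162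
theorem N20236 : nd 20236 = n36163 := ndS (p := 18545) (l := 4) rfl N18545 D36163
theorem N20237 : nd 20237 = n36164 := ndS (p := 18545) (l := 9) rfl N18545 D36164
theorem N20238 : nd 20238 = n36165 := ndS (p := 18547) (l := 9) rfl N18547 D36165
theorem N20239 : nd 20239 = n36166 := ndS (p := 18548) (l := 8) rfl N18548 D36166
theorem N20240 : nd 20240 = n36167 := ndS (p := 18549) (l := 7) rfl N18549 D36167
theorem N20241 : nd 20241 = n36168 := ndS (p := 18550) (l := 6) rfl N18550 D36168
theorem N20242 : nd 20242 = n36169 := ndS (p := 18551) (l := 8) rfl N18551 D36169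
theorem N20243 : nd 20243 = n36170 := ndS (p := 18553) (l := 6) rfl N18553 D36170
theorem N20244 : nd 20244 = n36171 := ndS (p := 18554) (l := 5) rfl N18554 D36171
theorem N20245 : nd 20245 = n36172 := ndS (p := 18555) (l := 5) rfl N18555 D36172
theorem N20246 : nd 20246 = n36173 := ndS (p := 18556) (l := 5) rfl N18556 D36173
theorem N20247 : nd 20247 = n36174 := ndS (p := 18556) (l := 8) rfl N18556 D36174
theorem N20248 : nd 20248 = n36175 := ndS (p := 18558) (l := 8) rfl N18558 D36175
theorem N20249 : nd 20249 = n36176 := ndS (p := 18559) (l := 5) rfl N18559 D36176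
theorem N20250 : nd 20250 = n36177 := ndS (p := 18560) (l := 9) rfl N18560 D36177
theorem N20251 : nd 20251 = n36178 := ndS (p := 18563) (l := 9) rfl N18563 D36178
theorem N20252 : nd 20252 = n36179 := ndS (p := 18572) (l := 5) rfl N18572 D36179
theorem N20253 : nd 20253 = n36180 := ndS (p := 18576) (l := 5) rfl N18576 D36180
theorem N20254 : nd 20254 = n36181 := ndS (p := 18578) (l := 5) rfl N18578 D36181
theorem N20255 : nd 20255 = n36182 := ndS (p := 18582) (l := 5) rfl N18582 D36182
theorem N20256 : nd 20256 = n36183 := ndS (p := 18584) (l := 4) rfl N18584 D36183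
theorem N20257 : nd 20257 = n36184 := ndS (p := 18584) (l := 8) rfl N18584 D36184
theorem N20258 : nd 20258 = n36185 := ndS (p := 18586) (l := 6) rfl N18586 D36185
theorem N20259 : nd 20259 = n36186 := ndS (p := 18588) (l := 5) rfl N18588 D36186
theorem N20260 : nd 20260 = n36187 := ndS (p := 18589) (l := 6) rfl N18589 D36187
theorem N20261 : nd 20261 = n36188 := ndS (p := 18591) (l := 5) rfl N18591 D36188
theorem N20262 : nd 20262 = n36189 := ndS (p := 18591) (l := 8) rfl N18591 D36189
theorem N20263 : nd 20263 = n36190 := ndS (p := 18594) (l := 7) rfl N18594 D36190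
theorem N20264 : nd 20264 = n36191 := ndS (p := 18595) (l := 6) rfl N18595 D36191
theorem N20265 : nd 20265 = n36192 := ndS (p := 18597) (l := 5) rfl N18597 D36192
theorem N20266 : nd 20266 = n36193 := ndS (p := 18597) (l := 8) rfl N18597 D36193
theorem N20267 : nd 20267 = n36194 := ndS (p := 18598) (l := 9) rfl N18598 D36194
theorem N20268 : nd 20268 = n36195 := ndS (p := 18600) (l := 9) rfl N18600 D36195
theorem N20269 : nd 20269 = n36196 := ndS (p := 18603) (l := 7) rfl N18603 D36196
theorem N20270 : nd 20270 = n36197 := ndS (p := 18604) (l := 6) rfl N18604 D36197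
theorem N20271 : nd 20271 = n36198 := ndS (p := 18606) (l := 5) rfl N18606 D36198
theorem N20272 : nd 20272 = n36199 := ndS (p := 18606) (l := 8) rfl N18606 D36199
theorem N20273 : nd 20273 = n36200 := ndS (p := 18607) (l := 5) rfl N18607 D36200
theorem N20274 : nd 20274 = n36201 := ndS (p := 18608) (l := 6) rfl N18608 D36201
theorem N20275 : nd 20275 = n36202 := ndS (p := 18609) (l := 5) rfl N18609 D36202
theorem N20276 : nd 20276 = n36203 := ndS (p := 18610) (l := 4) rfl N18610 D36203
theorem N20277 : nd 20277 = n36204 := ndS (p := 18611) (l := 6) rfl N18611 D36204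
theorem N20278 : nd 20278 = n36205 := ndS (p := 18612) (l := 5) rfl N18612 D36205
theorem N20279 : nd 20279 = n36206 := ndS (p := 18613) (l := 8) rfl N18613 D36206
theorem N20280 : nd 20280 = n36207 := ndS (p := 18614) (l := 5) rfl N18614 D36207
theorem N20281 : nd 20281 = n36208 := ndS (p := 18615) (l := 4) rfl N18615 D36208
theorem N20282 : nd 20282 = n36209 := ndS (p := 18615) (l := 7) rfl N18615 D36209
theorem N20283 : nd 20283 = n36210 := ndS (p := 18617) (l := 3) rfl N18617 D36210
theorem N20284 : nd 20284 = n36211 := ndS (p := 18617) (l := 7) rfl N18617 D36211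
theorem N20285 : nd 20285 = n36212 := ndS (p := 18618) (l := 6) rfl N18618 D36212
theorem N20286 : nd 20286 = n36213 := ndS (p := 18619) (l := 6) rfl N18619 D36213
theorem N20287 : nd 20287 = n36214 := ndS (p := 18619) (l := 8) rfl N18619 D36214
theorem N20288 : nd 20288 = n36215 := ndS (p := 18620) (l := 5) rfl N18620 D36215
theorem N20289 : nd 20289 = n36216 := ndS (p := 18621) (l := 8) rfl N18621 D36216
theorem N20290 : nd 20290 = n36217 := ndS (p := 18623) (l := 5) rfl N18623 D36217
theorem N20291 : nd 20291 = n36218 := ndS (p := 18624) (l := 3) rfl N18624 D36218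
theorem N20292 : nd 20292 = n36219 := ndS (p := 18624) (l := 7) rfl N18624 D36219
theorem N20293 : nd 20293 = n36220 := ndS (p := 18625) (l := 6) rfl N18625 D36220
theorem N20294 : nd 20294 = n36221 := ndS (p := 18626) (l := 7) rfl N18626 D36221
theorem N20295 : nd 20295 = n36222 := ndS (p := 18626) (l := 8) rfl N18626 D36222
theorem N20296 : nd 20296 = n36223 := ndS (p := 18627) (l := 6) rfl N18627 D36223
theorem N20297 : nd 20297 = n36224 := ndS (p := 18627) (l := 8) rfl N18627 D36224
theorem N20298 : nd 20298 = n36225 := ndS (p := 18628) (l := 9) rfl N18628 D36225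
theorem N20299 : nd 20299 = n36226 := ndS (p := 18629) (l := 8) rfl N18629 D36226
theorem N20300 : nd 20300 = n36227 := ndS (p := 18630) (l := 9) rfl N18630 D36227
theorem N20301 : nd 20301 = n36228 := ndS (p := 18632) (l := 5) rfl N18632 D36228
theorem N20302 : nd 20302 = n36229 := ndS (p := 18632) (l := 8) rfl N18632 D36229
theorem N20303 : nd 20303 = n36230 := ndS (p := 18633) (l := 5) rfl N18633 D36230
theorem N20304 : nd 20304 = n36231 := ndS (p := 18633) (l := 9) rfl N18633 D36231
theorem N20305 : nd 20305 = n36232 := ndS (p := 18634) (l := 6) rfl N18634 D36232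
theorem N20306 : nd 20306 = n36233 := ndS (p := 18634) (l := 9) rfl N18634 D36233
theorem N20307 : nd 20307 = n36234 := ndS (p := 18636) (l := 5) rfl N18636 D36234
theorem N20308 : nd 20308 = n36235 := ndS (p := 18636) (l := 9) rfl N18636 D36235
theorem N20309 : nd 20309 = n36236 := ndS (p := 18638) (l := 4) rfl N18638 D36236
theorem N20310 : nd 20310 = n36237 := ndS (p := 18638) (l := 9) rfl N18638 D36237
theorem N20311 : nd 20311 = n36238 := ndS (p := 18640) (l := 5) rfl N18640 D36238
theorem N20312 : nd 20312 = n36239 := ndS (p := 18641) (l := 7) rfl N18641 D36239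
theorem N20313 : nd 20313 = n36240 := ndS (p := 18642) (l := 6) rfl N18642 D36240
theorem N20314 : nd 20314 = n36241 := ndS (p := 18643) (l := 7) rfl N18643 D36241
theorem N20315 : nd 20315 = n36242 := ndS (p := 18644) (l := 6) rfl N18644 D36242
theorem N20316 : nd 20316 = n36243 := ndS (p := 18644) (l := 8) rfl N18644 D36243
theorem N20317 : nd 20317 = n36244 := ndS (p := 18645) (l := 5) rfl N18645 D36244
theorem N20318 : nd 20318 = n36245 := ndS (p := 18646) (l := 8) rfl N18646 D36245
theorem N20319 : nd 20319 = n36246 := ndS (p := 18647) (l := 9) rfl N18647 D36246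
theorem N20320 : nd 20320 = n36247 := ndS (p := 18649) (l := 5) rfl N18649 D36247
theorem N20321 : nd 20321 = n36248 := ndS (p := 18649) (l := 8) rfl N18649 D36248
theorem N20322 : nd 20322 = n36249 := ndS (p := 18650) (l := 5) rfl N18650 D36249
theorem N20323 : nd 20323 = n36250 := ndS (p := 18650) (l := 9) rfl N18650 D36250
theorem N20324 : nd 20324 = n36251 := ndS (p := 18651) (l := 6) rfl N18651 D36251
theorem N20325 : nd 20325 = n36252 := ndS (p := 18651) (l := 9) rfl N18651 D36252
theorem N20326 : nd 20326 = n36253 := ndS (p := 18653) (l := 5) rfl N18653 D36253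
theorem N20327 : nd 20327 = n36254 := ndS (p := 18653) (l := 9) rfl N18653 D36254
theorem N20328 : nd 20328 = n36255 := ndS (p := 18655) (l := 4) rfl N18655 D36255
theorem N20329 : nd 20329 = n36256 := ndS (p := 18655) (l := 9) rfl N18655 D36256
theorem N20330 : nd 20330 = n36257 := ndS (p := 18657) (l := 7) rfl N18657 D36257
theorem N20331 : nd 20331 = n36258 := ndS (p := 18658) (l := 6) rfl N18658 D36258
theorem N20332 : nd 20332 = n36259 := ndS (p := 18660) (l := 6) rfl N18660 D36259
theorem N20333 : nd 20333 = n36260 := ndS (p := 18660) (l := 8) rfl N18660 D36260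
theorem N20334 : nd 20334 = n36261 := ndS (p := 18662) (l := 5) rfl N18662 D36261
theorem N20335 : nd 20335 = n36262 := ndS (p := 18662) (l := 8) rfl N18662 D36262
theorem N20336 : nd 20336 = n36263 := ndS (p := 18663) (l := 9) rfl N18663 D36263
theorem N20337 : nd 20337 = n36264 := ndS (p := 18665) (l := 9) rfl N18665 D36264
theorem N20338 : nd 20338 = n36265 := ndS (p := 18667) (l := 8) rfl N18667 D36265
theorem N20339 : nd 20339 = n36266 := ndS (p := 18668) (l := 5) rfl N18668 D36266
theorem N20340 : nd 20340 = n36267 := ndS (p := 18668) (l := 9) rfl N18668 D36267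
theorem N20341 : nd 20341 = n36268 := ndS (p := 18669) (l := 6) rfl N18669 D36268
theorem N20342 : nd 20342 = n36269 := ndS (p := 18669) (l := 9) rfl N18669 D36269
theorem N20343 : nd 20343 = n36270 := ndS (p := 18671) (l := 7) rfl N18671 D36270
theorem N20344 : nd 20344 = n36271 := ndS (p := 18672) (l := 8) rfl N18672 D36271
theorem N20345 : nd 20345 = n36272 := ndS (p := 18674) (l := 3) rfl N18674 D36272
theorem N20346 : nd 20346 = n36273 := ndS (p := 18676) (l := 6) rfl N18676 D36273
theorem N20347 : nd 20347 = n36274 := ndS (p := 18677) (l := 8) rfl N18677 D36274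
theorem N20348 : nd 20348 = n36275 := ndS (p := 18679) (l := 5) rfl N18679 D36275
theorem N20349 : nd 20349 = n36276 := ndS (p := 18680) (l := 5) rfl N18680 D36276
theorem N20350 : nd 20350 = n36277 := ndS (p := 18680) (l := 9) rfl N18680 D36277
theorem N20351 : nd 20351 = n36278 := ndS (p := 18682) (l := 4) rfl N18682 D36278
theorem N20352 : nd 20352 = n36279 := ndS (p := 18682) (l := 9) rfl N18682 D36279
theorem N20353 : nd 20353 = n36280 := ndS (p := 18684) (l := 8) rfl N18684 D36280
theorem N20354 : nd 20354 = n36281 := ndS (p := 18685) (l := 3) rfl N18685 D36281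
theorem N20355 : nd 20355 = n36282 := ndS (p := 18687) (l := 6) rfl N18687 D36282
theorem N20356 : nd 20356 = n36283 := ndS (p := 18689) (l := 6) rfl N18689 D36283
theorem N20357 : nd 20357 = n36284 := ndS (p := 18690) (l := 5) rfl N18690 D36284
theorem N20358 : nd 20358 = n36285 := ndS (p := 18690) (l := 8) rfl N18690 D36285
theorem N20359 : nd 20359 = n36286 := ndS (p := 18691) (l := 9) rfl N18691 D36286
theorem N20360 : nd 20360 = n36287 := ndS (p := 18693) (l := 5) rfl N18693 D36287
theorem N20361 : nd 20361 = n36288 := ndS (p := 18693) (l := 9) rfl N18693 D36288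
theorem N20362 : nd 20362 = n36289 := ndS (p := 18695) (l := 8) rfl N18695 D36289
theorem N20363 : nd 20363 = n36290 := ndS (p := 18696) (l := 5) rfl N18696 D36290
theorem N20364 : nd 20364 = n36291 := ndS (p := 18696) (l := 9) rfl N18696 D36291
theorem N20365 : nd 20365 = n36292 := ndS (p := 18697) (l := 6) rfl N18697 D36292
theorem N20366 : nd 20366 = n36293 := ndS (p := 18697) (l := 9) rfl N18697 D36293
theorem N20367 : nd 20367 = n36294 := ndS (p := 18699) (l := 7) rfl N18699 D36294
theorem N20368 : nd 20368 = n36295 := ndS (p := 18699) (l := 9) rfl N18699 D36295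
theorem N20369 : nd 20369 = n36296 := ndS (p := 18701) (l := 4) rfl N18701 D36296
theorem N20370 : nd 20370 = n36297 := ndS (p := 18701) (l := 9) rfl N18701 D36297
theorem N20371 : nd 20371 = n36298 := ndS (p := 18703) (l := 3) rfl N18703 D36298
theorem N20372 : nd 20372 = n36299 := ndS (p := 18705) (l := 6) rfl N18705 D36299
theorem N20373 : nd 20373 = n36300 := ndS (p := 18706) (l := 5) rfl N18706 D36300
theorem N20374 : nd 20374 = n36301 := ndS (p := 18707) (l := 5) rfl N18707 D36301
theorem N20375 : nd 20375 = n36302 := ndS (p := 18707) (l := 8) rfl N18707 D36302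
theorem N20376 : nd 20376 = n36303 := ndS (p := 18708) (l := 5) rfl N18708 D36303
theorem N20377 : nd 20377 = n36304 := ndS (p := 18708) (l := 9) rfl N18708 D36304
theorem N20378 : nd 20378 = n36305 := ndS (p := 18709) (l := 6) rfl N18709 D36305
theorem N20379 : nd 20379 = n36306 := ndS (p := 18711) (l := 8) rfl N18711 D36306
theorem N20380 : nd 20380 = n36307 := ndS (p := 18712) (l := 5) rfl N18712 D36307
theorem N20381 : nd 20381 = n36308 := ndS (p := 18712) (l := 9) rfl N18712 D36308
theorem N20382 : nd 20382 = n36309 := ndS (p := 18713) (l := 6) rfl N18713 D36309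
theorem N20383 : nd 20383 = n36310 := ndS (p := 18715) (l := 7) rfl N18715 D36310
theorem N20384 : nd 20384 = n36311 := ndS (p := 18717) (l := 5) rfl N18717 D36311
theorem N20385 : nd 20385 = n36312 := ndS (p := 18717) (l := 9) rfl N18717 D36312
theorem N20386 : nd 20386 = n36313 := ndS (p := 18718) (l := 6) rfl N18718 D36313
theorem N20387 : nd 20387 = n36314 := ndS (p := 18718) (l := 9) rfl N18718 D36314
theorem N20388 : nd 20388 = n36315 := ndS (p := 18720) (l := 7) rfl N18720 D36315
theorem N20389 : nd 20389 = n36316 := ndS (p := 18724) (l := 7) rfl N18724 D36316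
theorem N20390 : nd 20390 = n36317 := ndS (p := 18728) (l := 6) rfl N18728 D36317
theorem N20391 : nd 20391 = n36318 := ndS (p := 18729) (l := 5) rfl N18729 D36318
theorem N20392 : nd 20392 = n36319 := ndS (p := 18730) (l := 5) rfl N18730 D36319
theorem N20393 : nd 20393 = n36320 := ndS (p := 18730) (l := 9) rfl N18730 D36320
theorem N20394 : nd 20394 = n36321 := ndS (p := 18739) (l := 5) rfl N18739 D36321
theorem N20395 : nd 20395 = n36322 := ndS (p := 18739) (l := 8) rfl N18739 D36322
theorem N20396 : nd 20396 = n36323 := ndS (p := 18742) (l := 9) rfl N18742 D36323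
theorem N20397 : nd 20397 = n36324 := ndS (p := 18746) (l := 5) rfl N18746 D36324
theorem N20398 : nd 20398 = n36325 := ndS (p := 18747) (l := 5) rfl N18747 D36325
theorem N20399 : nd 20399 = n36326 := ndS (p := 18752) (l := 5) rfl N18752 D36326
theorem N20400 : nd 20400 = n36327 := ndS (p := 18754) (l := 9) rfl N18754 D36327
theorem N20401 : nd 20401 = n36328 := ndS (p := 18760) (l := 2) rfl N18760 D36328
theorem N20402 : nd 20402 = n36329 := ndS (p := 18761) (l := 4) rfl N18761 D36329
theorem N20403 : nd 20403 = n36330 := ndS (p := 18761) (l := 8) rfl N18761 D36330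
theorem N20404 : nd 20404 = n36331 := ndS (p := 18762) (l := 5) rfl N18762 D36331
theorem N20405 : nd 20405 = n36332 := ndS (p := 18762) (l := 9) rfl N18762 D36332
theorem N20406 : nd 20406 = n36333 := ndS (p := 18765) (l := 9) rfl N18765 D36333
theorem N20407 : nd 20407 = n36334 := ndS (p := 18772) (l := 4) rfl N18772 D36334
theorem N20408 : nd 20408 = n36335 := ndS (p := 18773) (l := 8) rfl N18773 D36335
theorem N20409 : nd 20409 = n36336 := ndS (p := 18774) (l := 9) rfl N18774 D36336
theorem N20410 : nd 20410 = n36337 := ndS (p := 18776) (l := 5) rfl N18776 D36337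
theorem N20411 : nd 20411 = n36338 := ndS (p := 18777) (l := 6) rfl N18777 D36338
theorem N20412 : nd 20412 = n36339 := ndS (p := 18778) (l := 7) rfl N18778 D36339
theorem N20413 : nd 20413 = n36340 := ndS (p := 18779) (l := 4) rfl N18779 D36340
theorem N20414 : nd 20414 = n36341 := ndS (p := 18780) (l := 3) rfl N18780 D36341
theorem N20415 : nd 20415 = n36342 := ndS (p := 18781) (l := 4) rfl N18781 D36342
theorem N20416 : nd 20416 = n36343 := ndS (p := 18781) (l := 9) rfl N18781 D36343
theorem N20417 : nd 20417 = n36344 := ndS (p := 18783) (l := 5) rfl N18783 D36344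
theorem N20418 : nd 20418 = n36345 := ndS (p := 18784) (l := 4) rfl N18784 D36345
theorem N20419 : nd 20419 = n36346 := ndS (p := 18784) (l := 6) rfl N18784 D36346
theorem N20420 : nd 20420 = n36347 := ndS (p := 18784) (l := 9) rfl N18784 D36347
theorem N20421 : nd 20421 = n36348 := ndS (p := 18786) (l := 7) rfl N18786 D36348
theorem N20422 : nd 20422 = n36349 := ndS (p := 18786) (l := 9) rfl N18786 D36349
theorem N20423 : nd 20423 = n36350 := ndS (p := 18788) (l := 9) rfl N18788 D36350
theorem N20424 : nd 20424 = n36351 := ndS (p := 18790) (l := 3) rfl N18790 D36351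
theorem N20425 : nd 20425 = n36352 := ndS (p := 18790) (l := 9) rfl N18790 D36352
theorem N20426 : nd 20426 = n36353 := ndS (p := 18794) (l := 5) rfl N18794 D36353
theorem N20427 : nd 20427 = n36354 := ndS (p := 18794) (l := 9) rfl N18794 D36354
theorem N20428 : nd 20428 = n36355 := ndS (p := 18796) (l := 5) rfl N18796 D36355
theorem N20429 : nd 20429 = n36356 := ndS (p := 18796) (l := 9) rfl N18796 D36356
theorem N20430 : nd 20430 = n36357 := ndS (p := 18797) (l := 6) rfl N18797 D36357
theorem N20431 : nd 20431 = n36358 := ndS (p := 18797) (l := 9) rfl N18797 D36358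
theorem N20432 : nd 20432 = n36359 := ndS (p := 18799) (l := 7) rfl N18799 D36359
theorem N20433 : nd 20433 = n36360 := ndS (p := 18799) (l := 9) rfl N18799 D36360
theorem N20434 : nd 20434 = n36361 := ndS (p := 18800) (l := 8) rfl N18800 D36361
theorem N20435 : nd 20435 = n36362 := ndS (p := 18801) (l := 4) rfl N18801 D36362
theorem N20436 : nd 20436 = n36363 := ndS (p := 18801) (l := 9) rfl N18801 D36363
theorem N20437 : nd 20437 = n36364 := ndS (p := 18803) (l := 3) rfl N18803 D36364
theorem N20438 : nd 20438 = n36365 := ndS (p := 18803) (l := 9) rfl N18803 D36365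
theorem N20439 : nd 20439 = n36366 := ndS (p := 18804) (l := 8) rfl N18804 D36366
theorem N20440 : nd 20440 = n36367 := ndS (p := 18805) (l := 7) rfl N18805 D36367
theorem N20441 : nd 20441 = n36368 := ndS (p := 18805) (l := 9) rfl N18805 D36368
theorem N20442 : nd 20442 = n36369 := ndS (p := 18806) (l := 8) rfl N18806 D36369
theorem N20443 : nd 20443 = n36370 := ndS (p := 18810) (l := 6) rfl N18810 D36370
theorem N20444 : nd 20444 = n36371 := ndS (p := 18820) (l := 6) rfl N18820 D36371
theorem N20445 : nd 20445 = n36372 := ndS (p := 18824) (l := 8) rfl N18824 D36372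
theorem N20446 : nd 20446 = n36373 := ndS (p := 18827) (l := 8) rfl N18827 D36373
theorem N20447 : nd 20447 = n36374 := ndS (p := 18830) (l := 3) rfl N18830 D36374
theorem N20448 : nd 20448 = n36375 := ndS (p := 18830) (l := 9) rfl N18830 D36375
theorem N20449 : nd 20449 = n36376 := ndS (p := 18841) (l := 8) rfl N18841 D36376
theorem N20450 : nd 20450 = n36377 := ndS (p := 18859) (l := 7) rfl N18859 D36377
theorem N20451 : nd 20451 = n36378 := ndS (p := 18860) (l := 6) rfl N18860 D36378
theorem N20452 : nd 20452 = n36379 := ndS (p := 18862) (l := 5) rfl N18862 D36379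
theorem N20453 : nd 20453 = n36380 := ndS (p := 18862) (l := 8) rfl N18862 D36380
theorem N20454 : nd 20454 = n36381 := ndS (p := 18863) (l := 5) rfl N18863 D36381
theorem N20455 : nd 20455 = n36382 := ndS (p := 18863) (l := 9) rfl N18863 D36382
theorem N20456 : nd 20456 = n36383 := ndS (p := 18864) (l := 6) rfl N18864 D36383
theorem N20457 : nd 20457 = n36384 := ndS (p := 18864) (l := 9) rfl N18864 D36384
theorem N20458 : nd 20458 = n36385 := ndS (p := 18866) (l := 9) rfl N18866 D36385
theorem N20459 : nd 20459 = n36386 := ndS (p := 18869) (l := 6) rfl N18869 D36386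
theorem N20460 : nd 20460 = n36387 := ndS (p := 18869) (l := 9) rfl N18869 D36387
theorem N20461 : nd 20461 = n36388 := ndS (p := 18871) (l := 7) rfl N18871 D36388
theorem N20462 : nd 20462 = n36389 := ndS (p := 18872) (l := 8) rfl N18872 D36389
theorem N20463 : nd 20463 = n36390 := ndS (p := 18873) (l := 7) rfl N18873 D36390
theorem N20464 : nd 20464 = n36391 := ndS (p := 18873) (l := 9) rfl N18873 D36391
theorem N20465 : nd 20465 = n36392 := ndS (p := 18874) (l := 8) rfl N18874 D36392
theorem N20466 : nd 20466 = n36393 := ndS (p := 18878) (l := 6) rfl N18878 D36393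
theorem N20467 : nd 20467 = n36394 := ndS (p := 18879) (l := 5) rfl N18879 D36394
theorem N20468 : nd 20468 = n36395 := ndS (p := 18882) (l := 5) rfl N18882 D36395
theorem N20469 : nd 20469 = n36396 := ndS (p := 18884) (l := 4) rfl N18884 D36396
theorem N20470 : nd 20470 = n36397 := ndS (p := 18884) (l := 7) rfl N18884 D36397
theorem N20471 : nd 20471 = n36398 := ndS (p := 18886) (l := 3) rfl N18886 D36398
theorem N20472 : nd 20472 = n36399 := ndS (p := 18886) (l := 7) rfl N18886 D36399
theorem N20473 : nd 20473 = n36400 := ndS (p := 18886) (l := 8) rfl N18886 D36400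
theorem N20474 : nd 20474 = n36401 := ndS (p := 18887) (l := 6) rfl N18887 D36401
theorem N20475 : nd 20475 = n36402 := ndS (p := 18887) (l := 8) rfl N18887 D36402
theorem N20476 : nd 20476 = n36403 := ndS (p := 18889) (l := 6) rfl N18889 D36403
theorem N20477 : nd 20477 = n36404 := ndS (p := 18889) (l := 8) rfl N18889 D36404
theorem N20478 : nd 20478 = n36405 := ndS (p := 18890) (l := 9) rfl N18890 D36405
theorem N20479 : nd 20479 = n36406 := ndS (p := 18891) (l := 8) rfl N18891 D36406
theorem N20480 : nd 20480 = n36407 := ndS (p := 18892) (l := 9) rfl N18892 D36407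
theorem N20481 : nd 20481 = n36408 := ndS (p := 18894) (l := 5) rfl N18894 D36408
theorem N20482 : nd 20482 = n36409 := ndS (p := 18894) (l := 9) rfl N18894 D36409
theorem N20483 : nd 20483 = n36410 := ndS (p := 18897) (l := 5) rfl N18897 D36410
theorem N20484 : nd 20484 = n36411 := ndS (p := 18897) (l := 9) rfl N18897 D36411
theorem N20485 : nd 20485 = n36412 := ndS (p := 18899) (l := 9) rfl N18899 D36412
theorem N20486 : nd 20486 = n36413 := ndS (p := 18901) (l := 7) rfl N18901 D36413
theorem N20487 : nd 20487 = n36414 := ndS (p := 18902) (l := 6) rfl N18902 D36414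
theorem N20488 : nd 20488 = n36415 := ndS (p := 18902) (l := 8) rfl N18902 D36415
theorem N20489 : nd 20489 = n36416 := ndS (p := 18904) (l := 8) rfl N18904 D36416
theorem N20490 : nd 20490 = n36417 := ndS (p := 18906) (l := 5) rfl N18906 D36417
theorem N20491 : nd 20491 = n36418 := ndS (p := 18906) (l := 8) rfl N18906 D36418
theorem N20492 : nd 20492 = n36419 := ndS (p := 18907) (l := 5) rfl N18907 D36419
theorem N20493 : nd 20493 = n36420 := ndS (p := 18907) (l := 9) rfl N18907 D36420
theorem N20494 : nd 20494 = n36421 := ndS (p := 18908) (l := 6) rfl N18908 D36421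
theorem N20495 : nd 20495 = n36422 := ndS (p := 18910) (l := 5) rfl N18910 D36422
theorem N20496 : nd 20496 = n36423 := ndS (p := 18910) (l := 9) rfl N18910 D36423
theorem N20497 : nd 20497 = n36424 := ndS (p := 18912) (l := 9) rfl N18912 D36424
theorem N20498 : nd 20498 = n36425 := ndS (p := 18915) (l := 5) rfl N18915 D36425
theorem N20499 : nd 20499 = n36426 := ndS (p := 18916) (l := 5) rfl N18916 D36426
theorem N20500 : nd 20500 = n36427 := ndS (p := 18917) (l := 6) rfl N18917 D36427
theorem N20501 : nd 20501 = n36428 := ndS (p := 18918) (l := 7) rfl N18918 D36428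
theorem N20502 : nd 20502 = n36429 := ndS (p := 18919) (l := 4) rfl N18919 D36429
theorem N20503 : nd 20503 = n36430 := ndS (p := 18919) (l := 9) rfl N18919 D36430
theorem N20504 : nd 20504 = n36431 := ndS (p := 18922) (l := 6) rfl N18922 D36431
theorem N20505 : nd 20505 = n36432 := ndS (p := 18923) (l := 7) rfl N18923 D36432
theorem N20506 : nd 20506 = n36433 := ndS (p := 18923) (l := 9) rfl N18923 D36433
theorem N20507 : nd 20507 = n36434 := ndS (p := 18926) (l := 3) rfl N18926 D36434
theorem N20508 : nd 20508 = n36435 := ndS (p := 18926) (l := 7) rfl N18926 D36435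
theorem N20509 : nd 20509 = n36436 := ndS (p := 18926) (l := 8) rfl N18926 D36436
theorem N20510 : nd 20510 = n36437 := ndS (p := 18927) (l := 6) rfl N18927 D36437
theorem N20511 : nd 20511 = n36438 := ndS (p := 18927) (l := 8) rfl N18927 D36438
theorem N20512 : nd 20512 = n36439 := ndS (p := 18928) (l := 9) rfl N18928 D36439
theorem N20513 : nd 20513 = n36440 := ndS (p := 18929) (l := 6) rfl N18929 D36440
theorem N20514 : nd 20514 = n36441 := ndS (p := 18929) (l := 8) rfl N18929 D36441
theorem N20515 : nd 20515 = n36442 := ndS (p := 18930) (l := 5) rfl N18930 D36442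
theorem N20516 : nd 20516 = n36443 := ndS (p := 18930) (l := 9) rfl N18930 D36443
theorem N20517 : nd 20517 = n36444 := ndS (p := 18931) (l := 8) rfl N18931 D36444
theorem N20518 : nd 20518 = n36445 := ndS (p := 18932) (l := 9) rfl N18932 D36445
theorem N20519 : nd 20519 = n36446 := ndS (p := 18934) (l := 5) rfl N18934 D36446
theorem N20520 : nd 20520 = n36447 := ndS (p := 18934) (l := 9) rfl N18934 D36447
theorem N20521 : nd 20521 = n36448 := ndS (p := 18936) (l := 7) rfl N18936 D36448
theorem N20522 : nd 20522 = n36449 := ndS (p := 18937) (l := 6) rfl N18937 D36449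
theorem N20523 : nd 20523 = n36450 := ndS (p := 18937) (l := 8) rfl N18937 D36450
theorem N20524 : nd 20524 = n36451 := ndS (p := 18938) (l := 5) rfl N18938 D36451
theorem N20525 : nd 20525 = n36452 := ndS (p := 18939) (l := 8) rfl N18939 D36452
theorem N20526 : nd 20526 = n36453 := ndS (p := 18941) (l := 5) rfl N18941 D36453
theorem N20527 : nd 20527 = n36454 := ndS (p := 18941) (l := 8) rfl N18941 D36454
theorem N20528 : nd 20528 = n36455 := ndS (p := 18942) (l := 5) rfl N18942 D36455
theorem N20529 : nd 20529 = n36456 := ndS (p := 18942) (l := 9) rfl N18942 D36456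
theorem N20530 : nd 20530 = n36457 := ndS (p := 18943) (l := 6) rfl N18943 D36457
theorem N20531 : nd 20531 = n36458 := ndS (p := 18943) (l := 9) rfl N18943 D36458
theorem N20532 : nd 20532 = n36459 := ndS (p := 18945) (l := 5) rfl N18945 D36459
theorem N20533 : nd 20533 = n36460 := ndS (p := 18945) (l := 9) rfl N18945 D36460
theorem N20534 : nd 20534 = n36461 := ndS (p := 18947) (l := 9) rfl N18947 D36461
theorem N20535 : nd 20535 = n36462 := ndS (p := 18949) (l := 6) rfl N18949 D36462
theorem N20536 : nd 20536 = n36463 := ndS (p := 18949) (l := 8) rfl N18949 D36463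
theorem N20537 : nd 20537 = n36464 := ndS (p := 18950) (l := 5) rfl N18950 D36464
theorem N20538 : nd 20538 = n36465 := ndS (p := 18951) (l := 5) rfl N18951 D36465
theorem N20539 : nd 20539 = n36466 := ndS (p := 18951) (l := 8) rfl N18951 D36466
theorem N20540 : nd 20540 = n36467 := ndS (p := 18952) (l := 5) rfl N18952 D36467
theorem N20541 : nd 20541 = n36468 := ndS (p := 18953) (l := 6) rfl N18953 D36468
theorem N20542 : nd 20542 = n36469 := ndS (p := 18954) (l := 5) rfl N18954 D36469
theorem N20543 : nd 20543 = n36470 := ndS (p := 18955) (l := 8) rfl N18955 D36470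
theorem N20544 : nd 20544 = n36471 := ndS (p := 18956) (l := 5) rfl N18956 D36471
theorem N20545 : nd 20545 = n36472 := ndS (p := 18956) (l := 9) rfl N18956 D36472
theorem N20546 : nd 20546 = n36473 := ndS (p := 18957) (l := 6) rfl N18957 D36473
theorem N20547 : nd 20547 = n36474 := ndS (p := 18957) (l := 9) rfl N18957 D36474
theorem N20548 : nd 20548 = n36475 := ndS (p := 18959) (l := 7) rfl N18959 D36475
theorem N20549 : nd 20549 = n36476 := ndS (p := 18959) (l := 9) rfl N18959 D36476
theorem N20550 : nd 20550 = n36477 := ndS (p := 18961) (l := 4) rfl N18961 D36477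
theorem N20551 : nd 20551 = n36478 := ndS (p := 18961) (l := 9) rfl N18961 D36478
theorem N20552 : nd 20552 = n36479 := ndS (p := 18963) (l := 3) rfl N18963 D36479
theorem N20553 : nd 20553 = n36480 := ndS (p := 18963) (l := 9) rfl N18963 D36480
theorem N20554 : nd 20554 = n36481 := ndS (p := 18964) (l := 8) rfl N18964 D36481
theorem N20555 : nd 20555 = n36482 := ndS (p := 18965) (l := 8) rfl N18965 D36482
theorem N20556 : nd 20556 = n36483 := ndS (p := 18966) (l := 5) rfl N18966 D36483
theorem N20557 : nd 20557 = n36484 := ndS (p := 18967) (l := 6) rfl N18967 D36484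
theorem N20558 : nd 20558 = n36485 := ndS (p := 18968) (l := 7) rfl N18968 D36485
theorem N20559 : nd 20559 = n36486 := ndS (p := 18969) (l := 4) rfl N18969 D36486
theorem N20560 : nd 20560 = n36487 := ndS (p := 18970) (l := 5) rfl N18970 D36487
theorem N20561 : nd 20561 = n36488 := ndS (p := 18971) (l := 4) rfl N18971 D36488
theorem N20562 : nd 20562 = n36489 := ndS (p := 18971) (l := 6) rfl N18971 D36489
theorem N20563 : nd 20563 = n36490 := ndS (p := 18971) (l := 9) rfl N18971 D36490
theorem N20564 : nd 20564 = n36491 := ndS (p := 18973) (l := 7) rfl N18973 D36491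
theorem N20565 : nd 20565 = n36492 := ndS (p := 18973) (l := 9) rfl N18973 D36492
theorem N20566 : nd 20566 = n36493 := ndS (p := 18975) (l := 9) rfl N18975 D36493
theorem N20567 : nd 20567 = n36494 := ndS (p := 18977) (l := 3) rfl N18977 D36494
theorem N20568 : nd 20568 = n36495 := ndS (p := 18977) (l := 9) rfl N18977 D36495
theorem N20569 : nd 20569 = n36496 := ndS (p := 18979) (l := 2) rfl N18979 D36496
theorem N20570 : nd 20570 = n36497 := ndS (p := 18979) (l := 9) rfl N18979 D36497
theorem N20571 : nd 20571 = n36498 := ndS (p := 18982) (l := 4) rfl N18982 D36498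
theorem N20572 : nd 20572 = n36499 := ndS (p := 18982) (l := 6) rfl N18982 D36499
theorem N20573 : nd 20573 = n36500 := ndS (p := 18983) (l := 3) rfl N18983 D36500
theorem N20574 : nd 20574 = n36501 := ndS (p := 18983) (l := 6) rfl N18983 D36501
theorem N20575 : nd 20575 = n36502 := ndS (p := 18983) (l := 9) rfl N18983 D36502
theorem N20576 : nd 20576 = n36503 := ndS (p := 18984) (l := 7) rfl N18984 D36503
theorem N20577 : nd 20577 = n36504 := ndS (p := 18984) (l := 9) rfl N18984 D36504
theorem N20578 : nd 20578 = n36505 := ndS (p := 18986) (l := 9) rfl N18986 D36505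
theorem N20579 : nd 20579 = n36506 := ndS (p := 18987) (l := 8) rfl N18987 D36506
theorem N20580 : nd 20580 = n36507 := ndS (p := 18990) (l := 2) rfl N18990 D36507
theorem N20581 : nd 20581 = n36508 := ndS (p := 18990) (l := 9) rfl N18990 D36508
theorem N20582 : nd 20582 = n36509 := ndS (p := 18991) (l := 8) rfl N18991 D36509
theorem N20583 : nd 20583 = n36510 := ndS (p := 18995) (l := 6) rfl N18995 D36510
theorem N20584 : nd 20584 = n36511 := ndS (p := 18996) (l := 5) rfl N18996 D36511
theorem N20585 : nd 20585 = n36512 := ndS (p := 18997) (l := 5) rfl N18997 D36512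
theorem N20586 : nd 20586 = n36513 := ndS (p := 18998) (l := 8) rfl N18998 D36513
theorem N20587 : nd 20587 = n36514 := ndS (p := 18999) (l := 4) rfl N18999 D36514
theorem N20588 : nd 20588 = n36515 := ndS (p := 19001) (l := 5) rfl N19001 D36515
theorem N20589 : nd 20589 = n36516 := ndS (p := 19001) (l := 8) rfl N19001 D36516
theorem N20590 : nd 20590 = n36517 := ndS (p := 19003) (l := 8) rfl N19003 D36517
theorem N20591 : nd 20591 = n36518 := ndS (p := 19004) (l := 5) rfl N19004 D36518
theorem N20592 : nd 20592 = n36519 := ndS (p := 19005) (l := 4) rfl N19005 D36519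
theorem N20593 : nd 20593 = n36520 := ndS (p := 19006) (l := 5) rfl N19006 D36520
theorem N20594 : nd 20594 = n36521 := ndS (p := 19006) (l := 9) rfl N19006 D36521
theorem N20595 : nd 20595 = n36522 := ndS (p := 19007) (l := 4) rfl N19007 D36522
theorem N20596 : nd 20596 = n36523 := ndS (p := 19009) (l := 2) rfl N19009 D36523
theorem N20597 : nd 20597 = n36524 := ndS (p := 19012) (l := 3) rfl N19012 D36524
theorem N20598 : nd 20598 = n36525 := ndS (p := 19013) (l := 2) rfl N19013 D36525
theorem N20599 : nd 20599 = n36526 := ndS (p := 19015) (l := 4) rfl N19015 D36526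
theorem N20600 : nd 20600 = n36527 := ndS (p := 19015) (l := 8) rfl N19015 D36527
theorem N20601 : nd 20601 = n36528 := ndS (p := 19019) (l := 4) rfl N19019 D36528
theorem N20602 : nd 20602 = n36529 := ndS (p := 19019) (l := 7) rfl N19019 D36529
theorem N20603 : nd 20603 = n36530 := ndS (p := 19021) (l := 3) rfl N19021 D36530
theorem N20604 : nd 20604 = n36531 := ndS (p := 19021) (l := 7) rfl N19021 D36531
theorem N20605 : nd 20605 = n36532 := ndS (p := 19022) (l := 6) rfl N19022 D36532
theorem N20606 : nd 20606 = n36533 := ndS (p := 19023) (l := 6) rfl N19023 D36533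
theorem N20607 : nd 20607 = n36534 := ndS (p := 19023) (l := 8) rfl N19023 D36534
theorem N20608 : nd 20608 = n36535 := ndS (p := 19025) (l := 8) rfl N19025 D36535
theorem N20609 : nd 20609 = n36536 := ndS (p := 19027) (l := 5) rfl N19027 D36536
theorem N20610 : nd 20610 = n36537 := ndS (p := 19028) (l := 5) rfl N19028 D36537
theorem N20611 : nd 20611 = n36538 := ndS (p := 19030) (l := 3) rfl N19030 D36538
theorem N20612 : nd 20612 = n36539 := ndS (p := 19030) (l := 7) rfl N19030 D36539
theorem N20613 : nd 20613 = n36540 := ndS (p := 19030) (l := 8) rfl N19030 D36540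
theorem N20614 : nd 20614 = n36541 := ndS (p := 19031) (l := 6) rfl N19031 D36541
theorem N20615 : nd 20615 = n36542 := ndS (p := 19031) (l := 8) rfl N19031 D36542
theorem N20616 : nd 20616 = n36543 := ndS (p := 19032) (l := 9) rfl N19032 D36543
theorem N20617 : nd 20617 = n36544 := ndS (p := 19033) (l := 6) rfl N19033 D36544
theorem N20618 : nd 20618 = n36545 := ndS (p := 19033) (l := 8) rfl N19033 D36545
theorem N20619 : nd 20619 = n36546 := ndS (p := 19034) (l := 5) rfl N19034 D36546
theorem N20620 : nd 20620 = n36547 := ndS (p := 19034) (l := 9) rfl N19034 D36547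
theorem N20621 : nd 20621 = n36548 := ndS (p := 19035) (l := 8) rfl N19035 D36548
theorem N20622 : nd 20622 = n36549 := ndS (p := 19036) (l := 9) rfl N19036 D36549
theorem N20623 : nd 20623 = n36550 := ndS (p := 19038) (l := 5) rfl N19038 D36550
theorem N20624 : nd 20624 = n36551 := ndS (p := 19038) (l := 9) rfl N19038 D36551
theorem N20625 : nd 20625 = n36552 := ndS (p := 19040) (l := 7) rfl N19040 D36552
theorem N20626 : nd 20626 = n36553 := ndS (p := 19040) (l := 8) rfl N19040 D36553
theorem N20627 : nd 20627 = n36554 := ndS (p := 19041) (l := 6) rfl N19041 D36554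
theorem N20628 : nd 20628 = n36555 := ndS (p := 19041) (l := 8) rfl N19041 D36555
theorem N20629 : nd 20629 = n36556 := ndS (p := 19042) (l := 9) rfl N19042 D36556
theorem N20630 : nd 20630 = n36557 := ndS (p := 19043) (l := 8) rfl N19043 D36557
theorem N20631 : nd 20631 = n36558 := ndS (p := 19044) (l := 9) rfl N19044 D36558
theorem N20632 : nd 20632 = n36559 := ndS (p := 19046) (l := 5) rfl N19046 D36559
theorem N20633 : nd 20633 = n36560 := ndS (p := 19046) (l := 8) rfl N19046 D36560
theorem N20634 : nd 20634 = n36561 := ndS (p := 19047) (l := 5) rfl N19047 D36561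
theorem N20635 : nd 20635 = n36562 := ndS (p := 19047) (l := 9) rfl N19047 D36562
theorem N20636 : nd 20636 = n36563 := ndS (p := 19048) (l := 6) rfl N19048 D36563
theorem N20637 : nd 20637 = n36564 := ndS (p := 19050) (l := 5) rfl N19050 D36564
theorem N20638 : nd 20638 = n36565 := ndS (p := 19050) (l := 9) rfl N19050 D36565
theorem N20639 : nd 20639 = n36566 := ndS (p := 19052) (l := 4) rfl N19052 D36566
theorem N20640 : nd 20640 = n36567 := ndS (p := 19052) (l := 9) rfl N19052 D36567
theorem N20641 : nd 20641 = n36568 := ndS (p := 19054) (l := 5) rfl N19054 D36568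
theorem N20642 : nd 20642 = n36569 := ndS (p := 19054) (l := 9) rfl N19054 D36569
theorem N20643 : nd 20643 = n36570 := ndS (p := 19056) (l := 5) rfl N19056 D36570
theorem N20644 : nd 20644 = n36571 := ndS (p := 19057) (l := 6) rfl N19057 D36571
theorem N20645 : nd 20645 = n36572 := ndS (p := 19058) (l := 7) rfl N19058 D36572
theorem N20646 : nd 20646 = n36573 := ndS (p := 19059) (l := 4) rfl N19059 D36573
theorem N20647 : nd 20647 = n36574 := ndS (p := 19059) (l := 9) rfl N19059 D36574
theorem N20648 : nd 20648 = n36575 := ndS (p := 19061) (l := 3) rfl N19061 D36575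
theorem N20649 : nd 20649 = n36576 := ndS (p := 19062) (l := 8) rfl N19062 D36576
theorem N20650 : nd 20650 = n36577 := ndS (p := 19063) (l := 6) rfl N19063 D36577
theorem N20651 : nd 20651 = n36578 := ndS (p := 19064) (l := 7) rfl N19064 D36578
theorem N20652 : nd 20652 = n36579 := ndS (p := 19066) (l := 2) rfl N19066 D36579
theorem N20653 : nd 20653 = n36580 := ndS (p := 19067) (l := 3) rfl N19067 D36580
theorem N20654 : nd 20654 = n36581 := ndS (p := 19067) (l := 7) rfl N19067 D36581
theorem N20655 : nd 20655 = n36582 := ndS (p := 19067) (l := 8) rfl N19067 D36582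
theorem N20656 : nd 20656 = n36583 := ndS (p := 19068) (l := 6) rfl N19068 D36583
theorem N20657 : nd 20657 = n36584 := ndS (p := 19068) (l := 8) rfl N19068 D36584
theorem N20658 : nd 20658 = n36585 := ndS (p := 19069) (l := 9) rfl N19069 D36585
theorem N20659 : nd 20659 = n36586 := ndS (p := 19070) (l := 6) rfl N19070 D36586
theorem N20660 : nd 20660 = n36587 := ndS (p := 19070) (l := 8) rfl N19070 D36587
theorem N20661 : nd 20661 = n36588 := ndS (p := 19071) (l := 5) rfl N19071 D36588
theorem N20662 : nd 20662 = n36589 := ndS (p := 19071) (l := 9) rfl N19071 D36589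
theorem N20663 : nd 20663 = n36590 := ndS (p := 19072) (l := 8) rfl N19072 D36590
theorem N20664 : nd 20664 = n36591 := ndS (p := 19073) (l := 9) rfl N19073 D36591
theorem N20665 : nd 20665 = n36592 := ndS (p := 19075) (l := 5) rfl N19075 D36592
theorem N20666 : nd 20666 = n36593 := ndS (p := 19075) (l := 9) rfl N19075 D36593
theorem N20667 : nd 20667 = n36594 := ndS (p := 19077) (l := 7) rfl N19077 D36594
theorem N20668 : nd 20668 = n36595 := ndS (p := 19079) (l := 7) rfl N19079 D36595
theorem N20669 : nd 20669 = n36596 := ndS (p := 19080) (l := 6) rfl N19080 D36596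
theorem N20670 : nd 20670 = n36597 := ndS (p := 19081) (l := 6) rfl N19081 D36597
theorem N20671 : nd 20671 = n36598 := ndS (p := 19081) (l := 8) rfl N19081 D36598
theorem N20672 : nd 20672 = n36599 := ndS (p := 19082) (l := 5) rfl N19082 D36599
theorem N20673 : nd 20673 = n36600 := ndS (p := 19083) (l := 8) rfl N19083 D36600
theorem N20674 : nd 20674 = n36601 := ndS (p := 19085) (l := 5) rfl N19085 D36601
theorem N20675 : nd 20675 = n36602 := ndS (p := 19086) (l := 5) rfl N19086 D36602
theorem N20676 : nd 20676 = n36603 := ndS (p := 19086) (l := 7) rfl N19086 D36603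
theorem N20677 : nd 20677 = n36604 := ndS (p := 19087) (l := 4) rfl N19087 D36604
theorem N20678 : nd 20678 = n36605 := ndS (p := 19087) (l := 7) rfl N19087 D36605
theorem N20679 : nd 20679 = n36606 := ndS (p := 19087) (l := 8) rfl N19087 D36606
theorem N20680 : nd 20680 = n36607 := ndS (p := 19089) (l := 3) rfl N19089 D36607
theorem N20681 : nd 20681 = n36608 := ndS (p := 19089) (l := 7) rfl N19089 D36608
theorem N20682 : nd 20682 = n36609 := ndS (p := 19089) (l := 8) rfl N19089 D36609
theorem N20683 : nd 20683 = n36610 := ndS (p := 19090) (l := 6) rfl N19090 D36610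
theorem N20684 : nd 20684 = n36611 := ndS (p := 19090) (l := 8) rfl N19090 D36611
theorem N20685 : nd 20685 = n36612 := ndS (p := 19092) (l := 6) rfl N19092 D36612
theorem N20686 : nd 20686 = n36613 := ndS (p := 19092) (l := 8) rfl N19092 D36613
theorem N20687 : nd 20687 = n36614 := ndS (p := 19093) (l := 5) rfl N19093 D36614
theorem N20688 : nd 20688 = n36615 := ndS (p := 19093) (l := 9) rfl N19093 D36615
theorem N20689 : nd 20689 = n36616 := ndS (p := 19094) (l := 8) rfl N19094 D36616
theorem N20690 : nd 20690 = n36617 := ndS (p := 19095) (l := 9) rfl N19095 D36617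
theorem N20691 : nd 20691 = n36618 := ndS (p := 19097) (l := 5) rfl N19097 D36618
theorem N20692 : nd 20692 = n36619 := ndS (p := 19097) (l := 9) rfl N19097 D36619
theorem N20693 : nd 20693 = n36620 := ndS (p := 19099) (l := 4) rfl N19099 D36620
theorem N20694 : nd 20694 = n36621 := ndS (p := 19099) (l := 7) rfl N19099 D36621
theorem N20695 : nd 20695 = n36622 := ndS (p := 19099) (l := 8) rfl N19099 D36622
theorem N20696 : nd 20696 = n36623 := ndS (p := 19101) (l := 3) rfl N19101 D36623
theorem N20697 : nd 20697 = n36624 := ndS (p := 19101) (l := 7) rfl N19101 D36624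
theorem N20698 : nd 20698 = n36625 := ndS (p := 19101) (l := 8) rfl N19101 D36625
theorem N20699 : nd 20699 = n36626 := ndS (p := 19102) (l := 6) rfl N19102 D36626
theorem N20700 : nd 20700 = n36627 := ndS (p := 19102) (l := 8) rfl N19102 D36627
theorem N20701 : nd 20701 = n36628 := ndS (p := 19103) (l := 9) rfl N19103 D36628
theorem N20702 : nd 20702 = n36629 := ndS (p := 19104) (l := 7) rfl N19104 D36629
theorem N20703 : nd 20703 = n36630 := ndS (p := 19104) (l := 8) rfl N19104 D36630
theorem N20704 : nd 20704 = n36631 := ndS (p := 19105) (l := 6) rfl N19105 D36631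
theorem N20705 : nd 20705 = n36632 := ndS (p := 19105) (l := 8) rfl N19105 D36632
theorem N20706 : nd 20706 = n36633 := ndS (p := 19106) (l := 5) rfl N19106 D36633
theorem N20707 : nd 20707 = n36634 := ndS (p := 19106) (l := 9) rfl N19106 D36634
theorem N20708 : nd 20708 = n36635 := ndS (p := 19107) (l := 8) rfl N19107 D36635
theorem N20709 : nd 20709 = n36636 := ndS (p := 19108) (l := 9) rfl N19108 D36636
theorem N20710 : nd 20710 = n36637 := ndS (p := 19110) (l := 5) rfl N19110 D36637
theorem N20711 : nd 20711 = n36638 := ndS (p := 19110) (l := 8) rfl N19110 D36638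
theorem N20712 : nd 20712 = n36639 := ndS (p := 19111) (l := 5) rfl N19111 D36639
theorem N20713 : nd 20713 = n36640 := ndS (p := 19111) (l := 9) rfl N19111 D36640
theorem N20714 : nd 20714 = n36641 := ndS (p := 19112) (l := 6) rfl N19112 D36641
theorem N20715 : nd 20715 = n36642 := ndS (p := 19112) (l := 9) rfl N19112 D36642
theorem N20716 : nd 20716 = n36643 := ndS (p := 19114) (l := 5) rfl N19114 D36643
theorem N20717 : nd 20717 = n36644 := ndS (p := 19114) (l := 9) rfl N19114 D36644
theorem N20718 : nd 20718 = n36645 := ndS (p := 19116) (l := 4) rfl N19116 D36645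
theorem N20719 : nd 20719 = n36646 := ndS (p := 19116) (l := 9) rfl N19116 D36646
theorem N20720 : nd 20720 = n36647 := ndS (p := 19118) (l := 4) rfl N19118 D36647
theorem N20721 : nd 20721 = n36648 := ndS (p := 19118) (l := 7) rfl N19118 D36648
theorem N20722 : nd 20722 = n36649 := ndS (p := 19120) (l := 7) rfl N19120 D36649
theorem N20723 : nd 20723 = n36650 := ndS (p := 19121) (l := 6) rfl N19121 D36650
theorem N20724 : nd 20724 = n36651 := ndS (p := 19122) (l := 6) rfl N19122 D36651
theorem N20725 : nd 20725 = n36652 := ndS (p := 19122) (l := 8) rfl N19122 D36652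
theorem N20726 : nd 20726 = n36653 := ndS (p := 19124) (l := 8) rfl N19124 D36653
theorem N20727 : nd 20727 = n36654 := ndS (p := 19126) (l := 5) rfl N19126 D36654
theorem N20728 : nd 20728 = n36655 := ndS (p := 19127) (l := 7) rfl N19127 D36655
theorem N20729 : nd 20729 = n36656 := ndS (p := 19128) (l := 6) rfl N19128 D36656
theorem N20730 : nd 20730 = n36657 := ndS (p := 19128) (l := 8) rfl N19128 D36657
theorem N20731 : nd 20731 = n36658 := ndS (p := 19130) (l := 6) rfl N19130 D36658
theorem N20732 : nd 20732 = n36659 := ndS (p := 19130) (l := 8) rfl N19130 D36659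
theorem N20733 : nd 20733 = n36660 := ndS (p := 19132) (l := 8) rfl N19132 D36660
theorem N20734 : nd 20734 = n36661 := ndS (p := 19134) (l := 5) rfl N19134 D36661
theorem N20735 : nd 20735 = n36662 := ndS (p := 19135) (l := 6) rfl N19135 D36662
theorem N20736 : nd 20736 = n36663 := ndS (p := 19137) (l := 5) rfl N19137 D36663
theorem N20737 : nd 20737 = n36664 := ndS (p := 19137) (l := 8) rfl N19137 D36664
theorem N20738 : nd 20738 = n36665 := ndS (p := 19138) (l := 9) rfl N19138 D36665
theorem N20739 : nd 20739 = n36666 := ndS (p := 19140) (l := 5) rfl N19140 D36666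
theorem N20740 : nd 20740 = n36667 := ndS (p := 19140) (l := 9) rfl N19140 D36667
theorem N20741 : nd 20741 = n36668 := ndS (p := 19142) (l := 4) rfl N19142 D36668
theorem N20742 : nd 20742 = n36669 := ndS (p := 19142) (l := 9) rfl N19142 D36669
theorem N20743 : nd 20743 = n36670 := ndS (p := 19144) (l := 4) rfl N19144 D36670
theorem N20744 : nd 20744 = n36671 := ndS (p := 19144) (l := 7) rfl N19144 D36671
theorem N20745 : nd 20745 = n36672 := ndS (p := 19144) (l := 8) rfl N19144 D36672
theorem N20746 : nd 20746 = n36673 := ndS (p := 19146) (l := 3) rfl N19146 D36673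
theorem N20747 : nd 20747 = n36674 := ndS (p := 19146) (l := 7) rfl N19146 D36674
theorem N20748 : nd 20748 = n36675 := ndS (p := 19146) (l := 8) rfl N19146 D36675
theorem N20749 : nd 20749 = n36676 := ndS (p := 19147) (l := 6) rfl N19147 D36676
theorem N20750 : nd 20750 = n36677 := ndS (p := 19147) (l := 8) rfl N19147 D36677
theorem N20751 : nd 20751 = n36678 := ndS (p := 19148) (l := 9) rfl N19148 D36678
theorem N20752 : nd 20752 = n36679 := ndS (p := 19149) (l := 7) rfl N19149 D36679
theorem N20753 : nd 20753 = n36680 := ndS (p := 19149) (l := 8) rfl N19149 D36680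
theorem N20754 : nd 20754 = n36681 := ndS (p := 19150) (l := 6) rfl N19150 D36681
theorem N20755 : nd 20755 = n36682 := ndS (p := 19150) (l := 8) rfl N19150 D36682
theorem N20756 : nd 20756 = n36683 := ndS (p := 19151) (l := 5) rfl N19151 D36683
theorem N20757 : nd 20757 = n36684 := ndS (p := 19151) (l := 9) rfl N19151 D36684
theorem N20758 : nd 20758 = n36685 := ndS (p := 19152) (l := 8) rfl N19152 D36685
theorem N20759 : nd 20759 = n36686 := ndS (p := 19153) (l := 9) rfl N19153 D36686
theorem N20760 : nd 20760 = n36687 := ndS (p := 19155) (l := 5) rfl N19155 D36687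
theorem N20761 : nd 20761 = n36688 := ndS (p := 19155) (l := 8) rfl N19155 D36688
theorem N20762 : nd 20762 = n36689 := ndS (p := 19156) (l := 5) rfl N19156 D36689
theorem N20763 : nd 20763 = n36690 := ndS (p := 19156) (l := 9) rfl N19156 D36690
theorem N20764 : nd 20764 = n36691 := ndS (p := 19157) (l := 6) rfl N19157 D36691
theorem N20765 : nd 20765 = n36692 := ndS (p := 19157) (l := 9) rfl N19157 D36692
theorem N20766 : nd 20766 = n36693 := ndS (p := 19159) (l := 5) rfl N19159 D36693
theorem N20767 : nd 20767 = n36694 := ndS (p := 19159) (l := 9) rfl N19159 D36694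
theorem N20768 : nd 20768 = n36695 := ndS (p := 19161) (l := 4) rfl N19161 D36695
theorem N20769 : nd 20769 = n36696 := ndS (p := 19161) (l := 9) rfl N19161 D36696
theorem N20770 : nd 20770 = n36697 := ndS (p := 19163) (l := 3) rfl N19163 D36697
theorem N20771 : nd 20771 = n36698 := ndS (p := 19163) (l := 7) rfl N19163 D36698
theorem N20772 : nd 20772 = n36699 := ndS (p := 19163) (l := 8) rfl N19163 D36699
theorem N20773 : nd 20773 = n36700 := ndS (p := 19164) (l := 6) rfl N19164 D36700
theorem N20774 : nd 20774 = n36701 := ndS (p := 19164) (l := 8) rfl N19164 D36701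
theorem N20775 : nd 20775 = n36702 := ndS (p := 19165) (l := 9) rfl N19165 D36702
theorem N20776 : nd 20776 = n36703 := ndS (p := 19166) (l := 2) rfl N19166 D36703
theorem N20777 : nd 20777 = n36704 := ndS (p := 19166) (l := 7) rfl N19166 D36704
theorem N20778 : nd 20778 = n36705 := ndS (p := 19166) (l := 8) rfl N19166 D36705
theorem N20779 : nd 20779 = n36706 := ndS (p := 19167) (l := 6) rfl N19167 D36706
theorem N20780 : nd 20780 = n36707 := ndS (p := 19167) (l := 8) rfl N19167 D36707
theorem N20781 : nd 20781 = n36708 := ndS (p := 19168) (l := 9) rfl N19168 D36708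
theorem N20782 : nd 20782 = n36709 := ndS (p := 19169) (l := 8) rfl N19169 D36709
theorem N20783 : nd 20783 = n36710 := ndS (p := 19170) (l := 9) rfl N19170 D36710
theorem N20784 : nd 20784 = n36711 := ndS (p := 19172) (l := 6) rfl N19172 D36711
theorem N20785 : nd 20785 = n36712 := ndS (p := 19172) (l := 8) rfl N19172 D36712
theorem N20786 : nd 20786 = n36713 := ndS (p := 19173) (l := 5) rfl N19173 D36713
theorem N20787 : nd 20787 = n36714 := ndS (p := 19173) (l := 9) rfl N19173 D36714
theorem N20788 : nd 20788 = n36715 := ndS (p := 19174) (l := 5) rfl N19174 D36715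
theorem N20789 : nd 20789 = n36716 := ndS (p := 19174) (l := 8) rfl N19174 D36716
theorem N20790 : nd 20790 = n36717 := ndS (p := 19175) (l := 5) rfl N19175 D36717
theorem N20791 : nd 20791 = n36718 := ndS (p := 19175) (l := 9) rfl N19175 D36718
theorem N20792 : nd 20792 = n36719 := ndS (p := 19176) (l := 6) rfl N19176 D36719
theorem N20793 : nd 20793 = n36720 := ndS (p := 19176) (l := 9) rfl N19176 D36720
theorem N20794 : nd 20794 = n36721 := ndS (p := 19178) (l := 5) rfl N19178 D36721
theorem N20795 : nd 20795 = n36722 := ndS (p := 19178) (l := 9) rfl N19178 D36722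
theorem N20796 : nd 20796 = n36723 := ndS (p := 19180) (l := 8) rfl N19180 D36723
theorem N20797 : nd 20797 = n36724 := ndS (p := 19181) (l := 5) rfl N19181 D36724
theorem N20798 : nd 20798 = n36725 := ndS (p := 19181) (l := 9) rfl N19181 D36725
theorem N20799 : nd 20799 = n36726 := ndS (p := 19182) (l := 6) rfl N19182 D36726
theorem N20800 : nd 20800 = n36727 := ndS (p := 19182) (l := 9) rfl N19182 D36727
theorem N20801 : nd 20801 = n36728 := ndS (p := 19184) (l := 7) rfl N19184 D36728
theorem N20802 : nd 20802 = n36729 := ndS (p := 19184) (l := 9) rfl N19184 D36729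
theorem N20803 : nd 20803 = n36730 := ndS (p := 19185) (l := 8) rfl N19185 D36730
theorem N20804 : nd 20804 = n36731 := ndS (p := 19186) (l := 4) rfl N19186 D36731
theorem N20805 : nd 20805 = n36732 := ndS (p := 19186) (l := 9) rfl N19186 D36732
theorem N20806 : nd 20806 = n36733 := ndS (p := 19188) (l := 3) rfl N19188 D36733
theorem N20807 : nd 20807 = n36734 := ndS (p := 19189) (l := 8) rfl N19189 D36734
theorem N20808 : nd 20808 = n36735 := ndS (p := 19190) (l := 4) rfl N19190 D36735
theorem N20809 : nd 20809 = n36736 := ndS (p := 19190) (l := 9) rfl N19190 D36736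
theorem N20810 : nd 20810 = n36737 := ndS (p := 19192) (l := 3) rfl N19192 D36737
theorem N20811 : nd 20811 = n36738 := ndS (p := 19192) (l := 9) rfl N19192 D36738
theorem N20812 : nd 20812 = n36739 := ndS (p := 19193) (l := 8) rfl N19193 D36739
theorem N20813 : nd 20813 = n36740 := ndS (p := 19194) (l := 9) rfl N19194 D36740
theorem N20814 : nd 20814 = n36741 := ndS (p := 19196) (l := 5) rfl N19196 D36741
theorem N20815 : nd 20815 = n36742 := ndS (p := 19196) (l := 9) rfl N19196 D36742
theorem N20816 : nd 20816 = n36743 := ndS (p := 19198) (l := 5) rfl N19198 D36743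
theorem N20817 : nd 20817 = n36744 := ndS (p := 19199) (l := 6) rfl N19199 D36744
theorem N20818 : nd 20818 = n36745 := ndS (p := 19199) (l := 9) rfl N19199 D36745
theorem N20819 : nd 20819 = n36746 := ndS (p := 19201) (l := 7) rfl N19201 D36746
theorem N20820 : nd 20820 = n36747 := ndS (p := 19201) (l := 9) rfl N19201 D36747
theorem N20821 : nd 20821 = n36748 := ndS (p := 19202) (l := 8) rfl N19202 D36748
theorem N20822 : nd 20822 = n36749 := ndS (p := 19203) (l := 4) rfl N19203 D36749
theorem N20823 : nd 20823 = n36750 := ndS (p := 19203) (l := 9) rfl N19203 D36750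
theorem N20824 : nd 20824 = n36751 := ndS (p := 19205) (l := 4) rfl N19205 D36751
theorem N20825 : nd 20825 = n36752 := ndS (p := 19205) (l := 6) rfl N19205 D36752
theorem N20826 : nd 20826 = n36753 := ndS (p := 19206) (l := 7) rfl N19206 D36753
theorem N20827 : nd 20827 = n36754 := ndS (p := 19206) (l := 9) rfl N19206 D36754
theorem N20828 : nd 20828 = n36755 := ndS (p := 19207) (l := 8) rfl N19207 D36755
theorem N20829 : nd 20829 = n36756 := ndS (p := 19208) (l := 9) rfl N19208 D36756
theorem N20830 : nd 20830 = n36757 := ndS (p := 19211) (l := 3) rfl N19211 D36757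
theorem N20831 : nd 20831 = n36758 := ndS (p := 19211) (l := 9) rfl N19211 D36758
theorem N20832 : nd 20832 = n36759 := ndS (p := 19212) (l := 8) rfl N19212 D36759
theorem N20833 : nd 20833 = n36760 := ndS (p := 19215) (l := 6) rfl N19215 D36760
theorem N20834 : nd 20834 = n36761 := ndS (p := 19215) (l := 9) rfl N19215 D36761
theorem N20835 : nd 20835 = n36762 := ndS (p := 19217) (l := 7) rfl N19217 D36762
theorem N20836 : nd 20836 = n36763 := ndS (p := 19218) (l := 9) rfl N19218 D36763
theorem N20837 : nd 20837 = n36764 := ndS (p := 19219) (l := 8) rfl N19219 D36764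
theorem N20838 : nd 20838 = n36765 := ndS (p := 19224) (l := 5) rfl N19224 D36765
theorem N20839 : nd 20839 = n36766 := ndS (p := 19225) (l := 5) rfl N19225 D36766
theorem N20840 : nd 20840 = n36767 := ndS (p := 19226) (l := 4) rfl N19226 D36767
theorem N20841 : nd 20841 = n36768 := ndS (p := 19227) (l := 7) rfl N19227 D36768
theorem N20842 : nd 20842 = n36769 := ndS (p := 19229) (l := 7) rfl N19229 D36769
theorem N20843 : nd 20843 = n36770 := ndS (p := 19230) (l := 6) rfl N19230 D36770
theorem N20844 : nd 20844 = n36771 := ndS (p := 19230) (l := 8) rfl N19230 D36771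
theorem N20845 : nd 20845 = n36772 := ndS (p := 19232) (l := 7) rfl N19232 D36772
theorem N20846 : nd 20846 = n36773 := ndS (p := 19233) (l := 6) rfl N19233 D36773
theorem N20847 : nd 20847 = n36774 := ndS (p := 19234) (l := 8) rfl N19234 D36774
theorem N20848 : nd 20848 = n36775 := ndS (p := 19236) (l := 5) rfl N19236 D36775
theorem N20849 : nd 20849 = n36776 := ndS (p := 19237) (l := 5) rfl N19237 D36776
theorem N20850 : nd 20850 = n36777 := ndS (p := 19238) (l := 9) rfl N19238 D36777
theorem N20851 : nd 20851 = n36778 := ndS (p := 19240) (l := 7) rfl N19240 D36778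
theorem N20852 : nd 20852 = n36779 := ndS (p := 19241) (l := 6) rfl N19241 D36779
theorem N20853 : nd 20853 = n36780 := ndS (p := 19241) (l := 8) rfl N19241 D36780
theorem N20854 : nd 20854 = n36781 := ndS (p := 19243) (l := 2) rfl N19243 D36781
theorem N20855 : nd 20855 = n36782 := ndS (p := 19243) (l := 7) rfl N19243 D36782
theorem N20856 : nd 20856 = n36783 := ndS (p := 19244) (l := 6) rfl N19244 D36783
theorem N20857 : nd 20857 = n36784 := ndS (p := 19244) (l := 8) rfl N19244 D36784
theorem N20858 : nd 20858 = n36785 := ndS (p := 19246) (l := 8) rfl N19246 D36785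
theorem N20859 : nd 20859 = n36786 := ndS (p := 19247) (l := 9) rfl N19247 D36786
theorem N20860 : nd 20860 = n36787 := ndS (p := 19249) (l := 6) rfl N19249 D36787
theorem N20861 : nd 20861 = n36788 := ndS (p := 19249) (l := 8) rfl N19249 D36788
theorem N20862 : nd 20862 = n36789 := ndS (p := 19251) (l := 5) rfl N19251 D36789
theorem N20863 : nd 20863 = n36790 := ndS (p := 19251) (l := 8) rfl N19251 D36790
theorem N20864 : nd 20864 = n36791 := ndS (p := 19253) (l := 5) rfl N19253 D36791
theorem N20865 : nd 20865 = n36792 := ndS (p := 19253) (l := 9) rfl N19253 D36792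
theorem N20866 : nd 20866 = n36793 := ndS (p := 19255) (l := 8) rfl N19255 D36793
theorem N20867 : nd 20867 = n36794 := ndS (p := 19257) (l := 4) rfl N19257 D36794
theorem N20868 : nd 20868 = n36795 := ndS (p := 19257) (l := 9) rfl N19257 D36795
theorem N20869 : nd 20869 = n36796 := ndS (p := 19261) (l := 6) rfl N19261 D36796
theorem N20870 : nd 20870 = n36797 := ndS (p := 19263) (l := 5) rfl N19263 D36797
theorem N20871 : nd 20871 = n36798 := ndS (p := 19264) (l := 4) rfl N19264 D36798
theorem N20872 : nd 20872 = n36799 := ndS (p := 19265) (l := 8) rfl N19265 D36799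
theorem N20873 : nd 20873 = n36800 := ndS (p := 19268) (l := 5) rfl N19268 D36800
theorem N20874 : nd 20874 = n36801 := ndS (p := 19272) (l := 3) rfl N19272 D36801
theorem N20875 : nd 20875 = n36802 := ndS (p := 19272) (l := 9) rfl N19272 D36802
theorem N20876 : nd 20876 = n36803 := ndS (p := 19274) (l := 6) rfl N19274 D36803
theorem N20877 : nd 20877 = n36804 := ndS (p := 19275) (l := 7) rfl N19275 D36804
theorem N20878 : nd 20878 = n36805 := ndS (p := 19276) (l := 6) rfl N19276 D36805
theorem N20879 : nd 20879 = n36806 := ndS (p := 19277) (l := 8) rfl N19277 D36806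
theorem N20880 : nd 20880 = n36807 := ndS (p := 19279) (l := 6) rfl N19279 D36807
theorem N20881 : nd 20881 = n36808 := ndS (p := 19279) (l := 8) rfl N19279 D36808
theorem N20882 : nd 20882 = n36809 := ndS (p := 19281) (l := 5) rfl N19281 D36809
theorem N20883 : nd 20883 = n36810 := ndS (p := 19281) (l := 8) rfl N19281 D36810
theorem N20884 : nd 20884 = n36811 := ndS (p := 19283) (l := 5) rfl N19283 D36811
theorem N20885 : nd 20885 = n36812 := ndS (p := 19283) (l := 9) rfl N19283 D36812
theorem N20886 : nd 20886 = n36813 := ndS (p := 19287) (l := 4) rfl N19287 D36813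
theorem N20887 : nd 20887 = n36814 := ndS (p := 19287) (l := 9) rfl N19287 D36814
theorem N20888 : nd 20888 = n36815 := ndS (p := 19289) (l := 9) rfl N19289 D36815
theorem N20889 : nd 20889 = n36816 := ndS (p := 19290) (l := 8) rfl N19290 D36816
theorem N20890 : nd 20890 = n36817 := ndS (p := 19291) (l := 2) rfl N19291 D36817
theorem N20891 : nd 20891 = n36818 := ndS (p := 19291) (l := 7) rfl N19291 D36818
theorem N20892 : nd 20892 = n36819 := ndS (p := 19292) (l := 6) rfl N19292 D36819
theorem N20893 : nd 20893 = n36820 := ndS (p := 19293) (l := 8) rfl N19293 D36820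
theorem N20894 : nd 20894 = n36821 := ndS (p := 19295) (l := 7) rfl N19295 D36821
theorem N20895 : nd 20895 = n36822 := ndS (p := 19295) (l := 8) rfl N19295 D36822
theorem N20896 : nd 20896 = n36823 := ndS (p := 19296) (l := 6) rfl N19296 D36823
theorem N20897 : nd 20897 = n36824 := ndS (p := 19296) (l := 8) rfl N19296 D36824
theorem N20898 : nd 20898 = n36825 := ndS (p := 19298) (l := 8) rfl N19298 D36825
theorem N20899 : nd 20899 = n36826 := ndS (p := 19300) (l := 9) rfl N19300 D36826
theorem N20900 : nd 20900 = n36827 := ndS (p := 19302) (l := 5) rfl N19302 D36827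
theorem N20901 : nd 20901 = n36828 := ndS (p := 19302) (l := 8) rfl N19302 D36828
theorem N20902 : nd 20902 = n36829 := ndS (p := 19303) (l := 9) rfl N19303 D36829
theorem N20903 : nd 20903 = n36830 := ndS (p := 19305) (l := 8) rfl N19305 D36830
theorem N20904 : nd 20904 = n36831 := ndS (p := 19306) (l := 5) rfl N19306 D36831
theorem N20905 : nd 20905 = n36832 := ndS (p := 19306) (l := 9) rfl N19306 D36832
theorem N20906 : nd 20906 = n36833 := ndS (p := 19308) (l := 9) rfl N19308 D36833
theorem N20907 : nd 20907 = n36834 := ndS (p := 19311) (l := 9) rfl N19311 D36834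
theorem N20908 : nd 20908 = n36835 := ndS (p := 19320) (l := 7) rfl N19320 D36835
theorem N20909 : nd 20909 = n36836 := ndS (p := 19325) (l := 5) rfl N19325 D36836
theorem N20910 : nd 20910 = n36837 := ndS (p := 19328) (l := 7) rfl N19328 D36837
theorem N20911 : nd 20911 = n36838 := ndS (p := 19331) (l := 4) rfl N19331 D36838
theorem N20912 : nd 20912 = n36839 := ndS (p := 19331) (l := 8) rfl N19331 D36839
theorem N20913 : nd 20913 = n36840 := ndS (p := 19333) (l := 4) rfl N19333 D36840
theorem N20914 : nd 20914 = n36841 := ndS (p := 19333) (l := 7) rfl N19333 D36841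
theorem N20915 : nd 20915 = n36842 := ndS (p := 19335) (l := 3) rfl N19335 D36842
theorem N20916 : nd 20916 = n36843 := ndS (p := 19335) (l := 7) rfl N19335 D36843
theorem N20917 : nd 20917 = n36844 := ndS (p := 19335) (l := 8) rfl N19335 D36844
theorem N20918 : nd 20918 = n36845 := ndS (p := 19336) (l := 6) rfl N19336 D36845
theorem N20919 : nd 20919 = n36846 := ndS (p := 19336) (l := 8) rfl N19336 D36846
theorem N20920 : nd 20920 = n36847 := ndS (p := 19338) (l := 6) rfl N19338 D36847
theorem N20921 : nd 20921 = n36848 := ndS (p := 19338) (l := 8) rfl N19338 D36848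
theorem N20922 : nd 20922 = n36849 := ndS (p := 19340) (l := 8) rfl N19340 D36849
theorem N20923 : nd 20923 = n36850 := ndS (p := 19343) (l := 4) rfl N19343 D36850
theorem N20924 : nd 20924 = n36851 := ndS (p := 19343) (l := 7) rfl N19343 D36851
theorem N20925 : nd 20925 = n36852 := ndS (p := 19345) (l := 3) rfl N19345 D36852
theorem N20926 : nd 20926 = n36853 := ndS (p := 19345) (l := 7) rfl N19345 D36853
theorem N20927 : nd 20927 = n36854 := ndS (p := 19345) (l := 8) rfl N19345 D36854
theorem N20928 : nd 20928 = n36855 := ndS (p := 19346) (l := 6) rfl N19346 D36855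
theorem N20929 : nd 20929 = n36856 := ndS (p := 19346) (l := 8) rfl N19346 D36856
theorem N20930 : nd 20930 = n36857 := ndS (p := 19348) (l := 6) rfl N19348 D36857
theorem N20931 : nd 20931 = n36858 := ndS (p := 19348) (l := 8) rfl N19348 D36858
theorem N20932 : nd 20932 = n36859 := ndS (p := 19349) (l := 5) rfl N19349 D36859
theorem N20933 : nd 20933 = n36860 := ndS (p := 19349) (l := 9) rfl N19349 D36860
theorem N20934 : nd 20934 = n36861 := ndS (p := 19350) (l := 8) rfl N19350 D36861
theorem N20935 : nd 20935 = n36862 := ndS (p := 19351) (l := 9) rfl N19351 D36862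
theorem N20936 : nd 20936 = n36863 := ndS (p := 19353) (l := 9) rfl N19353 D36863
theorem N20937 : nd 20937 = n36864 := ndS (p := 19355) (l := 4) rfl N19355 D36864
theorem N20938 : nd 20938 = n36865 := ndS (p := 19355) (l := 7) rfl N19355 D36865
theorem N20939 : nd 20939 = n36866 := ndS (p := 19357) (l := 3) rfl N19357 D36866
theorem N20940 : nd 20940 = n36867 := ndS (p := 19357) (l := 7) rfl N19357 D36867
theorem N20941 : nd 20941 = n36868 := ndS (p := 19357) (l := 8) rfl N19357 D36868
theorem N20942 : nd 20942 = n36869 := ndS (p := 19358) (l := 6) rfl N19358 D36869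
theorem N20943 : nd 20943 = n36870 := ndS (p := 19358) (l := 8) rfl N19358 D36870
theorem N20944 : nd 20944 = n36871 := ndS (p := 19360) (l := 6) rfl N19360 D36871
theorem N20945 : nd 20945 = n36872 := ndS (p := 19360) (l := 8) rfl N19360 D36872
theorem N20946 : nd 20946 = n36873 := ndS (p := 19361) (l := 5) rfl N19361 D36873
theorem N20947 : nd 20947 = n36874 := ndS (p := 19362) (l := 8) rfl N19362 D36874
theorem N20948 : nd 20948 = n36875 := ndS (p := 19364) (l := 5) rfl N19364 D36875
theorem N20949 : nd 20949 = n36876 := ndS (p := 19366) (l := 3) rfl N19366 D36876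
theorem N20950 : nd 20950 = n36877 := ndS (p := 19366) (l := 7) rfl N19366 D36877
theorem N20951 : nd 20951 = n36878 := ndS (p := 19367) (l := 6) rfl N19367 D36878
theorem N20952 : nd 20952 = n36879 := ndS (p := 19368) (l := 7) rfl N19368 D36879
theorem N20953 : nd 20953 = n36880 := ndS (p := 19369) (l := 6) rfl N19369 D36880
theorem N20954 : nd 20954 = n36881 := ndS (p := 19369) (l := 8) rfl N19369 D36881
theorem N20955 : nd 20955 = n36882 := ndS (p := 19371) (l := 8) rfl N19371 D36882
theorem N20956 : nd 20956 = n36883 := ndS (p := 19373) (l := 5) rfl N19373 D36883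
theorem N20957 : nd 20957 = n36884 := ndS (p := 19373) (l := 8) rfl N19373 D36884
theorem N20958 : nd 20958 = n36885 := ndS (p := 19376) (l := 5) rfl N19376 D36885
theorem N20959 : nd 20959 = n36886 := ndS (p := 19377) (l := 6) rfl N19377 D36886
theorem N20960 : nd 20960 = n36887 := ndS (p := 19380) (l := 3) rfl N19380 D36887
theorem N20961 : nd 20961 = n36888 := ndS (p := 19380) (l := 7) rfl N19380 D36888
theorem N20962 : nd 20962 = n36889 := ndS (p := 19381) (l := 6) rfl N19381 D36889
theorem N20963 : nd 20963 = n36890 := ndS (p := 19382) (l := 6) rfl N19382 D36890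
theorem N20964 : nd 20964 = n36891 := ndS (p := 19382) (l := 8) rfl N19382 D36891
theorem N20965 : nd 20965 = n36892 := ndS (p := 19384) (l := 8) rfl N19384 D36892
theorem N20966 : nd 20966 = n36893 := ndS (p := 19387) (l := 4) rfl N19387 D36893
theorem N20967 : nd 20967 = n36894 := ndS (p := 19387) (l := 7) rfl N19387 D36894
theorem N20968 : nd 20968 = n36895 := ndS (p := 19389) (l := 3) rfl N19389 D36895
theorem N20969 : nd 20969 = n36896 := ndS (p := 19389) (l := 7) rfl N19389 D36896
theorem N20970 : nd 20970 = n36897 := ndS (p := 19389) (l := 8) rfl N19389 D36897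
theorem N20971 : nd 20971 = n36898 := ndS (p := 19390) (l := 6) rfl N19390 D36898
theorem N20972 : nd 20972 = n36899 := ndS (p := 19390) (l := 8) rfl N19390 D36899
theorem N20973 : nd 20973 = n36900 := ndS (p := 19392) (l := 7) rfl N19392 D36900
theorem N20974 : nd 20974 = n36901 := ndS (p := 19392) (l := 8) rfl N19392 D36901
theorem N20975 : nd 20975 = n36902 := ndS (p := 19393) (l := 6) rfl N19393 D36902
theorem N20976 : nd 20976 = n36903 := ndS (p := 19393) (l := 8) rfl N19393 D36903
theorem N20977 : nd 20977 = n36904 := ndS (p := 19394) (l := 5) rfl N19394 D36904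
theorem N20978 : nd 20978 = n36905 := ndS (p := 19394) (l := 9) rfl N19394 D36905
theorem N20979 : nd 20979 = n36906 := ndS (p := 19395) (l := 8) rfl N19395 D36906
theorem N20980 : nd 20980 = n36907 := ndS (p := 19396) (l := 9) rfl N19396 D36907
theorem N20981 : nd 20981 = n36908 := ndS (p := 19398) (l := 5) rfl N19398 D36908
theorem N20982 : nd 20982 = n36909 := ndS (p := 19398) (l := 8) rfl N19398 D36909
theorem N20983 : nd 20983 = n36910 := ndS (p := 19399) (l := 5) rfl N19399 D36910
theorem N20984 : nd 20984 = n36911 := ndS (p := 19399) (l := 9) rfl N19399 D36911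
theorem N20985 : nd 20985 = n36912 := ndS (p := 19400) (l := 6) rfl N19400 D36912
theorem N20986 : nd 20986 = n36913 := ndS (p := 19400) (l := 9) rfl N19400 D36913
theorem N20987 : nd 20987 = n36914 := ndS (p := 19402) (l := 5) rfl N19402 D36914
theorem N20988 : nd 20988 = n36915 := ndS (p := 19402) (l := 9) rfl N19402 D36915
theorem N20989 : nd 20989 = n36916 := ndS (p := 19406) (l := 7) rfl N19406 D36916
theorem N20990 : nd 20990 = n36917 := ndS (p := 19407) (l := 4) rfl N19407 D36917
theorem N20991 : nd 20991 = n36918 := ndS (p := 19407) (l := 7) rfl N19407 D36918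
theorem N20992 : nd 20992 = n36919 := ndS (p := 19409) (l := 3) rfl N19409 D36919
theorem N20993 : nd 20993 = n36920 := ndS (p := 19409) (l := 7) rfl N19409 D36920
theorem N20994 : nd 20994 = n36921 := ndS (p := 19410) (l := 6) rfl N19410 D36921
theorem N20995 : nd 20995 = n36922 := ndS (p := 19411) (l := 6) rfl N19411 D36922
theorem N20996 : nd 20996 = n36923 := ndS (p := 19411) (l := 8) rfl N19411 D36923
theorem N20997 : nd 20997 = n36924 := ndS (p := 19412) (l := 5) rfl N19412 D36924
theorem N20998 : nd 20998 = n36925 := ndS (p := 19412) (l := 9) rfl N19412 D36925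
theorem N20999 : nd 20999 = n36926 := ndS (p := 19413) (l := 8) rfl N19413 D36926
theorem N21000 : nd 21000 = n36927 := ndS (p := 19414) (l := 9) rfl N19414 D36927
theorem N21001 : nd 21001 = n36928 := ndS (p := 19416) (l := 5) rfl N19416 D36928
theorem N21002 : nd 21002 = n36929 := ndS (p := 19416) (l := 9) rfl N19416 D36929
theorem N21003 : nd 21003 = n36930 := ndS (p := 19418) (l := 7) rfl N19418 D36930
theorem N21004 : nd 21004 = n36931 := ndS (p := 19419) (l := 6) rfl N19419 D36931
theorem N21005 : nd 21005 = n36932 := ndS (p := 19421) (l := 5) rfl N19421 D36932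
theorem N21006 : nd 21006 = n36933 := ndS (p := 19421) (l := 8) rfl N19421 D36933
theorem N21007 : nd 21007 = n36934 := ndS (p := 19422) (l := 5) rfl N19422 D36934
theorem N21008 : nd 21008 = n36935 := ndS (p := 19422) (l := 9) rfl N19422 D36935
theorem N21009 : nd 21009 = n36936 := ndS (p := 19425) (l := 5) rfl N19425 D36936
theorem N21010 : nd 21010 = n36937 := ndS (p := 19425) (l := 9) rfl N19425 D36937
theorem N21011 : nd 21011 = n36938 := ndS (p := 19429) (l := 7) rfl N19429 D36938
theorem N21012 : nd 21012 = n36939 := ndS (p := 19429) (l := 8) rfl N19429 D36939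
theorem N21013 : nd 21013 = n36940 := ndS (p := 19430) (l := 6) rfl N19430 D36940
theorem N21014 : nd 21014 = n36941 := ndS (p := 19430) (l := 8) rfl N19430 D36941
theorem N21015 : nd 21015 = n36942 := ndS (p := 19432) (l := 8) rfl N19432 D36942
theorem N21016 : nd 21016 = n36943 := ndS (p := 19433) (l := 9) rfl N19433 D36943
theorem N21017 : nd 21017 = n36944 := ndS (p := 19435) (l := 5) rfl N19435 D36944
theorem N21018 : nd 21018 = n36945 := ndS (p := 19435) (l := 8) rfl N19435 D36945
theorem N21019 : nd 21019 = n36946 := ndS (p := 19436) (l := 5) rfl N19436 D36946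
theorem N21020 : nd 21020 = n36947 := ndS (p := 19436) (l := 9) rfl N19436 D36947
theorem N21021 : nd 21021 = n36948 := ndS (p := 19437) (l := 6) rfl N19437 D36948
theorem N21022 : nd 21022 = n36949 := ndS (p := 19439) (l := 5) rfl N19439 D36949
theorem N21023 : nd 21023 = n36950 := ndS (p := 19439) (l := 9) rfl N19439 D36950
theorem N21024 : nd 21024 = n36951 := ndS (p := 19441) (l := 4) rfl N19441 D36951
theorem N21025 : nd 21025 = n36952 := ndS (p := 19443) (l := 3) rfl N19443 D36952
theorem N21026 : nd 21026 = n36953 := ndS (p := 19443) (l := 7) rfl N19443 D36953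
theorem N21027 : nd 21027 = n36954 := ndS (p := 19444) (l := 6) rfl N19444 D36954
theorem N21028 : nd 21028 = n36955 := ndS (p := 19445) (l := 2) rfl N19445 D36955
theorem N21029 : nd 21029 = n36956 := ndS (p := 19445) (l := 7) rfl N19445 D36956
theorem N21030 : nd 21030 = n36957 := ndS (p := 19445) (l := 8) rfl N19445 D36957
theorem N21031 : nd 21031 = n36958 := ndS (p := 19446) (l := 6) rfl N19446 D36958
theorem N21032 : nd 21032 = n36959 := ndS (p := 19446) (l := 8) rfl N19446 D36959
theorem N21033 : nd 21033 = n36960 := ndS (p := 19448) (l := 8) rfl N19448 D36960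
theorem N21034 : nd 21034 = n36961 := ndS (p := 19450) (l := 6) rfl N19450 D36961
theorem N21035 : nd 21035 = n36962 := ndS (p := 19450) (l := 8) rfl N19450 D36962
theorem N21036 : nd 21036 = n36963 := ndS (p := 19452) (l := 5) rfl N19452 D36963
theorem N21037 : nd 21037 = n36964 := ndS (p := 19452) (l := 8) rfl N19452 D36964
theorem N21038 : nd 21038 = n36965 := ndS (p := 19453) (l := 5) rfl N19453 D36965
theorem N21039 : nd 21039 = n36966 := ndS (p := 19453) (l := 9) rfl N19453 D36966
theorem N21040 : nd 21040 = n36967 := ndS (p := 19456) (l := 9) rfl N19456 D36967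
theorem N21041 : nd 21041 = n36968 := ndS (p := 19458) (l := 8) rfl N19458 D36968
theorem N21042 : nd 21042 = n36969 := ndS (p := 19459) (l := 5) rfl N19459 D36969
theorem N21043 : nd 21043 = n36970 := ndS (p := 19459) (l := 9) rfl N19459 D36970
theorem N21044 : nd 21044 = n36971 := ndS (p := 19460) (l := 6) rfl N19460 D36971
theorem N21045 : nd 21045 = n36972 := ndS (p := 19462) (l := 7) rfl N19462 D36972
theorem N21046 : nd 21046 = n36973 := ndS (p := 19463) (l := 4) rfl N19463 D36973
theorem N21047 : nd 21047 = n36974 := ndS (p := 19465) (l := 6) rfl N19465 D36974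
theorem N21048 : nd 21048 = n36975 := ndS (p := 19466) (l := 4) rfl N19466 D36975
theorem N21049 : nd 21049 = n36976 := ndS (p := 19467) (l := 6) rfl N19467 D36976
theorem N21050 : nd 21050 = n36977 := ndS (p := 19468) (l := 7) rfl N19468 D36977
theorem N21051 : nd 21051 = n36978 := ndS (p := 19472) (l := 4) rfl N19472 D36978
theorem N21052 : nd 21052 = n36979 := ndS (p := 19472) (l := 7) rfl N19472 D36979
theorem N21053 : nd 21053 = n36980 := ndS (p := 19474) (l := 3) rfl N19474 D36980
theorem N21054 : nd 21054 = n36981 := ndS (p := 19474) (l := 7) rfl N19474 D36981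
theorem N21055 : nd 21055 = n36982 := ndS (p := 19474) (l := 8) rfl N19474 D36982
theorem N21056 : nd 21056 = n36983 := ndS (p := 19475) (l := 6) rfl N19475 D36983
theorem N21057 : nd 21057 = n36984 := ndS (p := 19475) (l := 8) rfl N19475 D36984
theorem N21058 : nd 21058 = n36985 := ndS (p := 19477) (l := 7) rfl N19477 D36985
theorem N21059 : nd 21059 = n36986 := ndS (p := 19477) (l := 8) rfl N19477 D36986
theorem N21060 : nd 21060 = n36987 := ndS (p := 19478) (l := 6) rfl N19478 D36987
theorem N21061 : nd 21061 = n36988 := ndS (p := 19478) (l := 8) rfl N19478 D36988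
theorem N21062 : nd 21062 = n36989 := ndS (p := 19479) (l := 9) rfl N19479 D36989
theorem N21063 : nd 21063 = n36990 := ndS (p := 19480) (l := 8) rfl N19480 D36990
theorem N21064 : nd 21064 = n36991 := ndS (p := 19481) (l := 9) rfl N19481 D36991
theorem N21065 : nd 21065 = n36992 := ndS (p := 19483) (l := 5) rfl N19483 D36992
theorem N21066 : nd 21066 = n36993 := ndS (p := 19483) (l := 8) rfl N19483 D36993
theorem N21067 : nd 21067 = n36994 := ndS (p := 19484) (l := 5) rfl N19484 D36994
theorem N21068 : nd 21068 = n36995 := ndS (p := 19484) (l := 9) rfl N19484 D36995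
theorem N21069 : nd 21069 = n36996 := ndS (p := 19485) (l := 6) rfl N19485 D36996
theorem N21070 : nd 21070 = n36997 := ndS (p := 19485) (l := 9) rfl N19485 D36997
theorem N21071 : nd 21071 = n36998 := ndS (p := 19487) (l := 5) rfl N19487 D36998
theorem N21072 : nd 21072 = n36999 := ndS (p := 19487) (l := 9) rfl N19487 D36999
theorem N21073 : nd 21073 = n37000 := ndS (p := 19489) (l := 4) rfl N19489 D37000
theorem N21074 : nd 21074 = n37001 := ndS (p := 19489) (l := 9) rfl N19489 D37001
theorem N21075 : nd 21075 = n37002 := ndS (p := 19491) (l := 6) rfl N19491 D37002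
theorem N21076 : nd 21076 = n37003 := ndS (p := 19493) (l := 5) rfl N19493 D37003
theorem N21077 : nd 21077 = n37004 := ndS (p := 19493) (l := 8) rfl N19493 D37004
theorem N21078 : nd 21078 = n37005 := ndS (p := 19496) (l := 7) rfl N19496 D37005
theorem N21079 : nd 21079 = n37006 := ndS (p := 19496) (l := 8) rfl N19496 D37006
theorem N21080 : nd 21080 = n37007 := ndS (p := 19497) (l := 6) rfl N19497 D37007
theorem N21081 : nd 21081 = n37008 := ndS (p := 19497) (l := 8) rfl N19497 D37008
theorem N21082 : nd 21082 = n37009 := ndS (p := 19498) (l := 5) rfl N19498 D37009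
theorem N21083 : nd 21083 = n37010 := ndS (p := 19498) (l := 9) rfl N19498 D37010
theorem N21084 : nd 21084 = n37011 := ndS (p := 19499) (l := 8) rfl N19499 D37011
theorem N21085 : nd 21085 = n37012 := ndS (p := 19500) (l := 9) rfl N19500 D37012
theorem N21086 : nd 21086 = n37013 := ndS (p := 19502) (l := 5) rfl N19502 D37013
theorem N21087 : nd 21087 = n37014 := ndS (p := 19502) (l := 8) rfl N19502 D37014
theorem N21088 : nd 21088 = n37015 := ndS (p := 19503) (l := 5) rfl N19503 D37015
theorem N21089 : nd 21089 = n37016 := ndS (p := 19503) (l := 9) rfl N19503 D37016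
theorem N21090 : nd 21090 = n37017 := ndS (p := 19504) (l := 6) rfl N19504 D37017
theorem N21091 : nd 21091 = n37018 := ndS (p := 19504) (l := 9) rfl N19504 D37018
theorem N21092 : nd 21092 = n37019 := ndS (p := 19506) (l := 5) rfl N19506 D37019
theorem N21093 : nd 21093 = n37020 := ndS (p := 19506) (l := 9) rfl N19506 D37020
theorem N21094 : nd 21094 = n37021 := ndS (p := 19508) (l := 4) rfl N19508 D37021
theorem N21095 : nd 21095 = n37022 := ndS (p := 19508) (l := 9) rfl N19508 D37022
theorem N21096 : nd 21096 = n37023 := ndS (p := 19510) (l := 7) rfl N19510 D37023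
theorem N21097 : nd 21097 = n37024 := ndS (p := 19512) (l := 2) rfl N19512 D37024
theorem N21098 : nd 21098 = n37025 := ndS (p := 19512) (l := 7) rfl N19512 D37025
theorem N21099 : nd 21099 = n37026 := ndS (p := 19512) (l := 8) rfl N19512 D37026
theorem N21100 : nd 21100 = n37027 := ndS (p := 19513) (l := 6) rfl N19513 D37027
theorem N21101 : nd 21101 = n37028 := ndS (p := 19513) (l := 8) rfl N19513 D37028
theorem N21102 : nd 21102 = n37029 := ndS (p := 19514) (l := 9) rfl N19514 D37029
theorem N21103 : nd 21103 = n37030 := ndS (p := 19515) (l := 8) rfl N19515 D37030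
theorem N21104 : nd 21104 = n37031 := ndS (p := 19516) (l := 9) rfl N19516 D37031
theorem N21105 : nd 21105 = n37032 := ndS (p := 19518) (l := 6) rfl N19518 D37032
theorem N21106 : nd 21106 = n37033 := ndS (p := 19518) (l := 8) rfl N19518 D37033
theorem N21107 : nd 21107 = n37034 := ndS (p := 19519) (l := 9) rfl N19519 D37034
theorem N21108 : nd 21108 = n37035 := ndS (p := 19520) (l := 5) rfl N19520 D37035
theorem N21109 : nd 21109 = n37036 := ndS (p := 19520) (l := 8) rfl N19520 D37036
theorem N21110 : nd 21110 = n37037 := ndS (p := 19521) (l := 9) rfl N19521 D37037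
theorem N21111 : nd 21111 = n37038 := ndS (p := 19523) (l := 9) rfl N19523 D37038
theorem N21112 : nd 21112 = n37039 := ndS (p := 19525) (l := 8) rfl N19525 D37039
theorem N21113 : nd 21113 = n37040 := ndS (p := 19526) (l := 5) rfl N19526 D37040
theorem N21114 : nd 21114 = n37041 := ndS (p := 19526) (l := 9) rfl N19526 D37041
theorem N21115 : nd 21115 = n37042 := ndS (p := 19527) (l := 6) rfl N19527 D37042
theorem N21116 : nd 21116 = n37043 := ndS (p := 19527) (l := 9) rfl N19527 D37043
theorem N21117 : nd 21117 = n37044 := ndS (p := 19529) (l := 7) rfl N19529 D37044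
theorem N21118 : nd 21118 = n37045 := ndS (p := 19530) (l := 8) rfl N19530 D37045
theorem N21119 : nd 21119 = n37046 := ndS (p := 19531) (l := 4) rfl N19531 D37046
theorem N21120 : nd 21120 = n37047 := ndS (p := 19533) (l := 3) rfl N19533 D37047
theorem N21121 : nd 21121 = n37048 := ndS (p := 19535) (l := 3) rfl N19535 D37048
theorem N21122 : nd 21122 = n37049 := ndS (p := 19535) (l := 7) rfl N19535 D37049
theorem N21123 : nd 21123 = n37050 := ndS (p := 19536) (l := 6) rfl N19536 D37050
theorem N21124 : nd 21124 = n37051 := ndS (p := 19537) (l := 7) rfl N19537 D37051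
theorem N21125 : nd 21125 = n37052 := ndS (p := 19538) (l := 6) rfl N19538 D37052
theorem N21126 : nd 21126 = n37053 := ndS (p := 19538) (l := 8) rfl N19538 D37053
theorem N21127 : nd 21127 = n37054 := ndS (p := 19540) (l := 8) rfl N19540 D37054
theorem N21128 : nd 21128 = n37055 := ndS (p := 19542) (l := 5) rfl N19542 D37055
theorem N21129 : nd 21129 = n37056 := ndS (p := 19542) (l := 8) rfl N19542 D37056
theorem N21130 : nd 21130 = n37057 := ndS (p := 19543) (l := 5) rfl N19543 D37057
theorem N21131 : nd 21131 = n37058 := ndS (p := 19543) (l := 9) rfl N19543 D37058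
theorem N21132 : nd 21132 = n37059 := ndS (p := 19546) (l := 5) rfl N19546 D37059
theorem N21133 : nd 21133 = n37060 := ndS (p := 19546) (l := 9) rfl N19546 D37060
theorem N21134 : nd 21134 = n37061 := ndS (p := 19548) (l := 4) rfl N19548 D37061
theorem N21135 : nd 21135 = n37062 := ndS (p := 19548) (l := 9) rfl N19548 D37062
theorem N21136 : nd 21136 = n37063 := ndS (p := 19550) (l := 6) rfl N19550 D37063
theorem N21137 : nd 21137 = n37064 := ndS (p := 19551) (l := 5) rfl N19551 D37064
theorem N21138 : nd 21138 = n37065 := ndS (p := 19552) (l := 8) rfl N19552 D37065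
theorem N21139 : nd 21139 = n37066 := ndS (p := 19553) (l := 5) rfl N19553 D37066
theorem N21140 : nd 21140 = n37067 := ndS (p := 19553) (l := 9) rfl N19553 D37067
theorem N21141 : nd 21141 = n37068 := ndS (p := 19554) (l := 6) rfl N19554 D37068
theorem N21142 : nd 21142 = n37069 := ndS (p := 19556) (l := 4) rfl N19556 D37069
theorem N21143 : nd 21143 = n37070 := ndS (p := 19558) (l := 3) rfl N19558 D37070
theorem N21144 : nd 21144 = n37071 := ndS (p := 19560) (l := 6) rfl N19560 D37071
theorem N21145 : nd 21145 = n37072 := ndS (p := 19560) (l := 8) rfl N19560 D37072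
theorem N21146 : nd 21146 = n37073 := ndS (p := 19561) (l := 9) rfl N19561 D37073
theorem N21147 : nd 21147 = n37074 := ndS (p := 19562) (l := 5) rfl N19562 D37074
theorem N21148 : nd 21148 = n37075 := ndS (p := 19562) (l := 8) rfl N19562 D37075
theorem N21149 : nd 21149 = n37076 := ndS (p := 19563) (l := 9) rfl N19563 D37076
theorem N21150 : nd 21150 = n37077 := ndS (p := 19565) (l := 5) rfl N19565 D37077
theorem N21151 : nd 21151 = n37078 := ndS (p := 19565) (l := 9) rfl N19565 D37078
theorem N21152 : nd 21152 = n37079 := ndS (p := 19567) (l := 8) rfl N19567 D37079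
theorem N21153 : nd 21153 = n37080 := ndS (p := 19568) (l := 5) rfl N19568 D37080
theorem N21154 : nd 21154 = n37081 := ndS (p := 19568) (l := 9) rfl N19568 D37081
theorem N21155 : nd 21155 = n37082 := ndS (p := 19569) (l := 6) rfl N19569 D37082
theorem N21156 : nd 21156 = n37083 := ndS (p := 19569) (l := 9) rfl N19569 D37083
theorem N21157 : nd 21157 = n37084 := ndS (p := 19571) (l := 7) rfl N19571 D37084
theorem N21158 : nd 21158 = n37085 := ndS (p := 19571) (l := 9) rfl N19571 D37085
theorem N21159 : nd 21159 = n37086 := ndS (p := 19573) (l := 4) rfl N19573 D37086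
theorem N21160 : nd 21160 = n37087 := ndS (p := 19573) (l := 9) rfl N19573 D37087
theorem N21161 : nd 21161 = n37088 := ndS (p := 19575) (l := 3) rfl N19575 D37088
theorem N21162 : nd 21162 = n37089 := ndS (p := 19578) (l := 7) rfl N19578 D37089
theorem N21163 : nd 21163 = n37090 := ndS (p := 19578) (l := 8) rfl N19578 D37090
theorem N21164 : nd 21164 = n37091 := ndS (p := 19579) (l := 6) rfl N19579 D37091
theorem N21165 : nd 21165 = n37092 := ndS (p := 19579) (l := 8) rfl N19579 D37092
theorem N21166 : nd 21166 = n37093 := ndS (p := 19580) (l := 5) rfl N19580 D37093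
theorem N21167 : nd 21167 = n37094 := ndS (p := 19580) (l := 9) rfl N19580 D37094
theorem N21168 : nd 21168 = n37095 := ndS (p := 19581) (l := 5) rfl N19581 D37095
theorem N21169 : nd 21169 = n37096 := ndS (p := 19581) (l := 8) rfl N19581 D37096
theorem N21170 : nd 21170 = n37097 := ndS (p := 19582) (l := 5) rfl N19582 D37097
theorem N21171 : nd 21171 = n37098 := ndS (p := 19582) (l := 9) rfl N19582 D37098
theorem N21172 : nd 21172 = n37099 := ndS (p := 19583) (l := 6) rfl N19583 D37099
theorem N21173 : nd 21173 = n37100 := ndS (p := 19585) (l := 9) rfl N19585 D37100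
theorem N21174 : nd 21174 = n37101 := ndS (p := 19587) (l := 5) rfl N19587 D37101
theorem N21175 : nd 21175 = n37102 := ndS (p := 19587) (l := 8) rfl N19587 D37102
theorem N21176 : nd 21176 = n37103 := ndS (p := 19588) (l := 5) rfl N19588 D37103
theorem N21177 : nd 21177 = n37104 := ndS (p := 19588) (l := 9) rfl N19588 D37104
theorem N21178 : nd 21178 = n37105 := ndS (p := 19589) (l := 6) rfl N19589 D37105
theorem N21179 : nd 21179 = n37106 := ndS (p := 19591) (l := 8) rfl N19591 D37106
theorem N21180 : nd 21180 = n37107 := ndS (p := 19592) (l := 5) rfl N19592 D37107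
theorem N21181 : nd 21181 = n37108 := ndS (p := 19592) (l := 9) rfl N19592 D37108
theorem N21182 : nd 21182 = n37109 := ndS (p := 19593) (l := 6) rfl N19593 D37109
theorem N21183 : nd 21183 = n37110 := ndS (p := 19595) (l := 7) rfl N19595 D37110
theorem N21184 : nd 21184 = n37111 := ndS (p := 19596) (l := 4) rfl N19596 D37111
theorem N21185 : nd 21185 = n37112 := ndS (p := 19598) (l := 5) rfl N19598 D37112
theorem N21186 : nd 21186 = n37113 := ndS (p := 19598) (l := 9) rfl N19598 D37113
theorem N21187 : nd 21187 = n37114 := ndS (p := 19599) (l := 4) rfl N19599 D37114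
theorem N21188 : nd 21188 = n37115 := ndS (p := 19599) (l := 6) rfl N19599 D37115
theorem N21189 : nd 21189 = n37116 := ndS (p := 19599) (l := 9) rfl N19599 D37116
theorem N21190 : nd 21190 = n37117 := ndS (p := 19601) (l := 7) rfl N19601 D37117
theorem N21191 : nd 21191 = n37118 := ndS (p := 19603) (l := 3) rfl N19603 D37118
theorem N21192 : nd 21192 = n37119 := ndS (p := 19607) (l := 3) rfl N19607 D37119
theorem N21193 : nd 21193 = n37120 := ndS (p := 19609) (l := 6) rfl N19609 D37120
theorem N21194 : nd 21194 = n37121 := ndS (p := 19610) (l := 7) rfl N19610 D37121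
theorem N21195 : nd 21195 = n37122 := ndS (p := 19612) (l := 7) rfl N19612 D37122
theorem N21196 : nd 21196 = n37123 := ndS (p := 19618) (l := 6) rfl N19618 D37123
theorem N21197 : nd 21197 = n37124 := ndS (p := 19618) (l := 8) rfl N19618 D37124
theorem N21198 : nd 21198 = n37125 := ndS (p := 19620) (l := 5) rfl N19620 D37125
theorem N21199 : nd 21199 = n37126 := ndS (p := 19620) (l := 8) rfl N19620 D37126
theorem N21200 : nd 21200 = n37127 := ndS (p := 19622) (l := 5) rfl N19622 D37127
theorem N21201 : nd 21201 = n37128 := ndS (p := 19622) (l := 9) rfl N19622 D37128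
theorem N21202 : nd 21202 = n37129 := ndS (p := 19630) (l := 7) rfl N19630 D37129
theorem N21203 : nd 21203 = n37130 := ndS (p := 19630) (l := 8) rfl N19630 D37130
theorem N21204 : nd 21204 = n37131 := ndS (p := 19631) (l := 6) rfl N19631 D37131
theorem N21205 : nd 21205 = n37132 := ndS (p := 19631) (l := 8) rfl N19631 D37132
theorem N21206 : nd 21206 = n37133 := ndS (p := 19632) (l := 9) rfl N19632 D37133
theorem N21207 : nd 21207 = n37134 := ndS (p := 19633) (l := 5) rfl N19633 D37134
theorem N21208 : nd 21208 = n37135 := ndS (p := 19633) (l := 8) rfl N19633 D37135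
theorem N21209 : nd 21209 = n37136 := ndS (p := 19634) (l := 9) rfl N19634 D37136
theorem N21210 : nd 21210 = n37137 := ndS (p := 19636) (l := 9) rfl N19636 D37137
theorem N21211 : nd 21211 = n37138 := ndS (p := 19638) (l := 5) rfl N19638 D37138
theorem N21212 : nd 21212 = n37139 := ndS (p := 19638) (l := 8) rfl N19638 D37139
theorem N21213 : nd 21213 = n37140 := ndS (p := 19639) (l := 9) rfl N19639 D37140
theorem N21214 : nd 21214 = n37141 := ndS (p := 19642) (l := 9) rfl N19642 D37141
theorem N21215 : nd 21215 = n37142 := ndS (p := 19646) (l := 7) rfl N19646 D37142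
theorem N21216 : nd 21216 = n37143 := ndS (p := 19647) (l := 6) rfl N19647 D37143
theorem N21217 : nd 21217 = n37144 := ndS (p := 19649) (l := 6) rfl N19649 D37144
theorem N21218 : nd 21218 = n37145 := ndS (p := 19650) (l := 5) rfl N19650 D37145
theorem N21219 : nd 21219 = n37146 := ndS (p := 19651) (l := 5) rfl N19651 D37146
theorem N21220 : nd 21220 = n37147 := ndS (p := 19656) (l := 5) rfl N19656 D37147
theorem N21221 : nd 21221 = n37148 := ndS (p := 19658) (l := 5) rfl N19658 D37148
theorem N21222 : nd 21222 = n37149 := ndS (p := 19658) (l := 8) rfl N19658 D37149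
theorem N21223 : nd 21223 = n37150 := ndS (p := 19659) (l := 9) rfl N19659 D37150
theorem N21224 : nd 21224 = n37151 := ndS (p := 19661) (l := 8) rfl N19661 D37151
theorem N21225 : nd 21225 = n37152 := ndS (p := 19662) (l := 9) rfl N19662 D37152
theorem N21226 : nd 21226 = n37153 := ndS (p := 19664) (l := 4) rfl N19664 D37153
theorem N21227 : nd 21227 = n37154 := ndS (p := 19664) (l := 9) rfl N19664 D37154
theorem N21228 : nd 21228 = n37155 := ndS (p := 19670) (l := 2) rfl N19670 D37155
theorem N21229 : nd 21229 = n37156 := ndS (p := 19671) (l := 6) rfl N19671 D37156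
theorem N21230 : nd 21230 = n37157 := ndS (p := 19671) (l := 8) rfl N19671 D37157
theorem N21231 : nd 21231 = n37158 := ndS (p := 19672) (l := 9) rfl N19672 D37158
theorem N21232 : nd 21232 = n37159 := ndS (p := 19673) (l := 5) rfl N19673 D37159
theorem N21233 : nd 21233 = n37160 := ndS (p := 19673) (l := 8) rfl N19673 D37160
theorem N21234 : nd 21234 = n37161 := ndS (p := 19674) (l := 9) rfl N19674 D37161
theorem N21235 : nd 21235 = n37162 := ndS (p := 19677) (l := 5) rfl N19677 D37162
theorem N21236 : nd 21236 = n37163 := ndS (p := 19677) (l := 9) rfl N19677 D37163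
theorem N21237 : nd 21237 = n37164 := ndS (p := 19680) (l := 4) rfl N19680 D37164
theorem N21238 : nd 21238 = n37165 := ndS (p := 19680) (l := 8) rfl N19680 D37165
theorem N21239 : nd 21239 = n37166 := ndS (p := 19681) (l := 5) rfl N19681 D37166
theorem N21240 : nd 21240 = n37167 := ndS (p := 19681) (l := 9) rfl N19681 D37167
theorem N21241 : nd 21241 = n37168 := ndS (p := 19684) (l := 9) rfl N19684 D37168
theorem N21242 : nd 21242 = n37169 := ndS (p := 19688) (l := 7) rfl N19688 D37169
theorem N21243 : nd 21243 = n37170 := ndS (p := 19691) (l := 6) rfl N19691 D37170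
theorem N21244 : nd 21244 = n37171 := ndS (p := 19692) (l := 5) rfl N19692 D37171
theorem N21245 : nd 21245 = n37172 := ndS (p := 19694) (l := 5) rfl N19694 D37172
theorem N21246 : nd 21246 = n37173 := ndS (p := 19695) (l := 8) rfl N19695 D37173
theorem N21247 : nd 21247 = n37174 := ndS (p := 19698) (l := 4) rfl N19698 D37174
theorem N21248 : nd 21248 = n37175 := ndS (p := 19698) (l := 8) rfl N19698 D37175
theorem N21249 : nd 21249 = n37176 := ndS (p := 19699) (l := 9) rfl N19699 D37176
theorem N21250 : nd 21250 = n37177 := ndS (p := 19701) (l := 4) rfl N19701 D37177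
theorem N21251 : nd 21251 = n37178 := ndS (p := 19701) (l := 8) rfl N19701 D37178
theorem N21252 : nd 21252 = n37179 := ndS (p := 19703) (l := 5) rfl N19703 D37179
theorem N21253 : nd 21253 = n37180 := ndS (p := 19704) (l := 4) rfl N19704 D37180
theorem N21254 : nd 21254 = n37181 := ndS (p := 19704) (l := 8) rfl N19704 D37181
theorem N21255 : nd 21255 = n37182 := ndS (p := 19705) (l := 9) rfl N19705 D37182
theorem N21256 : nd 21256 = n37183 := ndS (p := 19706) (l := 8) rfl N19706 D37183
theorem N21257 : nd 21257 = n37184 := ndS (p := 19707) (l := 9) rfl N19707 D37184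
theorem N21258 : nd 21258 = n37185 := ndS (p := 19709) (l := 5) rfl N19709 D37185
theorem N21259 : nd 21259 = n37186 := ndS (p := 19710) (l := 4) rfl N19710 D37186
theorem N21260 : nd 21260 = n37187 := ndS (p := 19711) (l := 5) rfl N19711 D37187
theorem N21261 : nd 21261 = n37188 := ndS (p := 19712) (l := 5) rfl N19712 D37188
theorem N21262 : nd 21262 = n37189 := ndS (p := 19713) (l := 6) rfl N19713 D37189
theorem N21263 : nd 21263 = n37190 := ndS (p := 19714) (l := 7) rfl N19714 D37190
theorem N21264 : nd 21264 = n37191 := ndS (p := 19715) (l := 4) rfl N19715 D37191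
theorem N21265 : nd 21265 = n37192 := ndS (p := 19716) (l := 3) rfl N19716 D37192
theorem N21266 : nd 21266 = n37193 := ndS (p := 19717) (l := 4) rfl N19717 D37193
theorem N21267 : nd 21267 = n37194 := ndS (p := 19717) (l := 9) rfl N19717 D37194
theorem N21268 : nd 21268 = n37195 := ndS (p := 19719) (l := 4) rfl N19719 D37195
theorem N21269 : nd 21269 = n37196 := ndS (p := 19719) (l := 6) rfl N19719 D37196
theorem N21270 : nd 21270 = n37197 := ndS (p := 19719) (l := 9) rfl N19719 D37197
theorem N21271 : nd 21271 = n37198 := ndS (p := 19721) (l := 7) rfl N19721 D37198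
theorem N21272 : nd 21272 = n37199 := ndS (p := 19721) (l := 9) rfl N19721 D37199
theorem N21273 : nd 21273 = n37200 := ndS (p := 19723) (l := 9) rfl N19723 D37200
theorem N21274 : nd 21274 = n37201 := ndS (p := 19725) (l := 3) rfl N19725 D37201
theorem N21275 : nd 21275 = n37202 := ndS (p := 19725) (l := 9) rfl N19725 D37202
theorem N21276 : nd 21276 = n37203 := ndS (p := 19728) (l := 3) rfl N19728 D37203
theorem N21277 : nd 21277 = n37204 := ndS (p := 19731) (l := 6) rfl N19731 D37204
theorem N21278 : nd 21278 = n37205 := ndS (p := 19732) (l := 6) rfl N19732 D37205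
theorem N21279 : nd 21279 = n37206 := ndS (p := 19733) (l := 8) rfl N19733 D37206
theorem N21280 : nd 21280 = n37207 := ndS (p := 19735) (l := 8) rfl N19735 D37207
theorem N21281 : nd 21281 = n37208 := ndS (p := 19736) (l := 5) rfl N19736 D37208
theorem N21282 : nd 21282 = n37209 := ndS (p := 19736) (l := 9) rfl N19736 D37209
theorem N21283 : nd 21283 = n37210 := ndS (p := 19739) (l := 9) rfl N19739 D37210
theorem N21284 : nd 21284 = n37211 := ndS (p := 19743) (l := 5) rfl N19743 D37211
theorem N21285 : nd 21285 = n37212 := ndS (p := 19746) (l := 6) rfl N19746 D37212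
theorem N21286 : nd 21286 = n37213 := ndS (p := 19746) (l := 9) rfl N19746 D37213
theorem N21287 : nd 21287 = n37214 := ndS (p := 19748) (l := 7) rfl N19748 D37214
theorem N21288 : nd 21288 = n37215 := ndS (p := 19751) (l := 8) rfl N19751 D37215
theorem N21289 : nd 21289 = n37216 := ndS (p := 19753) (l := 5) rfl N19753 D37216
theorem N21290 : nd 21290 = n37217 := ndS (p := 19753) (l := 9) rfl N19753 D37217
theorem N21291 : nd 21291 = n37218 := ndS (p := 19755) (l := 5) rfl N19755 D37218
theorem N21292 : nd 21292 = n37219 := ndS (p := 19755) (l := 9) rfl N19755 D37219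
theorem N21293 : nd 21293 = n37220 := ndS (p := 19756) (l := 6) rfl N19756 D37220
theorem N21294 : nd 21294 = n37221 := ndS (p := 19756) (l := 9) rfl N19756 D37221
theorem N21295 : nd 21295 = n37222 := ndS (p := 19758) (l := 7) rfl N19758 D37222
theorem N21296 : nd 21296 = n37223 := ndS (p := 19760) (l := 4) rfl N19760 D37223
theorem N21297 : nd 21297 = n37224 := ndS (p := 19760) (l := 9) rfl N19760 D37224
theorem N21298 : nd 21298 = n37225 := ndS (p := 19762) (l := 8) rfl N19762 D37225
theorem N21299 : nd 21299 = n37226 := ndS (p := 19763) (l := 4) rfl N19763 D37226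
theorem N21300 : nd 21300 = n37227 := ndS (p := 19763) (l := 6) rfl N19763 D37227
theorem N21301 : nd 21301 = n37228 := ndS (p := 19764) (l := 7) rfl N19764 D37228
theorem N21302 : nd 21302 = n37229 := ndS (p := 19764) (l := 9) rfl N19764 D37229
theorem N21303 : nd 21303 = n37230 := ndS (p := 19765) (l := 8) rfl N19765 D37230
theorem N21304 : nd 21304 = n37231 := ndS (p := 19768) (l := 3) rfl N19768 D37231
theorem N21305 : nd 21305 = n37232 := ndS (p := 19770) (l := 3) rfl N19770 D37232
theorem N21306 : nd 21306 = n37233 := ndS (p := 19774) (l := 3) rfl N19774 D37233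
theorem N21307 : nd 21307 = n37234 := ndS (p := 19774) (l := 7) rfl N19774 D37234
theorem N21308 : nd 21308 = n37235 := ndS (p := 19775) (l := 6) rfl N19775 D37235
theorem N21309 : nd 21309 = n37236 := ndS (p := 19776) (l := 7) rfl N19776 D37236
theorem N21310 : nd 21310 = n37237 := ndS (p := 19777) (l := 6) rfl N19777 D37237
theorem N21311 : nd 21311 = n37238 := ndS (p := 19777) (l := 8) rfl N19777 D37238
theorem N21312 : nd 21312 = n37239 := ndS (p := 19779) (l := 8) rfl N19779 D37239
theorem N21313 : nd 21313 = n37240 := ndS (p := 19781) (l := 5) rfl N19781 D37240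
theorem N21314 : nd 21314 = n37241 := ndS (p := 19781) (l := 8) rfl N19781 D37241
theorem N21315 : nd 21315 = n37242 := ndS (p := 19782) (l := 9) rfl N19782 D37242
theorem N21316 : nd 21316 = n37243 := ndS (p := 19784) (l := 9) rfl N19784 D37243
theorem N21317 : nd 21317 = n37244 := ndS (p := 19790) (l := 5) rfl N19790 D37244
theorem N21318 : nd 21318 = n37245 := ndS (p := 19791) (l := 5) rfl N19791 D37245
theorem N21319 : nd 21319 = n37246 := ndS (p := 19792) (l := 2) rfl N19792 D37246
theorem N21320 : nd 21320 = n37247 := ndS (p := 19792) (l := 7) rfl N19792 D37247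
theorem N21321 : nd 21321 = n37248 := ndS (p := 19793) (l := 6) rfl N19793 D37248
theorem N21322 : nd 21322 = n37249 := ndS (p := 19795) (l := 6) rfl N19795 D37249
theorem N21323 : nd 21323 = n37250 := ndS (p := 19796) (l := 5) rfl N19796 D37250
theorem N21324 : nd 21324 = n37251 := ndS (p := 19797) (l := 8) rfl N19797 D37251
theorem N21325 : nd 21325 = n37252 := ndS (p := 19798) (l := 5) rfl N19798 D37252
theorem N21326 : nd 21326 = n37253 := ndS (p := 19798) (l := 9) rfl N19798 D37253
theorem N21327 : nd 21327 = n37254 := ndS (p := 19799) (l := 6) rfl N19799 D37254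
theorem N21328 : nd 21328 = n37255 := ndS (p := 19799) (l := 9) rfl N19799 D37255
theorem N21329 : nd 21329 = n37256 := ndS (p := 19801) (l := 7) rfl N19801 D37256
theorem N21330 : nd 21330 = n37257 := ndS (p := 19804) (l := 7) rfl N19804 D37257
theorem N21331 : nd 21331 = n37258 := ndS (p := 19804) (l := 9) rfl N19804 D37258
theorem N21332 : nd 21332 = n37259 := ndS (p := 19807) (l := 9) rfl N19807 D37259
theorem N21333 : nd 21333 = n37260 := ndS (p := 19812) (l := 7) rfl N19812 D37260
theorem N21334 : nd 21334 = n37261 := ndS (p := 19813) (l := 6) rfl N19813 D37261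
theorem N21335 : nd 21335 = n37262 := ndS (p := 19814) (l := 5) rfl N19814 D37262
theorem N21336 : nd 21336 = n37263 := ndS (p := 19815) (l := 5) rfl N19815 D37263
theorem N21337 : nd 21337 = n37264 := ndS (p := 19816) (l := 8) rfl N19816 D37264
theorem N21338 : nd 21338 = n37265 := ndS (p := 19818) (l := 6) rfl N19818 D37265
theorem N21339 : nd 21339 = n37266 := ndS (p := 19819) (l := 5) rfl N19819 D37266
theorem N21340 : nd 21340 = n37267 := ndS (p := 19821) (l := 4) rfl N19821 D37267
theorem N21341 : nd 21341 = n37268 := ndS (p := 19821) (l := 8) rfl N19821 D37268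
theorem N21342 : nd 21342 = n37269 := ndS (p := 19823) (l := 5) rfl N19823 D37269
theorem N21343 : nd 21343 = n37270 := ndS (p := 19823) (l := 8) rfl N19823 D37270
theorem N21344 : nd 21344 = n37271 := ndS (p := 19824) (l := 9) rfl N19824 D37271
theorem N21345 : nd 21345 = n37272 := ndS (p := 19826) (l := 5) rfl N19826 D37272
theorem N21346 : nd 21346 = n37273 := ndS (p := 19826) (l := 9) rfl N19826 D37273
theorem N21347 : nd 21347 = n37274 := ndS (p := 19828) (l := 9) rfl N19828 D37274
theorem N21348 : nd 21348 = n37275 := ndS (p := 19830) (l := 4) rfl N19830 D37275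
theorem N21349 : nd 21349 = n37276 := ndS (p := 19830) (l := 9) rfl N19830 D37276
theorem N21350 : nd 21350 = n37277 := ndS (p := 19833) (l := 7) rfl N19833 D37277
theorem N21351 : nd 21351 = n37278 := ndS (p := 19834) (l := 6) rfl N19834 D37278
theorem N21352 : nd 21352 = n37279 := ndS (p := 19835) (l := 7) rfl N19835 D37279
theorem N21353 : nd 21353 = n37280 := ndS (p := 19836) (l := 6) rfl N19836 D37280
theorem N21354 : nd 21354 = n37281 := ndS (p := 19838) (l := 5) rfl N19838 D37281
theorem N21355 : nd 21355 = n37282 := ndS (p := 19838) (l := 8) rfl N19838 D37282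
theorem N21356 : nd 21356 = n37283 := ndS (p := 19839) (l := 5) rfl N19839 D37283
theorem N21357 : nd 21357 = n37284 := ndS (p := 19839) (l := 9) rfl N19839 D37284
theorem N21358 : nd 21358 = n37285 := ndS (p := 19842) (l := 5) rfl N19842 D37285
theorem N21359 : nd 21359 = n37286 := ndS (p := 19842) (l := 9) rfl N19842 D37286
theorem N21360 : nd 21360 = n37287 := ndS (p := 19844) (l := 9) rfl N19844 D37287
theorem N21361 : nd 21361 = n37288 := ndS (p := 19846) (l := 6) rfl N19846 D37288
theorem N21362 : nd 21362 = n37289 := ndS (p := 19848) (l := 6) rfl N19848 D37289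
theorem N21363 : nd 21363 = n37290 := ndS (p := 19849) (l := 5) rfl N19849 D37290
theorem N21364 : nd 21364 = n37291 := ndS (p := 19850) (l := 8) rfl N19850 D37291
theorem N21365 : nd 21365 = n37292 := ndS (p := 19851) (l := 5) rfl N19851 D37292
theorem N21366 : nd 21366 = n37293 := ndS (p := 19851) (l := 9) rfl N19851 D37293
theorem N21367 : nd 21367 = n37294 := ndS (p := 19853) (l := 4) rfl N19853 D37294
theorem N21368 : nd 21368 = n37295 := ndS (p := 19853) (l := 9) rfl N19853 D37295
theorem N21369 : nd 21369 = n37296 := ndS (p := 19855) (l := 3) rfl N19855 D37296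
theorem N21370 : nd 21370 = n37297 := ndS (p := 19855) (l := 9) rfl N19855 D37297
theorem N21371 : nd 21371 = n37298 := ndS (p := 19857) (l := 3) rfl N19857 D37298
theorem N21372 : nd 21372 = n37299 := ndS (p := 19857) (l := 9) rfl N19857 D37299
theorem N21373 : nd 21373 = n37300 := ndS (p := 19859) (l := 2) rfl N19859 D37300
theorem N21374 : nd 21374 = n37301 := ndS (p := 19859) (l := 9) rfl N19859 D37301
theorem N21375 : nd 21375 = n37302 := ndS (p := 19867) (l := 3) rfl N19867 D37302
theorem N21376 : nd 21376 = n37303 := ndS (p := 19867) (l := 7) rfl N19867 D37303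
theorem N21377 : nd 21377 = n37304 := ndS (p := 19868) (l := 6) rfl N19868 D37304
theorem N21378 : nd 21378 = n37305 := ndS (p := 19869) (l := 7) rfl N19869 D37305
theorem N21379 : nd 21379 = n37306 := ndS (p := 19869) (l := 8) rfl N19869 D37306
theorem N21380 : nd 21380 = n37307 := ndS (p := 19870) (l := 6) rfl N19870 D37307
theorem N21381 : nd 21381 = n37308 := ndS (p := 19870) (l := 8) rfl N19870 D37308
theorem N21382 : nd 21382 = n37309 := ndS (p := 19871) (l := 5) rfl N19871 D37309
theorem N21383 : nd 21383 = n37310 := ndS (p := 19871) (l := 9) rfl N19871 D37310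
theorem N21384 : nd 21384 = n37311 := ndS (p := 19872) (l := 8) rfl N19872 D37311
theorem N21385 : nd 21385 = n37312 := ndS (p := 19873) (l := 9) rfl N19873 D37312
theorem N21386 : nd 21386 = n37313 := ndS (p := 19875) (l := 5) rfl N19875 D37313
theorem N21387 : nd 21387 = n37314 := ndS (p := 19875) (l := 8) rfl N19875 D37314
theorem N21388 : nd 21388 = n37315 := ndS (p := 19876) (l := 5) rfl N19876 D37315
theorem N21389 : nd 21389 = n37316 := ndS (p := 19876) (l := 9) rfl N19876 D37316
theorem N21390 : nd 21390 = n37317 := ndS (p := 19877) (l := 6) rfl N19877 D37317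
theorem N21391 : nd 21391 = n37318 := ndS (p := 19879) (l := 5) rfl N19879 D37318
theorem N21392 : nd 21392 = n37319 := ndS (p := 19879) (l := 9) rfl N19879 D37319
theorem N21393 : nd 21393 = n37320 := ndS (p := 19881) (l := 4) rfl N19881 D37320
theorem N21394 : nd 21394 = n37321 := ndS (p := 19881) (l := 9) rfl N19881 D37321
theorem N21395 : nd 21395 = n37322 := ndS (p := 19883) (l := 2) rfl N19883 D37322
theorem N21396 : nd 21396 = n37323 := ndS (p := 19883) (l := 7) rfl N19883 D37323
theorem N21397 : nd 21397 = n37324 := ndS (p := 19884) (l := 6) rfl N19884 D37324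
theorem N21398 : nd 21398 = n37325 := ndS (p := 19884) (l := 8) rfl N19884 D37325
theorem N21399 : nd 21399 = n37326 := ndS (p := 19885) (l := 5) rfl N19885 D37326
theorem N21400 : nd 21400 = n37327 := ndS (p := 19886) (l := 8) rfl N19886 D37327
theorem N21401 : nd 21401 = n37328 := ndS (p := 19888) (l := 6) rfl N19888 D37328
theorem N21402 : nd 21402 = n37329 := ndS (p := 19889) (l := 5) rfl N19889 D37329
theorem N21403 : nd 21403 = n37330 := ndS (p := 19889) (l := 8) rfl N19889 D37330
theorem N21404 : nd 21404 = n37331 := ndS (p := 19890) (l := 5) rfl N19890 D37331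
theorem N21405 : nd 21405 = n37332 := ndS (p := 19891) (l := 6) rfl N19891 D37332
theorem N21406 : nd 21406 = n37333 := ndS (p := 19892) (l := 5) rfl N19892 D37333
theorem N21407 : nd 21407 = n37334 := ndS (p := 19893) (l := 8) rfl N19893 D37334
theorem N21408 : nd 21408 = n37335 := ndS (p := 19894) (l := 5) rfl N19894 D37335
theorem N21409 : nd 21409 = n37336 := ndS (p := 19894) (l := 9) rfl N19894 D37336
theorem N21410 : nd 21410 = n37337 := ndS (p := 19895) (l := 6) rfl N19895 D37337
theorem N21411 : nd 21411 = n37338 := ndS (p := 19897) (l := 7) rfl N19897 D37338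
theorem N21412 : nd 21412 = n37339 := ndS (p := 19898) (l := 4) rfl N19898 D37339
theorem N21413 : nd 21413 = n37340 := ndS (p := 19898) (l := 9) rfl N19898 D37340
theorem N21414 : nd 21414 = n37341 := ndS (p := 19901) (l := 7) rfl N19901 D37341
theorem N21415 : nd 21415 = n37342 := ndS (p := 19902) (l := 6) rfl N19902 D37342
theorem N21416 : nd 21416 = n37343 := ndS (p := 19903) (l := 5) rfl N19903 D37343
theorem N21417 : nd 21417 = n37344 := ndS (p := 19903) (l := 8) rfl N19903 D37344
theorem N21418 : nd 21418 = n37345 := ndS (p := 19905) (l := 5) rfl N19905 D37345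
theorem N21419 : nd 21419 = n37346 := ndS (p := 19906) (l := 5) rfl N19906 D37346
theorem N21420 : nd 21420 = n37347 := ndS (p := 19906) (l := 8) rfl N19906 D37347
theorem N21421 : nd 21421 = n37348 := ndS (p := 19907) (l := 5) rfl N19907 D37348
theorem N21422 : nd 21422 = n37349 := ndS (p := 19908) (l := 6) rfl N19908 D37349
theorem N21423 : nd 21423 = n37350 := ndS (p := 19909) (l := 8) rfl N19909 D37350
theorem N21424 : nd 21424 = n37351 := ndS (p := 19910) (l := 5) rfl N19910 D37351
theorem N21425 : nd 21425 = n37352 := ndS (p := 19910) (l := 9) rfl N19910 D37352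
theorem N21426 : nd 21426 = n37353 := ndS (p := 19911) (l := 6) rfl N19911 D37353
theorem N21427 : nd 21427 = n37354 := ndS (p := 19911) (l := 9) rfl N19911 D37354
theorem N21428 : nd 21428 = n37355 := ndS (p := 19913) (l := 7) rfl N19913 D37355
theorem N21429 : nd 21429 = n37356 := ndS (p := 19913) (l := 9) rfl N19913 D37356
theorem N21430 : nd 21430 = n37357 := ndS (p := 19915) (l := 4) rfl N19915 D37357
theorem N21431 : nd 21431 = n37358 := ndS (p := 19915) (l := 9) rfl N19915 D37358
theorem N21432 : nd 21432 = n37359 := ndS (p := 19917) (l := 5) rfl N19917 D37359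
theorem N21433 : nd 21433 = n37360 := ndS (p := 19917) (l := 9) rfl N19917 D37360
theorem N21434 : nd 21434 = n37361 := ndS (p := 19918) (l := 4) rfl N19918 D37361
theorem N21435 : nd 21435 = n37362 := ndS (p := 19918) (l := 6) rfl N19918 D37362
theorem N21436 : nd 21436 = n37363 := ndS (p := 19918) (l := 9) rfl N19918 D37363
theorem N21437 : nd 21437 = n37364 := ndS (p := 19920) (l := 7) rfl N19920 D37364
theorem N21438 : nd 21438 = n37365 := ndS (p := 19920) (l := 9) rfl N19920 D37365
theorem N21439 : nd 21439 = n37366 := ndS (p := 19922) (l := 9) rfl N19922 D37366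
theorem N21440 : nd 21440 = n37367 := ndS (p := 19924) (l := 3) rfl N19924 D37367
theorem N21441 : nd 21441 = n37368 := ndS (p := 19924) (l := 9) rfl N19924 D37368
theorem N21442 : nd 21442 = n37369 := ndS (p := 19925) (l := 8) rfl N19925 D37369
theorem N21443 : nd 21443 = n37370 := ndS (p := 19926) (l := 2) rfl N19926 D37370
theorem N21444 : nd 21444 = n37371 := ndS (p := 19926) (l := 9) rfl N19926 D37371
theorem N21445 : nd 21445 = n37372 := ndS (p := 19929) (l := 4) rfl N19929 D37372
theorem N21446 : nd 21446 = n37373 := ndS (p := 19930) (l := 4) rfl N19930 D37373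
theorem N21447 : nd 21447 = n37374 := ndS (p := 19930) (l := 6) rfl N19930 D37374
theorem N21448 : nd 21448 = n37375 := ndS (p := 19930) (l := 9) rfl N19930 D37375
theorem N21449 : nd 21449 = n37376 := ndS (p := 19932) (l := 7) rfl N19932 D37376
theorem N21450 : nd 21450 = n37377 := ndS (p := 19932) (l := 9) rfl N19932 D37377
theorem N21451 : nd 21451 = n37378 := ndS (p := 19934) (l := 9) rfl N19934 D37378
theorem N21452 : nd 21452 = n37379 := ndS (p := 19936) (l := 3) rfl N19936 D37379
theorem N21453 : nd 21453 = n37380 := ndS (p := 19936) (l := 9) rfl N19936 D37380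
theorem N21454 : nd 21454 = n37381 := ndS (p := 19938) (l := 3) rfl N19938 D37381
theorem N21455 : nd 21455 = n37382 := ndS (p := 19938) (l := 6) rfl N19938 D37382
theorem N21456 : nd 21456 = n37383 := ndS (p := 19938) (l := 9) rfl N19938 D37383
theorem N21457 : nd 21457 = n37384 := ndS (p := 19939) (l := 7) rfl N19939 D37384
theorem N21458 : nd 21458 = n37385 := ndS (p := 19939) (l := 9) rfl N19939 D37385
theorem N21459 : nd 21459 = n37386 := ndS (p := 19941) (l := 9) rfl N19941 D37386
theorem N21460 : nd 21460 = n37387 := ndS (p := 19944) (l := 2) rfl N19944 D37387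
theorem N21461 : nd 21461 = n37388 := ndS (p := 19944) (l := 9) rfl N19944 D37388
theorem N21462 : nd 21462 = n37389 := ndS (p := 19945) (l := 8) rfl N19945 D37389
theorem N21463 : nd 21463 = n37390 := ndS (p := 19947) (l := 1) rfl N19947 D37390
theorem N21464 : nd 21464 = n37391 := ndS (p := 19949) (l := 3) rfl N19949 D37391
theorem N21465 : nd 21465 = n37392 := ndS (p := 19949) (l := 6) rfl N19949 D37392
theorem N21466 : nd 21466 = n37393 := ndS (p := 19950) (l := 7) rfl N19950 D37393
theorem N21467 : nd 21467 = n37394 := ndS (p := 19951) (l := 2) rfl N19951 D37394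
theorem N21468 : nd 21468 = n37395 := ndS (p := 19951) (l := 6) rfl N19951 D37395
theorem N21469 : nd 21469 = n37396 := ndS (p := 19951) (l := 9) rfl N19951 D37396
theorem N21470 : nd 21470 = n37397 := ndS (p := 19952) (l := 7) rfl N19952 D37397
theorem N21471 : nd 21471 = n37398 := ndS (p := 19952) (l := 9) rfl N19952 D37398
theorem N21472 : nd 21472 = n37399 := ndS (p := 19954) (l := 9) rfl N19954 D37399
theorem N21473 : nd 21473 = n37400 := ndS (p := 19963) (l := 7) rfl N19963 D37400
theorem N21474 : nd 21474 = n37401 := ndS (p := 19964) (l := 6) rfl N19964 D37401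
theorem N21475 : nd 21475 = n37402 := ndS (p := 19965) (l := 5) rfl N19965 D37402
theorem N21476 : nd 21476 = n37403 := ndS (p := 19967) (l := 5) rfl N19967 D37403
theorem N21477 : nd 21477 = n37404 := ndS (p := 19968) (l := 8) rfl N19968 D37404
theorem N21478 : nd 21478 = n37405 := ndS (p := 19969) (l := 4) rfl N19969 D37405
theorem N21479 : nd 21479 = n37406 := ndS (p := 19972) (l := 6) rfl N19972 D37406
theorem N21480 : nd 21480 = n37407 := ndS (p := 19973) (l := 5) rfl N19973 D37407
theorem N21481 : nd 21481 = n37408 := ndS (p := 19974) (l := 8) rfl N19974 D37408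
theorem N21482 : nd 21482 = n37409 := ndS (p := 19975) (l := 4) rfl N19975 D37409
theorem N21483 : nd 21483 = n37410 := ndS (p := 19975) (l := 8) rfl N19975 D37410
theorem N21484 : nd 21484 = n37411 := ndS (p := 19976) (l := 5) rfl N19976 D37411
theorem N21485 : nd 21485 = n37412 := ndS (p := 19977) (l := 5) rfl N19977 D37412
theorem N21486 : nd 21486 = n37413 := ndS (p := 19977) (l := 9) rfl N19977 D37413
theorem N21487 : nd 21487 = n37414 := ndS (p := 19978) (l := 4) rfl N19978 D37414
theorem N21488 : nd 21488 = n37415 := ndS (p := 19979) (l := 3) rfl N19979 D37415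
theorem N21489 : nd 21489 = n37416 := ndS (p := 19984) (l := 1) rfl N19984 D37416
theorem N21490 : nd 21490 = n37417 := ndS (p := 19985) (l := 2) rfl N19985 D37417
theorem N21491 : nd 21491 = n37418 := ndS (p := 19988) (l := 5) rfl N19988 D37418
theorem N21492 : nd 21492 = n37419 := ndS (p := 19989) (l := 4) rfl N19989 D37419
theorem N21493 : nd 21493 = n37420 := ndS (p := 19989) (l := 8) rfl N19989 D37420
theorem N21494 : nd 21494 = n37421 := ndS (p := 19991) (l := 8) rfl N19991 D37421
theorem N21495 : nd 21495 = n37422 := ndS (p := 19993) (l := 7) rfl N19993 D37422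
theorem N21496 : nd 21496 = n37423 := ndS (p := 19994) (l := 6) rfl N19994 D37423
theorem N21497 : nd 21497 = n37424 := ndS (p := 19995) (l := 6) rfl N19995 D37424
theorem N21498 : nd 21498 = n37425 := ndS (p := 19997) (l := 5) rfl N19997 D37425
theorem N21499 : nd 21499 = n37426 := ndS (p := 20000) (l := 7) rfl N20000 D37426
theorem N21500 : nd 21500 = n37427 := ndS (p := 20001) (l := 6) rfl N20001 D37427
theorem N21501 : nd 21501 = n37428 := ndS (p := 20002) (l := 6) rfl N20002 D37428
theorem N21502 : nd 21502 = n37429 := ndS (p := 20003) (l := 8) rfl N20003 D37429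
theorem N21503 : nd 21503 = n37430 := ndS (p := 20005) (l := 5) rfl N20005 D37430
theorem N21504 : nd 21504 = n37431 := ndS (p := 20005) (l := 8) rfl N20005 D37431
theorem N21505 : nd 21505 = n37432 := ndS (p := 20007) (l := 5) rfl N20007 D37432
theorem N21506 : nd 21506 = n37433 := ndS (p := 20009) (l := 7) rfl N20009 D37433
theorem N21507 : nd 21507 = n37434 := ndS (p := 20010) (l := 6) rfl N20010 D37434
theorem N21508 : nd 21508 = n37435 := ndS (p := 20011) (l := 7) rfl N20011 D37435
theorem N21509 : nd 21509 = n37436 := ndS (p := 20012) (l := 6) rfl N20012 D37436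
theorem N21510 : nd 21510 = n37437 := ndS (p := 20012) (l := 8) rfl N20012 D37437
theorem N21511 : nd 21511 = n37438 := ndS (p := 20014) (l := 8) rfl N20014 D37438
theorem N21512 : nd 21512 = n37439 := ndS (p := 20016) (l := 5) rfl N20016 D37439
theorem N21513 : nd 21513 = n37440 := ndS (p := 20016) (l := 8) rfl N20016 D37440
theorem N21514 : nd 21514 = n37441 := ndS (p := 20017) (l := 5) rfl N20017 D37441
theorem N21515 : nd 21515 = n37442 := ndS (p := 20017) (l := 9) rfl N20017 D37442
theorem N21516 : nd 21516 = n37443 := ndS (p := 20018) (l := 6) rfl N20018 D37443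
theorem N21517 : nd 21517 = n37444 := ndS (p := 20020) (l := 5) rfl N20020 D37444
theorem N21518 : nd 21518 = n37445 := ndS (p := 20020) (l := 9) rfl N20020 D37445
theorem N21519 : nd 21519 = n37446 := ndS (p := 20022) (l := 9) rfl N20022 D37446
theorem N21520 : nd 21520 = n37447 := ndS (p := 20025) (l := 7) rfl N20025 D37447
theorem N21521 : nd 21521 = n37448 := ndS (p := 20026) (l := 6) rfl N20026 D37448
theorem N21522 : nd 21522 = n37449 := ndS (p := 20027) (l := 7) rfl N20027 D37449
theorem N21523 : nd 21523 = n37450 := ndS (p := 20028) (l := 6) rfl N20028 D37450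
theorem N21524 : nd 21524 = n37451 := ndS (p := 20028) (l := 8) rfl N20028 D37451
theorem N21525 : nd 21525 = n37452 := ndS (p := 20029) (l := 5) rfl N20029 D37452
theorem N21526 : nd 21526 = n37453 := ndS (p := 20030) (l := 8) rfl N20030 D37453
theorem N21527 : nd 21527 = n37454 := ndS (p := 20032) (l := 5) rfl N20032 D37454
theorem N21528 : nd 21528 = n37455 := ndS (p := 20032) (l := 8) rfl N20032 D37455
theorem N21529 : nd 21529 = n37456 := ndS (p := 20033) (l := 5) rfl N20033 D37456
theorem N21530 : nd 21530 = n37457 := ndS (p := 20034) (l := 6) rfl N20034 D37457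
theorem N21531 : nd 21531 = n37458 := ndS (p := 20035) (l := 5) rfl N20035 D37458
theorem N21532 : nd 21532 = n37459 := ndS (p := 20036) (l := 4) rfl N20036 D37459
theorem N21533 : nd 21533 = n37460 := ndS (p := 20037) (l := 7) rfl N20037 D37460
theorem N21534 : nd 21534 = n37461 := ndS (p := 20038) (l := 6) rfl N20038 D37461
theorem N21535 : nd 21535 = n37462 := ndS (p := 20039) (l := 7) rfl N20039 D37462
theorem N21536 : nd 21536 = n37463 := ndS (p := 20040) (l := 6) rfl N20040 D37463
theorem N21537 : nd 21537 = n37464 := ndS (p := 20040) (l := 8) rfl N20040 D37464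
theorem N21538 : nd 21538 = n37465 := ndS (p := 20042) (l := 8) rfl N20042 D37465
theorem N21539 : nd 21539 = n37466 := ndS (p := 20044) (l := 6) rfl N20044 D37466
theorem N21540 : nd 21540 = n37467 := ndS (p := 20045) (l := 5) rfl N20045 D37467
theorem N21541 : nd 21541 = n37468 := ndS (p := 20045) (l := 8) rfl N20045 D37468
theorem N21542 : nd 21542 = n37469 := ndS (p := 20047) (l := 5) rfl N20047 D37469
theorem N21543 : nd 21543 = n37470 := ndS (p := 20048) (l := 8) rfl N20048 D37470
theorem N21544 : nd 21544 = n37471 := ndS (p := 20049) (l := 5) rfl N20049 D37471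
theorem N21545 : nd 21545 = n37472 := ndS (p := 20050) (l := 4) rfl N20050 D37472
theorem N21546 : nd 21546 = n37473 := ndS (p := 20051) (l := 5) rfl N20051 D37473
theorem N21547 : nd 21547 = n37474 := ndS (p := 20052) (l := 5) rfl N20052 D37474
theorem N21548 : nd 21548 = n37475 := ndS (p := 20053) (l := 6) rfl N20053 D37475
theorem N21549 : nd 21549 = n37476 := ndS (p := 20054) (l := 7) rfl N20054 D37476
theorem N21550 : nd 21550 = n37477 := ndS (p := 20055) (l := 4) rfl N20055 D37477
theorem N21551 : nd 21551 = n37478 := ndS (p := 20055) (l := 9) rfl N20055 D37478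
theorem N21552 : nd 21552 = n37479 := ndS (p := 20059) (l := 4) rfl N20059 D37479
theorem N21553 : nd 21553 = n37480 := ndS (p := 20061) (l := 3) rfl N20061 D37480
theorem N21554 : nd 21554 = n37481 := ndS (p := 20061) (l := 7) rfl N20061 D37481
theorem N21555 : nd 21555 = n37482 := ndS (p := 20062) (l := 6) rfl N20062 D37482
theorem N21556 : nd 21556 = n37483 := ndS (p := 20063) (l := 7) rfl N20063 D37483
theorem N21557 : nd 21557 = n37484 := ndS (p := 20063) (l := 8) rfl N20063 D37484
theorem N21558 : nd 21558 = n37485 := ndS (p := 20064) (l := 6) rfl N20064 D37485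
theorem N21559 : nd 21559 = n37486 := ndS (p := 20064) (l := 8) rfl N20064 D37486
theorem N21560 : nd 21560 = n37487 := ndS (p := 20065) (l := 5) rfl N20065 D37487
theorem N21561 : nd 21561 = n37488 := ndS (p := 20066) (l := 8) rfl N20066 D37488
theorem N21562 : nd 21562 = n37489 := ndS (p := 20068) (l := 5) rfl N20068 D37489
theorem N21563 : nd 21563 = n37490 := ndS (p := 20068) (l := 8) rfl N20068 D37490
theorem N21564 : nd 21564 = n37491 := ndS (p := 20069) (l := 5) rfl N20069 D37491
theorem N21565 : nd 21565 = n37492 := ndS (p := 20070) (l := 6) rfl N20070 D37492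
theorem N21566 : nd 21566 = n37493 := ndS (p := 20071) (l := 5) rfl N20071 D37493
theorem N21567 : nd 21567 = n37494 := ndS (p := 20072) (l := 4) rfl N20072 D37494
theorem N21568 : nd 21568 = n37495 := ndS (p := 20073) (l := 7) rfl N20073 D37495
theorem N21569 : nd 21569 = n37496 := ndS (p := 20074) (l := 6) rfl N20074 D37496
theorem N21570 : nd 21570 = n37497 := ndS (p := 20075) (l := 7) rfl N20075 D37497
theorem N21571 : nd 21571 = n37498 := ndS (p := 20076) (l := 6) rfl N20076 D37498
theorem N21572 : nd 21572 = n37499 := ndS (p := 20076) (l := 8) rfl N20076 D37499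
theorem N21573 : nd 21573 = n37500 := ndS (p := 20078) (l := 8) rfl N20078 D37500
theorem N21574 : nd 21574 = n37501 := ndS (p := 20080) (l := 6) rfl N20080 D37501
theorem N21575 : nd 21575 = n37502 := ndS (p := 20080) (l := 8) rfl N20080 D37502
theorem N21576 : nd 21576 = n37503 := ndS (p := 20082) (l := 5) rfl N20082 D37503
theorem N21577 : nd 21577 = n37504 := ndS (p := 20082) (l := 8) rfl N20082 D37504
theorem N21578 : nd 21578 = n37505 := ndS (p := 20083) (l := 5) rfl N20083 D37505
theorem N21579 : nd 21579 = n37506 := ndS (p := 20083) (l := 9) rfl N20083 D37506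
theorem N21580 : nd 21580 = n37507 := ndS (p := 20084) (l := 6) rfl N20084 D37507
theorem N21581 : nd 21581 = n37508 := ndS (p := 20084) (l := 9) rfl N20084 D37508
theorem N21582 : nd 21582 = n37509 := ndS (p := 20086) (l := 5) rfl N20086 D37509
theorem N21583 : nd 21583 = n37510 := ndS (p := 20086) (l := 9) rfl N20086 D37510
theorem N21584 : nd 21584 = n37511 := ndS (p := 20088) (l := 8) rfl N20088 D37511
theorem N21585 : nd 21585 = n37512 := ndS (p := 20089) (l := 5) rfl N20089 D37512
theorem N21586 : nd 21586 = n37513 := ndS (p := 20089) (l := 9) rfl N20089 D37513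
theorem N21587 : nd 21587 = n37514 := ndS (p := 20090) (l := 6) rfl N20090 D37514
theorem N21588 : nd 21588 = n37515 := ndS (p := 20090) (l := 9) rfl N20090 D37515
theorem N21589 : nd 21589 = n37516 := ndS (p := 20092) (l := 7) rfl N20092 D37516
theorem N21590 : nd 21590 = n37517 := ndS (p := 20093) (l := 8) rfl N20093 D37517
theorem N21591 : nd 21591 = n37518 := ndS (p := 20094) (l := 4) rfl N20094 D37518
theorem N21592 : nd 21592 = n37519 := ndS (p := 20094) (l := 9) rfl N20094 D37519
theorem N21593 : nd 21593 = n37520 := ndS (p := 20096) (l := 3) rfl N20096 D37520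
theorem N21594 : nd 21594 = n37521 := ndS (p := 20096) (l := 9) rfl N20096 D37521
theorem N21595 : nd 21595 = n37522 := ndS (p := 20097) (l := 8) rfl N20097 D37522
theorem N21596 : nd 21596 = n37523 := ndS (p := 20098) (l := 6) rfl N20098 D37523
theorem N21597 : nd 21597 = n37524 := ndS (p := 20100) (l := 5) rfl N20100 D37524
theorem N21598 : nd 21598 = n37525 := ndS (p := 20100) (l := 8) rfl N20100 D37525
theorem N21599 : nd 21599 = n37526 := ndS (p := 20101) (l := 5) rfl N20101 D37526
theorem N21600 : nd 21600 = n37527 := ndS (p := 20102) (l := 6) rfl N20102 D37527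
theorem N21601 : nd 21601 = n37528 := ndS (p := 20103) (l := 5) rfl N20103 D37528
theorem N21602 : nd 21602 = n37529 := ndS (p := 20104) (l := 4) rfl N20104 D37529
theorem N21603 : nd 21603 = n37530 := ndS (p := 20105) (l := 6) rfl N20105 D37530
theorem N21604 : nd 21604 = n37531 := ndS (p := 20107) (l := 6) rfl N20107 D37531
theorem N21605 : nd 21605 = n37532 := ndS (p := 20108) (l := 5) rfl N20108 D37532
theorem N21606 : nd 21606 = n37533 := ndS (p := 20108) (l := 8) rfl N20108 D37533
theorem N21607 : nd 21607 = n37534 := ndS (p := 20110) (l := 5) rfl N20110 D37534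
theorem N21608 : nd 21608 = n37535 := ndS (p := 20111) (l := 8) rfl N20111 D37535
theorem N21609 : nd 21609 = n37536 := ndS (p := 20112) (l := 5) rfl N20112 D37536
theorem N21610 : nd 21610 = n37537 := ndS (p := 20112) (l := 9) rfl N20112 D37537
theorem N21611 : nd 21611 = n37538 := ndS (p := 20113) (l := 6) rfl N20113 D37538
theorem N21612 : nd 21612 = n37539 := ndS (p := 20115) (l := 7) rfl N20115 D37539
theorem N21613 : nd 21613 = n37540 := ndS (p := 20116) (l := 4) rfl N20116 D37540
theorem N21614 : nd 21614 = n37541 := ndS (p := 20116) (l := 9) rfl N20116 D37541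
theorem N21615 : nd 21615 = n37542 := ndS (p := 20118) (l := 3) rfl N20118 D37542
theorem N21616 : nd 21616 = n37543 := ndS (p := 20118) (l := 9) rfl N20118 D37543
theorem N21617 : nd 21617 = n37544 := ndS (p := 20119) (l := 8) rfl N20119 D37544
theorem N21618 : nd 21618 = n37545 := ndS (p := 20120) (l := 7) rfl N20120 D37545
theorem N21619 : nd 21619 = n37546 := ndS (p := 20121) (l := 6) rfl N20121 D37546
theorem N21620 : nd 21620 = n37547 := ndS (p := 20122) (l := 6) rfl N20122 D37547
theorem N21621 : nd 21621 = n37548 := ndS (p := 20123) (l := 8) rfl N20123 D37548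
theorem N21622 : nd 21622 = n37549 := ndS (p := 20125) (l := 6) rfl N20125 D37549
theorem N21623 : nd 21623 = n37550 := ndS (p := 20126) (l := 5) rfl N20126 D37550
theorem N21624 : nd 21624 = n37551 := ndS (p := 20126) (l := 8) rfl N20126 D37551
theorem N21625 : nd 21625 = n37552 := ndS (p := 20127) (l := 5) rfl N20127 D37552
theorem N21626 : nd 21626 = n37553 := ndS (p := 20129) (l := 5) rfl N20129 D37553
theorem N21627 : nd 21627 = n37554 := ndS (p := 20129) (l := 9) rfl N20129 D37554
theorem N21628 : nd 21628 = n37555 := ndS (p := 20131) (l := 8) rfl N20131 D37555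
theorem N21629 : nd 21629 = n37556 := ndS (p := 20132) (l := 5) rfl N20132 D37556
theorem N21630 : nd 21630 = n37557 := ndS (p := 20132) (l := 9) rfl N20132 D37557
theorem N21631 : nd 21631 = n37558 := ndS (p := 20133) (l := 6) rfl N20133 D37558
theorem N21632 : nd 21632 = n37559 := ndS (p := 20133) (l := 9) rfl N20133 D37559
theorem N21633 : nd 21633 = n37560 := ndS (p := 20135) (l := 7) rfl N20135 D37560
theorem N21634 : nd 21634 = n37561 := ndS (p := 20135) (l := 9) rfl N20135 D37561
theorem N21635 : nd 21635 = n37562 := ndS (p := 20137) (l := 4) rfl N20137 D37562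
theorem N21636 : nd 21636 = n37563 := ndS (p := 20137) (l := 9) rfl N20137 D37563
theorem N21637 : nd 21637 = n37564 := ndS (p := 20139) (l := 3) rfl N20139 D37564
theorem N21638 : nd 21638 = n37565 := ndS (p := 20139) (l := 9) rfl N20139 D37565
theorem N21639 : nd 21639 = n37566 := ndS (p := 20140) (l := 8) rfl N20140 D37566
theorem N21640 : nd 21640 = n37567 := ndS (p := 20141) (l := 7) rfl N20141 D37567
theorem N21641 : nd 21641 = n37568 := ndS (p := 20142) (l := 6) rfl N20142 D37568
theorem N21642 : nd 21642 = n37569 := ndS (p := 20142) (l := 8) rfl N20142 D37569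
theorem N21643 : nd 21643 = n37570 := ndS (p := 20144) (l := 8) rfl N20144 D37570
theorem N21644 : nd 21644 = n37571 := ndS (p := 20146) (l := 6) rfl N20146 D37571
theorem N21645 : nd 21645 = n37572 := ndS (p := 20147) (l := 5) rfl N20147 D37572
theorem N21646 : nd 21646 = n37573 := ndS (p := 20147) (l := 8) rfl N20147 D37573
theorem N21647 : nd 21647 = n37574 := ndS (p := 20148) (l := 5) rfl N20148 D37574
theorem N21648 : nd 21648 = n37575 := ndS (p := 20150) (l := 5) rfl N20150 D37575
theorem N21649 : nd 21649 = n37576 := ndS (p := 20150) (l := 9) rfl N20150 D37576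
theorem N21650 : nd 21650 = n37577 := ndS (p := 20152) (l := 5) rfl N20152 D37577
theorem N21651 : nd 21651 = n37578 := ndS (p := 20152) (l := 8) rfl N20152 D37578
theorem N21652 : nd 21652 = n37579 := ndS (p := 20153) (l := 5) rfl N20153 D37579
theorem N21653 : nd 21653 = n37580 := ndS (p := 20154) (l := 6) rfl N20154 D37580
theorem N21654 : nd 21654 = n37581 := ndS (p := 20155) (l := 8) rfl N20155 D37581
theorem N21655 : nd 21655 = n37582 := ndS (p := 20156) (l := 5) rfl N20156 D37582
theorem N21656 : nd 21656 = n37583 := ndS (p := 20156) (l := 9) rfl N20156 D37583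
theorem N21657 : nd 21657 = n37584 := ndS (p := 20157) (l := 6) rfl N20157 D37584
theorem N21658 : nd 21658 = n37585 := ndS (p := 20159) (l := 7) rfl N20159 D37585
theorem N21659 : nd 21659 = n37586 := ndS (p := 20160) (l := 4) rfl N20160 D37586
theorem N21660 : nd 21660 = n37587 := ndS (p := 20160) (l := 9) rfl N20160 D37587
theorem N21661 : nd 21661 = n37588 := ndS (p := 20162) (l := 5) rfl N20162 D37588
theorem N21662 : nd 21662 = n37589 := ndS (p := 20162) (l := 9) rfl N20162 D37589
theorem N21663 : nd 21663 = n37590 := ndS (p := 20163) (l := 4) rfl N20163 D37590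
theorem N21664 : nd 21664 = n37591 := ndS (p := 20163) (l := 6) rfl N20163 D37591
theorem N21665 : nd 21665 = n37592 := ndS (p := 20163) (l := 9) rfl N20163 D37592
theorem N21666 : nd 21666 = n37593 := ndS (p := 20165) (l := 7) rfl N20165 D37593
theorem N21667 : nd 21667 = n37594 := ndS (p := 20167) (l := 3) rfl N20167 D37594
theorem N21668 : nd 21668 = n37595 := ndS (p := 20167) (l := 9) rfl N20167 D37595
theorem N21669 : nd 21669 = n37596 := ndS (p := 20168) (l := 8) rfl N20168 D37596
theorem N21670 : nd 21670 = n37597 := ndS (p := 20172) (l := 4) rfl N20172 D37597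
theorem N21671 : nd 21671 = n37598 := ndS (p := 20173) (l := 4) rfl N20173 D37598
theorem N21672 : nd 21672 = n37599 := ndS (p := 20173) (l := 6) rfl N20173 D37599
theorem N21673 : nd 21673 = n37600 := ndS (p := 20174) (l := 7) rfl N20174 D37600
theorem N21674 : nd 21674 = n37601 := ndS (p := 20176) (l := 3) rfl N20176 D37601
theorem N21675 : nd 21675 = n37602 := ndS (p := 20176) (l := 9) rfl N20176 D37602
theorem N21676 : nd 21676 = n37603 := ndS (p := 20177) (l := 8) rfl N20177 D37603
theorem N21677 : nd 21677 = n37604 := ndS (p := 20178) (l := 9) rfl N20178 D37604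
theorem N21678 : nd 21678 = n37605 := ndS (p := 20181) (l := 5) rfl N20181 D37605
theorem N21679 : nd 21679 = n37606 := ndS (p := 20182) (l := 6) rfl N20182 D37606
theorem N21680 : nd 21680 = n37607 := ndS (p := 20183) (l := 4) rfl N20183 D37607
theorem N21681 : nd 21681 = n37608 := ndS (p := 20184) (l := 4) rfl N20184 D37608
theorem N21682 : nd 21682 = n37609 := ndS (p := 20184) (l := 6) rfl N20184 D37609
theorem N21683 : nd 21683 = n37610 := ndS (p := 20185) (l := 7) rfl N20185 D37610
theorem N21684 : nd 21684 = n37611 := ndS (p := 20187) (l := 3) rfl N20187 D37611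
theorem N21685 : nd 21685 = n37612 := ndS (p := 20187) (l := 9) rfl N20187 D37612
theorem N21686 : nd 21686 = n37613 := ndS (p := 20189) (l := 4) rfl N20189 D37613
theorem N21687 : nd 21687 = n37614 := ndS (p := 20189) (l := 6) rfl N20189 D37614
theorem N21688 : nd 21688 = n37615 := ndS (p := 20190) (l := 6) rfl N20190 D37615
theorem N21689 : nd 21689 = n37616 := ndS (p := 20191) (l := 7) rfl N20191 D37616
theorem N21690 : nd 21690 = n37617 := ndS (p := 20196) (l := 7) rfl N20196 D37617
theorem N21691 : nd 21691 = n37618 := ndS (p := 20199) (l := 6) rfl N20199 D37618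
theorem N21692 : nd 21692 = n37619 := ndS (p := 20200) (l := 5) rfl N20200 D37619
theorem N21693 : nd 21693 = n37620 := ndS (p := 20206) (l := 5) rfl N20206 D37620
theorem N21694 : nd 21694 = n37621 := ndS (p := 20207) (l := 5) rfl N20207 D37621
theorem N21695 : nd 21695 = n37622 := ndS (p := 20212) (l := 5) rfl N20212 D37622
theorem N21696 : nd 21696 = n37623 := ndS (p := 20213) (l := 5) rfl N20213 D37623
theorem N21697 : nd 21697 = n37624 := ndS (p := 20214) (l := 5) rfl N20214 D37624
theorem N21698 : nd 21698 = n37625 := ndS (p := 20215) (l := 8) rfl N20215 D37625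
theorem N21699 : nd 21699 = n37626 := ndS (p := 20217) (l := 9) rfl N20217 D37626
theorem N21700 : nd 21700 = n37627 := ndS (p := 20226) (l := 5) rfl N20226 D37627
theorem N21701 : nd 21701 = n37628 := ndS (p := 20228) (l := 5) rfl N20228 D37628
theorem N21702 : nd 21702 = n37629 := ndS (p := 20233) (l := 5) rfl N20233 D37629
theorem N21703 : nd 21703 = n37630 := ndS (p := 20235) (l := 4) rfl N20235 D37630
theorem N21704 : nd 21704 = n37631 := ndS (p := 20240) (l := 6) rfl N20240 D37631
theorem N21705 : nd 21705 = n37632 := ndS (p := 20243) (l := 5) rfl N20243 D37632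
theorem N21706 : nd 21706 = n37633 := ndS (p := 20246) (l := 4) rfl N20246 D37633
theorem N21707 : nd 21707 = n37634 := ndS (p := 20246) (l := 8) rfl N20246 D37634
theorem N21708 : nd 21708 = n37635 := ndS (p := 20247) (l := 5) rfl N20247 D37635
theorem N21709 : nd 21709 = n37636 := ndS (p := 20252) (l := 4) rfl N20252 D37636
theorem N21710 : nd 21710 = n37637 := ndS (p := 20254) (l := 4) rfl N20254 D37637
theorem N21711 : nd 21711 = n37638 := ndS (p := 20255) (l := 4) rfl N20255 D37638
theorem N21712 : nd 21712 = n37639 := ndS (p := 20256) (l := 8) rfl N20256 D37639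
theorem N21713 : nd 21713 = n37640 := ndS (p := 20258) (l := 5) rfl N20258 D37640
theorem N21714 : nd 21714 = n37641 := ndS (p := 20259) (l := 8) rfl N20259 D37641
theorem N21715 : nd 21715 = n37642 := ndS (p := 20260) (l := 5) rfl N20260 D37642
theorem N21716 : nd 21716 = n37643 := ndS (p := 20261) (l := 8) rfl N20261 D37643
theorem N21717 : nd 21717 = n37644 := ndS (p := 20262) (l := 5) rfl N20262 D37644
theorem N21718 : nd 21718 = n37645 := ndS (p := 20263) (l := 6) rfl N20263 D37645
theorem N21719 : nd 21719 = n37646 := ndS (p := 20264) (l := 5) rfl N20264 D37646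
theorem N21720 : nd 21720 = n37647 := ndS (p := 20265) (l := 8) rfl N20265 D37647
theorem N21721 : nd 21721 = n37648 := ndS (p := 20266) (l := 5) rfl N20266 D37648
theorem N21722 : nd 21722 = n37649 := ndS (p := 20266) (l := 9) rfl N20266 D37649
theorem N21723 : nd 21723 = n37650 := ndS (p := 20269) (l := 6) rfl N20269 D37650
theorem N21724 : nd 21724 = n37651 := ndS (p := 20270) (l := 5) rfl N20270 D37651
theorem N21725 : nd 21725 = n37652 := ndS (p := 20271) (l := 8) rfl N20271 D37652
theorem N21726 : nd 21726 = n37653 := ndS (p := 20272) (l := 5) rfl N20272 D37653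
theorem N21727 : nd 21727 = n37654 := ndS (p := 20273) (l := 6) rfl N20273 D37654
theorem N21728 : nd 21728 = n37655 := ndS (p := 20274) (l := 7) rfl N20274 D37655
theorem N21729 : nd 21729 = n37656 := ndS (p := 20275) (l := 4) rfl N20275 D37656
theorem N21730 : nd 21730 = n37657 := ndS (p := 20276) (l := 3) rfl N20276 D37657
theorem N21731 : nd 21731 = n37658 := ndS (p := 20277) (l := 5) rfl N20277 D37658
theorem N21732 : nd 21732 = n37659 := ndS (p := 20278) (l := 8) rfl N20278 D37659
theorem N21733 : nd 21733 = n37660 := ndS (p := 20279) (l := 5) rfl N20279 D37660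
theorem N21734 : nd 21734 = n37661 := ndS (p := 20279) (l := 9) rfl N20279 D37661
theorem N21735 : nd 21735 = n37662 := ndS (p := 20281) (l := 7) rfl N20281 D37662
theorem N21736 : nd 21736 = n37663 := ndS (p := 20282) (l := 6) rfl N20282 D37663
theorem N21737 : nd 21737 = n37664 := ndS (p := 20283) (l := 7) rfl N20283 D37664
theorem N21738 : nd 21738 = n37665 := ndS (p := 20284) (l := 6) rfl N20284 D37665
theorem N21739 : nd 21739 = n37666 := ndS (p := 20286) (l := 5) rfl N20286 D37666
theorem N21740 : nd 21740 = n37667 := ndS (p := 20286) (l := 8) rfl N20286 D37667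
theorem N21741 : nd 21741 = n37668 := ndS (p := 20287) (l := 5) rfl N20287 D37668
theorem N21742 : nd 21742 = n37669 := ndS (p := 20289) (l := 5) rfl N20289 D37669
theorem N21743 : nd 21743 = n37670 := ndS (p := 20291) (l := 7) rfl N20291 D37670
theorem N21744 : nd 21744 = n37671 := ndS (p := 20292) (l := 6) rfl N20292 D37671
theorem N21745 : nd 21745 = n37672 := ndS (p := 20294) (l := 6) rfl N20294 D37672
theorem N21746 : nd 21746 = n37673 := ndS (p := 20294) (l := 8) rfl N20294 D37673
theorem N21747 : nd 21747 = n37674 := ndS (p := 20295) (l := 9) rfl N20295 D37674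
theorem N21748 : nd 21748 = n37675 := ndS (p := 20296) (l := 5) rfl N20296 D37675
theorem N21749 : nd 21749 = n37676 := ndS (p := 20296) (l := 8) rfl N20296 D37676
theorem N21750 : nd 21750 = n37677 := ndS (p := 20297) (l := 9) rfl N20297 D37677
theorem N21751 : nd 21751 = n37678 := ndS (p := 20299) (l := 5) rfl N20299 D37678
theorem N21752 : nd 21752 = n37679 := ndS (p := 20299) (l := 9) rfl N20299 D37679
theorem N21753 : nd 21753 = n37680 := ndS (p := 20301) (l := 8) rfl N20301 D37680
theorem N21754 : nd 21754 = n37681 := ndS (p := 20302) (l := 5) rfl N20302 D37681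
theorem N21755 : nd 21755 = n37682 := ndS (p := 20302) (l := 9) rfl N20302 D37682
theorem N21756 : nd 21756 = n37683 := ndS (p := 20303) (l := 6) rfl N20303 D37683
theorem N21757 : nd 21757 = n37684 := ndS (p := 20303) (l := 9) rfl N20303 D37684
theorem N21758 : nd 21758 = n37685 := ndS (p := 20305) (l := 7) rfl N20305 D37685
theorem N21759 : nd 21759 = n37686 := ndS (p := 20305) (l := 9) rfl N20305 D37686
theorem N21760 : nd 21760 = n37687 := ndS (p := 20306) (l := 8) rfl N20306 D37687
theorem N21761 : nd 21761 = n37688 := ndS (p := 20307) (l := 4) rfl N20307 D37688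
theorem N21762 : nd 21762 = n37689 := ndS (p := 20307) (l := 9) rfl N20307 D37689
theorem N21763 : nd 21763 = n37690 := ndS (p := 20309) (l := 3) rfl N20309 D37690
theorem N21764 : nd 21764 = n37691 := ndS (p := 20309) (l := 9) rfl N20309 D37691
theorem N21765 : nd 21765 = n37692 := ndS (p := 20310) (l := 8) rfl N20310 D37692
theorem N21766 : nd 21766 = n37693 := ndS (p := 20311) (l := 8) rfl N20311 D37693
theorem N21767 : nd 21767 = n37694 := ndS (p := 20312) (l := 6) rfl N20312 D37694
theorem N21768 : nd 21768 = n37695 := ndS (p := 20314) (l := 6) rfl N20314 D37695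
theorem N21769 : nd 21769 = n37696 := ndS (p := 20315) (l := 5) rfl N20315 D37696
theorem N21770 : nd 21770 = n37697 := ndS (p := 20315) (l := 8) rfl N20315 D37697
theorem N21771 : nd 21771 = n37698 := ndS (p := 20316) (l := 5) rfl N20316 D37698
theorem N21772 : nd 21772 = n37699 := ndS (p := 20318) (l := 5) rfl N20318 D37699
theorem N21773 : nd 21773 = n37700 := ndS (p := 20318) (l := 9) rfl N20318 D37700
theorem N21774 : nd 21774 = n37701 := ndS (p := 20320) (l := 8) rfl N20320 D37701
theorem N21775 : nd 21775 = n37702 := ndS (p := 20321) (l := 5) rfl N20321 D37702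
theorem N21776 : nd 21776 = n37703 := ndS (p := 20321) (l := 9) rfl N20321 D37703
theorem N21777 : nd 21777 = n37704 := ndS (p := 20322) (l := 6) rfl N20322 D37704
theorem N21778 : nd 21778 = n37705 := ndS (p := 20322) (l := 9) rfl N20322 D37705
theorem N21779 : nd 21779 = n37706 := ndS (p := 20324) (l := 7) rfl N20324 D37706
theorem N21780 : nd 21780 = n37707 := ndS (p := 20324) (l := 9) rfl N20324 D37707
theorem N21781 : nd 21781 = n37708 := ndS (p := 20325) (l := 8) rfl N20325 D37708
theorem N21782 : nd 21782 = n37709 := ndS (p := 20326) (l := 4) rfl N20326 D37709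
theorem N21783 : nd 21783 = n37710 := ndS (p := 20326) (l := 9) rfl N20326 D37710
theorem N21784 : nd 21784 = n37711 := ndS (p := 20328) (l := 3) rfl N20328 D37711
theorem N21785 : nd 21785 = n37712 := ndS (p := 20330) (l := 6) rfl N20330 D37712
theorem N21786 : nd 21786 = n37713 := ndS (p := 20331) (l := 5) rfl N20331 D37713
theorem N21787 : nd 21787 = n37714 := ndS (p := 20332) (l := 5) rfl N20332 D37714
theorem N21788 : nd 21788 = n37715 := ndS (p := 20332) (l := 8) rfl N20332 D37715
theorem N21789 : nd 21789 = n37716 := ndS (p := 20334) (l := 8) rfl N20334 D37716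
theorem N21790 : nd 21790 = n37717 := ndS (p := 20335) (l := 5) rfl N20335 D37717
theorem N21791 : nd 21791 = n37718 := ndS (p := 20335) (l := 9) rfl N20335 D37718
theorem N21792 : nd 21792 = n37719 := ndS (p := 20338) (l := 5) rfl N20338 D37719
theorem N21793 : nd 21793 = n37720 := ndS (p := 20338) (l := 9) rfl N20338 D37720
theorem N21794 : nd 21794 = n37721 := ndS (p := 20339) (l := 6) rfl N20339 D37721
theorem N21795 : nd 21795 = n37722 := ndS (p := 20339) (l := 9) rfl N20339 D37722
theorem N21796 : nd 21796 = n37723 := ndS (p := 20341) (l := 7) rfl N20341 D37723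
theorem N21797 : nd 21797 = n37724 := ndS (p := 20341) (l := 9) rfl N20341 D37724
theorem N21798 : nd 21798 = n37725 := ndS (p := 20342) (l := 8) rfl N20342 D37725
theorem N21799 : nd 21799 = n37726 := ndS (p := 20346) (l := 5) rfl N20346 D37726
theorem N21800 : nd 21800 = n37727 := ndS (p := 20347) (l := 5) rfl N20347 D37727
theorem N21801 : nd 21801 = n37728 := ndS (p := 20348) (l := 8) rfl N20348 D37728
theorem N21802 : nd 21802 = n37729 := ndS (p := 20349) (l := 4) rfl N20349 D37729
theorem N21803 : nd 21803 = n37730 := ndS (p := 20349) (l := 9) rfl N20349 D37730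
theorem N21804 : nd 21804 = n37731 := ndS (p := 20351) (l := 3) rfl N20351 D37731
theorem N21805 : nd 21805 = n37732 := ndS (p := 20353) (l := 9) rfl N20353 D37732
theorem N21806 : nd 21806 = n37733 := ndS (p := 20355) (l := 5) rfl N20355 D37733
theorem N21807 : nd 21807 = n37734 := ndS (p := 20356) (l := 5) rfl N20356 D37734
theorem N21808 : nd 21808 = n37735 := ndS (p := 20357) (l := 8) rfl N20357 D37735
theorem N21809 : nd 21809 = n37736 := ndS (p := 20358) (l := 5) rfl N20358 D37736
theorem N21810 : nd 21810 = n37737 := ndS (p := 20358) (l := 9) rfl N20358 D37737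
theorem N21811 : nd 21811 = n37738 := ndS (p := 20360) (l := 4) rfl N20360 D37738
theorem N21812 : nd 21812 = n37739 := ndS (p := 20360) (l := 9) rfl N20360 D37739
theorem N21813 : nd 21813 = n37740 := ndS (p := 20362) (l := 5) rfl N20362 D37740
theorem N21814 : nd 21814 = n37741 := ndS (p := 20362) (l := 9) rfl N20362 D37741
theorem N21815 : nd 21815 = n37742 := ndS (p := 20363) (l := 4) rfl N20363 D37742
theorem N21816 : nd 21816 = n37743 := ndS (p := 20363) (l := 6) rfl N20363 D37743
theorem N21817 : nd 21817 = n37744 := ndS (p := 20363) (l := 9) rfl N20363 D37744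
theorem N21818 : nd 21818 = n37745 := ndS (p := 20365) (l := 7) rfl N20365 D37745
theorem N21819 : nd 21819 = n37746 := ndS (p := 20365) (l := 9) rfl N20365 D37746
theorem N21820 : nd 21820 = n37747 := ndS (p := 20367) (l := 9) rfl N20367 D37747
theorem N21821 : nd 21821 = n37748 := ndS (p := 20369) (l := 3) rfl N20369 D37748
theorem N21822 : nd 21822 = n37749 := ndS (p := 20369) (l := 9) rfl N20369 D37749
theorem N21823 : nd 21823 = n37750 := ndS (p := 20371) (l := 2) rfl N20371 D37750
theorem N21824 : nd 21824 = n37751 := ndS (p := 20372) (l := 5) rfl N20372 D37751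
theorem N21825 : nd 21825 = n37752 := ndS (p := 20373) (l := 8) rfl N20373 D37752
theorem N21826 : nd 21826 = n37753 := ndS (p := 20374) (l := 4) rfl N20374 D37753
theorem N21827 : nd 21827 = n37754 := ndS (p := 20374) (l := 8) rfl N20374 D37754
theorem N21828 : nd 21828 = n37755 := ndS (p := 20375) (l := 5) rfl N20375 D37755
theorem N21829 : nd 21829 = n37756 := ndS (p := 20375) (l := 9) rfl N20375 D37756
theorem N21830 : nd 21830 = n37757 := ndS (p := 20376) (l := 6) rfl N20376 D37757
theorem N21831 : nd 21831 = n37758 := ndS (p := 20378) (l := 7) rfl N20378 D37758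
theorem N21832 : nd 21832 = n37759 := ndS (p := 20379) (l := 5) rfl N20379 D37759
theorem N21833 : nd 21833 = n37760 := ndS (p := 20379) (l := 9) rfl N20379 D37760
theorem N21834 : nd 21834 = n37761 := ndS (p := 20380) (l := 6) rfl N20380 D37761
theorem N21835 : nd 21835 = n37762 := ndS (p := 20380) (l := 9) rfl N20380 D37762
theorem N21836 : nd 21836 = n37763 := ndS (p := 20382) (l := 7) rfl N20382 D37763
theorem N21837 : nd 21837 = n37764 := ndS (p := 20384) (l := 6) rfl N20384 D37764
theorem N21838 : nd 21838 = n37765 := ndS (p := 20384) (l := 9) rfl N20384 D37765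
theorem N21839 : nd 21839 = n37766 := ndS (p := 20386) (l := 7) rfl N20386 D37766
theorem N21840 : nd 21840 = n37767 := ndS (p := 20387) (l := 8) rfl N20387 D37767
theorem N21841 : nd 21841 = n37768 := ndS (p := 20390) (l := 5) rfl N20390 D37768
theorem N21842 : nd 21842 = n37769 := ndS (p := 20394) (l := 4) rfl N20394 D37769
theorem N21843 : nd 21843 = n37770 := ndS (p := 20399) (l := 4) rfl N20399 D37770
theorem N21844 : nd 21844 = n37771 := ndS (p := 20402) (l := 8) rfl N20402 D37771
theorem N21845 : nd 21845 = n37772 := ndS (p := 20404) (l := 4) rfl N20404 D37772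
theorem N21846 : nd 21846 = n37773 := ndS (p := 20404) (l := 9) rfl N20404 D37773
theorem N21847 : nd 21847 = n37774 := ndS (p := 20408) (l := 5) rfl N20408 D37774
theorem N21848 : nd 21848 = n37775 := ndS (p := 20408) (l := 9) rfl N20408 D37775
theorem N21849 : nd 21849 = n37776 := ndS (p := 20410) (l := 4) rfl N20410 D37776
theorem N21850 : nd 21850 = n37777 := ndS (p := 20410) (l := 6) rfl N20410 D37777
theorem N21851 : nd 21851 = n37778 := ndS (p := 20411) (l := 7) rfl N20411 D37778
theorem N21852 : nd 21852 = n37779 := ndS (p := 20413) (l := 3) rfl N20413 D37779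
theorem N21853 : nd 21853 = n37780 := ndS (p := 20415) (l := 9) rfl N20415 D37780
theorem N21854 : nd 21854 = n37781 := ndS (p := 20417) (l := 4) rfl N20417 D37781
theorem N21855 : nd 21855 = n37782 := ndS (p := 20417) (l := 6) rfl N20417 D37782
theorem N21856 : nd 21856 = n37783 := ndS (p := 20418) (l := 3) rfl N20418 D37783
theorem N21857 : nd 21857 = n37784 := ndS (p := 20418) (l := 6) rfl N20418 D37784
theorem N21858 : nd 21858 = n37785 := ndS (p := 20418) (l := 9) rfl N20418 D37785
theorem N21859 : nd 21859 = n37786 := ndS (p := 20419) (l := 7) rfl N20419 D37786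
theorem N21860 : nd 21860 = n37787 := ndS (p := 20419) (l := 9) rfl N20419 D37787
theorem N21861 : nd 21861 = n37788 := ndS (p := 20421) (l := 9) rfl N20421 D37788
theorem N21862 : nd 21862 = n37789 := ndS (p := 20426) (l := 4) rfl N20426 D37789
theorem N21863 : nd 21863 = n37790 := ndS (p := 20426) (l := 9) rfl N20426 D37790
theorem N21864 : nd 21864 = n37791 := ndS (p := 20428) (l := 4) rfl N20428 D37791
theorem N21865 : nd 21865 = n37792 := ndS (p := 20428) (l := 6) rfl N20428 D37792
theorem N21866 : nd 21866 = n37793 := ndS (p := 20428) (l := 9) rfl N20428 D37793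
theorem N21867 : nd 21867 = n37794 := ndS (p := 20430) (l := 7) rfl N20430 D37794
theorem N21868 : nd 21868 = n37795 := ndS (p := 20430) (l := 9) rfl N20430 D37795
theorem N21869 : nd 21869 = n37796 := ndS (p := 20431) (l := 8) rfl N20431 D37796
theorem N21870 : nd 21870 = n37797 := ndS (p := 20432) (l := 9) rfl N20432 D37797
theorem N21871 : nd 21871 = n37798 := ndS (p := 20435) (l := 3) rfl N20435 D37798
theorem N21872 : nd 21872 = n37799 := ndS (p := 20435) (l := 9) rfl N20435 D37799
theorem N21873 : nd 21873 = n37800 := ndS (p := 20436) (l := 8) rfl N20436 D37800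
theorem N21874 : nd 21874 = n37801 := ndS (p := 20437) (l := 2) rfl N20437 D37801
theorem N21875 : nd 21875 = n37802 := ndS (p := 20437) (l := 9) rfl N20437 D37802
theorem N21876 : nd 21876 = n37803 := ndS (p := 20441) (l := 8) rfl N20441 D37803
theorem N21877 : nd 21877 = n37804 := ndS (p := 20450) (l := 6) rfl N20450 D37804
theorem N21878 : nd 21878 = n37805 := ndS (p := 20451) (l := 5) rfl N20451 D37805
theorem N21879 : nd 21879 = n37806 := ndS (p := 20452) (l := 8) rfl N20452 D37806
theorem N21880 : nd 21880 = n37807 := ndS (p := 20453) (l := 5) rfl N20453 D37807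
theorem N21881 : nd 21881 = n37808 := ndS (p := 20453) (l := 9) rfl N20453 D37808
theorem N21882 : nd 21882 = n37809 := ndS (p := 20454) (l := 6) rfl N20454 D37809
theorem N21883 : nd 21883 = n37810 := ndS (p := 20454) (l := 9) rfl N20454 D37810
theorem N21884 : nd 21884 = n37811 := ndS (p := 20456) (l := 7) rfl N20456 D37811
theorem N21885 : nd 21885 = n37812 := ndS (p := 20457) (l := 8) rfl N20457 D37812
theorem N21886 : nd 21886 = n37813 := ndS (p := 20459) (l := 7) rfl N20459 D37813
theorem N21887 : nd 21887 = n37814 := ndS (p := 20459) (l := 9) rfl N20459 D37814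
theorem N21888 : nd 21888 = n37815 := ndS (p := 20460) (l := 8) rfl N20460 D37815
theorem N21889 : nd 21889 = n37816 := ndS (p := 20464) (l := 8) rfl N20464 D37816
theorem N21890 : nd 21890 = n37817 := ndS (p := 20466) (l := 5) rfl N20466 D37817
theorem N21891 : nd 21891 = n37818 := ndS (p := 20468) (l := 4) rfl N20468 D37818
theorem N21892 : nd 21892 = n37819 := ndS (p := 20469) (l := 7) rfl N20469 D37819
theorem N21893 : nd 21893 = n37820 := ndS (p := 20470) (l := 6) rfl N20470 D37820
theorem N21894 : nd 21894 = n37821 := ndS (p := 20471) (l := 7) rfl N20471 D37821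
theorem N21895 : nd 21895 = n37822 := ndS (p := 20472) (l := 6) rfl N20472 D37822
theorem N21896 : nd 21896 = n37823 := ndS (p := 20472) (l := 8) rfl N20472 D37823
theorem N21897 : nd 21897 = n37824 := ndS (p := 20474) (l := 8) rfl N20474 D37824
theorem N21898 : nd 21898 = n37825 := ndS (p := 20476) (l := 5) rfl N20476 D37825
theorem N21899 : nd 21899 = n37826 := ndS (p := 20476) (l := 8) rfl N20476 D37826
theorem N21900 : nd 21900 = n37827 := ndS (p := 20477) (l := 9) rfl N20477 D37827
theorem N21901 : nd 21901 = n37828 := ndS (p := 20479) (l := 5) rfl N20479 D37828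
theorem N21902 : nd 21902 = n37829 := ndS (p := 20479) (l := 9) rfl N20479 D37829
theorem N21903 : nd 21903 = n37830 := ndS (p := 20481) (l := 9) rfl N20481 D37830
theorem N21904 : nd 21904 = n37831 := ndS (p := 20483) (l := 4) rfl N20483 D37831
theorem N21905 : nd 21905 = n37832 := ndS (p := 20483) (l := 9) rfl N20483 D37832
theorem N21906 : nd 21906 = n37833 := ndS (p := 20486) (l := 6) rfl N20486 D37833
theorem N21907 : nd 21907 = n37834 := ndS (p := 20487) (l := 5) rfl N20487 D37834
theorem N21908 : nd 21908 = n37835 := ndS (p := 20487) (l := 8) rfl N20487 D37835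
theorem N21909 : nd 21909 = n37836 := ndS (p := 20489) (l := 5) rfl N20489 D37836
theorem N21910 : nd 21910 = n37837 := ndS (p := 20490) (l := 8) rfl N20490 D37837
theorem N21911 : nd 21911 = n37838 := ndS (p := 20491) (l := 5) rfl N20491 D37838
theorem N21912 : nd 21912 = n37839 := ndS (p := 20491) (l := 9) rfl N20491 D37839
theorem N21913 : nd 21913 = n37840 := ndS (p := 20492) (l := 6) rfl N20492 D37840
theorem N21914 : nd 21914 = n37841 := ndS (p := 20494) (l := 7) rfl N20494 D37841
theorem N21915 : nd 21915 = n37842 := ndS (p := 20495) (l := 4) rfl N20495 D37842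
theorem N21916 : nd 21916 = n37843 := ndS (p := 20495) (l := 9) rfl N20495 D37843
theorem N21917 : nd 21917 = n37844 := ndS (p := 20498) (l := 4) rfl N20498 D37844
theorem N21918 : nd 21918 = n37845 := ndS (p := 20499) (l := 4) rfl N20499 D37845
theorem N21919 : nd 21919 = n37846 := ndS (p := 20499) (l := 6) rfl N20499 D37846
theorem N21920 : nd 21920 = n37847 := ndS (p := 20500) (l := 7) rfl N20500 D37847
theorem N21921 : nd 21921 = n37848 := ndS (p := 20502) (l := 9) rfl N20502 D37848
theorem N21922 : nd 21922 = n37849 := ndS (p := 20504) (l := 7) rfl N20504 D37849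
theorem N21923 : nd 21923 = n37850 := ndS (p := 20507) (l := 7) rfl N20507 D37850
theorem N21924 : nd 21924 = n37851 := ndS (p := 20507) (l := 8) rfl N20507 D37851
theorem N21925 : nd 21925 = n37852 := ndS (p := 20508) (l := 6) rfl N20508 D37852
theorem N21926 : nd 21926 = n37853 := ndS (p := 20508) (l := 8) rfl N20508 D37853
theorem N21927 : nd 21927 = n37854 := ndS (p := 20509) (l := 5) rfl N20509 D37854
theorem N21928 : nd 21928 = n37855 := ndS (p := 20509) (l := 9) rfl N20509 D37855
theorem N21929 : nd 21929 = n37856 := ndS (p := 20510) (l := 8) rfl N20510 D37856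
theorem N21930 : nd 21930 = n37857 := ndS (p := 20511) (l := 9) rfl N20511 D37857
theorem N21931 : nd 21931 = n37858 := ndS (p := 20513) (l := 5) rfl N20513 D37858
theorem N21932 : nd 21932 = n37859 := ndS (p := 20513) (l := 8) rfl N20513 D37859
theorem N21933 : nd 21933 = n37860 := ndS (p := 20514) (l := 5) rfl N20514 D37860
theorem N21934 : nd 21934 = n37861 := ndS (p := 20514) (l := 9) rfl N20514 D37861
theorem N21935 : nd 21935 = n37862 := ndS (p := 20515) (l := 6) rfl N20515 D37862
theorem N21936 : nd 21936 = n37863 := ndS (p := 20515) (l := 9) rfl N20515 D37863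
theorem N21937 : nd 21937 = n37864 := ndS (p := 20517) (l := 5) rfl N20517 D37864
theorem N21938 : nd 21938 = n37865 := ndS (p := 20517) (l := 9) rfl N20517 D37865
theorem N21939 : nd 21939 = n37866 := ndS (p := 20519) (l := 4) rfl N20519 D37866
theorem N21940 : nd 21940 = n37867 := ndS (p := 20519) (l := 9) rfl N20519 D37867
theorem N21941 : nd 21941 = n37868 := ndS (p := 20521) (l := 6) rfl N20521 D37868
theorem N21942 : nd 21942 = n37869 := ndS (p := 20522) (l := 5) rfl N20522 D37869
theorem N21943 : nd 21943 = n37870 := ndS (p := 20522) (l := 8) rfl N20522 D37870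
theorem N21944 : nd 21944 = n37871 := ndS (p := 20523) (l := 5) rfl N20523 D37871
theorem N21945 : nd 21945 = n37872 := ndS (p := 20524) (l := 6) rfl N20524 D37872
theorem N21946 : nd 21946 = n37873 := ndS (p := 20525) (l := 5) rfl N20525 D37873
theorem N21947 : nd 21947 = n37874 := ndS (p := 20526) (l := 8) rfl N20526 D37874
theorem N21948 : nd 21948 = n37875 := ndS (p := 20527) (l := 5) rfl N20527 D37875
theorem N21949 : nd 21949 = n37876 := ndS (p := 20527) (l := 9) rfl N20527 D37876
theorem N21950 : nd 21950 = n37877 := ndS (p := 20528) (l := 6) rfl N20528 D37877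
theorem N21951 : nd 21951 = n37878 := ndS (p := 20528) (l := 9) rfl N20528 D37878
theorem N21952 : nd 21952 = n37879 := ndS (p := 20530) (l := 7) rfl N20530 D37879
theorem N21953 : nd 21953 = n37880 := ndS (p := 20530) (l := 9) rfl N20530 D37880
theorem N21954 : nd 21954 = n37881 := ndS (p := 20532) (l := 4) rfl N20532 D37881
theorem N21955 : nd 21955 = n37882 := ndS (p := 20532) (l := 9) rfl N20532 D37882
theorem N21956 : nd 21956 = n37883 := ndS (p := 20535) (l := 5) rfl N20535 D37883
theorem N21957 : nd 21957 = n37884 := ndS (p := 20535) (l := 8) rfl N20535 D37884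
theorem N21958 : nd 21958 = n37885 := ndS (p := 20536) (l := 5) rfl N20536 D37885
theorem N21959 : nd 21959 = n37886 := ndS (p := 20537) (l := 6) rfl N20537 D37886
theorem N21960 : nd 21960 = n37887 := ndS (p := 20538) (l := 8) rfl N20538 D37887
theorem N21961 : nd 21961 = n37888 := ndS (p := 20539) (l := 5) rfl N20539 D37888
theorem N21962 : nd 21962 = n37889 := ndS (p := 20540) (l := 6) rfl N20540 D37889
theorem N21963 : nd 21963 = n37890 := ndS (p := 20541) (l := 7) rfl N20541 D37890
theorem N21964 : nd 21964 = n37891 := ndS (p := 20542) (l := 4) rfl N20542 D37891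
theorem N21965 : nd 21965 = n37892 := ndS (p := 20543) (l := 5) rfl N20543 D37892
theorem N21966 : nd 21966 = n37893 := ndS (p := 20543) (l := 9) rfl N20543 D37893
theorem N21967 : nd 21967 = n37894 := ndS (p := 20544) (l := 4) rfl N20544 D37894
theorem N21968 : nd 21968 = n37895 := ndS (p := 20544) (l := 6) rfl N20544 D37895
theorem N21969 : nd 21969 = n37896 := ndS (p := 20544) (l := 9) rfl N20544 D37896
theorem N21970 : nd 21970 = n37897 := ndS (p := 20546) (l := 7) rfl N20546 D37897
theorem N21971 : nd 21971 = n37898 := ndS (p := 20546) (l := 9) rfl N20546 D37898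
theorem N21972 : nd 21972 = n37899 := ndS (p := 20548) (l := 9) rfl N20548 D37899
theorem N21973 : nd 21973 = n37900 := ndS (p := 20550) (l := 3) rfl N20550 D37900
theorem N21974 : nd 21974 = n37901 := ndS (p := 20550) (l := 9) rfl N20550 D37901
theorem N21975 : nd 21975 = n37902 := ndS (p := 20552) (l := 2) rfl N20552 D37902
theorem N21976 : nd 21976 = n37903 := ndS (p := 20552) (l := 9) rfl N20552 D37903
theorem N21977 : nd 21977 = n37904 := ndS (p := 20555) (l := 5) rfl N20555 D37904
theorem N21978 : nd 21978 = n37905 := ndS (p := 20556) (l := 4) rfl N20556 D37905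
theorem N21979 : nd 21979 = n37906 := ndS (p := 20556) (l := 6) rfl N20556 D37906
theorem N21980 : nd 21980 = n37907 := ndS (p := 20557) (l := 7) rfl N20557 D37907
theorem N21981 : nd 21981 = n37908 := ndS (p := 20559) (l := 3) rfl N20559 D37908
theorem N21982 : nd 21982 = n37909 := ndS (p := 20560) (l := 4) rfl N20560 D37909
theorem N21983 : nd 21983 = n37910 := ndS (p := 20560) (l := 6) rfl N20560 D37910
theorem N21984 : nd 21984 = n37911 := ndS (p := 20561) (l := 3) rfl N20561 D37911
theorem N21985 : nd 21985 = n37912 := ndS (p := 20561) (l := 6) rfl N20561 D37912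
theorem N21986 : nd 21986 = n37913 := ndS (p := 20561) (l := 9) rfl N20561 D37913
theorem N21987 : nd 21987 = n37914 := ndS (p := 20562) (l := 7) rfl N20562 D37914
theorem N21988 : nd 21988 = n37915 := ndS (p := 20562) (l := 9) rfl N20562 D37915
theorem N21989 : nd 21989 = n37916 := ndS (p := 20564) (l := 9) rfl N20564 D37916
theorem N21990 : nd 21990 = n37917 := ndS (p := 20567) (l := 2) rfl N20567 D37917
theorem N21991 : nd 21991 = n37918 := ndS (p := 20567) (l := 9) rfl N20567 D37918
theorem N21992 : nd 21992 = n37919 := ndS (p := 20571) (l := 3) rfl N20571 D37919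
theorem N21993 : nd 21993 = n37920 := ndS (p := 20571) (l := 6) rfl N20571 D37920
theorem N21994 : nd 21994 = n37921 := ndS (p := 20572) (l := 7) rfl N20572 D37921
theorem N21995 : nd 21995 = n37922 := ndS (p := 20573) (l := 2) rfl N20573 D37922
theorem N21996 : nd 21996 = n37923 := ndS (p := 20573) (l := 6) rfl N20573 D37923
theorem N21997 : nd 21997 = n37924 := ndS (p := 20573) (l := 9) rfl N20573 D37924
theorem N21998 : nd 21998 = n37925 := ndS (p := 20574) (l := 7) rfl N20574 D37925
theorem N21999 : nd 21999 = n37926 := ndS (p := 20574) (l := 9) rfl N20574 D37926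
theorem N22000 : nd 22000 = n37927 := ndS (p := 20576) (l := 9) rfl N20576 D37927
theorem N22001 : nd 22001 = n37928 := ndS (p := 20583) (l := 5) rfl N20583 D37928
theorem N22002 : nd 22002 = n37929 := ndS (p := 20584) (l := 8) rfl N20584 D37929
theorem N22003 : nd 22003 = n37930 := ndS (p := 20585) (l := 4) rfl N20585 D37930
theorem N22004 : nd 22004 = n37931 := ndS (p := 20588) (l := 4) rfl N20588 D37931
theorem N22005 : nd 22005 = n37932 := ndS (p := 20588) (l := 8) rfl N20588 D37932
theorem N22006 : nd 22006 = n37933 := ndS (p := 20589) (l := 5) rfl N20589 D37933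
theorem N22007 : nd 22007 = n37934 := ndS (p := 20590) (l := 5) rfl N20590 D37934
theorem N22008 : nd 22008 = n37935 := ndS (p := 20590) (l := 9) rfl N20590 D37935
theorem N22009 : nd 22009 = n37936 := ndS (p := 20591) (l := 4) rfl N20591 D37936
theorem N22010 : nd 22010 = n37937 := ndS (p := 20592) (l := 3) rfl N20592 D37937
theorem N22011 : nd 22011 = n37938 := ndS (p := 20597) (l := 2) rfl N20597 D37938
theorem N22012 : nd 22012 = n37939 := ndS (p := 20599) (l := 8) rfl N20599 D37939
theorem N22013 : nd 22013 = n37940 := ndS (p := 20601) (l := 7) rfl N20601 D37940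
theorem N22014 : nd 22014 = n37941 := ndS (p := 20602) (l := 6) rfl N20602 D37941
theorem N22015 : nd 22015 = n37942 := ndS (p := 20603) (l := 7) rfl N20603 D37942
theorem N22016 : nd 22016 = n37943 := ndS (p := 20604) (l := 6) rfl N20604 D37943
theorem N22017 : nd 22017 = n37944 := ndS (p := 20606) (l := 5) rfl N20606 D37944
theorem N22018 : nd 22018 = n37945 := ndS (p := 20606) (l := 8) rfl N20606 D37945
theorem N22019 : nd 22019 = n37946 := ndS (p := 20608) (l := 5) rfl N20608 D37946
theorem N22020 : nd 22020 = n37947 := ndS (p := 20610) (l := 4) rfl N20610 D37947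
theorem N22021 : nd 22021 = n37948 := ndS (p := 20611) (l := 7) rfl N20611 D37948
theorem N22022 : nd 22022 = n37949 := ndS (p := 20611) (l := 8) rfl N20611 D37949
theorem N22023 : nd 22023 = n37950 := ndS (p := 20612) (l := 6) rfl N20612 D37950
theorem N22024 : nd 22024 = n37951 := ndS (p := 20612) (l := 8) rfl N20612 D37951
theorem N22025 : nd 22025 = n37952 := ndS (p := 20613) (l := 5) rfl N20613 D37952
theorem N22026 : nd 22026 = n37953 := ndS (p := 20613) (l := 9) rfl N20613 D37953
theorem N22027 : nd 22027 = n37954 := ndS (p := 20614) (l := 8) rfl N20614 D37954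
theorem N22028 : nd 22028 = n37955 := ndS (p := 20615) (l := 9) rfl N20615 D37955
theorem N22029 : nd 22029 = n37956 := ndS (p := 20617) (l := 5) rfl N20617 D37956
theorem N22030 : nd 22030 = n37957 := ndS (p := 20617) (l := 8) rfl N20617 D37957
theorem N22031 : nd 22031 = n37958 := ndS (p := 20618) (l := 5) rfl N20618 D37958
theorem N22032 : nd 22032 = n37959 := ndS (p := 20618) (l := 9) rfl N20618 D37959
theorem N22033 : nd 22033 = n37960 := ndS (p := 20619) (l := 6) rfl N20619 D37960
theorem N22034 : nd 22034 = n37961 := ndS (p := 20619) (l := 9) rfl N20619 D37961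
theorem N22035 : nd 22035 = n37962 := ndS (p := 20621) (l := 5) rfl N20621 D37962
theorem N22036 : nd 22036 = n37963 := ndS (p := 20621) (l := 9) rfl N20621 D37963
theorem N22037 : nd 22037 = n37964 := ndS (p := 20623) (l := 4) rfl N20623 D37964
theorem N22038 : nd 22038 = n37965 := ndS (p := 20623) (l := 9) rfl N20623 D37965
theorem N22039 : nd 22039 = n37966 := ndS (p := 20625) (l := 6) rfl N20625 D37966
theorem N22040 : nd 22040 = n37967 := ndS (p := 20625) (l := 8) rfl N20625 D37967
theorem N22041 : nd 22041 = n37968 := ndS (p := 20627) (l := 5) rfl N20627 D37968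
theorem N22042 : nd 22042 = n37969 := ndS (p := 20627) (l := 8) rfl N20627 D37969
theorem N22043 : nd 22043 = n37970 := ndS (p := 20628) (l := 9) rfl N20628 D37970
theorem N22044 : nd 22044 = n37971 := ndS (p := 20630) (l := 5) rfl N20630 D37971
theorem N22045 : nd 22045 = n37972 := ndS (p := 20630) (l := 9) rfl N20630 D37972
theorem N22046 : nd 22046 = n37973 := ndS (p := 20632) (l := 8) rfl N20632 D37973
theorem N22047 : nd 22047 = n37974 := ndS (p := 20633) (l := 5) rfl N20633 D37974
theorem N22048 : nd 22048 = n37975 := ndS (p := 20633) (l := 9) rfl N20633 D37975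
theorem N22049 : nd 22049 = n37976 := ndS (p := 20634) (l := 6) rfl N20634 D37976
theorem N22050 : nd 22050 = n37977 := ndS (p := 20636) (l := 7) rfl N20636 D37977
theorem N22051 : nd 22051 = n37978 := ndS (p := 20637) (l := 4) rfl N20637 D37978
theorem N22052 : nd 22052 = n37979 := ndS (p := 20637) (l := 9) rfl N20637 D37979
theorem N22053 : nd 22053 = n37980 := ndS (p := 20639) (l := 3) rfl N20639 D37980
theorem N22054 : nd 22054 = n37981 := ndS (p := 20640) (l := 8) rfl N20640 D37981
theorem N22055 : nd 22055 = n37982 := ndS (p := 20641) (l := 4) rfl N20641 D37982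
theorem N22056 : nd 22056 = n37983 := ndS (p := 20641) (l := 9) rfl N20641 D37983
theorem N22057 : nd 22057 = n37984 := ndS (p := 20643) (l := 4) rfl N20643 D37984
theorem N22058 : nd 22058 = n37985 := ndS (p := 20643) (l := 6) rfl N20643 D37985
theorem N22059 : nd 22059 = n37986 := ndS (p := 20644) (l := 7) rfl N20644 D37986
theorem N22060 : nd 22060 = n37987 := ndS (p := 20646) (l := 3) rfl N20646 D37987
theorem N22061 : nd 22061 = n37988 := ndS (p := 20646) (l := 9) rfl N20646 D37988
theorem N22062 : nd 22062 = n37989 := ndS (p := 20647) (l := 8) rfl N20647 D37989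
theorem N22063 : nd 22063 = n37990 := ndS (p := 20648) (l := 2) rfl N20648 D37990
theorem N22064 : nd 22064 = n37991 := ndS (p := 20650) (l := 7) rfl N20650 D37991
theorem N22065 : nd 22065 = n37992 := ndS (p := 20653) (l := 7) rfl N20653 D37992
theorem N22066 : nd 22066 = n37993 := ndS (p := 20653) (l := 8) rfl N20653 D37993
theorem N22067 : nd 22067 = n37994 := ndS (p := 20654) (l := 6) rfl N20654 D37994
theorem N22068 : nd 22068 = n37995 := ndS (p := 20654) (l := 8) rfl N20654 D37995
theorem N22069 : nd 22069 = n37996 := ndS (p := 20655) (l := 5) rfl N20655 D37996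
theorem N22070 : nd 22070 = n37997 := ndS (p := 20655) (l := 9) rfl N20655 D37997
theorem N22071 : nd 22071 = n37998 := ndS (p := 20656) (l := 8) rfl N20656 D37998
theorem N22072 : nd 22072 = n37999 := ndS (p := 20657) (l := 9) rfl N20657 D37999
theorem N22073 : nd 22073 = n38000 := ndS (p := 20659) (l := 5) rfl N20659 D38000
theorem N22074 : nd 22074 = n38001 := ndS (p := 20659) (l := 8) rfl N20659 D38001
theorem N22075 : nd 22075 = n38002 := ndS (p := 20660) (l := 5) rfl N20660 D38002
theorem N22076 : nd 22076 = n38003 := ndS (p := 20660) (l := 9) rfl N20660 D38003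
theorem N22077 : nd 22077 = n38004 := ndS (p := 20661) (l := 6) rfl N20661 D38004
theorem N22078 : nd 22078 = n38005 := ndS (p := 20661) (l := 9) rfl N20661 D38005
theorem N22079 : nd 22079 = n38006 := ndS (p := 20663) (l := 5) rfl N20663 D38006
theorem N22080 : nd 22080 = n38007 := ndS (p := 20663) (l := 9) rfl N20663 D38007
theorem N22081 : nd 22081 = n38008 := ndS (p := 20665) (l := 4) rfl N20665 D38008
theorem N22082 : nd 22082 = n38009 := ndS (p := 20668) (l := 6) rfl N20668 D38009
theorem N22083 : nd 22083 = n38010 := ndS (p := 20670) (l := 5) rfl N20670 D38010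
theorem N22084 : nd 22084 = n38011 := ndS (p := 20670) (l := 8) rfl N20670 D38011
theorem N22085 : nd 22085 = n38012 := ndS (p := 20671) (l := 5) rfl N20671 D38012
theorem N22086 : nd 22086 = n38013 := ndS (p := 20673) (l := 5) rfl N20673 D38013
theorem N22087 : nd 22087 = n38014 := ndS (p := 20674) (l := 4) rfl N20674 D38014
theorem N22088 : nd 22088 = n38015 := ndS (p := 20675) (l := 4) rfl N20675 D38015
theorem N22089 : nd 22089 = n38016 := ndS (p := 20675) (l := 7) rfl N20675 D38016
theorem N22090 : nd 22090 = n38017 := ndS (p := 20677) (l := 3) rfl N20677 D38017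
theorem N22091 : nd 22091 = n38018 := ndS (p := 20677) (l := 7) rfl N20677 D38018
theorem N22092 : nd 22092 = n38019 := ndS (p := 20677) (l := 8) rfl N20677 D38019
theorem N22093 : nd 22093 = n38020 := ndS (p := 20678) (l := 6) rfl N20678 D38020
theorem N22094 : nd 22094 = n38021 := ndS (p := 20678) (l := 8) rfl N20678 D38021
theorem N22095 : nd 22095 = n38022 := ndS (p := 20680) (l := 7) rfl N20680 D38022
theorem N22096 : nd 22096 = n38023 := ndS (p := 20681) (l := 6) rfl N20681 D38023
theorem N22097 : nd 22097 = n38024 := ndS (p := 20681) (l := 8) rfl N20681 D38024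
theorem N22098 : nd 22098 = n38025 := ndS (p := 20682) (l := 5) rfl N20682 D38025
theorem N22099 : nd 22099 = n38026 := ndS (p := 20683) (l := 8) rfl N20683 D38026
theorem N22100 : nd 22100 = n38027 := ndS (p := 20685) (l := 5) rfl N20685 D38027
theorem N22101 : nd 22101 = n38028 := ndS (p := 20685) (l := 8) rfl N20685 D38028
theorem N22102 : nd 22102 = n38029 := ndS (p := 20686) (l := 5) rfl N20686 D38029
theorem N22103 : nd 22103 = n38030 := ndS (p := 20686) (l := 9) rfl N20686 D38030
theorem N22104 : nd 22104 = n38031 := ndS (p := 20687) (l := 6) rfl N20687 D38031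
theorem N22105 : nd 22105 = n38032 := ndS (p := 20687) (l := 9) rfl N20687 D38032
theorem N22106 : nd 22106 = n38033 := ndS (p := 20689) (l := 5) rfl N20689 D38033
theorem N22107 : nd 22107 = n38034 := ndS (p := 20689) (l := 9) rfl N20689 D38034
theorem N22108 : nd 22108 = n38035 := ndS (p := 20691) (l := 9) rfl N20691 D38035
theorem N22109 : nd 22109 = n38036 := ndS (p := 20693) (l := 3) rfl N20693 D38036
theorem N22110 : nd 22110 = n38037 := ndS (p := 20693) (l := 7) rfl N20693 D38037
theorem N22111 : nd 22111 = n38038 := ndS (p := 20693) (l := 8) rfl N20693 D38038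
theorem N22112 : nd 22112 = n38039 := ndS (p := 20694) (l := 6) rfl N20694 D38039
theorem N22113 : nd 22113 = n38040 := ndS (p := 20694) (l := 8) rfl N20694 D38040
theorem N22114 : nd 22114 = n38041 := ndS (p := 20696) (l := 2) rfl N20696 D38041
theorem N22115 : nd 22115 = n38042 := ndS (p := 20696) (l := 7) rfl N20696 D38042
theorem N22116 : nd 22116 = n38043 := ndS (p := 20696) (l := 8) rfl N20696 D38043
theorem N22117 : nd 22117 = n38044 := ndS (p := 20697) (l := 6) rfl N20697 D38044
theorem N22118 : nd 22118 = n38045 := ndS (p := 20697) (l := 8) rfl N20697 D38045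
theorem N22119 : nd 22119 = n38046 := ndS (p := 20698) (l := 5) rfl N20698 D38046
theorem N22120 : nd 22120 = n38047 := ndS (p := 20698) (l := 9) rfl N20698 D38047
theorem N22121 : nd 22121 = n38048 := ndS (p := 20699) (l := 8) rfl N20699 D38048
theorem N22122 : nd 22122 = n38049 := ndS (p := 20700) (l := 9) rfl N20700 D38049
theorem N22123 : nd 22123 = n38050 := ndS (p := 20702) (l := 6) rfl N20702 D38050
theorem N22124 : nd 22124 = n38051 := ndS (p := 20702) (l := 8) rfl N20702 D38051
theorem N22125 : nd 22125 = n38052 := ndS (p := 20703) (l := 5) rfl N20703 D38052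
theorem N22126 : nd 22126 = n38053 := ndS (p := 20704) (l := 5) rfl N20704 D38053
theorem N22127 : nd 22127 = n38054 := ndS (p := 20704) (l := 8) rfl N20704 D38054
theorem N22128 : nd 22128 = n38055 := ndS (p := 20705) (l := 5) rfl N20705 D38055
theorem N22129 : nd 22129 = n38056 := ndS (p := 20705) (l := 9) rfl N20705 D38056
theorem N22130 : nd 22130 = n38057 := ndS (p := 20706) (l := 6) rfl N20706 D38057
theorem N22131 : nd 22131 = n38058 := ndS (p := 20706) (l := 9) rfl N20706 D38058
theorem N22132 : nd 22132 = n38059 := ndS (p := 20708) (l := 5) rfl N20708 D38059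
theorem N22133 : nd 22133 = n38060 := ndS (p := 20708) (l := 9) rfl N20708 D38060
theorem N22134 : nd 22134 = n38061 := ndS (p := 20710) (l := 8) rfl N20710 D38061
theorem N22135 : nd 22135 = n38062 := ndS (p := 20711) (l := 5) rfl N20711 D38062
theorem N22136 : nd 22136 = n38063 := ndS (p := 20711) (l := 9) rfl N20711 D38063
theorem N22137 : nd 22137 = n38064 := ndS (p := 20712) (l := 6) rfl N20712 D38064
theorem N22138 : nd 22138 = n38065 := ndS (p := 20712) (l := 9) rfl N20712 D38065
theorem N22139 : nd 22139 = n38066 := ndS (p := 20714) (l := 7) rfl N20714 D38066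
theorem N22140 : nd 22140 = n38067 := ndS (p := 20714) (l := 9) rfl N20714 D38067
theorem N22141 : nd 22141 = n38068 := ndS (p := 20715) (l := 8) rfl N20715 D38068
theorem N22142 : nd 22142 = n38069 := ndS (p := 20716) (l := 4) rfl N20716 D38069
theorem N22143 : nd 22143 = n38070 := ndS (p := 20716) (l := 9) rfl N20716 D38070
theorem N22144 : nd 22144 = n38071 := ndS (p := 20718) (l := 3) rfl N20718 D38071
theorem N22145 : nd 22145 = n38072 := ndS (p := 20719) (l := 8) rfl N20719 D38072
theorem N22146 : nd 22146 = n38073 := ndS (p := 20720) (l := 7) rfl N20720 D38073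
theorem N22147 : nd 22147 = n38074 := ndS (p := 20721) (l := 6) rfl N20721 D38074
theorem N22148 : nd 22148 = n38075 := ndS (p := 20722) (l := 6) rfl N20722 D38075
theorem N22149 : nd 22149 = n38076 := ndS (p := 20724) (l := 5) rfl N20724 D38076
theorem N22150 : nd 22150 = n38077 := ndS (p := 20724) (l := 8) rfl N20724 D38077
theorem N22151 : nd 22151 = n38078 := ndS (p := 20726) (l := 5) rfl N20726 D38078
theorem N22152 : nd 22152 = n38079 := ndS (p := 20727) (l := 4) rfl N20727 D38079
theorem N22153 : nd 22153 = n38080 := ndS (p := 20728) (l := 6) rfl N20728 D38080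
theorem N22154 : nd 22154 = n38081 := ndS (p := 20729) (l := 8) rfl N20729 D38081
theorem N22155 : nd 22155 = n38082 := ndS (p := 20731) (l := 5) rfl N20731 D38082
theorem N22156 : nd 22156 = n38083 := ndS (p := 20731) (l := 8) rfl N20731 D38083
theorem N22157 : nd 22157 = n38084 := ndS (p := 20733) (l := 5) rfl N20733 D38084
theorem N22158 : nd 22158 = n38085 := ndS (p := 20735) (l := 5) rfl N20735 D38085
theorem N22159 : nd 22159 = n38086 := ndS (p := 20736) (l := 8) rfl N20736 D38086
theorem N22160 : nd 22160 = n38087 := ndS (p := 20737) (l := 5) rfl N20737 D38087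
theorem N22161 : nd 22161 = n38088 := ndS (p := 20737) (l := 9) rfl N20737 D38088
theorem N22162 : nd 22162 = n38089 := ndS (p := 20739) (l := 4) rfl N20739 D38089
theorem N22163 : nd 22163 = n38090 := ndS (p := 20739) (l := 9) rfl N20739 D38090
theorem N22164 : nd 22164 = n38091 := ndS (p := 20741) (l := 3) rfl N20741 D38091
theorem N22165 : nd 22165 = n38092 := ndS (p := 20741) (l := 9) rfl N20741 D38092
theorem N22166 : nd 22166 = n38093 := ndS (p := 20742) (l := 8) rfl N20742 D38093
theorem N22167 : nd 22167 = n38094 := ndS (p := 20743) (l := 7) rfl N20743 D38094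
theorem N22168 : nd 22168 = n38095 := ndS (p := 20744) (l := 6) rfl N20744 D38095
theorem N22169 : nd 22169 = n38096 := ndS (p := 20744) (l := 8) rfl N20744 D38096
theorem N22170 : nd 22170 = n38097 := ndS (p := 20746) (l := 7) rfl N20746 D38097
theorem N22171 : nd 22171 = n38098 := ndS (p := 20747) (l := 6) rfl N20747 D38098
theorem N22172 : nd 22172 = n38099 := ndS (p := 20747) (l := 8) rfl N20747 D38099
theorem N22173 : nd 22173 = n38100 := ndS (p := 20748) (l := 5) rfl N20748 D38100
theorem N22174 : nd 22174 = n38101 := ndS (p := 20749) (l := 8) rfl N20749 D38101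
theorem N22175 : nd 22175 = n38102 := ndS (p := 20750) (l := 9) rfl N20750 D38102
theorem N22176 : nd 22176 = n38103 := ndS (p := 20752) (l := 6) rfl N20752 D38103
theorem N22177 : nd 22177 = n38104 := ndS (p := 20752) (l := 8) rfl N20752 D38104
theorem N22178 : nd 22178 = n38105 := ndS (p := 20754) (l := 5) rfl N20754 D38105
theorem N22179 : nd 22179 = n38106 := ndS (p := 20754) (l := 8) rfl N20754 D38106
theorem N22180 : nd 22180 = n38107 := ndS (p := 20755) (l := 5) rfl N20755 D38107
theorem N22181 : nd 22181 = n38108 := ndS (p := 20755) (l := 9) rfl N20755 D38108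
theorem N22182 : nd 22182 = n38109 := ndS (p := 20756) (l := 6) rfl N20756 D38109
theorem N22183 : nd 22183 = n38110 := ndS (p := 20756) (l := 9) rfl N20756 D38110
theorem N22184 : nd 22184 = n38111 := ndS (p := 20758) (l := 5) rfl N20758 D38111
theorem N22185 : nd 22185 = n38112 := ndS (p := 20758) (l := 9) rfl N20758 D38112
theorem N22186 : nd 22186 = n38113 := ndS (p := 20760) (l := 8) rfl N20760 D38113
theorem N22187 : nd 22187 = n38114 := ndS (p := 20761) (l := 5) rfl N20761 D38114
theorem N22188 : nd 22188 = n38115 := ndS (p := 20761) (l := 9) rfl N20761 D38115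
theorem N22189 : nd 22189 = n38116 := ndS (p := 20762) (l := 6) rfl N20762 D38116
theorem N22190 : nd 22190 = n38117 := ndS (p := 20762) (l := 9) rfl N20762 D38117
theorem N22191 : nd 22191 = n38118 := ndS (p := 20764) (l := 7) rfl N20764 D38118
theorem N22192 : nd 22192 = n38119 := ndS (p := 20764) (l := 9) rfl N20764 D38119
theorem N22193 : nd 22193 = n38120 := ndS (p := 20765) (l := 8) rfl N20765 D38120
theorem N22194 : nd 22194 = n38121 := ndS (p := 20766) (l := 4) rfl N20766 D38121
theorem N22195 : nd 22195 = n38122 := ndS (p := 20766) (l := 9) rfl N20766 D38122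
theorem N22196 : nd 22196 = n38123 := ndS (p := 20768) (l := 3) rfl N20768 D38123
theorem N22197 : nd 22197 = n38124 := ndS (p := 20768) (l := 9) rfl N20768 D38124
theorem N22198 : nd 22198 = n38125 := ndS (p := 20769) (l := 8) rfl N20769 D38125
theorem N22199 : nd 22199 = n38126 := ndS (p := 20770) (l := 7) rfl N20770 D38126
theorem N22200 : nd 22200 = n38127 := ndS (p := 20771) (l := 6) rfl N20771 D38127
theorem N22201 : nd 22201 = n38128 := ndS (p := 20771) (l := 8) rfl N20771 D38128
theorem N22202 : nd 22202 = n38129 := ndS (p := 20773) (l := 8) rfl N20773 D38129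
theorem N22203 : nd 22203 = n38130 := ndS (p := 20774) (l := 9) rfl N20774 D38130
theorem N22204 : nd 22204 = n38131 := ndS (p := 20776) (l := 7) rfl N20776 D38131
theorem N22205 : nd 22205 = n38132 := ndS (p := 20776) (l := 8) rfl N20776 D38132
theorem N22206 : nd 22206 = n38133 := ndS (p := 20777) (l := 6) rfl N20777 D38133
theorem N22207 : nd 22207 = n38134 := ndS (p := 20777) (l := 8) rfl N20777 D38134
theorem N22208 : nd 22208 = n38135 := ndS (p := 20779) (l := 5) rfl N20779 D38135
theorem N22209 : nd 22209 = n38136 := ndS (p := 20779) (l := 8) rfl N20779 D38136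
theorem N22210 : nd 22210 = n38137 := ndS (p := 20780) (l := 9) rfl N20780 D38137
theorem N22211 : nd 22211 = n38138 := ndS (p := 20782) (l := 5) rfl N20782 D38138
theorem N22212 : nd 22212 = n38139 := ndS (p := 20782) (l := 9) rfl N20782 D38139
theorem N22213 : nd 22213 = n38140 := ndS (p := 20784) (l := 5) rfl N20784 D38140
theorem N22214 : nd 22214 = n38141 := ndS (p := 20784) (l := 8) rfl N20784 D38141
theorem N22215 : nd 22215 = n38142 := ndS (p := 20785) (l := 5) rfl N20785 D38142
theorem N22216 : nd 22216 = n38143 := ndS (p := 20785) (l := 9) rfl N20785 D38143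
theorem N22217 : nd 22217 = n38144 := ndS (p := 20786) (l := 6) rfl N20786 D38144
theorem N22218 : nd 22218 = n38145 := ndS (p := 20786) (l := 9) rfl N20786 D38145
theorem N22219 : nd 22219 = n38146 := ndS (p := 20788) (l := 8) rfl N20788 D38146
theorem N22220 : nd 22220 = n38147 := ndS (p := 20789) (l := 5) rfl N20789 D38147
theorem N22221 : nd 22221 = n38148 := ndS (p := 20789) (l := 9) rfl N20789 D38148
theorem N22222 : nd 22222 = n38149 := ndS (p := 20790) (l := 6) rfl N20790 D38149
theorem N22223 : nd 22223 = n38150 := ndS (p := 20790) (l := 9) rfl N20790 D38150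
theorem N22224 : nd 22224 = n38151 := ndS (p := 20792) (l := 7) rfl N20792 D38151
theorem N22225 : nd 22225 = n38152 := ndS (p := 20792) (l := 9) rfl N20792 D38152
theorem N22226 : nd 22226 = n38153 := ndS (p := 20793) (l := 8) rfl N20793 D38153
theorem N22227 : nd 22227 = n38154 := ndS (p := 20794) (l := 4) rfl N20794 D38154
theorem N22228 : nd 22228 = n38155 := ndS (p := 20794) (l := 9) rfl N20794 D38155
theorem N22229 : nd 22229 = n38156 := ndS (p := 20796) (l := 5) rfl N20796 D38156
theorem N22230 : nd 22230 = n38157 := ndS (p := 20796) (l := 9) rfl N20796 D38157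
theorem N22231 : nd 22231 = n38158 := ndS (p := 20797) (l := 4) rfl N20797 D38158
theorem N22232 : nd 22232 = n38159 := ndS (p := 20797) (l := 6) rfl N20797 D38159
theorem N22233 : nd 22233 = n38160 := ndS (p := 20797) (l := 9) rfl N20797 D38160
theorem N22234 : nd 22234 = n38161 := ndS (p := 20799) (l := 7) rfl N20799 D38161
theorem N22235 : nd 22235 = n38162 := ndS (p := 20799) (l := 9) rfl N20799 D38162
theorem N22236 : nd 22236 = n38163 := ndS (p := 20800) (l := 8) rfl N20800 D38163
theorem N22237 : nd 22237 = n38164 := ndS (p := 20801) (l := 9) rfl N20801 D38164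
theorem N22238 : nd 22238 = n38165 := ndS (p := 20804) (l := 3) rfl N20804 D38165
theorem N22239 : nd 22239 = n38166 := ndS (p := 20804) (l := 9) rfl N20804 D38166
theorem N22240 : nd 22240 = n38167 := ndS (p := 20805) (l := 8) rfl N20805 D38167
theorem N22241 : nd 22241 = n38168 := ndS (p := 20808) (l := 3) rfl N20808 D38168
theorem N22242 : nd 22242 = n38169 := ndS (p := 20808) (l := 9) rfl N20808 D38169
theorem N22243 : nd 22243 = n38170 := ndS (p := 20809) (l := 8) rfl N20809 D38170
theorem N22244 : nd 22244 = n38171 := ndS (p := 20810) (l := 9) rfl N20810 D38171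
theorem N22245 : nd 22245 = n38172 := ndS (p := 20814) (l := 4) rfl N20814 D38172
theorem N22246 : nd 22246 = n38173 := ndS (p := 20814) (l := 9) rfl N20814 D38173
theorem N22247 : nd 22247 = n38174 := ndS (p := 20816) (l := 4) rfl N20816 D38174
theorem N22248 : nd 22248 = n38175 := ndS (p := 20816) (l := 6) rfl N20816 D38175
theorem N22249 : nd 22249 = n38176 := ndS (p := 20817) (l := 7) rfl N20817 D38176
theorem N22250 : nd 22250 = n38177 := ndS (p := 20817) (l := 9) rfl N20817 D38177
theorem N22251 : nd 22251 = n38178 := ndS (p := 20818) (l := 8) rfl N20818 D38178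
theorem N22252 : nd 22252 = n38179 := ndS (p := 20819) (l := 9) rfl N20819 D38179
theorem N22253 : nd 22253 = n38180 := ndS (p := 20822) (l := 3) rfl N20822 D38180
theorem N22254 : nd 22254 = n38181 := ndS (p := 20822) (l := 9) rfl N20822 D38181
theorem N22255 : nd 22255 = n38182 := ndS (p := 20824) (l := 6) rfl N20824 D38182
theorem N22256 : nd 22256 = n38183 := ndS (p := 20825) (l := 7) rfl N20825 D38183
theorem N22257 : nd 22257 = n38184 := ndS (p := 20826) (l := 9) rfl N20826 D38184
theorem N22258 : nd 22258 = n38185 := ndS (p := 20827) (l := 8) rfl N20827 D38185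
theorem N22259 : nd 22259 = n38186 := ndS (p := 20833) (l := 7) rfl N20833 D38186
theorem N22260 : nd 22260 = n38187 := ndS (p := 20833) (l := 9) rfl N20833 D38187
theorem N22261 : nd 22261 = n38188 := ndS (p := 20837) (l := 5) rfl N20837 D38188
theorem N22262 : nd 22262 = n38189 := ndS (p := 20841) (l := 6) rfl N20841 D38189
theorem N22263 : nd 22263 = n38190 := ndS (p := 20842) (l := 6) rfl N20842 D38190
theorem N22264 : nd 22264 = n38191 := ndS (p := 20843) (l := 8) rfl N20843 D38191
theorem N22265 : nd 22265 = n38192 := ndS (p := 20845) (l := 6) rfl N20845 D38192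
theorem N22266 : nd 22266 = n38193 := ndS (p := 20846) (l := 5) rfl N20846 D38193
theorem N22267 : nd 22267 = n38194 := ndS (p := 20847) (l := 5) rfl N20847 D38194
theorem N22268 : nd 22268 = n38195 := ndS (p := 20851) (l := 6) rfl N20851 D38195
theorem N22269 : nd 22269 = n38196 := ndS (p := 20852) (l := 8) rfl N20852 D38196
theorem N22270 : nd 22270 = n38197 := ndS (p := 20854) (l := 7) rfl N20854 D38197
theorem N22271 : nd 22271 = n38198 := ndS (p := 20855) (l := 6) rfl N20855 D38198
theorem N22272 : nd 22272 = n38199 := ndS (p := 20856) (l := 8) rfl N20856 D38199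
theorem N22273 : nd 22273 = n38200 := ndS (p := 20858) (l := 9) rfl N20858 D38200
theorem N22274 : nd 22274 = n38201 := ndS (p := 20860) (l := 5) rfl N20860 D38201
theorem N22275 : nd 22275 = n38202 := ndS (p := 20860) (l := 8) rfl N20860 D38202
theorem N22276 : nd 22276 = n38203 := ndS (p := 20862) (l := 8) rfl N20862 D38203
theorem N22277 : nd 22277 = n38204 := ndS (p := 20864) (l := 9) rfl N20864 D38204
theorem N22278 : nd 22278 = n38205 := ndS (p := 20872) (l := 5) rfl N20872 D38205
theorem N22279 : nd 22279 = n38206 := ndS (p := 20877) (l := 6) rfl N20877 D38206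
theorem N22280 : nd 22280 = n38207 := ndS (p := 20879) (l := 5) rfl N20879 D38207
theorem N22281 : nd 22281 = n38208 := ndS (p := 20880) (l := 5) rfl N20880 D38208
theorem N22282 : nd 22282 = n38209 := ndS (p := 20880) (l := 8) rfl N20880 D38209
theorem N22283 : nd 22283 = n38210 := ndS (p := 20884) (l := 4) rfl N20884 D38210
theorem N22284 : nd 22284 = n38211 := ndS (p := 20884) (l := 9) rfl N20884 D38211
theorem N22285 : nd 22285 = n38212 := ndS (p := 20890) (l := 7) rfl N20890 D38212
theorem N22286 : nd 22286 = n38213 := ndS (p := 20891) (l := 6) rfl N20891 D38213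
theorem N22287 : nd 22287 = n38214 := ndS (p := 20894) (l := 6) rfl N20894 D38214
theorem N22288 : nd 22288 = n38215 := ndS (p := 20894) (l := 8) rfl N20894 D38215
theorem N22289 : nd 22289 = n38216 := ndS (p := 20896) (l := 8) rfl N20896 D38216
theorem N22290 : nd 22290 = n38217 := ndS (p := 20898) (l := 5) rfl N20898 D38217
theorem N22291 : nd 22291 = n38218 := ndS (p := 20900) (l := 4) rfl N20900 D38218
theorem N22292 : nd 22292 = n38219 := ndS (p := 20900) (l := 8) rfl N20900 D38219
theorem N22293 : nd 22293 = n38220 := ndS (p := 20901) (l := 5) rfl N20901 D38220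
theorem N22294 : nd 22294 = n38221 := ndS (p := 20901) (l := 9) rfl N20901 D38221
theorem N22295 : nd 22295 = n38222 := ndS (p := 20904) (l := 9) rfl N20904 D38222
theorem N22296 : nd 22296 = n38223 := ndS (p := 20909) (l := 4) rfl N20909 D38223
theorem N22297 : nd 22297 = n38224 := ndS (p := 20911) (l := 8) rfl N20911 D38224
theorem N22298 : nd 22298 = n38225 := ndS (p := 20913) (l := 7) rfl N20913 D38225
theorem N22299 : nd 22299 = n38226 := ndS (p := 20914) (l := 6) rfl N20914 D38226
theorem N22300 : nd 22300 = n38227 := ndS (p := 20915) (l := 7) rfl N20915 D38227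
theorem N22301 : nd 22301 = n38228 := ndS (p := 20916) (l := 6) rfl N20916 D38228
theorem N22302 : nd 22302 = n38229 := ndS (p := 20916) (l := 8) rfl N20916 D38229
theorem N22303 : nd 22303 = n38230 := ndS (p := 20918) (l := 8) rfl N20918 D38230
theorem N22304 : nd 22304 = n38231 := ndS (p := 20920) (l := 5) rfl N20920 D38231
theorem N22305 : nd 22305 = n38232 := ndS (p := 20920) (l := 8) rfl N20920 D38232
theorem N22306 : nd 22306 = n38233 := ndS (p := 20923) (l := 3) rfl N20923 D38233
theorem N22307 : nd 22307 = n38234 := ndS (p := 20923) (l := 7) rfl N20923 D38234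
theorem N22308 : nd 22308 = n38235 := ndS (p := 20924) (l := 6) rfl N20924 D38235
theorem N22309 : nd 22309 = n38236 := ndS (p := 20925) (l := 7) rfl N20925 D38236
theorem N22310 : nd 22310 = n38237 := ndS (p := 20926) (l := 6) rfl N20926 D38237
theorem N22311 : nd 22311 = n38238 := ndS (p := 20926) (l := 8) rfl N20926 D38238
theorem N22312 : nd 22312 = n38239 := ndS (p := 20928) (l := 8) rfl N20928 D38239
theorem N22313 : nd 22313 = n38240 := ndS (p := 20930) (l := 5) rfl N20930 D38240
theorem N22314 : nd 22314 = n38241 := ndS (p := 20930) (l := 8) rfl N20930 D38241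
theorem N22315 : nd 22315 = n38242 := ndS (p := 20931) (l := 5) rfl N20931 D38242
theorem N22316 : nd 22316 = n38243 := ndS (p := 20931) (l := 9) rfl N20931 D38243
theorem N22317 : nd 22317 = n38244 := ndS (p := 20932) (l := 6) rfl N20932 D38244
theorem N22318 : nd 22318 = n38245 := ndS (p := 20934) (l := 9) rfl N20934 D38245
theorem N22319 : nd 22319 = n38246 := ndS (p := 20937) (l := 7) rfl N20937 D38246
theorem N22320 : nd 22320 = n38247 := ndS (p := 20938) (l := 6) rfl N20938 D38247
theorem N22321 : nd 22321 = n38248 := ndS (p := 20939) (l := 7) rfl N20939 D38248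
theorem N22322 : nd 22322 = n38249 := ndS (p := 20940) (l := 6) rfl N20940 D38249
theorem N22323 : nd 22323 = n38250 := ndS (p := 20940) (l := 8) rfl N20940 D38250
theorem N22324 : nd 22324 = n38251 := ndS (p := 20942) (l := 8) rfl N20942 D38251
theorem N22325 : nd 22325 = n38252 := ndS (p := 20944) (l := 5) rfl N20944 D38252
theorem N22326 : nd 22326 = n38253 := ndS (p := 20944) (l := 8) rfl N20944 D38253
theorem N22327 : nd 22327 = n38254 := ndS (p := 20945) (l := 5) rfl N20945 D38254
theorem N22328 : nd 22328 = n38255 := ndS (p := 20947) (l := 5) rfl N20947 D38255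
theorem N22329 : nd 22329 = n38256 := ndS (p := 20948) (l := 4) rfl N20948 D38256
theorem N22330 : nd 22330 = n38257 := ndS (p := 20949) (l := 7) rfl N20949 D38257
theorem N22331 : nd 22331 = n38258 := ndS (p := 20950) (l := 6) rfl N20950 D38258
theorem N22332 : nd 22332 = n38259 := ndS (p := 20952) (l := 6) rfl N20952 D38259
theorem N22333 : nd 22333 = n38260 := ndS (p := 20953) (l := 5) rfl N20953 D38260
theorem N22334 : nd 22334 = n38261 := ndS (p := 20953) (l := 8) rfl N20953 D38261
theorem N22335 : nd 22335 = n38262 := ndS (p := 20956) (l := 8) rfl N20956 D38262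
theorem N22336 : nd 22336 = n38263 := ndS (p := 20957) (l := 5) rfl N20957 D38263
theorem N22337 : nd 22337 = n38264 := ndS (p := 20958) (l := 6) rfl N20958 D38264
theorem N22338 : nd 22338 = n38265 := ndS (p := 20959) (l := 7) rfl N20959 D38265
theorem N22339 : nd 22339 = n38266 := ndS (p := 20960) (l := 7) rfl N20960 D38266
theorem N22340 : nd 22340 = n38267 := ndS (p := 20961) (l := 6) rfl N20961 D38267
theorem N22341 : nd 22341 = n38268 := ndS (p := 20963) (l := 5) rfl N20963 D38268
theorem N22342 : nd 22342 = n38269 := ndS (p := 20963) (l := 8) rfl N20963 D38269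
theorem N22343 : nd 22343 = n38270 := ndS (p := 20966) (l := 7) rfl N20966 D38270
theorem N22344 : nd 22344 = n38271 := ndS (p := 20967) (l := 6) rfl N20967 D38271
theorem N22345 : nd 22345 = n38272 := ndS (p := 20968) (l := 2) rfl N20968 D38272
theorem N22346 : nd 22346 = n38273 := ndS (p := 20968) (l := 7) rfl N20968 D38273
theorem N22347 : nd 22347 = n38274 := ndS (p := 20968) (l := 8) rfl N20968 D38274
theorem N22348 : nd 22348 = n38275 := ndS (p := 20969) (l := 6) rfl N20969 D38275
theorem N22349 : nd 22349 = n38276 := ndS (p := 20969) (l := 8) rfl N20969 D38276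
theorem N22350 : nd 22350 = n38277 := ndS (p := 20971) (l := 8) rfl N20971 D38277
theorem N22351 : nd 22351 = n38278 := ndS (p := 20973) (l := 6) rfl N20973 D38278
theorem N22352 : nd 22352 = n38279 := ndS (p := 20973) (l := 8) rfl N20973 D38279
theorem N22353 : nd 22353 = n38280 := ndS (p := 20975) (l := 5) rfl N20975 D38280
theorem N22354 : nd 22354 = n38281 := ndS (p := 20975) (l := 8) rfl N20975 D38281
theorem N22355 : nd 22355 = n38282 := ndS (p := 20976) (l := 5) rfl N20976 D38282
theorem N22356 : nd 22356 = n38283 := ndS (p := 20976) (l := 9) rfl N20976 D38283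
theorem N22357 : nd 22357 = n38284 := ndS (p := 20979) (l := 9) rfl N20979 D38284
theorem N22358 : nd 22358 = n38285 := ndS (p := 20981) (l := 8) rfl N20981 D38285
theorem N22359 : nd 22359 = n38286 := ndS (p := 20982) (l := 5) rfl N20982 D38286
theorem N22360 : nd 22360 = n38287 := ndS (p := 20982) (l := 9) rfl N20982 D38287
theorem N22361 : nd 22361 = n38288 := ndS (p := 20983) (l := 6) rfl N20983 D38288
theorem N22362 : nd 22362 = n38289 := ndS (p := 20983) (l := 9) rfl N20983 D38289
theorem N22363 : nd 22363 = n38290 := ndS (p := 20985) (l := 7) rfl N20985 D38290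
theorem N22364 : nd 22364 = n38291 := ndS (p := 20987) (l := 4) rfl N20987 D38291
theorem N22365 : nd 22365 = n38292 := ndS (p := 20990) (l := 7) rfl N20990 D38292
theorem N22366 : nd 22366 = n38293 := ndS (p := 20991) (l := 6) rfl N20991 D38293
theorem N22367 : nd 22367 = n38294 := ndS (p := 20992) (l := 7) rfl N20992 D38294
theorem N22368 : nd 22368 = n38295 := ndS (p := 20993) (l := 6) rfl N20993 D38295
theorem N22369 : nd 22369 = n38296 := ndS (p := 20995) (l := 5) rfl N20995 D38296
theorem N22370 : nd 22370 = n38297 := ndS (p := 20995) (l := 8) rfl N20995 D38297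
theorem N22371 : nd 22371 = n38298 := ndS (p := 20996) (l := 5) rfl N20996 D38298
theorem N22372 : nd 22372 = n38299 := ndS (p := 20996) (l := 9) rfl N20996 D38299
theorem N22373 : nd 22373 = n38300 := ndS (p := 20999) (l := 5) rfl N20999 D38300
theorem N22374 : nd 22374 = n38301 := ndS (p := 20999) (l := 9) rfl N20999 D38301
theorem N22375 : nd 22375 = n38302 := ndS (p := 21001) (l := 9) rfl N21001 D38302
theorem N22376 : nd 22376 = n38303 := ndS (p := 21003) (l := 6) rfl N21003 D38303
theorem N22377 : nd 22377 = n38304 := ndS (p := 21004) (l := 5) rfl N21004 D38304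
theorem N22378 : nd 22378 = n38305 := ndS (p := 21005) (l := 8) rfl N21005 D38305
theorem N22379 : nd 22379 = n38306 := ndS (p := 21006) (l := 5) rfl N21006 D38306
theorem N22380 : nd 22380 = n38307 := ndS (p := 21006) (l := 9) rfl N21006 D38307
theorem N22381 : nd 22381 = n38308 := ndS (p := 21007) (l := 6) rfl N21007 D38308
theorem N22382 : nd 22382 = n38309 := ndS (p := 21009) (l := 4) rfl N21009 D38309
theorem N22383 : nd 22383 = n38310 := ndS (p := 21011) (l := 6) rfl N21011 D38310
theorem N22384 : nd 22384 = n38311 := ndS (p := 21011) (l := 8) rfl N21011 D38311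
theorem N22385 : nd 22385 = n38312 := ndS (p := 21013) (l := 5) rfl N21013 D38312
theorem N22386 : nd 22386 = n38313 := ndS (p := 21013) (l := 8) rfl N21013 D38313
theorem N22387 : nd 22387 = n38314 := ndS (p := 21015) (l := 5) rfl N21015 D38314
theorem N22388 : nd 22388 = n38315 := ndS (p := 21015) (l := 9) rfl N21015 D38315
theorem N22389 : nd 22389 = n38316 := ndS (p := 21017) (l := 8) rfl N21017 D38316
theorem N22390 : nd 22390 = n38317 := ndS (p := 21018) (l := 5) rfl N21018 D38317
theorem N22391 : nd 22391 = n38318 := ndS (p := 21018) (l := 9) rfl N21018 D38318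
theorem N22392 : nd 22392 = n38319 := ndS (p := 21019) (l := 6) rfl N21019 D38319
theorem N22393 : nd 22393 = n38320 := ndS (p := 21021) (l := 7) rfl N21021 D38320
theorem N22394 : nd 22394 = n38321 := ndS (p := 21022) (l := 4) rfl N21022 D38321
theorem N22395 : nd 22395 = n38322 := ndS (p := 21024) (l := 3) rfl N21024 D38322
theorem N22396 : nd 22396 = n38323 := ndS (p := 21025) (l := 7) rfl N21025 D38323
theorem N22397 : nd 22397 = n38324 := ndS (p := 21026) (l := 6) rfl N21026 D38324
theorem N22398 : nd 22398 = n38325 := ndS (p := 21028) (l := 7) rfl N21028 D38325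
theorem N22399 : nd 22399 = n38326 := ndS (p := 21028) (l := 8) rfl N21028 D38326
theorem N22400 : nd 22400 = n38327 := ndS (p := 21029) (l := 6) rfl N21029 D38327
theorem N22401 : nd 22401 = n38328 := ndS (p := 21029) (l := 8) rfl N21029 D38328
theorem N22402 : nd 22402 = n38329 := ndS (p := 21031) (l := 5) rfl N21031 D38329
theorem N22403 : nd 22403 = n38330 := ndS (p := 21031) (l := 8) rfl N21031 D38330
theorem N22404 : nd 22404 = n38331 := ndS (p := 21034) (l := 5) rfl N21034 D38331
theorem N22405 : nd 22405 = n38332 := ndS (p := 21034) (l := 8) rfl N21034 D38332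
theorem N22406 : nd 22406 = n38333 := ndS (p := 21036) (l := 8) rfl N21036 D38333
theorem N22407 : nd 22407 = n38334 := ndS (p := 21037) (l := 5) rfl N21037 D38334
theorem N22408 : nd 22408 = n38335 := ndS (p := 21037) (l := 9) rfl N21037 D38335
theorem N22409 : nd 22409 = n38336 := ndS (p := 21038) (l := 6) rfl N21038 D38336
theorem N22410 : nd 22410 = n38337 := ndS (p := 21041) (l := 5) rfl N21041 D38337
theorem N22411 : nd 22411 = n38338 := ndS (p := 21041) (l := 9) rfl N21041 D38338
theorem N22412 : nd 22412 = n38339 := ndS (p := 21042) (l := 4) rfl N21042 D38339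
theorem N22413 : nd 22413 = n38340 := ndS (p := 21042) (l := 6) rfl N21042 D38340
theorem N22414 : nd 22414 = n38341 := ndS (p := 21042) (l := 9) rfl N21042 D38341
theorem N22415 : nd 22415 = n38342 := ndS (p := 21044) (l := 7) rfl N21044 D38342
theorem N22416 : nd 22416 = n38343 := ndS (p := 21051) (l := 7) rfl N21051 D38343
theorem N22417 : nd 22417 = n38344 := ndS (p := 21052) (l := 6) rfl N21052 D38344
theorem N22418 : nd 22418 = n38345 := ndS (p := 21053) (l := 7) rfl N21053 D38345
theorem N22419 : nd 22419 = n38346 := ndS (p := 21054) (l := 6) rfl N21054 D38346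
theorem N22420 : nd 22420 = n38347 := ndS (p := 21054) (l := 8) rfl N21054 D38347
theorem N22421 : nd 22421 = n38348 := ndS (p := 21056) (l := 8) rfl N21056 D38348
theorem N22422 : nd 22422 = n38349 := ndS (p := 21058) (l := 6) rfl N21058 D38349
theorem N22423 : nd 22423 = n38350 := ndS (p := 21058) (l := 8) rfl N21058 D38350
theorem N22424 : nd 22424 = n38351 := ndS (p := 21060) (l := 5) rfl N21060 D38351
theorem N22425 : nd 22425 = n38352 := ndS (p := 21060) (l := 8) rfl N21060 D38352
theorem N22426 : nd 22426 = n38353 := ndS (p := 21061) (l := 9) rfl N21061 D38353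
theorem N22427 : nd 22427 = n38354 := ndS (p := 21063) (l := 5) rfl N21063 D38354
theorem N22428 : nd 22428 = n38355 := ndS (p := 21063) (l := 9) rfl N21063 D38355
theorem N22429 : nd 22429 = n38356 := ndS (p := 21065) (l := 8) rfl N21065 D38356
theorem N22430 : nd 22430 = n38357 := ndS (p := 21066) (l := 5) rfl N21066 D38357
theorem N22431 : nd 22431 = n38358 := ndS (p := 21066) (l := 9) rfl N21066 D38358
theorem N22432 : nd 22432 = n38359 := ndS (p := 21067) (l := 6) rfl N21067 D38359
theorem N22433 : nd 22433 = n38360 := ndS (p := 21067) (l := 9) rfl N21067 D38360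
theorem N22434 : nd 22434 = n38361 := ndS (p := 21069) (l := 7) rfl N21069 D38361
theorem N22435 : nd 22435 = n38362 := ndS (p := 21071) (l := 4) rfl N21071 D38362
theorem N22436 : nd 22436 = n38363 := ndS (p := 21071) (l := 9) rfl N21071 D38363
theorem N22437 : nd 22437 = n38364 := ndS (p := 21073) (l := 3) rfl N21073 D38364
theorem N22438 : nd 22438 = n38365 := ndS (p := 21073) (l := 9) rfl N21073 D38365
theorem N22439 : nd 22439 = n38366 := ndS (p := 21074) (l := 8) rfl N21074 D38366
theorem N22440 : nd 22440 = n38367 := ndS (p := 21075) (l := 5) rfl N21075 D38367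
theorem N22441 : nd 22441 = n38368 := ndS (p := 21076) (l := 8) rfl N21076 D38368
theorem N22442 : nd 22442 = n38369 := ndS (p := 21077) (l := 5) rfl N21077 D38369
theorem N22443 : nd 22443 = n38370 := ndS (p := 21078) (l := 6) rfl N21078 D38370
theorem N22444 : nd 22444 = n38371 := ndS (p := 21078) (l := 8) rfl N21078 D38371
theorem N22445 : nd 22445 = n38372 := ndS (p := 21080) (l := 5) rfl N21080 D38372
theorem N22446 : nd 22446 = n38373 := ndS (p := 21080) (l := 8) rfl N21080 D38373
theorem N22447 : nd 22447 = n38374 := ndS (p := 21081) (l := 5) rfl N21081 D38374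
theorem N22448 : nd 22448 = n38375 := ndS (p := 21081) (l := 9) rfl N21081 D38375
theorem N22449 : nd 22449 = n38376 := ndS (p := 21084) (l := 5) rfl N21084 D38376
theorem N22450 : nd 22450 = n38377 := ndS (p := 21084) (l := 9) rfl N21084 D38377
theorem N22451 : nd 22451 = n38378 := ndS (p := 21086) (l := 8) rfl N21086 D38378
theorem N22452 : nd 22452 = n38379 := ndS (p := 21087) (l := 5) rfl N21087 D38379
theorem N22453 : nd 22453 = n38380 := ndS (p := 21087) (l := 9) rfl N21087 D38380
theorem N22454 : nd 22454 = n38381 := ndS (p := 21088) (l := 6) rfl N21088 D38381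
theorem N22455 : nd 22455 = n38382 := ndS (p := 21088) (l := 9) rfl N21088 D38382
theorem N22456 : nd 22456 = n38383 := ndS (p := 21090) (l := 7) rfl N21090 D38383
theorem N22457 : nd 22457 = n38384 := ndS (p := 21092) (l := 4) rfl N21092 D38384
theorem N22458 : nd 22458 = n38385 := ndS (p := 21092) (l := 9) rfl N21092 D38385
theorem N22459 : nd 22459 = n38386 := ndS (p := 21094) (l := 3) rfl N21094 D38386
theorem N22460 : nd 22460 = n38387 := ndS (p := 21097) (l := 7) rfl N21097 D38387
theorem N22461 : nd 22461 = n38388 := ndS (p := 21098) (l := 6) rfl N21098 D38388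
theorem N22462 : nd 22462 = n38389 := ndS (p := 21098) (l := 8) rfl N21098 D38389
theorem N22463 : nd 22463 = n38390 := ndS (p := 21100) (l := 5) rfl N21100 D38390
theorem N22464 : nd 22464 = n38391 := ndS (p := 21100) (l := 8) rfl N21100 D38391
theorem N22465 : nd 22465 = n38392 := ndS (p := 21101) (l := 9) rfl N21101 D38392
theorem N22466 : nd 22466 = n38393 := ndS (p := 21103) (l := 9) rfl N21103 D38393
theorem N22467 : nd 22467 = n38394 := ndS (p := 21105) (l := 5) rfl N21105 D38394
theorem N22468 : nd 22468 = n38395 := ndS (p := 21105) (l := 8) rfl N21105 D38395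
theorem N22469 : nd 22469 = n38396 := ndS (p := 21106) (l := 9) rfl N21106 D38396
theorem N22470 : nd 22470 = n38397 := ndS (p := 21108) (l := 8) rfl N21108 D38397
theorem N22471 : nd 22471 = n38398 := ndS (p := 21109) (l := 5) rfl N21109 D38398
theorem N22472 : nd 22472 = n38399 := ndS (p := 21109) (l := 9) rfl N21109 D38399
theorem N22473 : nd 22473 = n38400 := ndS (p := 21112) (l := 5) rfl N21112 D38400
theorem N22474 : nd 22474 = n38401 := ndS (p := 21112) (l := 9) rfl N21112 D38401
theorem N22475 : nd 22475 = n38402 := ndS (p := 21113) (l := 4) rfl N21113 D38402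
theorem N22476 : nd 22476 = n38403 := ndS (p := 21113) (l := 6) rfl N21113 D38403
theorem N22477 : nd 22477 = n38404 := ndS (p := 21113) (l := 9) rfl N21113 D38404
theorem N22478 : nd 22478 = n38405 := ndS (p := 21115) (l := 7) rfl N21115 D38405
theorem N22479 : nd 22479 = n38406 := ndS (p := 21115) (l := 9) rfl N21115 D38406
theorem N22480 : nd 22480 = n38407 := ndS (p := 21116) (l := 8) rfl N21116 D38407
theorem N22481 : nd 22481 = n38408 := ndS (p := 21119) (l := 3) rfl N21119 D38408
theorem N22482 : nd 22482 = n38409 := ndS (p := 21121) (l := 7) rfl N21121 D38409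
theorem N22483 : nd 22483 = n38410 := ndS (p := 21122) (l := 6) rfl N21122 D38410
theorem N22484 : nd 22484 = n38411 := ndS (p := 21124) (l := 6) rfl N21124 D38411
theorem N22485 : nd 22485 = n38412 := ndS (p := 21125) (l := 5) rfl N21125 D38412
theorem N22486 : nd 22486 = n38413 := ndS (p := 21125) (l := 8) rfl N21125 D38413
theorem N22487 : nd 22487 = n38414 := ndS (p := 21127) (l := 5) rfl N21127 D38414
theorem N22488 : nd 22488 = n38415 := ndS (p := 21128) (l := 8) rfl N21128 D38415
theorem N22489 : nd 22489 = n38416 := ndS (p := 21129) (l := 5) rfl N21129 D38416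
theorem N22490 : nd 22490 = n38417 := ndS (p := 21129) (l := 9) rfl N21129 D38417
theorem N22491 : nd 22491 = n38418 := ndS (p := 21130) (l := 6) rfl N21130 D38418
theorem N22492 : nd 22492 = n38419 := ndS (p := 21132) (l := 4) rfl N21132 D38419
theorem N22493 : nd 22493 = n38420 := ndS (p := 21132) (l := 9) rfl N21132 D38420
theorem N22494 : nd 22494 = n38421 := ndS (p := 21134) (l := 3) rfl N21134 D38421
theorem N22495 : nd 22495 = n38422 := ndS (p := 21136) (l := 5) rfl N21136 D38422
theorem N22496 : nd 22496 = n38423 := ndS (p := 21137) (l := 8) rfl N21137 D38423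
theorem N22497 : nd 22497 = n38424 := ndS (p := 21138) (l := 5) rfl N21138 D38424
theorem N22498 : nd 22498 = n38425 := ndS (p := 21138) (l := 9) rfl N21138 D38425
theorem N22499 : nd 22499 = n38426 := ndS (p := 21139) (l := 4) rfl N21139 D38426
theorem N22500 : nd 22500 = n38427 := ndS (p := 21139) (l := 6) rfl N21139 D38427
theorem N22501 : nd 22501 = n38428 := ndS (p := 21139) (l := 9) rfl N21139 D38428
theorem N22502 : nd 22502 = n38429 := ndS (p := 21142) (l := 3) rfl N21142 D38429
theorem N22503 : nd 22503 = n38430 := ndS (p := 21144) (l := 5) rfl N21144 D38430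
theorem N22504 : nd 22504 = n38431 := ndS (p := 21144) (l := 8) rfl N21144 D38431
theorem N22505 : nd 22505 = n38432 := ndS (p := 21145) (l := 9) rfl N21145 D38432
theorem N22506 : nd 22506 = n38433 := ndS (p := 21147) (l := 8) rfl N21147 D38433
theorem N22507 : nd 22507 = n38434 := ndS (p := 21148) (l := 5) rfl N21148 D38434
theorem N22508 : nd 22508 = n38435 := ndS (p := 21148) (l := 9) rfl N21148 D38435
theorem N22509 : nd 22509 = n38436 := ndS (p := 21150) (l := 4) rfl N21150 D38436
theorem N22510 : nd 22510 = n38437 := ndS (p := 21150) (l := 9) rfl N21150 D38437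
theorem N22511 : nd 22511 = n38438 := ndS (p := 21152) (l := 5) rfl N21152 D38438
theorem N22512 : nd 22512 = n38439 := ndS (p := 21152) (l := 9) rfl N21152 D38439
theorem N22513 : nd 22513 = n38440 := ndS (p := 21153) (l := 4) rfl N21153 D38440
theorem N22514 : nd 22514 = n38441 := ndS (p := 21153) (l := 6) rfl N21153 D38441
theorem N22515 : nd 22515 = n38442 := ndS (p := 21153) (l := 9) rfl N21153 D38442
theorem N22516 : nd 22516 = n38443 := ndS (p := 21155) (l := 7) rfl N21155 D38443
theorem N22517 : nd 22517 = n38444 := ndS (p := 21155) (l := 9) rfl N21155 D38444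
theorem N22518 : nd 22518 = n38445 := ndS (p := 21157) (l := 9) rfl N21157 D38445
theorem N22519 : nd 22519 = n38446 := ndS (p := 21159) (l := 3) rfl N21159 D38446
theorem N22520 : nd 22520 = n38447 := ndS (p := 21159) (l := 9) rfl N21159 D38447
theorem N22521 : nd 22521 = n38448 := ndS (p := 21161) (l := 2) rfl N21161 D38448
theorem N22522 : nd 22522 = n38449 := ndS (p := 21162) (l := 6) rfl N21162 D38449
theorem N22523 : nd 22523 = n38450 := ndS (p := 21162) (l := 8) rfl N21162 D38450
theorem N22524 : nd 22524 = n38451 := ndS (p := 21164) (l := 5) rfl N21164 D38451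
theorem N22525 : nd 22525 = n38452 := ndS (p := 21164) (l := 8) rfl N21164 D38452
theorem N22526 : nd 22526 = n38453 := ndS (p := 21165) (l := 5) rfl N21165 D38453
theorem N22527 : nd 22527 = n38454 := ndS (p := 21165) (l := 9) rfl N21165 D38454
theorem N22528 : nd 22528 = n38455 := ndS (p := 21168) (l := 8) rfl N21168 D38455
theorem N22529 : nd 22529 = n38456 := ndS (p := 21169) (l := 5) rfl N21169 D38456
theorem N22530 : nd 22530 = n38457 := ndS (p := 21169) (l := 9) rfl N21169 D38457
theorem N22531 : nd 22531 = n38458 := ndS (p := 21170) (l := 6) rfl N21170 D38458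
theorem N22532 : nd 22532 = n38459 := ndS (p := 21172) (l := 7) rfl N21172 D38459
theorem N22533 : nd 22533 = n38460 := ndS (p := 21174) (l := 4) rfl N21174 D38460
theorem N22534 : nd 22534 = n38461 := ndS (p := 21174) (l := 8) rfl N21174 D38461
theorem N22535 : nd 22535 = n38462 := ndS (p := 21175) (l := 5) rfl N21175 D38462
theorem N22536 : nd 22536 = n38463 := ndS (p := 21175) (l := 9) rfl N21175 D38463
theorem N22537 : nd 22537 = n38464 := ndS (p := 21176) (l := 6) rfl N21176 D38464
theorem N22538 : nd 22538 = n38465 := ndS (p := 21178) (l := 7) rfl N21178 D38465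
theorem N22539 : nd 22539 = n38466 := ndS (p := 21179) (l := 5) rfl N21179 D38466
theorem N22540 : nd 22540 = n38467 := ndS (p := 21179) (l := 9) rfl N21179 D38467
theorem N22541 : nd 22541 = n38468 := ndS (p := 21180) (l := 4) rfl N21180 D38468
theorem N22542 : nd 22542 = n38469 := ndS (p := 21180) (l := 6) rfl N21180 D38469
theorem N22543 : nd 22543 = n38470 := ndS (p := 21180) (l := 9) rfl N21180 D38470
theorem N22544 : nd 22544 = n38471 := ndS (p := 21182) (l := 7) rfl N21182 D38471
theorem N22545 : nd 22545 = n38472 := ndS (p := 21185) (l := 4) rfl N21185 D38472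
theorem N22546 : nd 22546 = n38473 := ndS (p := 21185) (l := 6) rfl N21185 D38473
theorem N22547 : nd 22547 = n38474 := ndS (p := 21185) (l := 9) rfl N21185 D38474
theorem N22548 : nd 22548 = n38475 := ndS (p := 21187) (l := 3) rfl N21187 D38475
theorem N22549 : nd 22549 = n38476 := ndS (p := 21188) (l := 7) rfl N21188 D38476
theorem N22550 : nd 22550 = n38477 := ndS (p := 21189) (l := 8) rfl N21189 D38477
theorem N22551 : nd 22551 = n38478 := ndS (p := 21193) (l := 7) rfl N21193 D38478
theorem N22552 : nd 22552 = n38479 := ndS (p := 21196) (l := 5) rfl N21196 D38479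
theorem N22553 : nd 22553 = n38480 := ndS (p := 21196) (l := 8) rfl N21196 D38480
theorem N22554 : nd 22554 = n38481 := ndS (p := 21202) (l := 6) rfl N21202 D38481
theorem N22555 : nd 22555 = n38482 := ndS (p := 21202) (l := 8) rfl N21202 D38482
theorem N22556 : nd 22556 = n38483 := ndS (p := 21204) (l := 5) rfl N21204 D38483
theorem N22557 : nd 22557 = n38484 := ndS (p := 21204) (l := 8) rfl N21204 D38484
theorem N22558 : nd 22558 = n38485 := ndS (p := 21205) (l := 9) rfl N21205 D38485
theorem N22559 : nd 22559 = n38486 := ndS (p := 21208) (l := 9) rfl N21208 D38486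
theorem N22560 : nd 22560 = n38487 := ndS (p := 21211) (l := 4) rfl N21211 D38487
theorem N22561 : nd 22561 = n38488 := ndS (p := 21212) (l := 9) rfl N21212 D38488
theorem N22562 : nd 22562 = n38489 := ndS (p := 21215) (l := 6) rfl N21215 D38489
theorem N22563 : nd 22563 = n38490 := ndS (p := 21216) (l := 5) rfl N21216 D38490
theorem N22564 : nd 22564 = n38491 := ndS (p := 21217) (l := 5) rfl N21217 D38491
theorem N22565 : nd 22565 = n38492 := ndS (p := 21220) (l := 4) rfl N21220 D38492
theorem N22566 : nd 22566 = n38493 := ndS (p := 21221) (l := 4) rfl N21221 D38493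
theorem N22567 : nd 22567 = n38494 := ndS (p := 21221) (l := 8) rfl N21221 D38494
theorem N22568 : nd 22568 = n38495 := ndS (p := 21222) (l := 9) rfl N21222 D38495
theorem N22569 : nd 22569 = n38496 := ndS (p := 21226) (l := 3) rfl N21226 D38496
theorem N22570 : nd 22570 = n38497 := ndS (p := 21229) (l := 5) rfl N21229 D38497
theorem N22571 : nd 22571 = n38498 := ndS (p := 21229) (l := 8) rfl N21229 D38498
theorem N22572 : nd 22572 = n38499 := ndS (p := 21230) (l := 9) rfl N21230 D38499
theorem N22573 : nd 22573 = n38500 := ndS (p := 21232) (l := 4) rfl N21232 D38500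
theorem N22574 : nd 22574 = n38501 := ndS (p := 21233) (l := 5) rfl N21233 D38501
theorem N22575 : nd 22575 = n38502 := ndS (p := 21233) (l := 9) rfl N21233 D38502
theorem N22576 : nd 22576 = n38503 := ndS (p := 21235) (l := 9) rfl N21235 D38503
theorem N22577 : nd 22577 = n38504 := ndS (p := 21237) (l := 8) rfl N21237 D38504
theorem N22578 : nd 22578 = n38505 := ndS (p := 21239) (l := 4) rfl N21239 D38505
theorem N22579 : nd 22579 = n38506 := ndS (p := 21239) (l := 9) rfl N21239 D38506
theorem N22580 : nd 22580 = n38507 := ndS (p := 21243) (l := 5) rfl N21243 D38507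
theorem N22581 : nd 22581 = n38508 := ndS (p := 21245) (l := 4) rfl N21245 D38508
theorem N22582 : nd 22582 = n38509 := ndS (p := 21245) (l := 8) rfl N21245 D38509
theorem N22583 : nd 22583 = n38510 := ndS (p := 21247) (l := 8) rfl N21247 D38510
theorem N22584 : nd 22584 = n38511 := ndS (p := 21248) (l := 9) rfl N21248 D38511
theorem N22585 : nd 22585 = n38512 := ndS (p := 21250) (l := 8) rfl N21250 D38512
theorem N22586 : nd 22586 = n38513 := ndS (p := 21252) (l := 4) rfl N21252 D38513
theorem N22587 : nd 22587 = n38514 := ndS (p := 21252) (l := 8) rfl N21252 D38514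
theorem N22588 : nd 22588 = n38515 := ndS (p := 21253) (l := 8) rfl N21253 D38515
theorem N22589 : nd 22589 = n38516 := ndS (p := 21254) (l := 9) rfl N21254 D38516
theorem N22590 : nd 22590 = n38517 := ndS (p := 21256) (l := 5) rfl N21256 D38517
theorem N22591 : nd 22591 = n38518 := ndS (p := 21256) (l := 9) rfl N21256 D38518
theorem N22592 : nd 22592 = n38519 := ndS (p := 21258) (l := 4) rfl N21258 D38519
theorem N22593 : nd 22593 = n38520 := ndS (p := 21259) (l := 3) rfl N21259 D38520
theorem N22594 : nd 22594 = n38521 := ndS (p := 21260) (l := 4) rfl N21260 D38521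
theorem N22595 : nd 22595 = n38522 := ndS (p := 21261) (l := 4) rfl N21261 D38522
theorem N22596 : nd 22596 = n38523 := ndS (p := 21261) (l := 6) rfl N21261 D38523
theorem N22597 : nd 22597 = n38524 := ndS (p := 21262) (l := 7) rfl N21262 D38524
theorem N22598 : nd 22598 = n38525 := ndS (p := 21264) (l := 3) rfl N21264 D38525
theorem N22599 : nd 22599 = n38526 := ndS (p := 21265) (l := 2) rfl N21265 D38526
theorem N22600 : nd 22600 = n38527 := ndS (p := 21266) (l := 3) rfl N21266 D38527
theorem N22601 : nd 22601 = n38528 := ndS (p := 21266) (l := 9) rfl N21266 D38528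
theorem N22602 : nd 22602 = n38529 := ndS (p := 21268) (l := 3) rfl N21268 D38529
theorem N22603 : nd 22603 = n38530 := ndS (p := 21268) (l := 6) rfl N21268 D38530
theorem N22604 : nd 22604 = n38531 := ndS (p := 21268) (l := 9) rfl N21268 D38531
theorem N22605 : nd 22605 = n38532 := ndS (p := 21269) (l := 7) rfl N21269 D38532
theorem N22606 : nd 22606 = n38533 := ndS (p := 21269) (l := 9) rfl N21269 D38533
theorem N22607 : nd 22607 = n38534 := ndS (p := 21271) (l := 9) rfl N21271 D38534
theorem N22608 : nd 22608 = n38535 := ndS (p := 21280) (l := 5) rfl N21280 D38535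
theorem N22609 : nd 22609 = n38536 := ndS (p := 21281) (l := 6) rfl N21281 D38536
theorem N22610 : nd 22610 = n38537 := ndS (p := 21284) (l := 6) rfl N21284 D38537
theorem N22611 : nd 22611 = n38538 := ndS (p := 21285) (l := 7) rfl N21285 D38538
theorem N22612 : nd 22612 = n38539 := ndS (p := 21285) (l := 9) rfl N21285 D38539
theorem N22613 : nd 22613 = n38540 := ndS (p := 21288) (l := 5) rfl N21288 D38540
theorem N22614 : nd 22614 = n38541 := ndS (p := 21289) (l := 4) rfl N21289 D38541
theorem N22615 : nd 22615 = n38542 := ndS (p := 21289) (l := 9) rfl N21289 D38542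
theorem N22616 : nd 22616 = n38543 := ndS (p := 21291) (l := 4) rfl N21291 D38543
theorem N22617 : nd 22617 = n38544 := ndS (p := 21291) (l := 6) rfl N21291 D38544
theorem N22618 : nd 22618 = n38545 := ndS (p := 21291) (l := 9) rfl N21291 D38545
theorem N22619 : nd 22619 = n38546 := ndS (p := 21293) (l := 7) rfl N21293 D38546
theorem N22620 : nd 22620 = n38547 := ndS (p := 21293) (l := 9) rfl N21293 D38547
theorem N22621 : nd 22621 = n38548 := ndS (p := 21296) (l := 9) rfl N21296 D38548
theorem N22622 : nd 22622 = n38549 := ndS (p := 21297) (l := 8) rfl N21297 D38549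
theorem N22623 : nd 22623 = n38550 := ndS (p := 21299) (l := 3) rfl N21299 D38550
theorem N22624 : nd 22624 = n38551 := ndS (p := 21299) (l := 6) rfl N21299 D38551
theorem N22625 : nd 22625 = n38552 := ndS (p := 21302) (l := 8) rfl N21302 D38552
theorem N22626 : nd 22626 = n38553 := ndS (p := 21306) (l := 7) rfl N21306 D38553
theorem N22627 : nd 22627 = n38554 := ndS (p := 21307) (l := 6) rfl N21307 D38554
theorem N22628 : nd 22628 = n38555 := ndS (p := 21309) (l := 6) rfl N21309 D38555
theorem N22629 : nd 22629 = n38556 := ndS (p := 21310) (l := 5) rfl N21310 D38556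
theorem N22630 : nd 22630 = n38557 := ndS (p := 21310) (l := 8) rfl N21310 D38557
theorem N22631 : nd 22631 = n38558 := ndS (p := 21313) (l := 8) rfl N21313 D38558
theorem N22632 : nd 22632 = n38559 := ndS (p := 21314) (l := 5) rfl N21314 D38559
theorem N22633 : nd 22633 = n38560 := ndS (p := 21314) (l := 9) rfl N21314 D38560
theorem N22634 : nd 22634 = n38561 := ndS (p := 21317) (l := 8) rfl N21317 D38561
theorem N22635 : nd 22635 = n38562 := ndS (p := 21318) (l := 8) rfl N21318 D38562
theorem N22636 : nd 22636 = n38563 := ndS (p := 21319) (l := 7) rfl N21319 D38563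
theorem N22637 : nd 22637 = n38564 := ndS (p := 21320) (l := 6) rfl N21320 D38564
theorem N22638 : nd 22638 = n38565 := ndS (p := 21321) (l := 5) rfl N21321 D38565
theorem N22639 : nd 22639 = n38566 := ndS (p := 21322) (l := 5) rfl N21322 D38566
theorem N22640 : nd 22640 = n38567 := ndS (p := 21323) (l := 8) rfl N21323 D38567
theorem N22641 : nd 22641 = n38568 := ndS (p := 21324) (l := 5) rfl N21324 D38568
theorem N22642 : nd 22642 = n38569 := ndS (p := 21324) (l := 9) rfl N21324 D38569
theorem N22643 : nd 22643 = n38570 := ndS (p := 21325) (l := 6) rfl N21325 D38570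
theorem N22644 : nd 22644 = n38571 := ndS (p := 21325) (l := 9) rfl N21325 D38571
theorem N22645 : nd 22645 = n38572 := ndS (p := 21327) (l := 7) rfl N21327 D38572
theorem N22646 : nd 22646 = n38573 := ndS (p := 21327) (l := 9) rfl N21327 D38573
theorem N22647 : nd 22647 = n38574 := ndS (p := 21333) (l := 6) rfl N21333 D38574
theorem N22648 : nd 22648 = n38575 := ndS (p := 21334) (l := 5) rfl N21334 D38575
theorem N22649 : nd 22649 = n38576 := ndS (p := 21336) (l := 4) rfl N21336 D38576
theorem N22650 : nd 22650 = n38577 := ndS (p := 21336) (l := 8) rfl N21336 D38577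
theorem N22651 : nd 22651 = n38578 := ndS (p := 21338) (l := 5) rfl N21338 D38578
theorem N22652 : nd 22652 = n38579 := ndS (p := 21339) (l := 4) rfl N21339 D38579
theorem N22653 : nd 22653 = n38580 := ndS (p := 21340) (l := 8) rfl N21340 D38580
theorem N22654 : nd 22654 = n38581 := ndS (p := 21342) (l := 8) rfl N21342 D38581
theorem N22655 : nd 22655 = n38582 := ndS (p := 21343) (l := 5) rfl N21343 D38582
theorem N22656 : nd 22656 = n38583 := ndS (p := 21343) (l := 9) rfl N21343 D38583
theorem N22657 : nd 22657 = n38584 := ndS (p := 21345) (l := 4) rfl N21345 D38584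
theorem N22658 : nd 22658 = n38585 := ndS (p := 21345) (l := 9) rfl N21345 D38585
theorem N22659 : nd 22659 = n38586 := ndS (p := 21348) (l := 9) rfl N21348 D38586
theorem N22660 : nd 22660 = n38587 := ndS (p := 21350) (l := 6) rfl N21350 D38587
theorem N22661 : nd 22661 = n38588 := ndS (p := 21352) (l := 6) rfl N21352 D38588
theorem N22662 : nd 22662 = n38589 := ndS (p := 21353) (l := 5) rfl N21353 D38589
theorem N22663 : nd 22663 = n38590 := ndS (p := 21354) (l := 8) rfl N21354 D38590
theorem N22664 : nd 22664 = n38591 := ndS (p := 21355) (l := 5) rfl N21355 D38591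
theorem N22665 : nd 22665 = n38592 := ndS (p := 21355) (l := 9) rfl N21355 D38592
theorem N22666 : nd 22666 = n38593 := ndS (p := 21356) (l := 6) rfl N21356 D38593
theorem N22667 : nd 22667 = n38594 := ndS (p := 21358) (l := 4) rfl N21358 D38594
theorem N22668 : nd 22668 = n38595 := ndS (p := 21358) (l := 9) rfl N21358 D38595
theorem N22669 : nd 22669 = n38596 := ndS (p := 21361) (l := 5) rfl N21361 D38596
theorem N22670 : nd 22670 = n38597 := ndS (p := 21362) (l := 5) rfl N21362 D38597
theorem N22671 : nd 22671 = n38598 := ndS (p := 21363) (l := 8) rfl N21363 D38598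
theorem N22672 : nd 22672 = n38599 := ndS (p := 21364) (l := 5) rfl N21364 D38599
theorem N22673 : nd 22673 = n38600 := ndS (p := 21364) (l := 9) rfl N21364 D38600
theorem N22674 : nd 22674 = n38601 := ndS (p := 21365) (l := 4) rfl N21365 D38601
theorem N22675 : nd 22675 = n38602 := ndS (p := 21365) (l := 9) rfl N21365 D38602
theorem N22676 : nd 22676 = n38603 := ndS (p := 21367) (l := 3) rfl N21367 D38603
theorem N22677 : nd 22677 = n38604 := ndS (p := 21367) (l := 9) rfl N21367 D38604
theorem N22678 : nd 22678 = n38605 := ndS (p := 21369) (l := 2) rfl N21369 D38605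
theorem N22679 : nd 22679 = n38606 := ndS (p := 21369) (l := 9) rfl N21369 D38606
theorem N22680 : nd 22680 = n38607 := ndS (p := 21371) (l := 2) rfl N21371 D38607
theorem N22681 : nd 22681 = n38608 := ndS (p := 21371) (l := 9) rfl N21371 D38608
theorem N22682 : nd 22682 = n38609 := ndS (p := 21375) (l := 7) rfl N21375 D38609
theorem N22683 : nd 22683 = n38610 := ndS (p := 21376) (l := 6) rfl N21376 D38610
theorem N22684 : nd 22684 = n38611 := ndS (p := 21378) (l := 6) rfl N21378 D38611
theorem N22685 : nd 22685 = n38612 := ndS (p := 21378) (l := 8) rfl N21378 D38612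
theorem N22686 : nd 22686 = n38613 := ndS (p := 21380) (l := 5) rfl N21380 D38613
theorem N22687 : nd 22687 = n38614 := ndS (p := 21380) (l := 8) rfl N21380 D38614
theorem N22688 : nd 22688 = n38615 := ndS (p := 21381) (l := 5) rfl N21381 D38615
theorem N22689 : nd 22689 = n38616 := ndS (p := 21381) (l := 9) rfl N21381 D38616
theorem N22690 : nd 22690 = n38617 := ndS (p := 21384) (l := 5) rfl N21384 D38617
theorem N22691 : nd 22691 = n38618 := ndS (p := 21384) (l := 9) rfl N21384 D38618
theorem N22692 : nd 22692 = n38619 := ndS (p := 21386) (l := 8) rfl N21386 D38619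
theorem N22693 : nd 22693 = n38620 := ndS (p := 21387) (l := 5) rfl N21387 D38620
theorem N22694 : nd 22694 = n38621 := ndS (p := 21387) (l := 9) rfl N21387 D38621
theorem N22695 : nd 22695 = n38622 := ndS (p := 21388) (l := 6) rfl N21388 D38622
theorem N22696 : nd 22696 = n38623 := ndS (p := 21390) (l := 7) rfl N21390 D38623
theorem N22697 : nd 22697 = n38624 := ndS (p := 21391) (l := 4) rfl N21391 D38624
theorem N22698 : nd 22698 = n38625 := ndS (p := 21391) (l := 9) rfl N21391 D38625
theorem N22699 : nd 22699 = n38626 := ndS (p := 21393) (l := 3) rfl N21393 D38626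
theorem N22700 : nd 22700 = n38627 := ndS (p := 21393) (l := 9) rfl N21393 D38627
theorem N22701 : nd 22701 = n38628 := ndS (p := 21394) (l := 8) rfl N21394 D38628
theorem N22702 : nd 22702 = n38629 := ndS (p := 21395) (l := 7) rfl N21395 D38629
theorem N22703 : nd 22703 = n38630 := ndS (p := 21396) (l := 6) rfl N21396 D38630
theorem N22704 : nd 22704 = n38631 := ndS (p := 21397) (l := 5) rfl N21397 D38631
theorem N22705 : nd 22705 = n38632 := ndS (p := 21397) (l := 8) rfl N21397 D38632
theorem N22706 : nd 22706 = n38633 := ndS (p := 21398) (l := 5) rfl N21398 D38633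
theorem N22707 : nd 22707 = n38634 := ndS (p := 21400) (l := 5) rfl N21400 D38634
theorem N22708 : nd 22708 = n38635 := ndS (p := 21401) (l := 5) rfl N21401 D38635
theorem N22709 : nd 22709 = n38636 := ndS (p := 21402) (l := 8) rfl N21402 D38636
theorem N22710 : nd 22710 = n38637 := ndS (p := 21403) (l := 5) rfl N21403 D38637
theorem N22711 : nd 22711 = n38638 := ndS (p := 21404) (l := 6) rfl N21404 D38638
theorem N22712 : nd 22712 = n38639 := ndS (p := 21405) (l := 7) rfl N21405 D38639
theorem N22713 : nd 22713 = n38640 := ndS (p := 21406) (l := 4) rfl N21406 D38640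
theorem N22714 : nd 22714 = n38641 := ndS (p := 21407) (l := 5) rfl N21407 D38641
theorem N22715 : nd 22715 = n38642 := ndS (p := 21407) (l := 9) rfl N21407 D38642
theorem N22716 : nd 22716 = n38643 := ndS (p := 21408) (l := 4) rfl N21408 D38643
theorem N22717 : nd 22717 = n38644 := ndS (p := 21408) (l := 6) rfl N21408 D38644
theorem N22718 : nd 22718 = n38645 := ndS (p := 21408) (l := 9) rfl N21408 D38645
theorem N22719 : nd 22719 = n38646 := ndS (p := 21410) (l := 7) rfl N21410 D38646
theorem N22720 : nd 22720 = n38647 := ndS (p := 21412) (l := 9) rfl N21412 D38647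
theorem N22721 : nd 22721 = n38648 := ndS (p := 21414) (l := 6) rfl N21414 D38648
theorem N22722 : nd 22722 = n38649 := ndS (p := 21415) (l := 5) rfl N21415 D38649
theorem N22723 : nd 22723 = n38650 := ndS (p := 21416) (l := 8) rfl N21416 D38650
theorem N22724 : nd 22724 = n38651 := ndS (p := 21417) (l := 5) rfl N21417 D38651
theorem N22725 : nd 22725 = n38652 := ndS (p := 21418) (l := 4) rfl N21418 D38652
theorem N22726 : nd 22726 = n38653 := ndS (p := 21419) (l := 4) rfl N21419 D38653
theorem N22727 : nd 22727 = n38654 := ndS (p := 21419) (l := 8) rfl N21419 D38654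
theorem N22728 : nd 22728 = n38655 := ndS (p := 21420) (l := 5) rfl N21420 D38655
theorem N22729 : nd 22729 = n38656 := ndS (p := 21421) (l := 6) rfl N21421 D38656
theorem N22730 : nd 22730 = n38657 := ndS (p := 21422) (l := 7) rfl N21422 D38657
theorem N22731 : nd 22731 = n38658 := ndS (p := 21423) (l := 5) rfl N21423 D38658
theorem N22732 : nd 22732 = n38659 := ndS (p := 21423) (l := 9) rfl N21423 D38659
theorem N22733 : nd 22733 = n38660 := ndS (p := 21424) (l := 4) rfl N21424 D38660
theorem N22734 : nd 22734 = n38661 := ndS (p := 21424) (l := 6) rfl N21424 D38661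
theorem N22735 : nd 22735 = n38662 := ndS (p := 21424) (l := 9) rfl N21424 D38662
theorem N22736 : nd 22736 = n38663 := ndS (p := 21426) (l := 7) rfl N21426 D38663
theorem N22737 : nd 22737 = n38664 := ndS (p := 21426) (l := 9) rfl N21426 D38664
theorem N22738 : nd 22738 = n38665 := ndS (p := 21428) (l := 9) rfl N21428 D38665
theorem N22739 : nd 22739 = n38666 := ndS (p := 21430) (l := 3) rfl N21430 D38666
theorem N22740 : nd 22740 = n38667 := ndS (p := 21430) (l := 9) rfl N21430 D38667
theorem N22741 : nd 22741 = n38668 := ndS (p := 21432) (l := 4) rfl N21432 D38668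
theorem N22742 : nd 22742 = n38669 := ndS (p := 21432) (l := 6) rfl N21432 D38669
theorem N22743 : nd 22743 = n38670 := ndS (p := 21432) (l := 9) rfl N21432 D38670
theorem N22744 : nd 22744 = n38671 := ndS (p := 21434) (l := 3) rfl N21434 D38671
theorem N22745 : nd 22745 = n38672 := ndS (p := 21434) (l := 6) rfl N21434 D38672
theorem N22746 : nd 22746 = n38673 := ndS (p := 21434) (l := 9) rfl N21434 D38673
theorem N22747 : nd 22747 = n38674 := ndS (p := 21435) (l := 7) rfl N21435 D38674
theorem N22748 : nd 22748 = n38675 := ndS (p := 21435) (l := 9) rfl N21435 D38675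
theorem N22749 : nd 22749 = n38676 := ndS (p := 21436) (l := 8) rfl N21436 D38676
theorem N22750 : nd 22750 = n38677 := ndS (p := 21437) (l := 9) rfl N21437 D38677
theorem N22751 : nd 22751 = n38678 := ndS (p := 21440) (l := 2) rfl N21440 D38678
theorem N22752 : nd 22752 = n38679 := ndS (p := 21440) (l := 9) rfl N21440 D38679
theorem N22753 : nd 22753 = n38680 := ndS (p := 21441) (l := 8) rfl N21441 D38680
theorem N22754 : nd 22754 = n38681 := ndS (p := 21443) (l := 1) rfl N21443 D38681
theorem N22755 : nd 22755 = n38682 := ndS (p := 21445) (l := 3) rfl N21445 D38682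
theorem N22756 : nd 22756 = n38683 := ndS (p := 21446) (l := 3) rfl N21446 D38683
theorem N22757 : nd 22757 = n38684 := ndS (p := 21446) (l := 6) rfl N21446 D38684
theorem N22758 : nd 22758 = n38685 := ndS (p := 21446) (l := 9) rfl N21446 D38685
theorem N22759 : nd 22759 = n38686 := ndS (p := 21447) (l := 7) rfl N21447 D38686
theorem N22760 : nd 22760 = n38687 := ndS (p := 21447) (l := 9) rfl N21447 D38687
theorem N22761 : nd 22761 = n38688 := ndS (p := 21449) (l := 9) rfl N21449 D38688
theorem N22762 : nd 22762 = n38689 := ndS (p := 21452) (l := 2) rfl N21452 D38689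
theorem N22763 : nd 22763 = n38690 := ndS (p := 21454) (l := 2) rfl N21454 D38690
theorem N22764 : nd 22764 = n38691 := ndS (p := 21454) (l := 6) rfl N21454 D38691
theorem N22765 : nd 22765 = n38692 := ndS (p := 21454) (l := 9) rfl N21454 D38692
theorem N22766 : nd 22766 = n38693 := ndS (p := 21455) (l := 7) rfl N21455 D38693
theorem N22767 : nd 22767 = n38694 := ndS (p := 21455) (l := 9) rfl N21455 D38694
theorem N22768 : nd 22768 = n38695 := ndS (p := 21457) (l := 9) rfl N21457 D38695
theorem N22769 : nd 22769 = n38696 := ndS (p := 21460) (l := 1) rfl N21460 D38696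
theorem N22770 : nd 22770 = n38697 := ndS (p := 21464) (l := 2) rfl N21464 D38697
theorem N22771 : nd 22771 = n38698 := ndS (p := 21464) (l := 6) rfl N21464 D38698
theorem N22772 : nd 22772 = n38699 := ndS (p := 21465) (l := 7) rfl N21465 D38699
theorem N22773 : nd 22773 = n38700 := ndS (p := 21467) (l := 6) rfl N21467 D38700
theorem N22774 : nd 22774 = n38701 := ndS (p := 21468) (l := 7) rfl N21468 D38701
theorem N22775 : nd 22775 = n38702 := ndS (p := 21468) (l := 9) rfl N21468 D38702
theorem N22776 : nd 22776 = n38703 := ndS (p := 21473) (l := 6) rfl N21473 D38703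
theorem N22777 : nd 22777 = n38704 := ndS (p := 21474) (l := 5) rfl N21474 D38704
theorem N22778 : nd 22778 = n38705 := ndS (p := 21475) (l := 8) rfl N21475 D38705
theorem N22779 : nd 22779 = n38706 := ndS (p := 21476) (l := 4) rfl N21476 D38706
theorem N22780 : nd 22780 = n38707 := ndS (p := 21476) (l := 8) rfl N21476 D38707
theorem N22781 : nd 22781 = n38708 := ndS (p := 21478) (l := 3) rfl N21478 D38708
theorem N22782 : nd 22782 = n38709 := ndS (p := 21479) (l := 5) rfl N21479 D38709
theorem N22783 : nd 22783 = n38710 := ndS (p := 21480) (l := 4) rfl N21480 D38710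
theorem N22784 : nd 22784 = n38711 := ndS (p := 21480) (l := 8) rfl N21480 D38711
theorem N22785 : nd 22785 = n38712 := ndS (p := 21482) (l := 8) rfl N21482 D38712
theorem N22786 : nd 22786 = n38713 := ndS (p := 21483) (l := 5) rfl N21483 D38713
theorem N22787 : nd 22787 = n38714 := ndS (p := 21483) (l := 9) rfl N21483 D38714
theorem N22788 : nd 22788 = n38715 := ndS (p := 21484) (l := 4) rfl N21484 D38715
theorem N22789 : nd 22789 = n38716 := ndS (p := 21487) (l := 3) rfl N21487 D38716
theorem N22790 : nd 22790 = n38717 := ndS (p := 21491) (l := 4) rfl N21491 D38717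
theorem N22791 : nd 22791 = n38718 := ndS (p := 21491) (l := 8) rfl N21491 D38718
theorem N22792 : nd 22792 = n38719 := ndS (p := 21492) (l := 8) rfl N21492 D38719
theorem N22793 : nd 22793 = n38720 := ndS (p := 21494) (l := 5) rfl N21494 D38720
theorem N22794 : nd 22794 = n38721 := ndS (p := 21495) (l := 6) rfl N21495 D38721
theorem N22795 : nd 22795 = n38722 := ndS (p := 21497) (l := 5) rfl N21497 D38722
theorem N22796 : nd 22796 = n38723 := ndS (p := 21498) (l := 8) rfl N21498 D38723
theorem N22797 : nd 22797 = n38724 := ndS (p := 21499) (l := 6) rfl N21499 D38724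
theorem N22798 : nd 22798 = n38725 := ndS (p := 21501) (l := 5) rfl N21501 D38725
theorem N22799 : nd 22799 = n38726 := ndS (p := 21502) (l := 5) rfl N21502 D38726
theorem N22800 : nd 22800 = n38727 := ndS (p := 21503) (l := 8) rfl N21503 D38727
theorem N22801 : nd 22801 = n38728 := ndS (p := 21504) (l := 5) rfl N21504 D38728
theorem N22802 : nd 22802 = n38729 := ndS (p := 21505) (l := 4) rfl N21505 D38729
theorem N22803 : nd 22803 = n38730 := ndS (p := 21506) (l := 6) rfl N21506 D38730
theorem N22804 : nd 22804 = n38731 := ndS (p := 21508) (l := 6) rfl N21508 D38731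
theorem N22805 : nd 22805 = n38732 := ndS (p := 21509) (l := 5) rfl N21509 D38732
theorem N22806 : nd 22806 = n38733 := ndS (p := 21509) (l := 8) rfl N21509 D38733
theorem N22807 : nd 22807 = n38734 := ndS (p := 21511) (l := 5) rfl N21511 D38734
theorem N22808 : nd 22808 = n38735 := ndS (p := 21512) (l := 8) rfl N21512 D38735
theorem N22809 : nd 22809 = n38736 := ndS (p := 21513) (l := 5) rfl N21513 D38736
theorem N22810 : nd 22810 = n38737 := ndS (p := 21513) (l := 9) rfl N21513 D38737
theorem N22811 : nd 22811 = n38738 := ndS (p := 21514) (l := 6) rfl N21514 D38738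
theorem N22812 : nd 22812 = n38739 := ndS (p := 21516) (l := 7) rfl N21516 D38739
theorem N22813 : nd 22813 = n38740 := ndS (p := 21517) (l := 4) rfl N21517 D38740
theorem N22814 : nd 22814 = n38741 := ndS (p := 21517) (l := 9) rfl N21517 D38741
theorem N22815 : nd 22815 = n38742 := ndS (p := 21520) (l := 6) rfl N21520 D38742
theorem N22816 : nd 22816 = n38743 := ndS (p := 21522) (l := 6) rfl N21522 D38743
theorem N22817 : nd 22817 = n38744 := ndS (p := 21523) (l := 5) rfl N21523 D38744
theorem N22818 : nd 22818 = n38745 := ndS (p := 21523) (l := 8) rfl N21523 D38745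
theorem N22819 : nd 22819 = n38746 := ndS (p := 21524) (l := 5) rfl N21524 D38746
theorem N22820 : nd 22820 = n38747 := ndS (p := 21526) (l := 5) rfl N21526 D38747
theorem N22821 : nd 22821 = n38748 := ndS (p := 21527) (l := 8) rfl N21527 D38748
theorem N22822 : nd 22822 = n38749 := ndS (p := 21528) (l := 5) rfl N21528 D38749
theorem N22823 : nd 22823 = n38750 := ndS (p := 21529) (l := 6) rfl N21529 D38750
theorem N22824 : nd 22824 = n38751 := ndS (p := 21530) (l := 7) rfl N21530 D38751
theorem N22825 : nd 22825 = n38752 := ndS (p := 21531) (l := 4) rfl N21531 D38752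
theorem N22826 : nd 22826 = n38753 := ndS (p := 21532) (l := 3) rfl N21532 D38753
theorem N22827 : nd 22827 = n38754 := ndS (p := 21533) (l := 6) rfl N21533 D38754
theorem N22828 : nd 22828 = n38755 := ndS (p := 21535) (l := 6) rfl N21535 D38755
theorem N22829 : nd 22829 = n38756 := ndS (p := 21536) (l := 5) rfl N21536 D38756
theorem N22830 : nd 22830 = n38757 := ndS (p := 21536) (l := 8) rfl N21536 D38757
theorem N22831 : nd 22831 = n38758 := ndS (p := 21539) (l := 5) rfl N21539 D38758
theorem N22832 : nd 22832 = n38759 := ndS (p := 21540) (l := 8) rfl N21540 D38759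
theorem N22833 : nd 22833 = n38760 := ndS (p := 21541) (l := 5) rfl N21541 D38760
theorem N22834 : nd 22834 = n38761 := ndS (p := 21542) (l := 4) rfl N21542 D38761
theorem N22835 : nd 22835 = n38762 := ndS (p := 21543) (l := 5) rfl N21543 D38762
theorem N22836 : nd 22836 = n38763 := ndS (p := 21543) (l := 9) rfl N21543 D38763
theorem N22837 : nd 22837 = n38764 := ndS (p := 21544) (l := 4) rfl N21544 D38764
theorem N22838 : nd 22838 = n38765 := ndS (p := 21546) (l := 4) rfl N21546 D38765
theorem N22839 : nd 22839 = n38766 := ndS (p := 21547) (l := 4) rfl N21547 D38766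
theorem N22840 : nd 22840 = n38767 := ndS (p := 21547) (l := 6) rfl N21547 D38767
theorem N22841 : nd 22841 = n38768 := ndS (p := 21548) (l := 7) rfl N21548 D38768
theorem N22842 : nd 22842 = n38769 := ndS (p := 21550) (l := 9) rfl N21550 D38769
theorem N22843 : nd 22843 = n38770 := ndS (p := 21553) (l := 7) rfl N21553 D38770
theorem N22844 : nd 22844 = n38771 := ndS (p := 21554) (l := 6) rfl N21554 D38771
theorem N22845 : nd 22845 = n38772 := ndS (p := 21556) (l := 6) rfl N21556 D38772
theorem N22846 : nd 22846 = n38773 := ndS (p := 21556) (l := 8) rfl N21556 D38773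
theorem N22847 : nd 22847 = n38774 := ndS (p := 21558) (l := 5) rfl N21558 D38774
theorem N22848 : nd 22848 = n38775 := ndS (p := 21558) (l := 8) rfl N21558 D38775
theorem N22849 : nd 22849 = n38776 := ndS (p := 21559) (l := 5) rfl N21559 D38776
theorem N22850 : nd 22850 = n38777 := ndS (p := 21561) (l := 5) rfl N21561 D38777
theorem N22851 : nd 22851 = n38778 := ndS (p := 21562) (l := 8) rfl N21562 D38778
theorem N22852 : nd 22852 = n38779 := ndS (p := 21563) (l := 5) rfl N21563 D38779
theorem N22853 : nd 22853 = n38780 := ndS (p := 21564) (l := 6) rfl N21564 D38780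
theorem N22854 : nd 22854 = n38781 := ndS (p := 21565) (l := 7) rfl N21565 D38781
theorem N22855 : nd 22855 = n38782 := ndS (p := 21566) (l := 4) rfl N21566 D38782
theorem N22856 : nd 22856 = n38783 := ndS (p := 21567) (l := 3) rfl N21567 D38783
theorem N22857 : nd 22857 = n38784 := ndS (p := 21568) (l := 6) rfl N21568 D38784
theorem N22858 : nd 22858 = n38785 := ndS (p := 21570) (l := 6) rfl N21570 D38785
theorem N22859 : nd 22859 = n38786 := ndS (p := 21571) (l := 5) rfl N21571 D38786
theorem N22860 : nd 22860 = n38787 := ndS (p := 21571) (l := 8) rfl N21571 D38787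
theorem N22861 : nd 22861 = n38788 := ndS (p := 21573) (l := 5) rfl N21573 D38788
theorem N22862 : nd 22862 = n38789 := ndS (p := 21574) (l := 5) rfl N21574 D38789
theorem N22863 : nd 22863 = n38790 := ndS (p := 21574) (l := 8) rfl N21574 D38790
theorem N22864 : nd 22864 = n38791 := ndS (p := 21576) (l := 8) rfl N21576 D38791
theorem N22865 : nd 22865 = n38792 := ndS (p := 21577) (l := 5) rfl N21577 D38792
theorem N22866 : nd 22866 = n38793 := ndS (p := 21577) (l := 9) rfl N21577 D38793
theorem N22867 : nd 22867 = n38794 := ndS (p := 21578) (l := 6) rfl N21578 D38794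
theorem N22868 : nd 22868 = n38795 := ndS (p := 21578) (l := 9) rfl N21578 D38795
theorem N22869 : nd 22869 = n38796 := ndS (p := 21580) (l := 7) rfl N21580 D38796
theorem N22870 : nd 22870 = n38797 := ndS (p := 21582) (l := 4) rfl N21582 D38797
theorem N22871 : nd 22871 = n38798 := ndS (p := 21582) (l := 9) rfl N21582 D38798
theorem N22872 : nd 22872 = n38799 := ndS (p := 21584) (l := 5) rfl N21584 D38799
theorem N22873 : nd 22873 = n38800 := ndS (p := 21584) (l := 9) rfl N21584 D38800
theorem N22874 : nd 22874 = n38801 := ndS (p := 21585) (l := 4) rfl N21585 D38801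
theorem N22875 : nd 22875 = n38802 := ndS (p := 21585) (l := 6) rfl N21585 D38802
theorem N22876 : nd 22876 = n38803 := ndS (p := 21585) (l := 9) rfl N21585 D38803
theorem N22877 : nd 22877 = n38804 := ndS (p := 21587) (l := 7) rfl N21587 D38804
theorem N22878 : nd 22878 = n38805 := ndS (p := 21587) (l := 9) rfl N21587 D38805
theorem N22879 : nd 22879 = n38806 := ndS (p := 21588) (l := 8) rfl N21588 D38806
theorem N22880 : nd 22880 = n38807 := ndS (p := 21591) (l := 3) rfl N21591 D38807
theorem N22881 : nd 22881 = n38808 := ndS (p := 21591) (l := 9) rfl N21591 D38808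
theorem N22882 : nd 22882 = n38809 := ndS (p := 21592) (l := 8) rfl N21592 D38809
theorem N22883 : nd 22883 = n38810 := ndS (p := 21596) (l := 5) rfl N21596 D38810
theorem N22884 : nd 22884 = n38811 := ndS (p := 21597) (l := 8) rfl N21597 D38811
theorem N22885 : nd 22885 = n38812 := ndS (p := 21598) (l := 5) rfl N21598 D38812
theorem N22886 : nd 22886 = n38813 := ndS (p := 21599) (l := 6) rfl N21599 D38813
theorem N22887 : nd 22887 = n38814 := ndS (p := 21600) (l := 7) rfl N21600 D38814
theorem N22888 : nd 22888 = n38815 := ndS (p := 21601) (l := 4) rfl N21601 D38815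
theorem N22889 : nd 22889 = n38816 := ndS (p := 21602) (l := 3) rfl N21602 D38816
theorem N22890 : nd 22890 = n38817 := ndS (p := 21603) (l := 5) rfl N21603 D38817
theorem N22891 : nd 22891 = n38818 := ndS (p := 21604) (l := 5) rfl N21604 D38818
theorem N22892 : nd 22892 = n38819 := ndS (p := 21605) (l := 8) rfl N21605 D38819
theorem N22893 : nd 22893 = n38820 := ndS (p := 21606) (l := 5) rfl N21606 D38820
theorem N22894 : nd 22894 = n38821 := ndS (p := 21607) (l := 4) rfl N21607 D38821
theorem N22895 : nd 22895 = n38822 := ndS (p := 21608) (l := 5) rfl N21608 D38822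
theorem N22896 : nd 22896 = n38823 := ndS (p := 21608) (l := 9) rfl N21608 D38823
theorem N22897 : nd 22897 = n38824 := ndS (p := 21609) (l := 4) rfl N21609 D38824
theorem N22898 : nd 22898 = n38825 := ndS (p := 21609) (l := 6) rfl N21609 D38825
theorem N22899 : nd 22899 = n38826 := ndS (p := 21609) (l := 9) rfl N21609 D38826
theorem N22900 : nd 22900 = n38827 := ndS (p := 21611) (l := 7) rfl N21611 D38827
theorem N22901 : nd 22901 = n38828 := ndS (p := 21613) (l := 3) rfl N21613 D38828
theorem N22902 : nd 22902 = n38829 := ndS (p := 21613) (l := 9) rfl N21613 D38829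
theorem N22903 : nd 22903 = n38830 := ndS (p := 21614) (l := 8) rfl N21614 D38830
theorem N22904 : nd 22904 = n38831 := ndS (p := 21615) (l := 9) rfl N21615 D38831
theorem N22905 : nd 22905 = n38832 := ndS (p := 21618) (l := 6) rfl N21618 D38832
theorem N22906 : nd 22906 = n38833 := ndS (p := 21620) (l := 5) rfl N21620 D38833
theorem N22907 : nd 22907 = n38834 := ndS (p := 21621) (l := 5) rfl N21621 D38834
theorem N22908 : nd 22908 = n38835 := ndS (p := 21622) (l := 5) rfl N21622 D38835
theorem N22909 : nd 22909 = n38836 := ndS (p := 21623) (l := 8) rfl N21623 D38836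
theorem N22910 : nd 22910 = n38837 := ndS (p := 21624) (l := 5) rfl N21624 D38837
theorem N22911 : nd 22911 = n38838 := ndS (p := 21625) (l := 6) rfl N21625 D38838
theorem N22912 : nd 22912 = n38839 := ndS (p := 21626) (l := 4) rfl N21626 D38839
theorem N22913 : nd 22913 = n38840 := ndS (p := 21626) (l := 9) rfl N21626 D38840
theorem N22914 : nd 22914 = n38841 := ndS (p := 21628) (l := 5) rfl N21628 D38841
theorem N22915 : nd 22915 = n38842 := ndS (p := 21628) (l := 9) rfl N21628 D38842
theorem N22916 : nd 22916 = n38843 := ndS (p := 21629) (l := 4) rfl N21629 D38843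
theorem N22917 : nd 22917 = n38844 := ndS (p := 21629) (l := 6) rfl N21629 D38844
theorem N22918 : nd 22918 = n38845 := ndS (p := 21629) (l := 9) rfl N21629 D38845
theorem N22919 : nd 22919 = n38846 := ndS (p := 21631) (l := 7) rfl N21631 D38846
theorem N22920 : nd 22920 = n38847 := ndS (p := 21631) (l := 9) rfl N21631 D38847
theorem N22921 : nd 22921 = n38848 := ndS (p := 21633) (l := 9) rfl N21633 D38848
theorem N22922 : nd 22922 = n38849 := ndS (p := 21635) (l := 3) rfl N21635 D38849
theorem N22923 : nd 22923 = n38850 := ndS (p := 21635) (l := 9) rfl N21635 D38850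
theorem N22924 : nd 22924 = n38851 := ndS (p := 21636) (l := 8) rfl N21636 D38851
theorem N22925 : nd 22925 = n38852 := ndS (p := 21637) (l := 2) rfl N21637 D38852
theorem N22926 : nd 22926 = n38853 := ndS (p := 21637) (l := 9) rfl N21637 D38853
theorem N22927 : nd 22927 = n38854 := ndS (p := 21640) (l := 6) rfl N21640 D38854
theorem N22928 : nd 22928 = n38855 := ndS (p := 21641) (l := 5) rfl N21641 D38855
theorem N22929 : nd 22929 = n38856 := ndS (p := 21641) (l := 8) rfl N21641 D38856
theorem N22930 : nd 22930 = n38857 := ndS (p := 21644) (l := 5) rfl N21644 D38857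
theorem N22931 : nd 22931 = n38858 := ndS (p := 21645) (l := 8) rfl N21645 D38858
theorem N22932 : nd 22932 = n38859 := ndS (p := 21646) (l := 5) rfl N21646 D38859
theorem N22933 : nd 22933 = n38860 := ndS (p := 21647) (l := 6) rfl N21647 D38860
theorem N22934 : nd 22934 = n38861 := ndS (p := 21648) (l := 4) rfl N21648 D38861
theorem N22935 : nd 22935 = n38862 := ndS (p := 21650) (l := 4) rfl N21650 D38862
theorem N22936 : nd 22936 = n38863 := ndS (p := 21650) (l := 8) rfl N21650 D38863
theorem N22937 : nd 22937 = n38864 := ndS (p := 21651) (l := 5) rfl N21651 D38864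
theorem N22938 : nd 22938 = n38865 := ndS (p := 21652) (l := 6) rfl N21652 D38865
theorem N22939 : nd 22939 = n38866 := ndS (p := 21653) (l := 7) rfl N21653 D38866
theorem N22940 : nd 22940 = n38867 := ndS (p := 21654) (l := 5) rfl N21654 D38867
theorem N22941 : nd 22941 = n38868 := ndS (p := 21654) (l := 9) rfl N21654 D38868
theorem N22942 : nd 22942 = n38869 := ndS (p := 21655) (l := 4) rfl N21655 D38869
theorem N22943 : nd 22943 = n38870 := ndS (p := 21655) (l := 6) rfl N21655 D38870
theorem N22944 : nd 22944 = n38871 := ndS (p := 21655) (l := 9) rfl N21655 D38871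
theorem N22945 : nd 22945 = n38872 := ndS (p := 21657) (l := 7) rfl N21657 D38872
theorem N22946 : nd 22946 = n38873 := ndS (p := 21659) (l := 3) rfl N21659 D38873
theorem N22947 : nd 22947 = n38874 := ndS (p := 21659) (l := 9) rfl N21659 D38874
theorem N22948 : nd 22948 = n38875 := ndS (p := 21661) (l := 4) rfl N21661 D38875
theorem N22949 : nd 22949 = n38876 := ndS (p := 21661) (l := 6) rfl N21661 D38876
theorem N22950 : nd 22950 = n38877 := ndS (p := 21661) (l := 9) rfl N21661 D38877
theorem N22951 : nd 22951 = n38878 := ndS (p := 21663) (l := 3) rfl N21663 D38878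
theorem N22952 : nd 22952 = n38879 := ndS (p := 21663) (l := 6) rfl N21663 D38879
theorem N22953 : nd 22953 = n38880 := ndS (p := 21663) (l := 9) rfl N21663 D38880
theorem N22954 : nd 22954 = n38881 := ndS (p := 21664) (l := 7) rfl N21664 D38881
theorem N22955 : nd 22955 = n38882 := ndS (p := 21665) (l := 8) rfl N21665 D38882
theorem N22956 : nd 22956 = n38883 := ndS (p := 21671) (l := 3) rfl N21671 D38883
theorem N22957 : nd 22957 = n38884 := ndS (p := 21671) (l := 6) rfl N21671 D38884
theorem N22958 : nd 22958 = n38885 := ndS (p := 21672) (l := 7) rfl N21672 D38885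
theorem N22959 : nd 22959 = n38886 := ndS (p := 21674) (l := 2) rfl N21674 D38886
theorem N22960 : nd 22960 = n38887 := ndS (p := 21674) (l := 9) rfl N21674 D38887
theorem N22961 : nd 22961 = n38888 := ndS (p := 21678) (l := 4) rfl N21678 D38888
theorem N22962 : nd 22962 = n38889 := ndS (p := 21678) (l := 6) rfl N21678 D38889
theorem N22963 : nd 22963 = n38890 := ndS (p := 21681) (l := 3) rfl N21681 D38890
theorem N22964 : nd 22964 = n38891 := ndS (p := 21681) (l := 6) rfl N21681 D38891
theorem N22965 : nd 22965 = n38892 := ndS (p := 21682) (l := 7) rfl N21682 D38892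
theorem N22966 : nd 22966 = n38893 := ndS (p := 21686) (l := 6) rfl N21686 D38893
theorem N22967 : nd 22967 = n38894 := ndS (p := 21687) (l := 7) rfl N21687 D38894
theorem N22968 : nd 22968 = n38895 := ndS (p := 21688) (l := 7) rfl N21688 D38895
theorem N22969 : nd 22969 = n38896 := ndS (p := 21691) (l := 5) rfl N21691 D38896
theorem N22970 : nd 22970 = n38897 := ndS (p := 21697) (l := 4) rfl N21697 D38897
theorem N22971 : nd 22971 = n38898 := ndS (p := 21701) (l := 4) rfl N21701 D38898
theorem N22972 : nd 22972 = n38899 := ndS (p := 21702) (l := 4) rfl N21702 D38899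
theorem N22973 : nd 22973 = n38900 := ndS (p := 21703) (l := 3) rfl N21703 D38900
theorem N22974 : nd 22974 = n38901 := ndS (p := 21705) (l := 4) rfl N21705 D38901
theorem N22975 : nd 22975 = n38902 := ndS (p := 21706) (l := 8) rfl N21706 D38902
theorem N22976 : nd 22976 = n38903 := ndS (p := 21708) (l := 4) rfl N21708 D38903
theorem N22977 : nd 22977 = n38904 := ndS (p := 21712) (l := 5) rfl N21712 D38904
theorem N22978 : nd 22978 = n38905 := ndS (p := 21713) (l := 8) rfl N21713 D38905
theorem N22979 : nd 22979 = n38906 := ndS (p := 21714) (l := 9) rfl N21714 D38906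
theorem N22980 : nd 22980 = n38907 := ndS (p := 21715) (l := 8) rfl N21715 D38907
theorem N22981 : nd 22981 = n38908 := ndS (p := 21716) (l := 5) rfl N21716 D38908
theorem N22982 : nd 22982 = n38909 := ndS (p := 21716) (l := 9) rfl N21716 D38909
theorem N22983 : nd 22983 = n38910 := ndS (p := 21718) (l := 5) rfl N21718 D38910
theorem N22984 : nd 22984 = n38911 := ndS (p := 21719) (l := 8) rfl N21719 D38911
theorem N22985 : nd 22985 = n38912 := ndS (p := 21720) (l := 5) rfl N21720 D38912
theorem N22986 : nd 22986 = n38913 := ndS (p := 21720) (l := 9) rfl N21720 D38913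
theorem N22987 : nd 22987 = n38914 := ndS (p := 21721) (l := 9) rfl N21721 D38914
theorem N22988 : nd 22988 = n38915 := ndS (p := 21723) (l := 5) rfl N21723 D38915
theorem N22989 : nd 22989 = n38916 := ndS (p := 21724) (l := 8) rfl N21724 D38916
theorem N22990 : nd 22990 = n38917 := ndS (p := 21725) (l := 5) rfl N21725 D38917
theorem N22991 : nd 22991 = n38918 := ndS (p := 21725) (l := 9) rfl N21725 D38918
theorem N22992 : nd 22992 = n38919 := ndS (p := 21726) (l := 4) rfl N21726 D38919
theorem N22993 : nd 22993 = n38920 := ndS (p := 21726) (l := 6) rfl N21726 D38920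
theorem N22994 : nd 22994 = n38921 := ndS (p := 21727) (l := 7) rfl N21727 D38921
theorem N22995 : nd 22995 = n38922 := ndS (p := 21729) (l := 3) rfl N21729 D38922
theorem N22996 : nd 22996 = n38923 := ndS (p := 21731) (l := 4) rfl N21731 D38923
theorem N22997 : nd 22997 = n38924 := ndS (p := 21731) (l := 8) rfl N21731 D38924
theorem N22998 : nd 22998 = n38925 := ndS (p := 21732) (l := 9) rfl N21732 D38925
theorem N22999 : nd 22999 = n38926 := ndS (p := 21733) (l := 9) rfl N21733 D38926
theorem N23000 : nd 23000 = n38927 := ndS (p := 21735) (l := 6) rfl N21735 D38927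
theorem N23001 : nd 23001 = n38928 := ndS (p := 21737) (l := 6) rfl N21737 D38928
theorem N23002 : nd 23002 = n38929 := ndS (p := 21738) (l := 5) rfl N21738 D38929
theorem N23003 : nd 23003 = n38930 := ndS (p := 21739) (l := 8) rfl N21739 D38930
theorem N23004 : nd 23004 = n38931 := ndS (p := 21740) (l := 5) rfl N21740 D38931
theorem N23005 : nd 23005 = n38932 := ndS (p := 21741) (l := 6) rfl N21741 D38932
theorem N23006 : nd 23006 = n38933 := ndS (p := 21742) (l := 4) rfl N21742 D38933
theorem N23007 : nd 23007 = n38934 := ndS (p := 21743) (l := 6) rfl N21743 D38934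
theorem N23008 : nd 23008 = n38935 := ndS (p := 21744) (l := 5) rfl N21744 D38935
theorem N23009 : nd 23009 = n38936 := ndS (p := 21745) (l := 5) rfl N21745 D38936
theorem N23010 : nd 23010 = n38937 := ndS (p := 21745) (l := 8) rfl N21745 D38937
theorem N23011 : nd 23011 = n38938 := ndS (p := 21746) (l := 9) rfl N21746 D38938
theorem N23012 : nd 23012 = n38939 := ndS (p := 21748) (l := 8) rfl N21748 D38939
theorem N23013 : nd 23013 = n38940 := ndS (p := 21749) (l := 5) rfl N21749 D38940
theorem N23014 : nd 23014 = n38941 := ndS (p := 21749) (l := 9) rfl N21749 D38941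
theorem N23015 : nd 23015 = n38942 := ndS (p := 21751) (l := 4) rfl N21751 D38942
theorem N23016 : nd 23016 = n38943 := ndS (p := 21751) (l := 9) rfl N21751 D38943
theorem N23017 : nd 23017 = n38944 := ndS (p := 21753) (l := 5) rfl N21753 D38944
theorem N23018 : nd 23018 = n38945 := ndS (p := 21753) (l := 9) rfl N21753 D38945
theorem N23019 : nd 23019 = n38946 := ndS (p := 21754) (l := 4) rfl N21754 D38946
theorem N23020 : nd 23020 = n38947 := ndS (p := 21754) (l := 6) rfl N21754 D38947
theorem N23021 : nd 23021 = n38948 := ndS (p := 21754) (l := 9) rfl N21754 D38948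
theorem N23022 : nd 23022 = n38949 := ndS (p := 21756) (l := 7) rfl N21756 D38949
theorem N23023 : nd 23023 = n38950 := ndS (p := 21756) (l := 9) rfl N21756 D38950
theorem N23024 : nd 23024 = n38951 := ndS (p := 21757) (l := 8) rfl N21757 D38951
theorem N23025 : nd 23025 = n38952 := ndS (p := 21758) (l := 9) rfl N21758 D38952
theorem N23026 : nd 23026 = n38953 := ndS (p := 21761) (l := 3) rfl N21761 D38953
theorem N23027 : nd 23027 = n38954 := ndS (p := 21761) (l := 9) rfl N21761 D38954
theorem N23028 : nd 23028 = n38955 := ndS (p := 21762) (l := 8) rfl N21762 D38955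
theorem N23029 : nd 23029 = n38956 := ndS (p := 21763) (l := 2) rfl N21763 D38956
theorem N23030 : nd 23030 = n38957 := ndS (p := 21763) (l := 9) rfl N21763 D38957
theorem N23031 : nd 23031 = n38958 := ndS (p := 21766) (l := 9) rfl N21766 D38958
theorem N23032 : nd 23032 = n38959 := ndS (p := 21767) (l := 5) rfl N21767 D38959
theorem N23033 : nd 23033 = n38960 := ndS (p := 21768) (l := 5) rfl N21768 D38960
theorem N23034 : nd 23034 = n38961 := ndS (p := 21769) (l := 8) rfl N21769 D38961
theorem N23035 : nd 23035 = n38962 := ndS (p := 21770) (l := 5) rfl N21770 D38962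
theorem N23036 : nd 23036 = n38963 := ndS (p := 21771) (l := 6) rfl N21771 D38963
theorem N23037 : nd 23037 = n38964 := ndS (p := 21772) (l := 4) rfl N21772 D38964
theorem N23038 : nd 23038 = n38965 := ndS (p := 21774) (l := 5) rfl N21774 D38965
theorem N23039 : nd 23039 = n38966 := ndS (p := 21774) (l := 9) rfl N21774 D38966
theorem N23040 : nd 23040 = n38967 := ndS (p := 21775) (l := 4) rfl N21775 D38967
theorem N23041 : nd 23041 = n38968 := ndS (p := 21775) (l := 6) rfl N21775 D38968
theorem N23042 : nd 23042 = n38969 := ndS (p := 21775) (l := 9) rfl N21775 D38969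
theorem N23043 : nd 23043 = n38970 := ndS (p := 21777) (l := 7) rfl N21777 D38970
theorem N23044 : nd 23044 = n38971 := ndS (p := 21777) (l := 9) rfl N21777 D38971
theorem N23045 : nd 23045 = n38972 := ndS (p := 21778) (l := 8) rfl N21778 D38972
theorem N23046 : nd 23046 = n38973 := ndS (p := 21779) (l := 9) rfl N21779 D38973
theorem N23047 : nd 23047 = n38974 := ndS (p := 21782) (l := 3) rfl N21782 D38974
theorem N23048 : nd 23048 = n38975 := ndS (p := 21782) (l := 9) rfl N21782 D38975
theorem N23049 : nd 23049 = n38976 := ndS (p := 21785) (l := 5) rfl N21785 D38976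
theorem N23050 : nd 23050 = n38977 := ndS (p := 21786) (l := 8) rfl N21786 D38977
theorem N23051 : nd 23051 = n38978 := ndS (p := 21787) (l := 4) rfl N21787 D38978
theorem N23052 : nd 23052 = n38979 := ndS (p := 21787) (l := 8) rfl N21787 D38979
theorem N23053 : nd 23053 = n38980 := ndS (p := 21788) (l := 5) rfl N21788 D38980
theorem N23054 : nd 23054 = n38981 := ndS (p := 21789) (l := 5) rfl N21789 D38981
theorem N23055 : nd 23055 = n38982 := ndS (p := 21789) (l := 9) rfl N21789 D38982
theorem N23056 : nd 23056 = n38983 := ndS (p := 21790) (l := 9) rfl N21790 D38983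
theorem N23057 : nd 23057 = n38984 := ndS (p := 21792) (l := 6) rfl N21792 D38984
theorem N23058 : nd 23058 = n38985 := ndS (p := 21792) (l := 9) rfl N21792 D38985
theorem N23059 : nd 23059 = n38986 := ndS (p := 21794) (l := 7) rfl N21794 D38986
theorem N23060 : nd 23060 = n38987 := ndS (p := 21794) (l := 9) rfl N21794 D38987
theorem N23061 : nd 23061 = n38988 := ndS (p := 21795) (l := 8) rfl N21795 D38988
theorem N23062 : nd 23062 = n38989 := ndS (p := 21797) (l := 8) rfl N21797 D38989
theorem N23063 : nd 23063 = n38990 := ndS (p := 21799) (l := 8) rfl N21799 D38990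
theorem N23064 : nd 23064 = n38991 := ndS (p := 21800) (l := 4) rfl N21800 D38991
theorem N23065 : nd 23065 = n38992 := ndS (p := 21801) (l := 9) rfl N21801 D38992
theorem N23066 : nd 23066 = n38993 := ndS (p := 21802) (l := 3) rfl N21802 D38993
theorem N23067 : nd 23067 = n38994 := ndS (p := 21802) (l := 9) rfl N21802 D38994
theorem N23068 : nd 23068 = n38995 := ndS (p := 21806) (l := 8) rfl N21806 D38995
theorem N23069 : nd 23069 = n38996 := ndS (p := 21807) (l := 4) rfl N21807 D38996
theorem N23070 : nd 23070 = n38997 := ndS (p := 21807) (l := 8) rfl N21807 D38997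
theorem N23071 : nd 23071 = n38998 := ndS (p := 21808) (l := 5) rfl N21808 D38998
theorem N23072 : nd 23072 = n38999 := ndS (p := 21808) (l := 9) rfl N21808 D38999
theorem N23073 : nd 23073 = n39000 := ndS (p := 21809) (l := 4) rfl N21809 D39000
theorem N23074 : nd 23074 = n39001 := ndS (p := 21809) (l := 9) rfl N21809 D39001
theorem N23075 : nd 23075 = n39002 := ndS (p := 21811) (l := 9) rfl N21811 D39002
theorem N23076 : nd 23076 = n39003 := ndS (p := 21813) (l := 4) rfl N21813 D39003
theorem N23077 : nd 23077 = n39004 := ndS (p := 21813) (l := 6) rfl N21813 D39004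
theorem N23078 : nd 23078 = n39005 := ndS (p := 21813) (l := 9) rfl N21813 D39005
theorem N23079 : nd 23079 = n39006 := ndS (p := 21815) (l := 3) rfl N21815 D39006
theorem N23080 : nd 23080 = n39007 := ndS (p := 21815) (l := 6) rfl N21815 D39007
theorem N23081 : nd 23081 = n39008 := ndS (p := 21815) (l := 9) rfl N21815 D39008
theorem N23082 : nd 23082 = n39009 := ndS (p := 21816) (l := 7) rfl N21816 D39009
theorem N23083 : nd 23083 = n39010 := ndS (p := 21816) (l := 9) rfl N21816 D39010
theorem N23084 : nd 23084 = n39011 := ndS (p := 21817) (l := 8) rfl N21817 D39011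
theorem N23085 : nd 23085 = n39012 := ndS (p := 21818) (l := 9) rfl N21818 D39012
theorem N23086 : nd 23086 = n39013 := ndS (p := 21821) (l := 2) rfl N21821 D39013
theorem N23087 : nd 23087 = n39014 := ndS (p := 21824) (l := 8) rfl N21824 D39014
theorem N23088 : nd 23088 = n39015 := ndS (p := 21825) (l := 9) rfl N21825 D39015
theorem N23089 : nd 23089 = n39016 := ndS (p := 21826) (l := 8) rfl N21826 D39016
theorem N23090 : nd 23090 = n39017 := ndS (p := 21827) (l := 5) rfl N21827 D39017
theorem N23091 : nd 23091 = n39018 := ndS (p := 21827) (l := 9) rfl N21827 D39018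
theorem N23092 : nd 23092 = n39019 := ndS (p := 21828) (l := 4) rfl N21828 D39019
theorem N23093 : nd 23093 = n39020 := ndS (p := 21828) (l := 6) rfl N21828 D39020
theorem N23094 : nd 23094 = n39021 := ndS (p := 21828) (l := 9) rfl N21828 D39021
theorem N23095 : nd 23095 = n39022 := ndS (p := 21830) (l := 7) rfl N21830 D39022
theorem N23096 : nd 23096 = n39023 := ndS (p := 21832) (l := 6) rfl N21832 D39023
theorem N23097 : nd 23097 = n39024 := ndS (p := 21832) (l := 9) rfl N21832 D39024
theorem N23098 : nd 23098 = n39025 := ndS (p := 21834) (l := 7) rfl N21834 D39025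
theorem N23099 : nd 23099 = n39026 := ndS (p := 21835) (l := 8) rfl N21835 D39026
theorem N23100 : nd 23100 = n39027 := ndS (p := 21837) (l := 7) rfl N21837 D39027
theorem N23101 : nd 23101 = n39028 := ndS (p := 21837) (l := 9) rfl N21837 D39028
theorem N23102 : nd 23102 = n39029 := ndS (p := 21838) (l := 8) rfl N21838 D39029
theorem N23103 : nd 23103 = n39030 := ndS (p := 21841) (l := 4) rfl N21841 D39030
theorem N23104 : nd 23104 = n39031 := ndS (p := 21844) (l := 5) rfl N21844 D39031
theorem N23105 : nd 23105 = n39032 := ndS (p := 21845) (l := 9) rfl N21845 D39032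
theorem N23106 : nd 23106 = n39033 := ndS (p := 21847) (l := 6) rfl N21847 D39033
theorem N23107 : nd 23107 = n39034 := ndS (p := 21847) (l := 9) rfl N21847 D39034
theorem N23108 : nd 23108 = n39035 := ndS (p := 21849) (l := 3) rfl N21849 D39035
theorem N23109 : nd 23109 = n39036 := ndS (p := 21849) (l := 6) rfl N21849 D39036
theorem N23110 : nd 23110 = n39037 := ndS (p := 21850) (l := 7) rfl N21850 D39037
theorem N23111 : nd 23111 = n39038 := ndS (p := 21854) (l := 3) rfl N21854 D39038
theorem N23112 : nd 23112 = n39039 := ndS (p := 21854) (l := 6) rfl N21854 D39039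
theorem N23113 : nd 23113 = n39040 := ndS (p := 21856) (l := 6) rfl N21856 D39040
theorem N23114 : nd 23114 = n39041 := ndS (p := 21857) (l := 7) rfl N21857 D39041
theorem N23115 : nd 23115 = n39042 := ndS (p := 21857) (l := 9) rfl N21857 D39042
theorem N23116 : nd 23116 = n39043 := ndS (p := 21859) (l := 9) rfl N21859 D39043
theorem N23117 : nd 23117 = n39044 := ndS (p := 21862) (l := 3) rfl N21862 D39044
theorem N23118 : nd 23118 = n39045 := ndS (p := 21862) (l := 9) rfl N21862 D39045
theorem N23119 : nd 23119 = n39046 := ndS (p := 21863) (l := 8) rfl N21863 D39046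
theorem N23120 : nd 23120 = n39047 := ndS (p := 21864) (l := 3) rfl N21864 D39047
theorem N23121 : nd 23121 = n39048 := ndS (p := 21864) (l := 6) rfl N21864 D39048
theorem N23122 : nd 23122 = n39049 := ndS (p := 21864) (l := 9) rfl N21864 D39049
theorem N23123 : nd 23123 = n39050 := ndS (p := 21865) (l := 7) rfl N21865 D39050
theorem N23124 : nd 23124 = n39051 := ndS (p := 21865) (l := 9) rfl N21865 D39051
theorem N23125 : nd 23125 = n39052 := ndS (p := 21866) (l := 8) rfl N21866 D39052
theorem N23126 : nd 23126 = n39053 := ndS (p := 21867) (l := 9) rfl N21867 D39053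
theorem N23127 : nd 23127 = n39054 := ndS (p := 21868) (l := 8) rfl N21868 D39054
theorem N23128 : nd 23128 = n39055 := ndS (p := 21871) (l := 2) rfl N21871 D39055
theorem N23129 : nd 23129 = n39056 := ndS (p := 21871) (l := 9) rfl N21871 D39056
theorem N23130 : nd 23130 = n39057 := ndS (p := 21872) (l := 8) rfl N21872 D39057
theorem N23131 : nd 23131 = n39058 := ndS (p := 21876) (l := 5) rfl N21876 D39058
theorem N23132 : nd 23132 = n39059 := ndS (p := 21877) (l := 5) rfl N21877 D39059
theorem N23133 : nd 23133 = n39060 := ndS (p := 21878) (l := 8) rfl N21878 D39060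
theorem N23134 : nd 23134 = n39061 := ndS (p := 21879) (l := 5) rfl N21879 D39061
theorem N23135 : nd 23135 = n39062 := ndS (p := 21879) (l := 9) rfl N21879 D39062
theorem N23136 : nd 23136 = n39063 := ndS (p := 21880) (l := 6) rfl N21880 D39063
theorem N23137 : nd 23137 = n39064 := ndS (p := 21880) (l := 9) rfl N21880 D39064
theorem N23138 : nd 23138 = n39065 := ndS (p := 21882) (l := 7) rfl N21882 D39065
theorem N23139 : nd 23139 = n39066 := ndS (p := 21882) (l := 9) rfl N21882 D39066
theorem N23140 : nd 23140 = n39067 := ndS (p := 21883) (l := 8) rfl N21883 D39067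
theorem N23141 : nd 23141 = n39068 := ndS (p := 21887) (l := 8) rfl N21887 D39068
theorem N23142 : nd 23142 = n39069 := ndS (p := 21889) (l := 5) rfl N21889 D39069
theorem N23143 : nd 23143 = n39070 := ndS (p := 21890) (l := 4) rfl N21890 D39070
theorem N23144 : nd 23144 = n39071 := ndS (p := 21892) (l := 6) rfl N21892 D39071
theorem N23145 : nd 23145 = n39072 := ndS (p := 21894) (l := 6) rfl N21894 D39072
theorem N23146 : nd 23146 = n39073 := ndS (p := 21895) (l := 5) rfl N21895 D39073
theorem N23147 : nd 23147 = n39074 := ndS (p := 21895) (l := 8) rfl N21895 D39074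
theorem N23148 : nd 23148 = n39075 := ndS (p := 21898) (l := 8) rfl N21898 D39075
theorem N23149 : nd 23149 = n39076 := ndS (p := 21899) (l := 5) rfl N21899 D39076
theorem N23150 : nd 23150 = n39077 := ndS (p := 21899) (l := 9) rfl N21899 D39077
theorem N23151 : nd 23151 = n39078 := ndS (p := 21901) (l := 4) rfl N21901 D39078
theorem N23152 : nd 23152 = n39079 := ndS (p := 21901) (l := 9) rfl N21901 D39079
theorem N23153 : nd 23153 = n39080 := ndS (p := 21904) (l := 9) rfl N21904 D39080
theorem N23154 : nd 23154 = n39081 := ndS (p := 21906) (l := 5) rfl N21906 D39081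
theorem N23155 : nd 23155 = n39082 := ndS (p := 21907) (l := 8) rfl N21907 D39082
theorem N23156 : nd 23156 = n39083 := ndS (p := 21908) (l := 5) rfl N21908 D39083
theorem N23157 : nd 23157 = n39084 := ndS (p := 21909) (l := 4) rfl N21909 D39084
theorem N23158 : nd 23158 = n39085 := ndS (p := 21910) (l := 5) rfl N21910 D39085
theorem N23159 : nd 23159 = n39086 := ndS (p := 21910) (l := 9) rfl N21910 D39086
theorem N23160 : nd 23160 = n39087 := ndS (p := 21911) (l := 4) rfl N21911 D39087
theorem N23161 : nd 23161 = n39088 := ndS (p := 21911) (l := 6) rfl N21911 D39088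
theorem N23162 : nd 23162 = n39089 := ndS (p := 21911) (l := 9) rfl N21911 D39089
theorem N23163 : nd 23163 = n39090 := ndS (p := 21913) (l := 7) rfl N21913 D39090
theorem N23164 : nd 23164 = n39091 := ndS (p := 21915) (l := 9) rfl N21915 D39091
theorem N23165 : nd 23165 = n39092 := ndS (p := 21918) (l := 6) rfl N21918 D39092
theorem N23166 : nd 23166 = n39093 := ndS (p := 21919) (l := 7) rfl N21919 D39093
theorem N23167 : nd 23167 = n39094 := ndS (p := 21923) (l := 6) rfl N21923 D39094
theorem N23168 : nd 23168 = n39095 := ndS (p := 21923) (l := 8) rfl N21923 D39095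
theorem N23169 : nd 23169 = n39096 := ndS (p := 21925) (l := 5) rfl N21925 D39096
theorem N23170 : nd 23170 = n39097 := ndS (p := 21925) (l := 8) rfl N21925 D39097
theorem N23171 : nd 23171 = n39098 := ndS (p := 21926) (l := 5) rfl N21926 D39098
theorem N23172 : nd 23172 = n39099 := ndS (p := 21926) (l := 9) rfl N21926 D39099
theorem N23173 : nd 23173 = n39100 := ndS (p := 21929) (l := 5) rfl N21929 D39100
theorem N23174 : nd 23174 = n39101 := ndS (p := 21929) (l := 9) rfl N21929 D39101
theorem N23175 : nd 23175 = n39102 := ndS (p := 21931) (l := 8) rfl N21931 D39102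
theorem N23176 : nd 23176 = n39103 := ndS (p := 21932) (l := 5) rfl N21932 D39103
theorem N23177 : nd 23177 = n39104 := ndS (p := 21932) (l := 9) rfl N21932 D39104
theorem N23178 : nd 23178 = n39105 := ndS (p := 21933) (l := 6) rfl N21933 D39105
theorem N23179 : nd 23179 = n39106 := ndS (p := 21933) (l := 9) rfl N21933 D39106
theorem N23180 : nd 23180 = n39107 := ndS (p := 21935) (l := 7) rfl N21935 D39107
theorem N23181 : nd 23181 = n39108 := ndS (p := 21937) (l := 4) rfl N21937 D39108
theorem N23182 : nd 23182 = n39109 := ndS (p := 21937) (l := 9) rfl N21937 D39109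
theorem N23183 : nd 23183 = n39110 := ndS (p := 21939) (l := 3) rfl N21939 D39110
theorem N23184 : nd 23184 = n39111 := ndS (p := 21939) (l := 9) rfl N21939 D39111
theorem N23185 : nd 23185 = n39112 := ndS (p := 21940) (l := 8) rfl N21940 D39112
theorem N23186 : nd 23186 = n39113 := ndS (p := 21941) (l := 5) rfl N21941 D39113
theorem N23187 : nd 23187 = n39114 := ndS (p := 21942) (l := 8) rfl N21942 D39114
theorem N23188 : nd 23188 = n39115 := ndS (p := 21943) (l := 5) rfl N21943 D39115
theorem N23189 : nd 23189 = n39116 := ndS (p := 21944) (l := 6) rfl N21944 D39116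
theorem N23190 : nd 23190 = n39117 := ndS (p := 21945) (l := 7) rfl N21945 D39117
theorem N23191 : nd 23191 = n39118 := ndS (p := 21946) (l := 4) rfl N21946 D39118
theorem N23192 : nd 23192 = n39119 := ndS (p := 21947) (l := 5) rfl N21947 D39119
theorem N23193 : nd 23193 = n39120 := ndS (p := 21947) (l := 9) rfl N21947 D39120
theorem N23194 : nd 23194 = n39121 := ndS (p := 21948) (l := 4) rfl N21948 D39121
theorem N23195 : nd 23195 = n39122 := ndS (p := 21948) (l := 6) rfl N21948 D39122
theorem N23196 : nd 23196 = n39123 := ndS (p := 21948) (l := 9) rfl N21948 D39123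
theorem N23197 : nd 23197 = n39124 := ndS (p := 21950) (l := 7) rfl N21950 D39124
theorem N23198 : nd 23198 = n39125 := ndS (p := 21950) (l := 9) rfl N21950 D39125
theorem N23199 : nd 23199 = n39126 := ndS (p := 21952) (l := 9) rfl N21952 D39126
theorem N23200 : nd 23200 = n39127 := ndS (p := 21954) (l := 9) rfl N21954 D39127
theorem N23201 : nd 23201 = n39128 := ndS (p := 21956) (l := 4) rfl N21956 D39128
theorem N23202 : nd 23202 = n39129 := ndS (p := 21956) (l := 8) rfl N21956 D39129
theorem N23203 : nd 23203 = n39130 := ndS (p := 21957) (l := 5) rfl N21957 D39130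
theorem N23204 : nd 23204 = n39131 := ndS (p := 21958) (l := 6) rfl N21958 D39131
theorem N23205 : nd 23205 = n39132 := ndS (p := 21959) (l := 7) rfl N21959 D39132
theorem N23206 : nd 23206 = n39133 := ndS (p := 21960) (l := 5) rfl N21960 D39133
theorem N23207 : nd 23207 = n39134 := ndS (p := 21960) (l := 9) rfl N21960 D39134
theorem N23208 : nd 23208 = n39135 := ndS (p := 21961) (l := 4) rfl N21961 D39135
theorem N23209 : nd 23209 = n39136 := ndS (p := 21961) (l := 6) rfl N21961 D39136
theorem N23210 : nd 23210 = n39137 := ndS (p := 21962) (l := 7) rfl N21962 D39137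
theorem N23211 : nd 23211 = n39138 := ndS (p := 21964) (l := 3) rfl N21964 D39138
theorem N23212 : nd 23212 = n39139 := ndS (p := 21965) (l := 4) rfl N21965 D39139
theorem N23213 : nd 23213 = n39140 := ndS (p := 21965) (l := 6) rfl N21965 D39140
theorem N23214 : nd 23214 = n39141 := ndS (p := 21965) (l := 9) rfl N21965 D39141
theorem N23215 : nd 23215 = n39142 := ndS (p := 21967) (l := 3) rfl N21967 D39142
theorem N23216 : nd 23216 = n39143 := ndS (p := 21967) (l := 6) rfl N21967 D39143
theorem N23217 : nd 23217 = n39144 := ndS (p := 21967) (l := 9) rfl N21967 D39144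
theorem N23218 : nd 23218 = n39145 := ndS (p := 21968) (l := 7) rfl N21968 D39145
theorem N23219 : nd 23219 = n39146 := ndS (p := 21968) (l := 9) rfl N21968 D39146
theorem N23220 : nd 23220 = n39147 := ndS (p := 21969) (l := 8) rfl N21969 D39147
theorem N23221 : nd 23221 = n39148 := ndS (p := 21970) (l := 9) rfl N21970 D39148
theorem N23222 : nd 23222 = n39149 := ndS (p := 21973) (l := 2) rfl N21973 D39149
theorem N23223 : nd 23223 = n39150 := ndS (p := 21973) (l := 9) rfl N21973 D39150
theorem N23224 : nd 23224 = n39151 := ndS (p := 21977) (l := 4) rfl N21977 D39151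
theorem N23225 : nd 23225 = n39152 := ndS (p := 21977) (l := 6) rfl N21977 D39152
theorem N23226 : nd 23226 = n39153 := ndS (p := 21978) (l := 3) rfl N21978 D39153
theorem N23227 : nd 23227 = n39154 := ndS (p := 21978) (l := 6) rfl N21978 D39154
theorem N23228 : nd 23228 = n39155 := ndS (p := 21979) (l := 7) rfl N21979 D39155
theorem N23229 : nd 23229 = n39156 := ndS (p := 21981) (l := 2) rfl N21981 D39156
theorem N23230 : nd 23230 = n39157 := ndS (p := 21982) (l := 3) rfl N21982 D39157
theorem N23231 : nd 23231 = n39158 := ndS (p := 21982) (l := 6) rfl N21982 D39158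
theorem N23232 : nd 23232 = n39159 := ndS (p := 21983) (l := 7) rfl N21983 D39159
theorem N23233 : nd 23233 = n39160 := ndS (p := 21984) (l := 2) rfl N21984 D39160
theorem N23234 : nd 23234 = n39161 := ndS (p := 21984) (l := 6) rfl N21984 D39161
theorem N23235 : nd 23235 = n39162 := ndS (p := 21984) (l := 9) rfl N21984 D39162
theorem N23236 : nd 23236 = n39163 := ndS (p := 21985) (l := 7) rfl N21985 D39163
theorem N23237 : nd 23237 = n39164 := ndS (p := 21985) (l := 9) rfl N21985 D39164
theorem N23238 : nd 23238 = n39165 := ndS (p := 21987) (l := 9) rfl N21987 D39165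
theorem N23239 : nd 23239 = n39166 := ndS (p := 21992) (l := 2) rfl N21992 D39166
theorem N23240 : nd 23240 = n39167 := ndS (p := 21992) (l := 6) rfl N21992 D39167
theorem N23241 : nd 23241 = n39168 := ndS (p := 21993) (l := 7) rfl N21993 D39168
theorem N23242 : nd 23242 = n39169 := ndS (p := 21995) (l := 6) rfl N21995 D39169
theorem N23243 : nd 23243 = n39170 := ndS (p := 21996) (l := 7) rfl N21996 D39170
theorem N23244 : nd 23244 = n39171 := ndS (p := 21996) (l := 9) rfl N21996 D39171
theorem N23245 : nd 23245 = n39172 := ndS (p := 21998) (l := 9) rfl N21998 D39172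
theorem N23246 : nd 23246 = n39173 := ndS (p := 22001) (l := 4) rfl N22001 D39173
theorem N23247 : nd 23247 = n39174 := ndS (p := 22001) (l := 8) rfl N22001 D39174
theorem N23248 : nd 23248 = n39175 := ndS (p := 22003) (l := 3) rfl N22003 D39175
theorem N23249 : nd 23249 = n39176 := ndS (p := 22004) (l := 8) rfl N22004 D39176
theorem N23250 : nd 23250 = n39177 := ndS (p := 22005) (l := 5) rfl N22005 D39177
theorem N23251 : nd 23251 = n39178 := ndS (p := 22005) (l := 9) rfl N22005 D39178
theorem N23252 : nd 23252 = n39179 := ndS (p := 22006) (l := 4) rfl N22006 D39179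
theorem N23253 : nd 23253 = n39180 := ndS (p := 22009) (l := 3) rfl N22009 D39180
theorem N23254 : nd 23254 = n39181 := ndS (p := 22012) (l := 5) rfl N22012 D39181
theorem N23255 : nd 23255 = n39182 := ndS (p := 22013) (l := 6) rfl N22013 D39182
theorem N23256 : nd 23256 = n39183 := ndS (p := 22015) (l := 6) rfl N22015 D39183
theorem N23257 : nd 23257 = n39184 := ndS (p := 22016) (l := 5) rfl N22016 D39184
theorem N23258 : nd 23258 = n39185 := ndS (p := 22017) (l := 8) rfl N22017 D39185
theorem N23259 : nd 23259 = n39186 := ndS (p := 22018) (l := 5) rfl N22018 D39186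
theorem N23260 : nd 23260 = n39187 := ndS (p := 22019) (l := 4) rfl N22019 D39187
theorem N23261 : nd 23261 = n39188 := ndS (p := 22021) (l := 6) rfl N22021 D39188
theorem N23262 : nd 23262 = n39189 := ndS (p := 22021) (l := 8) rfl N22021 D39189
theorem N23263 : nd 23263 = n39190 := ndS (p := 22023) (l := 5) rfl N22023 D39190
theorem N23264 : nd 23264 = n39191 := ndS (p := 22023) (l := 8) rfl N22023 D39191
theorem N23265 : nd 23265 = n39192 := ndS (p := 22024) (l := 5) rfl N22024 D39192
theorem N23266 : nd 23266 = n39193 := ndS (p := 22024) (l := 9) rfl N22024 D39193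
theorem N23267 : nd 23267 = n39194 := ndS (p := 22027) (l := 5) rfl N22027 D39194
theorem N23268 : nd 23268 = n39195 := ndS (p := 22027) (l := 9) rfl N22027 D39195
theorem N23269 : nd 23269 = n39196 := ndS (p := 22029) (l := 8) rfl N22029 D39196
theorem N23270 : nd 23270 = n39197 := ndS (p := 22030) (l := 5) rfl N22030 D39197
theorem N23271 : nd 23271 = n39198 := ndS (p := 22030) (l := 9) rfl N22030 D39198
theorem N23272 : nd 23272 = n39199 := ndS (p := 22031) (l := 6) rfl N22031 D39199
theorem N23273 : nd 23273 = n39200 := ndS (p := 22031) (l := 9) rfl N22031 D39200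
theorem N23274 : nd 23274 = n39201 := ndS (p := 22033) (l := 7) rfl N22033 D39201
theorem N23275 : nd 23275 = n39202 := ndS (p := 22035) (l := 4) rfl N22035 D39202
theorem N23276 : nd 23276 = n39203 := ndS (p := 22035) (l := 9) rfl N22035 D39203
theorem N23277 : nd 23277 = n39204 := ndS (p := 22037) (l := 3) rfl N22037 D39204
theorem N23278 : nd 23278 = n39205 := ndS (p := 22038) (l := 8) rfl N22038 D39205
theorem N23279 : nd 23279 = n39206 := ndS (p := 22039) (l := 5) rfl N22039 D39206
theorem N23280 : nd 23280 = n39207 := ndS (p := 22039) (l := 8) rfl N22039 D39207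
theorem N23281 : nd 23281 = n39208 := ndS (p := 22041) (l := 8) rfl N22041 D39208
theorem N23282 : nd 23282 = n39209 := ndS (p := 22042) (l := 5) rfl N22042 D39209
theorem N23283 : nd 23283 = n39210 := ndS (p := 22042) (l := 9) rfl N22042 D39210
theorem N23284 : nd 23284 = n39211 := ndS (p := 22044) (l := 4) rfl N22044 D39211
theorem N23285 : nd 23285 = n39212 := ndS (p := 22044) (l := 9) rfl N22044 D39212
theorem N23286 : nd 23286 = n39213 := ndS (p := 22046) (l := 5) rfl N22046 D39213
theorem N23287 : nd 23287 = n39214 := ndS (p := 22046) (l := 9) rfl N22046 D39214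
theorem N23288 : nd 23288 = n39215 := ndS (p := 22047) (l := 4) rfl N22047 D39215
theorem N23289 : nd 23289 = n39216 := ndS (p := 22047) (l := 6) rfl N22047 D39216
theorem N23290 : nd 23290 = n39217 := ndS (p := 22047) (l := 9) rfl N22047 D39217
theorem N23291 : nd 23291 = n39218 := ndS (p := 22049) (l := 7) rfl N22049 D39218
theorem N23292 : nd 23292 = n39219 := ndS (p := 22051) (l := 3) rfl N22051 D39219
theorem N23293 : nd 23293 = n39220 := ndS (p := 22051) (l := 9) rfl N22051 D39220
theorem N23294 : nd 23294 = n39221 := ndS (p := 22052) (l := 8) rfl N22052 D39221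
theorem N23295 : nd 23295 = n39222 := ndS (p := 22053) (l := 2) rfl N22053 D39222
theorem N23296 : nd 23296 = n39223 := ndS (p := 22055) (l := 3) rfl N22055 D39223
theorem N23297 : nd 23297 = n39224 := ndS (p := 22055) (l := 9) rfl N22055 D39224
theorem N23298 : nd 23298 = n39225 := ndS (p := 22056) (l := 8) rfl N22056 D39225
theorem N23299 : nd 23299 = n39226 := ndS (p := 22057) (l := 6) rfl N22057 D39226
theorem N23300 : nd 23300 = n39227 := ndS (p := 22058) (l := 7) rfl N22058 D39227
theorem N23301 : nd 23301 = n39228 := ndS (p := 22060) (l := 2) rfl N22060 D39228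
theorem N23302 : nd 23302 = n39229 := ndS (p := 22061) (l := 8) rfl N22061 D39229
theorem N23303 : nd 23303 = n39230 := ndS (p := 22065) (l := 6) rfl N22065 D39230
theorem N23304 : nd 23304 = n39231 := ndS (p := 22065) (l := 8) rfl N22065 D39231
theorem N23305 : nd 23305 = n39232 := ndS (p := 22067) (l := 5) rfl N22067 D39232
theorem N23306 : nd 23306 = n39233 := ndS (p := 22067) (l := 8) rfl N22067 D39233
theorem N23307 : nd 23307 = n39234 := ndS (p := 22068) (l := 5) rfl N22068 D39234
theorem N23308 : nd 23308 = n39235 := ndS (p := 22068) (l := 9) rfl N22068 D39235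
theorem N23309 : nd 23309 = n39236 := ndS (p := 22071) (l := 5) rfl N22071 D39236
theorem N23310 : nd 23310 = n39237 := ndS (p := 22071) (l := 9) rfl N22071 D39237
theorem N23311 : nd 23311 = n39238 := ndS (p := 22073) (l := 8) rfl N22073 D39238
theorem N23312 : nd 23312 = n39239 := ndS (p := 22074) (l := 5) rfl N22074 D39239
theorem N23313 : nd 23313 = n39240 := ndS (p := 22074) (l := 9) rfl N22074 D39240
theorem N23314 : nd 23314 = n39241 := ndS (p := 22075) (l := 6) rfl N22075 D39241
theorem N23315 : nd 23315 = n39242 := ndS (p := 22075) (l := 9) rfl N22075 D39242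
theorem N23316 : nd 23316 = n39243 := ndS (p := 22077) (l := 7) rfl N22077 D39243
theorem N23317 : nd 23317 = n39244 := ndS (p := 22079) (l := 4) rfl N22079 D39244
theorem N23318 : nd 23318 = n39245 := ndS (p := 22081) (l := 3) rfl N22081 D39245
theorem N23319 : nd 23319 = n39246 := ndS (p := 22082) (l := 5) rfl N22082 D39246
theorem N23320 : nd 23320 = n39247 := ndS (p := 22083) (l := 8) rfl N22083 D39247
theorem N23321 : nd 23321 = n39248 := ndS (p := 22084) (l := 5) rfl N22084 D39248
theorem N23322 : nd 23322 = n39249 := ndS (p := 22085) (l := 6) rfl N22085 D39249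
theorem N23323 : nd 23323 = n39250 := ndS (p := 22086) (l := 4) rfl N22086 D39250
theorem N23324 : nd 23324 = n39251 := ndS (p := 22087) (l := 3) rfl N22087 D39251
theorem N23325 : nd 23325 = n39252 := ndS (p := 22088) (l := 7) rfl N22088 D39252
theorem N23326 : nd 23326 = n39253 := ndS (p := 22089) (l := 6) rfl N22089 D39253
theorem N23327 : nd 23327 = n39254 := ndS (p := 22090) (l := 7) rfl N22090 D39254
theorem N23328 : nd 23328 = n39255 := ndS (p := 22091) (l := 6) rfl N22091 D39255
theorem N23329 : nd 23329 = n39256 := ndS (p := 22091) (l := 8) rfl N22091 D39256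
theorem N23330 : nd 23330 = n39257 := ndS (p := 22093) (l := 8) rfl N22093 D39257
theorem N23331 : nd 23331 = n39258 := ndS (p := 22095) (l := 6) rfl N22095 D39258
theorem N23332 : nd 23332 = n39259 := ndS (p := 22096) (l := 5) rfl N22096 D39259
theorem N23333 : nd 23333 = n39260 := ndS (p := 22096) (l := 8) rfl N22096 D39260
theorem N23334 : nd 23334 = n39261 := ndS (p := 22097) (l := 5) rfl N22097 D39261
theorem N23335 : nd 23335 = n39262 := ndS (p := 22099) (l := 5) rfl N22099 D39262
theorem N23336 : nd 23336 = n39263 := ndS (p := 22100) (l := 8) rfl N22100 D39263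
theorem N23337 : nd 23337 = n39264 := ndS (p := 22101) (l := 5) rfl N22101 D39264
theorem N23338 : nd 23338 = n39265 := ndS (p := 22101) (l := 9) rfl N22101 D39265
theorem N23339 : nd 23339 = n39266 := ndS (p := 22102) (l := 6) rfl N22102 D39266
theorem N23340 : nd 23340 = n39267 := ndS (p := 22102) (l := 9) rfl N22102 D39267
theorem N23341 : nd 23341 = n39268 := ndS (p := 22104) (l := 7) rfl N22104 D39268
theorem N23342 : nd 23342 = n39269 := ndS (p := 22106) (l := 4) rfl N22106 D39269
theorem N23343 : nd 23343 = n39270 := ndS (p := 22106) (l := 9) rfl N22106 D39270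
theorem N23344 : nd 23344 = n39271 := ndS (p := 22109) (l := 7) rfl N22109 D39271
theorem N23345 : nd 23345 = n39272 := ndS (p := 22110) (l := 6) rfl N22110 D39272
theorem N23346 : nd 23346 = n39273 := ndS (p := 22110) (l := 8) rfl N22110 D39273
theorem N23347 : nd 23347 = n39274 := ndS (p := 22112) (l := 8) rfl N22112 D39274
theorem N23348 : nd 23348 = n39275 := ndS (p := 22114) (l := 7) rfl N22114 D39275
theorem N23349 : nd 23349 = n39276 := ndS (p := 22115) (l := 6) rfl N22115 D39276
theorem N23350 : nd 23350 = n39277 := ndS (p := 22115) (l := 8) rfl N22115 D39277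
theorem N23351 : nd 23351 = n39278 := ndS (p := 22117) (l := 5) rfl N22117 D39278
theorem N23352 : nd 23352 = n39279 := ndS (p := 22117) (l := 8) rfl N22117 D39279
theorem N23353 : nd 23353 = n39280 := ndS (p := 22118) (l := 5) rfl N22118 D39280
theorem N23354 : nd 23354 = n39281 := ndS (p := 22118) (l := 9) rfl N22118 D39281
theorem N23355 : nd 23355 = n39282 := ndS (p := 22121) (l := 5) rfl N22121 D39282
theorem N23356 : nd 23356 = n39283 := ndS (p := 22121) (l := 9) rfl N22121 D39283
theorem N23357 : nd 23357 = n39284 := ndS (p := 22123) (l := 5) rfl N22123 D39284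
theorem N23358 : nd 23358 = n39285 := ndS (p := 22123) (l := 8) rfl N22123 D39285
theorem N23359 : nd 23359 = n39286 := ndS (p := 22124) (l := 5) rfl N22124 D39286
theorem N23360 : nd 23360 = n39287 := ndS (p := 22126) (l := 8) rfl N22126 D39287
theorem N23361 : nd 23361 = n39288 := ndS (p := 22127) (l := 5) rfl N22127 D39288
theorem N23362 : nd 23362 = n39289 := ndS (p := 22127) (l := 9) rfl N22127 D39289
theorem N23363 : nd 23363 = n39290 := ndS (p := 22128) (l := 6) rfl N22128 D39290
theorem N23364 : nd 23364 = n39291 := ndS (p := 22128) (l := 9) rfl N22128 D39291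
theorem N23365 : nd 23365 = n39292 := ndS (p := 22130) (l := 7) rfl N22130 D39292
theorem N23366 : nd 23366 = n39293 := ndS (p := 22132) (l := 4) rfl N22132 D39293
theorem N23367 : nd 23367 = n39294 := ndS (p := 22132) (l := 9) rfl N22132 D39294
theorem N23368 : nd 23368 = n39295 := ndS (p := 22134) (l := 5) rfl N22134 D39295
theorem N23369 : nd 23369 = n39296 := ndS (p := 22134) (l := 9) rfl N22134 D39296
theorem N23370 : nd 23370 = n39297 := ndS (p := 22135) (l := 4) rfl N22135 D39297
theorem N23371 : nd 23371 = n39298 := ndS (p := 22135) (l := 6) rfl N22135 D39298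
theorem N23372 : nd 23372 = n39299 := ndS (p := 22135) (l := 9) rfl N22135 D39299
theorem N23373 : nd 23373 = n39300 := ndS (p := 22137) (l := 7) rfl N22137 D39300
theorem N23374 : nd 23374 = n39301 := ndS (p := 22137) (l := 9) rfl N22137 D39301
theorem N23375 : nd 23375 = n39302 := ndS (p := 22138) (l := 8) rfl N22138 D39302
theorem N23376 : nd 23376 = n39303 := ndS (p := 22139) (l := 9) rfl N22139 D39303
theorem N23377 : nd 23377 = n39304 := ndS (p := 22142) (l := 3) rfl N22142 D39304
theorem N23378 : nd 23378 = n39305 := ndS (p := 22142) (l := 9) rfl N22142 D39305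
theorem N23379 : nd 23379 = n39306 := ndS (p := 22143) (l := 8) rfl N22143 D39306
theorem N23380 : nd 23380 = n39307 := ndS (p := 22146) (l := 6) rfl N22146 D39307
theorem N23381 : nd 23381 = n39308 := ndS (p := 22148) (l := 5) rfl N22148 D39308
theorem N23382 : nd 23382 = n39309 := ndS (p := 22149) (l := 8) rfl N22149 D39309
theorem N23383 : nd 23383 = n39310 := ndS (p := 22150) (l := 5) rfl N22150 D39310
theorem N23384 : nd 23384 = n39311 := ndS (p := 22151) (l := 4) rfl N22151 D39311
theorem N23385 : nd 23385 = n39312 := ndS (p := 22152) (l := 3) rfl N22152 D39312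
theorem N23386 : nd 23386 = n39313 := ndS (p := 22153) (l := 5) rfl N22153 D39313
theorem N23387 : nd 23387 = n39314 := ndS (p := 22154) (l := 5) rfl N22154 D39314
theorem N23388 : nd 23388 = n39315 := ndS (p := 22155) (l := 8) rfl N22155 D39315
theorem N23389 : nd 23389 = n39316 := ndS (p := 22156) (l := 5) rfl N22156 D39316
theorem N23390 : nd 23390 = n39317 := ndS (p := 22157) (l := 4) rfl N22157 D39317
theorem N23391 : nd 23391 = n39318 := ndS (p := 22158) (l := 8) rfl N22158 D39318
theorem N23392 : nd 23392 = n39319 := ndS (p := 22159) (l := 5) rfl N22159 D39319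
theorem N23393 : nd 23393 = n39320 := ndS (p := 22159) (l := 9) rfl N22159 D39320
theorem N23394 : nd 23394 = n39321 := ndS (p := 22160) (l := 4) rfl N22160 D39321
theorem N23395 : nd 23395 = n39322 := ndS (p := 22160) (l := 9) rfl N22160 D39322
theorem N23396 : nd 23396 = n39323 := ndS (p := 22162) (l := 3) rfl N22162 D39323
theorem N23397 : nd 23397 = n39324 := ndS (p := 22162) (l := 9) rfl N22162 D39324
theorem N23398 : nd 23398 = n39325 := ndS (p := 22163) (l := 8) rfl N22163 D39325
theorem N23399 : nd 23399 = n39326 := ndS (p := 22164) (l := 9) rfl N22164 D39326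
theorem N23400 : nd 23400 = n39327 := ndS (p := 22167) (l := 6) rfl N22167 D39327
theorem N23401 : nd 23401 = n39328 := ndS (p := 22168) (l := 8) rfl N22168 D39328
theorem N23402 : nd 23402 = n39329 := ndS (p := 22170) (l := 6) rfl N22170 D39329
theorem N23403 : nd 23403 = n39330 := ndS (p := 22171) (l := 5) rfl N22171 D39330
theorem N23404 : nd 23404 = n39331 := ndS (p := 22171) (l := 8) rfl N22171 D39331
theorem N23405 : nd 23405 = n39332 := ndS (p := 22172) (l := 5) rfl N22172 D39332
theorem N23406 : nd 23406 = n39333 := ndS (p := 22174) (l := 5) rfl N22174 D39333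
theorem N23407 : nd 23407 = n39334 := ndS (p := 22174) (l := 9) rfl N22174 D39334
theorem N23408 : nd 23408 = n39335 := ndS (p := 22176) (l := 5) rfl N22176 D39335
theorem N23409 : nd 23409 = n39336 := ndS (p := 22176) (l := 8) rfl N22176 D39336
theorem N23410 : nd 23410 = n39337 := ndS (p := 22178) (l := 8) rfl N22178 D39337
theorem N23411 : nd 23411 = n39338 := ndS (p := 22179) (l := 5) rfl N22179 D39338
theorem N23412 : nd 23412 = n39339 := ndS (p := 22179) (l := 9) rfl N22179 D39339
theorem N23413 : nd 23413 = n39340 := ndS (p := 22180) (l := 6) rfl N22180 D39340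
theorem N23414 : nd 23414 = n39341 := ndS (p := 22180) (l := 9) rfl N22180 D39341
theorem N23415 : nd 23415 = n39342 := ndS (p := 22182) (l := 7) rfl N22182 D39342
theorem N23416 : nd 23416 = n39343 := ndS (p := 22184) (l := 4) rfl N22184 D39343
theorem N23417 : nd 23417 = n39344 := ndS (p := 22184) (l := 9) rfl N22184 D39344
theorem N23418 : nd 23418 = n39345 := ndS (p := 22186) (l := 5) rfl N22186 D39345
theorem N23419 : nd 23419 = n39346 := ndS (p := 22186) (l := 9) rfl N22186 D39346
theorem N23420 : nd 23420 = n39347 := ndS (p := 22187) (l := 4) rfl N22187 D39347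
theorem N23421 : nd 23421 = n39348 := ndS (p := 22187) (l := 6) rfl N22187 D39348
theorem N23422 : nd 23422 = n39349 := ndS (p := 22187) (l := 9) rfl N22187 D39349
theorem N23423 : nd 23423 = n39350 := ndS (p := 22189) (l := 7) rfl N22189 D39350
theorem N23424 : nd 23424 = n39351 := ndS (p := 22189) (l := 9) rfl N22189 D39351
theorem N23425 : nd 23425 = n39352 := ndS (p := 22190) (l := 8) rfl N22190 D39352
theorem N23426 : nd 23426 = n39353 := ndS (p := 22191) (l := 9) rfl N22191 D39353
theorem N23427 : nd 23427 = n39354 := ndS (p := 22194) (l := 3) rfl N22194 D39354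
theorem N23428 : nd 23428 = n39355 := ndS (p := 22194) (l := 9) rfl N22194 D39355
theorem N23429 : nd 23429 = n39356 := ndS (p := 22195) (l := 8) rfl N22195 D39356
theorem N23430 : nd 23430 = n39357 := ndS (p := 22196) (l := 2) rfl N22196 D39357
theorem N23431 : nd 23431 = n39358 := ndS (p := 22196) (l := 9) rfl N22196 D39358
theorem N23432 : nd 23432 = n39359 := ndS (p := 22199) (l := 6) rfl N22199 D39359
theorem N23433 : nd 23433 = n39360 := ndS (p := 22200) (l := 5) rfl N22200 D39360
theorem N23434 : nd 23434 = n39361 := ndS (p := 22200) (l := 8) rfl N22200 D39361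
theorem N23435 : nd 23435 = n39362 := ndS (p := 22202) (l := 9) rfl N22202 D39362
theorem N23436 : nd 23436 = n39363 := ndS (p := 22204) (l := 6) rfl N22204 D39363
theorem N23437 : nd 23437 = n39364 := ndS (p := 22204) (l := 8) rfl N22204 D39364
theorem N23438 : nd 23438 = n39365 := ndS (p := 22206) (l := 5) rfl N22206 D39365
theorem N23439 : nd 23439 = n39366 := ndS (p := 22206) (l := 8) rfl N22206 D39366
theorem N23440 : nd 23440 = n39367 := ndS (p := 22208) (l := 8) rfl N22208 D39367
theorem N23441 : nd 23441 = n39368 := ndS (p := 22209) (l := 5) rfl N22209 D39368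
theorem N23442 : nd 23442 = n39369 := ndS (p := 22209) (l := 9) rfl N22209 D39369
theorem N23443 : nd 23443 = n39370 := ndS (p := 22211) (l := 4) rfl N22211 D39370
theorem N23444 : nd 23444 = n39371 := ndS (p := 22211) (l := 9) rfl N22211 D39371
theorem N23445 : nd 23445 = n39372 := ndS (p := 22213) (l := 4) rfl N22213 D39372
theorem N23446 : nd 23446 = n39373 := ndS (p := 22213) (l := 8) rfl N22213 D39373
theorem N23447 : nd 23447 = n39374 := ndS (p := 22214) (l := 5) rfl N22214 D39374
theorem N23448 : nd 23448 = n39375 := ndS (p := 22214) (l := 9) rfl N22214 D39375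
theorem N23449 : nd 23449 = n39376 := ndS (p := 22215) (l := 6) rfl N22215 D39376
theorem N23450 : nd 23450 = n39377 := ndS (p := 22215) (l := 9) rfl N22215 D39377
theorem N23451 : nd 23451 = n39378 := ndS (p := 22217) (l := 7) rfl N22217 D39378
theorem N23452 : nd 23452 = n39379 := ndS (p := 22219) (l := 5) rfl N22219 D39379
theorem N23453 : nd 23453 = n39380 := ndS (p := 22219) (l := 9) rfl N22219 D39380
theorem N23454 : nd 23454 = n39381 := ndS (p := 22220) (l := 4) rfl N22220 D39381
theorem N23455 : nd 23455 = n39382 := ndS (p := 22220) (l := 6) rfl N22220 D39382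
theorem N23456 : nd 23456 = n39383 := ndS (p := 22220) (l := 9) rfl N22220 D39383
theorem N23457 : nd 23457 = n39384 := ndS (p := 22222) (l := 7) rfl N22222 D39384
theorem N23458 : nd 23458 = n39385 := ndS (p := 22222) (l := 9) rfl N22222 D39385
theorem N23459 : nd 23459 = n39386 := ndS (p := 22223) (l := 8) rfl N22223 D39386
theorem N23460 : nd 23460 = n39387 := ndS (p := 22224) (l := 9) rfl N22224 D39387
theorem N23461 : nd 23461 = n39388 := ndS (p := 22227) (l := 3) rfl N22227 D39388
theorem N23462 : nd 23462 = n39389 := ndS (p := 22227) (l := 9) rfl N22227 D39389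
theorem N23463 : nd 23463 = n39390 := ndS (p := 22229) (l := 4) rfl N22229 D39390
theorem N23464 : nd 23464 = n39391 := ndS (p := 22229) (l := 6) rfl N22229 D39391
theorem N23465 : nd 23465 = n39392 := ndS (p := 22229) (l := 9) rfl N22229 D39392
theorem N23466 : nd 23466 = n39393 := ndS (p := 22231) (l := 3) rfl N22231 D39393
theorem N23467 : nd 23467 = n39394 := ndS (p := 22231) (l := 6) rfl N22231 D39394
theorem N23468 : nd 23468 = n39395 := ndS (p := 22231) (l := 9) rfl N22231 D39395
theorem N23469 : nd 23469 = n39396 := ndS (p := 22232) (l := 7) rfl N22232 D39396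
theorem N23470 : nd 23470 = n39397 := ndS (p := 22232) (l := 9) rfl N22232 D39397
theorem N23471 : nd 23471 = n39398 := ndS (p := 22233) (l := 8) rfl N22233 D39398
theorem N23472 : nd 23472 = n39399 := ndS (p := 22234) (l := 9) rfl N22234 D39399
theorem N23473 : nd 23473 = n39400 := ndS (p := 22235) (l := 8) rfl N22235 D39400
theorem N23474 : nd 23474 = n39401 := ndS (p := 22241) (l := 2) rfl N22241 D39401
theorem N23475 : nd 23475 = n39402 := ndS (p := 22241) (l := 9) rfl N22241 D39402
theorem N23476 : nd 23476 = n39403 := ndS (p := 22245) (l := 9) rfl N22245 D39403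
theorem N23477 : nd 23477 = n39404 := ndS (p := 22247) (l := 3) rfl N22247 D39404
theorem N23478 : nd 23478 = n39405 := ndS (p := 22247) (l := 6) rfl N22247 D39405
theorem N23479 : nd 23479 = n39406 := ndS (p := 22248) (l := 7) rfl N22248 D39406
theorem N23480 : nd 23480 = n39407 := ndS (p := 22249) (l := 9) rfl N22249 D39407
theorem N23481 : nd 23481 = n39408 := ndS (p := 22250) (l := 8) rfl N22250 D39408
theorem N23482 : nd 23482 = n39409 := ndS (p := 22255) (l := 7) rfl N22255 D39409
theorem N23483 : nd 23483 = n39410 := ndS (p := 22258) (l := 5) rfl N22258 D39410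
theorem N23484 : nd 23484 = n39411 := ndS (p := 22259) (l := 9) rfl N22259 D39411
theorem N23485 : nd 23485 = n39412 := ndS (p := 22265) (l := 5) rfl N22265 D39412
theorem N23486 : nd 23486 = n39413 := ndS (p := 22270) (l := 6) rfl N22270 D39413
theorem N23487 : nd 23487 = n39414 := ndS (p := 22274) (l := 4) rfl N22274 D39414
theorem N23488 : nd 23488 = n39415 := ndS (p := 22281) (l := 4) rfl N22281 D39415
theorem N23489 : nd 23489 = n39416 := ndS (p := 22283) (l := 3) rfl N22283 D39416
theorem N23490 : nd 23490 = n39417 := ndS (p := 22285) (l := 6) rfl N22285 D39417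
theorem N23491 : nd 23491 = n39418 := ndS (p := 22287) (l := 8) rfl N22287 D39418
theorem N23492 : nd 23492 = n39419 := ndS (p := 22289) (l := 5) rfl N22289 D39419
theorem N23493 : nd 23493 = n39420 := ndS (p := 22291) (l := 8) rfl N22291 D39420
theorem N23494 : nd 23494 = n39421 := ndS (p := 22293) (l := 4) rfl N22293 D39421
theorem N23495 : nd 23495 = n39422 := ndS (p := 22293) (l := 9) rfl N22293 D39422
theorem N23496 : nd 23496 = n39423 := ndS (p := 22297) (l := 5) rfl N22297 D39423
theorem N23497 : nd 23497 = n39424 := ndS (p := 22298) (l := 6) rfl N22298 D39424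
theorem N23498 : nd 23498 = n39425 := ndS (p := 22300) (l := 6) rfl N22300 D39425
theorem N23499 : nd 23499 = n39426 := ndS (p := 22301) (l := 5) rfl N22301 D39426
theorem N23500 : nd 23500 = n39427 := ndS (p := 22301) (l := 8) rfl N22301 D39427
theorem N23501 : nd 23501 = n39428 := ndS (p := 22304) (l := 8) rfl N22304 D39428
theorem N23502 : nd 23502 = n39429 := ndS (p := 22305) (l := 5) rfl N22305 D39429
theorem N23503 : nd 23503 = n39430 := ndS (p := 22306) (l := 7) rfl N22306 D39430
theorem N23504 : nd 23504 = n39431 := ndS (p := 22307) (l := 6) rfl N22307 D39431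
theorem N23505 : nd 23505 = n39432 := ndS (p := 22309) (l := 6) rfl N22309 D39432
theorem N23506 : nd 23506 = n39433 := ndS (p := 22310) (l := 5) rfl N22310 D39433
theorem N23507 : nd 23507 = n39434 := ndS (p := 22310) (l := 8) rfl N22310 D39434
theorem N23508 : nd 23508 = n39435 := ndS (p := 22313) (l := 8) rfl N22313 D39435
theorem N23509 : nd 23509 = n39436 := ndS (p := 22314) (l := 5) rfl N22314 D39436
theorem N23510 : nd 23510 = n39437 := ndS (p := 22314) (l := 9) rfl N22314 D39437
theorem N23511 : nd 23511 = n39438 := ndS (p := 22315) (l := 6) rfl N22315 D39438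
theorem N23512 : nd 23512 = n39439 := ndS (p := 22317) (l := 7) rfl N22317 D39439
theorem N23513 : nd 23513 = n39440 := ndS (p := 22319) (l := 6) rfl N22319 D39440
theorem N23514 : nd 23514 = n39441 := ndS (p := 22321) (l := 6) rfl N22321 D39441
theorem N23515 : nd 23515 = n39442 := ndS (p := 22322) (l := 5) rfl N22322 D39442
theorem N23516 : nd 23516 = n39443 := ndS (p := 22322) (l := 8) rfl N22322 D39443
theorem N23517 : nd 23517 = n39444 := ndS (p := 22325) (l := 8) rfl N22325 D39444
theorem N23518 : nd 23518 = n39445 := ndS (p := 22326) (l := 5) rfl N22326 D39445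
theorem N23519 : nd 23519 = n39446 := ndS (p := 22327) (l := 6) rfl N22327 D39446
theorem N23520 : nd 23520 = n39447 := ndS (p := 22328) (l := 4) rfl N22328 D39447
theorem N23521 : nd 23521 = n39448 := ndS (p := 22329) (l := 3) rfl N22329 D39448
theorem N23522 : nd 23522 = n39449 := ndS (p := 22330) (l := 6) rfl N22330 D39449
theorem N23523 : nd 23523 = n39450 := ndS (p := 22331) (l := 5) rfl N22331 D39450
theorem N23524 : nd 23524 = n39451 := ndS (p := 22332) (l := 5) rfl N22332 D39451
theorem N23525 : nd 23525 = n39452 := ndS (p := 22333) (l := 8) rfl N22333 D39452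
theorem N23526 : nd 23526 = n39453 := ndS (p := 22334) (l := 5) rfl N22334 D39453
theorem N23527 : nd 23527 = n39454 := ndS (p := 22335) (l := 5) rfl N22335 D39454
theorem N23528 : nd 23528 = n39455 := ndS (p := 22335) (l := 9) rfl N22335 D39455
theorem N23529 : nd 23529 = n39456 := ndS (p := 22337) (l := 7) rfl N22337 D39456
theorem N23530 : nd 23530 = n39457 := ndS (p := 22339) (l := 6) rfl N22339 D39457
theorem N23531 : nd 23531 = n39458 := ndS (p := 22340) (l := 5) rfl N22340 D39458
theorem N23532 : nd 23532 = n39459 := ndS (p := 22341) (l := 8) rfl N22341 D39459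
theorem N23533 : nd 23533 = n39460 := ndS (p := 22342) (l := 5) rfl N22342 D39460
theorem N23534 : nd 23534 = n39461 := ndS (p := 22343) (l := 6) rfl N22343 D39461
theorem N23535 : nd 23535 = n39462 := ndS (p := 22345) (l := 7) rfl N22345 D39462
theorem N23536 : nd 23536 = n39463 := ndS (p := 22346) (l := 6) rfl N22346 D39463
theorem N23537 : nd 23537 = n39464 := ndS (p := 22346) (l := 8) rfl N22346 D39464
theorem N23538 : nd 23538 = n39465 := ndS (p := 22348) (l := 5) rfl N22348 D39465
theorem N23539 : nd 23539 = n39466 := ndS (p := 22348) (l := 8) rfl N22348 D39466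
theorem N23540 : nd 23540 = n39467 := ndS (p := 22351) (l := 5) rfl N22351 D39467
theorem N23541 : nd 23541 = n39468 := ndS (p := 22351) (l := 8) rfl N22351 D39468
theorem N23542 : nd 23542 = n39469 := ndS (p := 22353) (l := 8) rfl N22353 D39469
theorem N23543 : nd 23543 = n39470 := ndS (p := 22354) (l := 5) rfl N22354 D39470
theorem N23544 : nd 23544 = n39471 := ndS (p := 22354) (l := 9) rfl N22354 D39471
theorem N23545 : nd 23545 = n39472 := ndS (p := 22355) (l := 6) rfl N22355 D39472
theorem N23546 : nd 23546 = n39473 := ndS (p := 22358) (l := 5) rfl N22358 D39473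
theorem N23547 : nd 23547 = n39474 := ndS (p := 22358) (l := 9) rfl N22358 D39474
theorem N23548 : nd 23548 = n39475 := ndS (p := 22359) (l := 4) rfl N22359 D39475
theorem N23549 : nd 23549 = n39476 := ndS (p := 22359) (l := 6) rfl N22359 D39476
theorem N23550 : nd 23550 = n39477 := ndS (p := 22359) (l := 9) rfl N22359 D39477
theorem N23551 : nd 23551 = n39478 := ndS (p := 22361) (l := 7) rfl N22361 D39478
theorem N23552 : nd 23552 = n39479 := ndS (p := 22361) (l := 9) rfl N22361 D39479
theorem N23553 : nd 23553 = n39480 := ndS (p := 22365) (l := 6) rfl N22365 D39480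
theorem N23554 : nd 23554 = n39481 := ndS (p := 22367) (l := 6) rfl N22367 D39481
theorem N23555 : nd 23555 = n39482 := ndS (p := 22368) (l := 5) rfl N22368 D39482
theorem N23556 : nd 23556 = n39483 := ndS (p := 22369) (l := 8) rfl N22369 D39483
theorem N23557 : nd 23557 = n39484 := ndS (p := 22370) (l := 5) rfl N22370 D39484
theorem N23558 : nd 23558 = n39485 := ndS (p := 22370) (l := 9) rfl N22370 D39485
theorem N23559 : nd 23559 = n39486 := ndS (p := 22371) (l := 6) rfl N22371 D39486
theorem N23560 : nd 23560 = n39487 := ndS (p := 22373) (l := 4) rfl N22373 D39487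
theorem N23561 : nd 23561 = n39488 := ndS (p := 22373) (l := 9) rfl N22373 D39488
theorem N23562 : nd 23562 = n39489 := ndS (p := 22376) (l := 5) rfl N22376 D39489
theorem N23563 : nd 23563 = n39490 := ndS (p := 22377) (l := 8) rfl N22377 D39490
theorem N23564 : nd 23564 = n39491 := ndS (p := 22378) (l := 5) rfl N22378 D39491
theorem N23565 : nd 23565 = n39492 := ndS (p := 22378) (l := 9) rfl N22378 D39492
theorem N23566 : nd 23566 = n39493 := ndS (p := 22379) (l := 4) rfl N22379 D39493
theorem N23567 : nd 23567 = n39494 := ndS (p := 22379) (l := 6) rfl N22379 D39494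
theorem N23568 : nd 23568 = n39495 := ndS (p := 22379) (l := 9) rfl N22379 D39495
theorem N23569 : nd 23569 = n39496 := ndS (p := 22383) (l := 5) rfl N22383 D39496
theorem N23570 : nd 23570 = n39497 := ndS (p := 22383) (l := 8) rfl N22383 D39497
theorem N23571 : nd 23571 = n39498 := ndS (p := 22385) (l := 8) rfl N22385 D39498
theorem N23572 : nd 23572 = n39499 := ndS (p := 22386) (l := 5) rfl N22386 D39499
theorem N23573 : nd 23573 = n39500 := ndS (p := 22387) (l := 4) rfl N22387 D39500
theorem N23574 : nd 23574 = n39501 := ndS (p := 22389) (l := 5) rfl N22389 D39501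
theorem N23575 : nd 23575 = n39502 := ndS (p := 22389) (l := 9) rfl N22389 D39502
theorem N23576 : nd 23576 = n39503 := ndS (p := 22390) (l := 4) rfl N22390 D39503
theorem N23577 : nd 23577 = n39504 := ndS (p := 22390) (l := 6) rfl N22390 D39504
theorem N23578 : nd 23578 = n39505 := ndS (p := 22390) (l := 9) rfl N22390 D39505
theorem N23579 : nd 23579 = n39506 := ndS (p := 22392) (l := 7) rfl N22392 D39506
theorem N23580 : nd 23580 = n39507 := ndS (p := 22394) (l := 3) rfl N22394 D39507
theorem N23581 : nd 23581 = n39508 := ndS (p := 22395) (l := 2) rfl N22395 D39508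
theorem N23582 : nd 23582 = n39509 := ndS (p := 22396) (l := 6) rfl N22396 D39509
theorem N23583 : nd 23583 = n39510 := ndS (p := 22397) (l := 5) rfl N22397 D39510
theorem N23584 : nd 23584 = n39511 := ndS (p := 22398) (l := 6) rfl N22398 D39511
theorem N23585 : nd 23585 = n39512 := ndS (p := 22398) (l := 8) rfl N22398 D39512
theorem N23586 : nd 23586 = n39513 := ndS (p := 22400) (l := 5) rfl N22400 D39513
theorem N23587 : nd 23587 = n39514 := ndS (p := 22400) (l := 8) rfl N22400 D39514
theorem N23588 : nd 23588 = n39515 := ndS (p := 22402) (l := 8) rfl N22402 D39515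
theorem N23589 : nd 23589 = n39516 := ndS (p := 22403) (l := 5) rfl N22403 D39516
theorem N23590 : nd 23590 = n39517 := ndS (p := 22404) (l := 4) rfl N22404 D39517
theorem N23591 : nd 23591 = n39518 := ndS (p := 22404) (l := 8) rfl N22404 D39518
theorem N23592 : nd 23592 = n39519 := ndS (p := 22405) (l := 5) rfl N22405 D39519
theorem N23593 : nd 23593 = n39520 := ndS (p := 22406) (l := 5) rfl N22406 D39520
theorem N23594 : nd 23594 = n39521 := ndS (p := 22406) (l := 9) rfl N22406 D39521
theorem N23595 : nd 23595 = n39522 := ndS (p := 22407) (l := 6) rfl N22407 D39522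
theorem N23596 : nd 23596 = n39523 := ndS (p := 22407) (l := 9) rfl N22407 D39523
theorem N23597 : nd 23597 = n39524 := ndS (p := 22410) (l := 4) rfl N22410 D39524
theorem N23598 : nd 23598 = n39525 := ndS (p := 22410) (l := 6) rfl N22410 D39525
theorem N23599 : nd 23599 = n39526 := ndS (p := 22410) (l := 9) rfl N22410 D39526
theorem N23600 : nd 23600 = n39527 := ndS (p := 22413) (l := 7) rfl N22413 D39527
theorem N23601 : nd 23601 = n39528 := ndS (p := 22414) (l := 8) rfl N22414 D39528
theorem N23602 : nd 23602 = n39529 := ndS (p := 22416) (l := 6) rfl N22416 D39529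
theorem N23603 : nd 23603 = n39530 := ndS (p := 22418) (l := 6) rfl N22418 D39530
theorem N23604 : nd 23604 = n39531 := ndS (p := 22419) (l := 5) rfl N22419 D39531
theorem N23605 : nd 23605 = n39532 := ndS (p := 22419) (l := 8) rfl N22419 D39532
theorem N23606 : nd 23606 = n39533 := ndS (p := 22421) (l := 5) rfl N22421 D39533
theorem N23607 : nd 23607 = n39534 := ndS (p := 22422) (l := 5) rfl N22422 D39534
theorem N23608 : nd 23608 = n39535 := ndS (p := 22422) (l := 8) rfl N22422 D39535
theorem N23609 : nd 23609 = n39536 := ndS (p := 22424) (l := 8) rfl N22424 D39536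
theorem N23610 : nd 23610 = n39537 := ndS (p := 22425) (l := 5) rfl N22425 D39537
theorem N23611 : nd 23611 = n39538 := ndS (p := 22425) (l := 9) rfl N22425 D39538
theorem N23612 : nd 23612 = n39539 := ndS (p := 22427) (l := 4) rfl N22427 D39539
theorem N23613 : nd 23613 = n39540 := ndS (p := 22427) (l := 9) rfl N22427 D39540
theorem N23614 : nd 23614 = n39541 := ndS (p := 22429) (l := 5) rfl N22429 D39541
theorem N23615 : nd 23615 = n39542 := ndS (p := 22429) (l := 9) rfl N22429 D39542
theorem N23616 : nd 23616 = n39543 := ndS (p := 22430) (l := 4) rfl N22430 D39543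
theorem N23617 : nd 23617 = n39544 := ndS (p := 22430) (l := 6) rfl N22430 D39544
theorem N23618 : nd 23618 = n39545 := ndS (p := 22430) (l := 9) rfl N22430 D39545
theorem N23619 : nd 23619 = n39546 := ndS (p := 22432) (l := 7) rfl N22432 D39546
theorem N23620 : nd 23620 = n39547 := ndS (p := 22432) (l := 9) rfl N22432 D39547
theorem N23621 : nd 23621 = n39548 := ndS (p := 22435) (l := 3) rfl N22435 D39548
theorem N23622 : nd 23622 = n39549 := ndS (p := 22435) (l := 9) rfl N22435 D39549
theorem N23623 : nd 23623 = n39550 := ndS (p := 22436) (l := 8) rfl N22436 D39550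
theorem N23624 : nd 23624 = n39551 := ndS (p := 22437) (l := 2) rfl N22437 D39551
theorem N23625 : nd 23625 = n39552 := ndS (p := 22437) (l := 9) rfl N22437 D39552
theorem N23626 : nd 23626 = n39553 := ndS (p := 22440) (l := 8) rfl N22440 D39553
theorem N23627 : nd 23627 = n39554 := ndS (p := 22441) (l := 5) rfl N22441 D39554
theorem N23628 : nd 23628 = n39555 := ndS (p := 22441) (l := 9) rfl N22441 D39555
theorem N23629 : nd 23629 = n39556 := ndS (p := 22443) (l := 5) rfl N22443 D39556
theorem N23630 : nd 23630 = n39557 := ndS (p := 22443) (l := 8) rfl N22443 D39557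
theorem N23631 : nd 23631 = n39558 := ndS (p := 22445) (l := 8) rfl N22445 D39558
theorem N23632 : nd 23632 = n39559 := ndS (p := 22446) (l := 5) rfl N22446 D39559
theorem N23633 : nd 23633 = n39560 := ndS (p := 22446) (l := 9) rfl N22446 D39560
theorem N23634 : nd 23634 = n39561 := ndS (p := 22447) (l := 6) rfl N22447 D39561
theorem N23635 : nd 23635 = n39562 := ndS (p := 22449) (l := 4) rfl N22449 D39562
theorem N23636 : nd 23636 = n39563 := ndS (p := 22451) (l := 5) rfl N22451 D39563
theorem N23637 : nd 23637 = n39564 := ndS (p := 22451) (l := 9) rfl N22451 D39564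
theorem N23638 : nd 23638 = n39565 := ndS (p := 22452) (l := 4) rfl N22452 D39565
theorem N23639 : nd 23639 = n39566 := ndS (p := 22452) (l := 6) rfl N22452 D39566
theorem N23640 : nd 23640 = n39567 := ndS (p := 22452) (l := 9) rfl N22452 D39567
theorem N23641 : nd 23641 = n39568 := ndS (p := 22454) (l := 7) rfl N22454 D39568
theorem N23642 : nd 23642 = n39569 := ndS (p := 22454) (l := 9) rfl N22454 D39569
theorem N23643 : nd 23643 = n39570 := ndS (p := 22457) (l := 3) rfl N22457 D39570
theorem N23644 : nd 23644 = n39571 := ndS (p := 22457) (l := 9) rfl N22457 D39571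
theorem N23645 : nd 23645 = n39572 := ndS (p := 22460) (l := 6) rfl N22460 D39572
theorem N23646 : nd 23646 = n39573 := ndS (p := 22461) (l := 5) rfl N22461 D39573
theorem N23647 : nd 23647 = n39574 := ndS (p := 22461) (l := 8) rfl N22461 D39574
theorem N23648 : nd 23648 = n39575 := ndS (p := 22463) (l := 8) rfl N22463 D39575
theorem N23649 : nd 23649 = n39576 := ndS (p := 22464) (l := 5) rfl N22464 D39576
theorem N23650 : nd 23650 = n39577 := ndS (p := 22464) (l := 9) rfl N22464 D39577
theorem N23651 : nd 23651 = n39578 := ndS (p := 22467) (l := 4) rfl N22467 D39578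
theorem N23652 : nd 23652 = n39579 := ndS (p := 22467) (l := 8) rfl N22467 D39579
theorem N23653 : nd 23653 = n39580 := ndS (p := 22468) (l := 5) rfl N22468 D39580
theorem N23654 : nd 23654 = n39581 := ndS (p := 22468) (l := 9) rfl N22468 D39581
theorem N23655 : nd 23655 = n39582 := ndS (p := 22470) (l := 5) rfl N22470 D39582
theorem N23656 : nd 23656 = n39583 := ndS (p := 22470) (l := 9) rfl N22470 D39583
theorem N23657 : nd 23657 = n39584 := ndS (p := 22471) (l := 9) rfl N22471 D39584
theorem N23658 : nd 23658 = n39585 := ndS (p := 22473) (l := 4) rfl N22473 D39585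
theorem N23659 : nd 23659 = n39586 := ndS (p := 22473) (l := 6) rfl N22473 D39586
theorem N23660 : nd 23660 = n39587 := ndS (p := 22473) (l := 9) rfl N22473 D39587
theorem N23661 : nd 23661 = n39588 := ndS (p := 22475) (l := 3) rfl N22475 D39588
theorem N23662 : nd 23662 = n39589 := ndS (p := 22475) (l := 6) rfl N22475 D39589
theorem N23663 : nd 23663 = n39590 := ndS (p := 22476) (l := 7) rfl N22476 D39590
theorem N23664 : nd 23664 = n39591 := ndS (p := 22476) (l := 9) rfl N22476 D39591
theorem N23665 : nd 23665 = n39592 := ndS (p := 22477) (l := 8) rfl N22477 D39592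
theorem N23666 : nd 23666 = n39593 := ndS (p := 22479) (l := 8) rfl N22479 D39593
theorem N23667 : nd 23667 = n39594 := ndS (p := 22482) (l := 6) rfl N22482 D39594
theorem N23668 : nd 23668 = n39595 := ndS (p := 22483) (l := 5) rfl N22483 D39595
theorem N23669 : nd 23669 = n39596 := ndS (p := 22484) (l := 5) rfl N22484 D39596
theorem N23670 : nd 23670 = n39597 := ndS (p := 22485) (l := 8) rfl N22485 D39597
theorem N23671 : nd 23671 = n39598 := ndS (p := 22486) (l := 5) rfl N22486 D39598
theorem N23672 : nd 23672 = n39599 := ndS (p := 22487) (l := 4) rfl N22487 D39599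
theorem N23673 : nd 23673 = n39600 := ndS (p := 22488) (l := 5) rfl N22488 D39600
theorem N23674 : nd 23674 = n39601 := ndS (p := 22488) (l := 9) rfl N22488 D39601
theorem N23675 : nd 23675 = n39602 := ndS (p := 22489) (l := 4) rfl N22489 D39602
theorem N23676 : nd 23676 = n39603 := ndS (p := 22489) (l := 6) rfl N22489 D39603
theorem N23677 : nd 23677 = n39604 := ndS (p := 22489) (l := 9) rfl N22489 D39604
theorem N23678 : nd 23678 = n39605 := ndS (p := 22492) (l := 3) rfl N22492 D39605
theorem N23679 : nd 23679 = n39606 := ndS (p := 22492) (l := 9) rfl N22492 D39606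
theorem N23680 : nd 23680 = n39607 := ndS (p := 22495) (l := 4) rfl N22495 D39607
theorem N23681 : nd 23681 = n39608 := ndS (p := 22495) (l := 8) rfl N22495 D39608
theorem N23682 : nd 23682 = n39609 := ndS (p := 22496) (l := 9) rfl N22496 D39609
theorem N23683 : nd 23683 = n39610 := ndS (p := 22497) (l := 4) rfl N22497 D39610
theorem N23684 : nd 23684 = n39611 := ndS (p := 22497) (l := 6) rfl N22497 D39611
theorem N23685 : nd 23685 = n39612 := ndS (p := 22497) (l := 9) rfl N22497 D39612
theorem N23686 : nd 23686 = n39613 := ndS (p := 22499) (l := 3) rfl N22499 D39613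
theorem N23687 : nd 23687 = n39614 := ndS (p := 22501) (l := 8) rfl N22501 D39614
theorem N23688 : nd 23688 = n39615 := ndS (p := 22503) (l := 4) rfl N22503 D39615
theorem N23689 : nd 23689 = n39616 := ndS (p := 22503) (l := 8) rfl N22503 D39616
theorem N23690 : nd 23690 = n39617 := ndS (p := 22504) (l := 5) rfl N22504 D39617
theorem N23691 : nd 23691 = n39618 := ndS (p := 22504) (l := 9) rfl N22504 D39618
theorem N23692 : nd 23692 = n39619 := ndS (p := 22506) (l := 5) rfl N22506 D39619
theorem N23693 : nd 23693 = n39620 := ndS (p := 22506) (l := 9) rfl N22506 D39620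
theorem N23694 : nd 23694 = n39621 := ndS (p := 22507) (l := 4) rfl N22507 D39621
theorem N23695 : nd 23695 = n39622 := ndS (p := 22507) (l := 9) rfl N22507 D39622
theorem N23696 : nd 23696 = n39623 := ndS (p := 22509) (l := 3) rfl N22509 D39623
theorem N23697 : nd 23697 = n39624 := ndS (p := 22509) (l := 9) rfl N22509 D39624
theorem N23698 : nd 23698 = n39625 := ndS (p := 22511) (l := 4) rfl N22511 D39625
theorem N23699 : nd 23699 = n39626 := ndS (p := 22511) (l := 6) rfl N22511 D39626
theorem N23700 : nd 23700 = n39627 := ndS (p := 22511) (l := 9) rfl N22511 D39627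
theorem N23701 : nd 23701 = n39628 := ndS (p := 22513) (l := 3) rfl N22513 D39628
theorem N23702 : nd 23702 = n39629 := ndS (p := 22513) (l := 6) rfl N22513 D39629
theorem N23703 : nd 23703 = n39630 := ndS (p := 22513) (l := 9) rfl N22513 D39630
theorem N23704 : nd 23704 = n39631 := ndS (p := 22514) (l := 7) rfl N22514 D39631
theorem N23705 : nd 23705 = n39632 := ndS (p := 22514) (l := 9) rfl N22514 D39632
theorem N23706 : nd 23706 = n39633 := ndS (p := 22515) (l := 8) rfl N22515 D39633
theorem N23707 : nd 23707 = n39634 := ndS (p := 22516) (l := 9) rfl N22516 D39634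
theorem N23708 : nd 23708 = n39635 := ndS (p := 22519) (l := 2) rfl N22519 D39635
theorem N23709 : nd 23709 = n39636 := ndS (p := 22522) (l := 5) rfl N22522 D39636
theorem N23710 : nd 23710 = n39637 := ndS (p := 22522) (l := 8) rfl N22522 D39637
theorem N23711 : nd 23711 = n39638 := ndS (p := 22524) (l := 4) rfl N22524 D39638
theorem N23712 : nd 23712 = n39639 := ndS (p := 22524) (l := 8) rfl N22524 D39639
theorem N23713 : nd 23713 = n39640 := ndS (p := 22525) (l := 5) rfl N22525 D39640
theorem N23714 : nd 23714 = n39641 := ndS (p := 22525) (l := 9) rfl N22525 D39641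
theorem N23715 : nd 23715 = n39642 := ndS (p := 22526) (l := 6) rfl N22526 D39642
theorem N23716 : nd 23716 = n39643 := ndS (p := 22528) (l := 5) rfl N22528 D39643
theorem N23717 : nd 23717 = n39644 := ndS (p := 22528) (l := 9) rfl N22528 D39644
theorem N23718 : nd 23718 = n39645 := ndS (p := 22529) (l := 6) rfl N22529 D39645
theorem N23719 : nd 23719 = n39646 := ndS (p := 22529) (l := 9) rfl N22529 D39646
theorem N23720 : nd 23720 = n39647 := ndS (p := 22531) (l := 7) rfl N22531 D39647
theorem N23721 : nd 23721 = n39648 := ndS (p := 22533) (l := 8) rfl N22533 D39648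
theorem N23722 : nd 23722 = n39649 := ndS (p := 22534) (l := 5) rfl N22534 D39649
theorem N23723 : nd 23723 = n39650 := ndS (p := 22534) (l := 9) rfl N22534 D39650
theorem N23724 : nd 23724 = n39651 := ndS (p := 22535) (l := 4) rfl N22535 D39651
theorem N23725 : nd 23725 = n39652 := ndS (p := 22535) (l := 6) rfl N22535 D39652
theorem N23726 : nd 23726 = n39653 := ndS (p := 22535) (l := 9) rfl N22535 D39653
theorem N23727 : nd 23727 = n39654 := ndS (p := 22537) (l := 7) rfl N22537 D39654
theorem N23728 : nd 23728 = n39655 := ndS (p := 22539) (l := 4) rfl N22539 D39655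
theorem N23729 : nd 23729 = n39656 := ndS (p := 22539) (l := 6) rfl N22539 D39656
theorem N23730 : nd 23730 = n39657 := ndS (p := 22539) (l := 9) rfl N22539 D39657
theorem N23731 : nd 23731 = n39658 := ndS (p := 22542) (l := 7) rfl N22542 D39658
theorem N23732 : nd 23732 = n39659 := ndS (p := 22543) (l := 8) rfl N22543 D39659
theorem N23733 : nd 23733 = n39660 := ndS (p := 22545) (l := 3) rfl N22545 D39660
theorem N23734 : nd 23734 = n39661 := ndS (p := 22545) (l := 9) rfl N22545 D39661
theorem N23735 : nd 23735 = n39662 := ndS (p := 22546) (l := 7) rfl N22546 D39662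
theorem N23736 : nd 23736 = n39663 := ndS (p := 22546) (l := 9) rfl N22546 D39663
theorem N23737 : nd 23737 = n39664 := ndS (p := 22547) (l := 8) rfl N22547 D39664
theorem N23738 : nd 23738 = n39665 := ndS (p := 22552) (l := 4) rfl N22552 D39665
theorem N23739 : nd 23739 = n39666 := ndS (p := 22554) (l := 5) rfl N22554 D39666
theorem N23740 : nd 23740 = n39667 := ndS (p := 22554) (l := 8) rfl N22554 D39667
theorem N23741 : nd 23741 = n39668 := ndS (p := 22556) (l := 4) rfl N22556 D39668
theorem N23742 : nd 23742 = n39669 := ndS (p := 22557) (l := 9) rfl N22557 D39669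
theorem N23743 : nd 23743 = n39670 := ndS (p := 22562) (l := 5) rfl N22562 D39670
theorem N23744 : nd 23744 = n39671 := ndS (p := 22564) (l := 4) rfl N22564 D39671
theorem N23745 : nd 23745 = n39672 := ndS (p := 22566) (l := 8) rfl N22566 D39672
theorem N23746 : nd 23746 = n39673 := ndS (p := 22570) (l := 4) rfl N22570 D39673
theorem N23747 : nd 23747 = n39674 := ndS (p := 22571) (l := 5) rfl N22571 D39674
theorem N23748 : nd 23748 = n39675 := ndS (p := 22571) (l := 9) rfl N22571 D39675
theorem N23749 : nd 23749 = n39676 := ndS (p := 22574) (l := 4) rfl N22574 D39676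
theorem N23750 : nd 23750 = n39677 := ndS (p := 22574) (l := 9) rfl N22574 D39677
theorem N23751 : nd 23751 = n39678 := ndS (p := 22577) (l := 5) rfl N22577 D39678
theorem N23752 : nd 23752 = n39679 := ndS (p := 22578) (l := 9) rfl N22578 D39679
theorem N23753 : nd 23753 = n39680 := ndS (p := 22580) (l := 4) rfl N22580 D39680
theorem N23754 : nd 23754 = n39681 := ndS (p := 22581) (l := 8) rfl N22581 D39681
theorem N23755 : nd 23755 = n39682 := ndS (p := 22583) (l := 5) rfl N22583 D39682
theorem N23756 : nd 23756 = n39683 := ndS (p := 22583) (l := 9) rfl N22583 D39683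
theorem N23757 : nd 23757 = n39684 := ndS (p := 22585) (l := 5) rfl N22585 D39684
theorem N23758 : nd 23758 = n39685 := ndS (p := 22586) (l := 3) rfl N22586 D39685
theorem N23759 : nd 23759 = n39686 := ndS (p := 22586) (l := 8) rfl N22586 D39686
theorem N23760 : nd 23760 = n39687 := ndS (p := 22587) (l := 9) rfl N22587 D39687
theorem N23761 : nd 23761 = n39688 := ndS (p := 22588) (l := 5) rfl N22588 D39688
theorem N23762 : nd 23762 = n39689 := ndS (p := 22588) (l := 9) rfl N22588 D39689
theorem N23763 : nd 23763 = n39690 := ndS (p := 22590) (l := 6) rfl N22590 D39690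
theorem N23764 : nd 23764 = n39691 := ndS (p := 22590) (l := 9) rfl N22590 D39691
theorem N23765 : nd 23765 = n39692 := ndS (p := 22592) (l := 3) rfl N22592 D39692
theorem N23766 : nd 23766 = n39693 := ndS (p := 22593) (l := 2) rfl N22593 D39693
theorem N23767 : nd 23767 = n39694 := ndS (p := 22594) (l := 3) rfl N22594 D39694
theorem N23768 : nd 23768 = n39695 := ndS (p := 22595) (l := 3) rfl N22595 D39695
theorem N23769 : nd 23769 = n39696 := ndS (p := 22595) (l := 6) rfl N22595 D39696
theorem N23770 : nd 23770 = n39697 := ndS (p := 22596) (l := 7) rfl N22596 D39697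
theorem N23771 : nd 23771 = n39698 := ndS (p := 22598) (l := 2) rfl N22598 D39698
theorem N23772 : nd 23772 = n39699 := ndS (p := 22602) (l := 6) rfl N22602 D39699
theorem N23773 : nd 23773 = n39700 := ndS (p := 22603) (l := 7) rfl N22603 D39700
theorem N23774 : nd 23774 = n39701 := ndS (p := 22603) (l := 9) rfl N22603 D39701
theorem N23775 : nd 23775 = n39702 := ndS (p := 22605) (l := 9) rfl N22605 D39702
theorem N23776 : nd 23776 = n39703 := ndS (p := 22608) (l := 6) rfl N22608 D39703
theorem N23777 : nd 23777 = n39704 := ndS (p := 22614) (l := 3) rfl N22614 D39704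
theorem N23778 : nd 23778 = n39705 := ndS (p := 22614) (l := 9) rfl N22614 D39705
theorem N23779 : nd 23779 = n39706 := ndS (p := 22615) (l := 8) rfl N22615 D39706
theorem N23780 : nd 23780 = n39707 := ndS (p := 22616) (l := 6) rfl N22616 D39707
theorem N23781 : nd 23781 = n39708 := ndS (p := 22616) (l := 9) rfl N22616 D39708
theorem N23782 : nd 23782 = n39709 := ndS (p := 22617) (l := 7) rfl N22617 D39709
theorem N23783 : nd 23783 = n39710 := ndS (p := 22617) (l := 9) rfl N22617 D39710
theorem N23784 : nd 23784 = n39711 := ndS (p := 22621) (l := 8) rfl N22621 D39711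
theorem N23785 : nd 23785 = n39712 := ndS (p := 22623) (l := 6) rfl N22623 D39712
theorem N23786 : nd 23786 = n39713 := ndS (p := 22625) (l := 5) rfl N22625 D39713
theorem N23787 : nd 23787 = n39714 := ndS (p := 22626) (l := 6) rfl N22626 D39714
theorem N23788 : nd 23788 = n39715 := ndS (p := 22627) (l := 5) rfl N22627 D39715
theorem N23789 : nd 23789 = n39716 := ndS (p := 22628) (l := 5) rfl N22628 D39716
theorem N23790 : nd 23790 = n39717 := ndS (p := 22629) (l := 8) rfl N22629 D39717
theorem N23791 : nd 23791 = n39718 := ndS (p := 22630) (l := 5) rfl N22630 D39718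
theorem N23792 : nd 23792 = n39719 := ndS (p := 22631) (l := 5) rfl N22631 D39719
theorem N23793 : nd 23793 = n39720 := ndS (p := 22631) (l := 9) rfl N22631 D39720
theorem N23794 : nd 23794 = n39721 := ndS (p := 22632) (l := 9) rfl N22632 D39721
theorem N23795 : nd 23795 = n39722 := ndS (p := 22634) (l := 9) rfl N22634 D39722
theorem N23796 : nd 23796 = n39723 := ndS (p := 22635) (l := 9) rfl N22635 D39723
theorem N23797 : nd 23797 = n39724 := ndS (p := 22636) (l := 6) rfl N22636 D39724
theorem N23798 : nd 23798 = n39725 := ndS (p := 22637) (l := 5) rfl N22637 D39725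
theorem N23799 : nd 23799 = n39726 := ndS (p := 22638) (l := 8) rfl N22638 D39726
theorem N23800 : nd 23800 = n39727 := ndS (p := 22639) (l := 4) rfl N22639 D39727
theorem N23801 : nd 23801 = n39728 := ndS (p := 22639) (l := 8) rfl N22639 D39728
theorem N23802 : nd 23802 = n39729 := ndS (p := 22640) (l := 9) rfl N22640 D39729
theorem N23803 : nd 23803 = n39730 := ndS (p := 22641) (l := 6) rfl N22641 D39730
theorem N23804 : nd 23804 = n39731 := ndS (p := 22641) (l := 9) rfl N22641 D39731
theorem N23805 : nd 23805 = n39732 := ndS (p := 22643) (l := 7) rfl N22643 D39732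
theorem N23806 : nd 23806 = n39733 := ndS (p := 22643) (l := 9) rfl N22643 D39733
theorem N23807 : nd 23807 = n39734 := ndS (p := 22644) (l := 8) rfl N22644 D39734
theorem N23808 : nd 23808 = n39735 := ndS (p := 22647) (l := 5) rfl N22647 D39735
theorem N23809 : nd 23809 = n39736 := ndS (p := 22648) (l := 4) rfl N22648 D39736
theorem N23810 : nd 23810 = n39737 := ndS (p := 22649) (l := 8) rfl N22649 D39737
theorem N23811 : nd 23811 = n39738 := ndS (p := 22651) (l := 4) rfl N22651 D39738
theorem N23812 : nd 23812 = n39739 := ndS (p := 22653) (l := 5) rfl N22653 D39739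
theorem N23813 : nd 23813 = n39740 := ndS (p := 22654) (l := 5) rfl N22654 D39740
theorem N23814 : nd 23814 = n39741 := ndS (p := 22654) (l := 9) rfl N22654 D39741
theorem N23815 : nd 23815 = n39742 := ndS (p := 22655) (l := 4) rfl N22655 D39742
theorem N23816 : nd 23816 = n39743 := ndS (p := 22655) (l := 9) rfl N22655 D39743
theorem N23817 : nd 23817 = n39744 := ndS (p := 22657) (l := 9) rfl N22657 D39744
theorem N23818 : nd 23818 = n39745 := ndS (p := 22660) (l := 5) rfl N22660 D39745
theorem N23819 : nd 23819 = n39746 := ndS (p := 22661) (l := 5) rfl N22661 D39746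
theorem N23820 : nd 23820 = n39747 := ndS (p := 22662) (l := 8) rfl N22662 D39747
theorem N23821 : nd 23821 = n39748 := ndS (p := 22663) (l := 5) rfl N22663 D39748
theorem N23822 : nd 23822 = n39749 := ndS (p := 22663) (l := 9) rfl N22663 D39749
theorem N23823 : nd 23823 = n39750 := ndS (p := 22664) (l := 4) rfl N22664 D39750
theorem N23824 : nd 23824 = n39751 := ndS (p := 22664) (l := 6) rfl N22664 D39751
theorem N23825 : nd 23825 = n39752 := ndS (p := 22664) (l := 9) rfl N22664 D39752
theorem N23826 : nd 23826 = n39753 := ndS (p := 22667) (l := 9) rfl N22667 D39753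
theorem N23827 : nd 23827 = n39754 := ndS (p := 22669) (l := 8) rfl N22669 D39754
theorem N23828 : nd 23828 = n39755 := ndS (p := 22670) (l := 4) rfl N22670 D39755
theorem N23829 : nd 23829 = n39756 := ndS (p := 22670) (l := 8) rfl N22670 D39756
theorem N23830 : nd 23830 = n39757 := ndS (p := 22671) (l := 9) rfl N22671 D39757
theorem N23831 : nd 23831 = n39758 := ndS (p := 22672) (l := 4) rfl N22672 D39758
theorem N23832 : nd 23832 = n39759 := ndS (p := 22672) (l := 9) rfl N22672 D39759
theorem N23833 : nd 23833 = n39760 := ndS (p := 22674) (l := 3) rfl N22674 D39760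
theorem N23834 : nd 23834 = n39761 := ndS (p := 22674) (l := 9) rfl N22674 D39761
theorem N23835 : nd 23835 = n39762 := ndS (p := 22675) (l := 8) rfl N22675 D39762
theorem N23836 : nd 23836 = n39763 := ndS (p := 22676) (l := 2) rfl N22676 D39763
theorem N23837 : nd 23837 = n39764 := ndS (p := 22676) (l := 9) rfl N22676 D39764
theorem N23838 : nd 23838 = n39765 := ndS (p := 22682) (l := 6) rfl N22682 D39765
theorem N23839 : nd 23839 = n39766 := ndS (p := 22683) (l := 5) rfl N22683 D39766
theorem N23840 : nd 23840 = n39767 := ndS (p := 22684) (l := 5) rfl N22684 D39767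
theorem N23841 : nd 23841 = n39768 := ndS (p := 22684) (l := 8) rfl N22684 D39768
theorem N23842 : nd 23842 = n39769 := ndS (p := 22686) (l := 8) rfl N22686 D39769
theorem N23843 : nd 23843 = n39770 := ndS (p := 22687) (l := 5) rfl N22687 D39770
theorem N23844 : nd 23844 = n39771 := ndS (p := 22687) (l := 9) rfl N22687 D39771
theorem N23845 : nd 23845 = n39772 := ndS (p := 22688) (l := 6) rfl N22688 D39772
theorem N23846 : nd 23846 = n39773 := ndS (p := 22690) (l := 4) rfl N22690 D39773
theorem N23847 : nd 23847 = n39774 := ndS (p := 22690) (l := 9) rfl N22690 D39774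
theorem N23848 : nd 23848 = n39775 := ndS (p := 22692) (l := 5) rfl N22692 D39775
theorem N23849 : nd 23849 = n39776 := ndS (p := 22692) (l := 9) rfl N22692 D39776
theorem N23850 : nd 23850 = n39777 := ndS (p := 22693) (l := 4) rfl N22693 D39777
theorem N23851 : nd 23851 = n39778 := ndS (p := 22693) (l := 6) rfl N22693 D39778
theorem N23852 : nd 23852 = n39779 := ndS (p := 22693) (l := 9) rfl N22693 D39779
theorem N23853 : nd 23853 = n39780 := ndS (p := 22695) (l := 7) rfl N22695 D39780
theorem N23854 : nd 23854 = n39781 := ndS (p := 22697) (l := 3) rfl N22697 D39781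
theorem N23855 : nd 23855 = n39782 := ndS (p := 22697) (l := 9) rfl N22697 D39782
theorem N23856 : nd 23856 = n39783 := ndS (p := 22698) (l := 8) rfl N22698 D39783
theorem N23857 : nd 23857 = n39784 := ndS (p := 22699) (l := 2) rfl N22699 D39784
theorem N23858 : nd 23858 = n39785 := ndS (p := 22699) (l := 9) rfl N22699 D39785
theorem N23859 : nd 23859 = n39786 := ndS (p := 22702) (l := 6) rfl N22702 D39786
theorem N23860 : nd 23860 = n39787 := ndS (p := 22703) (l := 5) rfl N22703 D39787
theorem N23861 : nd 23861 = n39788 := ndS (p := 22704) (l := 8) rfl N22704 D39788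
theorem N23862 : nd 23862 = n39789 := ndS (p := 22705) (l := 5) rfl N22705 D39789
theorem N23863 : nd 23863 = n39790 := ndS (p := 22706) (l := 6) rfl N22706 D39790
theorem N23864 : nd 23864 = n39791 := ndS (p := 22707) (l := 4) rfl N22707 D39791
theorem N23865 : nd 23865 = n39792 := ndS (p := 22708) (l := 4) rfl N22708 D39792
theorem N23866 : nd 23866 = n39793 := ndS (p := 22708) (l := 8) rfl N22708 D39793
theorem N23867 : nd 23867 = n39794 := ndS (p := 22709) (l := 5) rfl N22709 D39794
theorem N23868 : nd 23868 = n39795 := ndS (p := 22709) (l := 9) rfl N22709 D39795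
theorem N23869 : nd 23869 = n39796 := ndS (p := 22710) (l := 4) rfl N22710 D39796
theorem N23870 : nd 23870 = n39797 := ndS (p := 22710) (l := 6) rfl N22710 D39797
theorem N23871 : nd 23871 = n39798 := ndS (p := 22711) (l := 7) rfl N22711 D39798
theorem N23872 : nd 23872 = n39799 := ndS (p := 22713) (l := 3) rfl N22713 D39799
theorem N23873 : nd 23873 = n39800 := ndS (p := 22714) (l := 4) rfl N22714 D39800
theorem N23874 : nd 23874 = n39801 := ndS (p := 22714) (l := 6) rfl N22714 D39801
theorem N23875 : nd 23875 = n39802 := ndS (p := 22714) (l := 9) rfl N22714 D39802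
theorem N23876 : nd 23876 = n39803 := ndS (p := 22716) (l := 6) rfl N22716 D39803
theorem N23877 : nd 23877 = n39804 := ndS (p := 22716) (l := 9) rfl N22716 D39804
theorem N23878 : nd 23878 = n39805 := ndS (p := 22717) (l := 7) rfl N22717 D39805
theorem N23879 : nd 23879 = n39806 := ndS (p := 22718) (l := 8) rfl N22718 D39806
theorem N23880 : nd 23880 = n39807 := ndS (p := 22721) (l := 5) rfl N22721 D39807
theorem N23881 : nd 23881 = n39808 := ndS (p := 22722) (l := 4) rfl N22722 D39808
theorem N23882 : nd 23882 = n39809 := ndS (p := 22722) (l := 8) rfl N22722 D39809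
theorem N23883 : nd 23883 = n39810 := ndS (p := 22723) (l := 5) rfl N22723 D39810
theorem N23884 : nd 23884 = n39811 := ndS (p := 22723) (l := 9) rfl N22723 D39811
theorem N23885 : nd 23885 = n39812 := ndS (p := 22724) (l := 4) rfl N22724 D39812
theorem N23886 : nd 23886 = n39813 := ndS (p := 22725) (l := 3) rfl N22725 D39813
theorem N23887 : nd 23887 = n39814 := ndS (p := 22726) (l := 8) rfl N22726 D39814
theorem N23888 : nd 23888 = n39815 := ndS (p := 22727) (l := 5) rfl N22727 D39815
theorem N23889 : nd 23889 = n39816 := ndS (p := 22727) (l := 9) rfl N22727 D39816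
theorem N23890 : nd 23890 = n39817 := ndS (p := 22728) (l := 4) rfl N22728 D39817
theorem N23891 : nd 23891 = n39818 := ndS (p := 22728) (l := 6) rfl N22728 D39818
theorem N23892 : nd 23892 = n39819 := ndS (p := 22729) (l := 7) rfl N22729 D39819
theorem N23893 : nd 23893 = n39820 := ndS (p := 22731) (l := 4) rfl N22731 D39820
theorem N23894 : nd 23894 = n39821 := ndS (p := 22731) (l := 6) rfl N22731 D39821
theorem N23895 : nd 23895 = n39822 := ndS (p := 22731) (l := 9) rfl N22731 D39822
theorem N23896 : nd 23896 = n39823 := ndS (p := 22733) (l := 3) rfl N22733 D39823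
theorem N23897 : nd 23897 = n39824 := ndS (p := 22733) (l := 6) rfl N22733 D39824
theorem N23898 : nd 23898 = n39825 := ndS (p := 22733) (l := 9) rfl N22733 D39825
theorem N23899 : nd 23899 = n39826 := ndS (p := 22734) (l := 7) rfl N22734 D39826
theorem N23900 : nd 23900 = n39827 := ndS (p := 22734) (l := 9) rfl N22734 D39827
theorem N23901 : nd 23901 = n39828 := ndS (p := 22735) (l := 8) rfl N22735 D39828
theorem N23902 : nd 23902 = n39829 := ndS (p := 22736) (l := 9) rfl N22736 D39829
theorem N23903 : nd 23903 = n39830 := ndS (p := 22739) (l := 2) rfl N22739 D39830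
theorem N23904 : nd 23904 = n39831 := ndS (p := 22741) (l := 3) rfl N22741 D39831
theorem N23905 : nd 23905 = n39832 := ndS (p := 22741) (l := 6) rfl N22741 D39832
theorem N23906 : nd 23906 = n39833 := ndS (p := 22741) (l := 9) rfl N22741 D39833
theorem N23907 : nd 23907 = n39834 := ndS (p := 22742) (l := 7) rfl N22742 D39834
theorem N23908 : nd 23908 = n39835 := ndS (p := 22742) (l := 9) rfl N22742 D39835
theorem N23909 : nd 23909 = n39836 := ndS (p := 22743) (l := 8) rfl N22743 D39836
theorem N23910 : nd 23910 = n39837 := ndS (p := 22744) (l := 2) rfl N22744 D39837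
theorem N23911 : nd 23911 = n39838 := ndS (p := 22744) (l := 6) rfl N22744 D39838
theorem N23912 : nd 23912 = n39839 := ndS (p := 22744) (l := 9) rfl N22744 D39839
theorem N23913 : nd 23913 = n39840 := ndS (p := 22745) (l := 7) rfl N22745 D39840
theorem N23914 : nd 23914 = n39841 := ndS (p := 22745) (l := 9) rfl N22745 D39841
theorem N23915 : nd 23915 = n39842 := ndS (p := 22746) (l := 8) rfl N22746 D39842
theorem N23916 : nd 23916 = n39843 := ndS (p := 22747) (l := 9) rfl N22747 D39843
theorem N23917 : nd 23917 = n39844 := ndS (p := 22748) (l := 8) rfl N22748 D39844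
theorem N23918 : nd 23918 = n39845 := ndS (p := 22751) (l := 1) rfl N22751 D39845
theorem N23919 : nd 23919 = n39846 := ndS (p := 22753) (l := 5) rfl N22753 D39846
theorem N23920 : nd 23920 = n39847 := ndS (p := 22755) (l := 2) rfl N22755 D39847
theorem N23921 : nd 23921 = n39848 := ndS (p := 22756) (l := 2) rfl N22756 D39848
theorem N23922 : nd 23922 = n39849 := ndS (p := 22756) (l := 6) rfl N22756 D39849
theorem N23923 : nd 23923 = n39850 := ndS (p := 22757) (l := 7) rfl N22757 D39850
theorem N23924 : nd 23924 = n39851 := ndS (p := 22757) (l := 9) rfl N22757 D39851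
theorem N23925 : nd 23925 = n39852 := ndS (p := 22759) (l := 9) rfl N22759 D39852
theorem N23926 : nd 23926 = n39853 := ndS (p := 22763) (l := 6) rfl N22763 D39853
theorem N23927 : nd 23927 = n39854 := ndS (p := 22764) (l := 7) rfl N22764 D39854
theorem N23928 : nd 23928 = n39855 := ndS (p := 22764) (l := 9) rfl N22764 D39855
theorem N23929 : nd 23929 = n39856 := ndS (p := 22766) (l := 9) rfl N22766 D39856
theorem N23930 : nd 23930 = n39857 := ndS (p := 22770) (l := 6) rfl N22770 D39857
theorem N23931 : nd 23931 = n39858 := ndS (p := 22771) (l := 7) rfl N22771 D39858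
theorem N23932 : nd 23932 = n39859 := ndS (p := 22773) (l := 7) rfl N22773 D39859
theorem N23933 : nd 23933 = n39860 := ndS (p := 22776) (l := 5) rfl N22776 D39860
theorem N23934 : nd 23934 = n39861 := ndS (p := 22777) (l := 4) rfl N22777 D39861
theorem N23935 : nd 23935 = n39862 := ndS (p := 22777) (l := 8) rfl N22777 D39862
theorem N23936 : nd 23936 = n39863 := ndS (p := 22779) (l := 8) rfl N22779 D39863
theorem N23937 : nd 23937 = n39864 := ndS (p := 22782) (l := 4) rfl N22782 D39864
theorem N23938 : nd 23938 = n39865 := ndS (p := 22782) (l := 8) rfl N22782 D39865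
theorem N23939 : nd 23939 = n39866 := ndS (p := 22783) (l := 8) rfl N22783 D39866
theorem N23940 : nd 23940 = n39867 := ndS (p := 22785) (l := 5) rfl N22785 D39867
theorem N23941 : nd 23941 = n39868 := ndS (p := 22786) (l := 4) rfl N22786 D39868
theorem N23942 : nd 23942 = n39869 := ndS (p := 22788) (l := 3) rfl N22788 D39869
theorem N23943 : nd 23943 = n39870 := ndS (p := 22790) (l := 3) rfl N22790 D39870
theorem N23944 : nd 23944 = n39871 := ndS (p := 22790) (l := 8) rfl N22790 D39871
theorem N23945 : nd 23945 = n39872 := ndS (p := 22793) (l := 6) rfl N22793 D39872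
theorem N23946 : nd 23946 = n39873 := ndS (p := 22794) (l := 5) rfl N22794 D39873
theorem N23947 : nd 23947 = n39874 := ndS (p := 22795) (l := 8) rfl N22795 D39874
theorem N23948 : nd 23948 = n39875 := ndS (p := 22796) (l := 9) rfl N22796 D39875
theorem N23949 : nd 23949 = n39876 := ndS (p := 22797) (l := 5) rfl N22797 D39876
theorem N23950 : nd 23950 = n39877 := ndS (p := 22798) (l := 8) rfl N22798 D39877
theorem N23951 : nd 23951 = n39878 := ndS (p := 22799) (l := 4) rfl N22799 D39878
theorem N23952 : nd 23952 = n39879 := ndS (p := 22800) (l := 5) rfl N22800 D39879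
theorem N23953 : nd 23953 = n39880 := ndS (p := 22800) (l := 9) rfl N22800 D39880
theorem N23954 : nd 23954 = n39881 := ndS (p := 22801) (l := 4) rfl N22801 D39881
theorem N23955 : nd 23955 = n39882 := ndS (p := 22803) (l := 5) rfl N22803 D39882
theorem N23956 : nd 23956 = n39883 := ndS (p := 22804) (l := 5) rfl N22804 D39883
theorem N23957 : nd 23957 = n39884 := ndS (p := 22805) (l := 8) rfl N22805 D39884
theorem N23958 : nd 23958 = n39885 := ndS (p := 22806) (l := 5) rfl N22806 D39885
theorem N23959 : nd 23959 = n39886 := ndS (p := 22807) (l := 4) rfl N22807 D39886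
theorem N23960 : nd 23960 = n39887 := ndS (p := 22808) (l := 5) rfl N22808 D39887
theorem N23961 : nd 23961 = n39888 := ndS (p := 22808) (l := 9) rfl N22808 D39888
theorem N23962 : nd 23962 = n39889 := ndS (p := 22809) (l := 4) rfl N22809 D39889
theorem N23963 : nd 23963 = n39890 := ndS (p := 22809) (l := 6) rfl N22809 D39890
theorem N23964 : nd 23964 = n39891 := ndS (p := 22809) (l := 9) rfl N22809 D39891
theorem N23965 : nd 23965 = n39892 := ndS (p := 22811) (l := 7) rfl N22811 D39892
theorem N23966 : nd 23966 = n39893 := ndS (p := 22813) (l := 9) rfl N22813 D39893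
theorem N23967 : nd 23967 = n39894 := ndS (p := 22815) (l := 5) rfl N22815 D39894
theorem N23968 : nd 23968 = n39895 := ndS (p := 22816) (l := 5) rfl N22816 D39895
theorem N23969 : nd 23969 = n39896 := ndS (p := 22817) (l := 8) rfl N22817 D39896
theorem N23970 : nd 23970 = n39897 := ndS (p := 22818) (l := 5) rfl N22818 D39897
theorem N23971 : nd 23971 = n39898 := ndS (p := 22819) (l := 6) rfl N22819 D39898
theorem N23972 : nd 23972 = n39899 := ndS (p := 22820) (l := 4) rfl N22820 D39899
theorem N23973 : nd 23973 = n39900 := ndS (p := 22821) (l := 5) rfl N22821 D39900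
theorem N23974 : nd 23974 = n39901 := ndS (p := 22821) (l := 9) rfl N22821 D39901
theorem N23975 : nd 23975 = n39902 := ndS (p := 22822) (l := 4) rfl N22822 D39902
theorem N23976 : nd 23976 = n39903 := ndS (p := 22822) (l := 6) rfl N22822 D39903
theorem N23977 : nd 23977 = n39904 := ndS (p := 22823) (l := 7) rfl N22823 D39904
theorem N23978 : nd 23978 = n39905 := ndS (p := 22825) (l := 3) rfl N22825 D39905
theorem N23979 : nd 23979 = n39906 := ndS (p := 22827) (l := 5) rfl N22827 D39906
theorem N23980 : nd 23980 = n39907 := ndS (p := 22828) (l := 5) rfl N22828 D39907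
theorem N23981 : nd 23981 = n39908 := ndS (p := 22829) (l := 8) rfl N22829 D39908
theorem N23982 : nd 23982 = n39909 := ndS (p := 22830) (l := 5) rfl N22830 D39909
theorem N23983 : nd 23983 = n39910 := ndS (p := 22831) (l := 4) rfl N22831 D39910
theorem N23984 : nd 23984 = n39911 := ndS (p := 22831) (l := 8) rfl N22831 D39911
theorem N23985 : nd 23985 = n39912 := ndS (p := 22832) (l := 5) rfl N22832 D39912
theorem N23986 : nd 23986 = n39913 := ndS (p := 22832) (l := 9) rfl N22832 D39913
theorem N23987 : nd 23987 = n39914 := ndS (p := 22833) (l := 4) rfl N22833 D39914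
theorem N23988 : nd 23988 = n39915 := ndS (p := 22835) (l := 4) rfl N22835 D39915
theorem N23989 : nd 23989 = n39916 := ndS (p := 22835) (l := 9) rfl N22835 D39916
theorem N23990 : nd 23990 = n39917 := ndS (p := 22839) (l := 6) rfl N22839 D39917
theorem N23991 : nd 23991 = n39918 := ndS (p := 22840) (l := 7) rfl N22840 D39918
theorem N23992 : nd 23992 = n39919 := ndS (p := 22843) (l := 6) rfl N22843 D39919
theorem N23993 : nd 23993 = n39920 := ndS (p := 22844) (l := 5) rfl N22844 D39920
theorem N23994 : nd 23994 = n39921 := ndS (p := 22845) (l := 5) rfl N22845 D39921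
theorem N23995 : nd 23995 = n39922 := ndS (p := 22845) (l := 8) rfl N22845 D39922
theorem N23996 : nd 23996 = n39923 := ndS (p := 22847) (l := 8) rfl N22847 D39923
theorem N23997 : nd 23997 = n39924 := ndS (p := 22848) (l := 5) rfl N22848 D39924
theorem N23998 : nd 23998 = n39925 := ndS (p := 22849) (l := 6) rfl N22849 D39925
theorem N23999 : nd 23999 = n39926 := ndS (p := 22850) (l := 4) rfl N22850 D39926
theorem N24000 : nd 24000 = n39927 := ndS (p := 22851) (l := 5) rfl N22851 D39927
theorem N24001 : nd 24001 = n39928 := ndS (p := 22851) (l := 9) rfl N22851 D39928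
theorem N24002 : nd 24002 = n39929 := ndS (p := 22852) (l := 4) rfl N22852 D39929
theorem N24003 : nd 24003 = n39930 := ndS (p := 22852) (l := 6) rfl N22852 D39930
theorem N24004 : nd 24004 = n39931 := ndS (p := 22853) (l := 7) rfl N22853 D39931
theorem N24005 : nd 24005 = n39932 := ndS (p := 22855) (l := 3) rfl N22855 D39932
theorem N24006 : nd 24006 = n39933 := ndS (p := 22856) (l := 2) rfl N22856 D39933
theorem N24007 : nd 24007 = n39934 := ndS (p := 22857) (l := 5) rfl N22857 D39934
theorem N24008 : nd 24008 = n39935 := ndS (p := 22858) (l := 5) rfl N22858 D39935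
theorem N24009 : nd 24009 = n39936 := ndS (p := 22859) (l := 8) rfl N22859 D39936
theorem N24010 : nd 24010 = n39937 := ndS (p := 22860) (l := 5) rfl N22860 D39937
theorem N24011 : nd 24011 = n39938 := ndS (p := 22861) (l := 4) rfl N22861 D39938
theorem N24012 : nd 24012 = n39939 := ndS (p := 22862) (l := 4) rfl N22862 D39939
theorem N24013 : nd 24013 = n39940 := ndS (p := 22862) (l := 8) rfl N22862 D39940
theorem N24014 : nd 24014 = n39941 := ndS (p := 22863) (l := 5) rfl N22863 D39941
theorem N24015 : nd 24015 = n39942 := ndS (p := 22864) (l := 5) rfl N22864 D39942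
theorem N24016 : nd 24016 = n39943 := ndS (p := 22864) (l := 9) rfl N22864 D39943
theorem N24017 : nd 24017 = n39944 := ndS (p := 22865) (l := 4) rfl N22865 D39944
theorem N24018 : nd 24018 = n39945 := ndS (p := 22865) (l := 6) rfl N22865 D39945
theorem N24019 : nd 24019 = n39946 := ndS (p := 22865) (l := 9) rfl N22865 D39946
theorem N24020 : nd 24020 = n39947 := ndS (p := 22867) (l := 7) rfl N22867 D39947
theorem N24021 : nd 24021 = n39948 := ndS (p := 22867) (l := 9) rfl N22867 D39948
theorem N24022 : nd 24022 = n39949 := ndS (p := 22870) (l := 3) rfl N22870 D39949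
theorem N24023 : nd 24023 = n39950 := ndS (p := 22870) (l := 9) rfl N22870 D39950
theorem N24024 : nd 24024 = n39951 := ndS (p := 22872) (l := 4) rfl N22872 D39951
theorem N24025 : nd 24025 = n39952 := ndS (p := 22872) (l := 6) rfl N22872 D39952
theorem N24026 : nd 24026 = n39953 := ndS (p := 22872) (l := 9) rfl N22872 D39953
theorem N24027 : nd 24027 = n39954 := ndS (p := 22874) (l := 3) rfl N22874 D39954
theorem N24028 : nd 24028 = n39955 := ndS (p := 22874) (l := 6) rfl N22874 D39955
theorem N24029 : nd 24029 = n39956 := ndS (p := 22874) (l := 9) rfl N22874 D39956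
theorem N24030 : nd 24030 = n39957 := ndS (p := 22875) (l := 7) rfl N22875 D39957
theorem N24031 : nd 24031 = n39958 := ndS (p := 22875) (l := 9) rfl N22875 D39958
theorem N24032 : nd 24032 = n39959 := ndS (p := 22876) (l := 8) rfl N22876 D39959
theorem N24033 : nd 24033 = n39960 := ndS (p := 22878) (l := 8) rfl N22878 D39960
theorem N24034 : nd 24034 = n39961 := ndS (p := 22883) (l := 8) rfl N22883 D39961
theorem N24035 : nd 24035 = n39962 := ndS (p := 22884) (l := 5) rfl N22884 D39962
theorem N24036 : nd 24036 = n39963 := ndS (p := 22884) (l := 9) rfl N22884 D39963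
theorem N24037 : nd 24037 = n39964 := ndS (p := 22885) (l := 4) rfl N22885 D39964
theorem N24038 : nd 24038 = n39965 := ndS (p := 22885) (l := 6) rfl N22885 D39965
theorem N24039 : nd 24039 = n39966 := ndS (p := 22886) (l := 7) rfl N22886 D39966
theorem N24040 : nd 24040 = n39967 := ndS (p := 22888) (l := 3) rfl N22888 D39967
theorem N24041 : nd 24041 = n39968 := ndS (p := 22890) (l := 8) rfl N22890 D39968
theorem N24042 : nd 24042 = n39969 := ndS (p := 22891) (l := 4) rfl N22891 D39969
theorem N24043 : nd 24043 = n39970 := ndS (p := 22891) (l := 8) rfl N22891 D39970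
theorem N24044 : nd 24044 = n39971 := ndS (p := 22892) (l := 5) rfl N22892 D39971
theorem N24045 : nd 24045 = n39972 := ndS (p := 22892) (l := 9) rfl N22892 D39972
theorem N24046 : nd 24046 = n39973 := ndS (p := 22893) (l := 4) rfl N22893 D39973
theorem N24047 : nd 24047 = n39974 := ndS (p := 22895) (l := 4) rfl N22895 D39974
theorem N24048 : nd 24048 = n39975 := ndS (p := 22895) (l := 6) rfl N22895 D39975
theorem N24049 : nd 24049 = n39976 := ndS (p := 22895) (l := 9) rfl N22895 D39976
theorem N24050 : nd 24050 = n39977 := ndS (p := 22897) (l := 3) rfl N22897 D39977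
theorem N24051 : nd 24051 = n39978 := ndS (p := 22897) (l := 6) rfl N22897 D39978
theorem N24052 : nd 24052 = n39979 := ndS (p := 22897) (l := 9) rfl N22897 D39979
theorem N24053 : nd 24053 = n39980 := ndS (p := 22898) (l := 7) rfl N22898 D39980
theorem N24054 : nd 24054 = n39981 := ndS (p := 22899) (l := 8) rfl N22899 D39981
theorem N24055 : nd 24055 = n39982 := ndS (p := 22901) (l := 2) rfl N22901 D39982
theorem N24056 : nd 24056 = n39983 := ndS (p := 22901) (l := 9) rfl N22901 D39983
theorem N24057 : nd 24057 = n39984 := ndS (p := 22905) (l := 5) rfl N22905 D39984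
theorem N24058 : nd 24058 = n39985 := ndS (p := 22906) (l := 8) rfl N22906 D39985
theorem N24059 : nd 24059 = n39986 := ndS (p := 22907) (l := 4) rfl N22907 D39986
theorem N24060 : nd 24060 = n39987 := ndS (p := 22908) (l := 4) rfl N22908 D39987
theorem N24061 : nd 24061 = n39988 := ndS (p := 22908) (l := 8) rfl N22908 D39988
theorem N24062 : nd 24062 = n39989 := ndS (p := 22909) (l := 5) rfl N22909 D39989
theorem N24063 : nd 24063 = n39990 := ndS (p := 22909) (l := 9) rfl N22909 D39990
theorem N24064 : nd 24064 = n39991 := ndS (p := 22910) (l := 4) rfl N22910 D39991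
theorem N24065 : nd 24065 = n39992 := ndS (p := 22910) (l := 6) rfl N22910 D39992
theorem N24066 : nd 24066 = n39993 := ndS (p := 22912) (l := 3) rfl N22912 D39993
theorem N24067 : nd 24067 = n39994 := ndS (p := 22912) (l := 9) rfl N22912 D39994
theorem N24068 : nd 24068 = n39995 := ndS (p := 22914) (l := 4) rfl N22914 D39995
theorem N24069 : nd 24069 = n39996 := ndS (p := 22914) (l := 6) rfl N22914 D39996
theorem N24070 : nd 24070 = n39997 := ndS (p := 22914) (l := 9) rfl N22914 D39997
theorem N24071 : nd 24071 = n39998 := ndS (p := 22916) (l := 3) rfl N22916 D39998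
theorem N24072 : nd 24072 = n39999 := ndS (p := 22916) (l := 6) rfl N22916 D39999
theorem N24073 : nd 24073 = n40000 := ndS (p := 22916) (l := 9) rfl N22916 D40000
theorem N24074 : nd 24074 = n40001 := ndS (p := 22917) (l := 7) rfl N22917 D40001
theorem N24075 : nd 24075 = n40002 := ndS (p := 22917) (l := 9) rfl N22917 D40002
theorem N24076 : nd 24076 = n40003 := ndS (p := 22918) (l := 8) rfl N22918 D40003
theorem N24077 : nd 24077 = n40004 := ndS (p := 22919) (l := 9) rfl N22919 D40004
theorem N24078 : nd 24078 = n40005 := ndS (p := 22922) (l := 2) rfl N22922 D40005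
theorem N24079 : nd 24079 = n40006 := ndS (p := 22922) (l := 9) rfl N22922 D40006
theorem N24080 : nd 24080 = n40007 := ndS (p := 22923) (l := 8) rfl N22923 D40007
theorem N24081 : nd 24081 = n40008 := ndS (p := 22927) (l := 5) rfl N22927 D40008
theorem N24082 : nd 24082 = n40009 := ndS (p := 22928) (l := 8) rfl N22928 D40009
theorem N24083 : nd 24083 = n40010 := ndS (p := 22929) (l := 5) rfl N22929 D40010
theorem N24084 : nd 24084 = n40011 := ndS (p := 22930) (l := 4) rfl N22930 D40011
theorem N24085 : nd 24085 = n40012 := ndS (p := 22930) (l := 8) rfl N22930 D40012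
theorem N24086 : nd 24086 = n40013 := ndS (p := 22931) (l := 5) rfl N22931 D40013
theorem N24087 : nd 24087 = n40014 := ndS (p := 22931) (l := 9) rfl N22931 D40014
theorem N24088 : nd 24088 = n40015 := ndS (p := 22932) (l := 4) rfl N22932 D40015
theorem N24089 : nd 24089 = n40016 := ndS (p := 22932) (l := 6) rfl N22932 D40016
theorem N24090 : nd 24090 = n40017 := ndS (p := 22935) (l := 8) rfl N22935 D40017
theorem N24091 : nd 24091 = n40018 := ndS (p := 22936) (l := 5) rfl N22936 D40018
theorem N24092 : nd 24092 = n40019 := ndS (p := 22936) (l := 9) rfl N22936 D40019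
theorem N24093 : nd 24093 = n40020 := ndS (p := 22937) (l := 4) rfl N22937 D40020
theorem N24094 : nd 24094 = n40021 := ndS (p := 22937) (l := 6) rfl N22937 D40021
theorem N24095 : nd 24095 = n40022 := ndS (p := 22938) (l := 7) rfl N22938 D40022
theorem N24096 : nd 24096 = n40023 := ndS (p := 22940) (l := 4) rfl N22940 D40023
theorem N24097 : nd 24097 = n40024 := ndS (p := 22940) (l := 6) rfl N22940 D40024
theorem N24098 : nd 24098 = n40025 := ndS (p := 22940) (l := 9) rfl N22940 D40025
theorem N24099 : nd 24099 = n40026 := ndS (p := 22942) (l := 3) rfl N22942 D40026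
theorem N24100 : nd 24100 = n40027 := ndS (p := 22942) (l := 6) rfl N22942 D40027
theorem N24101 : nd 24101 = n40028 := ndS (p := 22942) (l := 9) rfl N22942 D40028
theorem N24102 : nd 24102 = n40029 := ndS (p := 22943) (l := 7) rfl N22943 D40029
theorem N24103 : nd 24103 = n40030 := ndS (p := 22944) (l := 8) rfl N22944 D40030
theorem N24104 : nd 24104 = n40031 := ndS (p := 22948) (l := 3) rfl N22948 D40031
theorem N24105 : nd 24105 = n40032 := ndS (p := 22948) (l := 6) rfl N22948 D40032
theorem N24106 : nd 24106 = n40033 := ndS (p := 22948) (l := 9) rfl N22948 D40033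
theorem N24107 : nd 24107 = n40034 := ndS (p := 22949) (l := 7) rfl N22949 D40034
theorem N24108 : nd 24108 = n40035 := ndS (p := 22949) (l := 9) rfl N22949 D40035
theorem N24109 : nd 24109 = n40036 := ndS (p := 22950) (l := 8) rfl N22950 D40036
theorem N24110 : nd 24110 = n40037 := ndS (p := 22952) (l := 7) rfl N22952 D40037
theorem N24111 : nd 24111 = n40038 := ndS (p := 22953) (l := 8) rfl N22953 D40038
theorem N24112 : nd 24112 = n40039 := ndS (p := 22956) (l := 6) rfl N22956 D40039
theorem N24113 : nd 24113 = n40040 := ndS (p := 22957) (l := 7) rfl N22957 D40040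
theorem N24114 : nd 24114 = n40041 := ndS (p := 22961) (l := 6) rfl N22961 D40041
theorem N24115 : nd 24115 = n40042 := ndS (p := 22963) (l := 6) rfl N22963 D40042
theorem N24116 : nd 24116 = n40043 := ndS (p := 22964) (l := 7) rfl N22964 D40043
theorem N24117 : nd 24117 = n40044 := ndS (p := 22966) (l := 5) rfl N22966 D40044
theorem N24118 : nd 24118 = n40045 := ndS (p := 22966) (l := 7) rfl N22966 D40045
theorem N24119 : nd 24119 = n40046 := ndS (p := 22969) (l := 4) rfl N22969 D40046
theorem N24120 : nd 24120 = n40047 := ndS (p := 22975) (l := 5) rfl N22975 D40047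
theorem N24121 : nd 24121 = n40048 := ndS (p := 22977) (l := 6) rfl N22977 D40048
theorem N24122 : nd 24122 = n40049 := ndS (p := 22978) (l := 9) rfl N22978 D40049
theorem N24123 : nd 24123 = n40050 := ndS (p := 22980) (l := 9) rfl N22980 D40050
theorem N24124 : nd 24124 = n40051 := ndS (p := 22981) (l := 9) rfl N22981 D40051
theorem N24125 : nd 24125 = n40052 := ndS (p := 22983) (l := 4) rfl N22983 D40052
theorem N24126 : nd 24126 = n40053 := ndS (p := 22983) (l := 8) rfl N22983 D40053
theorem N24127 : nd 24127 = n40054 := ndS (p := 22984) (l := 9) rfl N22984 D40054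
theorem N24128 : nd 24128 = n40055 := ndS (p := 22985) (l := 9) rfl N22985 D40055
theorem N24129 : nd 24129 = n40056 := ndS (p := 22987) (l := 8) rfl N22987 D40056
theorem N24130 : nd 24130 = n40057 := ndS (p := 22988) (l := 4) rfl N22988 D40057
theorem N24131 : nd 24131 = n40058 := ndS (p := 22988) (l := 8) rfl N22988 D40058
theorem N24132 : nd 24132 = n40059 := ndS (p := 22989) (l := 9) rfl N22989 D40059
theorem N24133 : nd 24133 = n40060 := ndS (p := 22990) (l := 4) rfl N22990 D40060
theorem N24134 : nd 24134 = n40061 := ndS (p := 22990) (l := 6) rfl N22990 D40061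
theorem N24135 : nd 24135 = n40062 := ndS (p := 22990) (l := 9) rfl N22990 D40062
theorem N24136 : nd 24136 = n40063 := ndS (p := 22992) (l := 3) rfl N22992 D40063
theorem N24137 : nd 24137 = n40064 := ndS (p := 22992) (l := 6) rfl N22992 D40064
theorem N24138 : nd 24138 = n40065 := ndS (p := 22993) (l := 7) rfl N22993 D40065
theorem N24139 : nd 24139 = n40066 := ndS (p := 22996) (l := 8) rfl N22996 D40066
theorem N24140 : nd 24140 = n40067 := ndS (p := 22997) (l := 9) rfl N22997 D40067
theorem N24141 : nd 24141 = n40068 := ndS (p := 23000) (l := 5) rfl N23000 D40068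
theorem N24142 : nd 24142 = n40069 := ndS (p := 23001) (l := 5) rfl N23001 D40069
theorem N24143 : nd 24143 = n40070 := ndS (p := 23002) (l := 8) rfl N23002 D40070
theorem N24144 : nd 24144 = n40071 := ndS (p := 23003) (l := 5) rfl N23003 D40071
theorem N24145 : nd 24145 = n40072 := ndS (p := 23003) (l := 9) rfl N23003 D40072
theorem N24146 : nd 24146 = n40073 := ndS (p := 23004) (l := 4) rfl N23004 D40073
theorem N24147 : nd 24147 = n40074 := ndS (p := 23004) (l := 6) rfl N23004 D40074
theorem N24148 : nd 24148 = n40075 := ndS (p := 23007) (l := 5) rfl N23007 D40075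
theorem N24149 : nd 24149 = n40076 := ndS (p := 23008) (l := 8) rfl N23008 D40076
theorem N24150 : nd 24150 = n40077 := ndS (p := 23009) (l := 4) rfl N23009 D40077
theorem N24151 : nd 24151 = n40078 := ndS (p := 23009) (l := 8) rfl N23009 D40078
theorem N24152 : nd 24152 = n40079 := ndS (p := 23010) (l := 5) rfl N23010 D40079
theorem N24153 : nd 24153 = n40080 := ndS (p := 23010) (l := 9) rfl N23010 D40080
theorem N24154 : nd 24154 = n40081 := ndS (p := 23012) (l := 5) rfl N23012 D40081
theorem N24155 : nd 24155 = n40082 := ndS (p := 23012) (l := 9) rfl N23012 D40082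
theorem N24156 : nd 24156 = n40083 := ndS (p := 23013) (l := 4) rfl N23013 D40083
theorem N24157 : nd 24157 = n40084 := ndS (p := 23013) (l := 9) rfl N23013 D40084
theorem N24158 : nd 24158 = n40085 := ndS (p := 23015) (l := 3) rfl N23015 D40085
theorem N24159 : nd 24159 = n40086 := ndS (p := 23015) (l := 9) rfl N23015 D40086
theorem N24160 : nd 24160 = n40087 := ndS (p := 23016) (l := 8) rfl N23016 D40087
theorem N24161 : nd 24161 = n40088 := ndS (p := 23017) (l := 4) rfl N23017 D40088
theorem N24162 : nd 24162 = n40089 := ndS (p := 23017) (l := 6) rfl N23017 D40089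
theorem N24163 : nd 24163 = n40090 := ndS (p := 23017) (l := 9) rfl N23017 D40090
theorem N24164 : nd 24164 = n40091 := ndS (p := 23019) (l := 3) rfl N23019 D40091
theorem N24165 : nd 24165 = n40092 := ndS (p := 23019) (l := 6) rfl N23019 D40092
theorem N24166 : nd 24166 = n40093 := ndS (p := 23019) (l := 9) rfl N23019 D40093
theorem N24167 : nd 24167 = n40094 := ndS (p := 23020) (l := 7) rfl N23020 D40094
theorem N24168 : nd 24168 = n40095 := ndS (p := 23020) (l := 9) rfl N23020 D40095
theorem N24169 : nd 24169 = n40096 := ndS (p := 23021) (l := 8) rfl N23021 D40096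
theorem N24170 : nd 24170 = n40097 := ndS (p := 23022) (l := 9) rfl N23022 D40097
theorem N24171 : nd 24171 = n40098 := ndS (p := 23023) (l := 8) rfl N23023 D40098
theorem N24172 : nd 24172 = n40099 := ndS (p := 23026) (l := 2) rfl N23026 D40099
theorem N24173 : nd 24173 = n40100 := ndS (p := 23026) (l := 9) rfl N23026 D40100
theorem N24174 : nd 24174 = n40101 := ndS (p := 23027) (l := 8) rfl N23027 D40101
theorem N24175 : nd 24175 = n40102 := ndS (p := 23029) (l := 9) rfl N23029 D40102
theorem N24176 : nd 24176 = n40103 := ndS (p := 23032) (l := 8) rfl N23032 D40103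
theorem N24177 : nd 24177 = n40104 := ndS (p := 23033) (l := 4) rfl N23033 D40104
theorem N24178 : nd 24178 = n40105 := ndS (p := 23033) (l := 8) rfl N23033 D40105
theorem N24179 : nd 24179 = n40106 := ndS (p := 23034) (l := 5) rfl N23034 D40106
theorem N24180 : nd 24180 = n40107 := ndS (p := 23034) (l := 9) rfl N23034 D40107
theorem N24181 : nd 24181 = n40108 := ndS (p := 23035) (l := 4) rfl N23035 D40108
theorem N24182 : nd 24182 = n40109 := ndS (p := 23035) (l := 6) rfl N23035 D40109
theorem N24183 : nd 24183 = n40110 := ndS (p := 23038) (l := 4) rfl N23038 D40110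
theorem N24184 : nd 24184 = n40111 := ndS (p := 23038) (l := 6) rfl N23038 D40111
theorem N24185 : nd 24185 = n40112 := ndS (p := 23038) (l := 9) rfl N23038 D40112
theorem N24186 : nd 24186 = n40113 := ndS (p := 23040) (l := 3) rfl N23040 D40113
theorem N24187 : nd 24187 = n40114 := ndS (p := 23040) (l := 6) rfl N23040 D40114
theorem N24188 : nd 24188 = n40115 := ndS (p := 23040) (l := 9) rfl N23040 D40115
theorem N24189 : nd 24189 = n40116 := ndS (p := 23041) (l := 7) rfl N23041 D40116
theorem N24190 : nd 24190 = n40117 := ndS (p := 23041) (l := 9) rfl N23041 D40117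
theorem N24191 : nd 24191 = n40118 := ndS (p := 23042) (l := 8) rfl N23042 D40118
theorem N24192 : nd 24192 = n40119 := ndS (p := 23043) (l := 9) rfl N23043 D40119
theorem N24193 : nd 24193 = n40120 := ndS (p := 23044) (l := 8) rfl N23044 D40120
theorem N24194 : nd 24194 = n40121 := ndS (p := 23049) (l := 8) rfl N23049 D40121
theorem N24195 : nd 24195 = n40122 := ndS (p := 23050) (l := 9) rfl N23050 D40122
theorem N24196 : nd 24196 = n40123 := ndS (p := 23051) (l := 8) rfl N23051 D40123
theorem N24197 : nd 24197 = n40124 := ndS (p := 23052) (l := 5) rfl N23052 D40124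
theorem N24198 : nd 24198 = n40125 := ndS (p := 23052) (l := 9) rfl N23052 D40125
theorem N24199 : nd 24199 = n40126 := ndS (p := 23054) (l := 9) rfl N23054 D40126
theorem N24200 : nd 24200 = n40127 := ndS (p := 23056) (l := 8) rfl N23056 D40127
theorem N24201 : nd 24201 = n40128 := ndS (p := 23057) (l := 7) rfl N23057 D40128
theorem N24202 : nd 24202 = n40129 := ndS (p := 23057) (l := 9) rfl N23057 D40129
theorem N24203 : nd 24203 = n40130 := ndS (p := 23058) (l := 8) rfl N23058 D40130
theorem N24204 : nd 24204 = n40131 := ndS (p := 23060) (l := 8) rfl N23060 D40131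
theorem N24205 : nd 24205 = n40132 := ndS (p := 23062) (l := 5) rfl N23062 D40132
theorem N24206 : nd 24206 = n40133 := ndS (p := 23063) (l := 9) rfl N23063 D40133
theorem N24207 : nd 24207 = n40134 := ndS (p := 23068) (l := 9) rfl N23068 D40134
theorem N24208 : nd 24208 = n40135 := ndS (p := 23069) (l := 8) rfl N23069 D40135
theorem N24209 : nd 24209 = n40136 := ndS (p := 23070) (l := 9) rfl N23070 D40136
theorem N24210 : nd 24210 = n40137 := ndS (p := 23071) (l := 4) rfl N23071 D40137
theorem N24211 : nd 24211 = n40138 := ndS (p := 23071) (l := 9) rfl N23071 D40138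
theorem N24212 : nd 24212 = n40139 := ndS (p := 23073) (l := 9) rfl N23073 D40139
theorem N24213 : nd 24213 = n40140 := ndS (p := 23074) (l := 8) rfl N23074 D40140
theorem N24214 : nd 24214 = n40141 := ndS (p := 23076) (l := 3) rfl N23076 D40141
theorem N24215 : nd 24215 = n40142 := ndS (p := 23076) (l := 6) rfl N23076 D40142
theorem N24216 : nd 24216 = n40143 := ndS (p := 23076) (l := 9) rfl N23076 D40143
theorem N24217 : nd 24217 = n40144 := ndS (p := 23077) (l := 7) rfl N23077 D40144
theorem N24218 : nd 24218 = n40145 := ndS (p := 23077) (l := 9) rfl N23077 D40145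
theorem N24219 : nd 24219 = n40146 := ndS (p := 23078) (l := 8) rfl N23078 D40146
theorem N24220 : nd 24220 = n40147 := ndS (p := 23079) (l := 2) rfl N23079 D40147
theorem N24221 : nd 24221 = n40148 := ndS (p := 23079) (l := 6) rfl N23079 D40148
theorem N24222 : nd 24222 = n40149 := ndS (p := 23080) (l := 7) rfl N23080 D40149
theorem N24223 : nd 24223 = n40150 := ndS (p := 23080) (l := 9) rfl N23080 D40150
theorem N24224 : nd 24224 = n40151 := ndS (p := 23081) (l := 8) rfl N23081 D40151
theorem N24225 : nd 24225 = n40152 := ndS (p := 23082) (l := 9) rfl N23082 D40152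
theorem N24226 : nd 24226 = n40153 := ndS (p := 23083) (l := 8) rfl N23083 D40153
theorem N24227 : nd 24227 = n40154 := ndS (p := 23087) (l := 9) rfl N23087 D40154
theorem N24228 : nd 24228 = n40155 := ndS (p := 23089) (l := 5) rfl N23089 D40155
theorem N24229 : nd 24229 = n40156 := ndS (p := 23089) (l := 9) rfl N23089 D40156
theorem N24230 : nd 24230 = n40157 := ndS (p := 23090) (l := 4) rfl N23090 D40157
theorem N24231 : nd 24231 = n40158 := ndS (p := 23090) (l := 6) rfl N23090 D40158
theorem N24232 : nd 24232 = n40159 := ndS (p := 23090) (l := 9) rfl N23090 D40159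
theorem N24233 : nd 24233 = n40160 := ndS (p := 23092) (l := 6) rfl N23092 D40160
theorem N24234 : nd 24234 = n40161 := ndS (p := 23092) (l := 9) rfl N23092 D40161
theorem N24235 : nd 24235 = n40162 := ndS (p := 23093) (l := 7) rfl N23093 D40162
theorem N24236 : nd 24236 = n40163 := ndS (p := 23094) (l := 8) rfl N23094 D40163
theorem N24237 : nd 24237 = n40164 := ndS (p := 23096) (l := 7) rfl N23096 D40164
theorem N24238 : nd 24238 = n40165 := ndS (p := 23096) (l := 9) rfl N23096 D40165
theorem N24239 : nd 24239 = n40166 := ndS (p := 23097) (l := 8) rfl N23097 D40166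
theorem N24240 : nd 24240 = n40167 := ndS (p := 23100) (l := 9) rfl N23100 D40167
theorem N24241 : nd 24241 = n40168 := ndS (p := 23104) (l := 6) rfl N23104 D40168
theorem N24242 : nd 24242 = n40169 := ndS (p := 23106) (l := 7) rfl N23106 D40169
theorem N24243 : nd 24243 = n40170 := ndS (p := 23106) (l := 9) rfl N23106 D40170
theorem N24244 : nd 24244 = n40171 := ndS (p := 23107) (l := 8) rfl N23107 D40171
theorem N24245 : nd 24245 = n40172 := ndS (p := 23108) (l := 6) rfl N23108 D40172
theorem N24246 : nd 24246 = n40173 := ndS (p := 23109) (l := 7) rfl N23109 D40173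
theorem N24247 : nd 24247 = n40174 := ndS (p := 23111) (l := 6) rfl N23111 D40174
theorem N24248 : nd 24248 = n40175 := ndS (p := 23112) (l := 5) rfl N23112 D40175
theorem N24249 : nd 24249 = n40176 := ndS (p := 23113) (l := 7) rfl N23113 D40176
theorem N24250 : nd 24250 = n40177 := ndS (p := 23114) (l := 9) rfl N23114 D40177
theorem N24251 : nd 24251 = n40178 := ndS (p := 23117) (l := 2) rfl N23117 D40178
theorem N24252 : nd 24252 = n40179 := ndS (p := 23117) (l := 9) rfl N23117 D40179
theorem N24253 : nd 24253 = n40180 := ndS (p := 23118) (l := 8) rfl N23118 D40180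
theorem N24254 : nd 24254 = n40181 := ndS (p := 23120) (l := 2) rfl N23120 D40181
theorem N24255 : nd 24255 = n40182 := ndS (p := 23120) (l := 6) rfl N23120 D40182
theorem N24256 : nd 24256 = n40183 := ndS (p := 23120) (l := 9) rfl N23120 D40183
theorem N24257 : nd 24257 = n40184 := ndS (p := 23121) (l := 7) rfl N23121 D40184
theorem N24258 : nd 24258 = n40185 := ndS (p := 23121) (l := 9) rfl N23121 D40185
theorem N24259 : nd 24259 = n40186 := ndS (p := 23122) (l := 8) rfl N23122 D40186
theorem N24260 : nd 24260 = n40187 := ndS (p := 23123) (l := 9) rfl N23123 D40187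
theorem N24261 : nd 24261 = n40188 := ndS (p := 23131) (l := 4) rfl N23131 D40188
theorem N24262 : nd 24262 = n40189 := ndS (p := 23132) (l := 4) rfl N23132 D40189
theorem N24263 : nd 24263 = n40190 := ndS (p := 23132) (l := 8) rfl N23132 D40190
theorem N24264 : nd 24264 = n40191 := ndS (p := 23133) (l := 9) rfl N23133 D40191
theorem N24265 : nd 24265 = n40192 := ndS (p := 23134) (l := 6) rfl N23134 D40192
theorem N24266 : nd 24266 = n40193 := ndS (p := 23134) (l := 9) rfl N23134 D40193
theorem N24267 : nd 24267 = n40194 := ndS (p := 23136) (l := 7) rfl N23136 D40194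
theorem N24268 : nd 24268 = n40195 := ndS (p := 23136) (l := 9) rfl N23136 D40195
theorem N24269 : nd 24269 = n40196 := ndS (p := 23137) (l := 8) rfl N23137 D40196
theorem N24270 : nd 24270 = n40197 := ndS (p := 23139) (l := 8) rfl N23139 D40197
theorem N24271 : nd 24271 = n40198 := ndS (p := 23141) (l := 5) rfl N23141 D40198
theorem N24272 : nd 24272 = n40199 := ndS (p := 23144) (l := 5) rfl N23144 D40199
theorem N24273 : nd 24273 = n40200 := ndS (p := 23145) (l := 5) rfl N23145 D40200
theorem N24274 : nd 24274 = n40201 := ndS (p := 23146) (l := 8) rfl N23146 D40201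
theorem N24275 : nd 24275 = n40202 := ndS (p := 23147) (l := 5) rfl N23147 D40202
theorem N24276 : nd 24276 = n40203 := ndS (p := 23148) (l := 5) rfl N23148 D40203
theorem N24277 : nd 24277 = n40204 := ndS (p := 23148) (l := 9) rfl N23148 D40204
theorem N24278 : nd 24278 = n40205 := ndS (p := 23149) (l := 4) rfl N23149 D40205
theorem N24279 : nd 24279 = n40206 := ndS (p := 23149) (l := 9) rfl N23149 D40206
theorem N24280 : nd 24280 = n40207 := ndS (p := 23151) (l := 9) rfl N23151 D40207
theorem N24281 : nd 24281 = n40208 := ndS (p := 23154) (l := 4) rfl N23154 D40208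
theorem N24282 : nd 24282 = n40209 := ndS (p := 23154) (l := 8) rfl N23154 D40209
theorem N24283 : nd 24283 = n40210 := ndS (p := 23155) (l := 5) rfl N23155 D40210
theorem N24284 : nd 24284 = n40211 := ndS (p := 23155) (l := 9) rfl N23155 D40211
theorem N24285 : nd 24285 = n40212 := ndS (p := 23156) (l := 4) rfl N23156 D40212
theorem N24286 : nd 24286 = n40213 := ndS (p := 23158) (l := 4) rfl N23158 D40213
theorem N24287 : nd 24287 = n40214 := ndS (p := 23158) (l := 6) rfl N23158 D40214
theorem N24288 : nd 24288 = n40215 := ndS (p := 23158) (l := 9) rfl N23158 D40215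
theorem N24289 : nd 24289 = n40216 := ndS (p := 23160) (l := 6) rfl N23160 D40216
theorem N24290 : nd 24290 = n40217 := ndS (p := 23160) (l := 9) rfl N23160 D40217
theorem N24291 : nd 24291 = n40218 := ndS (p := 23161) (l := 7) rfl N23161 D40218
theorem N24292 : nd 24292 = n40219 := ndS (p := 23162) (l := 8) rfl N23162 D40219
theorem N24293 : nd 24293 = n40220 := ndS (p := 23165) (l := 7) rfl N23165 D40220
theorem N24294 : nd 24294 = n40221 := ndS (p := 23167) (l := 5) rfl N23167 D40221
theorem N24295 : nd 24295 = n40222 := ndS (p := 23167) (l := 8) rfl N23167 D40222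
theorem N24296 : nd 24296 = n40223 := ndS (p := 23169) (l := 8) rfl N23169 D40223
theorem N24297 : nd 24297 = n40224 := ndS (p := 23170) (l := 5) rfl N23170 D40224
theorem N24298 : nd 24298 = n40225 := ndS (p := 23170) (l := 9) rfl N23170 D40225
theorem N24299 : nd 24299 = n40226 := ndS (p := 23171) (l := 6) rfl N23171 D40226
theorem N24300 : nd 24300 = n40227 := ndS (p := 23173) (l := 4) rfl N23173 D40227
theorem N24301 : nd 24301 = n40228 := ndS (p := 23173) (l := 9) rfl N23173 D40228
theorem N24302 : nd 24302 = n40229 := ndS (p := 23175) (l := 5) rfl N23175 D40229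
theorem N24303 : nd 24303 = n40230 := ndS (p := 23175) (l := 9) rfl N23175 D40230
theorem N24304 : nd 24304 = n40231 := ndS (p := 23176) (l := 4) rfl N23176 D40231
theorem N24305 : nd 24305 = n40232 := ndS (p := 23176) (l := 6) rfl N23176 D40232
theorem N24306 : nd 24306 = n40233 := ndS (p := 23176) (l := 9) rfl N23176 D40233
theorem N24307 : nd 24307 = n40234 := ndS (p := 23178) (l := 7) rfl N23178 D40234
theorem N24308 : nd 24308 = n40235 := ndS (p := 23178) (l := 9) rfl N23178 D40235
theorem N24309 : nd 24309 = n40236 := ndS (p := 23181) (l := 3) rfl N23181 D40236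
theorem N24310 : nd 24310 = n40237 := ndS (p := 23181) (l := 9) rfl N23181 D40237
theorem N24311 : nd 24311 = n40238 := ndS (p := 23182) (l := 8) rfl N23182 D40238
theorem N24312 : nd 24312 = n40239 := ndS (p := 23183) (l := 2) rfl N23183 D40239
theorem N24313 : nd 24313 = n40240 := ndS (p := 23183) (l := 9) rfl N23183 D40240
theorem N24314 : nd 24314 = n40241 := ndS (p := 23186) (l := 4) rfl N23186 D40241
theorem N24315 : nd 24315 = n40242 := ndS (p := 23186) (l := 8) rfl N23186 D40242
theorem N24316 : nd 24316 = n40243 := ndS (p := 23187) (l := 5) rfl N23187 D40243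
theorem N24317 : nd 24317 = n40244 := ndS (p := 23187) (l := 9) rfl N23187 D40244
theorem N24318 : nd 24318 = n40245 := ndS (p := 23188) (l := 4) rfl N23188 D40245
theorem N24319 : nd 24319 = n40246 := ndS (p := 23188) (l := 6) rfl N23188 D40246
theorem N24320 : nd 24320 = n40247 := ndS (p := 23189) (l := 7) rfl N23189 D40247
theorem N24321 : nd 24321 = n40248 := ndS (p := 23191) (l := 3) rfl N23191 D40248
theorem N24322 : nd 24322 = n40249 := ndS (p := 23192) (l := 4) rfl N23192 D40249
theorem N24323 : nd 24323 = n40250 := ndS (p := 23192) (l := 6) rfl N23192 D40250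
theorem N24324 : nd 24324 = n40251 := ndS (p := 23192) (l := 9) rfl N23192 D40251
theorem N24325 : nd 24325 = n40252 := ndS (p := 23194) (l := 6) rfl N23194 D40252
theorem N24326 : nd 24326 = n40253 := ndS (p := 23194) (l := 9) rfl N23194 D40253
theorem N24327 : nd 24327 = n40254 := ndS (p := 23195) (l := 7) rfl N23195 D40254
theorem N24328 : nd 24328 = n40255 := ndS (p := 23195) (l := 9) rfl N23195 D40255
theorem N24329 : nd 24329 = n40256 := ndS (p := 23196) (l := 8) rfl N23196 D40256
theorem N24330 : nd 24330 = n40257 := ndS (p := 23197) (l := 9) rfl N23197 D40257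
theorem N24331 : nd 24331 = n40258 := ndS (p := 23201) (l := 8) rfl N23201 D40258
theorem N24332 : nd 24332 = n40259 := ndS (p := 23202) (l := 5) rfl N23202 D40259
theorem N24333 : nd 24333 = n40260 := ndS (p := 23202) (l := 9) rfl N23202 D40260
theorem N24334 : nd 24334 = n40261 := ndS (p := 23203) (l := 4) rfl N23203 D40261
theorem N24335 : nd 24335 = n40262 := ndS (p := 23203) (l := 6) rfl N23203 D40262
theorem N24336 : nd 24336 = n40263 := ndS (p := 23204) (l := 7) rfl N23204 D40263
theorem N24337 : nd 24337 = n40264 := ndS (p := 23206) (l := 4) rfl N23206 D40264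
theorem N24338 : nd 24338 = n40265 := ndS (p := 23206) (l := 6) rfl N23206 D40265
theorem N24339 : nd 24339 = n40266 := ndS (p := 23206) (l := 9) rfl N23206 D40266
theorem N24340 : nd 24340 = n40267 := ndS (p := 23208) (l := 3) rfl N23208 D40267
theorem N24341 : nd 24341 = n40268 := ndS (p := 23208) (l := 6) rfl N23208 D40268
theorem N24342 : nd 24342 = n40269 := ndS (p := 23209) (l := 7) rfl N23209 D40269
theorem N24343 : nd 24343 = n40270 := ndS (p := 23211) (l := 2) rfl N23211 D40270
theorem N24344 : nd 24344 = n40271 := ndS (p := 23212) (l := 3) rfl N23212 D40271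
theorem N24345 : nd 24345 = n40272 := ndS (p := 23212) (l := 6) rfl N23212 D40272
theorem N24346 : nd 24346 = n40273 := ndS (p := 23212) (l := 9) rfl N23212 D40273
theorem N24347 : nd 24347 = n40274 := ndS (p := 23213) (l := 7) rfl N23213 D40274
theorem N24348 : nd 24348 = n40275 := ndS (p := 23213) (l := 9) rfl N23213 D40275
theorem N24349 : nd 24349 = n40276 := ndS (p := 23214) (l := 8) rfl N23214 D40276
theorem N24350 : nd 24350 = n40277 := ndS (p := 23215) (l := 2) rfl N23215 D40277
theorem N24351 : nd 24351 = n40278 := ndS (p := 23215) (l := 6) rfl N23215 D40278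
theorem N24352 : nd 24352 = n40279 := ndS (p := 23215) (l := 9) rfl N23215 D40279
theorem N24353 : nd 24353 = n40280 := ndS (p := 23216) (l := 7) rfl N23216 D40280
theorem N24354 : nd 24354 = n40281 := ndS (p := 23216) (l := 9) rfl N23216 D40281
theorem N24355 : nd 24355 = n40282 := ndS (p := 23217) (l := 8) rfl N23217 D40282
theorem N24356 : nd 24356 = n40283 := ndS (p := 23218) (l := 9) rfl N23218 D40283
theorem N24357 : nd 24357 = n40284 := ndS (p := 23219) (l := 8) rfl N23219 D40284
theorem N24358 : nd 24358 = n40285 := ndS (p := 23224) (l := 3) rfl N23224 D40285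
theorem N24359 : nd 24359 = n40286 := ndS (p := 23224) (l := 6) rfl N23224 D40286
theorem N24360 : nd 24360 = n40287 := ndS (p := 23225) (l := 7) rfl N23225 D40287
theorem N24361 : nd 24361 = n40288 := ndS (p := 23226) (l := 2) rfl N23226 D40288
theorem N24362 : nd 24362 = n40289 := ndS (p := 23226) (l := 6) rfl N23226 D40289
theorem N24363 : nd 24363 = n40290 := ndS (p := 23227) (l := 7) rfl N23227 D40290
theorem N24364 : nd 24364 = n40291 := ndS (p := 23230) (l := 2) rfl N23230 D40291
theorem N24365 : nd 24365 = n40292 := ndS (p := 23230) (l := 6) rfl N23230 D40292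
theorem N24366 : nd 24366 = n40293 := ndS (p := 23231) (l := 5) rfl N23231 D40293
theorem N24367 : nd 24367 = n40294 := ndS (p := 23231) (l := 7) rfl N23231 D40294
theorem N24368 : nd 24368 = n40295 := ndS (p := 23233) (l := 6) rfl N23233 D40295
theorem N24369 : nd 24369 = n40296 := ndS (p := 23234) (l := 7) rfl N23234 D40296
theorem N24370 : nd 24370 = n40297 := ndS (p := 23234) (l := 9) rfl N23234 D40297
theorem N24371 : nd 24371 = n40298 := ndS (p := 23236) (l := 9) rfl N23236 D40298
theorem N24372 : nd 24372 = n40299 := ndS (p := 23239) (l := 6) rfl N23239 D40299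
theorem N24373 : nd 24373 = n40300 := ndS (p := 23240) (l := 7) rfl N23240 D40300
theorem N24374 : nd 24374 = n40301 := ndS (p := 23242) (l := 7) rfl N23242 D40301
theorem N24375 : nd 24375 = n40302 := ndS (p := 23243) (l := 9) rfl N23243 D40302
theorem N24376 : nd 24376 = n40303 := ndS (p := 23246) (l := 8) rfl N23246 D40303
theorem N24377 : nd 24377 = n40304 := ndS (p := 23249) (l := 5) rfl N23249 D40304
theorem N24378 : nd 24378 = n40305 := ndS (p := 23250) (l := 4) rfl N23250 D40305
theorem N24379 : nd 24379 = n40306 := ndS (p := 23252) (l := 3) rfl N23252 D40306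
theorem N24380 : nd 24380 = n40307 := ndS (p := 23254) (l := 6) rfl N23254 D40307
theorem N24381 : nd 24381 = n40308 := ndS (p := 23255) (l := 5) rfl N23255 D40308
theorem N24382 : nd 24382 = n40309 := ndS (p := 23256) (l := 5) rfl N23256 D40309
theorem N24383 : nd 24383 = n40310 := ndS (p := 23257) (l := 8) rfl N23257 D40310
theorem N24384 : nd 24384 = n40311 := ndS (p := 23258) (l := 5) rfl N23258 D40311
theorem N24385 : nd 24385 = n40312 := ndS (p := 23258) (l := 9) rfl N23258 D40312
theorem N24386 : nd 24386 = n40313 := ndS (p := 23259) (l := 4) rfl N23259 D40313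
theorem N24387 : nd 24387 = n40314 := ndS (p := 23261) (l := 5) rfl N23261 D40314
theorem N24388 : nd 24388 = n40315 := ndS (p := 23261) (l := 8) rfl N23261 D40315
theorem N24389 : nd 24389 = n40316 := ndS (p := 23263) (l := 8) rfl N23263 D40316
theorem N24390 : nd 24390 = n40317 := ndS (p := 23264) (l := 5) rfl N23264 D40317
theorem N24391 : nd 24391 = n40318 := ndS (p := 23264) (l := 9) rfl N23264 D40318
theorem N24392 : nd 24392 = n40319 := ndS (p := 23265) (l := 6) rfl N23265 D40319
theorem N24393 : nd 24393 = n40320 := ndS (p := 23267) (l := 4) rfl N23267 D40320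
theorem N24394 : nd 24394 = n40321 := ndS (p := 23267) (l := 9) rfl N23267 D40321
theorem N24395 : nd 24395 = n40322 := ndS (p := 23269) (l := 5) rfl N23269 D40322
theorem N24396 : nd 24396 = n40323 := ndS (p := 23269) (l := 9) rfl N23269 D40323
theorem N24397 : nd 24397 = n40324 := ndS (p := 23270) (l := 4) rfl N23270 D40324
theorem N24398 : nd 24398 = n40325 := ndS (p := 23270) (l := 6) rfl N23270 D40325
theorem N24399 : nd 24399 = n40326 := ndS (p := 23270) (l := 9) rfl N23270 D40326
theorem N24400 : nd 24400 = n40327 := ndS (p := 23272) (l := 7) rfl N23272 D40327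
theorem N24401 : nd 24401 = n40328 := ndS (p := 23272) (l := 9) rfl N23272 D40328
theorem N24402 : nd 24402 = n40329 := ndS (p := 23275) (l := 3) rfl N23275 D40329
theorem N24403 : nd 24403 = n40330 := ndS (p := 23275) (l := 9) rfl N23275 D40330
theorem N24404 : nd 24404 = n40331 := ndS (p := 23276) (l := 8) rfl N23276 D40331
theorem N24405 : nd 24405 = n40332 := ndS (p := 23277) (l := 2) rfl N23277 D40332
theorem N24406 : nd 24406 = n40333 := ndS (p := 23279) (l := 4) rfl N23279 D40333
theorem N24407 : nd 24407 = n40334 := ndS (p := 23279) (l := 8) rfl N23279 D40334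
theorem N24408 : nd 24408 = n40335 := ndS (p := 23280) (l := 5) rfl N23280 D40335
theorem N24409 : nd 24409 = n40336 := ndS (p := 23281) (l := 5) rfl N23281 D40336
theorem N24410 : nd 24410 = n40337 := ndS (p := 23281) (l := 9) rfl N23281 D40337
theorem N24411 : nd 24411 = n40338 := ndS (p := 23282) (l := 4) rfl N23282 D40338
theorem N24412 : nd 24412 = n40339 := ndS (p := 23282) (l := 9) rfl N23282 D40339
theorem N24413 : nd 24413 = n40340 := ndS (p := 23284) (l := 3) rfl N23284 D40340
theorem N24414 : nd 24414 = n40341 := ndS (p := 23284) (l := 9) rfl N23284 D40341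
theorem N24415 : nd 24415 = n40342 := ndS (p := 23285) (l := 8) rfl N23285 D40342
theorem N24416 : nd 24416 = n40343 := ndS (p := 23286) (l := 4) rfl N23286 D40343
theorem N24417 : nd 24417 = n40344 := ndS (p := 23286) (l := 6) rfl N23286 D40344
theorem N24418 : nd 24418 = n40345 := ndS (p := 23286) (l := 9) rfl N23286 D40345
theorem N24419 : nd 24419 = n40346 := ndS (p := 23288) (l := 3) rfl N23288 D40346
theorem N24420 : nd 24420 = n40347 := ndS (p := 23288) (l := 6) rfl N23288 D40347
theorem N24421 : nd 24421 = n40348 := ndS (p := 23288) (l := 9) rfl N23288 D40348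
theorem N24422 : nd 24422 = n40349 := ndS (p := 23289) (l := 7) rfl N23289 D40349
theorem N24423 : nd 24423 = n40350 := ndS (p := 23290) (l := 8) rfl N23290 D40350
theorem N24424 : nd 24424 = n40351 := ndS (p := 23292) (l := 2) rfl N23292 D40351
theorem N24425 : nd 24425 = n40352 := ndS (p := 23293) (l := 8) rfl N23293 D40352
theorem N24426 : nd 24426 = n40353 := ndS (p := 23296) (l := 2) rfl N23296 D40353
theorem N24427 : nd 24427 = n40354 := ndS (p := 23296) (l := 9) rfl N23296 D40354
theorem N24428 : nd 24428 = n40355 := ndS (p := 23297) (l := 8) rfl N23297 D40355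
theorem N24429 : nd 24429 = n40356 := ndS (p := 23299) (l := 7) rfl N23299 D40356
theorem N24430 : nd 24430 = n40357 := ndS (p := 23303) (l := 5) rfl N23303 D40357
theorem N24431 : nd 24431 = n40358 := ndS (p := 23303) (l := 8) rfl N23303 D40358
theorem N24432 : nd 24432 = n40359 := ndS (p := 23305) (l := 8) rfl N23305 D40359
theorem N24433 : nd 24433 = n40360 := ndS (p := 23306) (l := 5) rfl N23306 D40360
theorem N24434 : nd 24434 = n40361 := ndS (p := 23306) (l := 9) rfl N23306 D40361
theorem N24435 : nd 24435 = n40362 := ndS (p := 23307) (l := 6) rfl N23307 D40362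
theorem N24436 : nd 24436 = n40363 := ndS (p := 23309) (l := 4) rfl N23309 D40363
theorem N24437 : nd 24437 = n40364 := ndS (p := 23311) (l := 5) rfl N23311 D40364
theorem N24438 : nd 24438 = n40365 := ndS (p := 23311) (l := 9) rfl N23311 D40365
theorem N24439 : nd 24439 = n40366 := ndS (p := 23312) (l := 4) rfl N23312 D40366
theorem N24440 : nd 24440 = n40367 := ndS (p := 23312) (l := 6) rfl N23312 D40367
theorem N24441 : nd 24441 = n40368 := ndS (p := 23312) (l := 9) rfl N23312 D40368
theorem N24442 : nd 24442 = n40369 := ndS (p := 23314) (l := 7) rfl N23314 D40369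
theorem N24443 : nd 24443 = n40370 := ndS (p := 23314) (l := 9) rfl N23314 D40370
theorem N24444 : nd 24444 = n40371 := ndS (p := 23317) (l := 3) rfl N23317 D40371
theorem N24445 : nd 24445 = n40372 := ndS (p := 23318) (l := 2) rfl N23318 D40372
theorem N24446 : nd 24446 = n40373 := ndS (p := 23319) (l := 8) rfl N23319 D40373
theorem N24447 : nd 24447 = n40374 := ndS (p := 23320) (l := 5) rfl N23320 D40374
theorem N24448 : nd 24448 = n40375 := ndS (p := 23320) (l := 9) rfl N23320 D40375
theorem N24449 : nd 24449 = n40376 := ndS (p := 23321) (l := 4) rfl N23321 D40376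
theorem N24450 : nd 24450 = n40377 := ndS (p := 23321) (l := 6) rfl N23321 D40377
theorem N24451 : nd 24451 = n40378 := ndS (p := 23323) (l := 3) rfl N23323 D40378
theorem N24452 : nd 24452 = n40379 := ndS (p := 23325) (l := 6) rfl N23325 D40379
theorem N24453 : nd 24453 = n40380 := ndS (p := 23327) (l := 6) rfl N23327 D40380
theorem N24454 : nd 24454 = n40381 := ndS (p := 23328) (l := 5) rfl N23328 D40381
theorem N24455 : nd 24455 = n40382 := ndS (p := 23328) (l := 8) rfl N23328 D40382
theorem N24456 : nd 24456 = n40383 := ndS (p := 23331) (l := 5) rfl N23331 D40383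
theorem N24457 : nd 24457 = n40384 := ndS (p := 23332) (l := 8) rfl N23332 D40384
theorem N24458 : nd 24458 = n40385 := ndS (p := 23333) (l := 5) rfl N23333 D40385
theorem N24459 : nd 24459 = n40386 := ndS (p := 23334) (l := 6) rfl N23334 D40386
theorem N24460 : nd 24460 = n40387 := ndS (p := 23335) (l := 4) rfl N23335 D40387
theorem N24461 : nd 24461 = n40388 := ndS (p := 23336) (l := 5) rfl N23336 D40388
theorem N24462 : nd 24462 = n40389 := ndS (p := 23336) (l := 9) rfl N23336 D40389
theorem N24463 : nd 24463 = n40390 := ndS (p := 23337) (l := 4) rfl N23337 D40390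
theorem N24464 : nd 24464 = n40391 := ndS (p := 23337) (l := 6) rfl N23337 D40391
theorem N24465 : nd 24465 = n40392 := ndS (p := 23337) (l := 9) rfl N23337 D40392
theorem N24466 : nd 24466 = n40393 := ndS (p := 23339) (l := 7) rfl N23339 D40393
theorem N24467 : nd 24467 = n40394 := ndS (p := 23339) (l := 9) rfl N23339 D40394
theorem N24468 : nd 24468 = n40395 := ndS (p := 23342) (l := 9) rfl N23342 D40395
theorem N24469 : nd 24469 = n40396 := ndS (p := 23344) (l := 6) rfl N23344 D40396
theorem N24470 : nd 24470 = n40397 := ndS (p := 23345) (l := 5) rfl N23345 D40397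
theorem N24471 : nd 24471 = n40398 := ndS (p := 23345) (l := 8) rfl N23345 D40398
theorem N24472 : nd 24472 = n40399 := ndS (p := 23348) (l := 6) rfl N23348 D40399
theorem N24473 : nd 24473 = n40400 := ndS (p := 23349) (l := 5) rfl N23349 D40400
theorem N24474 : nd 24474 = n40401 := ndS (p := 23349) (l := 8) rfl N23349 D40401
theorem N24475 : nd 24475 = n40402 := ndS (p := 23351) (l := 8) rfl N23351 D40402
theorem N24476 : nd 24476 = n40403 := ndS (p := 23352) (l := 5) rfl N23352 D40403
theorem N24477 : nd 24477 = n40404 := ndS (p := 23352) (l := 9) rfl N23352 D40404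
theorem N24478 : nd 24478 = n40405 := ndS (p := 23353) (l := 6) rfl N23353 D40405
theorem N24479 : nd 24479 = n40406 := ndS (p := 23355) (l := 4) rfl N23355 D40406
theorem N24480 : nd 24480 = n40407 := ndS (p := 23355) (l := 9) rfl N23355 D40407
theorem N24481 : nd 24481 = n40408 := ndS (p := 23357) (l := 4) rfl N23357 D40408
theorem N24482 : nd 24482 = n40409 := ndS (p := 23357) (l := 8) rfl N23357 D40409
theorem N24483 : nd 24483 = n40410 := ndS (p := 23358) (l := 5) rfl N23358 D40410
theorem N24484 : nd 24484 = n40411 := ndS (p := 23359) (l := 6) rfl N23359 D40411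
theorem N24485 : nd 24485 = n40412 := ndS (p := 23360) (l := 5) rfl N23360 D40412
theorem N24486 : nd 24486 = n40413 := ndS (p := 23360) (l := 9) rfl N23360 D40413
theorem N24487 : nd 24487 = n40414 := ndS (p := 23361) (l := 4) rfl N23361 D40414
theorem N24488 : nd 24488 = n40415 := ndS (p := 23361) (l := 6) rfl N23361 D40415
theorem N24489 : nd 24489 = n40416 := ndS (p := 23361) (l := 9) rfl N23361 D40416
theorem N24490 : nd 24490 = n40417 := ndS (p := 23363) (l := 7) rfl N23363 D40417
theorem N24491 : nd 24491 = n40418 := ndS (p := 23363) (l := 9) rfl N23363 D40418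
theorem N24492 : nd 24492 = n40419 := ndS (p := 23366) (l := 3) rfl N23366 D40419
theorem N24493 : nd 24493 = n40420 := ndS (p := 23366) (l := 9) rfl N23366 D40420
theorem N24494 : nd 24494 = n40421 := ndS (p := 23368) (l := 4) rfl N23368 D40421
theorem N24495 : nd 24495 = n40422 := ndS (p := 23368) (l := 6) rfl N23368 D40422
theorem N24496 : nd 24496 = n40423 := ndS (p := 23368) (l := 9) rfl N23368 D40423
theorem N24497 : nd 24497 = n40424 := ndS (p := 23370) (l := 3) rfl N23370 D40424
theorem N24498 : nd 24498 = n40425 := ndS (p := 23370) (l := 6) rfl N23370 D40425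
theorem N24499 : nd 24499 = n40426 := ndS (p := 23370) (l := 9) rfl N23370 D40426
theorem N24500 : nd 24500 = n40427 := ndS (p := 23371) (l := 7) rfl N23371 D40427
theorem N24501 : nd 24501 = n40428 := ndS (p := 23371) (l := 9) rfl N23371 D40428
theorem N24502 : nd 24502 = n40429 := ndS (p := 23372) (l := 8) rfl N23372 D40429
theorem N24503 : nd 24503 = n40430 := ndS (p := 23373) (l := 9) rfl N23373 D40430
theorem N24504 : nd 24504 = n40431 := ndS (p := 23374) (l := 8) rfl N23374 D40431
theorem N24505 : nd 24505 = n40432 := ndS (p := 23380) (l := 5) rfl N23380 D40432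
theorem N24506 : nd 24506 = n40433 := ndS (p := 23381) (l := 8) rfl N23381 D40433
theorem N24507 : nd 24507 = n40434 := ndS (p := 23382) (l := 5) rfl N23382 D40434
theorem N24508 : nd 24508 = n40435 := ndS (p := 23382) (l := 9) rfl N23382 D40435
theorem N24509 : nd 24509 = n40436 := ndS (p := 23383) (l := 4) rfl N23383 D40436
theorem N24510 : nd 24510 = n40437 := ndS (p := 23384) (l := 3) rfl N23384 D40437
theorem N24511 : nd 24511 = n40438 := ndS (p := 23386) (l := 8) rfl N23386 D40438
theorem N24512 : nd 24512 = n40439 := ndS (p := 23387) (l := 4) rfl N23387 D40439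
theorem N24513 : nd 24513 = n40440 := ndS (p := 23388) (l := 5) rfl N23388 D40440
theorem N24514 : nd 24514 = n40441 := ndS (p := 23388) (l := 9) rfl N23388 D40441
theorem N24515 : nd 24515 = n40442 := ndS (p := 23389) (l := 4) rfl N23389 D40442
theorem N24516 : nd 24516 = n40443 := ndS (p := 23391) (l := 9) rfl N23391 D40443
theorem N24517 : nd 24517 = n40444 := ndS (p := 23392) (l := 4) rfl N23392 D40444
theorem N24518 : nd 24518 = n40445 := ndS (p := 23392) (l := 9) rfl N23392 D40445
theorem N24519 : nd 24519 = n40446 := ndS (p := 23394) (l := 3) rfl N23394 D40446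
theorem N24520 : nd 24520 = n40447 := ndS (p := 23394) (l := 9) rfl N23394 D40447
theorem N24521 : nd 24521 = n40448 := ndS (p := 23395) (l := 8) rfl N23395 D40448
theorem N24522 : nd 24522 = n40449 := ndS (p := 23396) (l := 2) rfl N23396 D40449
theorem N24523 : nd 24523 = n40450 := ndS (p := 23396) (l := 9) rfl N23396 D40450
theorem N24524 : nd 24524 = n40451 := ndS (p := 23400) (l := 5) rfl N23400 D40451
theorem N24525 : nd 24525 = n40452 := ndS (p := 23402) (l := 5) rfl N23402 D40452
theorem N24526 : nd 24526 = n40453 := ndS (p := 23403) (l := 8) rfl N23403 D40453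
theorem N24527 : nd 24527 = n40454 := ndS (p := 23404) (l := 5) rfl N23404 D40454
theorem N24528 : nd 24528 = n40455 := ndS (p := 23405) (l := 6) rfl N23405 D40455
theorem N24529 : nd 24529 = n40456 := ndS (p := 23406) (l := 4) rfl N23406 D40456
theorem N24530 : nd 24530 = n40457 := ndS (p := 23408) (l := 4) rfl N23408 D40457
theorem N24531 : nd 24531 = n40458 := ndS (p := 23408) (l := 8) rfl N23408 D40458
theorem N24532 : nd 24532 = n40459 := ndS (p := 23409) (l := 5) rfl N23409 D40459
theorem N24533 : nd 24533 = n40460 := ndS (p := 23410) (l := 5) rfl N23410 D40460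
theorem N24534 : nd 24534 = n40461 := ndS (p := 23410) (l := 9) rfl N23410 D40461
theorem N24535 : nd 24535 = n40462 := ndS (p := 23411) (l := 4) rfl N23411 D40462
theorem N24536 : nd 24536 = n40463 := ndS (p := 23411) (l := 6) rfl N23411 D40463
theorem N24537 : nd 24537 = n40464 := ndS (p := 23411) (l := 9) rfl N23411 D40464
theorem N24538 : nd 24538 = n40465 := ndS (p := 23413) (l := 7) rfl N23413 D40465
theorem N24539 : nd 24539 = n40466 := ndS (p := 23413) (l := 9) rfl N23413 D40466
theorem N24540 : nd 24540 = n40467 := ndS (p := 23416) (l := 3) rfl N23416 D40467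
theorem N24541 : nd 24541 = n40468 := ndS (p := 23416) (l := 9) rfl N23416 D40468
theorem N24542 : nd 24542 = n40469 := ndS (p := 23418) (l := 4) rfl N23418 D40469
theorem N24543 : nd 24543 = n40470 := ndS (p := 23418) (l := 6) rfl N23418 D40470
theorem N24544 : nd 24544 = n40471 := ndS (p := 23418) (l := 9) rfl N23418 D40471
theorem N24545 : nd 24545 = n40472 := ndS (p := 23420) (l := 3) rfl N23420 D40472
theorem N24546 : nd 24546 = n40473 := ndS (p := 23420) (l := 6) rfl N23420 D40473
theorem N24547 : nd 24547 = n40474 := ndS (p := 23420) (l := 9) rfl N23420 D40474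
theorem N24548 : nd 24548 = n40475 := ndS (p := 23421) (l := 7) rfl N23421 D40475
theorem N24549 : nd 24549 = n40476 := ndS (p := 23421) (l := 9) rfl N23421 D40476
theorem N24550 : nd 24550 = n40477 := ndS (p := 23422) (l := 8) rfl N23422 D40477
theorem N24551 : nd 24551 = n40478 := ndS (p := 23423) (l := 9) rfl N23423 D40478
theorem N24552 : nd 24552 = n40479 := ndS (p := 23424) (l := 8) rfl N23424 D40479
theorem N24553 : nd 24553 = n40480 := ndS (p := 23427) (l := 2) rfl N23427 D40480
theorem N24554 : nd 24554 = n40481 := ndS (p := 23427) (l := 9) rfl N23427 D40481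
theorem N24555 : nd 24555 = n40482 := ndS (p := 23428) (l := 8) rfl N23428 D40482
theorem N24556 : nd 24556 = n40483 := ndS (p := 23432) (l := 5) rfl N23432 D40483
theorem N24557 : nd 24557 = n40484 := ndS (p := 23433) (l := 8) rfl N23433 D40484
theorem N24558 : nd 24558 = n40485 := ndS (p := 23434) (l := 5) rfl N23434 D40485
theorem N24559 : nd 24559 = n40486 := ndS (p := 23436) (l := 5) rfl N23436 D40486
theorem N24560 : nd 24560 = n40487 := ndS (p := 23436) (l := 8) rfl N23436 D40487
theorem N24561 : nd 24561 = n40488 := ndS (p := 23438) (l := 8) rfl N23438 D40488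
theorem N24562 : nd 24562 = n40489 := ndS (p := 23439) (l := 5) rfl N23439 D40489
theorem N24563 : nd 24563 = n40490 := ndS (p := 23440) (l := 5) rfl N23440 D40490
theorem N24564 : nd 24564 = n40491 := ndS (p := 23440) (l := 9) rfl N23440 D40491
theorem N24565 : nd 24565 = n40492 := ndS (p := 23441) (l := 4) rfl N23441 D40492
theorem N24566 : nd 24566 = n40493 := ndS (p := 23441) (l := 9) rfl N23441 D40493
theorem N24567 : nd 24567 = n40494 := ndS (p := 23443) (l := 9) rfl N23443 D40494
theorem N24568 : nd 24568 = n40495 := ndS (p := 23445) (l := 8) rfl N23445 D40495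
theorem N24569 : nd 24569 = n40496 := ndS (p := 23446) (l := 5) rfl N23446 D40496
theorem N24570 : nd 24570 = n40497 := ndS (p := 23446) (l := 9) rfl N23446 D40497
theorem N24571 : nd 24571 = n40498 := ndS (p := 23447) (l := 4) rfl N23447 D40498
theorem N24572 : nd 24572 = n40499 := ndS (p := 23447) (l := 6) rfl N23447 D40499
theorem N24573 : nd 24573 = n40500 := ndS (p := 23447) (l := 9) rfl N23447 D40500
theorem N24574 : nd 24574 = n40501 := ndS (p := 23449) (l := 7) rfl N23449 D40501
theorem N24575 : nd 24575 = n40502 := ndS (p := 23449) (l := 9) rfl N23449 D40502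
theorem N24576 : nd 24576 = n40503 := ndS (p := 23452) (l := 4) rfl N23452 D40503
theorem N24577 : nd 24577 = n40504 := ndS (p := 23452) (l := 6) rfl N23452 D40504
theorem N24578 : nd 24578 = n40505 := ndS (p := 23452) (l := 9) rfl N23452 D40505
theorem N24579 : nd 24579 = n40506 := ndS (p := 23454) (l := 3) rfl N23454 D40506
theorem N24580 : nd 24580 = n40507 := ndS (p := 23454) (l := 6) rfl N23454 D40507
theorem N24581 : nd 24581 = n40508 := ndS (p := 23454) (l := 9) rfl N23454 D40508
theorem N24582 : nd 24582 = n40509 := ndS (p := 23455) (l := 7) rfl N23455 D40509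
theorem N24583 : nd 24583 = n40510 := ndS (p := 23455) (l := 9) rfl N23455 D40510
theorem N24584 : nd 24584 = n40511 := ndS (p := 23456) (l := 8) rfl N23456 D40511
theorem N24585 : nd 24585 = n40512 := ndS (p := 23457) (l := 9) rfl N23457 D40512
theorem N24586 : nd 24586 = n40513 := ndS (p := 23458) (l := 8) rfl N23458 D40513
theorem N24587 : nd 24587 = n40514 := ndS (p := 23463) (l := 3) rfl N23463 D40514
theorem N24588 : nd 24588 = n40515 := ndS (p := 23463) (l := 6) rfl N23463 D40515
theorem N24589 : nd 24589 = n40516 := ndS (p := 23463) (l := 9) rfl N23463 D40516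
theorem N24590 : nd 24590 = n40517 := ndS (p := 23464) (l := 7) rfl N23464 D40517
theorem N24591 : nd 24591 = n40518 := ndS (p := 23464) (l := 9) rfl N23464 D40518
theorem N24592 : nd 24592 = n40519 := ndS (p := 23465) (l := 8) rfl N23465 D40519
theorem N24593 : nd 24593 = n40520 := ndS (p := 23467) (l := 7) rfl N23467 D40520
theorem N24594 : nd 24594 = n40521 := ndS (p := 23468) (l := 8) rfl N23468 D40521
theorem N24595 : nd 24595 = n40522 := ndS (p := 23469) (l := 9) rfl N23469 D40522
theorem N24596 : nd 24596 = n40523 := ndS (p := 23470) (l := 8) rfl N23470 D40523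
theorem N24597 : nd 24597 = n40524 := ndS (p := 23473) (l := 5) rfl N23473 D40524
theorem N24598 : nd 24598 = n40525 := ndS (p := 23477) (l := 6) rfl N23477 D40525
theorem N24599 : nd 24599 = n40526 := ndS (p := 23478) (l := 7) rfl N23478 D40526
theorem N24600 : nd 24600 = n40527 := ndS (p := 23481) (l := 5) rfl N23481 D40527
theorem N24601 : nd 24601 = n40528 := ndS (p := 23483) (l := 4) rfl N23483 D40528
theorem N24602 : nd 24602 = n40529 := ndS (p := 23485) (l := 4) rfl N23485 D40529
theorem N24603 : nd 24603 = n40530 := ndS (p := 23491) (l := 5) rfl N23491 D40530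
theorem N24604 : nd 24604 = n40531 := ndS (p := 23492) (l := 4) rfl N23492 D40531
theorem N24605 : nd 24605 = n40532 := ndS (p := 23493) (l := 5) rfl N23493 D40532
theorem N24606 : nd 24606 = n40533 := ndS (p := 23494) (l := 9) rfl N23494 D40533
theorem N24607 : nd 24607 = n40534 := ndS (p := 23496) (l := 6) rfl N23496 D40534
theorem N24608 : nd 24608 = n40535 := ndS (p := 23497) (l := 5) rfl N23497 D40535
theorem N24609 : nd 24609 = n40536 := ndS (p := 23498) (l := 5) rfl N23498 D40536
theorem N24610 : nd 24610 = n40537 := ndS (p := 23499) (l := 8) rfl N23499 D40537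
theorem N24611 : nd 24611 = n40538 := ndS (p := 23500) (l := 5) rfl N23500 D40538
theorem N24612 : nd 24612 = n40539 := ndS (p := 23501) (l := 5) rfl N23501 D40539
theorem N24613 : nd 24613 = n40540 := ndS (p := 23501) (l := 9) rfl N23501 D40540
theorem N24614 : nd 24614 = n40541 := ndS (p := 23503) (l := 6) rfl N23503 D40541
theorem N24615 : nd 24615 = n40542 := ndS (p := 23504) (l := 5) rfl N23504 D40542
theorem N24616 : nd 24616 = n40543 := ndS (p := 23505) (l := 5) rfl N23505 D40543
theorem N24617 : nd 24617 = n40544 := ndS (p := 23506) (l := 8) rfl N23506 D40544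
theorem N24618 : nd 24618 = n40545 := ndS (p := 23507) (l := 5) rfl N23507 D40545
theorem N24619 : nd 24619 = n40546 := ndS (p := 23508) (l := 5) rfl N23508 D40546
theorem N24620 : nd 24620 = n40547 := ndS (p := 23508) (l := 9) rfl N23508 D40547
theorem N24621 : nd 24621 = n40548 := ndS (p := 23509) (l := 6) rfl N23509 D40548
theorem N24622 : nd 24622 = n40549 := ndS (p := 23509) (l := 9) rfl N23509 D40549
theorem N24623 : nd 24623 = n40550 := ndS (p := 23511) (l := 7) rfl N23511 D40550
theorem N24624 : nd 24624 = n40551 := ndS (p := 23513) (l := 5) rfl N23513 D40551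
theorem N24625 : nd 24625 = n40552 := ndS (p := 23514) (l := 5) rfl N23514 D40552
theorem N24626 : nd 24626 = n40553 := ndS (p := 23515) (l := 8) rfl N23515 D40553
theorem N24627 : nd 24627 = n40554 := ndS (p := 23516) (l := 5) rfl N23516 D40554
theorem N24628 : nd 24628 = n40555 := ndS (p := 23517) (l := 5) rfl N23517 D40555
theorem N24629 : nd 24629 = n40556 := ndS (p := 23517) (l := 9) rfl N23517 D40556
theorem N24630 : nd 24630 = n40557 := ndS (p := 23518) (l := 4) rfl N23518 D40557
theorem N24631 : nd 24631 = n40558 := ndS (p := 23518) (l := 6) rfl N23518 D40558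
theorem N24632 : nd 24632 = n40559 := ndS (p := 23520) (l := 3) rfl N23520 D40559
theorem N24633 : nd 24633 = n40560 := ndS (p := 23521) (l := 2) rfl N23521 D40560
theorem N24634 : nd 24634 = n40561 := ndS (p := 23522) (l := 5) rfl N23522 D40561
theorem N24635 : nd 24635 = n40562 := ndS (p := 23523) (l := 8) rfl N23523 D40562
theorem N24636 : nd 24636 = n40563 := ndS (p := 23524) (l := 4) rfl N23524 D40563
theorem N24637 : nd 24637 = n40564 := ndS (p := 23524) (l := 8) rfl N23524 D40564
theorem N24638 : nd 24638 = n40565 := ndS (p := 23525) (l := 5) rfl N23525 D40565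
theorem N24639 : nd 24639 = n40566 := ndS (p := 23525) (l := 9) rfl N23525 D40566
theorem N24640 : nd 24640 = n40567 := ndS (p := 23527) (l := 9) rfl N23527 D40567
theorem N24641 : nd 24641 = n40568 := ndS (p := 23530) (l := 5) rfl N23530 D40568
theorem N24642 : nd 24642 = n40569 := ndS (p := 23531) (l := 8) rfl N23531 D40569
theorem N24643 : nd 24643 = n40570 := ndS (p := 23532) (l := 5) rfl N23532 D40570
theorem N24644 : nd 24644 = n40571 := ndS (p := 23532) (l := 9) rfl N23532 D40571
theorem N24645 : nd 24645 = n40572 := ndS (p := 23534) (l := 5) rfl N23534 D40572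
theorem N24646 : nd 24646 = n40573 := ndS (p := 23535) (l := 6) rfl N23535 D40573
theorem N24647 : nd 24647 = n40574 := ndS (p := 23536) (l := 5) rfl N23536 D40574
theorem N24648 : nd 24648 = n40575 := ndS (p := 23536) (l := 8) rfl N23536 D40575
theorem N24649 : nd 24649 = n40576 := ndS (p := 23538) (l := 8) rfl N23538 D40576
theorem N24650 : nd 24650 = n40577 := ndS (p := 23539) (l := 5) rfl N23539 D40577
theorem N24651 : nd 24651 = n40578 := ndS (p := 23540) (l := 4) rfl N23540 D40578
theorem N24652 : nd 24652 = n40579 := ndS (p := 23540) (l := 8) rfl N23540 D40579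
theorem N24653 : nd 24653 = n40580 := ndS (p := 23541) (l := 5) rfl N23541 D40580
theorem N24654 : nd 24654 = n40581 := ndS (p := 23542) (l := 5) rfl N23542 D40581
theorem N24655 : nd 24655 = n40582 := ndS (p := 23542) (l := 9) rfl N23542 D40582
theorem N24656 : nd 24656 = n40583 := ndS (p := 23543) (l := 6) rfl N23543 D40583
theorem N24657 : nd 24657 = n40584 := ndS (p := 23543) (l := 9) rfl N23543 D40584
theorem N24658 : nd 24658 = n40585 := ndS (p := 23546) (l := 4) rfl N23546 D40585
theorem N24659 : nd 24659 = n40586 := ndS (p := 23546) (l := 6) rfl N23546 D40586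
theorem N24660 : nd 24660 = n40587 := ndS (p := 23546) (l := 9) rfl N23546 D40587
theorem N24661 : nd 24661 = n40588 := ndS (p := 23548) (l := 6) rfl N23548 D40588
theorem N24662 : nd 24662 = n40589 := ndS (p := 23549) (l := 7) rfl N23549 D40589
theorem N24663 : nd 24663 = n40590 := ndS (p := 23549) (l := 9) rfl N23549 D40590
theorem N24664 : nd 24664 = n40591 := ndS (p := 23550) (l := 8) rfl N23550 D40591
theorem N24665 : nd 24665 = n40592 := ndS (p := 23553) (l := 5) rfl N23553 D40592
theorem N24666 : nd 24666 = n40593 := ndS (p := 23554) (l := 5) rfl N23554 D40593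
theorem N24667 : nd 24667 = n40594 := ndS (p := 23555) (l := 8) rfl N23555 D40594
theorem N24668 : nd 24668 = n40595 := ndS (p := 23556) (l := 5) rfl N23556 D40595
theorem N24669 : nd 24669 = n40596 := ndS (p := 23556) (l := 9) rfl N23556 D40596
theorem N24670 : nd 24670 = n40597 := ndS (p := 23557) (l := 4) rfl N23557 D40597
theorem N24671 : nd 24671 = n40598 := ndS (p := 23557) (l := 6) rfl N23557 D40598
theorem N24672 : nd 24672 = n40599 := ndS (p := 23557) (l := 9) rfl N23557 D40599
theorem N24673 : nd 24673 = n40600 := ndS (p := 23560) (l := 9) rfl N23560 D40600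
theorem N24674 : nd 24674 = n40601 := ndS (p := 23562) (l := 4) rfl N23562 D40601
theorem N24675 : nd 24675 = n40602 := ndS (p := 23562) (l := 8) rfl N23562 D40602
theorem N24676 : nd 24676 = n40603 := ndS (p := 23563) (l := 9) rfl N23563 D40603
theorem N24677 : nd 24677 = n40604 := ndS (p := 23564) (l := 4) rfl N23564 D40604
theorem N24678 : nd 24678 = n40605 := ndS (p := 23564) (l := 6) rfl N23564 D40605
theorem N24679 : nd 24679 = n40606 := ndS (p := 23564) (l := 9) rfl N23564 D40606
theorem N24680 : nd 24680 = n40607 := ndS (p := 23568) (l := 8) rfl N23568 D40607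
theorem N24681 : nd 24681 = n40608 := ndS (p := 23569) (l := 4) rfl N23569 D40608
theorem N24682 : nd 24682 = n40609 := ndS (p := 23569) (l := 8) rfl N23569 D40609
theorem N24683 : nd 24683 = n40610 := ndS (p := 23570) (l := 5) rfl N23570 D40610
theorem N24684 : nd 24684 = n40611 := ndS (p := 23571) (l := 5) rfl N23571 D40611
theorem N24685 : nd 24685 = n40612 := ndS (p := 23571) (l := 9) rfl N23571 D40612
theorem N24686 : nd 24686 = n40613 := ndS (p := 23572) (l := 4) rfl N23572 D40613
theorem N24687 : nd 24687 = n40614 := ndS (p := 23573) (l := 3) rfl N23573 D40614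
theorem N24688 : nd 24688 = n40615 := ndS (p := 23574) (l := 4) rfl N23574 D40615
theorem N24689 : nd 24689 = n40616 := ndS (p := 23574) (l := 6) rfl N23574 D40616
theorem N24690 : nd 24690 = n40617 := ndS (p := 23574) (l := 9) rfl N23574 D40617
theorem N24691 : nd 24691 = n40618 := ndS (p := 23576) (l := 3) rfl N23576 D40618
theorem N24692 : nd 24692 = n40619 := ndS (p := 23576) (l := 6) rfl N23576 D40619
theorem N24693 : nd 24693 = n40620 := ndS (p := 23577) (l := 7) rfl N23577 D40620
theorem N24694 : nd 24694 = n40621 := ndS (p := 23578) (l := 8) rfl N23578 D40621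
theorem N24695 : nd 24695 = n40622 := ndS (p := 23580) (l := 2) rfl N23580 D40622
theorem N24696 : nd 24696 = n40623 := ndS (p := 23581) (l := 1) rfl N23581 D40623
theorem N24697 : nd 24697 = n40624 := ndS (p := 23582) (l := 5) rfl N23582 D40624
theorem N24698 : nd 24698 = n40625 := ndS (p := 23583) (l := 8) rfl N23583 D40625
theorem N24699 : nd 24699 = n40626 := ndS (p := 23584) (l := 5) rfl N23584 D40626
theorem N24700 : nd 24700 = n40627 := ndS (p := 23584) (l := 8) rfl N23584 D40627
theorem N24701 : nd 24701 = n40628 := ndS (p := 23586) (l := 4) rfl N23586 D40628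
theorem N24702 : nd 24702 = n40629 := ndS (p := 23586) (l := 8) rfl N23586 D40629
theorem N24703 : nd 24703 = n40630 := ndS (p := 23587) (l := 5) rfl N23587 D40630
theorem N24704 : nd 24704 = n40631 := ndS (p := 23588) (l := 5) rfl N23588 D40631
theorem N24705 : nd 24705 = n40632 := ndS (p := 23588) (l := 9) rfl N23588 D40632
theorem N24706 : nd 24706 = n40633 := ndS (p := 23590) (l := 8) rfl N23590 D40633
theorem N24707 : nd 24707 = n40634 := ndS (p := 23591) (l := 5) rfl N23591 D40634
theorem N24708 : nd 24708 = n40635 := ndS (p := 23591) (l := 9) rfl N23591 D40635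
theorem N24709 : nd 24709 = n40636 := ndS (p := 23592) (l := 4) rfl N23592 D40636
theorem N24710 : nd 24710 = n40637 := ndS (p := 23593) (l := 6) rfl N23593 D40637
theorem N24711 : nd 24711 = n40638 := ndS (p := 23593) (l := 9) rfl N23593 D40638
theorem N24712 : nd 24712 = n40639 := ndS (p := 23596) (l := 8) rfl N23596 D40639
theorem N24713 : nd 24713 = n40640 := ndS (p := 23597) (l := 9) rfl N23597 D40640
theorem N24714 : nd 24714 = n40641 := ndS (p := 23598) (l := 7) rfl N23598 D40641
theorem N24715 : nd 24715 = n40642 := ndS (p := 23598) (l := 9) rfl N23598 D40642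
theorem N24716 : nd 24716 = n40643 := ndS (p := 23599) (l := 8) rfl N23599 D40643
theorem N24717 : nd 24717 = n40644 := ndS (p := 23603) (l := 5) rfl N23603 D40644
theorem N24718 : nd 24718 = n40645 := ndS (p := 23604) (l := 8) rfl N23604 D40645
theorem N24719 : nd 24719 = n40646 := ndS (p := 23605) (l := 5) rfl N23605 D40646
theorem N24720 : nd 24720 = n40647 := ndS (p := 23606) (l := 4) rfl N23606 D40647
theorem N24721 : nd 24721 = n40648 := ndS (p := 23607) (l := 4) rfl N23607 D40648
theorem N24722 : nd 24722 = n40649 := ndS (p := 23607) (l := 8) rfl N23607 D40649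
theorem N24723 : nd 24723 = n40650 := ndS (p := 23608) (l := 5) rfl N23608 D40650
theorem N24724 : nd 24724 = n40651 := ndS (p := 23609) (l := 5) rfl N23609 D40651
theorem N24725 : nd 24725 = n40652 := ndS (p := 23609) (l := 9) rfl N23609 D40652
theorem N24726 : nd 24726 = n40653 := ndS (p := 23610) (l := 4) rfl N23610 D40653
theorem N24727 : nd 24727 = n40654 := ndS (p := 23610) (l := 9) rfl N23610 D40654
theorem N24728 : nd 24728 = n40655 := ndS (p := 23612) (l := 3) rfl N23612 D40655
theorem N24729 : nd 24729 = n40656 := ndS (p := 23612) (l := 9) rfl N23612 D40656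
theorem N24730 : nd 24730 = n40657 := ndS (p := 23613) (l := 8) rfl N23613 D40657
theorem N24731 : nd 24731 = n40658 := ndS (p := 23614) (l := 4) rfl N23614 D40658
theorem N24732 : nd 24732 = n40659 := ndS (p := 23614) (l := 6) rfl N23614 D40659
theorem N24733 : nd 24733 = n40660 := ndS (p := 23614) (l := 9) rfl N23614 D40660
theorem N24734 : nd 24734 = n40661 := ndS (p := 23616) (l := 3) rfl N23616 D40661
theorem N24735 : nd 24735 = n40662 := ndS (p := 23616) (l := 6) rfl N23616 D40662
theorem N24736 : nd 24736 = n40663 := ndS (p := 23616) (l := 9) rfl N23616 D40663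
theorem N24737 : nd 24737 = n40664 := ndS (p := 23617) (l := 7) rfl N23617 D40664
theorem N24738 : nd 24738 = n40665 := ndS (p := 23617) (l := 9) rfl N23617 D40665
theorem N24739 : nd 24739 = n40666 := ndS (p := 23618) (l := 8) rfl N23618 D40666
theorem N24740 : nd 24740 = n40667 := ndS (p := 23621) (l := 2) rfl N23621 D40667
theorem N24741 : nd 24741 = n40668 := ndS (p := 23621) (l := 9) rfl N23621 D40668
theorem N24742 : nd 24742 = n40669 := ndS (p := 23622) (l := 8) rfl N23622 D40669
theorem N24743 : nd 24743 = n40670 := ndS (p := 23626) (l := 9) rfl N23626 D40670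
theorem N24744 : nd 24744 = n40671 := ndS (p := 23627) (l := 9) rfl N23627 D40671
theorem N24745 : nd 24745 = n40672 := ndS (p := 23629) (l := 4) rfl N23629 D40672
theorem N24746 : nd 24746 = n40673 := ndS (p := 23629) (l := 8) rfl N23629 D40673
theorem N24747 : nd 24747 = n40674 := ndS (p := 23630) (l := 5) rfl N23630 D40674
theorem N24748 : nd 24748 = n40675 := ndS (p := 23631) (l := 5) rfl N23631 D40675
theorem N24749 : nd 24749 = n40676 := ndS (p := 23631) (l := 9) rfl N23631 D40676
theorem N24750 : nd 24750 = n40677 := ndS (p := 23632) (l := 4) rfl N23632 D40677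
theorem N24751 : nd 24751 = n40678 := ndS (p := 23632) (l := 6) rfl N23632 D40678
theorem N24752 : nd 24752 = n40679 := ndS (p := 23632) (l := 9) rfl N23632 D40679
theorem N24753 : nd 24753 = n40680 := ndS (p := 23636) (l := 4) rfl N23636 D40680
theorem N24754 : nd 24754 = n40681 := ndS (p := 23636) (l := 6) rfl N23636 D40681
theorem N24755 : nd 24755 = n40682 := ndS (p := 23636) (l := 9) rfl N23636 D40682
theorem N24756 : nd 24756 = n40683 := ndS (p := 23638) (l := 3) rfl N23638 D40683
theorem N24757 : nd 24757 = n40684 := ndS (p := 23638) (l := 6) rfl N23638 D40684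
theorem N24758 : nd 24758 = n40685 := ndS (p := 23638) (l := 9) rfl N23638 D40685
theorem N24759 : nd 24759 = n40686 := ndS (p := 23639) (l := 7) rfl N23639 D40686
theorem N24760 : nd 24760 = n40687 := ndS (p := 23639) (l := 9) rfl N23639 D40687
theorem N24761 : nd 24761 = n40688 := ndS (p := 23640) (l := 8) rfl N23640 D40688
theorem N24762 : nd 24762 = n40689 := ndS (p := 23645) (l := 5) rfl N23645 D40689
theorem N24763 : nd 24763 = n40690 := ndS (p := 23646) (l := 4) rfl N23646 D40690
theorem N24764 : nd 24764 = n40691 := ndS (p := 23646) (l := 8) rfl N23646 D40691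
theorem N24765 : nd 24765 = n40692 := ndS (p := 23647) (l := 5) rfl N23647 D40692
theorem N24766 : nd 24766 = n40693 := ndS (p := 23648) (l := 5) rfl N23648 D40693
theorem N24767 : nd 24767 = n40694 := ndS (p := 23648) (l := 9) rfl N23648 D40694
theorem N24768 : nd 24768 = n40695 := ndS (p := 23649) (l := 9) rfl N23649 D40695
theorem N24769 : nd 24769 = n40696 := ndS (p := 23651) (l := 8) rfl N23651 D40696
theorem N24770 : nd 24770 = n40697 := ndS (p := 23652) (l := 5) rfl N23652 D40697
theorem N24771 : nd 24771 = n40698 := ndS (p := 23652) (l := 9) rfl N23652 D40698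
theorem N24772 : nd 24772 = n40699 := ndS (p := 23653) (l := 9) rfl N23653 D40699
theorem N24773 : nd 24773 = n40700 := ndS (p := 23655) (l := 9) rfl N23655 D40700
theorem N24774 : nd 24774 = n40701 := ndS (p := 23657) (l := 8) rfl N23657 D40701
theorem N24775 : nd 24775 = n40702 := ndS (p := 23658) (l := 3) rfl N23658 D40702
theorem N24776 : nd 24776 = n40703 := ndS (p := 23658) (l := 6) rfl N23658 D40703
theorem N24777 : nd 24777 = n40704 := ndS (p := 23658) (l := 9) rfl N23658 D40704
theorem N24778 : nd 24778 = n40705 := ndS (p := 23659) (l := 7) rfl N23659 D40705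
theorem N24779 : nd 24779 = n40706 := ndS (p := 23659) (l := 9) rfl N23659 D40706
theorem N24780 : nd 24780 = n40707 := ndS (p := 23660) (l := 8) rfl N23660 D40707
theorem N24781 : nd 24781 = n40708 := ndS (p := 23661) (l := 6) rfl N23661 D40708
theorem N24782 : nd 24782 = n40709 := ndS (p := 23664) (l := 8) rfl N23664 D40709
theorem N24783 : nd 24783 = n40710 := ndS (p := 23666) (l := 5) rfl N23666 D40710
theorem N24784 : nd 24784 = n40711 := ndS (p := 23667) (l := 5) rfl N23667 D40711
theorem N24785 : nd 24785 = n40712 := ndS (p := 23668) (l := 8) rfl N23668 D40712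
theorem N24786 : nd 24786 = n40713 := ndS (p := 23669) (l := 4) rfl N23669 D40713
theorem N24787 : nd 24787 = n40714 := ndS (p := 23669) (l := 8) rfl N23669 D40714
theorem N24788 : nd 24788 = n40715 := ndS (p := 23670) (l := 5) rfl N23670 D40715
theorem N24789 : nd 24789 = n40716 := ndS (p := 23670) (l := 9) rfl N23670 D40716
theorem N24790 : nd 24790 = n40717 := ndS (p := 23671) (l := 4) rfl N23671 D40717
theorem N24791 : nd 24791 = n40718 := ndS (p := 23673) (l := 4) rfl N23673 D40718
theorem N24792 : nd 24792 = n40719 := ndS (p := 23673) (l := 6) rfl N23673 D40719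
theorem N24793 : nd 24793 = n40720 := ndS (p := 23673) (l := 9) rfl N23673 D40720
theorem N24794 : nd 24794 = n40721 := ndS (p := 23675) (l := 3) rfl N23675 D40721
theorem N24795 : nd 24795 = n40722 := ndS (p := 23675) (l := 6) rfl N23675 D40722
theorem N24796 : nd 24796 = n40723 := ndS (p := 23675) (l := 9) rfl N23675 D40723
theorem N24797 : nd 24797 = n40724 := ndS (p := 23677) (l := 8) rfl N23677 D40724
theorem N24798 : nd 24798 = n40725 := ndS (p := 23680) (l := 8) rfl N23680 D40725
theorem N24799 : nd 24799 = n40726 := ndS (p := 23681) (l := 9) rfl N23681 D40726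
theorem N24800 : nd 24800 = n40727 := ndS (p := 23683) (l := 3) rfl N23683 D40727
theorem N24801 : nd 24801 = n40728 := ndS (p := 23683) (l := 9) rfl N23683 D40728
theorem N24802 : nd 24802 = n40729 := ndS (p := 23684) (l := 9) rfl N23684 D40729
theorem N24803 : nd 24803 = n40730 := ndS (p := 23685) (l := 8) rfl N23685 D40730
theorem N24804 : nd 24804 = n40731 := ndS (p := 23688) (l := 8) rfl N23688 D40731
theorem N24805 : nd 24805 = n40732 := ndS (p := 23689) (l := 5) rfl N23689 D40732
theorem N24806 : nd 24806 = n40733 := ndS (p := 23689) (l := 9) rfl N23689 D40733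
theorem N24807 : nd 24807 = n40734 := ndS (p := 23690) (l := 9) rfl N23690 D40734
theorem N24808 : nd 24808 = n40735 := ndS (p := 23692) (l := 4) rfl N23692 D40735
theorem N24809 : nd 24809 = n40736 := ndS (p := 23692) (l := 9) rfl N23692 D40736
theorem N24810 : nd 24810 = n40737 := ndS (p := 23694) (l := 3) rfl N23694 D40737
theorem N24811 : nd 24811 = n40738 := ndS (p := 23694) (l := 9) rfl N23694 D40738
theorem N24812 : nd 24812 = n40739 := ndS (p := 23695) (l := 8) rfl N23695 D40739
theorem N24813 : nd 24813 = n40740 := ndS (p := 23698) (l := 3) rfl N23698 D40740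
theorem N24814 : nd 24814 = n40741 := ndS (p := 23698) (l := 6) rfl N23698 D40741
theorem N24815 : nd 24815 = n40742 := ndS (p := 23698) (l := 9) rfl N23698 D40742
theorem N24816 : nd 24816 = n40743 := ndS (p := 23699) (l := 7) rfl N23699 D40743
theorem N24817 : nd 24817 = n40744 := ndS (p := 23699) (l := 9) rfl N23699 D40744
theorem N24818 : nd 24818 = n40745 := ndS (p := 23700) (l := 8) rfl N23700 D40745
theorem N24819 : nd 24819 = n40746 := ndS (p := 23701) (l := 2) rfl N23701 D40746
theorem N24820 : nd 24820 = n40747 := ndS (p := 23701) (l := 6) rfl N23701 D40747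
theorem N24821 : nd 24821 = n40748 := ndS (p := 23702) (l := 7) rfl N23702 D40748
theorem N24822 : nd 24822 = n40749 := ndS (p := 23702) (l := 9) rfl N23702 D40749
theorem N24823 : nd 24823 = n40750 := ndS (p := 23703) (l := 8) rfl N23703 D40750
theorem N24824 : nd 24824 = n40751 := ndS (p := 23704) (l := 9) rfl N23704 D40751
theorem N24825 : nd 24825 = n40752 := ndS (p := 23705) (l := 8) rfl N23705 D40752
theorem N24826 : nd 24826 = n40753 := ndS (p := 23709) (l := 4) rfl N23709 D40753
theorem N24827 : nd 24827 = n40754 := ndS (p := 23709) (l := 8) rfl N23709 D40754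
theorem N24828 : nd 24828 = n40755 := ndS (p := 23710) (l := 5) rfl N23710 D40755
theorem N24829 : nd 24829 = n40756 := ndS (p := 23711) (l := 8) rfl N23711 D40756
theorem N24830 : nd 24830 = n40757 := ndS (p := 23712) (l := 5) rfl N23712 D40757
theorem N24831 : nd 24831 = n40758 := ndS (p := 23712) (l := 9) rfl N23712 D40758
theorem N24832 : nd 24832 = n40759 := ndS (p := 23713) (l := 4) rfl N23713 D40759
theorem N24833 : nd 24833 = n40760 := ndS (p := 23713) (l := 6) rfl N23713 D40760
theorem N24834 : nd 24834 = n40761 := ndS (p := 23713) (l := 9) rfl N23713 D40761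
theorem N24835 : nd 24835 = n40762 := ndS (p := 23716) (l := 6) rfl N23716 D40762
theorem N24836 : nd 24836 = n40763 := ndS (p := 23716) (l := 9) rfl N23716 D40763
theorem N24837 : nd 24837 = n40764 := ndS (p := 23718) (l := 7) rfl N23718 D40764
theorem N24838 : nd 24838 = n40765 := ndS (p := 23719) (l := 8) rfl N23719 D40765
theorem N24839 : nd 24839 = n40766 := ndS (p := 23721) (l := 5) rfl N23721 D40766
theorem N24840 : nd 24840 = n40767 := ndS (p := 23721) (l := 9) rfl N23721 D40767
theorem N24841 : nd 24841 = n40768 := ndS (p := 23722) (l := 4) rfl N23722 D40768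
theorem N24842 : nd 24842 = n40769 := ndS (p := 23722) (l := 6) rfl N23722 D40769
theorem N24843 : nd 24843 = n40770 := ndS (p := 23722) (l := 9) rfl N23722 D40770
theorem N24844 : nd 24844 = n40771 := ndS (p := 23724) (l := 6) rfl N23724 D40771
theorem N24845 : nd 24845 = n40772 := ndS (p := 23724) (l := 9) rfl N23724 D40772
theorem N24846 : nd 24846 = n40773 := ndS (p := 23725) (l := 7) rfl N23725 D40773
theorem N24847 : nd 24847 = n40774 := ndS (p := 23726) (l := 8) rfl N23726 D40774
theorem N24848 : nd 24848 = n40775 := ndS (p := 23728) (l := 9) rfl N23728 D40775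
theorem N24849 : nd 24849 = n40776 := ndS (p := 23729) (l := 7) rfl N23729 D40776
theorem N24850 : nd 24850 = n40777 := ndS (p := 23729) (l := 9) rfl N23729 D40777
theorem N24851 : nd 24851 = n40778 := ndS (p := 23730) (l := 8) rfl N23730 D40778
theorem N24852 : nd 24852 = n40779 := ndS (p := 23733) (l := 9) rfl N23733 D40779
theorem N24853 : nd 24853 = n40780 := ndS (p := 23735) (l := 9) rfl N23735 D40780
theorem N24854 : nd 24854 = n40781 := ndS (p := 23739) (l := 4) rfl N23739 D40781
theorem N24855 : nd 24855 = n40782 := ndS (p := 23743) (l := 4) rfl N23743 D40782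
theorem N24856 : nd 24856 = n40783 := ndS (p := 23745) (l := 5) rfl N23745 D40783
theorem N24857 : nd 24857 = n40784 := ndS (p := 23746) (l := 3) rfl N23746 D40784
theorem N24858 : nd 24858 = n40785 := ndS (p := 23747) (l := 4) rfl N23747 D40785
theorem N24859 : nd 24859 = n40786 := ndS (p := 23747) (l := 9) rfl N23747 D40786
theorem N24860 : nd 24860 = n40787 := ndS (p := 23749) (l := 9) rfl N23749 D40787
theorem N24861 : nd 24861 = n40788 := ndS (p := 23751) (l := 6) rfl N23751 D40788
theorem N24862 : nd 24862 = n40789 := ndS (p := 23755) (l := 6) rfl N23755 D40789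
theorem N24863 : nd 24863 = n40790 := ndS (p := 23758) (l := 8) rfl N23758 D40790
theorem N24864 : nd 24864 = n40791 := ndS (p := 23759) (l := 5) rfl N23759 D40791
theorem N24865 : nd 24865 = n40792 := ndS (p := 23759) (l := 9) rfl N23759 D40792
theorem N24866 : nd 24866 = n40793 := ndS (p := 23761) (l := 6) rfl N23761 D40793
theorem N24867 : nd 24867 = n40794 := ndS (p := 23761) (l := 9) rfl N23761 D40794
theorem N24868 : nd 24868 = n40795 := ndS (p := 23763) (l := 7) rfl N23763 D40795
theorem N24869 : nd 24869 = n40796 := ndS (p := 23763) (l := 9) rfl N23763 D40796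
theorem N24870 : nd 24870 = n40797 := ndS (p := 23764) (l := 8) rfl N23764 D40797
theorem N24871 : nd 24871 = n40798 := ndS (p := 23765) (l := 2) rfl N23765 D40798
theorem N24872 : nd 24872 = n40799 := ndS (p := 23768) (l := 2) rfl N23768 D40799
theorem N24873 : nd 24873 = n40800 := ndS (p := 23768) (l := 6) rfl N23768 D40800
theorem N24874 : nd 24874 = n40801 := ndS (p := 23769) (l := 7) rfl N23769 D40801
theorem N24875 : nd 24875 = n40802 := ndS (p := 23772) (l := 7) rfl N23772 D40802
theorem N24876 : nd 24876 = n40803 := ndS (p := 23773) (l := 9) rfl N23773 D40803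
theorem N24877 : nd 24877 = n40804 := ndS (p := 23777) (l := 9) rfl N23777 D40804
theorem N24878 : nd 24878 = n40805 := ndS (p := 23778) (l := 8) rfl N23778 D40805
theorem N24879 : nd 24879 = n40806 := ndS (p := 23780) (l := 7) rfl N23780 D40806
theorem N24880 : nd 24880 = n40807 := ndS (p := 23780) (l := 9) rfl N23780 D40807
theorem N24881 : nd 24881 = n40808 := ndS (p := 23786) (l := 4) rfl N23786 D40808
theorem N24882 : nd 24882 = n40809 := ndS (p := 23787) (l := 5) rfl N23787 D40809
theorem N24883 : nd 24883 = n40810 := ndS (p := 23788) (l := 8) rfl N23788 D40810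
theorem N24884 : nd 24884 = n40811 := ndS (p := 23789) (l := 4) rfl N23789 D40811
theorem N24885 : nd 24885 = n40812 := ndS (p := 23789) (l := 8) rfl N23789 D40812
theorem N24886 : nd 24886 = n40813 := ndS (p := 23790) (l := 5) rfl N23790 D40813
theorem N24887 : nd 24887 = n40814 := ndS (p := 23790) (l := 9) rfl N23790 D40814
theorem N24888 : nd 24888 = n40815 := ndS (p := 23792) (l := 9) rfl N23792 D40815
theorem N24889 : nd 24889 = n40816 := ndS (p := 23794) (l := 8) rfl N23794 D40816
theorem N24890 : nd 24890 = n40817 := ndS (p := 23797) (l := 5) rfl N23797 D40817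
theorem N24891 : nd 24891 = n40818 := ndS (p := 23798) (l := 4) rfl N23798 D40818
theorem N24892 : nd 24892 = n40819 := ndS (p := 23798) (l := 8) rfl N23798 D40819
theorem N24893 : nd 24893 = n40820 := ndS (p := 23799) (l := 9) rfl N23799 D40820
theorem N24894 : nd 24894 = n40821 := ndS (p := 23800) (l := 8) rfl N23800 D40821
theorem N24895 : nd 24895 = n40822 := ndS (p := 23801) (l := 9) rfl N23801 D40822
theorem N24896 : nd 24896 = n40823 := ndS (p := 23803) (l := 7) rfl N23803 D40823
theorem N24897 : nd 24897 = n40824 := ndS (p := 23803) (l := 9) rfl N23803 D40824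
theorem N24898 : nd 24898 = n40825 := ndS (p := 23804) (l := 8) rfl N23804 D40825
theorem N24899 : nd 24899 = n40826 := ndS (p := 23806) (l := 8) rfl N23806 D40826
theorem N24900 : nd 24900 = n40827 := ndS (p := 23808) (l := 4) rfl N23808 D40827
theorem N24901 : nd 24901 = n40828 := ndS (p := 23810) (l := 5) rfl N23810 D40828
theorem N24902 : nd 24902 = n40829 := ndS (p := 23812) (l := 6) rfl N23812 D40829
theorem N24903 : nd 24903 = n40830 := ndS (p := 23813) (l := 4) rfl N23813 D40830
theorem N24904 : nd 24904 = n40831 := ndS (p := 23813) (l := 9) rfl N23813 D40831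
theorem N24905 : nd 24905 = n40832 := ndS (p := 23815) (l := 9) rfl N23815 D40832
theorem N24906 : nd 24906 = n40833 := ndS (p := 23816) (l := 8) rfl N23816 D40833
theorem N24907 : nd 24907 = n40834 := ndS (p := 23818) (l := 8) rfl N23818 D40834
theorem N24908 : nd 24908 = n40835 := ndS (p := 23819) (l := 4) rfl N23819 D40835
theorem N24909 : nd 24909 = n40836 := ndS (p := 23819) (l := 8) rfl N23819 D40836
theorem N24910 : nd 24910 = n40837 := ndS (p := 23820) (l := 9) rfl N23820 D40837
theorem N24911 : nd 24911 = n40838 := ndS (p := 23821) (l := 4) rfl N23821 D40838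
theorem N24912 : nd 24912 = n40839 := ndS (p := 23821) (l := 6) rfl N23821 D40839
theorem N24913 : nd 24913 = n40840 := ndS (p := 23821) (l := 9) rfl N23821 D40840
theorem N24914 : nd 24914 = n40841 := ndS (p := 23823) (l := 6) rfl N23823 D40841
theorem N24915 : nd 24915 = n40842 := ndS (p := 23823) (l := 9) rfl N23823 D40842
theorem N24916 : nd 24916 = n40843 := ndS (p := 23825) (l := 8) rfl N23825 D40843
theorem N24917 : nd 24917 = n40844 := ndS (p := 23827) (l := 9) rfl N23827 D40844
theorem N24918 : nd 24918 = n40845 := ndS (p := 23828) (l := 8) rfl N23828 D40845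
theorem N24919 : nd 24919 = n40846 := ndS (p := 23829) (l := 9) rfl N23829 D40846
theorem N24920 : nd 24920 = n40847 := ndS (p := 23831) (l := 3) rfl N23831 D40847
theorem N24921 : nd 24921 = n40848 := ndS (p := 23831) (l := 9) rfl N23831 D40848
theorem N24922 : nd 24922 = n40849 := ndS (p := 23832) (l := 8) rfl N23832 D40849
theorem N24923 : nd 24923 = n40850 := ndS (p := 23833) (l := 2) rfl N23833 D40850
theorem N24924 : nd 24924 = n40851 := ndS (p := 23833) (l := 9) rfl N23833 D40851
theorem N24925 : nd 24925 = n40852 := ndS (p := 23834) (l := 8) rfl N23834 D40852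
theorem N24926 : nd 24926 = n40853 := ndS (p := 23838) (l := 5) rfl N23838 D40853
theorem N24927 : nd 24927 = n40854 := ndS (p := 23839) (l := 8) rfl N23839 D40854
theorem N24928 : nd 24928 = n40855 := ndS (p := 23840) (l := 4) rfl N23840 D40855
theorem N24929 : nd 24929 = n40856 := ndS (p := 23840) (l := 8) rfl N23840 D40856
theorem N24930 : nd 24930 = n40857 := ndS (p := 23841) (l := 5) rfl N23841 D40857
theorem N24931 : nd 24931 = n40858 := ndS (p := 23842) (l := 5) rfl N23842 D40858
theorem N24932 : nd 24932 = n40859 := ndS (p := 23842) (l := 9) rfl N23842 D40859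
theorem N24933 : nd 24933 = n40860 := ndS (p := 23843) (l := 4) rfl N23843 D40860
theorem N24934 : nd 24934 = n40861 := ndS (p := 23843) (l := 6) rfl N23843 D40861
theorem N24935 : nd 24935 = n40862 := ndS (p := 23843) (l := 9) rfl N23843 D40862
theorem N24936 : nd 24936 = n40863 := ndS (p := 23846) (l := 3) rfl N23846 D40863
theorem N24937 : nd 24937 = n40864 := ndS (p := 23846) (l := 9) rfl N23846 D40864
theorem N24938 : nd 24938 = n40865 := ndS (p := 23847) (l := 8) rfl N23847 D40865
theorem N24939 : nd 24939 = n40866 := ndS (p := 23848) (l := 4) rfl N23848 D40866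
theorem N24940 : nd 24940 = n40867 := ndS (p := 23848) (l := 6) rfl N23848 D40867
theorem N24941 : nd 24941 = n40868 := ndS (p := 23848) (l := 9) rfl N23848 D40868
theorem N24942 : nd 24942 = n40869 := ndS (p := 23850) (l := 3) rfl N23850 D40869
theorem N24943 : nd 24943 = n40870 := ndS (p := 23850) (l := 6) rfl N23850 D40870
theorem N24944 : nd 24944 = n40871 := ndS (p := 23850) (l := 9) rfl N23850 D40871
theorem N24945 : nd 24945 = n40872 := ndS (p := 23851) (l := 7) rfl N23851 D40872
theorem N24946 : nd 24946 = n40873 := ndS (p := 23852) (l := 8) rfl N23852 D40873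
theorem N24947 : nd 24947 = n40874 := ndS (p := 23854) (l := 2) rfl N23854 D40874
theorem N24948 : nd 24948 = n40875 := ndS (p := 23854) (l := 9) rfl N23854 D40875
theorem N24949 : nd 24949 = n40876 := ndS (p := 23855) (l := 8) rfl N23855 D40876
theorem N24950 : nd 24950 = n40877 := ndS (p := 23857) (l := 9) rfl N23857 D40877
theorem N24951 : nd 24951 = n40878 := ndS (p := 23859) (l := 5) rfl N23859 D40878
theorem N24952 : nd 24952 = n40879 := ndS (p := 23860) (l := 4) rfl N23860 D40879
theorem N24953 : nd 24953 = n40880 := ndS (p := 23860) (l := 8) rfl N23860 D40880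
theorem N24954 : nd 24954 = n40881 := ndS (p := 23861) (l := 5) rfl N23861 D40881
theorem N24955 : nd 24955 = n40882 := ndS (p := 23861) (l := 9) rfl N23861 D40882
theorem N24956 : nd 24956 = n40883 := ndS (p := 23862) (l := 4) rfl N23862 D40883
theorem N24957 : nd 24957 = n40884 := ndS (p := 23862) (l := 6) rfl N23862 D40884
theorem N24958 : nd 24958 = n40885 := ndS (p := 23864) (l := 3) rfl N23864 D40885
theorem N24959 : nd 24959 = n40886 := ndS (p := 23865) (l := 8) rfl N23865 D40886
theorem N24960 : nd 24960 = n40887 := ndS (p := 23866) (l := 9) rfl N23866 D40887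
theorem N24961 : nd 24961 = n40888 := ndS (p := 23867) (l := 4) rfl N23867 D40888
theorem N24962 : nd 24962 = n40889 := ndS (p := 23867) (l := 6) rfl N23867 D40889
theorem N24963 : nd 24963 = n40890 := ndS (p := 23867) (l := 9) rfl N23867 D40890
theorem N24964 : nd 24964 = n40891 := ndS (p := 23869) (l := 3) rfl N23869 D40891
theorem N24965 : nd 24965 = n40892 := ndS (p := 23869) (l := 6) rfl N23869 D40892
theorem N24966 : nd 24966 = n40893 := ndS (p := 23870) (l := 7) rfl N23870 D40893
theorem N24967 : nd 24967 = n40894 := ndS (p := 23873) (l := 6) rfl N23873 D40894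
theorem N24968 : nd 24968 = n40895 := ndS (p := 23873) (l := 9) rfl N23873 D40895
theorem N24969 : nd 24969 = n40896 := ndS (p := 23874) (l := 7) rfl N23874 D40896
theorem N24970 : nd 24970 = n40897 := ndS (p := 23874) (l := 9) rfl N23874 D40897
theorem N24971 : nd 24971 = n40898 := ndS (p := 23875) (l := 8) rfl N23875 D40898
theorem N24972 : nd 24972 = n40899 := ndS (p := 23876) (l := 7) rfl N23876 D40899
theorem N24973 : nd 24973 = n40900 := ndS (p := 23877) (l := 8) rfl N23877 D40900
theorem N24974 : nd 24974 = n40901 := ndS (p := 23880) (l := 4) rfl N23880 D40901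
theorem N24975 : nd 24975 = n40902 := ndS (p := 23880) (l := 8) rfl N23880 D40902
theorem N24976 : nd 24976 = n40903 := ndS (p := 23881) (l := 8) rfl N23881 D40903
theorem N24977 : nd 24977 = n40904 := ndS (p := 23882) (l := 9) rfl N23882 D40904
theorem N24978 : nd 24978 = n40905 := ndS (p := 23883) (l := 4) rfl N23883 D40905
theorem N24979 : nd 24979 = n40906 := ndS (p := 23883) (l := 9) rfl N23883 D40906
theorem N24980 : nd 24980 = n40907 := ndS (p := 23885) (l := 3) rfl N23885 D40907
theorem N24981 : nd 24981 = n40908 := ndS (p := 23886) (l := 2) rfl N23886 D40908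
theorem N24982 : nd 24982 = n40909 := ndS (p := 23887) (l := 5) rfl N23887 D40909
theorem N24983 : nd 24983 = n40910 := ndS (p := 23887) (l := 9) rfl N23887 D40910
theorem N24984 : nd 24984 = n40911 := ndS (p := 23888) (l := 4) rfl N23888 D40911
theorem N24985 : nd 24985 = n40912 := ndS (p := 23888) (l := 6) rfl N23888 D40912
theorem N24986 : nd 24986 = n40913 := ndS (p := 23888) (l := 9) rfl N23888 D40913
theorem N24987 : nd 24987 = n40914 := ndS (p := 23890) (l := 3) rfl N23890 D40914
theorem N24988 : nd 24988 = n40915 := ndS (p := 23890) (l := 6) rfl N23890 D40915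
theorem N24989 : nd 24989 = n40916 := ndS (p := 23891) (l := 7) rfl N23891 D40916
theorem N24990 : nd 24990 = n40917 := ndS (p := 23893) (l := 3) rfl N23893 D40917
theorem N24991 : nd 24991 = n40918 := ndS (p := 23893) (l := 6) rfl N23893 D40918
theorem N24992 : nd 24992 = n40919 := ndS (p := 23893) (l := 9) rfl N23893 D40919
theorem N24993 : nd 24993 = n40920 := ndS (p := 23894) (l := 7) rfl N23894 D40920
theorem N24994 : nd 24994 = n40921 := ndS (p := 23894) (l := 9) rfl N23894 D40921
theorem N24995 : nd 24995 = n40922 := ndS (p := 23895) (l := 8) rfl N23895 D40922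
theorem N24996 : nd 24996 = n40923 := ndS (p := 23896) (l := 2) rfl N23896 D40923
theorem N24997 : nd 24997 = n40924 := ndS (p := 23896) (l := 6) rfl N23896 D40924
theorem N24998 : nd 24998 = n40925 := ndS (p := 23897) (l := 7) rfl N23897 D40925
theorem N24999 : nd 24999 = n40926 := ndS (p := 23897) (l := 9) rfl N23897 D40926
theorem N25000 : nd 25000 = n40927 := ndS (p := 23898) (l := 8) rfl N23898 D40927
theorem N25001 : nd 25001 = n40928 := ndS (p := 23899) (l := 9) rfl N23899 D40928
theorem N25002 : nd 25002 = n40929 := ndS (p := 23900) (l := 8) rfl N23900 D40929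
theorem N25003 : nd 25003 = n40930 := ndS (p := 23904) (l := 2) rfl N23904 D40930
theorem N25004 : nd 25004 = n40931 := ndS (p := 23904) (l := 6) rfl N23904 D40931
theorem N25005 : nd 25005 = n40932 := ndS (p := 23904) (l := 9) rfl N23904 D40932
theorem N25006 : nd 25006 = n40933 := ndS (p := 23905) (l := 7) rfl N23905 D40933
theorem N25007 : nd 25007 = n40934 := ndS (p := 23905) (l := 9) rfl N23905 D40934
theorem N25008 : nd 25008 = n40935 := ndS (p := 23906) (l := 8) rfl N23906 D40935
theorem N25009 : nd 25009 = n40936 := ndS (p := 23907) (l := 9) rfl N23907 D40936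
theorem N25010 : nd 25010 = n40937 := ndS (p := 23908) (l := 8) rfl N23908 D40937
theorem N25011 : nd 25011 = n40938 := ndS (p := 23910) (l := 1) rfl N23910 D40938
theorem N25012 : nd 25012 = n40939 := ndS (p := 23910) (l := 6) rfl N23910 D40939
theorem N25013 : nd 25013 = n40940 := ndS (p := 23911) (l := 7) rfl N23911 D40940
theorem N25014 : nd 25014 = n40941 := ndS (p := 23911) (l := 9) rfl N23911 D40941
theorem N25015 : nd 25015 = n40942 := ndS (p := 23912) (l := 8) rfl N23912 D40942
theorem N25016 : nd 25016 = n40943 := ndS (p := 23913) (l := 9) rfl N23913 D40943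
theorem N25017 : nd 25017 = n40944 := ndS (p := 23914) (l := 8) rfl N23914 D40944
theorem N25018 : nd 25018 = n40945 := ndS (p := 23915) (l := 5) rfl N23915 D40945
theorem N25019 : nd 25019 = n40946 := ndS (p := 23916) (l := 8) rfl N23916 D40946
theorem N25020 : nd 25020 = n40947 := ndS (p := 23921) (l := 6) rfl N23921 D40947
theorem N25021 : nd 25021 = n40948 := ndS (p := 23922) (l := 7) rfl N23922 D40948
theorem N25022 : nd 25022 = n40949 := ndS (p := 23923) (l := 9) rfl N23923 D40949
theorem N25023 : nd 25023 = n40950 := ndS (p := 23926) (l := 7) rfl N23926 D40950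
theorem N25024 : nd 25024 = n40951 := ndS (p := 23930) (l := 7) rfl N23930 D40951
theorem N25025 : nd 25025 = n40952 := ndS (p := 23933) (l := 4) rfl N23933 D40952
theorem N25026 : nd 25026 = n40953 := ndS (p := 23933) (l := 8) rfl N23933 D40953
theorem N25027 : nd 25027 = n40954 := ndS (p := 23934) (l := 8) rfl N23934 D40954
theorem N25028 : nd 25028 = n40955 := ndS (p := 23936) (l := 5) rfl N23936 D40955
theorem N25029 : nd 25029 = n40956 := ndS (p := 23937) (l := 3) rfl N23937 D40956
theorem N25030 : nd 25030 = n40957 := ndS (p := 23937) (l := 8) rfl N23937 D40957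
theorem N25031 : nd 25031 = n40958 := ndS (p := 23939) (l := 5) rfl N23939 D40958
theorem N25032 : nd 25032 = n40959 := ndS (p := 23940) (l := 4) rfl N23940 D40959
theorem N25033 : nd 25033 = n40960 := ndS (p := 23940) (l := 6) rfl N23940 D40960
theorem N25034 : nd 25034 = n40961 := ndS (p := 23945) (l := 7) rfl N23945 D40961
theorem N25035 : nd 25035 = n40962 := ndS (p := 23946) (l := 8) rfl N23946 D40962
theorem N25036 : nd 25036 = n40963 := ndS (p := 23947) (l := 9) rfl N23947 D40963
theorem N25037 : nd 25037 = n40964 := ndS (p := 23949) (l := 8) rfl N23949 D40964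
theorem N25038 : nd 25038 = n40965 := ndS (p := 23950) (l := 9) rfl N23950 D40965
theorem N25039 : nd 25039 = n40966 := ndS (p := 23952) (l := 4) rfl N23952 D40966
theorem N25040 : nd 25040 = n40967 := ndS (p := 23952) (l := 9) rfl N23952 D40967
theorem N25041 : nd 25041 = n40968 := ndS (p := 23955) (l := 8) rfl N23955 D40968
theorem N25042 : nd 25042 = n40969 := ndS (p := 23956) (l := 4) rfl N23956 D40969
theorem N25043 : nd 25043 = n40970 := ndS (p := 23956) (l := 8) rfl N23956 D40970
theorem N25044 : nd 25044 = n40971 := ndS (p := 23957) (l := 5) rfl N23957 D40971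
theorem N25045 : nd 25045 = n40972 := ndS (p := 23957) (l := 9) rfl N23957 D40972
theorem N25046 : nd 25046 = n40973 := ndS (p := 23958) (l := 4) rfl N23958 D40973
theorem N25047 : nd 25047 = n40974 := ndS (p := 23960) (l := 4) rfl N23960 D40974
theorem N25048 : nd 25048 = n40975 := ndS (p := 23960) (l := 6) rfl N23960 D40975
theorem N25049 : nd 25049 = n40976 := ndS (p := 23960) (l := 9) rfl N23960 D40976
theorem N25050 : nd 25050 = n40977 := ndS (p := 23962) (l := 6) rfl N23962 D40977
theorem N25051 : nd 25051 = n40978 := ndS (p := 23962) (l := 9) rfl N23962 D40978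
theorem N25052 : nd 25052 = n40979 := ndS (p := 23963) (l := 7) rfl N23963 D40979
theorem N25053 : nd 25053 = n40980 := ndS (p := 23964) (l := 8) rfl N23964 D40980
theorem N25054 : nd 25054 = n40981 := ndS (p := 23967) (l := 8) rfl N23967 D40981
theorem N25055 : nd 25055 = n40982 := ndS (p := 23968) (l := 4) rfl N23968 D40982
theorem N25056 : nd 25056 = n40983 := ndS (p := 23968) (l := 8) rfl N23968 D40983
theorem N25057 : nd 25057 = n40984 := ndS (p := 23969) (l := 5) rfl N23969 D40984
theorem N25058 : nd 25058 = n40985 := ndS (p := 23969) (l := 9) rfl N23969 D40985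
theorem N25059 : nd 25059 = n40986 := ndS (p := 23970) (l := 4) rfl N23970 D40986
theorem N25060 : nd 25060 = n40987 := ndS (p := 23970) (l := 6) rfl N23970 D40987
theorem N25061 : nd 25061 = n40988 := ndS (p := 23973) (l := 4) rfl N23973 D40988
theorem N25062 : nd 25062 = n40989 := ndS (p := 23973) (l := 6) rfl N23973 D40989
theorem N25063 : nd 25063 = n40990 := ndS (p := 23973) (l := 9) rfl N23973 D40990
theorem N25064 : nd 25064 = n40991 := ndS (p := 23975) (l := 3) rfl N23975 D40991
theorem N25065 : nd 25065 = n40992 := ndS (p := 23975) (l := 6) rfl N23975 D40992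
theorem N25066 : nd 25066 = n40993 := ndS (p := 23976) (l := 7) rfl N23976 D40993
theorem N25067 : nd 25067 = n40994 := ndS (p := 23979) (l := 8) rfl N23979 D40994
theorem N25068 : nd 25068 = n40995 := ndS (p := 23980) (l := 4) rfl N23980 D40995
theorem N25069 : nd 25069 = n40996 := ndS (p := 23980) (l := 8) rfl N23980 D40996
theorem N25070 : nd 25070 = n40997 := ndS (p := 23981) (l := 5) rfl N23981 D40997
theorem N25071 : nd 25071 = n40998 := ndS (p := 23981) (l := 9) rfl N23981 D40998
theorem N25072 : nd 25072 = n40999 := ndS (p := 23983) (l := 8) rfl N23983 D40999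
theorem N25073 : nd 25073 = n41000 := ndS (p := 23984) (l := 9) rfl N23984 D41000
theorem N25074 : nd 25074 = n41001 := ndS (p := 23985) (l := 4) rfl N23985 D41001
theorem N25075 : nd 25075 = n41002 := ndS (p := 23985) (l := 9) rfl N23985 D41002
theorem N25076 : nd 25076 = n41003 := ndS (p := 23988) (l := 9) rfl N23988 D41003
theorem N25077 : nd 25077 = n41004 := ndS (p := 23990) (l := 7) rfl N23990 D41004
theorem N25078 : nd 25078 = n41005 := ndS (p := 23992) (l := 5) rfl N23992 D41005
theorem N25079 : nd 25079 = n41006 := ndS (p := 23993) (l := 8) rfl N23993 D41006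
theorem N25080 : nd 25080 = n41007 := ndS (p := 23994) (l := 4) rfl N23994 D41007
theorem N25081 : nd 25081 = n41008 := ndS (p := 23994) (l := 8) rfl N23994 D41008
theorem N25082 : nd 25082 = n41009 := ndS (p := 23995) (l := 5) rfl N23995 D41009
theorem N25083 : nd 25083 = n41010 := ndS (p := 23996) (l := 5) rfl N23996 D41010
theorem N25084 : nd 25084 = n41011 := ndS (p := 23996) (l := 9) rfl N23996 D41011
theorem N25085 : nd 25085 = n41012 := ndS (p := 23997) (l := 4) rfl N23997 D41012
theorem N25086 : nd 25086 = n41013 := ndS (p := 23997) (l := 6) rfl N23997 D41013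
theorem N25087 : nd 25087 = n41014 := ndS (p := 23999) (l := 3) rfl N23999 D41014
theorem N25088 : nd 25088 = n41015 := ndS (p := 24000) (l := 4) rfl N24000 D41015
theorem N25089 : nd 25089 = n41016 := ndS (p := 24000) (l := 6) rfl N24000 D41016
theorem N25090 : nd 25090 = n41017 := ndS (p := 24000) (l := 9) rfl N24000 D41017
theorem N25091 : nd 25091 = n41018 := ndS (p := 24002) (l := 3) rfl N24002 D41018
theorem N25092 : nd 25092 = n41019 := ndS (p := 24002) (l := 6) rfl N24002 D41019
theorem N25093 : nd 25093 = n41020 := ndS (p := 24003) (l := 7) rfl N24003 D41020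
theorem N25094 : nd 25094 = n41021 := ndS (p := 24005) (l := 2) rfl N24005 D41021
theorem N25095 : nd 25095 = n41022 := ndS (p := 24007) (l := 8) rfl N24007 D41022
theorem N25096 : nd 25096 = n41023 := ndS (p := 24008) (l := 4) rfl N24008 D41023
theorem N25097 : nd 25097 = n41024 := ndS (p := 24008) (l := 8) rfl N24008 D41024
theorem N25098 : nd 25098 = n41025 := ndS (p := 24009) (l := 5) rfl N24009 D41025
theorem N25099 : nd 25099 = n41026 := ndS (p := 24009) (l := 9) rfl N24009 D41026
theorem N25100 : nd 25100 = n41027 := ndS (p := 24010) (l := 4) rfl N24010 D41027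
theorem N25101 : nd 25101 = n41028 := ndS (p := 24012) (l := 8) rfl N24012 D41028
theorem N25102 : nd 25102 = n41029 := ndS (p := 24013) (l := 5) rfl N24013 D41029
theorem N25103 : nd 25103 = n41030 := ndS (p := 24013) (l := 9) rfl N24013 D41030
theorem N25104 : nd 25104 = n41031 := ndS (p := 24015) (l := 4) rfl N24015 D41031
theorem N25105 : nd 25105 = n41032 := ndS (p := 24015) (l := 6) rfl N24015 D41032
theorem N25106 : nd 25106 = n41033 := ndS (p := 24015) (l := 9) rfl N24015 D41033
theorem N25107 : nd 25107 = n41034 := ndS (p := 24017) (l := 3) rfl N24017 D41034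
theorem N25108 : nd 25108 = n41035 := ndS (p := 24017) (l := 6) rfl N24017 D41035
theorem N25109 : nd 25109 = n41036 := ndS (p := 24017) (l := 9) rfl N24017 D41036
theorem N25110 : nd 25110 = n41037 := ndS (p := 24018) (l := 7) rfl N24018 D41037
theorem N25111 : nd 25111 = n41038 := ndS (p := 24018) (l := 9) rfl N24018 D41038
theorem N25112 : nd 25112 = n41039 := ndS (p := 24019) (l := 8) rfl N24019 D41039
theorem N25113 : nd 25113 = n41040 := ndS (p := 24024) (l := 3) rfl N24024 D41040
theorem N25114 : nd 25114 = n41041 := ndS (p := 24024) (l := 6) rfl N24024 D41041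
theorem N25115 : nd 25115 = n41042 := ndS (p := 24024) (l := 9) rfl N24024 D41042
theorem N25116 : nd 25116 = n41043 := ndS (p := 24025) (l := 7) rfl N24025 D41043
theorem N25117 : nd 25117 = n41044 := ndS (p := 24025) (l := 9) rfl N24025 D41044
theorem N25118 : nd 25118 = n41045 := ndS (p := 24026) (l := 8) rfl N24026 D41045
theorem N25119 : nd 25119 = n41046 := ndS (p := 24027) (l := 6) rfl N24027 D41046
theorem N25120 : nd 25120 = n41047 := ndS (p := 24028) (l := 7) rfl N24028 D41047
theorem N25121 : nd 25121 = n41048 := ndS (p := 24028) (l := 9) rfl N24028 D41048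
theorem N25122 : nd 25122 = n41049 := ndS (p := 24029) (l := 8) rfl N24029 D41049
theorem N25123 : nd 25123 = n41050 := ndS (p := 24031) (l := 8) rfl N24031 D41050
theorem N25124 : nd 25124 = n41051 := ndS (p := 24033) (l := 5) rfl N24033 D41051
theorem N25125 : nd 25125 = n41052 := ndS (p := 24034) (l := 9) rfl N24034 D41052
theorem N25126 : nd 25126 = n41053 := ndS (p := 24035) (l := 4) rfl N24035 D41053
theorem N25127 : nd 25127 = n41054 := ndS (p := 24035) (l := 6) rfl N24035 D41054
theorem N25128 : nd 25128 = n41055 := ndS (p := 24035) (l := 9) rfl N24035 D41055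
theorem N25129 : nd 25129 = n41056 := ndS (p := 24037) (l := 3) rfl N24037 D41056
theorem N25130 : nd 25130 = n41057 := ndS (p := 24037) (l := 6) rfl N24037 D41057
theorem N25131 : nd 25131 = n41058 := ndS (p := 24038) (l := 7) rfl N24038 D41058
theorem N25132 : nd 25132 = n41059 := ndS (p := 24041) (l := 9) rfl N24041 D41059
theorem N25133 : nd 25133 = n41060 := ndS (p := 24042) (l := 8) rfl N24042 D41060
theorem N25134 : nd 25134 = n41061 := ndS (p := 24043) (l := 9) rfl N24043 D41061
theorem N25135 : nd 25135 = n41062 := ndS (p := 24044) (l := 4) rfl N24044 D41062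
theorem N25136 : nd 25136 = n41063 := ndS (p := 24044) (l := 9) rfl N24044 D41063
theorem N25137 : nd 25137 = n41064 := ndS (p := 24047) (l := 3) rfl N24047 D41064
theorem N25138 : nd 25138 = n41065 := ndS (p := 24047) (l := 6) rfl N24047 D41065
theorem N25139 : nd 25139 = n41066 := ndS (p := 24047) (l := 9) rfl N24047 D41066
theorem N25140 : nd 25140 = n41067 := ndS (p := 24048) (l := 7) rfl N24048 D41067
theorem N25141 : nd 25141 = n41068 := ndS (p := 24048) (l := 9) rfl N24048 D41068
theorem N25142 : nd 25142 = n41069 := ndS (p := 24049) (l := 8) rfl N24049 D41069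
theorem N25143 : nd 25143 = n41070 := ndS (p := 24050) (l := 2) rfl N24050 D41070
theorem N25144 : nd 25144 = n41071 := ndS (p := 24050) (l := 6) rfl N24050 D41071
theorem N25145 : nd 25145 = n41072 := ndS (p := 24050) (l := 9) rfl N24050 D41072
theorem N25146 : nd 25146 = n41073 := ndS (p := 24051) (l := 7) rfl N24051 D41073
theorem N25147 : nd 25147 = n41074 := ndS (p := 24052) (l := 8) rfl N24052 D41074
theorem N25148 : nd 25148 = n41075 := ndS (p := 24057) (l := 8) rfl N24057 D41075
theorem N25149 : nd 25149 = n41076 := ndS (p := 24058) (l := 9) rfl N24058 D41076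
theorem N25150 : nd 25150 = n41077 := ndS (p := 24060) (l := 8) rfl N24060 D41077
theorem N25151 : nd 25151 = n41078 := ndS (p := 24061) (l := 9) rfl N24061 D41078
theorem N25152 : nd 25152 = n41079 := ndS (p := 24062) (l := 4) rfl N24062 D41079
theorem N25153 : nd 25153 = n41080 := ndS (p := 24062) (l := 6) rfl N24062 D41080
theorem N25154 : nd 25154 = n41081 := ndS (p := 24062) (l := 9) rfl N24062 D41081
theorem N25155 : nd 25155 = n41082 := ndS (p := 24064) (l := 6) rfl N24064 D41082
theorem N25156 : nd 25156 = n41083 := ndS (p := 24068) (l := 3) rfl N24068 D41083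
theorem N25157 : nd 25157 = n41084 := ndS (p := 24068) (l := 6) rfl N24068 D41084
theorem N25158 : nd 25158 = n41085 := ndS (p := 24068) (l := 9) rfl N24068 D41085
theorem N25159 : nd 25159 = n41086 := ndS (p := 24069) (l := 7) rfl N24069 D41086
theorem N25160 : nd 25160 = n41087 := ndS (p := 24069) (l := 9) rfl N24069 D41087
theorem N25161 : nd 25161 = n41088 := ndS (p := 24070) (l := 8) rfl N24070 D41088
theorem N25162 : nd 25162 = n41089 := ndS (p := 24071) (l := 2) rfl N24071 D41089
theorem N25163 : nd 25163 = n41090 := ndS (p := 24071) (l := 6) rfl N24071 D41090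
theorem N25164 : nd 25164 = n41091 := ndS (p := 24071) (l := 9) rfl N24071 D41091
theorem N25165 : nd 25165 = n41092 := ndS (p := 24072) (l := 7) rfl N24072 D41092
theorem N25166 : nd 25166 = n41093 := ndS (p := 24072) (l := 9) rfl N24072 D41093
theorem N25167 : nd 25167 = n41094 := ndS (p := 24073) (l := 8) rfl N24073 D41094
theorem N25168 : nd 25168 = n41095 := ndS (p := 24074) (l := 9) rfl N24074 D41095
theorem N25169 : nd 25169 = n41096 := ndS (p := 24075) (l := 8) rfl N24075 D41096
theorem N25170 : nd 25170 = n41097 := ndS (p := 24080) (l := 5) rfl N24080 D41097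
theorem N25171 : nd 25171 = n41098 := ndS (p := 24081) (l := 8) rfl N24081 D41098
theorem N25172 : nd 25172 = n41099 := ndS (p := 24082) (l := 5) rfl N24082 D41099
theorem N25173 : nd 25173 = n41100 := ndS (p := 24082) (l := 9) rfl N24082 D41100
theorem N25174 : nd 25174 = n41101 := ndS (p := 24084) (l := 8) rfl N24084 D41101
theorem N25175 : nd 25175 = n41102 := ndS (p := 24085) (l := 9) rfl N24085 D41102
theorem N25176 : nd 25176 = n41103 := ndS (p := 24086) (l := 4) rfl N24086 D41103
theorem N25177 : nd 25177 = n41104 := ndS (p := 24086) (l := 6) rfl N24086 D41104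
theorem N25178 : nd 25178 = n41105 := ndS (p := 24086) (l := 9) rfl N24086 D41105
theorem N25179 : nd 25179 = n41106 := ndS (p := 24088) (l := 6) rfl N24088 D41106
theorem N25180 : nd 25180 = n41107 := ndS (p := 24090) (l := 5) rfl N24090 D41107
theorem N25181 : nd 25181 = n41108 := ndS (p := 24090) (l := 9) rfl N24090 D41108
theorem N25182 : nd 25182 = n41109 := ndS (p := 24091) (l := 4) rfl N24091 D41109
theorem N25183 : nd 25183 = n41110 := ndS (p := 24091) (l := 6) rfl N24091 D41110
theorem N25184 : nd 25184 = n41111 := ndS (p := 24091) (l := 9) rfl N24091 D41111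
theorem N25185 : nd 25185 = n41112 := ndS (p := 24093) (l := 6) rfl N24093 D41112
theorem N25186 : nd 25186 = n41113 := ndS (p := 24094) (l := 7) rfl N24094 D41113
theorem N25187 : nd 25187 = n41114 := ndS (p := 24096) (l := 3) rfl N24096 D41114
theorem N25188 : nd 25188 = n41115 := ndS (p := 24096) (l := 6) rfl N24096 D41115
theorem N25189 : nd 25189 = n41116 := ndS (p := 24096) (l := 9) rfl N24096 D41116
theorem N25190 : nd 25190 = n41117 := ndS (p := 24097) (l := 7) rfl N24097 D41117
theorem N25191 : nd 25191 = n41118 := ndS (p := 24097) (l := 9) rfl N24097 D41118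
theorem N25192 : nd 25192 = n41119 := ndS (p := 24098) (l := 8) rfl N24098 D41119
theorem N25193 : nd 25193 = n41120 := ndS (p := 24099) (l := 6) rfl N24099 D41120
theorem N25194 : nd 25194 = n41121 := ndS (p := 24100) (l := 7) rfl N24100 D41121
theorem N25195 : nd 25195 = n41122 := ndS (p := 24101) (l := 8) rfl N24101 D41122
theorem N25196 : nd 25196 = n41123 := ndS (p := 24104) (l := 9) rfl N24104 D41123
theorem N25197 : nd 25197 = n41124 := ndS (p := 24105) (l := 5) rfl N24105 D41124
theorem N25198 : nd 25198 = n41125 := ndS (p := 24105) (l := 7) rfl N24105 D41125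
theorem N25199 : nd 25199 = n41126 := ndS (p := 24105) (l := 9) rfl N24105 D41126
theorem N25200 : nd 25200 = n41127 := ndS (p := 24106) (l := 8) rfl N24106 D41127
theorem N25201 : nd 25201 = n41128 := ndS (p := 24107) (l := 9) rfl N24107 D41128
theorem N25202 : nd 25202 = n41129 := ndS (p := 24112) (l := 7) rfl N24112 D41129
theorem N25203 : nd 25203 = n41130 := ndS (p := 24115) (l := 7) rfl N24115 D41130
theorem N25204 : nd 25204 = n41131 := ndS (p := 24117) (l := 7) rfl N24117 D41131
theorem N25205 : nd 25205 = n41132 := ndS (p := 24120) (l := 6) rfl N24120 D41132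
theorem N25206 : nd 25206 = n41133 := ndS (p := 24121) (l := 7) rfl N24121 D41133
theorem N25207 : nd 25207 = n41134 := ndS (p := 24125) (l := 8) rfl N24125 D41134
theorem N25208 : nd 25208 = n41135 := ndS (p := 24126) (l := 9) rfl N24126 D41135
theorem N25209 : nd 25209 = n41136 := ndS (p := 24128) (l := 8) rfl N24128 D41136
theorem N25210 : nd 25210 = n41137 := ndS (p := 24130) (l := 8) rfl N24130 D41137
theorem N25211 : nd 25211 = n41138 := ndS (p := 24131) (l := 9) rfl N24131 D41138
theorem N25212 : nd 25212 = n41139 := ndS (p := 24133) (l := 3) rfl N24133 D41139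
theorem N25213 : nd 25213 = n41140 := ndS (p := 24133) (l := 6) rfl N24133 D41140
theorem N25214 : nd 25214 = n41141 := ndS (p := 24133) (l := 9) rfl N24133 D41141
theorem N25215 : nd 25215 = n41142 := ndS (p := 24134) (l := 7) rfl N24134 D41142
theorem N25216 : nd 25216 = n41143 := ndS (p := 24134) (l := 9) rfl N24134 D41143
theorem N25217 : nd 25217 = n41144 := ndS (p := 24136) (l := 6) rfl N24136 D41144
theorem N25218 : nd 25218 = n41145 := ndS (p := 24137) (l := 7) rfl N24137 D41145
theorem N25219 : nd 25219 = n41146 := ndS (p := 24139) (l := 9) rfl N24139 D41146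
theorem N25220 : nd 25220 = n41147 := ndS (p := 24141) (l := 8) rfl N24141 D41147
theorem N25221 : nd 25221 = n41148 := ndS (p := 24142) (l := 4) rfl N24142 D41148
theorem N25222 : nd 25222 = n41149 := ndS (p := 24142) (l := 8) rfl N24142 D41149
theorem N25223 : nd 25223 = n41150 := ndS (p := 24143) (l := 9) rfl N24143 D41150
theorem N25224 : nd 25224 = n41151 := ndS (p := 24144) (l := 4) rfl N24144 D41151
theorem N25225 : nd 25225 = n41152 := ndS (p := 24144) (l := 6) rfl N24144 D41152
theorem N25226 : nd 25226 = n41153 := ndS (p := 24144) (l := 9) rfl N24144 D41153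
theorem N25227 : nd 25227 = n41154 := ndS (p := 24146) (l := 6) rfl N24146 D41154
theorem N25228 : nd 25228 = n41155 := ndS (p := 24148) (l := 8) rfl N24148 D41155
theorem N25229 : nd 25229 = n41156 := ndS (p := 24149) (l := 9) rfl N24149 D41156
theorem N25230 : nd 25230 = n41157 := ndS (p := 24150) (l := 8) rfl N24150 D41157
theorem N25231 : nd 25231 = n41158 := ndS (p := 24151) (l := 5) rfl N24151 D41158
theorem N25232 : nd 25232 = n41159 := ndS (p := 24151) (l := 9) rfl N24151 D41159
theorem N25233 : nd 25233 = n41160 := ndS (p := 24152) (l := 4) rfl N24152 D41160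
theorem N25234 : nd 25234 = n41161 := ndS (p := 24152) (l := 9) rfl N24152 D41161
theorem N25235 : nd 25235 = n41162 := ndS (p := 24154) (l := 4) rfl N24154 D41162
theorem N25236 : nd 25236 = n41163 := ndS (p := 24154) (l := 9) rfl N24154 D41163
theorem N25237 : nd 25237 = n41164 := ndS (p := 24156) (l := 3) rfl N24156 D41164
theorem N25238 : nd 25238 = n41165 := ndS (p := 24156) (l := 9) rfl N24156 D41165
theorem N25239 : nd 25239 = n41166 := ndS (p := 24157) (l := 8) rfl N24157 D41166
theorem N25240 : nd 25240 = n41167 := ndS (p := 24158) (l := 2) rfl N24158 D41167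
theorem N25241 : nd 25241 = n41168 := ndS (p := 24158) (l := 9) rfl N24158 D41168
theorem N25242 : nd 25242 = n41169 := ndS (p := 24159) (l := 8) rfl N24159 D41169
theorem N25243 : nd 25243 = n41170 := ndS (p := 24161) (l := 3) rfl N24161 D41170
theorem N25244 : nd 25244 = n41171 := ndS (p := 24161) (l := 6) rfl N24161 D41171
theorem N25245 : nd 25245 = n41172 := ndS (p := 24161) (l := 9) rfl N24161 D41172
theorem N25246 : nd 25246 = n41173 := ndS (p := 24162) (l := 7) rfl N24162 D41173
theorem N25247 : nd 25247 = n41174 := ndS (p := 24162) (l := 9) rfl N24162 D41174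
theorem N25248 : nd 25248 = n41175 := ndS (p := 24163) (l := 8) rfl N24163 D41175
theorem N25249 : nd 25249 = n41176 := ndS (p := 24164) (l := 2) rfl N24164 D41176
theorem N25250 : nd 25250 = n41177 := ndS (p := 24164) (l := 6) rfl N24164 D41177
theorem N25251 : nd 25251 = n41178 := ndS (p := 24164) (l := 9) rfl N24164 D41178
theorem N25252 : nd 25252 = n41179 := ndS (p := 24165) (l := 7) rfl N24165 D41179
theorem N25253 : nd 25253 = n41180 := ndS (p := 24165) (l := 9) rfl N24165 D41180
theorem N25254 : nd 25254 = n41181 := ndS (p := 24166) (l := 8) rfl N24166 D41181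
theorem N25255 : nd 25255 = n41182 := ndS (p := 24167) (l := 9) rfl N24167 D41182
theorem N25256 : nd 25256 = n41183 := ndS (p := 24168) (l := 8) rfl N24168 D41183
theorem N25257 : nd 25257 = n41184 := ndS (p := 24171) (l := 5) rfl N24171 D41184
theorem N25258 : nd 25258 = n41185 := ndS (p := 24172) (l := 9) rfl N24172 D41185
theorem N25259 : nd 25259 = n41186 := ndS (p := 24174) (l := 5) rfl N24174 D41186
theorem N25260 : nd 25260 = n41187 := ndS (p := 24176) (l := 9) rfl N24176 D41187
theorem N25261 : nd 25261 = n41188 := ndS (p := 24177) (l := 8) rfl N24177 D41188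
theorem N25262 : nd 25262 = n41189 := ndS (p := 24178) (l := 9) rfl N24178 D41189
theorem N25263 : nd 25263 = n41190 := ndS (p := 24179) (l := 4) rfl N24179 D41190
theorem N25264 : nd 25264 = n41191 := ndS (p := 24179) (l := 6) rfl N24179 D41191
theorem N25265 : nd 25265 = n41192 := ndS (p := 24179) (l := 9) rfl N24179 D41192
theorem N25266 : nd 25266 = n41193 := ndS (p := 24181) (l := 6) rfl N24181 D41193
theorem N25267 : nd 25267 = n41194 := ndS (p := 24183) (l := 3) rfl N24183 D41194
theorem N25268 : nd 25268 = n41195 := ndS (p := 24183) (l := 6) rfl N24183 D41195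
theorem N25269 : nd 25269 = n41196 := ndS (p := 24183) (l := 9) rfl N24183 D41196
theorem N25270 : nd 25270 = n41197 := ndS (p := 24184) (l := 7) rfl N24184 D41197
theorem N25271 : nd 25271 = n41198 := ndS (p := 24184) (l := 9) rfl N24184 D41198
theorem N25272 : nd 25272 = n41199 := ndS (p := 24185) (l := 8) rfl N24185 D41199
theorem N25273 : nd 25273 = n41200 := ndS (p := 24186) (l := 6) rfl N24186 D41200
theorem N25274 : nd 25274 = n41201 := ndS (p := 24187) (l := 7) rfl N24187 D41201
theorem N25275 : nd 25275 = n41202 := ndS (p := 24187) (l := 9) rfl N24187 D41202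
theorem N25276 : nd 25276 = n41203 := ndS (p := 24188) (l := 8) rfl N24188 D41203
theorem N25277 : nd 25277 = n41204 := ndS (p := 24189) (l := 9) rfl N24189 D41204
theorem N25278 : nd 25278 = n41205 := ndS (p := 24190) (l := 8) rfl N24190 D41205
theorem N25279 : nd 25279 = n41206 := ndS (p := 24193) (l := 5) rfl N24193 D41206
theorem N25280 : nd 25280 = n41207 := ndS (p := 24194) (l := 9) rfl N24194 D41207
theorem N25281 : nd 25281 = n41208 := ndS (p := 24196) (l := 9) rfl N24196 D41208
theorem N25282 : nd 25282 = n41209 := ndS (p := 24197) (l := 9) rfl N24197 D41209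
theorem N25283 : nd 25283 = n41210 := ndS (p := 24199) (l := 8) rfl N24199 D41210
theorem N25284 : nd 25284 = n41211 := ndS (p := 24201) (l := 9) rfl N24201 D41211
theorem N25285 : nd 25285 = n41212 := ndS (p := 24202) (l := 8) rfl N24202 D41212
theorem N25286 : nd 25286 = n41213 := ndS (p := 24204) (l := 5) rfl N24204 D41213
theorem N25287 : nd 25287 = n41214 := ndS (p := 24205) (l := 4) rfl N24205 D41214
theorem N25288 : nd 25288 = n41215 := ndS (p := 24208) (l := 9) rfl N24208 D41215
theorem N25289 : nd 25289 = n41216 := ndS (p := 24210) (l := 9) rfl N24210 D41216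
theorem N25290 : nd 25290 = n41217 := ndS (p := 24211) (l := 8) rfl N24211 D41217
theorem N25291 : nd 25291 = n41218 := ndS (p := 24212) (l := 8) rfl N24212 D41218
theorem N25292 : nd 25292 = n41219 := ndS (p := 24214) (l := 2) rfl N24214 D41219
theorem N25293 : nd 25293 = n41220 := ndS (p := 24214) (l := 6) rfl N24214 D41220
theorem N25294 : nd 25294 = n41221 := ndS (p := 24214) (l := 9) rfl N24214 D41221
theorem N25295 : nd 25295 = n41222 := ndS (p := 24215) (l := 5) rfl N24215 D41222
theorem N25296 : nd 25296 = n41223 := ndS (p := 24215) (l := 7) rfl N24215 D41223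
theorem N25297 : nd 25297 = n41224 := ndS (p := 24215) (l := 9) rfl N24215 D41224
theorem N25298 : nd 25298 = n41225 := ndS (p := 24216) (l := 8) rfl N24216 D41225
theorem N25299 : nd 25299 = n41226 := ndS (p := 24217) (l := 9) rfl N24217 D41226
theorem N25300 : nd 25300 = n41227 := ndS (p := 24218) (l := 8) rfl N24218 D41227
theorem N25301 : nd 25301 = n41228 := ndS (p := 24220) (l := 6) rfl N24220 D41228
theorem N25302 : nd 25302 = n41229 := ndS (p := 24221) (l := 7) rfl N24221 D41229
theorem N25303 : nd 25303 = n41230 := ndS (p := 24222) (l := 9) rfl N24222 D41230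
theorem N25304 : nd 25304 = n41231 := ndS (p := 24223) (l := 8) rfl N24223 D41231
theorem N25305 : nd 25305 = n41232 := ndS (p := 24225) (l := 8) rfl N24225 D41232
theorem N25306 : nd 25306 = n41233 := ndS (p := 24228) (l := 6) rfl N24228 D41233
theorem N25307 : nd 25307 = n41234 := ndS (p := 24228) (l := 9) rfl N24228 D41234
theorem N25308 : nd 25308 = n41235 := ndS (p := 24230) (l := 6) rfl N24230 D41235
theorem N25309 : nd 25309 = n41236 := ndS (p := 24230) (l := 9) rfl N24230 D41236
theorem N25310 : nd 25310 = n41237 := ndS (p := 24231) (l := 7) rfl N24231 D41237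
theorem N25311 : nd 25311 = n41238 := ndS (p := 24231) (l := 9) rfl N24231 D41238
theorem N25312 : nd 25312 = n41239 := ndS (p := 24232) (l := 8) rfl N24232 D41239
theorem N25313 : nd 25313 = n41240 := ndS (p := 24233) (l := 7) rfl N24233 D41240
theorem N25314 : nd 25314 = n41241 := ndS (p := 24234) (l := 8) rfl N24234 D41241
theorem N25315 : nd 25315 = n41242 := ndS (p := 24237) (l := 9) rfl N24237 D41242
theorem N25316 : nd 25316 = n41243 := ndS (p := 24241) (l := 7) rfl N24241 D41243
theorem N25317 : nd 25317 = n41244 := ndS (p := 24242) (l := 9) rfl N24242 D41244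
theorem N25318 : nd 25318 = n41245 := ndS (p := 24243) (l := 8) rfl N24243 D41245
theorem N25319 : nd 25319 = n41246 := ndS (p := 24245) (l := 7) rfl N24245 D41246
theorem N25320 : nd 25320 = n41247 := ndS (p := 24247) (l := 5) rfl N24247 D41247
theorem N25321 : nd 25321 = n41248 := ndS (p := 24251) (l := 1) rfl N24251 D41248
theorem N25322 : nd 25322 = n41249 := ndS (p := 24251) (l := 9) rfl N24251 D41249
theorem N25323 : nd 25323 = n41250 := ndS (p := 24254) (l := 6) rfl N24254 D41250
theorem N25324 : nd 25324 = n41251 := ndS (p := 24255) (l := 7) rfl N24255 D41251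
theorem N25325 : nd 25325 = n41252 := ndS (p := 24255) (l := 9) rfl N24255 D41252
theorem N25326 : nd 25326 = n41253 := ndS (p := 24257) (l := 9) rfl N24257 D41253
theorem N25327 : nd 25327 = n41254 := ndS (p := 24262) (l := 8) rfl N24262 D41254
theorem N25328 : nd 25328 = n41255 := ndS (p := 24263) (l := 9) rfl N24263 D41255
theorem N25329 : nd 25329 = n41256 := ndS (p := 24265) (l := 7) rfl N24265 D41256
theorem N25330 : nd 25330 = n41257 := ndS (p := 24265) (l := 9) rfl N24265 D41257
theorem N25331 : nd 25331 = n41258 := ndS (p := 24266) (l := 8) rfl N24266 D41258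
theorem N25332 : nd 25332 = n41259 := ndS (p := 24268) (l := 8) rfl N24268 D41259
theorem N25333 : nd 25333 = n41260 := ndS (p := 24270) (l := 5) rfl N24270 D41260
theorem N25334 : nd 25334 = n41261 := ndS (p := 24271) (l := 4) rfl N24271 D41261
theorem N25335 : nd 25335 = n41262 := ndS (p := 24272) (l := 8) rfl N24272 D41262
theorem N25336 : nd 25336 = n41263 := ndS (p := 24273) (l := 4) rfl N24273 D41263
theorem N25337 : nd 25337 = n41264 := ndS (p := 24273) (l := 8) rfl N24273 D41264
theorem N25338 : nd 25338 = n41265 := ndS (p := 24274) (l := 5) rfl N24274 D41265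
theorem N25339 : nd 25339 = n41266 := ndS (p := 24274) (l := 9) rfl N24274 D41266
theorem N25340 : nd 25340 = n41267 := ndS (p := 24276) (l := 4) rfl N24276 D41267
theorem N25341 : nd 25341 = n41268 := ndS (p := 24276) (l := 9) rfl N24276 D41268
theorem N25342 : nd 25342 = n41269 := ndS (p := 24278) (l := 9) rfl N24278 D41269
theorem N25343 : nd 25343 = n41270 := ndS (p := 24279) (l := 8) rfl N24279 D41270
theorem N25344 : nd 25344 = n41271 := ndS (p := 24281) (l := 8) rfl N24281 D41271
theorem N25345 : nd 25345 = n41272 := ndS (p := 24282) (l := 9) rfl N24282 D41272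
theorem N25346 : nd 25346 = n41273 := ndS (p := 24283) (l := 4) rfl N24283 D41273
theorem N25347 : nd 25347 = n41274 := ndS (p := 24283) (l := 9) rfl N24283 D41274
theorem N25348 : nd 25348 = n41275 := ndS (p := 24286) (l := 6) rfl N24286 D41275
theorem N25349 : nd 25349 = n41276 := ndS (p := 24286) (l := 9) rfl N24286 D41276
theorem N25350 : nd 25350 = n41277 := ndS (p := 24287) (l := 7) rfl N24287 D41277
theorem N25351 : nd 25351 = n41278 := ndS (p := 24287) (l := 9) rfl N24287 D41278
theorem N25352 : nd 25352 = n41279 := ndS (p := 24288) (l := 8) rfl N24288 D41279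
theorem N25353 : nd 25353 = n41280 := ndS (p := 24289) (l := 7) rfl N24289 D41280
theorem N25354 : nd 25354 = n41281 := ndS (p := 24290) (l := 8) rfl N24290 D41281
theorem N25355 : nd 25355 = n41282 := ndS (p := 24294) (l := 4) rfl N24294 D41282
theorem N25356 : nd 25356 = n41283 := ndS (p := 24294) (l := 8) rfl N24294 D41283
theorem N25357 : nd 25357 = n41284 := ndS (p := 24295) (l := 5) rfl N24295 D41284
theorem N25358 : nd 25358 = n41285 := ndS (p := 24296) (l := 5) rfl N24296 D41285
theorem N25359 : nd 25359 = n41286 := ndS (p := 24296) (l := 9) rfl N24296 D41286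
theorem N25360 : nd 25360 = n41287 := ndS (p := 24297) (l := 4) rfl N24297 D41287
theorem N25361 : nd 25361 = n41288 := ndS (p := 24297) (l := 6) rfl N24297 D41288
theorem N25362 : nd 25362 = n41289 := ndS (p := 24297) (l := 9) rfl N24297 D41289
theorem N25363 : nd 25363 = n41290 := ndS (p := 24300) (l := 3) rfl N24300 D41290
theorem N25364 : nd 25364 = n41291 := ndS (p := 24300) (l := 9) rfl N24300 D41291
theorem N25365 : nd 25365 = n41292 := ndS (p := 24301) (l := 8) rfl N24301 D41292
theorem N25366 : nd 25366 = n41293 := ndS (p := 24302) (l := 4) rfl N24302 D41293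
theorem N25367 : nd 25367 = n41294 := ndS (p := 24302) (l := 6) rfl N24302 D41294
theorem N25368 : nd 25368 = n41295 := ndS (p := 24302) (l := 9) rfl N24302 D41295
theorem N25369 : nd 25369 = n41296 := ndS (p := 24304) (l := 3) rfl N24304 D41296
theorem N25370 : nd 25370 = n41297 := ndS (p := 24304) (l := 6) rfl N24304 D41297
theorem N25371 : nd 25371 = n41298 := ndS (p := 24304) (l := 9) rfl N24304 D41298
theorem N25372 : nd 25372 = n41299 := ndS (p := 24305) (l := 7) rfl N24305 D41299
theorem N25373 : nd 25373 = n41300 := ndS (p := 24305) (l := 9) rfl N24305 D41300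
theorem N25374 : nd 25374 = n41301 := ndS (p := 24306) (l := 8) rfl N24306 D41301
theorem N25375 : nd 25375 = n41302 := ndS (p := 24309) (l := 2) rfl N24309 D41302
theorem N25376 : nd 25376 = n41303 := ndS (p := 24309) (l := 9) rfl N24309 D41303
theorem N25377 : nd 25377 = n41304 := ndS (p := 24310) (l := 8) rfl N24310 D41304
theorem N25378 : nd 25378 = n41305 := ndS (p := 24312) (l := 1) rfl N24312 D41305
theorem N25379 : nd 25379 = n41306 := ndS (p := 24312) (l := 9) rfl N24312 D41306
theorem N25380 : nd 25380 = n41307 := ndS (p := 24314) (l := 8) rfl N24314 D41307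
theorem N25381 : nd 25381 = n41308 := ndS (p := 24315) (l := 9) rfl N24315 D41308
theorem N25382 : nd 25382 = n41309 := ndS (p := 24316) (l := 4) rfl N24316 D41309
theorem N25383 : nd 25383 = n41310 := ndS (p := 24316) (l := 6) rfl N24316 D41310
theorem N25384 : nd 25384 = n41311 := ndS (p := 24316) (l := 9) rfl N24316 D41311
theorem N25385 : nd 25385 = n41312 := ndS (p := 24318) (l := 3) rfl N24318 D41312
theorem N25386 : nd 25386 = n41313 := ndS (p := 24318) (l := 6) rfl N24318 D41313
theorem N25387 : nd 25387 = n41314 := ndS (p := 24319) (l := 7) rfl N24319 D41314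
theorem N25388 : nd 25388 = n41315 := ndS (p := 24322) (l := 6) rfl N24322 D41315
theorem N25389 : nd 25389 = n41316 := ndS (p := 24322) (l := 9) rfl N24322 D41316
theorem N25390 : nd 25390 = n41317 := ndS (p := 24323) (l := 7) rfl N24323 D41317
theorem N25391 : nd 25391 = n41318 := ndS (p := 24323) (l := 9) rfl N24323 D41318
theorem N25392 : nd 25392 = n41319 := ndS (p := 24324) (l := 8) rfl N24324 D41319
theorem N25393 : nd 25393 = n41320 := ndS (p := 24325) (l := 7) rfl N24325 D41320
theorem N25394 : nd 25394 = n41321 := ndS (p := 24325) (l := 9) rfl N24325 D41321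
theorem N25395 : nd 25395 = n41322 := ndS (p := 24326) (l := 8) rfl N24326 D41322
theorem N25396 : nd 25396 = n41323 := ndS (p := 24327) (l := 9) rfl N24327 D41323
theorem N25397 : nd 25397 = n41324 := ndS (p := 24328) (l := 8) rfl N24328 D41324
theorem N25398 : nd 25398 = n41325 := ndS (p := 24331) (l := 5) rfl N24331 D41325
theorem N25399 : nd 25399 = n41326 := ndS (p := 24331) (l := 9) rfl N24331 D41326
theorem N25400 : nd 25400 = n41327 := ndS (p := 24332) (l := 4) rfl N24332 D41327
theorem N25401 : nd 25401 = n41328 := ndS (p := 24332) (l := 6) rfl N24332 D41328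
theorem N25402 : nd 25402 = n41329 := ndS (p := 24332) (l := 9) rfl N24332 D41329
theorem N25403 : nd 25403 = n41330 := ndS (p := 24334) (l := 3) rfl N24334 D41330
theorem N25404 : nd 25404 = n41331 := ndS (p := 24334) (l := 6) rfl N24334 D41331
theorem N25405 : nd 25405 = n41332 := ndS (p := 24335) (l := 7) rfl N24335 D41332
theorem N25406 : nd 25406 = n41333 := ndS (p := 24337) (l := 3) rfl N24337 D41333
theorem N25407 : nd 25407 = n41334 := ndS (p := 24337) (l := 6) rfl N24337 D41334
theorem N25408 : nd 25408 = n41335 := ndS (p := 24337) (l := 9) rfl N24337 D41335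
theorem N25409 : nd 25409 = n41336 := ndS (p := 24338) (l := 7) rfl N24338 D41336
theorem N25410 : nd 25410 = n41337 := ndS (p := 24338) (l := 9) rfl N24338 D41337
theorem N25411 : nd 25411 = n41338 := ndS (p := 24340) (l := 2) rfl N24340 D41338
theorem N25412 : nd 25412 = n41339 := ndS (p := 24340) (l := 6) rfl N24340 D41339
theorem N25413 : nd 25413 = n41340 := ndS (p := 24341) (l := 7) rfl N24341 D41340
theorem N25414 : nd 25414 = n41341 := ndS (p := 24344) (l := 2) rfl N24344 D41341
theorem N25415 : nd 25415 = n41342 := ndS (p := 24344) (l := 6) rfl N24344 D41342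
theorem N25416 : nd 25416 = n41343 := ndS (p := 24344) (l := 9) rfl N24344 D41343
theorem N25417 : nd 25417 = n41344 := ndS (p := 24345) (l := 5) rfl N24345 D41344
theorem N25418 : nd 25418 = n41345 := ndS (p := 24345) (l := 7) rfl N24345 D41345
theorem N25419 : nd 25419 = n41346 := ndS (p := 24345) (l := 9) rfl N24345 D41346
theorem N25420 : nd 25420 = n41347 := ndS (p := 24346) (l := 8) rfl N24346 D41347
theorem N25421 : nd 25421 = n41348 := ndS (p := 24347) (l := 9) rfl N24347 D41348
theorem N25422 : nd 25422 = n41349 := ndS (p := 24348) (l := 8) rfl N24348 D41349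
theorem N25423 : nd 25423 = n41350 := ndS (p := 24350) (l := 6) rfl N24350 D41350
theorem N25424 : nd 25424 = n41351 := ndS (p := 24351) (l := 7) rfl N24351 D41351
theorem N25425 : nd 25425 = n41352 := ndS (p := 24351) (l := 9) rfl N24351 D41352
theorem N25426 : nd 25426 = n41353 := ndS (p := 24352) (l := 8) rfl N24352 D41353
theorem N25427 : nd 25427 = n41354 := ndS (p := 24353) (l := 9) rfl N24353 D41354
theorem N25428 : nd 25428 = n41355 := ndS (p := 24354) (l := 8) rfl N24354 D41355
theorem N25429 : nd 25429 = n41356 := ndS (p := 24356) (l := 8) rfl N24356 D41356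
theorem N25430 : nd 25430 = n41357 := ndS (p := 24358) (l := 2) rfl N24358 D41357
theorem N25431 : nd 25431 = n41358 := ndS (p := 24358) (l := 6) rfl N24358 D41358
theorem N25432 : nd 25432 = n41359 := ndS (p := 24359) (l := 5) rfl N24359 D41359
theorem N25433 : nd 25433 = n41360 := ndS (p := 24359) (l := 7) rfl N24359 D41360
theorem N25434 : nd 25434 = n41361 := ndS (p := 24361) (l := 6) rfl N24361 D41361
theorem N25435 : nd 25435 = n41362 := ndS (p := 24362) (l := 7) rfl N24362 D41362
theorem N25436 : nd 25436 = n41363 := ndS (p := 24364) (l := 6) rfl N24364 D41363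
theorem N25437 : nd 25437 = n41364 := ndS (p := 24365) (l := 5) rfl N24365 D41364
theorem N25438 : nd 25438 = n41365 := ndS (p := 24365) (l := 7) rfl N24365 D41365
theorem N25439 : nd 25439 = n41366 := ndS (p := 24366) (l := 7) rfl N24366 D41366
theorem N25440 : nd 25440 = n41367 := ndS (p := 24368) (l := 7) rfl N24368 D41367
theorem N25441 : nd 25441 = n41368 := ndS (p := 24369) (l := 9) rfl N24369 D41368
theorem N25442 : nd 25442 = n41369 := ndS (p := 24376) (l := 5) rfl N24376 D41369
theorem N25443 : nd 25443 = n41370 := ndS (p := 24377) (l := 4) rfl N24377 D41370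
theorem N25444 : nd 25444 = n41371 := ndS (p := 24377) (l := 6) rfl N24377 D41371
theorem N25445 : nd 25445 = n41372 := ndS (p := 24380) (l := 7) rfl N24380 D41372
theorem N25446 : nd 25446 = n41373 := ndS (p := 24381) (l := 8) rfl N24381 D41373
theorem N25447 : nd 25447 = n41374 := ndS (p := 24382) (l := 4) rfl N24382 D41374
theorem N25448 : nd 25448 = n41375 := ndS (p := 24382) (l := 8) rfl N24382 D41375
theorem N25449 : nd 25449 = n41376 := ndS (p := 24383) (l := 9) rfl N24383 D41376
theorem N25450 : nd 25450 = n41377 := ndS (p := 24384) (l := 4) rfl N24384 D41377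
theorem N25451 : nd 25451 = n41378 := ndS (p := 24384) (l := 9) rfl N24384 D41378
theorem N25452 : nd 25452 = n41379 := ndS (p := 24387) (l := 4) rfl N24387 D41379
theorem N25453 : nd 25453 = n41380 := ndS (p := 24387) (l := 8) rfl N24387 D41380
theorem N25454 : nd 25454 = n41381 := ndS (p := 24388) (l := 5) rfl N24388 D41381
theorem N25455 : nd 25455 = n41382 := ndS (p := 24389) (l := 5) rfl N24389 D41382
theorem N25456 : nd 25456 = n41383 := ndS (p := 24389) (l := 9) rfl N24389 D41383
theorem N25457 : nd 25457 = n41384 := ndS (p := 24390) (l := 4) rfl N24390 D41384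
theorem N25458 : nd 25458 = n41385 := ndS (p := 24390) (l := 6) rfl N24390 D41385
theorem N25459 : nd 25459 = n41386 := ndS (p := 24390) (l := 9) rfl N24390 D41386
theorem N25460 : nd 25460 = n41387 := ndS (p := 24393) (l := 3) rfl N24393 D41387
theorem N25461 : nd 25461 = n41388 := ndS (p := 24393) (l := 9) rfl N24393 D41388
theorem N25462 : nd 25462 = n41389 := ndS (p := 24394) (l := 8) rfl N24394 D41389
theorem N25463 : nd 25463 = n41390 := ndS (p := 24395) (l := 4) rfl N24395 D41390
theorem N25464 : nd 25464 = n41391 := ndS (p := 24395) (l := 6) rfl N24395 D41391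
theorem N25465 : nd 25465 = n41392 := ndS (p := 24395) (l := 9) rfl N24395 D41392
theorem N25466 : nd 25466 = n41393 := ndS (p := 24397) (l := 3) rfl N24397 D41393
theorem N25467 : nd 25467 = n41394 := ndS (p := 24397) (l := 6) rfl N24397 D41394
theorem N25468 : nd 25468 = n41395 := ndS (p := 24397) (l := 9) rfl N24397 D41395
theorem N25469 : nd 25469 = n41396 := ndS (p := 24398) (l := 7) rfl N24398 D41396
theorem N25470 : nd 25470 = n41397 := ndS (p := 24398) (l := 9) rfl N24398 D41397
theorem N25471 : nd 25471 = n41398 := ndS (p := 24399) (l := 8) rfl N24399 D41398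
theorem N25472 : nd 25472 = n41399 := ndS (p := 24402) (l := 2) rfl N24402 D41399
theorem N25473 : nd 25473 = n41400 := ndS (p := 24403) (l := 8) rfl N24403 D41400
theorem N25474 : nd 25474 = n41401 := ndS (p := 24406) (l := 8) rfl N24406 D41401
theorem N25475 : nd 25475 = n41402 := ndS (p := 24407) (l := 5) rfl N24407 D41402
theorem N25476 : nd 25476 = n41403 := ndS (p := 24407) (l := 9) rfl N24407 D41403
theorem N25477 : nd 25477 = n41404 := ndS (p := 24408) (l := 4) rfl N24408 D41404
theorem N25478 : nd 25478 = n41405 := ndS (p := 24409) (l := 4) rfl N24409 D41405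
theorem N25479 : nd 25479 = n41406 := ndS (p := 24409) (l := 9) rfl N24409 D41406
theorem N25480 : nd 25480 = n41407 := ndS (p := 24411) (l := 3) rfl N24411 D41407
theorem N25481 : nd 25481 = n41408 := ndS (p := 24411) (l := 9) rfl N24411 D41408
theorem N25482 : nd 25482 = n41409 := ndS (p := 24412) (l := 8) rfl N24412 D41409
theorem N25483 : nd 25483 = n41410 := ndS (p := 24413) (l := 2) rfl N24413 D41410
theorem N25484 : nd 25484 = n41411 := ndS (p := 24413) (l := 9) rfl N24413 D41411
theorem N25485 : nd 25485 = n41412 := ndS (p := 24414) (l := 8) rfl N24414 D41412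
theorem N25486 : nd 25486 = n41413 := ndS (p := 24416) (l := 3) rfl N24416 D41413
theorem N25487 : nd 25487 = n41414 := ndS (p := 24416) (l := 6) rfl N24416 D41414
theorem N25488 : nd 25488 = n41415 := ndS (p := 24416) (l := 9) rfl N24416 D41415
theorem N25489 : nd 25489 = n41416 := ndS (p := 24417) (l := 7) rfl N24417 D41416
theorem N25490 : nd 25490 = n41417 := ndS (p := 24417) (l := 9) rfl N24417 D41417
theorem N25491 : nd 25491 = n41418 := ndS (p := 24418) (l := 8) rfl N24418 D41418
theorem N25492 : nd 25492 = n41419 := ndS (p := 24419) (l := 2) rfl N24419 D41419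
theorem N25493 : nd 25493 = n41420 := ndS (p := 24420) (l := 7) rfl N24420 D41420
theorem N25494 : nd 25494 = n41421 := ndS (p := 24421) (l := 8) rfl N24421 D41421
theorem N25495 : nd 25495 = n41422 := ndS (p := 24425) (l := 5) rfl N24425 D41422
theorem N25496 : nd 25496 = n41423 := ndS (p := 24430) (l := 4) rfl N24430 D41423
theorem N25497 : nd 25497 = n41424 := ndS (p := 24430) (l := 8) rfl N24430 D41424
theorem N25498 : nd 25498 = n41425 := ndS (p := 24431) (l := 5) rfl N24431 D41425
theorem N25499 : nd 25499 = n41426 := ndS (p := 24432) (l := 5) rfl N24432 D41426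
theorem N25500 : nd 25500 = n41427 := ndS (p := 24432) (l := 9) rfl N24432 D41427
theorem N25501 : nd 25501 = n41428 := ndS (p := 24433) (l := 4) rfl N24433 D41428
theorem N25502 : nd 25502 = n41429 := ndS (p := 24433) (l := 6) rfl N24433 D41429
theorem N25503 : nd 25503 = n41430 := ndS (p := 24433) (l := 9) rfl N24433 D41430
theorem N25504 : nd 25504 = n41431 := ndS (p := 24436) (l := 3) rfl N24436 D41431
theorem N25505 : nd 25505 = n41432 := ndS (p := 24437) (l := 4) rfl N24437 D41432
theorem N25506 : nd 25506 = n41433 := ndS (p := 24437) (l := 6) rfl N24437 D41433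
theorem N25507 : nd 25507 = n41434 := ndS (p := 24437) (l := 9) rfl N24437 D41434
theorem N25508 : nd 25508 = n41435 := ndS (p := 24439) (l := 3) rfl N24439 D41435
theorem N25509 : nd 25509 = n41436 := ndS (p := 24439) (l := 6) rfl N24439 D41436
theorem N25510 : nd 25510 = n41437 := ndS (p := 24440) (l := 7) rfl N24440 D41437
theorem N25511 : nd 25511 = n41438 := ndS (p := 24440) (l := 9) rfl N24440 D41438
theorem N25512 : nd 25512 = n41439 := ndS (p := 24441) (l := 8) rfl N24441 D41439
theorem N25513 : nd 25513 = n41440 := ndS (p := 24444) (l := 2) rfl N24444 D41440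
theorem N25514 : nd 25514 = n41441 := ndS (p := 24446) (l := 9) rfl N24446 D41441
theorem N25515 : nd 25515 = n41442 := ndS (p := 24447) (l := 4) rfl N24447 D41442
theorem N25516 : nd 25516 = n41443 := ndS (p := 24447) (l := 6) rfl N24447 D41443
theorem N25517 : nd 25517 = n41444 := ndS (p := 24447) (l := 9) rfl N24447 D41444
theorem N25518 : nd 25518 = n41445 := ndS (p := 24449) (l := 3) rfl N24449 D41445
theorem N25519 : nd 25519 = n41446 := ndS (p := 24449) (l := 6) rfl N24449 D41446
theorem N25520 : nd 25520 = n41447 := ndS (p := 24452) (l := 5) rfl N24452 D41447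
theorem N25521 : nd 25521 = n41448 := ndS (p := 24453) (l := 5) rfl N24453 D41448
theorem N25522 : nd 25522 = n41449 := ndS (p := 24454) (l := 8) rfl N24454 D41449
theorem N25523 : nd 25523 = n41450 := ndS (p := 24455) (l := 5) rfl N24455 D41450
theorem N25524 : nd 25524 = n41451 := ndS (p := 24456) (l := 4) rfl N24456 D41451
theorem N25525 : nd 25525 = n41452 := ndS (p := 24456) (l := 8) rfl N24456 D41452
theorem N25526 : nd 25526 = n41453 := ndS (p := 24457) (l := 5) rfl N24457 D41453
theorem N25527 : nd 25527 = n41454 := ndS (p := 24457) (l := 9) rfl N24457 D41454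
theorem N25528 : nd 25528 = n41455 := ndS (p := 24458) (l := 4) rfl N24458 D41455
theorem N25529 : nd 25529 = n41456 := ndS (p := 24458) (l := 6) rfl N24458 D41456
theorem N25530 : nd 25530 = n41457 := ndS (p := 24461) (l := 4) rfl N24461 D41457
theorem N25531 : nd 25531 = n41458 := ndS (p := 24461) (l := 6) rfl N24461 D41458
theorem N25532 : nd 25532 = n41459 := ndS (p := 24461) (l := 9) rfl N24461 D41459
theorem N25533 : nd 25533 = n41460 := ndS (p := 24463) (l := 6) rfl N24463 D41460
theorem N25534 : nd 25534 = n41461 := ndS (p := 24463) (l := 9) rfl N24463 D41461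
theorem N25535 : nd 25535 = n41462 := ndS (p := 24464) (l := 7) rfl N24464 D41462
theorem N25536 : nd 25536 = n41463 := ndS (p := 24464) (l := 9) rfl N24464 D41463
theorem N25537 : nd 25537 = n41464 := ndS (p := 24465) (l := 8) rfl N24465 D41464
theorem N25538 : nd 25538 = n41465 := ndS (p := 24469) (l := 5) rfl N24469 D41465
theorem N25539 : nd 25539 = n41466 := ndS (p := 24470) (l := 8) rfl N24470 D41466
theorem N25540 : nd 25540 = n41467 := ndS (p := 24471) (l := 5) rfl N24471 D41467
theorem N25541 : nd 25541 = n41468 := ndS (p := 24472) (l := 5) rfl N24472 D41468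
theorem N25542 : nd 25542 = n41469 := ndS (p := 24473) (l := 8) rfl N24473 D41469
theorem N25543 : nd 25543 = n41470 := ndS (p := 24474) (l := 5) rfl N24474 D41470
theorem N25544 : nd 25544 = n41471 := ndS (p := 24475) (l := 5) rfl N24475 D41471
theorem N25545 : nd 25545 = n41472 := ndS (p := 24475) (l := 9) rfl N24475 D41472
theorem N25546 : nd 25546 = n41473 := ndS (p := 24476) (l := 4) rfl N24476 D41473
theorem N25547 : nd 25547 = n41474 := ndS (p := 24476) (l := 6) rfl N24476 D41474
theorem N25548 : nd 25548 = n41475 := ndS (p := 24476) (l := 9) rfl N24476 D41475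
theorem N25549 : nd 25549 = n41476 := ndS (p := 24479) (l := 9) rfl N24479 D41476
theorem N25550 : nd 25550 = n41477 := ndS (p := 24481) (l := 8) rfl N24481 D41477
theorem N25551 : nd 25551 = n41478 := ndS (p := 24482) (l := 5) rfl N24482 D41478
theorem N25552 : nd 25552 = n41479 := ndS (p := 24482) (l := 9) rfl N24482 D41479
theorem N25553 : nd 25553 = n41480 := ndS (p := 24483) (l := 6) rfl N24483 D41480
theorem N25554 : nd 25554 = n41481 := ndS (p := 24485) (l := 4) rfl N24485 D41481
theorem N25555 : nd 25555 = n41482 := ndS (p := 24485) (l := 6) rfl N24485 D41482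
theorem N25556 : nd 25556 = n41483 := ndS (p := 24485) (l := 9) rfl N24485 D41483
theorem N25557 : nd 25557 = n41484 := ndS (p := 24487) (l := 3) rfl N24487 D41484
theorem N25558 : nd 25558 = n41485 := ndS (p := 24487) (l := 6) rfl N24487 D41485
theorem N25559 : nd 25559 = n41486 := ndS (p := 24487) (l := 9) rfl N24487 D41486
theorem N25560 : nd 25560 = n41487 := ndS (p := 24488) (l := 7) rfl N24488 D41487
theorem N25561 : nd 25561 = n41488 := ndS (p := 24488) (l := 9) rfl N24488 D41488
theorem N25562 : nd 25562 = n41489 := ndS (p := 24489) (l := 8) rfl N24489 D41489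
theorem N25563 : nd 25563 = n41490 := ndS (p := 24494) (l := 3) rfl N24494 D41490
theorem N25564 : nd 25564 = n41491 := ndS (p := 24494) (l := 6) rfl N24494 D41491
theorem N25565 : nd 25565 = n41492 := ndS (p := 24494) (l := 9) rfl N24494 D41492
theorem N25566 : nd 25566 = n41493 := ndS (p := 24495) (l := 7) rfl N24495 D41493
theorem N25567 : nd 25567 = n41494 := ndS (p := 24495) (l := 9) rfl N24495 D41494
theorem N25568 : nd 25568 = n41495 := ndS (p := 24496) (l := 8) rfl N24496 D41495
theorem N25569 : nd 25569 = n41496 := ndS (p := 24497) (l := 6) rfl N24497 D41496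
theorem N25570 : nd 25570 = n41497 := ndS (p := 24498) (l := 7) rfl N24498 D41497
theorem N25571 : nd 25571 = n41498 := ndS (p := 24498) (l := 9) rfl N24498 D41498
theorem N25572 : nd 25572 = n41499 := ndS (p := 24499) (l := 8) rfl N24499 D41499
theorem N25573 : nd 25573 = n41500 := ndS (p := 24500) (l := 9) rfl N24500 D41500
theorem N25574 : nd 25574 = n41501 := ndS (p := 24501) (l := 8) rfl N24501 D41501
theorem N25575 : nd 25575 = n41502 := ndS (p := 24504) (l := 5) rfl N24504 D41502
theorem N25576 : nd 25576 = n41503 := ndS (p := 24505) (l := 8) rfl N24505 D41503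
theorem N25577 : nd 25577 = n41504 := ndS (p := 24506) (l := 9) rfl N24506 D41504
theorem N25578 : nd 25578 = n41505 := ndS (p := 24507) (l := 4) rfl N24507 D41505
theorem N25579 : nd 25579 = n41506 := ndS (p := 24507) (l := 9) rfl N24507 D41506
theorem N25580 : nd 25580 = n41507 := ndS (p := 24509) (l := 3) rfl N24509 D41507
theorem N25581 : nd 25581 = n41508 := ndS (p := 24511) (l := 9) rfl N24511 D41508
theorem N25582 : nd 25582 = n41509 := ndS (p := 24513) (l := 4) rfl N24513 D41509
theorem N25583 : nd 25583 = n41510 := ndS (p := 24513) (l := 9) rfl N24513 D41510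
theorem N25584 : nd 25584 = n41511 := ndS (p := 24517) (l := 3) rfl N24517 D41511
theorem N25585 : nd 25585 = n41512 := ndS (p := 24517) (l := 9) rfl N24517 D41512
theorem N25586 : nd 25586 = n41513 := ndS (p := 24518) (l := 8) rfl N24518 D41513
theorem N25587 : nd 25587 = n41514 := ndS (p := 24519) (l := 2) rfl N24519 D41514
theorem N25588 : nd 25588 = n41515 := ndS (p := 24519) (l := 9) rfl N24519 D41515
theorem N25589 : nd 25589 = n41516 := ndS (p := 24520) (l := 8) rfl N24520 D41516
theorem N25590 : nd 25590 = n41517 := ndS (p := 24524) (l := 8) rfl N24524 D41517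
theorem N25591 : nd 25591 = n41518 := ndS (p := 24525) (l := 8) rfl N24525 D41518
theorem N25592 : nd 25592 = n41519 := ndS (p := 24526) (l := 5) rfl N24526 D41519
theorem N25593 : nd 25593 = n41520 := ndS (p := 24526) (l := 9) rfl N24526 D41520
theorem N25594 : nd 25594 = n41521 := ndS (p := 24527) (l := 4) rfl N24527 D41521
theorem N25595 : nd 25595 = n41522 := ndS (p := 24527) (l := 6) rfl N24527 D41522
theorem N25596 : nd 25596 = n41523 := ndS (p := 24530) (l := 8) rfl N24530 D41523
theorem N25597 : nd 25597 = n41524 := ndS (p := 24531) (l := 5) rfl N24531 D41524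
theorem N25598 : nd 25598 = n41525 := ndS (p := 24531) (l := 9) rfl N24531 D41525
theorem N25599 : nd 25599 = n41526 := ndS (p := 24533) (l := 4) rfl N24533 D41526
theorem N25600 : nd 25600 = n41527 := ndS (p := 24533) (l := 6) rfl N24533 D41527
theorem N25601 : nd 25601 = n41528 := ndS (p := 24533) (l := 9) rfl N24533 D41528
theorem N25602 : nd 25602 = n41529 := ndS (p := 24535) (l := 3) rfl N24535 D41529
theorem N25603 : nd 25603 = n41530 := ndS (p := 24535) (l := 6) rfl N24535 D41530
theorem N25604 : nd 25604 = n41531 := ndS (p := 24535) (l := 9) rfl N24535 D41531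
theorem N25605 : nd 25605 = n41532 := ndS (p := 24536) (l := 7) rfl N24536 D41532
theorem N25606 : nd 25606 = n41533 := ndS (p := 24536) (l := 9) rfl N24536 D41533
theorem N25607 : nd 25607 = n41534 := ndS (p := 24537) (l := 8) rfl N24537 D41534
theorem N25608 : nd 25608 = n41535 := ndS (p := 24542) (l := 3) rfl N24542 D41535
theorem N25609 : nd 25609 = n41536 := ndS (p := 24542) (l := 6) rfl N24542 D41536
theorem N25610 : nd 25610 = n41537 := ndS (p := 24542) (l := 9) rfl N24542 D41537
theorem N25611 : nd 25611 = n41538 := ndS (p := 24543) (l := 7) rfl N24543 D41538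
theorem N25612 : nd 25612 = n41539 := ndS (p := 24543) (l := 9) rfl N24543 D41539
theorem N25613 : nd 25613 = n41540 := ndS (p := 24544) (l := 8) rfl N24544 D41540
theorem N25614 : nd 25614 = n41541 := ndS (p := 24545) (l := 2) rfl N24545 D41541
theorem N25615 : nd 25615 = n41542 := ndS (p := 24545) (l := 6) rfl N24545 D41542
theorem N25616 : nd 25616 = n41543 := ndS (p := 24545) (l := 9) rfl N24545 D41543
theorem N25617 : nd 25617 = n41544 := ndS (p := 24546) (l := 7) rfl N24546 D41544
theorem N25618 : nd 25618 = n41545 := ndS (p := 24546) (l := 9) rfl N24546 D41545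
theorem N25619 : nd 25619 = n41546 := ndS (p := 24547) (l := 8) rfl N24547 D41546
theorem N25620 : nd 25620 = n41547 := ndS (p := 24548) (l := 9) rfl N24548 D41547
theorem N25621 : nd 25621 = n41548 := ndS (p := 24549) (l := 8) rfl N24549 D41548
theorem N25622 : nd 25622 = n41549 := ndS (p := 24552) (l := 5) rfl N24552 D41549
theorem N25623 : nd 25623 = n41550 := ndS (p := 24555) (l := 5) rfl N24555 D41550
theorem N25624 : nd 25624 = n41551 := ndS (p := 24556) (l := 8) rfl N24556 D41551
theorem N25625 : nd 25625 = n41552 := ndS (p := 24557) (l := 5) rfl N24557 D41552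
theorem N25626 : nd 25626 = n41553 := ndS (p := 24557) (l := 9) rfl N24557 D41553
theorem N25627 : nd 25627 = n41554 := ndS (p := 24559) (l := 8) rfl N24559 D41554
theorem N25628 : nd 25628 = n41555 := ndS (p := 24560) (l := 5) rfl N24560 D41555
theorem N25629 : nd 25629 = n41556 := ndS (p := 24561) (l := 5) rfl N24561 D41556
theorem N25630 : nd 25630 = n41557 := ndS (p := 24561) (l := 9) rfl N24561 D41557
theorem N25631 : nd 25631 = n41558 := ndS (p := 24562) (l := 4) rfl N24562 D41558
theorem N25632 : nd 25632 = n41559 := ndS (p := 24563) (l := 4) rfl N24563 D41559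
theorem N25633 : nd 25633 = n41560 := ndS (p := 24563) (l := 9) rfl N24563 D41560
theorem N25634 : nd 25634 = n41561 := ndS (p := 24565) (l := 9) rfl N24565 D41561
theorem N25635 : nd 25635 = n41562 := ndS (p := 24566) (l := 8) rfl N24566 D41562
theorem N25636 : nd 25636 = n41563 := ndS (p := 24568) (l := 5) rfl N24568 D41563
theorem N25637 : nd 25637 = n41564 := ndS (p := 24568) (l := 9) rfl N24568 D41564
theorem N25638 : nd 25638 = n41565 := ndS (p := 24569) (l := 4) rfl N24569 D41565
theorem N25639 : nd 25639 = n41566 := ndS (p := 24569) (l := 6) rfl N24569 D41566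
theorem N25640 : nd 25640 = n41567 := ndS (p := 24569) (l := 9) rfl N24569 D41567
theorem N25641 : nd 25641 = n41568 := ndS (p := 24571) (l := 6) rfl N24571 D41568
theorem N25642 : nd 25642 = n41569 := ndS (p := 24571) (l := 9) rfl N24571 D41569
theorem N25643 : nd 25643 = n41570 := ndS (p := 24572) (l := 7) rfl N24572 D41570
theorem N25644 : nd 25644 = n41571 := ndS (p := 24572) (l := 9) rfl N24572 D41571
theorem N25645 : nd 25645 = n41572 := ndS (p := 24573) (l := 8) rfl N24573 D41572
theorem N25646 : nd 25646 = n41573 := ndS (p := 24576) (l := 3) rfl N24576 D41573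
theorem N25647 : nd 25647 = n41574 := ndS (p := 24576) (l := 6) rfl N24576 D41574
theorem N25648 : nd 25648 = n41575 := ndS (p := 24576) (l := 9) rfl N24576 D41575
theorem N25649 : nd 25649 = n41576 := ndS (p := 24577) (l := 7) rfl N24577 D41576
theorem N25650 : nd 25650 = n41577 := ndS (p := 24577) (l := 9) rfl N24577 D41577
theorem N25651 : nd 25651 = n41578 := ndS (p := 24578) (l := 8) rfl N24578 D41578
theorem N25652 : nd 25652 = n41579 := ndS (p := 24579) (l := 6) rfl N24579 D41579
theorem N25653 : nd 25653 = n41580 := ndS (p := 24580) (l := 7) rfl N24580 D41580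
theorem N25654 : nd 25654 = n41581 := ndS (p := 24581) (l := 8) rfl N24581 D41581
theorem N25655 : nd 25655 = n41582 := ndS (p := 24582) (l := 9) rfl N24582 D41582
theorem N25656 : nd 25656 = n41583 := ndS (p := 24583) (l := 8) rfl N24583 D41583
theorem N25657 : nd 25657 = n41584 := ndS (p := 24586) (l := 5) rfl N24586 D41584
theorem N25658 : nd 25658 = n41585 := ndS (p := 24587) (l := 9) rfl N24587 D41585
theorem N25659 : nd 25659 = n41586 := ndS (p := 24588) (l := 7) rfl N24588 D41586
theorem N25660 : nd 25660 = n41587 := ndS (p := 24588) (l := 9) rfl N24588 D41587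
theorem N25661 : nd 25661 = n41588 := ndS (p := 24589) (l := 8) rfl N24589 D41588
theorem N25662 : nd 25662 = n41589 := ndS (p := 24590) (l := 9) rfl N24590 D41589
theorem N25663 : nd 25663 = n41590 := ndS (p := 24591) (l := 8) rfl N24591 D41590
theorem N25664 : nd 25664 = n41591 := ndS (p := 24595) (l := 8) rfl N24595 D41591
theorem N25665 : nd 25665 = n41592 := ndS (p := 24596) (l := 5) rfl N24596 D41592
theorem N25666 : nd 25666 = n41593 := ndS (p := 24597) (l := 4) rfl N24597 D41593
theorem N25667 : nd 25667 = n41594 := ndS (p := 24598) (l := 7) rfl N24598 D41594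
theorem N25668 : nd 25668 = n41595 := ndS (p := 24600) (l := 4) rfl N24600 D41595
theorem N25669 : nd 25669 = n41596 := ndS (p := 24603) (l := 4) rfl N24603 D41596
theorem N25670 : nd 25670 = n41597 := ndS (p := 24605) (l := 6) rfl N24605 D41597
theorem N25671 : nd 25671 = n41598 := ndS (p := 24607) (l := 7) rfl N24607 D41598
theorem N25672 : nd 25672 = n41599 := ndS (p := 24608) (l := 8) rfl N24608 D41599
theorem N25673 : nd 25673 = n41600 := ndS (p := 24609) (l := 4) rfl N24609 D41600
theorem N25674 : nd 25674 = n41601 := ndS (p := 24609) (l := 8) rfl N24609 D41601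
theorem N25675 : nd 25675 = n41602 := ndS (p := 24610) (l := 5) rfl N24610 D41602
theorem N25676 : nd 25676 = n41603 := ndS (p := 24610) (l := 9) rfl N24610 D41603
theorem N25677 : nd 25677 = n41604 := ndS (p := 24612) (l := 9) rfl N24612 D41604
theorem N25678 : nd 25678 = n41605 := ndS (p := 24614) (l := 5) rfl N24614 D41605
theorem N25679 : nd 25679 = n41606 := ndS (p := 24615) (l := 8) rfl N24615 D41606
theorem N25680 : nd 25680 = n41607 := ndS (p := 24616) (l := 4) rfl N24616 D41607
theorem N25681 : nd 25681 = n41608 := ndS (p := 24616) (l := 8) rfl N24616 D41608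
theorem N25682 : nd 25682 = n41609 := ndS (p := 24617) (l := 5) rfl N24617 D41609
theorem N25683 : nd 25683 = n41610 := ndS (p := 24617) (l := 9) rfl N24617 D41610
theorem N25684 : nd 25684 = n41611 := ndS (p := 24619) (l := 6) rfl N24619 D41611
theorem N25685 : nd 25685 = n41612 := ndS (p := 24619) (l := 9) rfl N24619 D41612
theorem N25686 : nd 25686 = n41613 := ndS (p := 24621) (l := 7) rfl N24621 D41613
theorem N25687 : nd 25687 = n41614 := ndS (p := 24622) (l := 8) rfl N24622 D41614
theorem N25688 : nd 25688 = n41615 := ndS (p := 24624) (l := 8) rfl N24624 D41615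
theorem N25689 : nd 25689 = n41616 := ndS (p := 24625) (l := 4) rfl N24625 D41616
theorem N25690 : nd 25690 = n41617 := ndS (p := 24625) (l := 8) rfl N24625 D41617
theorem N25691 : nd 25691 = n41618 := ndS (p := 24626) (l := 5) rfl N24626 D41618
theorem N25692 : nd 25692 = n41619 := ndS (p := 24626) (l := 9) rfl N24626 D41619
theorem N25693 : nd 25693 = n41620 := ndS (p := 24628) (l := 4) rfl N24628 D41620
theorem N25694 : nd 25694 = n41621 := ndS (p := 24628) (l := 6) rfl N24628 D41621
theorem N25695 : nd 25695 = n41622 := ndS (p := 24628) (l := 9) rfl N24628 D41622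
theorem N25696 : nd 25696 = n41623 := ndS (p := 24630) (l := 3) rfl N24630 D41623
theorem N25697 : nd 25697 = n41624 := ndS (p := 24632) (l := 2) rfl N24632 D41624
theorem N25698 : nd 25698 = n41625 := ndS (p := 24634) (l := 4) rfl N24634 D41625
theorem N25699 : nd 25699 = n41626 := ndS (p := 24634) (l := 8) rfl N24634 D41626
theorem N25700 : nd 25700 = n41627 := ndS (p := 24635) (l := 9) rfl N24635 D41627
theorem N25701 : nd 25701 = n41628 := ndS (p := 24636) (l := 8) rfl N24636 D41628
theorem N25702 : nd 25702 = n41629 := ndS (p := 24637) (l := 9) rfl N24637 D41629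
theorem N25703 : nd 25703 = n41630 := ndS (p := 24638) (l := 9) rfl N24638 D41630
theorem N25704 : nd 25704 = n41631 := ndS (p := 24641) (l := 4) rfl N24641 D41631
theorem N25705 : nd 25705 = n41632 := ndS (p := 24641) (l := 8) rfl N24641 D41632
theorem N25706 : nd 25706 = n41633 := ndS (p := 24642) (l := 9) rfl N24642 D41633
theorem N25707 : nd 25707 = n41634 := ndS (p := 24643) (l := 9) rfl N24643 D41634
theorem N25708 : nd 25708 = n41635 := ndS (p := 24645) (l := 8) rfl N24645 D41635
theorem N25709 : nd 25709 = n41636 := ndS (p := 24646) (l := 5) rfl N24646 D41636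
theorem N25710 : nd 25710 = n41637 := ndS (p := 24647) (l := 4) rfl N24647 D41637
theorem N25711 : nd 25711 = n41638 := ndS (p := 24647) (l := 8) rfl N24647 D41638
theorem N25712 : nd 25712 = n41639 := ndS (p := 24648) (l := 5) rfl N24648 D41639
theorem N25713 : nd 25713 = n41640 := ndS (p := 24649) (l := 5) rfl N24649 D41640
theorem N25714 : nd 25714 = n41641 := ndS (p := 24649) (l := 9) rfl N24649 D41641
theorem N25715 : nd 25715 = n41642 := ndS (p := 24651) (l := 8) rfl N24651 D41642
theorem N25716 : nd 25716 = n41643 := ndS (p := 24652) (l := 5) rfl N24652 D41643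
theorem N25717 : nd 25717 = n41644 := ndS (p := 24652) (l := 9) rfl N24652 D41644
theorem N25718 : nd 25718 = n41645 := ndS (p := 24653) (l := 4) rfl N24653 D41645
theorem N25719 : nd 25719 = n41646 := ndS (p := 24654) (l := 6) rfl N24654 D41646
theorem N25720 : nd 25720 = n41647 := ndS (p := 24654) (l := 9) rfl N24654 D41647
theorem N25721 : nd 25721 = n41648 := ndS (p := 24657) (l := 8) rfl N24657 D41648
theorem N25722 : nd 25722 = n41649 := ndS (p := 24658) (l := 6) rfl N24658 D41649
theorem N25723 : nd 25723 = n41650 := ndS (p := 24658) (l := 9) rfl N24658 D41650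
theorem N25724 : nd 25724 = n41651 := ndS (p := 24659) (l := 7) rfl N24659 D41651
theorem N25725 : nd 25725 = n41652 := ndS (p := 24659) (l := 9) rfl N24659 D41652
theorem N25726 : nd 25726 = n41653 := ndS (p := 24660) (l := 8) rfl N24660 D41653
theorem N25727 : nd 25727 = n41654 := ndS (p := 24663) (l := 8) rfl N24663 D41654
theorem N25728 : nd 25728 = n41655 := ndS (p := 24665) (l := 8) rfl N24665 D41655
theorem N25729 : nd 25729 = n41656 := ndS (p := 24666) (l := 4) rfl N24666 D41656
theorem N25730 : nd 25730 = n41657 := ndS (p := 24666) (l := 8) rfl N24666 D41657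
theorem N25731 : nd 25731 = n41658 := ndS (p := 24667) (l := 9) rfl N24667 D41658
theorem N25732 : nd 25732 = n41659 := ndS (p := 24668) (l := 4) rfl N24668 D41659
theorem N25733 : nd 25733 = n41660 := ndS (p := 24668) (l := 6) rfl N24668 D41660
theorem N25734 : nd 25734 = n41661 := ndS (p := 24668) (l := 9) rfl N24668 D41661
theorem N25735 : nd 25735 = n41662 := ndS (p := 24670) (l := 6) rfl N24670 D41662
theorem N25736 : nd 25736 = n41663 := ndS (p := 24670) (l := 9) rfl N24670 D41663
theorem N25737 : nd 25737 = n41664 := ndS (p := 24672) (l := 8) rfl N24672 D41664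
theorem N25738 : nd 25738 = n41665 := ndS (p := 24674) (l := 8) rfl N24674 D41665
theorem N25739 : nd 25739 = n41666 := ndS (p := 24675) (l := 9) rfl N24675 D41666
theorem N25740 : nd 25740 = n41667 := ndS (p := 24677) (l := 9) rfl N24677 D41667
theorem N25741 : nd 25741 = n41668 := ndS (p := 24678) (l := 9) rfl N24678 D41668
theorem N25742 : nd 25742 = n41669 := ndS (p := 24679) (l := 8) rfl N24679 D41669
theorem N25743 : nd 25743 = n41670 := ndS (p := 24681) (l := 8) rfl N24681 D41670
theorem N25744 : nd 25744 = n41671 := ndS (p := 24682) (l := 5) rfl N24682 D41671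
theorem N25745 : nd 25745 = n41672 := ndS (p := 24682) (l := 9) rfl N24682 D41672
theorem N25746 : nd 25746 = n41673 := ndS (p := 24683) (l := 4) rfl N24683 D41673
theorem N25747 : nd 25747 = n41674 := ndS (p := 24684) (l := 4) rfl N24684 D41674
theorem N25748 : nd 25748 = n41675 := ndS (p := 24684) (l := 9) rfl N24684 D41675
theorem N25749 : nd 25749 = n41676 := ndS (p := 24686) (l := 3) rfl N24686 D41676
theorem N25750 : nd 25750 = n41677 := ndS (p := 24687) (l := 2) rfl N24687 D41677
theorem N25751 : nd 25751 = n41678 := ndS (p := 24688) (l := 3) rfl N24688 D41678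
theorem N25752 : nd 25752 = n41679 := ndS (p := 24688) (l := 6) rfl N24688 D41679
theorem N25753 : nd 25753 = n41680 := ndS (p := 24688) (l := 9) rfl N24688 D41680
theorem N25754 : nd 25754 = n41681 := ndS (p := 24689) (l := 7) rfl N24689 D41681
theorem N25755 : nd 25755 = n41682 := ndS (p := 24689) (l := 9) rfl N24689 D41682
theorem N25756 : nd 25756 = n41683 := ndS (p := 24690) (l := 8) rfl N24690 D41683
theorem N25757 : nd 25757 = n41684 := ndS (p := 24691) (l := 2) rfl N24691 D41684
theorem N25758 : nd 25758 = n41685 := ndS (p := 24691) (l := 6) rfl N24691 D41685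
theorem N25759 : nd 25759 = n41686 := ndS (p := 24692) (l := 7) rfl N24692 D41686
theorem N25760 : nd 25760 = n41687 := ndS (p := 24695) (l := 1) rfl N24695 D41687
theorem N25761 : nd 25761 = n41688 := ndS (p := 24697) (l := 4) rfl N24697 D41688
theorem N25762 : nd 25762 = n41689 := ndS (p := 24697) (l := 8) rfl N24697 D41689
theorem N25763 : nd 25763 = n41690 := ndS (p := 24698) (l := 9) rfl N24698 D41690
theorem N25764 : nd 25764 = n41691 := ndS (p := 24699) (l := 4) rfl N24699 D41691
theorem N25765 : nd 25765 = n41692 := ndS (p := 24699) (l := 8) rfl N24699 D41692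
theorem N25766 : nd 25766 = n41693 := ndS (p := 24700) (l := 5) rfl N24700 D41693
theorem N25767 : nd 25767 = n41694 := ndS (p := 24701) (l := 8) rfl N24701 D41694
theorem N25768 : nd 25768 = n41695 := ndS (p := 24702) (l := 5) rfl N24702 D41695
theorem N25769 : nd 25769 = n41696 := ndS (p := 24702) (l := 9) rfl N24702 D41696
theorem N25770 : nd 25770 = n41697 := ndS (p := 24703) (l := 4) rfl N24703 D41697
theorem N25771 : nd 25771 = n41698 := ndS (p := 24704) (l := 9) rfl N24704 D41698
theorem N25772 : nd 25772 = n41699 := ndS (p := 24706) (l := 5) rfl N24706 D41699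
theorem N25773 : nd 25773 = n41700 := ndS (p := 24706) (l := 9) rfl N24706 D41700
theorem N25774 : nd 25774 = n41701 := ndS (p := 24707) (l := 4) rfl N24707 D41701
theorem N25775 : nd 25775 = n41702 := ndS (p := 24707) (l := 9) rfl N24707 D41702
theorem N25776 : nd 25776 = n41703 := ndS (p := 24710) (l := 9) rfl N24710 D41703
theorem N25777 : nd 25777 = n41704 := ndS (p := 24711) (l := 8) rfl N24711 D41704
theorem N25778 : nd 25778 = n41705 := ndS (p := 24714) (l := 9) rfl N24714 D41705
theorem N25779 : nd 25779 = n41706 := ndS (p := 24717) (l := 4) rfl N24717 D41706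
theorem N25780 : nd 25780 = n41707 := ndS (p := 24717) (l := 8) rfl N24717 D41707
theorem N25781 : nd 25781 = n41708 := ndS (p := 24718) (l := 5) rfl N24718 D41708
theorem N25782 : nd 25782 = n41709 := ndS (p := 24718) (l := 9) rfl N24718 D41709
theorem N25783 : nd 25783 = n41710 := ndS (p := 24719) (l := 4) rfl N24719 D41710
theorem N25784 : nd 25784 = n41711 := ndS (p := 24721) (l := 8) rfl N24721 D41711
theorem N25785 : nd 25785 = n41712 := ndS (p := 24722) (l := 5) rfl N24722 D41712
theorem N25786 : nd 25786 = n41713 := ndS (p := 24722) (l := 9) rfl N24722 D41713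
theorem N25787 : nd 25787 = n41714 := ndS (p := 24723) (l := 4) rfl N24723 D41714
theorem N25788 : nd 25788 = n41715 := ndS (p := 24724) (l := 4) rfl N24724 D41715
theorem N25789 : nd 25789 = n41716 := ndS (p := 24724) (l := 9) rfl N24724 D41716
theorem N25790 : nd 25790 = n41717 := ndS (p := 24726) (l := 3) rfl N24726 D41717
theorem N25791 : nd 25791 = n41718 := ndS (p := 24726) (l := 9) rfl N24726 D41718
theorem N25792 : nd 25792 = n41719 := ndS (p := 24727) (l := 8) rfl N24727 D41719
theorem N25793 : nd 25793 = n41720 := ndS (p := 24728) (l := 2) rfl N24728 D41720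
theorem N25794 : nd 25794 = n41721 := ndS (p := 24728) (l := 9) rfl N24728 D41721
theorem N25795 : nd 25795 = n41722 := ndS (p := 24729) (l := 8) rfl N24729 D41722
theorem N25796 : nd 25796 = n41723 := ndS (p := 24731) (l := 3) rfl N24731 D41723
theorem N25797 : nd 25797 = n41724 := ndS (p := 24731) (l := 6) rfl N24731 D41724
theorem N25798 : nd 25798 = n41725 := ndS (p := 24731) (l := 9) rfl N24731 D41725
theorem N25799 : nd 25799 = n41726 := ndS (p := 24732) (l := 7) rfl N24732 D41726
theorem N25800 : nd 25800 = n41727 := ndS (p := 24732) (l := 9) rfl N24732 D41727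
theorem N25801 : nd 25801 = n41728 := ndS (p := 24733) (l := 8) rfl N24733 D41728
theorem N25802 : nd 25802 = n41729 := ndS (p := 24734) (l := 2) rfl N24734 D41729
theorem N25803 : nd 25803 = n41730 := ndS (p := 24734) (l := 6) rfl N24734 D41730
theorem N25804 : nd 25804 = n41731 := ndS (p := 24734) (l := 9) rfl N24734 D41731
theorem N25805 : nd 25805 = n41732 := ndS (p := 24735) (l := 7) rfl N24735 D41732
theorem N25806 : nd 25806 = n41733 := ndS (p := 24735) (l := 9) rfl N24735 D41733
theorem N25807 : nd 25807 = n41734 := ndS (p := 24736) (l := 8) rfl N24736 D41734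
theorem N25808 : nd 25808 = n41735 := ndS (p := 24738) (l := 8) rfl N24738 D41735
theorem N25809 : nd 25809 = n41736 := ndS (p := 24742) (l := 5) rfl N24742 D41736
theorem N25810 : nd 25810 = n41737 := ndS (p := 24745) (l := 8) rfl N24745 D41737
theorem N25811 : nd 25811 = n41738 := ndS (p := 24746) (l := 5) rfl N24746 D41738
theorem N25812 : nd 25812 = n41739 := ndS (p := 24746) (l := 9) rfl N24746 D41739
theorem N25813 : nd 25813 = n41740 := ndS (p := 24748) (l := 4) rfl N24748 D41740
theorem N25814 : nd 25814 = n41741 := ndS (p := 24748) (l := 6) rfl N24748 D41741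
theorem N25815 : nd 25815 = n41742 := ndS (p := 24748) (l := 9) rfl N24748 D41742
theorem N25816 : nd 25816 = n41743 := ndS (p := 24750) (l := 6) rfl N24750 D41743
theorem N25817 : nd 25817 = n41744 := ndS (p := 24752) (l := 8) rfl N24752 D41744
theorem N25818 : nd 25818 = n41745 := ndS (p := 24753) (l := 3) rfl N24753 D41745
theorem N25819 : nd 25819 = n41746 := ndS (p := 24753) (l := 6) rfl N24753 D41746
theorem N25820 : nd 25820 = n41747 := ndS (p := 24753) (l := 9) rfl N24753 D41747
theorem N25821 : nd 25821 = n41748 := ndS (p := 24754) (l := 7) rfl N24754 D41748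
theorem N25822 : nd 25822 = n41749 := ndS (p := 24754) (l := 9) rfl N24754 D41749
theorem N25823 : nd 25823 = n41750 := ndS (p := 24755) (l := 8) rfl N24755 D41750
theorem N25824 : nd 25824 = n41751 := ndS (p := 24756) (l := 6) rfl N24756 D41751
theorem N25825 : nd 25825 = n41752 := ndS (p := 24757) (l := 7) rfl N24757 D41752
theorem N25826 : nd 25826 = n41753 := ndS (p := 24757) (l := 9) rfl N24757 D41753
theorem N25827 : nd 25827 = n41754 := ndS (p := 24758) (l := 8) rfl N24758 D41754
theorem N25828 : nd 25828 = n41755 := ndS (p := 24760) (l := 8) rfl N24760 D41755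
theorem N25829 : nd 25829 = n41756 := ndS (p := 24762) (l := 4) rfl N24762 D41756
theorem N25830 : nd 25830 = n41757 := ndS (p := 24762) (l := 8) rfl N24762 D41757
theorem N25831 : nd 25831 = n41758 := ndS (p := 24763) (l := 8) rfl N24763 D41758
theorem N25832 : nd 25832 = n41759 := ndS (p := 24764) (l := 5) rfl N24764 D41759
theorem N25833 : nd 25833 = n41760 := ndS (p := 24764) (l := 9) rfl N24764 D41760
theorem N25834 : nd 25834 = n41761 := ndS (p := 24766) (l := 9) rfl N24766 D41761
theorem N25835 : nd 25835 = n41762 := ndS (p := 24768) (l := 8) rfl N24768 D41762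
theorem N25836 : nd 25836 = n41763 := ndS (p := 24769) (l := 9) rfl N24769 D41763
theorem N25837 : nd 25837 = n41764 := ndS (p := 24770) (l := 9) rfl N24770 D41764
theorem N25838 : nd 25838 = n41765 := ndS (p := 24772) (l := 8) rfl N24772 D41765
theorem N25839 : nd 25839 = n41766 := ndS (p := 24773) (l := 8) rfl N24773 D41766
theorem N25840 : nd 25840 = n41767 := ndS (p := 24775) (l := 6) rfl N24775 D41767
theorem N25841 : nd 25841 = n41768 := ndS (p := 24775) (l := 9) rfl N24775 D41768
theorem N25842 : nd 25842 = n41769 := ndS (p := 24776) (l := 9) rfl N24776 D41769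
theorem N25843 : nd 25843 = n41770 := ndS (p := 24778) (l := 9) rfl N24778 D41770
theorem N25844 : nd 25844 = n41771 := ndS (p := 24779) (l := 8) rfl N24779 D41771
theorem N25845 : nd 25845 = n41772 := ndS (p := 24782) (l := 5) rfl N24782 D41772
theorem N25846 : nd 25846 = n41773 := ndS (p := 24783) (l := 4) rfl N24783 D41773
theorem N25847 : nd 25847 = n41774 := ndS (p := 24784) (l := 4) rfl N24784 D41774
theorem N25848 : nd 25848 = n41775 := ndS (p := 24784) (l := 8) rfl N24784 D41775
theorem N25849 : nd 25849 = n41776 := ndS (p := 24785) (l := 9) rfl N24785 D41776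
theorem N25850 : nd 25850 = n41777 := ndS (p := 24786) (l := 8) rfl N24786 D41777
theorem N25851 : nd 25851 = n41778 := ndS (p := 24787) (l := 9) rfl N24787 D41778
theorem N25852 : nd 25852 = n41779 := ndS (p := 24788) (l := 4) rfl N24788 D41779
theorem N25853 : nd 25853 = n41780 := ndS (p := 24788) (l := 9) rfl N24788 D41780
theorem N25854 : nd 25854 = n41781 := ndS (p := 24791) (l := 3) rfl N24791 D41781
theorem N25855 : nd 25855 = n41782 := ndS (p := 24791) (l := 6) rfl N24791 D41782
theorem N25856 : nd 25856 = n41783 := ndS (p := 24791) (l := 9) rfl N24791 D41783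
theorem N25857 : nd 25857 = n41784 := ndS (p := 24792) (l := 9) rfl N24792 D41784
theorem N25858 : nd 25858 = n41785 := ndS (p := 24793) (l := 8) rfl N24793 D41785
theorem N25859 : nd 25859 = n41786 := ndS (p := 24796) (l := 8) rfl N24796 D41786
theorem N25860 : nd 25860 = n41787 := ndS (p := 24798) (l := 9) rfl N24798 D41787
theorem N25861 : nd 25861 = n41788 := ndS (p := 24800) (l := 9) rfl N24800 D41788
theorem N25862 : nd 25862 = n41789 := ndS (p := 24804) (l := 5) rfl N24804 D41789
theorem N25863 : nd 25863 = n41790 := ndS (p := 24804) (l := 9) rfl N24804 D41790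
theorem N25864 : nd 25864 = n41791 := ndS (p := 24805) (l := 9) rfl N24805 D41791
theorem N25865 : nd 25865 = n41792 := ndS (p := 24807) (l := 8) rfl N24807 D41792
theorem N25866 : nd 25866 = n41793 := ndS (p := 24808) (l := 3) rfl N24808 D41793
theorem N25867 : nd 25867 = n41794 := ndS (p := 24808) (l := 9) rfl N24808 D41794
theorem N25868 : nd 25868 = n41795 := ndS (p := 24809) (l := 8) rfl N24809 D41795
theorem N25869 : nd 25869 = n41796 := ndS (p := 24811) (l := 8) rfl N24811 D41796
theorem N25870 : nd 25870 = n41797 := ndS (p := 24813) (l := 2) rfl N24813 D41797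
theorem N25871 : nd 25871 = n41798 := ndS (p := 24813) (l := 6) rfl N24813 D41798
theorem N25872 : nd 25872 = n41799 := ndS (p := 24813) (l := 9) rfl N24813 D41799
theorem N25873 : nd 25873 = n41800 := ndS (p := 24814) (l := 7) rfl N24814 D41800
theorem N25874 : nd 25874 = n41801 := ndS (p := 24814) (l := 9) rfl N24814 D41801
theorem N25875 : nd 25875 = n41802 := ndS (p := 24815) (l := 8) rfl N24815 D41802
theorem N25876 : nd 25876 = n41803 := ndS (p := 24816) (l := 9) rfl N24816 D41803
theorem N25877 : nd 25877 = n41804 := ndS (p := 24817) (l := 8) rfl N24817 D41804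
theorem N25878 : nd 25878 = n41805 := ndS (p := 24819) (l := 6) rfl N24819 D41805
theorem N25879 : nd 25879 = n41806 := ndS (p := 24820) (l := 7) rfl N24820 D41806
theorem N25880 : nd 25880 = n41807 := ndS (p := 24821) (l := 9) rfl N24821 D41807
theorem N25881 : nd 25881 = n41808 := ndS (p := 24822) (l := 8) rfl N24822 D41808
theorem N25882 : nd 25882 = n41809 := ndS (p := 24824) (l := 8) rfl N24824 D41809
theorem N25883 : nd 25883 = n41810 := ndS (p := 24826) (l := 3) rfl N24826 D41810
theorem N25884 : nd 25884 = n41811 := ndS (p := 24826) (l := 8) rfl N24826 D41811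
theorem N25885 : nd 25885 = n41812 := ndS (p := 24827) (l := 5) rfl N24827 D41812
theorem N25886 : nd 25886 = n41813 := ndS (p := 24827) (l := 9) rfl N24827 D41813
theorem N25887 : nd 25887 = n41814 := ndS (p := 24828) (l := 4) rfl N24828 D41814
theorem N25888 : nd 25888 = n41815 := ndS (p := 24829) (l := 9) rfl N24829 D41815
theorem N25889 : nd 25889 = n41816 := ndS (p := 24830) (l := 4) rfl N24830 D41816
theorem N25890 : nd 25890 = n41817 := ndS (p := 24830) (l := 6) rfl N24830 D41817
theorem N25891 : nd 25891 = n41818 := ndS (p := 24830) (l := 9) rfl N24830 D41818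
theorem N25892 : nd 25892 = n41819 := ndS (p := 24832) (l := 6) rfl N24832 D41819
theorem N25893 : nd 25893 = n41820 := ndS (p := 24832) (l := 9) rfl N24832 D41820
theorem N25894 : nd 25894 = n41821 := ndS (p := 24834) (l := 8) rfl N24834 D41821
theorem N25895 : nd 25895 = n41822 := ndS (p := 24835) (l := 7) rfl N24835 D41822
theorem N25896 : nd 25896 = n41823 := ndS (p := 24835) (l := 9) rfl N24835 D41823
theorem N25897 : nd 25897 = n41824 := ndS (p := 24836) (l := 8) rfl N24836 D41824
theorem N25898 : nd 25898 = n41825 := ndS (p := 24839) (l := 6) rfl N24839 D41825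
theorem N25899 : nd 25899 = n41826 := ndS (p := 24839) (l := 9) rfl N24839 D41826
theorem N25900 : nd 25900 = n41827 := ndS (p := 24841) (l := 6) rfl N24841 D41827
theorem N25901 : nd 25901 = n41828 := ndS (p := 24841) (l := 9) rfl N24841 D41828
theorem N25902 : nd 25902 = n41829 := ndS (p := 24842) (l := 7) rfl N24842 D41829
theorem N25903 : nd 25903 = n41830 := ndS (p := 24842) (l := 9) rfl N24842 D41830
theorem N25904 : nd 25904 = n41831 := ndS (p := 24843) (l := 8) rfl N24843 D41831
theorem N25905 : nd 25905 = n41832 := ndS (p := 24844) (l := 7) rfl N24844 D41832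
theorem N25906 : nd 25906 = n41833 := ndS (p := 24845) (l := 8) rfl N24845 D41833
theorem N25907 : nd 25907 = n41834 := ndS (p := 24849) (l := 9) rfl N24849 D41834
theorem N25908 : nd 25908 = n41835 := ndS (p := 24854) (l := 3) rfl N24854 D41835
theorem N25909 : nd 25909 = n41836 := ndS (p := 24858) (l := 3) rfl N24858 D41836
theorem N25910 : nd 25910 = n41837 := ndS (p := 24858) (l := 9) rfl N24858 D41837
theorem N25911 : nd 25911 = n41838 := ndS (p := 24861) (l := 7) rfl N24861 D41838
theorem N25912 : nd 25912 = n41839 := ndS (p := 24863) (l := 9) rfl N24863 D41839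
theorem N25913 : nd 25913 = n41840 := ndS (p := 24864) (l := 6) rfl N24864 D41840
theorem N25914 : nd 25914 = n41841 := ndS (p := 24864) (l := 9) rfl N24864 D41841
theorem N25915 : nd 25915 = n41842 := ndS (p := 24866) (l := 7) rfl N24866 D41842
theorem N25916 : nd 25916 = n41843 := ndS (p := 24866) (l := 9) rfl N24866 D41843
theorem N25917 : nd 25917 = n41844 := ndS (p := 24872) (l := 6) rfl N24872 D41844
theorem N25918 : nd 25918 = n41845 := ndS (p := 24873) (l := 7) rfl N24873 D41845
theorem N25919 : nd 25919 = n41846 := ndS (p := 24882) (l := 4) rfl N24882 D41846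
theorem N25920 : nd 25920 = n41847 := ndS (p := 24882) (l := 8) rfl N24882 D41847
theorem N25921 : nd 25921 = n41848 := ndS (p := 24883) (l := 9) rfl N24883 D41848
theorem N25922 : nd 25922 = n41849 := ndS (p := 24884) (l := 8) rfl N24884 D41849
theorem N25923 : nd 25923 = n41850 := ndS (p := 24885) (l := 9) rfl N24885 D41850
theorem N25924 : nd 25924 = n41851 := ndS (p := 24886) (l := 9) rfl N24886 D41851
theorem N25925 : nd 25925 = n41852 := ndS (p := 24888) (l := 8) rfl N24888 D41852
theorem N25926 : nd 25926 = n41853 := ndS (p := 24890) (l := 4) rfl N24890 D41853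
theorem N25927 : nd 25927 = n41854 := ndS (p := 24890) (l := 8) rfl N24890 D41854
theorem N25928 : nd 25928 = n41855 := ndS (p := 24891) (l := 8) rfl N24891 D41855
theorem N25929 : nd 25929 = n41856 := ndS (p := 24892) (l := 9) rfl N24892 D41856
theorem N25930 : nd 25930 = n41857 := ndS (p := 24894) (l := 5) rfl N24894 D41857
theorem N25931 : nd 25931 = n41858 := ndS (p := 24894) (l := 9) rfl N24894 D41858
theorem N25932 : nd 25932 = n41859 := ndS (p := 24896) (l := 9) rfl N24896 D41859
theorem N25933 : nd 25933 = n41860 := ndS (p := 24897) (l := 8) rfl N24897 D41860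
theorem N25934 : nd 25934 = n41861 := ndS (p := 24901) (l := 6) rfl N24901 D41861
theorem N25935 : nd 25935 = n41862 := ndS (p := 24902) (l := 7) rfl N24902 D41862
theorem N25936 : nd 25936 = n41863 := ndS (p := 24903) (l := 9) rfl N24903 D41863
theorem N25937 : nd 25937 = n41864 := ndS (p := 24904) (l := 8) rfl N24904 D41864
theorem N25938 : nd 25938 = n41865 := ndS (p := 24905) (l := 8) rfl N24905 D41865
theorem N25939 : nd 25939 = n41866 := ndS (p := 24907) (l := 9) rfl N24907 D41866
theorem N25940 : nd 25940 = n41867 := ndS (p := 24908) (l := 8) rfl N24908 D41867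
theorem N25941 : nd 25941 = n41868 := ndS (p := 24909) (l := 9) rfl N24909 D41868
theorem N25942 : nd 25942 = n41869 := ndS (p := 24911) (l := 6) rfl N24911 D41869
theorem N25943 : nd 25943 = n41870 := ndS (p := 24911) (l := 9) rfl N24911 D41870
theorem N25944 : nd 25944 = n41871 := ndS (p := 24912) (l := 9) rfl N24912 D41871
theorem N25945 : nd 25945 = n41872 := ndS (p := 24913) (l := 8) rfl N24913 D41872
theorem N25946 : nd 25946 = n41873 := ndS (p := 24915) (l := 8) rfl N24915 D41873
theorem N25947 : nd 25947 = n41874 := ndS (p := 24918) (l := 5) rfl N24918 D41874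
theorem N25948 : nd 25948 = n41875 := ndS (p := 24918) (l := 9) rfl N24918 D41875
theorem N25949 : nd 25949 = n41876 := ndS (p := 24920) (l := 2) rfl N24920 D41876
theorem N25950 : nd 25950 = n41877 := ndS (p := 24920) (l := 9) rfl N24920 D41877
theorem N25951 : nd 25951 = n41878 := ndS (p := 24921) (l := 8) rfl N24921 D41878
theorem N25952 : nd 25952 = n41879 := ndS (p := 24924) (l := 8) rfl N24924 D41879
theorem N25953 : nd 25953 = n41880 := ndS (p := 24926) (l := 4) rfl N24926 D41880
theorem N25954 : nd 25954 = n41881 := ndS (p := 24926) (l := 8) rfl N24926 D41881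
theorem N25955 : nd 25955 = n41882 := ndS (p := 24927) (l := 9) rfl N24927 D41882
theorem N25956 : nd 25956 = n41883 := ndS (p := 24928) (l := 8) rfl N24928 D41883
theorem N25957 : nd 25957 = n41884 := ndS (p := 24929) (l := 5) rfl N24929 D41884
theorem N25958 : nd 25958 = n41885 := ndS (p := 24929) (l := 9) rfl N24929 D41885
theorem N25959 : nd 25959 = n41886 := ndS (p := 24930) (l := 4) rfl N24930 D41886
theorem N25960 : nd 25960 = n41887 := ndS (p := 24931) (l := 4) rfl N24931 D41887
theorem N25961 : nd 25961 = n41888 := ndS (p := 24931) (l := 6) rfl N24931 D41888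
theorem N25962 : nd 25962 = n41889 := ndS (p := 24931) (l := 9) rfl N24931 D41889
theorem N25963 : nd 25963 = n41890 := ndS (p := 24933) (l := 3) rfl N24933 D41890
theorem N25964 : nd 25964 = n41891 := ndS (p := 24933) (l := 6) rfl N24933 D41891
theorem N25965 : nd 25965 = n41892 := ndS (p := 24933) (l := 9) rfl N24933 D41892
theorem N25966 : nd 25966 = n41893 := ndS (p := 24935) (l := 8) rfl N24935 D41893
theorem N25967 : nd 25967 = n41894 := ndS (p := 24936) (l := 2) rfl N24936 D41894
theorem N25968 : nd 25968 = n41895 := ndS (p := 24936) (l := 9) rfl N24936 D41895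
theorem N25969 : nd 25969 = n41896 := ndS (p := 24937) (l := 8) rfl N24937 D41896
theorem N25970 : nd 25970 = n41897 := ndS (p := 24939) (l := 3) rfl N24939 D41897
theorem N25971 : nd 25971 = n41898 := ndS (p := 24939) (l := 6) rfl N24939 D41898
theorem N25972 : nd 25972 = n41899 := ndS (p := 24939) (l := 9) rfl N24939 D41899
theorem N25973 : nd 25973 = n41900 := ndS (p := 24940) (l := 7) rfl N24940 D41900
theorem N25974 : nd 25974 = n41901 := ndS (p := 24940) (l := 9) rfl N24940 D41901
theorem N25975 : nd 25975 = n41902 := ndS (p := 24941) (l := 8) rfl N24941 D41902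
theorem N25976 : nd 25976 = n41903 := ndS (p := 24942) (l := 2) rfl N24942 D41903
theorem N25977 : nd 25977 = n41904 := ndS (p := 24942) (l := 6) rfl N24942 D41904
theorem N25978 : nd 25978 = n41905 := ndS (p := 24942) (l := 9) rfl N24942 D41905
theorem N25979 : nd 25979 = n41906 := ndS (p := 24943) (l := 7) rfl N24943 D41906
theorem N25980 : nd 25980 = n41907 := ndS (p := 24944) (l := 8) rfl N24944 D41907
theorem N25981 : nd 25981 = n41908 := ndS (p := 24947) (l := 9) rfl N24947 D41908
theorem N25982 : nd 25982 = n41909 := ndS (p := 24949) (l := 5) rfl N24949 D41909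
theorem N25983 : nd 25983 = n41910 := ndS (p := 24951) (l := 4) rfl N24951 D41910
theorem N25984 : nd 25984 = n41911 := ndS (p := 24951) (l := 8) rfl N24951 D41911
theorem N25985 : nd 25985 = n41912 := ndS (p := 24952) (l := 8) rfl N24952 D41912
theorem N25986 : nd 25986 = n41913 := ndS (p := 24953) (l := 9) rfl N24953 D41913
theorem N25987 : nd 25987 = n41914 := ndS (p := 24954) (l := 4) rfl N24954 D41914
theorem N25988 : nd 25988 = n41915 := ndS (p := 24954) (l := 6) rfl N24954 D41915
theorem N25989 : nd 25989 = n41916 := ndS (p := 24954) (l := 9) rfl N24954 D41916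
theorem N25990 : nd 25990 = n41917 := ndS (p := 24956) (l := 3) rfl N24956 D41917
theorem N25991 : nd 25991 = n41918 := ndS (p := 24956) (l := 6) rfl N24956 D41918
theorem N25992 : nd 25992 = n41919 := ndS (p := 24958) (l := 2) rfl N24958 D41919
theorem N25993 : nd 25993 = n41920 := ndS (p := 24959) (l := 5) rfl N24959 D41920
theorem N25994 : nd 25994 = n41921 := ndS (p := 24959) (l := 9) rfl N24959 D41921
theorem N25995 : nd 25995 = n41922 := ndS (p := 24961) (l := 3) rfl N24961 D41922
theorem N25996 : nd 25996 = n41923 := ndS (p := 24961) (l := 6) rfl N24961 D41923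
theorem N25997 : nd 25997 = n41924 := ndS (p := 24961) (l := 9) rfl N24961 D41924
theorem N25998 : nd 25998 = n41925 := ndS (p := 24962) (l := 7) rfl N24962 D41925
theorem N25999 : nd 25999 = n41926 := ndS (p := 24962) (l := 9) rfl N24962 D41926
theorem N26000 : nd 26000 = n41927 := ndS (p := 24964) (l := 6) rfl N24964 D41927
theorem N26001 : nd 26001 = n41928 := ndS (p := 24965) (l := 7) rfl N24965 D41928
theorem N26002 : nd 26002 = n41929 := ndS (p := 24967) (l := 5) rfl N24967 D41929
theorem N26003 : nd 26003 = n41930 := ndS (p := 24967) (l := 7) rfl N24967 D41930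
theorem N26004 : nd 26004 = n41931 := ndS (p := 24967) (l := 9) rfl N24967 D41931
theorem N26005 : nd 26005 = n41932 := ndS (p := 24968) (l := 8) rfl N24968 D41932
theorem N26006 : nd 26006 = n41933 := ndS (p := 24969) (l := 9) rfl N24969 D41933
theorem N26007 : nd 26007 = n41934 := ndS (p := 24974) (l := 3) rfl N24974 D41934
theorem N26008 : nd 26008 = n41935 := ndS (p := 24974) (l := 8) rfl N24974 D41935
theorem N26009 : nd 26009 = n41936 := ndS (p := 24975) (l := 9) rfl N24975 D41936
theorem N26010 : nd 26010 = n41937 := ndS (p := 24976) (l := 5) rfl N24976 D41937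
theorem N26011 : nd 26011 = n41938 := ndS (p := 24976) (l := 9) rfl N24976 D41938
theorem N26012 : nd 26012 = n41939 := ndS (p := 24978) (l := 3) rfl N24978 D41939
theorem N26013 : nd 26013 = n41940 := ndS (p := 24978) (l := 9) rfl N24978 D41940
theorem N26014 : nd 26014 = n41941 := ndS (p := 24980) (l := 2) rfl N24980 D41941
theorem N26015 : nd 26015 = n41942 := ndS (p := 24982) (l := 4) rfl N24982 D41942
theorem N26016 : nd 26016 = n41943 := ndS (p := 24982) (l := 6) rfl N24982 D41943
theorem N26017 : nd 26017 = n41944 := ndS (p := 24982) (l := 9) rfl N24982 D41944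
theorem N26018 : nd 26018 = n41945 := ndS (p := 24984) (l := 3) rfl N24984 D41945
theorem N26019 : nd 26019 = n41946 := ndS (p := 24984) (l := 6) rfl N24984 D41946
theorem N26020 : nd 26020 = n41947 := ndS (p := 24984) (l := 9) rfl N24984 D41947
theorem N26021 : nd 26021 = n41948 := ndS (p := 24985) (l := 7) rfl N24985 D41948
theorem N26022 : nd 26022 = n41949 := ndS (p := 24985) (l := 9) rfl N24985 D41949
theorem N26023 : nd 26023 = n41950 := ndS (p := 24987) (l := 6) rfl N24987 D41950
theorem N26024 : nd 26024 = n41951 := ndS (p := 24988) (l := 7) rfl N24988 D41951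
theorem N26025 : nd 26025 = n41952 := ndS (p := 24990) (l := 2) rfl N24990 D41952
theorem N26026 : nd 26026 = n41953 := ndS (p := 24990) (l := 6) rfl N24990 D41953
theorem N26027 : nd 26027 = n41954 := ndS (p := 24990) (l := 9) rfl N24990 D41954
theorem N26028 : nd 26028 = n41955 := ndS (p := 24991) (l := 7) rfl N24991 D41955
theorem N26029 : nd 26029 = n41956 := ndS (p := 24991) (l := 9) rfl N24991 D41956
theorem N26030 : nd 26030 = n41957 := ndS (p := 24992) (l := 8) rfl N24992 D41957
theorem N26031 : nd 26031 = n41958 := ndS (p := 24993) (l := 9) rfl N24993 D41958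
theorem N26032 : nd 26032 = n41959 := ndS (p := 24994) (l := 8) rfl N24994 D41959
theorem N26033 : nd 26033 = n41960 := ndS (p := 24996) (l := 6) rfl N24996 D41960
theorem N26034 : nd 26034 = n41961 := ndS (p := 24997) (l := 7) rfl N24997 D41961
theorem N26035 : nd 26035 = n41962 := ndS (p := 24998) (l := 9) rfl N24998 D41962
theorem N26036 : nd 26036 = n41963 := ndS (p := 24999) (l := 8) rfl N24999 D41963
theorem N26037 : nd 26037 = n41964 := ndS (p := 25001) (l := 8) rfl N25001 D41964
theorem N26038 : nd 26038 = n41965 := ndS (p := 25003) (l := 1) rfl N25003 D41965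
theorem N26039 : nd 26039 = n41966 := ndS (p := 25003) (l := 6) rfl N25003 D41966
theorem N26040 : nd 26040 = n41967 := ndS (p := 25003) (l := 9) rfl N25003 D41967
theorem N26041 : nd 26041 = n41968 := ndS (p := 25004) (l := 7) rfl N25004 D41968
theorem N26042 : nd 26042 = n41969 := ndS (p := 25004) (l := 9) rfl N25004 D41969
theorem N26043 : nd 26043 = n41970 := ndS (p := 25005) (l := 8) rfl N25005 D41970
theorem N26044 : nd 26044 = n41971 := ndS (p := 25006) (l := 9) rfl N25006 D41971
theorem N26045 : nd 26045 = n41972 := ndS (p := 25007) (l := 8) rfl N25007 D41972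
theorem N26046 : nd 26046 = n41973 := ndS (p := 25008) (l := 5) rfl N25008 D41973
theorem N26047 : nd 26047 = n41974 := ndS (p := 25009) (l := 8) rfl N25009 D41974
theorem N26048 : nd 26048 = n41975 := ndS (p := 25012) (l := 7) rfl N25012 D41975
theorem N26049 : nd 26049 = n41976 := ndS (p := 25014) (l := 8) rfl N25014 D41976
theorem N26050 : nd 26050 = n41977 := ndS (p := 25016) (l := 8) rfl N25016 D41977
theorem N26051 : nd 26051 = n41978 := ndS (p := 25020) (l := 7) rfl N25020 D41978
theorem N26052 : nd 26052 = n41979 := ndS (p := 25025) (l := 3) rfl N25025 D41979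
theorem N26053 : nd 26053 = n41980 := ndS (p := 25025) (l := 8) rfl N25025 D41980
theorem N26054 : nd 26054 = n41981 := ndS (p := 25027) (l := 5) rfl N25027 D41981
theorem N26055 : nd 26055 = n41982 := ndS (p := 25028) (l := 6) rfl N25028 D41982
theorem N26056 : nd 26056 = n41983 := ndS (p := 25030) (l := 5) rfl N25030 D41983
theorem N26057 : nd 26057 = n41984 := ndS (p := 25032) (l := 6) rfl N25032 D41984
theorem N26058 : nd 26058 = n41985 := ndS (p := 25033) (l := 7) rfl N25033 D41985
theorem N26059 : nd 26059 = n41986 := ndS (p := 25035) (l := 9) rfl N25035 D41986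
theorem N26060 : nd 26060 = n41987 := ndS (p := 25037) (l := 9) rfl N25037 D41987
theorem N26061 : nd 26061 = n41988 := ndS (p := 25039) (l := 9) rfl N25039 D41988
theorem N26062 : nd 26062 = n41989 := ndS (p := 25041) (l := 9) rfl N25041 D41989
theorem N26063 : nd 26063 = n41990 := ndS (p := 25042) (l := 8) rfl N25042 D41990
theorem N26064 : nd 26064 = n41991 := ndS (p := 25043) (l := 9) rfl N25043 D41991
theorem N26065 : nd 26065 = n41992 := ndS (p := 25044) (l := 4) rfl N25044 D41992
theorem N26066 : nd 26066 = n41993 := ndS (p := 25044) (l := 9) rfl N25044 D41993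
theorem N26067 : nd 26067 = n41994 := ndS (p := 25047) (l := 6) rfl N25047 D41994
theorem N26068 : nd 26068 = n41995 := ndS (p := 25047) (l := 9) rfl N25047 D41995
theorem N26069 : nd 26069 = n41996 := ndS (p := 25048) (l := 7) rfl N25048 D41996
theorem N26070 : nd 26070 = n41997 := ndS (p := 25048) (l := 9) rfl N25048 D41997
theorem N26071 : nd 26071 = n41998 := ndS (p := 25049) (l := 8) rfl N25049 D41998
theorem N26072 : nd 26072 = n41999 := ndS (p := 25050) (l := 7) rfl N25050 D41999
theorem N26073 : nd 26073 = n42000 := ndS (p := 25051) (l := 8) rfl N25051 D42000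
theorem N26074 : nd 26074 = n42001 := ndS (p := 25054) (l := 9) rfl N25054 D42001
theorem N26075 : nd 26075 = n42002 := ndS (p := 25055) (l := 8) rfl N25055 D42002
theorem N26076 : nd 26076 = n42003 := ndS (p := 25056) (l := 9) rfl N25056 D42003
theorem N26077 : nd 26077 = n42004 := ndS (p := 25057) (l := 4) rfl N25057 D42004
theorem N26078 : nd 26078 = n42005 := ndS (p := 25057) (l := 6) rfl N25057 D42005
theorem N26079 : nd 26079 = n42006 := ndS (p := 25057) (l := 9) rfl N25057 D42006
theorem N26080 : nd 26080 = n42007 := ndS (p := 25059) (l := 6) rfl N25059 D42007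
theorem N26081 : nd 26081 = n42008 := ndS (p := 25061) (l := 3) rfl N25061 D42008
theorem N26082 : nd 26082 = n42009 := ndS (p := 25061) (l := 6) rfl N25061 D42009
theorem N26083 : nd 26083 = n42010 := ndS (p := 25061) (l := 9) rfl N25061 D42010
theorem N26084 : nd 26084 = n42011 := ndS (p := 25062) (l := 7) rfl N25062 D42011
theorem N26085 : nd 26085 = n42012 := ndS (p := 25062) (l := 9) rfl N25062 D42012
theorem N26086 : nd 26086 = n42013 := ndS (p := 25064) (l := 6) rfl N25064 D42013
theorem N26087 : nd 26087 = n42014 := ndS (p := 25065) (l := 7) rfl N25065 D42014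
theorem N26088 : nd 26088 = n42015 := ndS (p := 25067) (l := 9) rfl N25067 D42015
theorem N26089 : nd 26089 = n42016 := ndS (p := 25068) (l := 8) rfl N25068 D42016
theorem N26090 : nd 26090 = n42017 := ndS (p := 25069) (l := 9) rfl N25069 D42017
theorem N26091 : nd 26091 = n42018 := ndS (p := 25070) (l := 9) rfl N25070 D42018
theorem N26092 : nd 26092 = n42019 := ndS (p := 25072) (l := 9) rfl N25072 D42019
theorem N26093 : nd 26093 = n42020 := ndS (p := 25074) (l := 9) rfl N25074 D42020
theorem N26094 : nd 26094 = n42021 := ndS (p := 25078) (l := 4) rfl N25078 D42021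
theorem N26095 : nd 26095 = n42022 := ndS (p := 25078) (l := 8) rfl N25078 D42022
theorem N26096 : nd 26096 = n42023 := ndS (p := 25079) (l := 9) rfl N25079 D42023
theorem N26097 : nd 26097 = n42024 := ndS (p := 25080) (l := 8) rfl N25080 D42024
theorem N26098 : nd 26098 = n42025 := ndS (p := 25081) (l := 5) rfl N25081 D42025
theorem N26099 : nd 26099 = n42026 := ndS (p := 25081) (l := 9) rfl N25081 D42026
theorem N26100 : nd 26100 = n42027 := ndS (p := 25082) (l := 4) rfl N25082 D42027
theorem N26101 : nd 26101 = n42028 := ndS (p := 25083) (l := 4) rfl N25083 D42028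
theorem N26102 : nd 26102 = n42029 := ndS (p := 25083) (l := 6) rfl N25083 D42029
theorem N26103 : nd 26103 = n42030 := ndS (p := 25083) (l := 9) rfl N25083 D42030
theorem N26104 : nd 26104 = n42031 := ndS (p := 25085) (l := 3) rfl N25085 D42031
theorem N26105 : nd 26105 = n42032 := ndS (p := 25085) (l := 6) rfl N25085 D42032
theorem N26106 : nd 26106 = n42033 := ndS (p := 25087) (l := 2) rfl N25087 D42033
theorem N26107 : nd 26107 = n42034 := ndS (p := 25088) (l := 3) rfl N25088 D42034
theorem N26108 : nd 26108 = n42035 := ndS (p := 25088) (l := 6) rfl N25088 D42035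
theorem N26109 : nd 26109 = n42036 := ndS (p := 25088) (l := 9) rfl N25088 D42036
theorem N26110 : nd 26110 = n42037 := ndS (p := 25089) (l := 7) rfl N25089 D42037
theorem N26111 : nd 26111 = n42038 := ndS (p := 25089) (l := 9) rfl N25089 D42038
theorem N26112 : nd 26112 = n42039 := ndS (p := 25091) (l := 2) rfl N25091 D42039
theorem N26113 : nd 26113 = n42040 := ndS (p := 25091) (l := 6) rfl N25091 D42040
theorem N26114 : nd 26114 = n42041 := ndS (p := 25092) (l := 7) rfl N25092 D42041
theorem N26115 : nd 26115 = n42042 := ndS (p := 25095) (l := 9) rfl N25095 D42042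
theorem N26116 : nd 26116 = n42043 := ndS (p := 25096) (l := 8) rfl N25096 D42043
theorem N26117 : nd 26117 = n42044 := ndS (p := 25097) (l := 9) rfl N25097 D42044
theorem N26118 : nd 26118 = n42045 := ndS (p := 25098) (l := 4) rfl N25098 D42045
theorem N26119 : nd 26119 = n42046 := ndS (p := 25098) (l := 9) rfl N25098 D42046
theorem N26120 : nd 26120 = n42047 := ndS (p := 25101) (l := 5) rfl N25101 D42047
theorem N26121 : nd 26121 = n42048 := ndS (p := 25101) (l := 9) rfl N25101 D42048
theorem N26122 : nd 26122 = n42049 := ndS (p := 25102) (l := 9) rfl N25102 D42049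
theorem N26123 : nd 26123 = n42050 := ndS (p := 25104) (l := 3) rfl N25104 D42050
theorem N26124 : nd 26124 = n42051 := ndS (p := 25104) (l := 6) rfl N25104 D42051
theorem N26125 : nd 26125 = n42052 := ndS (p := 25104) (l := 9) rfl N25104 D42052
theorem N26126 : nd 26126 = n42053 := ndS (p := 25105) (l := 7) rfl N25105 D42053
theorem N26127 : nd 26127 = n42054 := ndS (p := 25105) (l := 9) rfl N25105 D42054
theorem N26128 : nd 26128 = n42055 := ndS (p := 25106) (l := 8) rfl N25106 D42055
theorem N26129 : nd 26129 = n42056 := ndS (p := 25107) (l := 6) rfl N25107 D42056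
theorem N26130 : nd 26130 = n42057 := ndS (p := 25108) (l := 7) rfl N25108 D42057
theorem N26131 : nd 26131 = n42058 := ndS (p := 25108) (l := 9) rfl N25108 D42058
theorem N26132 : nd 26132 = n42059 := ndS (p := 25109) (l := 8) rfl N25109 D42059
theorem N26133 : nd 26133 = n42060 := ndS (p := 25111) (l := 8) rfl N25111 D42060
theorem N26134 : nd 26134 = n42061 := ndS (p := 25113) (l := 6) rfl N25113 D42061
theorem N26135 : nd 26135 = n42062 := ndS (p := 25113) (l := 9) rfl N25113 D42062
theorem N26136 : nd 26136 = n42063 := ndS (p := 25114) (l := 5) rfl N25114 D42063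
theorem N26137 : nd 26137 = n42064 := ndS (p := 25114) (l := 7) rfl N25114 D42064
theorem N26138 : nd 26138 = n42065 := ndS (p := 25114) (l := 9) rfl N25114 D42065
theorem N26139 : nd 26139 = n42066 := ndS (p := 25115) (l := 8) rfl N25115 D42066
theorem N26140 : nd 26140 = n42067 := ndS (p := 25116) (l := 9) rfl N25116 D42067
theorem N26141 : nd 26141 = n42068 := ndS (p := 25117) (l := 8) rfl N25117 D42068
theorem N26142 : nd 26142 = n42069 := ndS (p := 25121) (l := 8) rfl N25121 D42069
theorem N26143 : nd 26143 = n42070 := ndS (p := 25123) (l := 5) rfl N25123 D42070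
theorem N26144 : nd 26144 = n42071 := ndS (p := 25124) (l := 4) rfl N25124 D42071
theorem N26145 : nd 26145 = n42072 := ndS (p := 25126) (l := 3) rfl N25126 D42072
theorem N26146 : nd 26146 = n42073 := ndS (p := 25126) (l := 6) rfl N25126 D42073
theorem N26147 : nd 26147 = n42074 := ndS (p := 25126) (l := 9) rfl N25126 D42074
theorem N26148 : nd 26148 = n42075 := ndS (p := 25127) (l := 7) rfl N25127 D42075
theorem N26149 : nd 26149 = n42076 := ndS (p := 25127) (l := 9) rfl N25127 D42076
theorem N26150 : nd 26150 = n42077 := ndS (p := 25129) (l := 6) rfl N25129 D42077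
theorem N26151 : nd 26151 = n42078 := ndS (p := 25130) (l := 7) rfl N25130 D42078
theorem N26152 : nd 26152 = n42079 := ndS (p := 25133) (l := 9) rfl N25133 D42079
theorem N26153 : nd 26153 = n42080 := ndS (p := 25135) (l := 9) rfl N25135 D42080
theorem N26154 : nd 26154 = n42081 := ndS (p := 25137) (l := 2) rfl N25137 D42081
theorem N26155 : nd 26155 = n42082 := ndS (p := 25137) (l := 6) rfl N25137 D42082
theorem N26156 : nd 26156 = n42083 := ndS (p := 25137) (l := 9) rfl N25137 D42083
theorem N26157 : nd 26157 = n42084 := ndS (p := 25138) (l := 7) rfl N25138 D42084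
theorem N26158 : nd 26158 = n42085 := ndS (p := 25138) (l := 9) rfl N25138 D42085
theorem N26159 : nd 26159 = n42086 := ndS (p := 25139) (l := 8) rfl N25139 D42086
theorem N26160 : nd 26160 = n42087 := ndS (p := 25140) (l := 9) rfl N25140 D42087
theorem N26161 : nd 26161 = n42088 := ndS (p := 25144) (l := 7) rfl N25144 D42088
theorem N26162 : nd 26162 = n42089 := ndS (p := 25145) (l := 8) rfl N25145 D42089
theorem N26163 : nd 26163 = n42090 := ndS (p := 25148) (l := 9) rfl N25148 D42090
theorem N26164 : nd 26164 = n42091 := ndS (p := 25150) (l := 9) rfl N25150 D42091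
theorem N26165 : nd 26165 = n42092 := ndS (p := 25152) (l := 6) rfl N25152 D42092
theorem N26166 : nd 26166 = n42093 := ndS (p := 25152) (l := 9) rfl N25152 D42093
theorem N26167 : nd 26167 = n42094 := ndS (p := 25153) (l := 9) rfl N25153 D42094
theorem N26168 : nd 26168 = n42095 := ndS (p := 25156) (l := 6) rfl N25156 D42095
theorem N26169 : nd 26169 = n42096 := ndS (p := 25156) (l := 9) rfl N25156 D42096
theorem N26170 : nd 26170 = n42097 := ndS (p := 25157) (l := 5) rfl N25157 D42097
theorem N26171 : nd 26171 = n42098 := ndS (p := 25157) (l := 7) rfl N25157 D42098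
theorem N26172 : nd 26172 = n42099 := ndS (p := 25157) (l := 9) rfl N25157 D42099
theorem N26173 : nd 26173 = n42100 := ndS (p := 25158) (l := 8) rfl N25158 D42100
theorem N26174 : nd 26174 = n42101 := ndS (p := 25159) (l := 9) rfl N25159 D42101
theorem N26175 : nd 26175 = n42102 := ndS (p := 25160) (l := 8) rfl N25160 D42102
theorem N26176 : nd 26176 = n42103 := ndS (p := 25162) (l := 6) rfl N25162 D42103
theorem N26177 : nd 26177 = n42104 := ndS (p := 25163) (l := 7) rfl N25163 D42104
theorem N26178 : nd 26178 = n42105 := ndS (p := 25163) (l := 9) rfl N25163 D42105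
theorem N26179 : nd 26179 = n42106 := ndS (p := 25164) (l := 8) rfl N25164 D42106
theorem N26180 : nd 26180 = n42107 := ndS (p := 25165) (l := 9) rfl N25165 D42107
theorem N26181 : nd 26181 = n42108 := ndS (p := 25166) (l := 8) rfl N25166 D42108
theorem N26182 : nd 26182 = n42109 := ndS (p := 25167) (l := 5) rfl N25167 D42109
theorem N26183 : nd 26183 = n42110 := ndS (p := 25168) (l := 8) rfl N25168 D42110
theorem N26184 : nd 26184 = n42111 := ndS (p := 25170) (l := 6) rfl N25170 D42111
theorem N26185 : nd 26185 = n42112 := ndS (p := 25171) (l := 9) rfl N25171 D42112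
theorem N26186 : nd 26186 = n42113 := ndS (p := 25172) (l := 9) rfl N25172 D42113
theorem N26187 : nd 26187 = n42114 := ndS (p := 25174) (l := 9) rfl N25174 D42114
theorem N26188 : nd 26188 = n42115 := ndS (p := 25176) (l := 6) rfl N25176 D42115
theorem N26189 : nd 26189 = n42116 := ndS (p := 25176) (l := 9) rfl N25176 D42116
theorem N26190 : nd 26190 = n42117 := ndS (p := 25177) (l := 9) rfl N25177 D42117
theorem N26191 : nd 26191 = n42118 := ndS (p := 25180) (l := 6) rfl N25180 D42118
theorem N26192 : nd 26192 = n42119 := ndS (p := 25180) (l := 9) rfl N25180 D42119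
theorem N26193 : nd 26193 = n42120 := ndS (p := 25182) (l := 6) rfl N25182 D42120
theorem N26194 : nd 26194 = n42121 := ndS (p := 25182) (l := 9) rfl N25182 D42121
theorem N26195 : nd 26195 = n42122 := ndS (p := 25183) (l := 7) rfl N25183 D42122
theorem N26196 : nd 26196 = n42123 := ndS (p := 25183) (l := 9) rfl N25183 D42123
theorem N26197 : nd 26197 = n42124 := ndS (p := 25185) (l := 7) rfl N25185 D42124
theorem N26198 : nd 26198 = n42125 := ndS (p := 25187) (l := 6) rfl N25187 D42125
theorem N26199 : nd 26199 = n42126 := ndS (p := 25187) (l := 9) rfl N25187 D42126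
theorem N26200 : nd 26200 = n42127 := ndS (p := 25188) (l := 7) rfl N25188 D42127
theorem N26201 : nd 26201 = n42128 := ndS (p := 25188) (l := 9) rfl N25188 D42128
theorem N26202 : nd 26202 = n42129 := ndS (p := 25189) (l := 8) rfl N25189 D42129
theorem N26203 : nd 26203 = n42130 := ndS (p := 25190) (l := 9) rfl N25190 D42130
theorem N26204 : nd 26204 = n42131 := ndS (p := 25193) (l := 7) rfl N25193 D42131
theorem N26205 : nd 26205 = n42132 := ndS (p := 25197) (l := 7) rfl N25197 D42132
theorem N26206 : nd 26206 = n42133 := ndS (p := 25197) (l := 9) rfl N25197 D42133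
theorem N26207 : nd 26207 = n42134 := ndS (p := 25198) (l := 9) rfl N25198 D42134
theorem N26208 : nd 26208 = n42135 := ndS (p := 25204) (l := 6) rfl N25204 D42135
theorem N26209 : nd 26209 = n42136 := ndS (p := 25205) (l := 7) rfl N25205 D42136
theorem N26210 : nd 26210 = n42137 := ndS (p := 25207) (l := 9) rfl N25207 D42137
theorem N26211 : nd 26211 = n42138 := ndS (p := 25210) (l := 9) rfl N25210 D42138
theorem N26212 : nd 26212 = n42139 := ndS (p := 25212) (l := 6) rfl N25212 D42139
theorem N26213 : nd 26213 = n42140 := ndS (p := 25212) (l := 9) rfl N25212 D42140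
theorem N26214 : nd 26214 = n42141 := ndS (p := 25213) (l := 7) rfl N25213 D42141
theorem N26215 : nd 26215 = n42142 := ndS (p := 25213) (l := 9) rfl N25213 D42142
theorem N26216 : nd 26216 = n42143 := ndS (p := 25215) (l := 9) rfl N25215 D42143
theorem N26217 : nd 26217 = n42144 := ndS (p := 25217) (l := 7) rfl N25217 D42144
theorem N26218 : nd 26218 = n42145 := ndS (p := 25220) (l := 9) rfl N25220 D42145
theorem N26219 : nd 26219 = n42146 := ndS (p := 25221) (l := 8) rfl N25221 D42146
theorem N26220 : nd 26220 = n42147 := ndS (p := 25222) (l := 9) rfl N25222 D42147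
theorem N26221 : nd 26221 = n42148 := ndS (p := 25224) (l := 6) rfl N25224 D42148
theorem N26222 : nd 26222 = n42149 := ndS (p := 25224) (l := 9) rfl N25224 D42149
theorem N26223 : nd 26223 = n42150 := ndS (p := 25225) (l := 9) rfl N25225 D42150
theorem N26224 : nd 26224 = n42151 := ndS (p := 25228) (l := 9) rfl N25228 D42151
theorem N26225 : nd 26225 = n42152 := ndS (p := 25230) (l := 5) rfl N25230 D42152
theorem N26226 : nd 26226 = n42153 := ndS (p := 25230) (l := 9) rfl N25230 D42153
theorem N26227 : nd 26227 = n42154 := ndS (p := 25231) (l := 4) rfl N25231 D42154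
theorem N26228 : nd 26228 = n42155 := ndS (p := 25231) (l := 9) rfl N25231 D42155
theorem N26229 : nd 26229 = n42156 := ndS (p := 25233) (l := 3) rfl N25233 D42156
theorem N26230 : nd 26230 = n42157 := ndS (p := 25234) (l := 8) rfl N25234 D42157
theorem N26231 : nd 26231 = n42158 := ndS (p := 25235) (l := 3) rfl N25235 D42158
theorem N26232 : nd 26232 = n42159 := ndS (p := 25235) (l := 9) rfl N25235 D42159
theorem N26233 : nd 26233 = n42160 := ndS (p := 25236) (l := 8) rfl N25236 D42160
theorem N26234 : nd 26234 = n42161 := ndS (p := 25237) (l := 2) rfl N25237 D42161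
theorem N26235 : nd 26235 = n42162 := ndS (p := 25237) (l := 9) rfl N25237 D42162
theorem N26236 : nd 26236 = n42163 := ndS (p := 25238) (l := 8) rfl N25238 D42163
theorem N26237 : nd 26237 = n42164 := ndS (p := 25240) (l := 1) rfl N25240 D42164
theorem N26238 : nd 26238 = n42165 := ndS (p := 25240) (l := 9) rfl N25240 D42165
theorem N26239 : nd 26239 = n42166 := ndS (p := 25242) (l := 5) rfl N25242 D42166
theorem N26240 : nd 26240 = n42167 := ndS (p := 25243) (l := 2) rfl N25243 D42167
theorem N26241 : nd 26241 = n42168 := ndS (p := 25243) (l := 6) rfl N25243 D42168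
theorem N26242 : nd 26242 = n42169 := ndS (p := 25243) (l := 9) rfl N25243 D42169
theorem N26243 : nd 26243 = n42170 := ndS (p := 25244) (l := 7) rfl N25244 D42170
theorem N26244 : nd 26244 = n42171 := ndS (p := 25244) (l := 9) rfl N25244 D42171
theorem N26245 : nd 26245 = n42172 := ndS (p := 25245) (l := 8) rfl N25245 D42172
theorem N26246 : nd 26246 = n42173 := ndS (p := 25246) (l := 9) rfl N25246 D42173
theorem N26247 : nd 26247 = n42174 := ndS (p := 25247) (l := 8) rfl N25247 D42174
theorem N26248 : nd 26248 = n42175 := ndS (p := 25249) (l := 6) rfl N25249 D42175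
theorem N26249 : nd 26249 = n42176 := ndS (p := 25249) (l := 9) rfl N25249 D42176
theorem N26250 : nd 26250 = n42177 := ndS (p := 25250) (l := 7) rfl N25250 D42177
theorem N26251 : nd 26251 = n42178 := ndS (p := 25250) (l := 9) rfl N25250 D42178
theorem N26252 : nd 26252 = n42179 := ndS (p := 25251) (l := 8) rfl N25251 D42179
theorem N26253 : nd 26253 = n42180 := ndS (p := 25252) (l := 9) rfl N25252 D42180
theorem N26254 : nd 26254 = n42181 := ndS (p := 25253) (l := 8) rfl N25253 D42181
theorem N26255 : nd 26255 = n42182 := ndS (p := 25254) (l := 5) rfl N25254 D42182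
theorem N26256 : nd 26256 = n42183 := ndS (p := 25255) (l := 8) rfl N25255 D42183
theorem N26257 : nd 26257 = n42184 := ndS (p := 25256) (l := 5) rfl N25256 D42184
theorem N26258 : nd 26258 = n42185 := ndS (p := 25261) (l := 9) rfl N25261 D42185
theorem N26259 : nd 26259 = n42186 := ndS (p := 25263) (l := 6) rfl N25263 D42186
theorem N26260 : nd 26260 = n42187 := ndS (p := 25263) (l := 9) rfl N25263 D42187
theorem N26261 : nd 26261 = n42188 := ndS (p := 25264) (l := 9) rfl N25264 D42188
theorem N26262 : nd 26262 = n42189 := ndS (p := 25267) (l := 6) rfl N25267 D42189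
theorem N26263 : nd 26263 = n42190 := ndS (p := 25267) (l := 9) rfl N25267 D42190
theorem N26264 : nd 26264 = n42191 := ndS (p := 25268) (l := 5) rfl N25268 D42191
theorem N26265 : nd 26265 = n42192 := ndS (p := 25268) (l := 7) rfl N25268 D42192
theorem N26266 : nd 26266 = n42193 := ndS (p := 25268) (l := 9) rfl N25268 D42193
theorem N26267 : nd 26267 = n42194 := ndS (p := 25269) (l := 8) rfl N25269 D42194
theorem N26268 : nd 26268 = n42195 := ndS (p := 25270) (l := 9) rfl N25270 D42195
theorem N26269 : nd 26269 = n42196 := ndS (p := 25271) (l := 8) rfl N25271 D42196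
theorem N26270 : nd 26270 = n42197 := ndS (p := 25273) (l := 7) rfl N25273 D42197
theorem N26271 : nd 26271 = n42198 := ndS (p := 25274) (l := 9) rfl N25274 D42198
theorem N26272 : nd 26272 = n42199 := ndS (p := 25275) (l := 8) rfl N25275 D42199
theorem N26273 : nd 26273 = n42200 := ndS (p := 25277) (l := 8) rfl N25277 D42200
theorem N26274 : nd 26274 = n42201 := ndS (p := 25278) (l := 5) rfl N25278 D42201
theorem N26275 : nd 26275 = n42202 := ndS (p := 25279) (l := 4) rfl N25279 D42202
theorem N26276 : nd 26276 = n42203 := ndS (p := 25285) (l := 5) rfl N25285 D42203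
theorem N26277 : nd 26277 = n42204 := ndS (p := 25286) (l := 4) rfl N25286 D42204
theorem N26278 : nd 26278 = n42205 := ndS (p := 25289) (l := 8) rfl N25289 D42205
theorem N26279 : nd 26279 = n42206 := ndS (p := 25292) (l := 6) rfl N25292 D42206
theorem N26280 : nd 26280 = n42207 := ndS (p := 25292) (l := 9) rfl N25292 D42207
theorem N26281 : nd 26281 = n42208 := ndS (p := 25293) (l := 5) rfl N25293 D42208
theorem N26282 : nd 26282 = n42209 := ndS (p := 25293) (l := 7) rfl N25293 D42209
theorem N26283 : nd 26283 = n42210 := ndS (p := 25293) (l := 9) rfl N25293 D42210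
theorem N26284 : nd 26284 = n42211 := ndS (p := 25295) (l := 9) rfl N25295 D42211
theorem N26285 : nd 26285 = n42212 := ndS (p := 25296) (l := 9) rfl N25296 D42212
theorem N26286 : nd 26286 = n42213 := ndS (p := 25297) (l := 8) rfl N25297 D42213
theorem N26287 : nd 26287 = n42214 := ndS (p := 25299) (l := 8) rfl N25299 D42214
theorem N26288 : nd 26288 = n42215 := ndS (p := 25301) (l := 7) rfl N25301 D42215
theorem N26289 : nd 26289 = n42216 := ndS (p := 25303) (l := 8) rfl N25303 D42216
theorem N26290 : nd 26290 = n42217 := ndS (p := 25306) (l := 7) rfl N25306 D42217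
theorem N26291 : nd 26291 = n42218 := ndS (p := 25306) (l := 9) rfl N25306 D42218
theorem N26292 : nd 26292 = n42219 := ndS (p := 25308) (l := 5) rfl N25308 D42219
theorem N26293 : nd 26293 = n42220 := ndS (p := 25308) (l := 7) rfl N25308 D42220
theorem N26294 : nd 26294 = n42221 := ndS (p := 25308) (l := 9) rfl N25308 D42221
theorem N26295 : nd 26295 = n42222 := ndS (p := 25309) (l := 8) rfl N25309 D42222
theorem N26296 : nd 26296 = n42223 := ndS (p := 25310) (l := 9) rfl N25310 D42223
theorem N26297 : nd 26297 = n42224 := ndS (p := 25318) (l := 5) rfl N25318 D42224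
theorem N26298 : nd 26298 = n42225 := ndS (p := 25320) (l := 4) rfl N25320 D42225
theorem N26299 : nd 26299 = n42226 := ndS (p := 25323) (l := 7) rfl N25323 D42226
theorem N26300 : nd 26300 = n42227 := ndS (p := 25324) (l := 9) rfl N25324 D42227
theorem N26301 : nd 26301 = n42228 := ndS (p := 25327) (l := 9) rfl N25327 D42228
theorem N26302 : nd 26302 = n42229 := ndS (p := 25329) (l := 9) rfl N25329 D42229
theorem N26303 : nd 26303 = n42230 := ndS (p := 25330) (l := 8) rfl N25330 D42230
theorem N26304 : nd 26304 = n42231 := ndS (p := 25332) (l := 5) rfl N25332 D42231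
theorem N26305 : nd 26305 = n42232 := ndS (p := 25333) (l := 4) rfl N25333 D42232
theorem N26306 : nd 26306 = n42233 := ndS (p := 25335) (l := 9) rfl N25335 D42233
theorem N26307 : nd 26307 = n42234 := ndS (p := 25336) (l := 8) rfl N25336 D42234
theorem N26308 : nd 26308 = n42235 := ndS (p := 25337) (l := 9) rfl N25337 D42235
theorem N26309 : nd 26309 = n42236 := ndS (p := 25338) (l := 9) rfl N25338 D42236
theorem N26310 : nd 26310 = n42237 := ndS (p := 25340) (l := 9) rfl N25340 D42237
theorem N26311 : nd 26311 = n42238 := ndS (p := 25341) (l := 8) rfl N25341 D42238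
theorem N26312 : nd 26312 = n42239 := ndS (p := 25342) (l := 8) rfl N25342 D42239
theorem N26313 : nd 26313 = n42240 := ndS (p := 25344) (l := 9) rfl N25344 D42240
theorem N26314 : nd 26314 = n42241 := ndS (p := 25346) (l := 9) rfl N25346 D42241
theorem N26315 : nd 26315 = n42242 := ndS (p := 25348) (l := 7) rfl N25348 D42242
theorem N26316 : nd 26316 = n42243 := ndS (p := 25348) (l := 9) rfl N25348 D42243
theorem N26317 : nd 26317 = n42244 := ndS (p := 25349) (l := 8) rfl N25349 D42244
theorem N26318 : nd 26318 = n42245 := ndS (p := 25350) (l := 9) rfl N25350 D42245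
theorem N26319 : nd 26319 = n42246 := ndS (p := 25355) (l := 8) rfl N25355 D42246
theorem N26320 : nd 26320 = n42247 := ndS (p := 25356) (l := 5) rfl N25356 D42247
theorem N26321 : nd 26321 = n42248 := ndS (p := 25356) (l := 9) rfl N25356 D42248
theorem N26322 : nd 26322 = n42249 := ndS (p := 25357) (l := 4) rfl N25357 D42249
theorem N26323 : nd 26323 = n42250 := ndS (p := 25358) (l := 4) rfl N25358 D42250
theorem N26324 : nd 26324 = n42251 := ndS (p := 25358) (l := 6) rfl N25358 D42251
theorem N26325 : nd 26325 = n42252 := ndS (p := 25358) (l := 9) rfl N25358 D42252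
theorem N26326 : nd 26326 = n42253 := ndS (p := 25360) (l := 3) rfl N25360 D42253
theorem N26327 : nd 26327 = n42254 := ndS (p := 25360) (l := 6) rfl N25360 D42254
theorem N26328 : nd 26328 = n42255 := ndS (p := 25360) (l := 9) rfl N25360 D42255
theorem N26329 : nd 26329 = n42256 := ndS (p := 25362) (l := 8) rfl N25362 D42256
theorem N26330 : nd 26330 = n42257 := ndS (p := 25363) (l := 2) rfl N25363 D42257
theorem N26331 : nd 26331 = n42258 := ndS (p := 25363) (l := 9) rfl N25363 D42258
theorem N26332 : nd 26332 = n42259 := ndS (p := 25364) (l := 8) rfl N25364 D42259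
theorem N26333 : nd 26333 = n42260 := ndS (p := 25366) (l := 3) rfl N25366 D42260
theorem N26334 : nd 26334 = n42261 := ndS (p := 25366) (l := 6) rfl N25366 D42261
theorem N26335 : nd 26335 = n42262 := ndS (p := 25366) (l := 9) rfl N25366 D42262
theorem N26336 : nd 26336 = n42263 := ndS (p := 25367) (l := 7) rfl N25367 D42263
theorem N26337 : nd 26337 = n42264 := ndS (p := 25367) (l := 9) rfl N25367 D42264
theorem N26338 : nd 26338 = n42265 := ndS (p := 25368) (l := 8) rfl N25368 D42265
theorem N26339 : nd 26339 = n42266 := ndS (p := 25369) (l := 2) rfl N25369 D42266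
theorem N26340 : nd 26340 = n42267 := ndS (p := 25369) (l := 6) rfl N25369 D42267
theorem N26341 : nd 26341 = n42268 := ndS (p := 25369) (l := 9) rfl N25369 D42268
theorem N26342 : nd 26342 = n42269 := ndS (p := 25370) (l := 7) rfl N25370 D42269
theorem N26343 : nd 26343 = n42270 := ndS (p := 25370) (l := 9) rfl N25370 D42270
theorem N26344 : nd 26344 = n42271 := ndS (p := 25371) (l := 8) rfl N25371 D42271
theorem N26345 : nd 26345 = n42272 := ndS (p := 25373) (l := 8) rfl N25373 D42272
theorem N26346 : nd 26346 = n42273 := ndS (p := 25375) (l := 1) rfl N25375 D42273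
theorem N26347 : nd 26347 = n42274 := ndS (p := 25375) (l := 9) rfl N25375 D42274
theorem N26348 : nd 26348 = n42275 := ndS (p := 25377) (l := 5) rfl N25377 D42275
theorem N26349 : nd 26349 = n42276 := ndS (p := 25380) (l := 5) rfl N25380 D42276
theorem N26350 : nd 26350 = n42277 := ndS (p := 25380) (l := 9) rfl N25380 D42277
theorem N26351 : nd 26351 = n42278 := ndS (p := 25382) (l := 3) rfl N25382 D42278
theorem N26352 : nd 26352 = n42279 := ndS (p := 25382) (l := 6) rfl N25382 D42279
theorem N26353 : nd 26353 = n42280 := ndS (p := 25382) (l := 9) rfl N25382 D42280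
theorem N26354 : nd 26354 = n42281 := ndS (p := 25383) (l := 7) rfl N25383 D42281
theorem N26355 : nd 26355 = n42282 := ndS (p := 25383) (l := 9) rfl N25383 D42282
theorem N26356 : nd 26356 = n42283 := ndS (p := 25385) (l := 6) rfl N25385 D42283
theorem N26357 : nd 26357 = n42284 := ndS (p := 25386) (l := 7) rfl N25386 D42284
theorem N26358 : nd 26358 = n42285 := ndS (p := 25388) (l := 5) rfl N25388 D42285
theorem N26359 : nd 26359 = n42286 := ndS (p := 25388) (l := 7) rfl N25388 D42286
theorem N26360 : nd 26360 = n42287 := ndS (p := 25388) (l := 9) rfl N25388 D42287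
theorem N26361 : nd 26361 = n42288 := ndS (p := 25389) (l := 8) rfl N25389 D42288
theorem N26362 : nd 26362 = n42289 := ndS (p := 25390) (l := 9) rfl N25390 D42289
theorem N26363 : nd 26363 = n42290 := ndS (p := 25391) (l := 8) rfl N25391 D42290
theorem N26364 : nd 26364 = n42291 := ndS (p := 25393) (l := 9) rfl N25393 D42291
theorem N26365 : nd 26365 = n42292 := ndS (p := 25394) (l := 8) rfl N25394 D42292
theorem N26366 : nd 26366 = n42293 := ndS (p := 25396) (l := 8) rfl N25396 D42293
theorem N26367 : nd 26367 = n42294 := ndS (p := 25398) (l := 4) rfl N25398 D42294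
theorem N26368 : nd 26368 = n42295 := ndS (p := 25398) (l := 6) rfl N25398 D42295
theorem N26369 : nd 26369 = n42296 := ndS (p := 25398) (l := 9) rfl N25398 D42296
theorem N26370 : nd 26370 = n42297 := ndS (p := 25400) (l := 3) rfl N25400 D42297
theorem N26371 : nd 26371 = n42298 := ndS (p := 25400) (l := 6) rfl N25400 D42298
theorem N26372 : nd 26372 = n42299 := ndS (p := 25400) (l := 9) rfl N25400 D42299
theorem N26373 : nd 26373 = n42300 := ndS (p := 25401) (l := 7) rfl N25401 D42300
theorem N26374 : nd 26374 = n42301 := ndS (p := 25401) (l := 9) rfl N25401 D42301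
theorem N26375 : nd 26375 = n42302 := ndS (p := 25403) (l := 6) rfl N25403 D42302
theorem N26376 : nd 26376 = n42303 := ndS (p := 25404) (l := 7) rfl N25404 D42303
theorem N26377 : nd 26377 = n42304 := ndS (p := 25406) (l := 2) rfl N25406 D42304
theorem N26378 : nd 26378 = n42305 := ndS (p := 25406) (l := 6) rfl N25406 D42305
theorem N26379 : nd 26379 = n42306 := ndS (p := 25406) (l := 9) rfl N25406 D42306
theorem N26380 : nd 26380 = n42307 := ndS (p := 25407) (l := 5) rfl N25407 D42307
theorem N26381 : nd 26381 = n42308 := ndS (p := 25407) (l := 7) rfl N25407 D42308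
theorem N26382 : nd 26382 = n42309 := ndS (p := 25407) (l := 9) rfl N25407 D42309
theorem N26383 : nd 26383 = n42310 := ndS (p := 25409) (l := 9) rfl N25409 D42310
theorem N26384 : nd 26384 = n42311 := ndS (p := 25411) (l := 6) rfl N25411 D42311
theorem N26385 : nd 26385 = n42312 := ndS (p := 25412) (l := 7) rfl N25412 D42312
theorem N26386 : nd 26386 = n42313 := ndS (p := 25414) (l := 6) rfl N25414 D42313
theorem N26387 : nd 26387 = n42314 := ndS (p := 25414) (l := 9) rfl N25414 D42314
theorem N26388 : nd 26388 = n42315 := ndS (p := 25415) (l := 5) rfl N25415 D42315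
theorem N26389 : nd 26389 = n42316 := ndS (p := 25415) (l := 7) rfl N25415 D42316
theorem N26390 : nd 26390 = n42317 := ndS (p := 25415) (l := 9) rfl N25415 D42317
theorem N26391 : nd 26391 = n42318 := ndS (p := 25416) (l := 8) rfl N25416 D42318
theorem N26392 : nd 26392 = n42319 := ndS (p := 25417) (l := 7) rfl N25417 D42319
theorem N26393 : nd 26393 = n42320 := ndS (p := 25417) (l := 9) rfl N25417 D42320
theorem N26394 : nd 26394 = n42321 := ndS (p := 25418) (l := 9) rfl N25418 D42321
theorem N26395 : nd 26395 = n42322 := ndS (p := 25419) (l := 8) rfl N25419 D42322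
theorem N26396 : nd 26396 = n42323 := ndS (p := 25421) (l := 8) rfl N25421 D42323
theorem N26397 : nd 26397 = n42324 := ndS (p := 25423) (l := 7) rfl N25423 D42324
theorem N26398 : nd 26398 = n42325 := ndS (p := 25424) (l := 9) rfl N25424 D42325
theorem N26399 : nd 26399 = n42326 := ndS (p := 25425) (l := 8) rfl N25425 D42326
theorem N26400 : nd 26400 = n42327 := ndS (p := 25427) (l := 8) rfl N25427 D42327
theorem N26401 : nd 26401 = n42328 := ndS (p := 25430) (l := 6) rfl N25430 D42328
theorem N26402 : nd 26402 = n42329 := ndS (p := 25431) (l := 5) rfl N25431 D42329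
theorem N26403 : nd 26403 = n42330 := ndS (p := 25431) (l := 7) rfl N25431 D42330
theorem N26404 : nd 26404 = n42331 := ndS (p := 25432) (l := 7) rfl N25432 D42331
theorem N26405 : nd 26405 = n42332 := ndS (p := 25434) (l := 7) rfl N25434 D42332
theorem N26406 : nd 26406 = n42333 := ndS (p := 25436) (l := 5) rfl N25436 D42333
theorem N26407 : nd 26407 = n42334 := ndS (p := 25437) (l := 7) rfl N25437 D42334
theorem N26408 : nd 26408 = n42335 := ndS (p := 25439) (l := 6) rfl N25439 D42335
theorem N26409 : nd 26409 = n42336 := ndS (p := 25442) (l := 6) rfl N25442 D42336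
theorem N26410 : nd 26410 = n42337 := ndS (p := 25443) (l := 6) rfl N25443 D42337
theorem N26411 : nd 26411 = n42338 := ndS (p := 25444) (l := 7) rfl N25444 D42338
theorem N26412 : nd 26412 = n42339 := ndS (p := 25446) (l := 9) rfl N25446 D42339
theorem N26413 : nd 26413 = n42340 := ndS (p := 25447) (l := 8) rfl N25447 D42340
theorem N26414 : nd 26414 = n42341 := ndS (p := 25448) (l := 9) rfl N25448 D42341
theorem N26415 : nd 26415 = n42342 := ndS (p := 25450) (l := 9) rfl N25450 D42342
theorem N26416 : nd 26416 = n42343 := ndS (p := 25452) (l := 8) rfl N25452 D42343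
theorem N26417 : nd 26417 = n42344 := ndS (p := 25453) (l := 5) rfl N25453 D42344
theorem N26418 : nd 26418 = n42345 := ndS (p := 25453) (l := 9) rfl N25453 D42345
theorem N26419 : nd 26419 = n42346 := ndS (p := 25454) (l := 4) rfl N25454 D42346
theorem N26420 : nd 26420 = n42347 := ndS (p := 25455) (l := 4) rfl N25455 D42347
theorem N26421 : nd 26421 = n42348 := ndS (p := 25455) (l := 6) rfl N25455 D42348
theorem N26422 : nd 26422 = n42349 := ndS (p := 25455) (l := 9) rfl N25455 D42349
theorem N26423 : nd 26423 = n42350 := ndS (p := 25457) (l := 3) rfl N25457 D42350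
theorem N26424 : nd 26424 = n42351 := ndS (p := 25457) (l := 6) rfl N25457 D42351
theorem N26425 : nd 26425 = n42352 := ndS (p := 25457) (l := 9) rfl N25457 D42352
theorem N26426 : nd 26426 = n42353 := ndS (p := 25459) (l := 8) rfl N25459 D42353
theorem N26427 : nd 26427 = n42354 := ndS (p := 25460) (l := 2) rfl N25460 D42354
theorem N26428 : nd 26428 = n42355 := ndS (p := 25460) (l := 9) rfl N25460 D42355
theorem N26429 : nd 26429 = n42356 := ndS (p := 25461) (l := 8) rfl N25461 D42356
theorem N26430 : nd 26430 = n42357 := ndS (p := 25463) (l := 3) rfl N25463 D42357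
theorem N26431 : nd 26431 = n42358 := ndS (p := 25463) (l := 6) rfl N25463 D42358
theorem N26432 : nd 26432 = n42359 := ndS (p := 25463) (l := 9) rfl N25463 D42359
theorem N26433 : nd 26433 = n42360 := ndS (p := 25464) (l := 7) rfl N25464 D42360
theorem N26434 : nd 26434 = n42361 := ndS (p := 25464) (l := 9) rfl N25464 D42361
theorem N26435 : nd 26435 = n42362 := ndS (p := 25465) (l := 8) rfl N25465 D42362
theorem N26436 : nd 26436 = n42363 := ndS (p := 25466) (l := 2) rfl N25466 D42363
theorem N26437 : nd 26437 = n42364 := ndS (p := 25466) (l := 6) rfl N25466 D42364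
theorem N26438 : nd 26438 = n42365 := ndS (p := 25467) (l := 7) rfl N25467 D42365
theorem N26439 : nd 26439 = n42366 := ndS (p := 25467) (l := 9) rfl N25467 D42366
theorem N26440 : nd 26440 = n42367 := ndS (p := 25468) (l := 8) rfl N25468 D42367
theorem N26441 : nd 26441 = n42368 := ndS (p := 25470) (l := 8) rfl N25470 D42368
theorem N26442 : nd 26442 = n42369 := ndS (p := 25473) (l := 5) rfl N25473 D42369
theorem N26443 : nd 26443 = n42370 := ndS (p := 25474) (l := 5) rfl N25474 D42370
theorem N26444 : nd 26444 = n42371 := ndS (p := 25474) (l := 9) rfl N25474 D42371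
theorem N26445 : nd 26445 = n42372 := ndS (p := 25475) (l := 4) rfl N25475 D42372
theorem N26446 : nd 26446 = n42373 := ndS (p := 25475) (l := 9) rfl N25475 D42373
theorem N26447 : nd 26447 = n42374 := ndS (p := 25477) (l := 3) rfl N25477 D42374
theorem N26448 : nd 26448 = n42375 := ndS (p := 25478) (l := 3) rfl N25478 D42375
theorem N26449 : nd 26449 = n42376 := ndS (p := 25478) (l := 9) rfl N25478 D42376
theorem N26450 : nd 26450 = n42377 := ndS (p := 25479) (l := 8) rfl N25479 D42377
theorem N26451 : nd 26451 = n42378 := ndS (p := 25480) (l := 2) rfl N25480 D42378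
theorem N26452 : nd 26452 = n42379 := ndS (p := 25480) (l := 9) rfl N25480 D42379
theorem N26453 : nd 26453 = n42380 := ndS (p := 25481) (l := 8) rfl N25481 D42380
theorem N26454 : nd 26454 = n42381 := ndS (p := 25485) (l := 5) rfl N25485 D42381
theorem N26455 : nd 26455 = n42382 := ndS (p := 25486) (l := 2) rfl N25486 D42382
theorem N26456 : nd 26456 = n42383 := ndS (p := 25486) (l := 9) rfl N25486 D42383
theorem N26457 : nd 26457 = n42384 := ndS (p := 25487) (l := 7) rfl N25487 D42384
theorem N26458 : nd 26458 = n42385 := ndS (p := 25487) (l := 9) rfl N25487 D42385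
theorem N26459 : nd 26459 = n42386 := ndS (p := 25488) (l := 8) rfl N25488 D42386
theorem N26460 : nd 26460 = n42387 := ndS (p := 25489) (l := 9) rfl N25489 D42387
theorem N26461 : nd 26461 = n42388 := ndS (p := 25494) (l := 5) rfl N25494 D42388
theorem N26462 : nd 26462 = n42389 := ndS (p := 25496) (l := 8) rfl N25496 D42389
theorem N26463 : nd 26463 = n42390 := ndS (p := 25497) (l := 5) rfl N25497 D42390
theorem N26464 : nd 26464 = n42391 := ndS (p := 25497) (l := 9) rfl N25497 D42391
theorem N26465 : nd 26465 = n42392 := ndS (p := 25498) (l := 4) rfl N25498 D42392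
theorem N26466 : nd 26466 = n42393 := ndS (p := 25499) (l := 4) rfl N25499 D42393
theorem N26467 : nd 26467 = n42394 := ndS (p := 25499) (l := 6) rfl N25499 D42394
theorem N26468 : nd 26468 = n42395 := ndS (p := 25499) (l := 9) rfl N25499 D42395
theorem N26469 : nd 26469 = n42396 := ndS (p := 25501) (l := 3) rfl N25501 D42396
theorem N26470 : nd 26470 = n42397 := ndS (p := 25501) (l := 6) rfl N25501 D42397
theorem N26471 : nd 26471 = n42398 := ndS (p := 25503) (l := 8) rfl N25503 D42398
theorem N26472 : nd 26472 = n42399 := ndS (p := 25504) (l := 2) rfl N25504 D42399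
theorem N26473 : nd 26473 = n42400 := ndS (p := 25505) (l := 3) rfl N25505 D42400
theorem N26474 : nd 26474 = n42401 := ndS (p := 25505) (l := 6) rfl N25505 D42401
theorem N26475 : nd 26475 = n42402 := ndS (p := 25505) (l := 9) rfl N25505 D42402
theorem N26476 : nd 26476 = n42403 := ndS (p := 25506) (l := 7) rfl N25506 D42403
theorem N26477 : nd 26477 = n42404 := ndS (p := 25506) (l := 9) rfl N25506 D42404
theorem N26478 : nd 26478 = n42405 := ndS (p := 25507) (l := 8) rfl N25507 D42405
theorem N26479 : nd 26479 = n42406 := ndS (p := 25508) (l := 2) rfl N25508 D42406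
theorem N26480 : nd 26480 = n42407 := ndS (p := 25508) (l := 6) rfl N25508 D42407
theorem N26481 : nd 26481 = n42408 := ndS (p := 25509) (l := 7) rfl N25509 D42408
theorem N26482 : nd 26482 = n42409 := ndS (p := 25511) (l := 8) rfl N25511 D42409
theorem N26483 : nd 26483 = n42410 := ndS (p := 25515) (l := 3) rfl N25515 D42410
theorem N26484 : nd 26484 = n42411 := ndS (p := 25515) (l := 6) rfl N25515 D42411
theorem N26485 : nd 26485 = n42412 := ndS (p := 25515) (l := 9) rfl N25515 D42412
theorem N26486 : nd 26486 = n42413 := ndS (p := 25516) (l := 9) rfl N25516 D42413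
theorem N26487 : nd 26487 = n42414 := ndS (p := 25518) (l := 6) rfl N25518 D42414
theorem N26488 : nd 26488 = n42415 := ndS (p := 25520) (l := 8) rfl N25520 D42415
theorem N26489 : nd 26489 = n42416 := ndS (p := 25521) (l := 8) rfl N25521 D42416
theorem N26490 : nd 26490 = n42417 := ndS (p := 25522) (l := 5) rfl N25522 D42417
theorem N26491 : nd 26491 = n42418 := ndS (p := 25522) (l := 9) rfl N25522 D42418
theorem N26492 : nd 26492 = n42419 := ndS (p := 25524) (l := 8) rfl N25524 D42419
theorem N26493 : nd 26493 = n42420 := ndS (p := 25525) (l := 9) rfl N25525 D42420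
theorem N26494 : nd 26494 = n42421 := ndS (p := 25526) (l := 4) rfl N25526 D42421
theorem N26495 : nd 26495 = n42422 := ndS (p := 25526) (l := 6) rfl N25526 D42422
theorem N26496 : nd 26496 = n42423 := ndS (p := 25526) (l := 9) rfl N25526 D42423
theorem N26497 : nd 26497 = n42424 := ndS (p := 25530) (l := 6) rfl N25530 D42424
theorem N26498 : nd 26498 = n42425 := ndS (p := 25530) (l := 9) rfl N25530 D42425
theorem N26499 : nd 26499 = n42426 := ndS (p := 25531) (l := 7) rfl N25531 D42426
theorem N26500 : nd 26500 = n42427 := ndS (p := 25531) (l := 9) rfl N25531 D42427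
theorem N26501 : nd 26501 = n42428 := ndS (p := 25532) (l := 8) rfl N25532 D42428
theorem N26502 : nd 26502 = n42429 := ndS (p := 25533) (l := 7) rfl N25533 D42429
theorem N26503 : nd 26503 = n42430 := ndS (p := 25534) (l := 8) rfl N25534 D42430
theorem N26504 : nd 26504 = n42431 := ndS (p := 25536) (l := 8) rfl N25536 D42431
theorem N26505 : nd 26505 = n42432 := ndS (p := 25538) (l := 8) rfl N25538 D42432
theorem N26506 : nd 26506 = n42433 := ndS (p := 25539) (l := 5) rfl N25539 D42433
theorem N26507 : nd 26507 = n42434 := ndS (p := 25539) (l := 9) rfl N25539 D42434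
theorem N26508 : nd 26508 = n42435 := ndS (p := 25541) (l := 8) rfl N25541 D42435
theorem N26509 : nd 26509 = n42436 := ndS (p := 25542) (l := 5) rfl N25542 D42436
theorem N26510 : nd 26510 = n42437 := ndS (p := 25542) (l := 9) rfl N25542 D42437
theorem N26511 : nd 26511 = n42438 := ndS (p := 25544) (l := 4) rfl N25544 D42438
theorem N26512 : nd 26512 = n42439 := ndS (p := 25544) (l := 6) rfl N25544 D42439
theorem N26513 : nd 26513 = n42440 := ndS (p := 25544) (l := 9) rfl N25544 D42440
theorem N26514 : nd 26514 = n42441 := ndS (p := 25546) (l := 6) rfl N25546 D42441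
theorem N26515 : nd 26515 = n42442 := ndS (p := 25546) (l := 9) rfl N25546 D42442
theorem N26516 : nd 26516 = n42443 := ndS (p := 25548) (l := 8) rfl N25548 D42443
theorem N26517 : nd 26517 = n42444 := ndS (p := 25550) (l := 5) rfl N25550 D42444
theorem N26518 : nd 26518 = n42445 := ndS (p := 25550) (l := 9) rfl N25550 D42445
theorem N26519 : nd 26519 = n42446 := ndS (p := 25551) (l := 6) rfl N25551 D42446
theorem N26520 : nd 26520 = n42447 := ndS (p := 25551) (l := 9) rfl N25551 D42447
theorem N26521 : nd 26521 = n42448 := ndS (p := 25554) (l := 3) rfl N25554 D42448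
theorem N26522 : nd 26522 = n42449 := ndS (p := 25554) (l := 6) rfl N25554 D42449
theorem N26523 : nd 26523 = n42450 := ndS (p := 25554) (l := 9) rfl N25554 D42450
theorem N26524 : nd 26524 = n42451 := ndS (p := 25555) (l := 7) rfl N25555 D42451
theorem N26525 : nd 26525 = n42452 := ndS (p := 25555) (l := 9) rfl N25555 D42452
theorem N26526 : nd 26526 = n42453 := ndS (p := 25556) (l := 8) rfl N25556 D42453
theorem N26527 : nd 26527 = n42454 := ndS (p := 25557) (l := 6) rfl N25557 D42454
theorem N26528 : nd 26528 = n42455 := ndS (p := 25558) (l := 7) rfl N25558 D42455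
theorem N26529 : nd 26529 = n42456 := ndS (p := 25558) (l := 9) rfl N25558 D42456
theorem N26530 : nd 26530 = n42457 := ndS (p := 25559) (l := 8) rfl N25559 D42457
theorem N26531 : nd 26531 = n42458 := ndS (p := 25561) (l := 8) rfl N25561 D42458
theorem N26532 : nd 26532 = n42459 := ndS (p := 25563) (l := 6) rfl N25563 D42459
theorem N26533 : nd 26533 = n42460 := ndS (p := 25563) (l := 9) rfl N25563 D42460
theorem N26534 : nd 26534 = n42461 := ndS (p := 25564) (l := 5) rfl N25564 D42461
theorem N26535 : nd 26535 = n42462 := ndS (p := 25564) (l := 7) rfl N25564 D42462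
theorem N26536 : nd 26536 = n42463 := ndS (p := 25564) (l := 9) rfl N25564 D42463
theorem N26537 : nd 26537 = n42464 := ndS (p := 25565) (l := 8) rfl N25565 D42464
theorem N26538 : nd 26538 = n42465 := ndS (p := 25566) (l := 9) rfl N25566 D42465
theorem N26539 : nd 26539 = n42466 := ndS (p := 25567) (l := 8) rfl N25567 D42466
theorem N26540 : nd 26540 = n42467 := ndS (p := 25571) (l := 8) rfl N25571 D42467
theorem N26541 : nd 26541 = n42468 := ndS (p := 25573) (l := 8) rfl N25573 D42468
theorem N26542 : nd 26542 = n42469 := ndS (p := 25574) (l := 5) rfl N25574 D42469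
theorem N26543 : nd 26543 = n42470 := ndS (p := 25575) (l := 4) rfl N25575 D42470
theorem N26544 : nd 26544 = n42471 := ndS (p := 25576) (l := 9) rfl N25576 D42471
theorem N26545 : nd 26545 = n42472 := ndS (p := 25578) (l := 3) rfl N25578 D42472
theorem N26546 : nd 26546 = n42473 := ndS (p := 25578) (l := 9) rfl N25578 D42473
theorem N26547 : nd 26547 = n42474 := ndS (p := 25582) (l := 9) rfl N25582 D42474
theorem N26548 : nd 26548 = n42475 := ndS (p := 25584) (l := 2) rfl N25584 D42475
theorem N26549 : nd 26549 = n42476 := ndS (p := 25584) (l := 9) rfl N25584 D42476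
theorem N26550 : nd 26550 = n42477 := ndS (p := 25585) (l := 8) rfl N25585 D42477
theorem N26551 : nd 26551 = n42478 := ndS (p := 25588) (l := 8) rfl N25588 D42478
theorem N26552 : nd 26552 = n42479 := ndS (p := 25590) (l := 9) rfl N25590 D42479
theorem N26553 : nd 26553 = n42480 := ndS (p := 25591) (l := 9) rfl N25591 D42480
theorem N26554 : nd 26554 = n42481 := ndS (p := 25592) (l := 4) rfl N25592 D42481
theorem N26555 : nd 26555 = n42482 := ndS (p := 25592) (l := 6) rfl N25592 D42482
theorem N26556 : nd 26556 = n42483 := ndS (p := 25592) (l := 9) rfl N25592 D42483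
theorem N26557 : nd 26557 = n42484 := ndS (p := 25594) (l := 6) rfl N25594 D42484
theorem N26558 : nd 26558 = n42485 := ndS (p := 25596) (l := 9) rfl N25596 D42485
theorem N26559 : nd 26559 = n42486 := ndS (p := 25597) (l := 9) rfl N25597 D42486
theorem N26560 : nd 26560 = n42487 := ndS (p := 25599) (l := 3) rfl N25599 D42487
theorem N26561 : nd 26561 = n42488 := ndS (p := 25599) (l := 6) rfl N25599 D42488
theorem N26562 : nd 26562 = n42489 := ndS (p := 25599) (l := 9) rfl N25599 D42489
theorem N26563 : nd 26563 = n42490 := ndS (p := 25600) (l := 7) rfl N25600 D42490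
theorem N26564 : nd 26564 = n42491 := ndS (p := 25600) (l := 9) rfl N25600 D42491
theorem N26565 : nd 26565 = n42492 := ndS (p := 25601) (l := 8) rfl N25601 D42492
theorem N26566 : nd 26566 = n42493 := ndS (p := 25602) (l := 6) rfl N25602 D42493
theorem N26567 : nd 26567 = n42494 := ndS (p := 25603) (l := 7) rfl N25603 D42494
theorem N26568 : nd 26568 = n42495 := ndS (p := 25603) (l := 9) rfl N25603 D42495
theorem N26569 : nd 26569 = n42496 := ndS (p := 25604) (l := 8) rfl N25604 D42496
theorem N26570 : nd 26570 = n42497 := ndS (p := 25606) (l := 8) rfl N25606 D42497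
theorem N26571 : nd 26571 = n42498 := ndS (p := 25608) (l := 6) rfl N25608 D42498
theorem N26572 : nd 26572 = n42499 := ndS (p := 25608) (l := 9) rfl N25608 D42499
theorem N26573 : nd 26573 = n42500 := ndS (p := 25609) (l := 5) rfl N25609 D42500
theorem N26574 : nd 26574 = n42501 := ndS (p := 25609) (l := 7) rfl N25609 D42501
theorem N26575 : nd 26575 = n42502 := ndS (p := 25609) (l := 9) rfl N25609 D42502
theorem N26576 : nd 26576 = n42503 := ndS (p := 25610) (l := 8) rfl N25610 D42503
theorem N26577 : nd 26577 = n42504 := ndS (p := 25611) (l := 9) rfl N25611 D42504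
theorem N26578 : nd 26578 = n42505 := ndS (p := 25612) (l := 8) rfl N25612 D42505
theorem N26579 : nd 26579 = n42506 := ndS (p := 25614) (l := 6) rfl N25614 D42506
theorem N26580 : nd 26580 = n42507 := ndS (p := 25615) (l := 7) rfl N25615 D42507
theorem N26581 : nd 26581 = n42508 := ndS (p := 25615) (l := 9) rfl N25615 D42508
theorem N26582 : nd 26582 = n42509 := ndS (p := 25616) (l := 8) rfl N25616 D42509
theorem N26583 : nd 26583 = n42510 := ndS (p := 25617) (l := 9) rfl N25617 D42510
theorem N26584 : nd 26584 = n42511 := ndS (p := 25618) (l := 8) rfl N25618 D42511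
theorem N26585 : nd 26585 = n42512 := ndS (p := 25619) (l := 5) rfl N25619 D42512
theorem N26586 : nd 26586 = n42513 := ndS (p := 25620) (l := 8) rfl N25620 D42513
theorem N26587 : nd 26587 = n42514 := ndS (p := 25621) (l := 5) rfl N25621 D42514
theorem N26588 : nd 26588 = n42515 := ndS (p := 25622) (l := 4) rfl N25622 D42515
theorem N26589 : nd 26589 = n42516 := ndS (p := 25623) (l := 6) rfl N25623 D42516
theorem N26590 : nd 26590 = n42517 := ndS (p := 25624) (l := 9) rfl N25624 D42517
theorem N26591 : nd 26591 = n42518 := ndS (p := 25625) (l := 9) rfl N25625 D42518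
theorem N26592 : nd 26592 = n42519 := ndS (p := 25627) (l := 5) rfl N25627 D42519
theorem N26593 : nd 26593 = n42520 := ndS (p := 25627) (l := 9) rfl N25627 D42520
theorem N26594 : nd 26594 = n42521 := ndS (p := 25628) (l := 4) rfl N25628 D42521
theorem N26595 : nd 26595 = n42522 := ndS (p := 25629) (l := 4) rfl N25629 D42522
theorem N26596 : nd 26596 = n42523 := ndS (p := 25629) (l := 9) rfl N25629 D42523
theorem N26597 : nd 26597 = n42524 := ndS (p := 25632) (l := 9) rfl N25632 D42524
theorem N26598 : nd 26598 = n42525 := ndS (p := 25633) (l := 8) rfl N25633 D42525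
theorem N26599 : nd 26599 = n42526 := ndS (p := 25634) (l := 8) rfl N25634 D42526
theorem N26600 : nd 26600 = n42527 := ndS (p := 25636) (l := 6) rfl N25636 D42527
theorem N26601 : nd 26601 = n42528 := ndS (p := 25636) (l := 9) rfl N25636 D42528
theorem N26602 : nd 26602 = n42529 := ndS (p := 25638) (l := 6) rfl N25638 D42529
theorem N26603 : nd 26603 = n42530 := ndS (p := 25638) (l := 9) rfl N25638 D42530
theorem N26604 : nd 26604 = n42531 := ndS (p := 25639) (l := 7) rfl N25639 D42531
theorem N26605 : nd 26605 = n42532 := ndS (p := 25639) (l := 9) rfl N25639 D42532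
theorem N26606 : nd 26606 = n42533 := ndS (p := 25640) (l := 8) rfl N25640 D42533
theorem N26607 : nd 26607 = n42534 := ndS (p := 25641) (l := 7) rfl N25641 D42534
theorem N26608 : nd 26608 = n42535 := ndS (p := 25641) (l := 9) rfl N25641 D42535
theorem N26609 : nd 26609 = n42536 := ndS (p := 25642) (l := 8) rfl N25642 D42536
theorem N26610 : nd 26610 = n42537 := ndS (p := 25644) (l := 8) rfl N25644 D42537
theorem N26611 : nd 26611 = n42538 := ndS (p := 25646) (l := 6) rfl N25646 D42538
theorem N26612 : nd 26612 = n42539 := ndS (p := 25646) (l := 9) rfl N25646 D42539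
theorem N26613 : nd 26613 = n42540 := ndS (p := 25647) (l := 7) rfl N25647 D42540
theorem N26614 : nd 26614 = n42541 := ndS (p := 25647) (l := 9) rfl N25647 D42541
theorem N26615 : nd 26615 = n42542 := ndS (p := 25648) (l := 8) rfl N25648 D42542
theorem N26616 : nd 26616 = n42543 := ndS (p := 25649) (l := 9) rfl N25649 D42543
theorem N26617 : nd 26617 = n42544 := ndS (p := 25650) (l := 8) rfl N25650 D42544
theorem N26618 : nd 26618 = n42545 := ndS (p := 25652) (l := 7) rfl N25652 D42545
theorem N26619 : nd 26619 = n42546 := ndS (p := 25655) (l := 8) rfl N25655 D42546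
theorem N26620 : nd 26620 = n42547 := ndS (p := 25656) (l := 5) rfl N25656 D42547
theorem N26621 : nd 26621 = n42548 := ndS (p := 25657) (l := 4) rfl N25657 D42548
theorem N26622 : nd 26622 = n42549 := ndS (p := 25659) (l := 9) rfl N25659 D42549
theorem N26623 : nd 26623 = n42550 := ndS (p := 25662) (l := 8) rfl N25662 D42550
theorem N26624 : nd 26624 = n42551 := ndS (p := 25663) (l := 5) rfl N25663 D42551
theorem N26625 : nd 26625 = n42552 := ndS (p := 25665) (l := 4) rfl N25665 D42552
theorem N26626 : nd 26626 = n42553 := ndS (p := 25669) (l := 3) rfl N25669 D42553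
theorem N26627 : nd 26627 = n42554 := ndS (p := 25670) (l := 7) rfl N25670 D42554
theorem N26628 : nd 26628 = n42555 := ndS (p := 25672) (l := 9) rfl N25672 D42555
theorem N26629 : nd 26629 = n42556 := ndS (p := 25673) (l := 8) rfl N25673 D42556
theorem N26630 : nd 26630 = n42557 := ndS (p := 25674) (l := 9) rfl N25674 D42557
theorem N26631 : nd 26631 = n42558 := ndS (p := 25675) (l := 9) rfl N25675 D42558
theorem N26632 : nd 26632 = n42559 := ndS (p := 25678) (l := 4) rfl N25678 D42559
theorem N26633 : nd 26633 = n42560 := ndS (p := 25678) (l := 8) rfl N25678 D42560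
theorem N26634 : nd 26634 = n42561 := ndS (p := 25679) (l := 9) rfl N25679 D42561
theorem N26635 : nd 26635 = n42562 := ndS (p := 25680) (l := 8) rfl N25680 D42562
theorem N26636 : nd 26636 = n42563 := ndS (p := 25681) (l := 9) rfl N25681 D42563
theorem N26637 : nd 26637 = n42564 := ndS (p := 25682) (l := 9) rfl N25682 D42564
theorem N26638 : nd 26638 = n42565 := ndS (p := 25684) (l := 7) rfl N25684 D42565
theorem N26639 : nd 26639 = n42566 := ndS (p := 25684) (l := 9) rfl N25684 D42566
theorem N26640 : nd 26640 = n42567 := ndS (p := 25685) (l := 8) rfl N25685 D42567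
theorem N26641 : nd 26641 = n42568 := ndS (p := 25688) (l := 9) rfl N25688 D42568
theorem N26642 : nd 26642 = n42569 := ndS (p := 25689) (l := 8) rfl N25689 D42569
theorem N26643 : nd 26643 = n42570 := ndS (p := 25690) (l := 9) rfl N25690 D42570
theorem N26644 : nd 26644 = n42571 := ndS (p := 25691) (l := 9) rfl N25691 D42571
theorem N26645 : nd 26645 = n42572 := ndS (p := 25693) (l := 3) rfl N25693 D42572
theorem N26646 : nd 26646 = n42573 := ndS (p := 25693) (l := 9) rfl N25693 D42573
theorem N26647 : nd 26647 = n42574 := ndS (p := 25694) (l := 9) rfl N25694 D42574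
theorem N26648 : nd 26648 = n42575 := ndS (p := 25696) (l := 2) rfl N25696 D42575
theorem N26649 : nd 26649 = n42576 := ndS (p := 25698) (l := 8) rfl N25698 D42576
theorem N26650 : nd 26650 = n42577 := ndS (p := 25699) (l := 9) rfl N25699 D42577
theorem N26651 : nd 26651 = n42578 := ndS (p := 25701) (l := 5) rfl N25701 D42578
theorem N26652 : nd 26652 = n42579 := ndS (p := 25701) (l := 9) rfl N25701 D42579
theorem N26653 : nd 26653 = n42580 := ndS (p := 25704) (l := 8) rfl N25704 D42580
theorem N26654 : nd 26654 = n42581 := ndS (p := 25705) (l := 9) rfl N25705 D42581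
theorem N26655 : nd 26655 = n42582 := ndS (p := 25708) (l := 9) rfl N25708 D42582
theorem N26656 : nd 26656 = n42583 := ndS (p := 25709) (l := 4) rfl N25709 D42583
theorem N26657 : nd 26657 = n42584 := ndS (p := 25709) (l := 8) rfl N25709 D42584
theorem N26658 : nd 26658 = n42585 := ndS (p := 25710) (l := 8) rfl N25710 D42585
theorem N26659 : nd 26659 = n42586 := ndS (p := 25711) (l := 5) rfl N25711 D42586
theorem N26660 : nd 26660 = n42587 := ndS (p := 25711) (l := 9) rfl N25711 D42587
theorem N26661 : nd 26661 = n42588 := ndS (p := 25713) (l := 9) rfl N25713 D42588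
theorem N26662 : nd 26662 = n42589 := ndS (p := 25715) (l := 5) rfl N25715 D42589
theorem N26663 : nd 26663 = n42590 := ndS (p := 25715) (l := 9) rfl N25715 D42590
theorem N26664 : nd 26664 = n42591 := ndS (p := 25716) (l := 4) rfl N25716 D42591
theorem N26665 : nd 26665 = n42592 := ndS (p := 25716) (l := 9) rfl N25716 D42592
theorem N26666 : nd 26666 = n42593 := ndS (p := 25719) (l := 9) rfl N25719 D42593
theorem N26667 : nd 26667 = n42594 := ndS (p := 25720) (l := 8) rfl N25720 D42594
theorem N26668 : nd 26668 = n42595 := ndS (p := 25722) (l := 9) rfl N25722 D42595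
theorem N26669 : nd 26669 = n42596 := ndS (p := 25724) (l := 9) rfl N25724 D42596
theorem N26670 : nd 26670 = n42597 := ndS (p := 25725) (l := 8) rfl N25725 D42597
theorem N26671 : nd 26671 = n42598 := ndS (p := 25728) (l := 9) rfl N25728 D42598
theorem N26672 : nd 26672 = n42599 := ndS (p := 25729) (l := 8) rfl N25729 D42599
theorem N26673 : nd 26673 = n42600 := ndS (p := 25730) (l := 9) rfl N25730 D42600
theorem N26674 : nd 26674 = n42601 := ndS (p := 25732) (l := 6) rfl N25732 D42601
theorem N26675 : nd 26675 = n42602 := ndS (p := 25732) (l := 9) rfl N25732 D42602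
theorem N26676 : nd 26676 = n42603 := ndS (p := 25733) (l := 9) rfl N25733 D42603
theorem N26677 : nd 26677 = n42604 := ndS (p := 25734) (l := 8) rfl N25734 D42604
theorem N26678 : nd 26678 = n42605 := ndS (p := 25736) (l := 8) rfl N25736 D42605
theorem N26679 : nd 26679 = n42606 := ndS (p := 25738) (l := 5) rfl N25738 D42606
theorem N26680 : nd 26680 = n42607 := ndS (p := 25738) (l := 9) rfl N25738 D42607
theorem N26681 : nd 26681 = n42608 := ndS (p := 25743) (l := 5) rfl N25743 D42608
theorem N26682 : nd 26682 = n42609 := ndS (p := 25743) (l := 9) rfl N25743 D42609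
theorem N26683 : nd 26683 = n42610 := ndS (p := 25744) (l := 4) rfl N25744 D42610
theorem N26684 : nd 26684 = n42611 := ndS (p := 25744) (l := 9) rfl N25744 D42611
theorem N26685 : nd 26685 = n42612 := ndS (p := 25746) (l := 3) rfl N25746 D42612
theorem N26686 : nd 26686 = n42613 := ndS (p := 25747) (l := 3) rfl N25747 D42613
theorem N26687 : nd 26687 = n42614 := ndS (p := 25747) (l := 9) rfl N25747 D42614
theorem N26688 : nd 26688 = n42615 := ndS (p := 25749) (l := 2) rfl N25749 D42615
theorem N26689 : nd 26689 = n42616 := ndS (p := 25750) (l := 1) rfl N25750 D42616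
theorem N26690 : nd 26690 = n42617 := ndS (p := 25751) (l := 2) rfl N25751 D42617
theorem N26691 : nd 26691 = n42618 := ndS (p := 25751) (l := 6) rfl N25751 D42618
theorem N26692 : nd 26692 = n42619 := ndS (p := 25751) (l := 9) rfl N25751 D42619
theorem N26693 : nd 26693 = n42620 := ndS (p := 25752) (l := 7) rfl N25752 D42620
theorem N26694 : nd 26694 = n42621 := ndS (p := 25752) (l := 9) rfl N25752 D42621
theorem N26695 : nd 26695 = n42622 := ndS (p := 25754) (l := 9) rfl N25754 D42622
theorem N26696 : nd 26696 = n42623 := ndS (p := 25757) (l := 1) rfl N25757 D42623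
theorem N26697 : nd 26697 = n42624 := ndS (p := 25757) (l := 6) rfl N25757 D42624
theorem N26698 : nd 26698 = n42625 := ndS (p := 25758) (l := 7) rfl N25758 D42625
theorem N26699 : nd 26699 = n42626 := ndS (p := 25761) (l := 8) rfl N25761 D42626
theorem N26700 : nd 26700 = n42627 := ndS (p := 25762) (l := 9) rfl N25762 D42627
theorem N26701 : nd 26701 = n42628 := ndS (p := 25764) (l := 8) rfl N25764 D42628
theorem N26702 : nd 26702 = n42629 := ndS (p := 25765) (l := 5) rfl N25765 D42629
theorem N26703 : nd 26703 = n42630 := ndS (p := 25765) (l := 9) rfl N25765 D42630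
theorem N26704 : nd 26704 = n42631 := ndS (p := 25766) (l := 4) rfl N25766 D42631
theorem N26705 : nd 26705 = n42632 := ndS (p := 25767) (l := 5) rfl N25767 D42632
theorem N26706 : nd 26706 = n42633 := ndS (p := 25767) (l := 9) rfl N25767 D42633
theorem N26707 : nd 26707 = n42634 := ndS (p := 25768) (l := 4) rfl N25768 D42634
theorem N26708 : nd 26708 = n42635 := ndS (p := 25768) (l := 9) rfl N25768 D42635
theorem N26709 : nd 26709 = n42636 := ndS (p := 25772) (l := 4) rfl N25772 D42636
theorem N26710 : nd 26710 = n42637 := ndS (p := 25772) (l := 6) rfl N25772 D42637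
theorem N26711 : nd 26711 = n42638 := ndS (p := 25772) (l := 9) rfl N25772 D42638
theorem N26712 : nd 26712 = n42639 := ndS (p := 25774) (l := 9) rfl N25774 D42639
theorem N26713 : nd 26713 = n42640 := ndS (p := 25779) (l := 8) rfl N25779 D42640
theorem N26714 : nd 26714 = n42641 := ndS (p := 25780) (l := 9) rfl N25780 D42641
theorem N26715 : nd 26715 = n42642 := ndS (p := 25781) (l := 4) rfl N25781 D42642
theorem N26716 : nd 26716 = n42643 := ndS (p := 25781) (l := 9) rfl N25781 D42643
theorem N26717 : nd 26717 = n42644 := ndS (p := 25784) (l := 5) rfl N25784 D42644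
theorem N26718 : nd 26718 = n42645 := ndS (p := 25784) (l := 9) rfl N25784 D42645
theorem N26719 : nd 26719 = n42646 := ndS (p := 25785) (l := 4) rfl N25785 D42646
theorem N26720 : nd 26720 = n42647 := ndS (p := 25785) (l := 9) rfl N25785 D42647
theorem N26721 : nd 26721 = n42648 := ndS (p := 25787) (l := 3) rfl N25787 D42648
theorem N26722 : nd 26722 = n42649 := ndS (p := 25788) (l := 3) rfl N25788 D42649
theorem N26723 : nd 26723 = n42650 := ndS (p := 25788) (l := 9) rfl N25788 D42650
theorem N26724 : nd 26724 = n42651 := ndS (p := 25789) (l := 8) rfl N25789 D42651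
theorem N26725 : nd 26725 = n42652 := ndS (p := 25790) (l := 2) rfl N25790 D42652
theorem N26726 : nd 26726 = n42653 := ndS (p := 25790) (l := 9) rfl N25790 D42653
theorem N26727 : nd 26727 = n42654 := ndS (p := 25791) (l := 8) rfl N25791 D42654
theorem N26728 : nd 26728 = n42655 := ndS (p := 25794) (l := 8) rfl N25794 D42655
theorem N26729 : nd 26729 = n42656 := ndS (p := 25795) (l := 5) rfl N25795 D42656
theorem N26730 : nd 26730 = n42657 := ndS (p := 25796) (l := 2) rfl N25796 D42657
theorem N26731 : nd 26731 = n42658 := ndS (p := 25796) (l := 6) rfl N25796 D42658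
theorem N26732 : nd 26732 = n42659 := ndS (p := 25796) (l := 9) rfl N25796 D42659
theorem N26733 : nd 26733 = n42660 := ndS (p := 25797) (l := 7) rfl N25797 D42660
theorem N26734 : nd 26734 = n42661 := ndS (p := 25797) (l := 9) rfl N25797 D42661
theorem N26735 : nd 26735 = n42662 := ndS (p := 25798) (l := 8) rfl N25798 D42662
theorem N26736 : nd 26736 = n42663 := ndS (p := 25799) (l := 9) rfl N25799 D42663
theorem N26737 : nd 26737 = n42664 := ndS (p := 25800) (l := 8) rfl N25800 D42664
theorem N26738 : nd 26738 = n42665 := ndS (p := 25802) (l := 6) rfl N25802 D42665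
theorem N26739 : nd 26739 = n42666 := ndS (p := 25803) (l := 7) rfl N25803 D42666
theorem N26740 : nd 26740 = n42667 := ndS (p := 25803) (l := 9) rfl N25803 D42667
theorem N26741 : nd 26741 = n42668 := ndS (p := 25804) (l := 8) rfl N25804 D42668
theorem N26742 : nd 26742 = n42669 := ndS (p := 25806) (l := 8) rfl N25806 D42669
theorem N26743 : nd 26743 = n42670 := ndS (p := 25807) (l := 5) rfl N25807 D42670
theorem N26744 : nd 26744 = n42671 := ndS (p := 25810) (l := 9) rfl N25810 D42671
theorem N26745 : nd 26745 = n42672 := ndS (p := 25811) (l := 9) rfl N25811 D42672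
theorem N26746 : nd 26746 = n42673 := ndS (p := 25813) (l := 6) rfl N25813 D42673
theorem N26747 : nd 26747 = n42674 := ndS (p := 25813) (l := 9) rfl N25813 D42674
theorem N26748 : nd 26748 = n42675 := ndS (p := 25814) (l := 9) rfl N25814 D42675
theorem N26749 : nd 26749 = n42676 := ndS (p := 25815) (l := 8) rfl N25815 D42676
theorem N26750 : nd 26750 = n42677 := ndS (p := 25818) (l := 6) rfl N25818 D42677
theorem N26751 : nd 26751 = n42678 := ndS (p := 25818) (l := 9) rfl N25818 D42678
theorem N26752 : nd 26752 = n42679 := ndS (p := 25819) (l := 5) rfl N25819 D42679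
theorem N26753 : nd 26753 = n42680 := ndS (p := 25819) (l := 7) rfl N25819 D42680
theorem N26754 : nd 26754 = n42681 := ndS (p := 25819) (l := 9) rfl N25819 D42681
theorem N26755 : nd 26755 = n42682 := ndS (p := 25820) (l := 8) rfl N25820 D42682
theorem N26756 : nd 26756 = n42683 := ndS (p := 25821) (l := 9) rfl N25821 D42683
theorem N26757 : nd 26757 = n42684 := ndS (p := 25822) (l := 8) rfl N25822 D42684
theorem N26758 : nd 26758 = n42685 := ndS (p := 25824) (l := 7) rfl N25824 D42685
theorem N26759 : nd 26759 = n42686 := ndS (p := 25826) (l := 8) rfl N25826 D42686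
theorem N26760 : nd 26760 = n42687 := ndS (p := 25829) (l := 3) rfl N25829 D42687
theorem N26761 : nd 26761 = n42688 := ndS (p := 25829) (l := 8) rfl N25829 D42688
theorem N26762 : nd 26762 = n42689 := ndS (p := 25830) (l := 9) rfl N25830 D42689
theorem N26763 : nd 26763 = n42690 := ndS (p := 25831) (l := 9) rfl N25831 D42690
theorem N26764 : nd 26764 = n42691 := ndS (p := 25832) (l := 9) rfl N25832 D42691
theorem N26765 : nd 26765 = n42692 := ndS (p := 25834) (l := 8) rfl N25834 D42692
theorem N26766 : nd 26766 = n42693 := ndS (p := 25837) (l := 8) rfl N25837 D42693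
theorem N26767 : nd 26767 = n42694 := ndS (p := 25840) (l := 9) rfl N25840 D42694
theorem N26768 : nd 26768 = n42695 := ndS (p := 25844) (l := 5) rfl N25844 D42695
theorem N26769 : nd 26769 = n42696 := ndS (p := 25845) (l := 4) rfl N25845 D42696
theorem N26770 : nd 26770 = n42697 := ndS (p := 25847) (l := 8) rfl N25847 D42697
theorem N26771 : nd 26771 = n42698 := ndS (p := 25848) (l := 9) rfl N25848 D42698
theorem N26772 : nd 26772 = n42699 := ndS (p := 25850) (l := 9) rfl N25850 D42699
theorem N26773 : nd 26773 = n42700 := ndS (p := 25852) (l := 9) rfl N25852 D42700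
theorem N26774 : nd 26774 = n42701 := ndS (p := 25854) (l := 9) rfl N25854 D42701
theorem N26775 : nd 26775 = n42702 := ndS (p := 25855) (l := 5) rfl N25855 D42702
theorem N26776 : nd 26776 = n42703 := ndS (p := 25855) (l := 9) rfl N25855 D42703
theorem N26777 : nd 26777 = n42704 := ndS (p := 25856) (l := 8) rfl N25856 D42704
theorem N26778 : nd 26778 = n42705 := ndS (p := 25862) (l := 9) rfl N25862 D42705
theorem N26779 : nd 26779 = n42706 := ndS (p := 25864) (l := 8) rfl N25864 D42706
theorem N26780 : nd 26780 = n42707 := ndS (p := 25866) (l := 9) rfl N25866 D42707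
theorem N26781 : nd 26781 = n42708 := ndS (p := 25867) (l := 8) rfl N25867 D42708
theorem N26782 : nd 26782 = n42709 := ndS (p := 25870) (l := 6) rfl N25870 D42709
theorem N26783 : nd 26783 = n42710 := ndS (p := 25870) (l := 9) rfl N25870 D42710
theorem N26784 : nd 26784 = n42711 := ndS (p := 25871) (l := 7) rfl N25871 D42711
theorem N26785 : nd 26785 = n42712 := ndS (p := 25871) (l := 9) rfl N25871 D42712
theorem N26786 : nd 26786 = n42713 := ndS (p := 25873) (l := 9) rfl N25873 D42713
theorem N26787 : nd 26787 = n42714 := ndS (p := 25874) (l := 8) rfl N25874 D42714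
theorem N26788 : nd 26788 = n42715 := ndS (p := 25876) (l := 8) rfl N25876 D42715
theorem N26789 : nd 26789 = n42716 := ndS (p := 25878) (l := 7) rfl N25878 D42716
theorem N26790 : nd 26790 = n42717 := ndS (p := 25880) (l := 8) rfl N25880 D42717
theorem N26791 : nd 26791 = n42718 := ndS (p := 25883) (l := 8) rfl N25883 D42718
theorem N26792 : nd 26792 = n42719 := ndS (p := 25884) (l := 9) rfl N25884 D42719
theorem N26793 : nd 26793 = n42720 := ndS (p := 25885) (l := 4) rfl N25885 D42720
theorem N26794 : nd 26794 = n42721 := ndS (p := 25885) (l := 9) rfl N25885 D42721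
theorem N26795 : nd 26795 = n42722 := ndS (p := 25889) (l := 6) rfl N25889 D42722
theorem N26796 : nd 26796 = n42723 := ndS (p := 25889) (l := 9) rfl N25889 D42723
theorem N26797 : nd 26797 = n42724 := ndS (p := 25890) (l := 9) rfl N25890 D42724
theorem N26798 : nd 26798 = n42725 := ndS (p := 25891) (l := 8) rfl N25891 D42725
theorem N26799 : nd 26799 = n42726 := ndS (p := 25893) (l := 8) rfl N25893 D42726
theorem N26800 : nd 26800 = n42727 := ndS (p := 25895) (l := 9) rfl N25895 D42727
theorem N26801 : nd 26801 = n42728 := ndS (p := 25898) (l := 7) rfl N25898 D42728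
theorem N26802 : nd 26802 = n42729 := ndS (p := 25898) (l := 9) rfl N25898 D42729
theorem N26803 : nd 26803 = n42730 := ndS (p := 25900) (l := 5) rfl N25900 D42730
theorem N26804 : nd 26804 = n42731 := ndS (p := 25900) (l := 7) rfl N25900 D42731
theorem N26805 : nd 26805 = n42732 := ndS (p := 25900) (l := 9) rfl N25900 D42732
theorem N26806 : nd 26806 = n42733 := ndS (p := 25901) (l := 8) rfl N25901 D42733
theorem N26807 : nd 26807 = n42734 := ndS (p := 25902) (l := 9) rfl N25902 D42734
theorem N26808 : nd 26808 = n42735 := ndS (p := 25913) (l := 7) rfl N25913 D42735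
theorem N26809 : nd 26809 = n42736 := ndS (p := 25917) (l := 7) rfl N25917 D42736
theorem N26810 : nd 26810 = n42737 := ndS (p := 25919) (l := 8) rfl N25919 D42737
theorem N26811 : nd 26811 = n42738 := ndS (p := 25920) (l := 9) rfl N25920 D42738
theorem N26812 : nd 26812 = n42739 := ndS (p := 25922) (l := 5) rfl N25922 D42739
theorem N26813 : nd 26813 = n42740 := ndS (p := 25922) (l := 9) rfl N25922 D42740
theorem N26814 : nd 26814 = n42741 := ndS (p := 25926) (l := 8) rfl N25926 D42741
theorem N26815 : nd 26815 = n42742 := ndS (p := 25927) (l := 9) rfl N25927 D42742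
theorem N26816 : nd 26816 = n42743 := ndS (p := 25928) (l := 9) rfl N25928 D42743
theorem N26817 : nd 26817 = n42744 := ndS (p := 25930) (l := 6) rfl N25930 D42744
theorem N26818 : nd 26818 = n42745 := ndS (p := 25930) (l := 9) rfl N25930 D42745
theorem N26819 : nd 26819 = n42746 := ndS (p := 25934) (l := 7) rfl N25934 D42746
theorem N26820 : nd 26820 = n42747 := ndS (p := 25936) (l := 8) rfl N25936 D42747
theorem N26821 : nd 26821 = n42748 := ndS (p := 25940) (l := 5) rfl N25940 D42748
theorem N26822 : nd 26822 = n42749 := ndS (p := 25940) (l := 9) rfl N25940 D42749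
theorem N26823 : nd 26823 = n42750 := ndS (p := 25942) (l := 5) rfl N25942 D42750
theorem N26824 : nd 26824 = n42751 := ndS (p := 25942) (l := 9) rfl N25942 D42751
theorem N26825 : nd 26825 = n42752 := ndS (p := 25943) (l := 8) rfl N25943 D42752
theorem N26826 : nd 26826 = n42753 := ndS (p := 25947) (l := 6) rfl N25947 D42753
theorem N26827 : nd 26827 = n42754 := ndS (p := 25947) (l := 9) rfl N25947 D42754
theorem N26828 : nd 26828 = n42755 := ndS (p := 25949) (l := 9) rfl N25949 D42755
theorem N26829 : nd 26829 = n42756 := ndS (p := 25950) (l := 8) rfl N25950 D42756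
theorem N26830 : nd 26830 = n42757 := ndS (p := 25953) (l := 8) rfl N25953 D42757
theorem N26831 : nd 26831 = n42758 := ndS (p := 25954) (l := 9) rfl N25954 D42758
theorem N26832 : nd 26832 = n42759 := ndS (p := 25956) (l := 5) rfl N25956 D42759
theorem N26833 : nd 26833 = n42760 := ndS (p := 25956) (l := 9) rfl N25956 D42760
theorem N26834 : nd 26834 = n42761 := ndS (p := 25957) (l := 4) rfl N25957 D42761
theorem N26835 : nd 26835 = n42762 := ndS (p := 25957) (l := 9) rfl N25957 D42762
theorem N26836 : nd 26836 = n42763 := ndS (p := 25959) (l := 3) rfl N25959 D42763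
theorem N26837 : nd 26837 = n42764 := ndS (p := 25960) (l := 3) rfl N25960 D42764
theorem N26838 : nd 26838 = n42765 := ndS (p := 25960) (l := 6) rfl N25960 D42765
theorem N26839 : nd 26839 = n42766 := ndS (p := 25960) (l := 9) rfl N25960 D42766
theorem N26840 : nd 26840 = n42767 := ndS (p := 25961) (l := 9) rfl N25961 D42767
theorem N26841 : nd 26841 = n42768 := ndS (p := 25962) (l := 8) rfl N25962 D42768
theorem N26842 : nd 26842 = n42769 := ndS (p := 25963) (l := 2) rfl N25963 D42769
theorem N26843 : nd 26843 = n42770 := ndS (p := 25963) (l := 6) rfl N25963 D42770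
theorem N26844 : nd 26844 = n42771 := ndS (p := 25963) (l := 9) rfl N25963 D42771
theorem N26845 : nd 26845 = n42772 := ndS (p := 25965) (l := 8) rfl N25965 D42772
theorem N26846 : nd 26846 = n42773 := ndS (p := 25967) (l := 1) rfl N25967 D42773
theorem N26847 : nd 26847 = n42774 := ndS (p := 25967) (l := 9) rfl N25967 D42774
theorem N26848 : nd 26848 = n42775 := ndS (p := 25969) (l := 5) rfl N25969 D42775
theorem N26849 : nd 26849 = n42776 := ndS (p := 25970) (l := 2) rfl N25970 D42776
theorem N26850 : nd 26850 = n42777 := ndS (p := 25970) (l := 6) rfl N25970 D42777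
theorem N26851 : nd 26851 = n42778 := ndS (p := 25970) (l := 9) rfl N25970 D42778
theorem N26852 : nd 26852 = n42779 := ndS (p := 25971) (l := 5) rfl N25971 D42779
theorem N26853 : nd 26853 = n42780 := ndS (p := 25971) (l := 7) rfl N25971 D42780
theorem N26854 : nd 26854 = n42781 := ndS (p := 25971) (l := 9) rfl N25971 D42781
theorem N26855 : nd 26855 = n42782 := ndS (p := 25972) (l := 8) rfl N25972 D42782
theorem N26856 : nd 26856 = n42783 := ndS (p := 25973) (l := 9) rfl N25973 D42783
theorem N26857 : nd 26857 = n42784 := ndS (p := 25976) (l := 6) rfl N25976 D42784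
theorem N26858 : nd 26858 = n42785 := ndS (p := 25976) (l := 9) rfl N25976 D42785
theorem N26859 : nd 26859 = n42786 := ndS (p := 25977) (l := 7) rfl N25977 D42786
theorem N26860 : nd 26860 = n42787 := ndS (p := 25978) (l := 8) rfl N25978 D42787
theorem N26861 : nd 26861 = n42788 := ndS (p := 25980) (l := 5) rfl N25980 D42788
theorem N26862 : nd 26862 = n42789 := ndS (p := 25983) (l := 3) rfl N25983 D42789
theorem N26863 : nd 26863 = n42790 := ndS (p := 25983) (l := 8) rfl N25983 D42790
theorem N26864 : nd 26864 = n42791 := ndS (p := 25984) (l := 9) rfl N25984 D42791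
theorem N26865 : nd 26865 = n42792 := ndS (p := 25985) (l := 5) rfl N25985 D42792
theorem N26866 : nd 26866 = n42793 := ndS (p := 25985) (l := 9) rfl N25985 D42793
theorem N26867 : nd 26867 = n42794 := ndS (p := 25987) (l := 3) rfl N25987 D42794
theorem N26868 : nd 26868 = n42795 := ndS (p := 25987) (l := 6) rfl N25987 D42795
theorem N26869 : nd 26869 = n42796 := ndS (p := 25987) (l := 9) rfl N25987 D42796
theorem N26870 : nd 26870 = n42797 := ndS (p := 25988) (l := 9) rfl N25988 D42797
theorem N26871 : nd 26871 = n42798 := ndS (p := 25990) (l := 2) rfl N25990 D42798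
theorem N26872 : nd 26872 = n42799 := ndS (p := 25990) (l := 6) rfl N25990 D42799
theorem N26873 : nd 26873 = n42800 := ndS (p := 25993) (l := 6) rfl N25993 D42800
theorem N26874 : nd 26874 = n42801 := ndS (p := 25993) (l := 9) rfl N25993 D42801
theorem N26875 : nd 26875 = n42802 := ndS (p := 25995) (l := 6) rfl N25995 D42802
theorem N26876 : nd 26876 = n42803 := ndS (p := 25995) (l := 9) rfl N25995 D42803
theorem N26877 : nd 26877 = n42804 := ndS (p := 25996) (l := 5) rfl N25996 D42804
theorem N26878 : nd 26878 = n42805 := ndS (p := 25996) (l := 7) rfl N25996 D42805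
theorem N26879 : nd 26879 = n42806 := ndS (p := 25996) (l := 9) rfl N25996 D42806
theorem N26880 : nd 26880 = n42807 := ndS (p := 25998) (l := 9) rfl N25998 D42807
theorem N26881 : nd 26881 = n42808 := ndS (p := 26000) (l := 7) rfl N26000 D42808
theorem N26882 : nd 26882 = n42809 := ndS (p := 26002) (l := 7) rfl N26002 D42809
theorem N26883 : nd 26883 = n42810 := ndS (p := 26002) (l := 9) rfl N26002 D42810
theorem N26884 : nd 26884 = n42811 := ndS (p := 26003) (l := 9) rfl N26003 D42811
theorem N26885 : nd 26885 = n42812 := ndS (p := 26007) (l := 8) rfl N26007 D42812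
theorem N26886 : nd 26886 = n42813 := ndS (p := 26008) (l := 5) rfl N26008 D42813
theorem N26887 : nd 26887 = n42814 := ndS (p := 26008) (l := 9) rfl N26008 D42814
theorem N26888 : nd 26888 = n42815 := ndS (p := 26010) (l := 9) rfl N26010 D42815
theorem N26889 : nd 26889 = n42816 := ndS (p := 26012) (l := 2) rfl N26012 D42816
theorem N26890 : nd 26890 = n42817 := ndS (p := 26012) (l := 9) rfl N26012 D42817
theorem N26891 : nd 26891 = n42818 := ndS (p := 26015) (l := 6) rfl N26015 D42818
theorem N26892 : nd 26892 = n42819 := ndS (p := 26015) (l := 9) rfl N26015 D42819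
theorem N26893 : nd 26893 = n42820 := ndS (p := 26016) (l := 7) rfl N26016 D42820
theorem N26894 : nd 26894 = n42821 := ndS (p := 26016) (l := 9) rfl N26016 D42821
theorem N26895 : nd 26895 = n42822 := ndS (p := 26017) (l := 8) rfl N26017 D42822
theorem N26896 : nd 26896 = n42823 := ndS (p := 26018) (l := 6) rfl N26018 D42823
theorem N26897 : nd 26897 = n42824 := ndS (p := 26018) (l := 9) rfl N26018 D42824
theorem N26898 : nd 26898 = n42825 := ndS (p := 26019) (l := 5) rfl N26019 D42825
theorem N26899 : nd 26899 = n42826 := ndS (p := 26019) (l := 7) rfl N26019 D42826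
theorem N26900 : nd 26900 = n42827 := ndS (p := 26019) (l := 9) rfl N26019 D42827
theorem N26901 : nd 26901 = n42828 := ndS (p := 26021) (l := 9) rfl N26021 D42828
theorem N26902 : nd 26902 = n42829 := ndS (p := 26023) (l := 7) rfl N26023 D42829
theorem N26903 : nd 26903 = n42830 := ndS (p := 26025) (l := 6) rfl N26025 D42830
theorem N26904 : nd 26904 = n42831 := ndS (p := 26026) (l := 7) rfl N26026 D42831
theorem N26905 : nd 26905 = n42832 := ndS (p := 26026) (l := 9) rfl N26026 D42832
theorem N26906 : nd 26906 = n42833 := ndS (p := 26028) (l := 9) rfl N26028 D42833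
theorem N26907 : nd 26907 = n42834 := ndS (p := 26029) (l := 8) rfl N26029 D42834
theorem N26908 : nd 26908 = n42835 := ndS (p := 26031) (l := 8) rfl N26031 D42835
theorem N26909 : nd 26909 = n42836 := ndS (p := 26033) (l := 7) rfl N26033 D42836
theorem N26910 : nd 26910 = n42837 := ndS (p := 26035) (l := 8) rfl N26035 D42837
theorem N26911 : nd 26911 = n42838 := ndS (p := 26038) (l := 9) rfl N26038 D42838
theorem N26912 : nd 26912 = n42839 := ndS (p := 26039) (l := 7) rfl N26039 D42839
theorem N26913 : nd 26913 = n42840 := ndS (p := 26039) (l := 9) rfl N26039 D42840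
theorem N26914 : nd 26914 = n42841 := ndS (p := 26041) (l := 9) rfl N26041 D42841
theorem N26915 : nd 26915 = n42842 := ndS (p := 26042) (l := 8) rfl N26042 D42842
theorem N26916 : nd 26916 = n42843 := ndS (p := 26044) (l := 8) rfl N26044 D42843
theorem N26917 : nd 26917 = n42844 := ndS (p := 26053) (l := 5) rfl N26053 D42844
theorem N26918 : nd 26918 = n42845 := ndS (p := 26054) (l := 6) rfl N26054 D42845
theorem N26919 : nd 26919 = n42846 := ndS (p := 26055) (l := 7) rfl N26055 D42846
theorem N26920 : nd 26920 = n42847 := ndS (p := 26057) (l := 7) rfl N26057 D42847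
theorem N26921 : nd 26921 = n42848 := ndS (p := 26063) (l := 9) rfl N26063 D42848
theorem N26922 : nd 26922 = n42849 := ndS (p := 26065) (l := 9) rfl N26065 D42849
theorem N26923 : nd 26923 = n42850 := ndS (p := 26067) (l := 7) rfl N26067 D42850
theorem N26924 : nd 26924 = n42851 := ndS (p := 26067) (l := 9) rfl N26067 D42851
theorem N26925 : nd 26925 = n42852 := ndS (p := 26068) (l := 8) rfl N26068 D42852
theorem N26926 : nd 26926 = n42853 := ndS (p := 26069) (l := 9) rfl N26069 D42853
theorem N26927 : nd 26927 = n42854 := ndS (p := 26075) (l := 9) rfl N26075 D42854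
theorem N26928 : nd 26928 = n42855 := ndS (p := 26077) (l := 6) rfl N26077 D42855
theorem N26929 : nd 26929 = n42856 := ndS (p := 26077) (l := 9) rfl N26077 D42856
theorem N26930 : nd 26930 = n42857 := ndS (p := 26078) (l := 9) rfl N26078 D42857
theorem N26931 : nd 26931 = n42858 := ndS (p := 26081) (l := 6) rfl N26081 D42858
theorem N26932 : nd 26932 = n42859 := ndS (p := 26081) (l := 9) rfl N26081 D42859
theorem N26933 : nd 26933 = n42860 := ndS (p := 26082) (l := 5) rfl N26082 D42860
theorem N26934 : nd 26934 = n42861 := ndS (p := 26082) (l := 7) rfl N26082 D42861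
theorem N26935 : nd 26935 = n42862 := ndS (p := 26082) (l := 9) rfl N26082 D42862
theorem N26936 : nd 26936 = n42863 := ndS (p := 26084) (l := 9) rfl N26084 D42863
theorem N26937 : nd 26937 = n42864 := ndS (p := 26086) (l := 7) rfl N26086 D42864
theorem N26938 : nd 26938 = n42865 := ndS (p := 26089) (l := 9) rfl N26089 D42865
theorem N26939 : nd 26939 = n42866 := ndS (p := 26094) (l := 8) rfl N26094 D42866
theorem N26940 : nd 26940 = n42867 := ndS (p := 26095) (l := 9) rfl N26095 D42867
theorem N26941 : nd 26941 = n42868 := ndS (p := 26097) (l := 5) rfl N26097 D42868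
theorem N26942 : nd 26942 = n42869 := ndS (p := 26097) (l := 9) rfl N26097 D42869
theorem N26943 : nd 26943 = n42870 := ndS (p := 26098) (l := 4) rfl N26098 D42870
theorem N26944 : nd 26944 = n42871 := ndS (p := 26098) (l := 9) rfl N26098 D42871
theorem N26945 : nd 26945 = n42872 := ndS (p := 26100) (l := 3) rfl N26100 D42872
theorem N26946 : nd 26946 = n42873 := ndS (p := 26101) (l := 3) rfl N26101 D42873
theorem N26947 : nd 26947 = n42874 := ndS (p := 26101) (l := 6) rfl N26101 D42874
theorem N26948 : nd 26948 = n42875 := ndS (p := 26101) (l := 9) rfl N26101 D42875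
theorem N26949 : nd 26949 = n42876 := ndS (p := 26102) (l := 9) rfl N26102 D42876
theorem N26950 : nd 26950 = n42877 := ndS (p := 26104) (l := 2) rfl N26104 D42877
theorem N26951 : nd 26951 = n42878 := ndS (p := 26104) (l := 6) rfl N26104 D42878
theorem N26952 : nd 26952 = n42879 := ndS (p := 26107) (l := 2) rfl N26107 D42879
theorem N26953 : nd 26953 = n42880 := ndS (p := 26107) (l := 6) rfl N26107 D42880
theorem N26954 : nd 26954 = n42881 := ndS (p := 26107) (l := 9) rfl N26107 D42881
theorem N26955 : nd 26955 = n42882 := ndS (p := 26108) (l := 5) rfl N26108 D42882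
theorem N26956 : nd 26956 = n42883 := ndS (p := 26108) (l := 7) rfl N26108 D42883
theorem N26957 : nd 26957 = n42884 := ndS (p := 26108) (l := 9) rfl N26108 D42884
theorem N26958 : nd 26958 = n42885 := ndS (p := 26110) (l := 9) rfl N26110 D42885
theorem N26959 : nd 26959 = n42886 := ndS (p := 26112) (l := 6) rfl N26112 D42886
theorem N26960 : nd 26960 = n42887 := ndS (p := 26113) (l := 7) rfl N26113 D42887
theorem N26961 : nd 26961 = n42888 := ndS (p := 26116) (l := 9) rfl N26116 D42888
theorem N26962 : nd 26962 = n42889 := ndS (p := 26118) (l := 9) rfl N26118 D42889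
theorem N26963 : nd 26963 = n42890 := ndS (p := 26120) (l := 6) rfl N26120 D42890
theorem N26964 : nd 26964 = n42891 := ndS (p := 26120) (l := 9) rfl N26120 D42891
theorem N26965 : nd 26965 = n42892 := ndS (p := 26123) (l := 6) rfl N26123 D42892
theorem N26966 : nd 26966 = n42893 := ndS (p := 26123) (l := 9) rfl N26123 D42893
theorem N26967 : nd 26967 = n42894 := ndS (p := 26124) (l := 5) rfl N26124 D42894
theorem N26968 : nd 26968 = n42895 := ndS (p := 26124) (l := 7) rfl N26124 D42895
theorem N26969 : nd 26969 = n42896 := ndS (p := 26124) (l := 9) rfl N26124 D42896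
theorem N26970 : nd 26970 = n42897 := ndS (p := 26125) (l := 8) rfl N26125 D42897
theorem N26971 : nd 26971 = n42898 := ndS (p := 26126) (l := 9) rfl N26126 D42898
theorem N26972 : nd 26972 = n42899 := ndS (p := 26127) (l := 8) rfl N26127 D42899
theorem N26973 : nd 26973 = n42900 := ndS (p := 26129) (l := 7) rfl N26129 D42900
theorem N26974 : nd 26974 = n42901 := ndS (p := 26131) (l := 8) rfl N26131 D42901
theorem N26975 : nd 26975 = n42902 := ndS (p := 26134) (l := 5) rfl N26134 D42902
theorem N26976 : nd 26976 = n42903 := ndS (p := 26134) (l := 9) rfl N26134 D42903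
theorem N26977 : nd 26977 = n42904 := ndS (p := 26136) (l := 7) rfl N26136 D42904
theorem N26978 : nd 26978 = n42905 := ndS (p := 26136) (l := 9) rfl N26136 D42905
theorem N26979 : nd 26979 = n42906 := ndS (p := 26137) (l := 9) rfl N26137 D42906
theorem N26980 : nd 26980 = n42907 := ndS (p := 26138) (l := 8) rfl N26138 D42907
theorem N26981 : nd 26981 = n42908 := ndS (p := 26141) (l := 5) rfl N26141 D42908
theorem N26982 : nd 26982 = n42909 := ndS (p := 26142) (l := 5) rfl N26142 D42909
theorem N26983 : nd 26983 = n42910 := ndS (p := 26143) (l := 4) rfl N26143 D42910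
theorem N26984 : nd 26984 = n42911 := ndS (p := 26145) (l := 6) rfl N26145 D42911
theorem N26985 : nd 26985 = n42912 := ndS (p := 26145) (l := 9) rfl N26145 D42912
theorem N26986 : nd 26986 = n42913 := ndS (p := 26146) (l := 7) rfl N26146 D42913
theorem N26987 : nd 26987 = n42914 := ndS (p := 26146) (l := 9) rfl N26146 D42914
theorem N26988 : nd 26988 = n42915 := ndS (p := 26148) (l := 9) rfl N26148 D42915
theorem N26989 : nd 26989 = n42916 := ndS (p := 26150) (l := 7) rfl N26150 D42916
theorem N26990 : nd 26990 = n42917 := ndS (p := 26154) (l := 9) rfl N26154 D42917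
theorem N26991 : nd 26991 = n42918 := ndS (p := 26155) (l := 7) rfl N26155 D42918
theorem N26992 : nd 26992 = n42919 := ndS (p := 26155) (l := 9) rfl N26155 D42919
theorem N26993 : nd 26993 = n42920 := ndS (p := 26156) (l := 8) rfl N26156 D42920
theorem N26994 : nd 26994 = n42921 := ndS (p := 26157) (l := 9) rfl N26157 D42921
theorem N26995 : nd 26995 = n42922 := ndS (p := 26165) (l := 9) rfl N26165 D42922
theorem N26996 : nd 26996 = n42923 := ndS (p := 26168) (l := 5) rfl N26168 D42923
theorem N26997 : nd 26997 = n42924 := ndS (p := 26168) (l := 7) rfl N26168 D42924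
theorem N26998 : nd 26998 = n42925 := ndS (p := 26168) (l := 9) rfl N26168 D42925
theorem N26999 : nd 26999 = n42926 := ndS (p := 26169) (l := 8) rfl N26169 D42926
theorem N27000 : nd 27000 = n42927 := ndS (p := 26170) (l := 7) rfl N26170 D42927
theorem N27001 : nd 27001 = n42928 := ndS (p := 26170) (l := 9) rfl N26170 D42928
theorem N27002 : nd 27002 = n42929 := ndS (p := 26171) (l := 9) rfl N26171 D42929
theorem N27003 : nd 27003 = n42930 := ndS (p := 26172) (l := 8) rfl N26172 D42930
theorem N27004 : nd 27004 = n42931 := ndS (p := 26173) (l := 5) rfl N26173 D42931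
theorem N27005 : nd 27005 = n42932 := ndS (p := 26174) (l := 8) rfl N26174 D42932
theorem N27006 : nd 27006 = n42933 := ndS (p := 26176) (l := 7) rfl N26176 D42933
theorem N27007 : nd 27007 = n42934 := ndS (p := 26177) (l := 9) rfl N26177 D42934
theorem N27008 : nd 27008 = n42935 := ndS (p := 26178) (l := 8) rfl N26178 D42935
theorem N27009 : nd 27009 = n42936 := ndS (p := 26180) (l := 8) rfl N26180 D42936
theorem N27010 : nd 27010 = n42937 := ndS (p := 26181) (l := 5) rfl N26181 D42937
theorem N27011 : nd 27011 = n42938 := ndS (p := 26182) (l := 6) rfl N26182 D42938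
theorem N27012 : nd 27012 = n42939 := ndS (p := 26184) (l := 7) rfl N26184 D42939
theorem N27013 : nd 27013 = n42940 := ndS (p := 26188) (l := 9) rfl N26188 D42940
theorem N27014 : nd 27014 = n42941 := ndS (p := 26191) (l := 7) rfl N26191 D42941
theorem N27015 : nd 27015 = n42942 := ndS (p := 26191) (l := 9) rfl N26191 D42942
theorem N27016 : nd 27016 = n42943 := ndS (p := 26193) (l := 5) rfl N26193 D42943
theorem N27017 : nd 27017 = n42944 := ndS (p := 26193) (l := 7) rfl N26193 D42944
theorem N27018 : nd 27018 = n42945 := ndS (p := 26193) (l := 9) rfl N26193 D42945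
theorem N27019 : nd 27019 = n42946 := ndS (p := 26195) (l := 9) rfl N26195 D42946
theorem N27020 : nd 27020 = n42947 := ndS (p := 26198) (l := 7) rfl N26198 D42947
theorem N27021 : nd 27021 = n42948 := ndS (p := 26198) (l := 9) rfl N26198 D42948
theorem N27022 : nd 27022 = n42949 := ndS (p := 26200) (l := 9) rfl N26200 D42949
theorem N27023 : nd 27023 = n42950 := ndS (p := 26205) (l := 6) rfl N26205 D42950
theorem N27024 : nd 27024 = n42951 := ndS (p := 26205) (l := 9) rfl N26205 D42951
theorem N27025 : nd 27025 = n42952 := ndS (p := 26212) (l := 7) rfl N26212 D42952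
theorem N27026 : nd 27026 = n42953 := ndS (p := 26212) (l := 9) rfl N26212 D42953
theorem N27027 : nd 27027 = n42954 := ndS (p := 26214) (l := 9) rfl N26214 D42954
theorem N27028 : nd 27028 = n42955 := ndS (p := 26219) (l := 5) rfl N26219 D42955
theorem N27029 : nd 27029 = n42956 := ndS (p := 26219) (l := 9) rfl N26219 D42956
theorem N27030 : nd 27030 = n42957 := ndS (p := 26221) (l := 5) rfl N26221 D42957
theorem N27031 : nd 27031 = n42958 := ndS (p := 26221) (l := 9) rfl N26221 D42958
theorem N27032 : nd 27032 = n42959 := ndS (p := 26225) (l := 4) rfl N26225 D42959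
theorem N27033 : nd 27033 = n42960 := ndS (p := 26225) (l := 9) rfl N26225 D42960
theorem N27034 : nd 27034 = n42961 := ndS (p := 26227) (l := 3) rfl N26227 D42961
theorem N27035 : nd 27035 = n42962 := ndS (p := 26227) (l := 9) rfl N26227 D42962
theorem N27036 : nd 27036 = n42963 := ndS (p := 26228) (l := 8) rfl N26228 D42963
theorem N27037 : nd 27037 = n42964 := ndS (p := 26229) (l := 2) rfl N26229 D42964
theorem N27038 : nd 27038 = n42965 := ndS (p := 26231) (l := 2) rfl N26231 D42965
theorem N27039 : nd 27039 = n42966 := ndS (p := 26231) (l := 9) rfl N26231 D42966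
theorem N27040 : nd 27040 = n42967 := ndS (p := 26232) (l := 8) rfl N26232 D42967
theorem N27041 : nd 27041 = n42968 := ndS (p := 26234) (l := 1) rfl N26234 D42968
theorem N27042 : nd 27042 = n42969 := ndS (p := 26234) (l := 9) rfl N26234 D42969
theorem N27043 : nd 27043 = n42970 := ndS (p := 26235) (l := 8) rfl N26235 D42970
theorem N27044 : nd 27044 = n42971 := ndS (p := 26236) (l := 5) rfl N26236 D42971
theorem N27045 : nd 27045 = n42972 := ndS (p := 26240) (l := 6) rfl N26240 D42972
theorem N27046 : nd 27046 = n42973 := ndS (p := 26240) (l := 9) rfl N26240 D42973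
theorem N27047 : nd 27047 = n42974 := ndS (p := 26241) (l := 7) rfl N26241 D42974
theorem N27048 : nd 27048 = n42975 := ndS (p := 26241) (l := 9) rfl N26241 D42975
theorem N27049 : nd 27049 = n42976 := ndS (p := 26242) (l := 8) rfl N26242 D42976
theorem N27050 : nd 27050 = n42977 := ndS (p := 26243) (l := 9) rfl N26243 D42977
theorem N27051 : nd 27051 = n42978 := ndS (p := 26244) (l := 8) rfl N26244 D42978
theorem N27052 : nd 27052 = n42979 := ndS (p := 26245) (l := 5) rfl N26245 D42979
theorem N27053 : nd 27053 = n42980 := ndS (p := 26246) (l := 8) rfl N26246 D42980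
theorem N27054 : nd 27054 = n42981 := ndS (p := 26247) (l := 5) rfl N26247 D42981
theorem N27055 : nd 27055 = n42982 := ndS (p := 26248) (l := 7) rfl N26248 D42982
theorem N27056 : nd 27056 = n42983 := ndS (p := 26249) (l := 8) rfl N26249 D42983
theorem N27057 : nd 27057 = n42984 := ndS (p := 26250) (l := 9) rfl N26250 D42984
theorem N27058 : nd 27058 = n42985 := ndS (p := 26251) (l := 8) rfl N26251 D42985
theorem N27059 : nd 27059 = n42986 := ndS (p := 26253) (l := 8) rfl N26253 D42986
theorem N27060 : nd 27060 = n42987 := ndS (p := 26259) (l := 5) rfl N26259 D42987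
theorem N27061 : nd 27061 = n42988 := ndS (p := 26259) (l := 9) rfl N26259 D42988
theorem N27062 : nd 27062 = n42989 := ndS (p := 26262) (l := 5) rfl N26262 D42989
theorem N27063 : nd 27063 = n42990 := ndS (p := 26262) (l := 7) rfl N26262 D42990
theorem N27064 : nd 27064 = n42991 := ndS (p := 26262) (l := 9) rfl N26262 D42991
theorem N27065 : nd 27065 = n42992 := ndS (p := 26264) (l := 7) rfl N26264 D42992
theorem N27066 : nd 27066 = n42993 := ndS (p := 26264) (l := 9) rfl N26264 D42993
theorem N27067 : nd 27067 = n42994 := ndS (p := 26265) (l := 9) rfl N26265 D42994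
theorem N27068 : nd 27068 = n42995 := ndS (p := 26266) (l := 8) rfl N26266 D42995
theorem N27069 : nd 27069 = n42996 := ndS (p := 26268) (l := 8) rfl N26268 D42996
theorem N27070 : nd 27070 = n42997 := ndS (p := 26269) (l := 5) rfl N26269 D42997
theorem N27071 : nd 27071 = n42998 := ndS (p := 26271) (l := 8) rfl N26271 D42998
theorem N27072 : nd 27072 = n42999 := ndS (p := 26272) (l := 5) rfl N26272 D42999
theorem N27073 : nd 27073 = n43000 := ndS (p := 26274) (l := 4) rfl N26274 D43000
theorem N27074 : nd 27074 = n43001 := ndS (p := 26276) (l := 4) rfl N26276 D43001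
theorem N27075 : nd 27075 = n43002 := ndS (p := 26279) (l := 5) rfl N26279 D43002
theorem N27076 : nd 27076 = n43003 := ndS (p := 26279) (l := 7) rfl N26279 D43003
theorem N27077 : nd 27077 = n43004 := ndS (p := 26279) (l := 9) rfl N26279 D43004
theorem N27078 : nd 27078 = n43005 := ndS (p := 26281) (l := 4) rfl N26281 D43005
theorem N27079 : nd 27079 = n43006 := ndS (p := 26281) (l := 9) rfl N26281 D43006
theorem N27080 : nd 27080 = n43007 := ndS (p := 26282) (l := 9) rfl N26282 D43007
theorem N27081 : nd 27081 = n43008 := ndS (p := 26285) (l := 8) rfl N26285 D43008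
theorem N27082 : nd 27082 = n43009 := ndS (p := 26290) (l := 9) rfl N26290 D43009
theorem N27083 : nd 27083 = n43010 := ndS (p := 26292) (l := 7) rfl N26292 D43010
theorem N27084 : nd 27084 = n43011 := ndS (p := 26292) (l := 9) rfl N26292 D43011
theorem N27085 : nd 27085 = n43012 := ndS (p := 26293) (l := 9) rfl N26293 D43012
theorem N27086 : nd 27086 = n43013 := ndS (p := 26297) (l := 4) rfl N26297 D43013
theorem N27087 : nd 27087 = n43014 := ndS (p := 26303) (l := 5) rfl N26303 D43014
theorem N27088 : nd 27088 = n43015 := ndS (p := 26304) (l := 4) rfl N26304 D43015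
theorem N27089 : nd 27089 = n43016 := ndS (p := 26307) (l := 9) rfl N26307 D43016
theorem N27090 : nd 27090 = n43017 := ndS (p := 26310) (l := 8) rfl N26310 D43017
theorem N27091 : nd 27091 = n43018 := ndS (p := 26315) (l := 9) rfl N26315 D43018
theorem N27092 : nd 27092 = n43019 := ndS (p := 26319) (l := 5) rfl N26319 D43019
theorem N27093 : nd 27093 = n43020 := ndS (p := 26319) (l := 9) rfl N26319 D43020
theorem N27094 : nd 27094 = n43021 := ndS (p := 26320) (l := 4) rfl N26320 D43021
theorem N27095 : nd 27095 = n43022 := ndS (p := 26320) (l := 9) rfl N26320 D43022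
theorem N27096 : nd 27096 = n43023 := ndS (p := 26322) (l := 3) rfl N26322 D43023
theorem N27097 : nd 27097 = n43024 := ndS (p := 26323) (l := 3) rfl N26323 D43024
theorem N27098 : nd 27098 = n43025 := ndS (p := 26323) (l := 6) rfl N26323 D43025
theorem N27099 : nd 27099 = n43026 := ndS (p := 26323) (l := 9) rfl N26323 D43026
theorem N27100 : nd 27100 = n43027 := ndS (p := 26324) (l := 9) rfl N26324 D43027
theorem N27101 : nd 27101 = n43028 := ndS (p := 26325) (l := 8) rfl N26325 D43028
theorem N27102 : nd 27102 = n43029 := ndS (p := 26326) (l := 2) rfl N26326 D43029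
theorem N27103 : nd 27103 = n43030 := ndS (p := 26326) (l := 6) rfl N26326 D43030
theorem N27104 : nd 27104 = n43031 := ndS (p := 26326) (l := 9) rfl N26326 D43031
theorem N27105 : nd 27105 = n43032 := ndS (p := 26328) (l := 8) rfl N26328 D43032
theorem N27106 : nd 27106 = n43033 := ndS (p := 26330) (l := 1) rfl N26330 D43033
theorem N27107 : nd 27107 = n43034 := ndS (p := 26330) (l := 9) rfl N26330 D43034
theorem N27108 : nd 27108 = n43035 := ndS (p := 26331) (l := 8) rfl N26331 D43035
theorem N27109 : nd 27109 = n43036 := ndS (p := 26332) (l := 5) rfl N26332 D43036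
theorem N27110 : nd 27110 = n43037 := ndS (p := 26333) (l := 2) rfl N26333 D43037
theorem N27111 : nd 27111 = n43038 := ndS (p := 26333) (l := 6) rfl N26333 D43038
theorem N27112 : nd 27112 = n43039 := ndS (p := 26333) (l := 9) rfl N26333 D43039
theorem N27113 : nd 27113 = n43040 := ndS (p := 26334) (l := 5) rfl N26334 D43040
theorem N27114 : nd 27114 = n43041 := ndS (p := 26334) (l := 7) rfl N26334 D43041
theorem N27115 : nd 27115 = n43042 := ndS (p := 26334) (l := 9) rfl N26334 D43042
theorem N27116 : nd 27116 = n43043 := ndS (p := 26335) (l := 8) rfl N26335 D43043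
theorem N27117 : nd 27117 = n43044 := ndS (p := 26336) (l := 9) rfl N26336 D43044
theorem N27118 : nd 27118 = n43045 := ndS (p := 26337) (l := 8) rfl N26337 D43045
theorem N27119 : nd 27119 = n43046 := ndS (p := 26339) (l := 1) rfl N26339 D43046
theorem N27120 : nd 27120 = n43047 := ndS (p := 26339) (l := 6) rfl N26339 D43047
theorem N27121 : nd 27121 = n43048 := ndS (p := 26339) (l := 9) rfl N26339 D43048
theorem N27122 : nd 27122 = n43049 := ndS (p := 26340) (l := 7) rfl N26340 D43049
theorem N27123 : nd 27123 = n43050 := ndS (p := 26341) (l := 8) rfl N26341 D43050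
theorem N27124 : nd 27124 = n43051 := ndS (p := 26343) (l := 8) rfl N26343 D43051
theorem N27125 : nd 27125 = n43052 := ndS (p := 26344) (l := 5) rfl N26344 D43052
theorem N27126 : nd 27126 = n43053 := ndS (p := 26349) (l := 6) rfl N26349 D43053
theorem N27127 : nd 27127 = n43054 := ndS (p := 26349) (l := 9) rfl N26349 D43054
theorem N27128 : nd 27128 = n43055 := ndS (p := 26351) (l := 6) rfl N26351 D43055
theorem N27129 : nd 27129 = n43056 := ndS (p := 26351) (l := 9) rfl N26351 D43056
theorem N27130 : nd 27130 = n43057 := ndS (p := 26352) (l := 5) rfl N26352 D43057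
theorem N27131 : nd 27131 = n43058 := ndS (p := 26352) (l := 7) rfl N26352 D43058
theorem N27132 : nd 27132 = n43059 := ndS (p := 26352) (l := 9) rfl N26352 D43059
theorem N27133 : nd 27133 = n43060 := ndS (p := 26354) (l := 9) rfl N26354 D43060
theorem N27134 : nd 27134 = n43061 := ndS (p := 26356) (l := 7) rfl N26356 D43061
theorem N27135 : nd 27135 = n43062 := ndS (p := 26358) (l := 7) rfl N26358 D43062
theorem N27136 : nd 27136 = n43063 := ndS (p := 26358) (l := 9) rfl N26358 D43063
theorem N27137 : nd 27137 = n43064 := ndS (p := 26359) (l := 9) rfl N26359 D43064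
theorem N27138 : nd 27138 = n43065 := ndS (p := 26360) (l := 8) rfl N26360 D43065
theorem N27139 : nd 27139 = n43066 := ndS (p := 26362) (l := 8) rfl N26362 D43066
theorem N27140 : nd 27140 = n43067 := ndS (p := 26364) (l := 8) rfl N26364 D43067
theorem N27141 : nd 27141 = n43068 := ndS (p := 26365) (l := 5) rfl N26365 D43068
theorem N27142 : nd 27142 = n43069 := ndS (p := 26367) (l := 6) rfl N26367 D43069
theorem N27143 : nd 27143 = n43070 := ndS (p := 26367) (l := 9) rfl N26367 D43070
theorem N27144 : nd 27144 = n43071 := ndS (p := 26368) (l := 7) rfl N26368 D43071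
theorem N27145 : nd 27145 = n43072 := ndS (p := 26368) (l := 9) rfl N26368 D43072
theorem N27146 : nd 27146 = n43073 := ndS (p := 26369) (l := 8) rfl N26369 D43073
theorem N27147 : nd 27147 = n43074 := ndS (p := 26370) (l := 6) rfl N26370 D43074
theorem N27148 : nd 27148 = n43075 := ndS (p := 26370) (l := 9) rfl N26370 D43075
theorem N27149 : nd 27149 = n43076 := ndS (p := 26371) (l := 5) rfl N26371 D43076
theorem N27150 : nd 27150 = n43077 := ndS (p := 26371) (l := 7) rfl N26371 D43077
theorem N27151 : nd 27151 = n43078 := ndS (p := 26371) (l := 9) rfl N26371 D43078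
theorem N27152 : nd 27152 = n43079 := ndS (p := 26373) (l := 9) rfl N26373 D43079
theorem N27153 : nd 27153 = n43080 := ndS (p := 26375) (l := 7) rfl N26375 D43080
theorem N27154 : nd 27154 = n43081 := ndS (p := 26377) (l := 6) rfl N26377 D43081
theorem N27155 : nd 27155 = n43082 := ndS (p := 26378) (l := 5) rfl N26378 D43082
theorem N27156 : nd 27156 = n43083 := ndS (p := 26378) (l := 7) rfl N26378 D43083
theorem N27157 : nd 27157 = n43084 := ndS (p := 26378) (l := 9) rfl N26378 D43084
theorem N27158 : nd 27158 = n43085 := ndS (p := 26380) (l := 7) rfl N26380 D43085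
theorem N27159 : nd 27159 = n43086 := ndS (p := 26380) (l := 9) rfl N26380 D43086
theorem N27160 : nd 27160 = n43087 := ndS (p := 26381) (l := 9) rfl N26381 D43087
theorem N27161 : nd 27161 = n43088 := ndS (p := 26384) (l := 7) rfl N26384 D43088
theorem N27162 : nd 27162 = n43089 := ndS (p := 26386) (l := 5) rfl N26386 D43089
theorem N27163 : nd 27163 = n43090 := ndS (p := 26386) (l := 7) rfl N26386 D43090
theorem N27164 : nd 27164 = n43091 := ndS (p := 26386) (l := 9) rfl N26386 D43091
theorem N27165 : nd 27165 = n43092 := ndS (p := 26388) (l := 7) rfl N26388 D43092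
theorem N27166 : nd 27166 = n43093 := ndS (p := 26388) (l := 9) rfl N26388 D43093
theorem N27167 : nd 27167 = n43094 := ndS (p := 26389) (l := 9) rfl N26389 D43094
theorem N27168 : nd 27168 = n43095 := ndS (p := 26390) (l := 8) rfl N26390 D43095
theorem N27169 : nd 27169 = n43096 := ndS (p := 26392) (l := 6) rfl N26392 D43096
theorem N27170 : nd 27170 = n43097 := ndS (p := 26392) (l := 9) rfl N26392 D43097
theorem N27171 : nd 27171 = n43098 := ndS (p := 26394) (l := 8) rfl N26394 D43098
theorem N27172 : nd 27172 = n43099 := ndS (p := 26398) (l := 8) rfl N26398 D43099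
theorem N27173 : nd 27173 = n43100 := ndS (p := 26401) (l := 5) rfl N26401 D43100
theorem N27174 : nd 27174 = n43101 := ndS (p := 26402) (l := 7) rfl N26402 D43101
theorem N27175 : nd 27175 = n43102 := ndS (p := 26407) (l := 6) rfl N26407 D43102
theorem N27176 : nd 27176 = n43103 := ndS (p := 26409) (l := 7) rfl N26409 D43103
theorem N27177 : nd 27177 = n43104 := ndS (p := 26410) (l := 7) rfl N26410 D43104
theorem N27178 : nd 27178 = n43105 := ndS (p := 26413) (l := 5) rfl N26413 D43105
theorem N27179 : nd 27179 = n43106 := ndS (p := 26413) (l := 9) rfl N26413 D43106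
theorem N27180 : nd 27180 = n43107 := ndS (p := 26416) (l := 5) rfl N26416 D43107
theorem N27181 : nd 27181 = n43108 := ndS (p := 26416) (l := 9) rfl N26416 D43108
theorem N27182 : nd 27182 = n43109 := ndS (p := 26417) (l := 4) rfl N26417 D43109
theorem N27183 : nd 27183 = n43110 := ndS (p := 26417) (l := 9) rfl N26417 D43110
theorem N27184 : nd 27184 = n43111 := ndS (p := 26419) (l := 3) rfl N26419 D43111
theorem N27185 : nd 27185 = n43112 := ndS (p := 26420) (l := 3) rfl N26420 D43112
theorem N27186 : nd 27186 = n43113 := ndS (p := 26420) (l := 6) rfl N26420 D43113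
theorem N27187 : nd 27187 = n43114 := ndS (p := 26420) (l := 9) rfl N26420 D43114
theorem N27188 : nd 27188 = n43115 := ndS (p := 26421) (l := 9) rfl N26421 D43115
theorem N27189 : nd 27189 = n43116 := ndS (p := 26422) (l := 8) rfl N26422 D43116
theorem N27190 : nd 27190 = n43117 := ndS (p := 26423) (l := 2) rfl N26423 D43117
theorem N27191 : nd 27191 = n43118 := ndS (p := 26423) (l := 6) rfl N26423 D43118
theorem N27192 : nd 27192 = n43119 := ndS (p := 26423) (l := 9) rfl N26423 D43119
theorem N27193 : nd 27193 = n43120 := ndS (p := 26425) (l := 8) rfl N26425 D43120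
theorem N27194 : nd 27194 = n43121 := ndS (p := 26429) (l := 5) rfl N26429 D43121
theorem N27195 : nd 27195 = n43122 := ndS (p := 26430) (l := 2) rfl N26430 D43122
theorem N27196 : nd 27196 = n43123 := ndS (p := 26430) (l := 6) rfl N26430 D43123
theorem N27197 : nd 27197 = n43124 := ndS (p := 26430) (l := 9) rfl N26430 D43124
theorem N27198 : nd 27198 = n43125 := ndS (p := 26431) (l := 5) rfl N26431 D43125
theorem N27199 : nd 27199 = n43126 := ndS (p := 26431) (l := 7) rfl N26431 D43126
theorem N27200 : nd 27200 = n43127 := ndS (p := 26431) (l := 9) rfl N26431 D43127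
theorem N27201 : nd 27201 = n43128 := ndS (p := 26432) (l := 8) rfl N26432 D43128
theorem N27202 : nd 27202 = n43129 := ndS (p := 26433) (l := 9) rfl N26433 D43129
theorem N27203 : nd 27203 = n43130 := ndS (p := 26434) (l := 8) rfl N26434 D43130
theorem N27204 : nd 27204 = n43131 := ndS (p := 26439) (l := 8) rfl N26439 D43131
theorem N27205 : nd 27205 = n43132 := ndS (p := 26440) (l := 5) rfl N26440 D43132
theorem N27206 : nd 27206 = n43133 := ndS (p := 26442) (l := 6) rfl N26442 D43133
theorem N27207 : nd 27207 = n43134 := ndS (p := 26443) (l := 4) rfl N26443 D43134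
theorem N27208 : nd 27208 = n43135 := ndS (p := 26443) (l := 9) rfl N26443 D43135
theorem N27209 : nd 27209 = n43136 := ndS (p := 26445) (l := 3) rfl N26445 D43136
theorem N27210 : nd 27210 = n43137 := ndS (p := 26445) (l := 9) rfl N26445 D43137
theorem N27211 : nd 27211 = n43138 := ndS (p := 26448) (l := 2) rfl N26448 D43138
theorem N27212 : nd 27212 = n43139 := ndS (p := 26448) (l := 9) rfl N26448 D43139
theorem N27213 : nd 27213 = n43140 := ndS (p := 26449) (l := 8) rfl N26449 D43140
theorem N27214 : nd 27214 = n43141 := ndS (p := 26452) (l := 8) rfl N26452 D43141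
theorem N27215 : nd 27215 = n43142 := ndS (p := 26453) (l := 5) rfl N26453 D43142
theorem N27216 : nd 27216 = n43143 := ndS (p := 26455) (l := 9) rfl N26455 D43143
theorem N27217 : nd 27217 = n43144 := ndS (p := 26457) (l := 9) rfl N26457 D43144
theorem N27218 : nd 27218 = n43145 := ndS (p := 26459) (l := 5) rfl N26459 D43145
theorem N27219 : nd 27219 = n43146 := ndS (p := 26462) (l := 5) rfl N26462 D43146
theorem N27220 : nd 27220 = n43147 := ndS (p := 26462) (l := 9) rfl N26462 D43147
theorem N27221 : nd 27221 = n43148 := ndS (p := 26463) (l := 4) rfl N26463 D43148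
theorem N27222 : nd 27222 = n43149 := ndS (p := 26463) (l := 9) rfl N26463 D43149
theorem N27223 : nd 27223 = n43150 := ndS (p := 26465) (l := 3) rfl N26465 D43150
theorem N27224 : nd 27224 = n43151 := ndS (p := 26466) (l := 3) rfl N26466 D43151
theorem N27225 : nd 27225 = n43152 := ndS (p := 26466) (l := 6) rfl N26466 D43152
theorem N27226 : nd 27226 = n43153 := ndS (p := 26466) (l := 9) rfl N26466 D43153
theorem N27227 : nd 27227 = n43154 := ndS (p := 26467) (l := 9) rfl N26467 D43154
theorem N27228 : nd 27228 = n43155 := ndS (p := 26468) (l := 8) rfl N26468 D43155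
theorem N27229 : nd 27229 = n43156 := ndS (p := 26469) (l := 2) rfl N26469 D43156
theorem N27230 : nd 27230 = n43157 := ndS (p := 26469) (l := 6) rfl N26469 D43157
theorem N27231 : nd 27231 = n43158 := ndS (p := 26473) (l := 2) rfl N26473 D43158
theorem N27232 : nd 27232 = n43159 := ndS (p := 26473) (l := 6) rfl N26473 D43159
theorem N27233 : nd 27233 = n43160 := ndS (p := 26473) (l := 9) rfl N26473 D43160
theorem N27234 : nd 27234 = n43161 := ndS (p := 26474) (l := 5) rfl N26474 D43161
theorem N27235 : nd 27235 = n43162 := ndS (p := 26474) (l := 7) rfl N26474 D43162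
theorem N27236 : nd 27236 = n43163 := ndS (p := 26474) (l := 9) rfl N26474 D43163
theorem N27237 : nd 27237 = n43164 := ndS (p := 26476) (l := 9) rfl N26476 D43164
theorem N27238 : nd 27238 = n43165 := ndS (p := 26477) (l := 8) rfl N26477 D43165
theorem N27239 : nd 27239 = n43166 := ndS (p := 26479) (l := 6) rfl N26479 D43166
theorem N27240 : nd 27240 = n43167 := ndS (p := 26480) (l := 7) rfl N26480 D43167
theorem N27241 : nd 27241 = n43168 := ndS (p := 26483) (l := 6) rfl N26483 D43168
theorem N27242 : nd 27242 = n43169 := ndS (p := 26483) (l := 9) rfl N26483 D43169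
theorem N27243 : nd 27243 = n43170 := ndS (p := 26484) (l := 5) rfl N26484 D43170
theorem N27244 : nd 27244 = n43171 := ndS (p := 26484) (l := 9) rfl N26484 D43171
theorem N27245 : nd 27245 = n43172 := ndS (p := 26488) (l := 9) rfl N26488 D43172
theorem N27246 : nd 27246 = n43173 := ndS (p := 26489) (l := 9) rfl N26489 D43173
theorem N27247 : nd 27247 = n43174 := ndS (p := 26490) (l := 9) rfl N26490 D43174
theorem N27248 : nd 27248 = n43175 := ndS (p := 26492) (l := 9) rfl N26492 D43175
theorem N27249 : nd 27249 = n43176 := ndS (p := 26494) (l := 9) rfl N26494 D43176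
theorem N27250 : nd 27250 = n43177 := ndS (p := 26495) (l := 9) rfl N26495 D43177
theorem N27251 : nd 27251 = n43178 := ndS (p := 26497) (l := 7) rfl N26497 D43178
theorem N27252 : nd 27252 = n43179 := ndS (p := 26497) (l := 9) rfl N26497 D43179
theorem N27253 : nd 27253 = n43180 := ndS (p := 26498) (l := 8) rfl N26498 D43180
theorem N27254 : nd 27254 = n43181 := ndS (p := 26499) (l := 9) rfl N26499 D43181
theorem N27255 : nd 27255 = n43182 := ndS (p := 26500) (l := 8) rfl N26500 D43182
theorem N27256 : nd 27256 = n43183 := ndS (p := 26505) (l := 9) rfl N26505 D43183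
theorem N27257 : nd 27257 = n43184 := ndS (p := 26506) (l := 9) rfl N26506 D43184
theorem N27258 : nd 27258 = n43185 := ndS (p := 26508) (l := 9) rfl N26508 D43185
theorem N27259 : nd 27259 = n43186 := ndS (p := 26509) (l := 9) rfl N26509 D43186
theorem N27260 : nd 27260 = n43187 := ndS (p := 26511) (l := 6) rfl N26511 D43187
theorem N27261 : nd 27261 = n43188 := ndS (p := 26511) (l := 9) rfl N26511 D43188
theorem N27262 : nd 27262 = n43189 := ndS (p := 26512) (l := 9) rfl N26512 D43189
theorem N27263 : nd 27263 = n43190 := ndS (p := 26513) (l := 8) rfl N26513 D43190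
theorem N27264 : nd 27264 = n43191 := ndS (p := 26515) (l := 8) rfl N26515 D43191
theorem N27265 : nd 27265 = n43192 := ndS (p := 26517) (l := 6) rfl N26517 D43192
theorem N27266 : nd 27266 = n43193 := ndS (p := 26517) (l := 9) rfl N26517 D43193
theorem N27267 : nd 27267 = n43194 := ndS (p := 26519) (l := 9) rfl N26519 D43194
theorem N27268 : nd 27268 = n43195 := ndS (p := 26521) (l := 6) rfl N26521 D43195
theorem N27269 : nd 27269 = n43196 := ndS (p := 26521) (l := 9) rfl N26521 D43196
theorem N27270 : nd 27270 = n43197 := ndS (p := 26522) (l := 5) rfl N26522 D43197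
theorem N27271 : nd 27271 = n43198 := ndS (p := 26522) (l := 7) rfl N26522 D43198
theorem N27272 : nd 27272 = n43199 := ndS (p := 26522) (l := 9) rfl N26522 D43199
theorem N27273 : nd 27273 = n43200 := ndS (p := 26523) (l := 8) rfl N26523 D43200
theorem N27274 : nd 27274 = n43201 := ndS (p := 26524) (l := 9) rfl N26524 D43201
theorem N27275 : nd 27275 = n43202 := ndS (p := 26525) (l := 8) rfl N26525 D43202
theorem N27276 : nd 27276 = n43203 := ndS (p := 26527) (l := 7) rfl N26527 D43203
theorem N27277 : nd 27277 = n43204 := ndS (p := 26529) (l := 8) rfl N26529 D43204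
theorem N27278 : nd 27278 = n43205 := ndS (p := 26532) (l := 5) rfl N26532 D43205
theorem N27279 : nd 27279 = n43206 := ndS (p := 26532) (l := 9) rfl N26532 D43206
theorem N27280 : nd 27280 = n43207 := ndS (p := 26534) (l := 7) rfl N26534 D43207
theorem N27281 : nd 27281 = n43208 := ndS (p := 26534) (l := 9) rfl N26534 D43208
theorem N27282 : nd 27282 = n43209 := ndS (p := 26535) (l := 9) rfl N26535 D43209
theorem N27283 : nd 27283 = n43210 := ndS (p := 26536) (l := 8) rfl N26536 D43210
theorem N27284 : nd 27284 = n43211 := ndS (p := 26538) (l := 8) rfl N26538 D43211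
theorem N27285 : nd 27285 = n43212 := ndS (p := 26539) (l := 5) rfl N26539 D43212
theorem N27286 : nd 27286 = n43213 := ndS (p := 26540) (l := 5) rfl N26540 D43213
theorem N27287 : nd 27287 = n43214 := ndS (p := 26542) (l := 4) rfl N26542 D43214
theorem N27288 : nd 27288 = n43215 := ndS (p := 26545) (l := 9) rfl N26545 D43215
theorem N27289 : nd 27289 = n43216 := ndS (p := 26548) (l := 9) rfl N26548 D43216
theorem N27290 : nd 27290 = n43217 := ndS (p := 26549) (l := 8) rfl N26549 D43217
theorem N27291 : nd 27291 = n43218 := ndS (p := 26554) (l := 6) rfl N26554 D43218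
theorem N27292 : nd 27292 = n43219 := ndS (p := 26554) (l := 9) rfl N26554 D43219
theorem N27293 : nd 27293 = n43220 := ndS (p := 26555) (l := 9) rfl N26555 D43220
theorem N27294 : nd 27294 = n43221 := ndS (p := 26560) (l := 6) rfl N26560 D43221
theorem N27295 : nd 27295 = n43222 := ndS (p := 26560) (l := 9) rfl N26560 D43222
theorem N27296 : nd 27296 = n43223 := ndS (p := 26561) (l := 5) rfl N26561 D43223
theorem N27297 : nd 27297 = n43224 := ndS (p := 26561) (l := 7) rfl N26561 D43224
theorem N27298 : nd 27298 = n43225 := ndS (p := 26561) (l := 9) rfl N26561 D43225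
theorem N27299 : nd 27299 = n43226 := ndS (p := 26562) (l := 8) rfl N26562 D43226
theorem N27300 : nd 27300 = n43227 := ndS (p := 26563) (l := 9) rfl N26563 D43227
theorem N27301 : nd 27301 = n43228 := ndS (p := 26564) (l := 8) rfl N26564 D43228
theorem N27302 : nd 27302 = n43229 := ndS (p := 26568) (l := 8) rfl N26568 D43229
theorem N27303 : nd 27303 = n43230 := ndS (p := 26571) (l := 5) rfl N26571 D43230
theorem N27304 : nd 27304 = n43231 := ndS (p := 26571) (l := 7) rfl N26571 D43231
theorem N27305 : nd 27305 = n43232 := ndS (p := 26571) (l := 9) rfl N26571 D43232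
theorem N27306 : nd 27306 = n43233 := ndS (p := 26572) (l := 8) rfl N26572 D43233
theorem N27307 : nd 27307 = n43234 := ndS (p := 26573) (l := 7) rfl N26573 D43234
theorem N27308 : nd 27308 = n43235 := ndS (p := 26573) (l := 9) rfl N26573 D43235
theorem N27309 : nd 27309 = n43236 := ndS (p := 26574) (l := 9) rfl N26574 D43236
theorem N27310 : nd 27310 = n43237 := ndS (p := 26575) (l := 8) rfl N26575 D43237
theorem N27311 : nd 27311 = n43238 := ndS (p := 26576) (l := 5) rfl N26576 D43238
theorem N27312 : nd 27312 = n43239 := ndS (p := 26577) (l := 8) rfl N26577 D43239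
theorem N27313 : nd 27313 = n43240 := ndS (p := 26578) (l := 5) rfl N26578 D43240
theorem N27314 : nd 27314 = n43241 := ndS (p := 26579) (l := 7) rfl N26579 D43241
theorem N27315 : nd 27315 = n43242 := ndS (p := 26580) (l := 9) rfl N26580 D43242
theorem N27316 : nd 27316 = n43243 := ndS (p := 26581) (l := 8) rfl N26581 D43243
theorem N27317 : nd 27317 = n43244 := ndS (p := 26583) (l := 8) rfl N26583 D43244
theorem N27318 : nd 27318 = n43245 := ndS (p := 26584) (l := 5) rfl N26584 D43245
theorem N27319 : nd 27319 = n43246 := ndS (p := 26585) (l := 6) rfl N26585 D43246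
theorem N27320 : nd 27320 = n43247 := ndS (p := 26587) (l := 4) rfl N26587 D43247
theorem N27321 : nd 27321 = n43248 := ndS (p := 26589) (l := 7) rfl N26589 D43248
theorem N27322 : nd 27322 = n43249 := ndS (p := 26592) (l := 4) rfl N26592 D43249
theorem N27323 : nd 27323 = n43250 := ndS (p := 26592) (l := 9) rfl N26592 D43250
theorem N27324 : nd 27324 = n43251 := ndS (p := 26594) (l := 3) rfl N26594 D43251
theorem N27325 : nd 27325 = n43252 := ndS (p := 26595) (l := 9) rfl N26595 D43252
theorem N27326 : nd 27326 = n43253 := ndS (p := 26597) (l := 8) rfl N26597 D43253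
theorem N27327 : nd 27327 = n43254 := ndS (p := 26600) (l := 7) rfl N26600 D43254
theorem N27328 : nd 27328 = n43255 := ndS (p := 26600) (l := 9) rfl N26600 D43255
theorem N27329 : nd 27329 = n43256 := ndS (p := 26602) (l := 5) rfl N26602 D43256
theorem N27330 : nd 27330 = n43257 := ndS (p := 26602) (l := 7) rfl N26602 D43257
theorem N27331 : nd 27331 = n43258 := ndS (p := 26602) (l := 9) rfl N26602 D43258
theorem N27332 : nd 27332 = n43259 := ndS (p := 26603) (l := 8) rfl N26603 D43259
theorem N27333 : nd 27333 = n43260 := ndS (p := 26604) (l := 9) rfl N26604 D43260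
theorem N27334 : nd 27334 = n43261 := ndS (p := 26605) (l := 8) rfl N26605 D43261
theorem N27335 : nd 27335 = n43262 := ndS (p := 26608) (l := 8) rfl N26608 D43262
theorem N27336 : nd 27336 = n43263 := ndS (p := 26611) (l := 7) rfl N26611 D43263
theorem N27337 : nd 27337 = n43264 := ndS (p := 26611) (l := 9) rfl N26611 D43264
theorem N27338 : nd 27338 = n43265 := ndS (p := 26613) (l := 9) rfl N26613 D43265
theorem N27339 : nd 27339 = n43266 := ndS (p := 26616) (l := 8) rfl N26616 D43266
theorem N27340 : nd 27340 = n43267 := ndS (p := 26617) (l := 5) rfl N26617 D43267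
theorem N27341 : nd 27341 = n43268 := ndS (p := 26620) (l := 4) rfl N26620 D43268
theorem N27342 : nd 27342 = n43269 := ndS (p := 26624) (l := 4) rfl N26624 D43269
theorem N27343 : nd 27343 = n43270 := ndS (p := 26629) (l := 5) rfl N26629 D43270
theorem N27344 : nd 27344 = n43271 := ndS (p := 26629) (l := 9) rfl N26629 D43271
theorem N27345 : nd 27345 = n43272 := ndS (p := 26632) (l := 8) rfl N26632 D43272
theorem N27346 : nd 27346 = n43273 := ndS (p := 26633) (l := 9) rfl N26633 D43273
theorem N27347 : nd 27347 = n43274 := ndS (p := 26635) (l := 5) rfl N26635 D43274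
theorem N27348 : nd 27348 = n43275 := ndS (p := 26635) (l := 9) rfl N26635 D43275
theorem N27349 : nd 27349 = n43276 := ndS (p := 26638) (l := 9) rfl N26638 D43276
theorem N27350 : nd 27350 = n43277 := ndS (p := 26642) (l := 5) rfl N26642 D43277
theorem N27351 : nd 27351 = n43278 := ndS (p := 26642) (l := 9) rfl N26642 D43278
theorem N27352 : nd 27352 = n43279 := ndS (p := 26645) (l := 2) rfl N26645 D43279
theorem N27353 : nd 27353 = n43280 := ndS (p := 26645) (l := 9) rfl N26645 D43280
theorem N27354 : nd 27354 = n43281 := ndS (p := 26649) (l := 5) rfl N26649 D43281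
theorem N27355 : nd 27355 = n43282 := ndS (p := 26649) (l := 9) rfl N26649 D43282
theorem N27356 : nd 27356 = n43283 := ndS (p := 26651) (l := 9) rfl N26651 D43283
theorem N27357 : nd 27357 = n43284 := ndS (p := 26653) (l := 5) rfl N26653 D43284
theorem N27358 : nd 27358 = n43285 := ndS (p := 26653) (l := 9) rfl N26653 D43285
theorem N27359 : nd 27359 = n43286 := ndS (p := 26656) (l := 8) rfl N26656 D43286
theorem N27360 : nd 27360 = n43287 := ndS (p := 26657) (l := 9) rfl N26657 D43287
theorem N27361 : nd 27361 = n43288 := ndS (p := 26658) (l := 5) rfl N26658 D43288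
theorem N27362 : nd 27362 = n43289 := ndS (p := 26658) (l := 9) rfl N26658 D43289
theorem N27363 : nd 27363 = n43290 := ndS (p := 26659) (l := 9) rfl N26659 D43290
theorem N27364 : nd 27364 = n43291 := ndS (p := 26662) (l := 4) rfl N26662 D43291
theorem N27365 : nd 27365 = n43292 := ndS (p := 26662) (l := 6) rfl N26662 D43292
theorem N27366 : nd 27366 = n43293 := ndS (p := 26662) (l := 9) rfl N26662 D43293
theorem N27367 : nd 27367 = n43294 := ndS (p := 26664) (l := 9) rfl N26664 D43294
theorem N27368 : nd 27368 = n43295 := ndS (p := 26672) (l := 5) rfl N26672 D43295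
theorem N27369 : nd 27369 = n43296 := ndS (p := 26672) (l := 9) rfl N26672 D43296
theorem N27370 : nd 27370 = n43297 := ndS (p := 26674) (l := 5) rfl N26674 D43297
theorem N27371 : nd 27371 = n43298 := ndS (p := 26674) (l := 9) rfl N26674 D43298
theorem N27372 : nd 27372 = n43299 := ndS (p := 26675) (l := 8) rfl N26675 D43299
theorem N27373 : nd 27373 = n43300 := ndS (p := 26679) (l := 6) rfl N26679 D43300
theorem N27374 : nd 27374 = n43301 := ndS (p := 26679) (l := 9) rfl N26679 D43301
theorem N27375 : nd 27375 = n43302 := ndS (p := 26681) (l := 4) rfl N26681 D43302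
theorem N27376 : nd 27376 = n43303 := ndS (p := 26681) (l := 6) rfl N26681 D43303
theorem N27377 : nd 27377 = n43304 := ndS (p := 26681) (l := 9) rfl N26681 D43304
theorem N27378 : nd 27378 = n43305 := ndS (p := 26683) (l := 3) rfl N26683 D43305
theorem N27379 : nd 27379 = n43306 := ndS (p := 26683) (l := 9) rfl N26683 D43306
theorem N27380 : nd 27380 = n43307 := ndS (p := 26685) (l := 2) rfl N26685 D43307
theorem N27381 : nd 27381 = n43308 := ndS (p := 26686) (l := 2) rfl N26686 D43308
theorem N27382 : nd 27382 = n43309 := ndS (p := 26686) (l := 9) rfl N26686 D43309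
theorem N27383 : nd 27383 = n43310 := ndS (p := 26688) (l := 1) rfl N26688 D43310
theorem N27384 : nd 27384 = n43311 := ndS (p := 26690) (l := 1) rfl N26690 D43311
theorem N27385 : nd 27385 = n43312 := ndS (p := 26690) (l := 6) rfl N26690 D43312
theorem N27386 : nd 27386 = n43313 := ndS (p := 26690) (l := 9) rfl N26690 D43313
theorem N27387 : nd 27387 = n43314 := ndS (p := 26691) (l := 7) rfl N26691 D43314
theorem N27388 : nd 27388 = n43315 := ndS (p := 26691) (l := 9) rfl N26691 D43315
theorem N27389 : nd 27389 = n43316 := ndS (p := 26693) (l := 9) rfl N26693 D43316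
theorem N27390 : nd 27390 = n43317 := ndS (p := 26696) (l := 6) rfl N26696 D43317
theorem N27391 : nd 27391 = n43318 := ndS (p := 26697) (l := 7) rfl N26697 D43318
theorem N27392 : nd 27392 = n43319 := ndS (p := 26699) (l := 9) rfl N26699 D43319
theorem N27393 : nd 27393 = n43320 := ndS (p := 26701) (l := 5) rfl N26701 D43320
theorem N27394 : nd 27394 = n43321 := ndS (p := 26701) (l := 9) rfl N26701 D43321
theorem N27395 : nd 27395 = n43322 := ndS (p := 26702) (l := 4) rfl N26702 D43322
theorem N27396 : nd 27396 = n43323 := ndS (p := 26702) (l := 9) rfl N26702 D43323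
theorem N27397 : nd 27397 = n43324 := ndS (p := 26705) (l := 4) rfl N26705 D43324
theorem N27398 : nd 27398 = n43325 := ndS (p := 26705) (l := 9) rfl N26705 D43325
theorem N27399 : nd 27399 = n43326 := ndS (p := 26707) (l := 9) rfl N26707 D43326
theorem N27400 : nd 27400 = n43327 := ndS (p := 26709) (l := 9) rfl N26709 D43327
theorem N27401 : nd 27401 = n43328 := ndS (p := 26710) (l := 9) rfl N26710 D43328
theorem N27402 : nd 27402 = n43329 := ndS (p := 26711) (l := 8) rfl N26711 D43329
theorem N27403 : nd 27403 = n43330 := ndS (p := 26713) (l := 5) rfl N26713 D43330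
theorem N27404 : nd 27404 = n43331 := ndS (p := 26713) (l := 9) rfl N26713 D43331
theorem N27405 : nd 27405 = n43332 := ndS (p := 26715) (l := 9) rfl N26715 D43332
theorem N27406 : nd 27406 = n43333 := ndS (p := 26717) (l := 4) rfl N26717 D43333
theorem N27407 : nd 27407 = n43334 := ndS (p := 26717) (l := 9) rfl N26717 D43334
theorem N27408 : nd 27408 = n43335 := ndS (p := 26719) (l := 3) rfl N26719 D43335
theorem N27409 : nd 27409 = n43336 := ndS (p := 26719) (l := 9) rfl N26719 D43336
theorem N27410 : nd 27410 = n43337 := ndS (p := 26721) (l := 2) rfl N26721 D43337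
theorem N27411 : nd 27411 = n43338 := ndS (p := 26722) (l := 2) rfl N26722 D43338
theorem N27412 : nd 27412 = n43339 := ndS (p := 26722) (l := 9) rfl N26722 D43339
theorem N27413 : nd 27413 = n43340 := ndS (p := 26723) (l := 8) rfl N26723 D43340
theorem N27414 : nd 27414 = n43341 := ndS (p := 26726) (l := 8) rfl N26726 D43341
theorem N27415 : nd 27415 = n43342 := ndS (p := 26727) (l := 5) rfl N26727 D43342
theorem N27416 : nd 27416 = n43343 := ndS (p := 26730) (l := 6) rfl N26730 D43343
theorem N27417 : nd 27417 = n43344 := ndS (p := 26730) (l := 9) rfl N26730 D43344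
theorem N27418 : nd 27418 = n43345 := ndS (p := 26731) (l := 7) rfl N26731 D43345
theorem N27419 : nd 27419 = n43346 := ndS (p := 26731) (l := 9) rfl N26731 D43346
theorem N27420 : nd 27420 = n43347 := ndS (p := 26732) (l := 8) rfl N26732 D43347
theorem N27421 : nd 27421 = n43348 := ndS (p := 26733) (l := 9) rfl N26733 D43348
theorem N27422 : nd 27422 = n43349 := ndS (p := 26734) (l := 8) rfl N26734 D43349
theorem N27423 : nd 27423 = n43350 := ndS (p := 26735) (l := 5) rfl N26735 D43350
theorem N27424 : nd 27424 = n43351 := ndS (p := 26738) (l := 7) rfl N26738 D43351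
theorem N27425 : nd 27425 = n43352 := ndS (p := 26740) (l := 8) rfl N26740 D43352
theorem N27426 : nd 27426 = n43353 := ndS (p := 26746) (l := 5) rfl N26746 D43353
theorem N27427 : nd 27427 = n43354 := ndS (p := 26746) (l := 9) rfl N26746 D43354
theorem N27428 : nd 27428 = n43355 := ndS (p := 26750) (l := 5) rfl N26750 D43355
theorem N27429 : nd 27429 = n43356 := ndS (p := 26750) (l := 7) rfl N26750 D43356
theorem N27430 : nd 27430 = n43357 := ndS (p := 26750) (l := 9) rfl N26750 D43357
theorem N27431 : nd 27431 = n43358 := ndS (p := 26752) (l := 7) rfl N26752 D43358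
theorem N27432 : nd 27432 = n43359 := ndS (p := 26752) (l := 9) rfl N26752 D43359
theorem N27433 : nd 27433 = n43360 := ndS (p := 26753) (l := 9) rfl N26753 D43360
theorem N27434 : nd 27434 = n43361 := ndS (p := 26754) (l := 8) rfl N26754 D43361
theorem N27435 : nd 27435 = n43362 := ndS (p := 26759) (l := 5) rfl N26759 D43362
theorem N27436 : nd 27436 = n43363 := ndS (p := 26760) (l := 8) rfl N26760 D43363
theorem N27437 : nd 27437 = n43364 := ndS (p := 26761) (l := 9) rfl N26761 D43364
theorem N27438 : nd 27438 = n43365 := ndS (p := 26768) (l := 4) rfl N26768 D43365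
theorem N27439 : nd 27439 = n43366 := ndS (p := 26770) (l := 9) rfl N26770 D43366
theorem N27440 : nd 27440 = n43367 := ndS (p := 26775) (l := 9) rfl N26775 D43367
theorem N27441 : nd 27441 = n43368 := ndS (p := 26782) (l := 7) rfl N26782 D43368
theorem N27442 : nd 27442 = n43369 := ndS (p := 26782) (l := 9) rfl N26782 D43369
theorem N27443 : nd 27443 = n43370 := ndS (p := 26784) (l := 9) rfl N26784 D43370
theorem N27444 : nd 27444 = n43371 := ndS (p := 26786) (l := 8) rfl N26786 D43371
theorem N27445 : nd 27445 = n43372 := ndS (p := 26791) (l := 9) rfl N26791 D43372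
theorem N27446 : nd 27446 = n43373 := ndS (p := 26793) (l := 9) rfl N26793 D43373
theorem N27447 : nd 27447 = n43374 := ndS (p := 26795) (l := 5) rfl N26795 D43374
theorem N27448 : nd 27448 = n43375 := ndS (p := 26795) (l := 9) rfl N26795 D43375
theorem N27449 : nd 27449 = n43376 := ndS (p := 26796) (l := 8) rfl N26796 D43376
theorem N27450 : nd 27450 = n43377 := ndS (p := 26801) (l := 9) rfl N26801 D43377
theorem N27451 : nd 27451 = n43378 := ndS (p := 26803) (l := 7) rfl N26803 D43378
theorem N27452 : nd 27452 = n43379 := ndS (p := 26803) (l := 9) rfl N26803 D43379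
theorem N27453 : nd 27453 = n43380 := ndS (p := 26804) (l := 9) rfl N26804 D43380
theorem N27454 : nd 27454 = n43381 := ndS (p := 26810) (l := 9) rfl N26810 D43381
theorem N27455 : nd 27455 = n43382 := ndS (p := 26812) (l := 9) rfl N26812 D43382
theorem N27456 : nd 27456 = n43383 := ndS (p := 26814) (l := 9) rfl N26814 D43383
theorem N27457 : nd 27457 = n43384 := ndS (p := 26817) (l := 7) rfl N26817 D43384
theorem N27458 : nd 27458 = n43385 := ndS (p := 26817) (l := 9) rfl N26817 D43385
theorem N27459 : nd 27459 = n43386 := ndS (p := 26821) (l := 9) rfl N26821 D43386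
theorem N27460 : nd 27460 = n43387 := ndS (p := 26823) (l := 9) rfl N26823 D43387
theorem N27461 : nd 27461 = n43388 := ndS (p := 26826) (l := 7) rfl N26826 D43388
theorem N27462 : nd 27462 = n43389 := ndS (p := 26826) (l := 9) rfl N26826 D43389
theorem N27463 : nd 27463 = n43390 := ndS (p := 26827) (l := 8) rfl N26827 D43390
theorem N27464 : nd 27464 = n43391 := ndS (p := 26830) (l := 5) rfl N26830 D43391
theorem N27465 : nd 27465 = n43392 := ndS (p := 26830) (l := 9) rfl N26830 D43392
theorem N27466 : nd 27466 = n43393 := ndS (p := 26832) (l := 4) rfl N26832 D43393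
theorem N27467 : nd 27467 = n43394 := ndS (p := 26832) (l := 6) rfl N26832 D43394
theorem N27468 : nd 27468 = n43395 := ndS (p := 26832) (l := 9) rfl N26832 D43395
theorem N27469 : nd 27469 = n43396 := ndS (p := 26834) (l := 3) rfl N26834 D43396
theorem N27470 : nd 27470 = n43397 := ndS (p := 26834) (l := 9) rfl N26834 D43397
theorem N27471 : nd 27471 = n43398 := ndS (p := 26836) (l := 2) rfl N26836 D43398
theorem N27472 : nd 27472 = n43399 := ndS (p := 26837) (l := 2) rfl N26837 D43399
theorem N27473 : nd 27473 = n43400 := ndS (p := 26837) (l := 6) rfl N26837 D43400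
theorem N27474 : nd 27474 = n43401 := ndS (p := 26837) (l := 9) rfl N26837 D43401
theorem N27475 : nd 27475 = n43402 := ndS (p := 26838) (l := 5) rfl N26838 D43402
theorem N27476 : nd 27476 = n43403 := ndS (p := 26838) (l := 9) rfl N26838 D43403
theorem N27477 : nd 27477 = n43404 := ndS (p := 26839) (l := 8) rfl N26839 D43404
theorem N27478 : nd 27478 = n43405 := ndS (p := 26842) (l := 1) rfl N26842 D43405
theorem N27479 : nd 27479 = n43406 := ndS (p := 26842) (l := 6) rfl N26842 D43406
theorem N27480 : nd 27480 = n43407 := ndS (p := 26842) (l := 9) rfl N26842 D43407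
theorem N27481 : nd 27481 = n43408 := ndS (p := 26844) (l := 8) rfl N26844 D43408
theorem N27482 : nd 27482 = n43409 := ndS (p := 26845) (l := 5) rfl N26845 D43409
theorem N27483 : nd 27483 = n43410 := ndS (p := 26849) (l := 6) rfl N26849 D43410
theorem N27484 : nd 27484 = n43411 := ndS (p := 26849) (l := 9) rfl N26849 D43411
theorem N27485 : nd 27485 = n43412 := ndS (p := 26850) (l := 5) rfl N26850 D43412
theorem N27486 : nd 27486 = n43413 := ndS (p := 26850) (l := 7) rfl N26850 D43413
theorem N27487 : nd 27487 = n43414 := ndS (p := 26850) (l := 9) rfl N26850 D43414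
theorem N27488 : nd 27488 = n43415 := ndS (p := 26851) (l := 8) rfl N26851 D43415
theorem N27489 : nd 27489 = n43416 := ndS (p := 26852) (l := 7) rfl N26852 D43416
theorem N27490 : nd 27490 = n43417 := ndS (p := 26852) (l := 9) rfl N26852 D43417
theorem N27491 : nd 27491 = n43418 := ndS (p := 26853) (l := 9) rfl N26853 D43418
theorem N27492 : nd 27492 = n43419 := ndS (p := 26855) (l := 5) rfl N26855 D43419
theorem N27493 : nd 27493 = n43420 := ndS (p := 26857) (l := 7) rfl N26857 D43420
theorem N27494 : nd 27494 = n43421 := ndS (p := 26858) (l := 8) rfl N26858 D43421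
theorem N27495 : nd 27495 = n43422 := ndS (p := 26862) (l := 8) rfl N26862 D43422
theorem N27496 : nd 27496 = n43423 := ndS (p := 26863) (l := 5) rfl N26863 D43423
theorem N27497 : nd 27497 = n43424 := ndS (p := 26863) (l := 9) rfl N26863 D43424
theorem N27498 : nd 27498 = n43425 := ndS (p := 26865) (l := 6) rfl N26865 D43425
theorem N27499 : nd 27499 = n43426 := ndS (p := 26865) (l := 9) rfl N26865 D43426
theorem N27500 : nd 27500 = n43427 := ndS (p := 26867) (l := 2) rfl N26867 D43427
theorem N27501 : nd 27501 = n43428 := ndS (p := 26867) (l := 6) rfl N26867 D43428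
theorem N27502 : nd 27502 = n43429 := ndS (p := 26867) (l := 9) rfl N26867 D43429
theorem N27503 : nd 27503 = n43430 := ndS (p := 26868) (l := 5) rfl N26868 D43430
theorem N27504 : nd 27504 = n43431 := ndS (p := 26868) (l := 9) rfl N26868 D43431
theorem N27505 : nd 27505 = n43432 := ndS (p := 26871) (l := 6) rfl N26871 D43432
theorem N27506 : nd 27506 = n43433 := ndS (p := 26873) (l := 7) rfl N26873 D43433
theorem N27507 : nd 27507 = n43434 := ndS (p := 26873) (l := 9) rfl N26873 D43434
theorem N27508 : nd 27508 = n43435 := ndS (p := 26875) (l := 5) rfl N26875 D43435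
theorem N27509 : nd 27509 = n43436 := ndS (p := 26875) (l := 7) rfl N26875 D43436
theorem N27510 : nd 27510 = n43437 := ndS (p := 26875) (l := 9) rfl N26875 D43437
theorem N27511 : nd 27511 = n43438 := ndS (p := 26877) (l := 7) rfl N26877 D43438
theorem N27512 : nd 27512 = n43439 := ndS (p := 26877) (l := 9) rfl N26877 D43439
theorem N27513 : nd 27513 = n43440 := ndS (p := 26878) (l := 9) rfl N26878 D43440
theorem N27514 : nd 27514 = n43441 := ndS (p := 26882) (l := 9) rfl N26882 D43441
theorem N27515 : nd 27515 = n43442 := ndS (p := 26883) (l := 8) rfl N26883 D43442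
theorem N27516 : nd 27516 = n43443 := ndS (p := 26885) (l := 9) rfl N26885 D43443
theorem N27517 : nd 27517 = n43444 := ndS (p := 26886) (l := 9) rfl N26886 D43444
theorem N27518 : nd 27518 = n43445 := ndS (p := 26889) (l := 9) rfl N26889 D43445
theorem N27519 : nd 27519 = n43446 := ndS (p := 26891) (l := 5) rfl N26891 D43446
theorem N27520 : nd 27520 = n43447 := ndS (p := 26891) (l := 7) rfl N26891 D43447
theorem N27521 : nd 27521 = n43448 := ndS (p := 26891) (l := 9) rfl N26891 D43448
theorem N27522 : nd 27522 = n43449 := ndS (p := 26893) (l := 9) rfl N26893 D43449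
theorem N27523 : nd 27523 = n43450 := ndS (p := 26894) (l := 8) rfl N26894 D43450
theorem N27524 : nd 27524 = n43451 := ndS (p := 26896) (l := 5) rfl N26896 D43451
theorem N27525 : nd 27525 = n43452 := ndS (p := 26896) (l := 7) rfl N26896 D43452
theorem N27526 : nd 27526 = n43453 := ndS (p := 26896) (l := 9) rfl N26896 D43453
theorem N27527 : nd 27527 = n43454 := ndS (p := 26898) (l := 7) rfl N26898 D43454
theorem N27528 : nd 27528 = n43455 := ndS (p := 26898) (l := 9) rfl N26898 D43455
theorem N27529 : nd 27529 = n43456 := ndS (p := 26899) (l := 9) rfl N26899 D43456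
theorem N27530 : nd 27530 = n43457 := ndS (p := 26903) (l := 7) rfl N26903 D43457
theorem N27531 : nd 27531 = n43458 := ndS (p := 26904) (l := 9) rfl N26904 D43458
theorem N27532 : nd 27532 = n43459 := ndS (p := 26906) (l := 8) rfl N26906 D43459
theorem N27533 : nd 27533 = n43460 := ndS (p := 26912) (l := 9) rfl N26912 D43460
theorem N27534 : nd 27534 = n43461 := ndS (p := 26917) (l := 6) rfl N26917 D43461
theorem N27535 : nd 27535 = n43462 := ndS (p := 26923) (l := 9) rfl N26923 D43462
theorem N27536 : nd 27536 = n43463 := ndS (p := 26928) (l := 5) rfl N26928 D43463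
theorem N27537 : nd 27537 = n43464 := ndS (p := 26928) (l := 9) rfl N26928 D43464
theorem N27538 : nd 27538 = n43465 := ndS (p := 26931) (l := 5) rfl N26931 D43465
theorem N27539 : nd 27539 = n43466 := ndS (p := 26931) (l := 7) rfl N26931 D43466
theorem N27540 : nd 27540 = n43467 := ndS (p := 26931) (l := 9) rfl N26931 D43467
theorem N27541 : nd 27541 = n43468 := ndS (p := 26933) (l := 7) rfl N26933 D43468
theorem N27542 : nd 27542 = n43469 := ndS (p := 26933) (l := 9) rfl N26933 D43469
theorem N27543 : nd 27543 = n43470 := ndS (p := 26934) (l := 9) rfl N26934 D43470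
theorem N27544 : nd 27544 = n43471 := ndS (p := 26939) (l := 5) rfl N26939 D43471
theorem N27545 : nd 27545 = n43472 := ndS (p := 26939) (l := 9) rfl N26939 D43472
theorem N27546 : nd 27546 = n43473 := ndS (p := 26941) (l := 4) rfl N26941 D43473
theorem N27547 : nd 27547 = n43474 := ndS (p := 26941) (l := 6) rfl N26941 D43474
theorem N27548 : nd 27548 = n43475 := ndS (p := 26941) (l := 9) rfl N26941 D43475
theorem N27549 : nd 27549 = n43476 := ndS (p := 26943) (l := 3) rfl N26943 D43476
theorem N27550 : nd 27550 = n43477 := ndS (p := 26943) (l := 9) rfl N26943 D43477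
theorem N27551 : nd 27551 = n43478 := ndS (p := 26945) (l := 2) rfl N26945 D43478
theorem N27552 : nd 27552 = n43479 := ndS (p := 26946) (l := 2) rfl N26946 D43479
theorem N27553 : nd 27553 = n43480 := ndS (p := 26946) (l := 6) rfl N26946 D43480
theorem N27554 : nd 27554 = n43481 := ndS (p := 26946) (l := 9) rfl N26946 D43481
theorem N27555 : nd 27555 = n43482 := ndS (p := 26947) (l := 5) rfl N26947 D43482
theorem N27556 : nd 27556 = n43483 := ndS (p := 26947) (l := 9) rfl N26947 D43483
theorem N27557 : nd 27557 = n43484 := ndS (p := 26950) (l := 6) rfl N26950 D43484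
theorem N27558 : nd 27558 = n43485 := ndS (p := 26952) (l := 6) rfl N26952 D43485
theorem N27559 : nd 27559 = n43486 := ndS (p := 26952) (l := 9) rfl N26952 D43486
theorem N27560 : nd 27560 = n43487 := ndS (p := 26953) (l := 5) rfl N26953 D43487
theorem N27561 : nd 27561 = n43488 := ndS (p := 26953) (l := 7) rfl N26953 D43488
theorem N27562 : nd 27562 = n43489 := ndS (p := 26953) (l := 9) rfl N26953 D43489
theorem N27563 : nd 27563 = n43490 := ndS (p := 26955) (l := 7) rfl N26955 D43490
theorem N27564 : nd 27564 = n43491 := ndS (p := 26955) (l := 9) rfl N26955 D43491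
theorem N27565 : nd 27565 = n43492 := ndS (p := 26956) (l := 9) rfl N26956 D43492
theorem N27566 : nd 27566 = n43493 := ndS (p := 26959) (l := 7) rfl N26959 D43493
theorem N27567 : nd 27567 = n43494 := ndS (p := 26963) (l := 7) rfl N26963 D43494
theorem N27568 : nd 27568 = n43495 := ndS (p := 26963) (l := 9) rfl N26963 D43495
theorem N27569 : nd 27569 = n43496 := ndS (p := 26965) (l := 5) rfl N26965 D43496
theorem N27570 : nd 27570 = n43497 := ndS (p := 26965) (l := 7) rfl N26965 D43497
theorem N27571 : nd 27571 = n43498 := ndS (p := 26965) (l := 9) rfl N26965 D43498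
theorem N27572 : nd 27572 = n43499 := ndS (p := 26967) (l := 7) rfl N26967 D43499
theorem N27573 : nd 27573 = n43500 := ndS (p := 26967) (l := 9) rfl N26967 D43500
theorem N27574 : nd 27574 = n43501 := ndS (p := 26968) (l := 9) rfl N26968 D43501
theorem N27575 : nd 27575 = n43502 := ndS (p := 26969) (l := 8) rfl N26969 D43502
theorem N27576 : nd 27576 = n43503 := ndS (p := 26974) (l := 5) rfl N26974 D43503
theorem N27577 : nd 27577 = n43504 := ndS (p := 26975) (l := 9) rfl N26975 D43504
theorem N27578 : nd 27578 = n43505 := ndS (p := 26977) (l := 6) rfl N26977 D43505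
theorem N27579 : nd 27579 = n43506 := ndS (p := 26977) (l := 9) rfl N26977 D43506
theorem N27580 : nd 27580 = n43507 := ndS (p := 26978) (l := 8) rfl N26978 D43507
theorem N27581 : nd 27581 = n43508 := ndS (p := 26980) (l := 5) rfl N26980 D43508
theorem N27582 : nd 27582 = n43509 := ndS (p := 26981) (l := 4) rfl N26981 D43509
theorem N27583 : nd 27583 = n43510 := ndS (p := 26982) (l := 4) rfl N26982 D43510
theorem N27584 : nd 27584 = n43511 := ndS (p := 26984) (l := 7) rfl N26984 D43511
theorem N27585 : nd 27585 = n43512 := ndS (p := 26984) (l := 9) rfl N26984 D43512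
theorem N27586 : nd 27586 = n43513 := ndS (p := 26986) (l := 9) rfl N26986 D43513
theorem N27587 : nd 27587 = n43514 := ndS (p := 26991) (l := 9) rfl N26991 D43514
theorem N27588 : nd 27588 = n43515 := ndS (p := 26996) (l := 4) rfl N26996 D43515
theorem N27589 : nd 27589 = n43516 := ndS (p := 26996) (l := 7) rfl N26996 D43516
theorem N27590 : nd 27590 = n43517 := ndS (p := 26996) (l := 9) rfl N26996 D43517
theorem N27591 : nd 27591 = n43518 := ndS (p := 26997) (l := 9) rfl N26997 D43518
theorem N27592 : nd 27592 = n43519 := ndS (p := 26998) (l := 8) rfl N26998 D43519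
theorem N27593 : nd 27593 = n43520 := ndS (p := 27000) (l := 6) rfl N27000 D43520
theorem N27594 : nd 27594 = n43521 := ndS (p := 27000) (l := 9) rfl N27000 D43521
theorem N27595 : nd 27595 = n43522 := ndS (p := 27001) (l := 8) rfl N27001 D43522
theorem N27596 : nd 27596 = n43523 := ndS (p := 27002) (l := 8) rfl N27002 D43523
theorem N27597 : nd 27597 = n43524 := ndS (p := 27003) (l := 5) rfl N27003 D43524
theorem N27598 : nd 27598 = n43525 := ndS (p := 27004) (l := 6) rfl N27004 D43525
theorem N27599 : nd 27599 = n43526 := ndS (p := 27007) (l := 8) rfl N27007 D43526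
theorem N27600 : nd 27600 = n43527 := ndS (p := 27008) (l := 5) rfl N27008 D43527
theorem N27601 : nd 27601 = n43528 := ndS (p := 27009) (l := 5) rfl N27009 D43528
theorem N27602 : nd 27602 = n43529 := ndS (p := 27010) (l := 6) rfl N27010 D43529
theorem N27603 : nd 27603 = n43530 := ndS (p := 27011) (l := 7) rfl N27011 D43530
theorem N27604 : nd 27604 = n43531 := ndS (p := 27014) (l := 9) rfl N27014 D43531
theorem N27605 : nd 27605 = n43532 := ndS (p := 27016) (l := 7) rfl N27016 D43532
theorem N27606 : nd 27606 = n43533 := ndS (p := 27016) (l := 9) rfl N27016 D43533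
theorem N27607 : nd 27607 = n43534 := ndS (p := 27017) (l := 9) rfl N27017 D43534
theorem N27608 : nd 27608 = n43535 := ndS (p := 27020) (l := 9) rfl N27020 D43535
theorem N27609 : nd 27609 = n43536 := ndS (p := 27023) (l := 9) rfl N27023 D43536
theorem N27610 : nd 27610 = n43537 := ndS (p := 27025) (l := 9) rfl N27025 D43537
theorem N27611 : nd 27611 = n43538 := ndS (p := 27028) (l := 9) rfl N27028 D43538
theorem N27612 : nd 27612 = n43539 := ndS (p := 27030) (l := 9) rfl N27030 D43539
theorem N27613 : nd 27613 = n43540 := ndS (p := 27032) (l := 3) rfl N27032 D43540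
theorem N27614 : nd 27614 = n43541 := ndS (p := 27032) (l := 9) rfl N27032 D43541
theorem N27615 : nd 27615 = n43542 := ndS (p := 27033) (l := 8) rfl N27033 D43542
theorem N27616 : nd 27616 = n43543 := ndS (p := 27034) (l := 2) rfl N27034 D43543
theorem N27617 : nd 27617 = n43544 := ndS (p := 27034) (l := 9) rfl N27034 D43544
theorem N27618 : nd 27618 = n43545 := ndS (p := 27038) (l := 1) rfl N27038 D43545
theorem N27619 : nd 27619 = n43546 := ndS (p := 27038) (l := 9) rfl N27038 D43546
theorem N27620 : nd 27620 = n43547 := ndS (p := 27039) (l := 8) rfl N27039 D43547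
theorem N27621 : nd 27621 = n43548 := ndS (p := 27040) (l := 5) rfl N27040 D43548
theorem N27622 : nd 27622 = n43549 := ndS (p := 27042) (l := 8) rfl N27042 D43549
theorem N27623 : nd 27623 = n43550 := ndS (p := 27045) (l := 7) rfl N27045 D43550
theorem N27624 : nd 27624 = n43551 := ndS (p := 27045) (l := 9) rfl N27045 D43551
theorem N27625 : nd 27625 = n43552 := ndS (p := 27046) (l := 8) rfl N27046 D43552
theorem N27626 : nd 27626 = n43553 := ndS (p := 27047) (l := 9) rfl N27047 D43553
theorem N27627 : nd 27627 = n43554 := ndS (p := 27048) (l := 8) rfl N27048 D43554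
theorem N27628 : nd 27628 = n43555 := ndS (p := 27050) (l := 8) rfl N27050 D43555
theorem N27629 : nd 27629 = n43556 := ndS (p := 27057) (l := 8) rfl N27057 D43556
theorem N27630 : nd 27630 = n43557 := ndS (p := 27060) (l := 9) rfl N27060 D43557
theorem N27631 : nd 27631 = n43558 := ndS (p := 27062) (l := 7) rfl N27062 D43558
theorem N27632 : nd 27632 = n43559 := ndS (p := 27062) (l := 9) rfl N27062 D43559
theorem N27633 : nd 27633 = n43560 := ndS (p := 27063) (l := 9) rfl N27063 D43560
theorem N27634 : nd 27634 = n43561 := ndS (p := 27065) (l := 9) rfl N27065 D43561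
theorem N27635 : nd 27635 = n43562 := ndS (p := 27066) (l := 8) rfl N27066 D43562
theorem N27636 : nd 27636 = n43563 := ndS (p := 27067) (l := 8) rfl N27067 D43563
theorem N27637 : nd 27637 = n43564 := ndS (p := 27068) (l := 5) rfl N27068 D43564
theorem N27638 : nd 27638 = n43565 := ndS (p := 27070) (l := 4) rfl N27070 D43565
theorem N27639 : nd 27639 = n43566 := ndS (p := 27071) (l := 5) rfl N27071 D43566
theorem N27640 : nd 27640 = n43567 := ndS (p := 27075) (l := 4) rfl N27075 D43567
theorem N27641 : nd 27641 = n43568 := ndS (p := 27075) (l := 9) rfl N27075 D43568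
theorem N27642 : nd 27642 = n43569 := ndS (p := 27076) (l := 9) rfl N27076 D43569
theorem N27643 : nd 27643 = n43570 := ndS (p := 27078) (l := 9) rfl N27078 D43570
theorem N27644 : nd 27644 = n43571 := ndS (p := 27083) (l := 6) rfl N27083 D43571
theorem N27645 : nd 27645 = n43572 := ndS (p := 27083) (l := 9) rfl N27083 D43572
theorem N27646 : nd 27646 = n43573 := ndS (p := 27084) (l := 8) rfl N27084 D43573
theorem N27647 : nd 27647 = n43574 := ndS (p := 27087) (l := 4) rfl N27087 D43574
theorem N27648 : nd 27648 = n43575 := ndS (p := 27092) (l := 4) rfl N27092 D43575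
theorem N27649 : nd 27649 = n43576 := ndS (p := 27092) (l := 6) rfl N27092 D43576
theorem N27650 : nd 27650 = n43577 := ndS (p := 27092) (l := 9) rfl N27092 D43577
theorem N27651 : nd 27651 = n43578 := ndS (p := 27094) (l := 3) rfl N27094 D43578
theorem N27652 : nd 27652 = n43579 := ndS (p := 27094) (l := 9) rfl N27094 D43579
theorem N27653 : nd 27653 = n43580 := ndS (p := 27096) (l := 2) rfl N27096 D43580
theorem N27654 : nd 27654 = n43581 := ndS (p := 27097) (l := 2) rfl N27097 D43581
theorem N27655 : nd 27655 = n43582 := ndS (p := 27097) (l := 6) rfl N27097 D43582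
theorem N27656 : nd 27656 = n43583 := ndS (p := 27097) (l := 9) rfl N27097 D43583
theorem N27657 : nd 27657 = n43584 := ndS (p := 27098) (l := 5) rfl N27098 D43584
theorem N27658 : nd 27658 = n43585 := ndS (p := 27098) (l := 9) rfl N27098 D43585
theorem N27659 : nd 27659 = n43586 := ndS (p := 27099) (l := 8) rfl N27099 D43586
theorem N27660 : nd 27660 = n43587 := ndS (p := 27102) (l := 1) rfl N27102 D43587
theorem N27661 : nd 27661 = n43588 := ndS (p := 27102) (l := 6) rfl N27102 D43588
theorem N27662 : nd 27662 = n43589 := ndS (p := 27102) (l := 9) rfl N27102 D43589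
theorem N27663 : nd 27663 = n43590 := ndS (p := 27104) (l := 8) rfl N27104 D43590
theorem N27664 : nd 27664 = n43591 := ndS (p := 27105) (l := 5) rfl N27105 D43591
theorem N27665 : nd 27665 = n43592 := ndS (p := 27108) (l := 5) rfl N27108 D43592
theorem N27666 : nd 27666 = n43593 := ndS (p := 27110) (l := 1) rfl N27110 D43593
theorem N27667 : nd 27667 = n43594 := ndS (p := 27110) (l := 6) rfl N27110 D43594
theorem N27668 : nd 27668 = n43595 := ndS (p := 27110) (l := 9) rfl N27110 D43595
theorem N27669 : nd 27669 = n43596 := ndS (p := 27111) (l := 5) rfl N27111 D43596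
theorem N27670 : nd 27670 = n43597 := ndS (p := 27111) (l := 7) rfl N27111 D43597
theorem N27671 : nd 27671 = n43598 := ndS (p := 27111) (l := 9) rfl N27111 D43598
theorem N27672 : nd 27672 = n43599 := ndS (p := 27112) (l := 8) rfl N27112 D43599
theorem N27673 : nd 27673 = n43600 := ndS (p := 27113) (l := 7) rfl N27113 D43600
theorem N27674 : nd 27674 = n43601 := ndS (p := 27113) (l := 9) rfl N27113 D43601
theorem N27675 : nd 27675 = n43602 := ndS (p := 27114) (l := 9) rfl N27114 D43602
theorem N27676 : nd 27676 = n43603 := ndS (p := 27115) (l := 8) rfl N27115 D43603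
theorem N27677 : nd 27677 = n43604 := ndS (p := 27116) (l := 5) rfl N27116 D43604
theorem N27678 : nd 27678 = n43605 := ndS (p := 27119) (l := 6) rfl N27119 D43605
theorem N27679 : nd 27679 = n43606 := ndS (p := 27120) (l := 7) rfl N27120 D43606
theorem N27680 : nd 27680 = n43607 := ndS (p := 27121) (l := 8) rfl N27121 D43607
theorem N27681 : nd 27681 = n43608 := ndS (p := 27124) (l := 5) rfl N27124 D43608
theorem N27682 : nd 27682 = n43609 := ndS (p := 27126) (l := 7) rfl N27126 D43609
theorem N27683 : nd 27683 = n43610 := ndS (p := 27126) (l := 9) rfl N27126 D43610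
theorem N27684 : nd 27684 = n43611 := ndS (p := 27128) (l := 5) rfl N27128 D43611
theorem N27685 : nd 27685 = n43612 := ndS (p := 27128) (l := 7) rfl N27128 D43612
theorem N27686 : nd 27686 = n43613 := ndS (p := 27128) (l := 9) rfl N27128 D43613
theorem N27687 : nd 27687 = n43614 := ndS (p := 27130) (l := 7) rfl N27130 D43614
theorem N27688 : nd 27688 = n43615 := ndS (p := 27130) (l := 9) rfl N27130 D43615
theorem N27689 : nd 27689 = n43616 := ndS (p := 27131) (l := 9) rfl N27131 D43616
theorem N27690 : nd 27690 = n43617 := ndS (p := 27135) (l := 6) rfl N27135 D43617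
theorem N27691 : nd 27691 = n43618 := ndS (p := 27135) (l := 9) rfl N27135 D43618
theorem N27692 : nd 27692 = n43619 := ndS (p := 27136) (l := 8) rfl N27136 D43619
theorem N27693 : nd 27693 = n43620 := ndS (p := 27137) (l := 8) rfl N27137 D43620
theorem N27694 : nd 27694 = n43621 := ndS (p := 27138) (l := 5) rfl N27138 D43621
theorem N27695 : nd 27695 = n43622 := ndS (p := 27140) (l := 5) rfl N27140 D43622
theorem N27696 : nd 27696 = n43623 := ndS (p := 27142) (l := 5) rfl N27142 D43623
theorem N27697 : nd 27697 = n43624 := ndS (p := 27142) (l := 7) rfl N27142 D43624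
theorem N27698 : nd 27698 = n43625 := ndS (p := 27142) (l := 9) rfl N27142 D43625
theorem N27699 : nd 27699 = n43626 := ndS (p := 27144) (l := 9) rfl N27144 D43626
theorem N27700 : nd 27700 = n43627 := ndS (p := 27145) (l := 8) rfl N27145 D43627
theorem N27701 : nd 27701 = n43628 := ndS (p := 27147) (l := 5) rfl N27147 D43628
theorem N27702 : nd 27702 = n43629 := ndS (p := 27147) (l := 7) rfl N27147 D43629
theorem N27703 : nd 27703 = n43630 := ndS (p := 27147) (l := 9) rfl N27147 D43630
theorem N27704 : nd 27704 = n43631 := ndS (p := 27149) (l := 7) rfl N27149 D43631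
theorem N27705 : nd 27705 = n43632 := ndS (p := 27149) (l := 9) rfl N27149 D43632
theorem N27706 : nd 27706 = n43633 := ndS (p := 27150) (l := 9) rfl N27150 D43633
theorem N27707 : nd 27707 = n43634 := ndS (p := 27154) (l := 5) rfl N27154 D43634
theorem N27708 : nd 27708 = n43635 := ndS (p := 27154) (l := 7) rfl N27154 D43635
theorem N27709 : nd 27709 = n43636 := ndS (p := 27155) (l := 7) rfl N27155 D43636
theorem N27710 : nd 27710 = n43637 := ndS (p := 27155) (l := 9) rfl N27155 D43637
theorem N27711 : nd 27711 = n43638 := ndS (p := 27156) (l := 9) rfl N27156 D43638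
theorem N27712 : nd 27712 = n43639 := ndS (p := 27158) (l := 9) rfl N27158 D43639
theorem N27713 : nd 27713 = n43640 := ndS (p := 27162) (l := 9) rfl N27162 D43640
theorem N27714 : nd 27714 = n43641 := ndS (p := 27163) (l := 9) rfl N27163 D43641
theorem N27715 : nd 27715 = n43642 := ndS (p := 27165) (l := 6) rfl N27165 D43642
theorem N27716 : nd 27716 = n43643 := ndS (p := 27165) (l := 9) rfl N27165 D43643
theorem N27717 : nd 27717 = n43644 := ndS (p := 27167) (l := 8) rfl N27167 D43644
theorem N27718 : nd 27718 = n43645 := ndS (p := 27169) (l := 9) rfl N27169 D43645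
theorem N27719 : nd 27719 = n43646 := ndS (p := 27178) (l := 9) rfl N27178 D43646
theorem N27720 : nd 27720 = n43647 := ndS (p := 27180) (l := 4) rfl N27180 D43647
theorem N27721 : nd 27721 = n43648 := ndS (p := 27180) (l := 6) rfl N27180 D43648
theorem N27722 : nd 27722 = n43649 := ndS (p := 27180) (l := 9) rfl N27180 D43649
theorem N27723 : nd 27723 = n43650 := ndS (p := 27182) (l := 3) rfl N27182 D43650
theorem N27724 : nd 27724 = n43651 := ndS (p := 27182) (l := 9) rfl N27182 D43651
theorem N27725 : nd 27725 = n43652 := ndS (p := 27185) (l := 2) rfl N27185 D43652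
theorem N27726 : nd 27726 = n43653 := ndS (p := 27185) (l := 6) rfl N27185 D43653
theorem N27727 : nd 27727 = n43654 := ndS (p := 27185) (l := 9) rfl N27185 D43654
theorem N27728 : nd 27728 = n43655 := ndS (p := 27186) (l := 5) rfl N27186 D43655
theorem N27729 : nd 27729 = n43656 := ndS (p := 27186) (l := 9) rfl N27186 D43656
theorem N27730 : nd 27730 = n43657 := ndS (p := 27187) (l := 8) rfl N27187 D43657
theorem N27731 : nd 27731 = n43658 := ndS (p := 27192) (l := 8) rfl N27192 D43658
theorem N27732 : nd 27732 = n43659 := ndS (p := 27193) (l := 5) rfl N27193 D43659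
theorem N27733 : nd 27733 = n43660 := ndS (p := 27194) (l := 6) rfl N27194 D43660
theorem N27734 : nd 27734 = n43661 := ndS (p := 27195) (l := 9) rfl N27195 D43661
theorem N27735 : nd 27735 = n43662 := ndS (p := 27196) (l := 5) rfl N27196 D43662
theorem N27736 : nd 27736 = n43663 := ndS (p := 27196) (l := 9) rfl N27196 D43663
theorem N27737 : nd 27737 = n43664 := ndS (p := 27198) (l := 7) rfl N27198 D43664
theorem N27738 : nd 27738 = n43665 := ndS (p := 27198) (l := 9) rfl N27198 D43665
theorem N27739 : nd 27739 = n43666 := ndS (p := 27199) (l := 9) rfl N27199 D43666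
theorem N27740 : nd 27740 = n43667 := ndS (p := 27200) (l := 8) rfl N27200 D43667
theorem N27741 : nd 27741 = n43668 := ndS (p := 27201) (l := 5) rfl N27201 D43668
theorem N27742 : nd 27742 = n43669 := ndS (p := 27204) (l := 5) rfl N27204 D43669
theorem N27743 : nd 27743 = n43670 := ndS (p := 27205) (l := 6) rfl N27205 D43670
theorem N27744 : nd 27744 = n43671 := ndS (p := 27207) (l := 3) rfl N27207 D43671
theorem N27745 : nd 27745 = n43672 := ndS (p := 27207) (l := 9) rfl N27207 D43672
theorem N27746 : nd 27746 = n43673 := ndS (p := 27208) (l := 8) rfl N27208 D43673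
theorem N27747 : nd 27747 = n43674 := ndS (p := 27209) (l := 9) rfl N27209 D43674
theorem N27748 : nd 27748 = n43675 := ndS (p := 27211) (l := 9) rfl N27211 D43675
theorem N27749 : nd 27749 = n43676 := ndS (p := 27212) (l := 8) rfl N27212 D43676
theorem N27750 : nd 27750 = n43677 := ndS (p := 27213) (l := 5) rfl N27213 D43677
theorem N27751 : nd 27751 = n43678 := ndS (p := 27219) (l := 4) rfl N27219 D43678
theorem N27752 : nd 27752 = n43679 := ndS (p := 27219) (l := 6) rfl N27219 D43679
theorem N27753 : nd 27753 = n43680 := ndS (p := 27219) (l := 9) rfl N27219 D43680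
theorem N27754 : nd 27754 = n43681 := ndS (p := 27221) (l := 3) rfl N27221 D43681
theorem N27755 : nd 27755 = n43682 := ndS (p := 27221) (l := 9) rfl N27221 D43682
theorem N27756 : nd 27756 = n43683 := ndS (p := 27223) (l := 2) rfl N27223 D43683
theorem N27757 : nd 27757 = n43684 := ndS (p := 27224) (l := 2) rfl N27224 D43684
theorem N27758 : nd 27758 = n43685 := ndS (p := 27224) (l := 6) rfl N27224 D43685
theorem N27759 : nd 27759 = n43686 := ndS (p := 27224) (l := 9) rfl N27224 D43686
theorem N27760 : nd 27760 = n43687 := ndS (p := 27225) (l := 5) rfl N27225 D43687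
theorem N27761 : nd 27761 = n43688 := ndS (p := 27225) (l := 9) rfl N27225 D43688
theorem N27762 : nd 27762 = n43689 := ndS (p := 27229) (l := 6) rfl N27229 D43689
theorem N27763 : nd 27763 = n43690 := ndS (p := 27231) (l := 6) rfl N27231 D43690
theorem N27764 : nd 27764 = n43691 := ndS (p := 27231) (l := 9) rfl N27231 D43691
theorem N27765 : nd 27765 = n43692 := ndS (p := 27232) (l := 5) rfl N27232 D43692
theorem N27766 : nd 27766 = n43693 := ndS (p := 27232) (l := 7) rfl N27232 D43693
theorem N27767 : nd 27767 = n43694 := ndS (p := 27232) (l := 9) rfl N27232 D43694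
theorem N27768 : nd 27768 = n43695 := ndS (p := 27234) (l := 7) rfl N27234 D43695
theorem N27769 : nd 27769 = n43696 := ndS (p := 27234) (l := 9) rfl N27234 D43696
theorem N27770 : nd 27770 = n43697 := ndS (p := 27235) (l := 9) rfl N27235 D43697
theorem N27771 : nd 27771 = n43698 := ndS (p := 27239) (l := 7) rfl N27239 D43698
theorem N27772 : nd 27772 = n43699 := ndS (p := 27241) (l := 5) rfl N27241 D43699
theorem N27773 : nd 27773 = n43700 := ndS (p := 27241) (l := 9) rfl N27241 D43700
theorem N27774 : nd 27774 = n43701 := ndS (p := 27243) (l := 9) rfl N27243 D43701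
theorem N27775 : nd 27775 = n43702 := ndS (p := 27251) (l := 9) rfl N27251 D43702
theorem N27776 : nd 27776 = n43703 := ndS (p := 27260) (l := 5) rfl N27260 D43703
theorem N27777 : nd 27777 = n43704 := ndS (p := 27260) (l := 9) rfl N27260 D43704
theorem N27778 : nd 27778 = n43705 := ndS (p := 27261) (l := 8) rfl N27261 D43705
theorem N27779 : nd 27779 = n43706 := ndS (p := 27265) (l := 7) rfl N27265 D43706
theorem N27780 : nd 27780 = n43707 := ndS (p := 27265) (l := 9) rfl N27265 D43707
theorem N27781 : nd 27781 = n43708 := ndS (p := 27268) (l := 5) rfl N27268 D43708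
theorem N27782 : nd 27782 = n43709 := ndS (p := 27268) (l := 7) rfl N27268 D43709
theorem N27783 : nd 27783 = n43710 := ndS (p := 27268) (l := 9) rfl N27268 D43710
theorem N27784 : nd 27784 = n43711 := ndS (p := 27270) (l := 7) rfl N27270 D43711
theorem N27785 : nd 27785 = n43712 := ndS (p := 27270) (l := 9) rfl N27270 D43712
theorem N27786 : nd 27786 = n43713 := ndS (p := 27271) (l := 9) rfl N27271 D43713
theorem N27787 : nd 27787 = n43714 := ndS (p := 27272) (l := 8) rfl N27272 D43714
theorem N27788 : nd 27788 = n43715 := ndS (p := 27277) (l := 5) rfl N27277 D43715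
theorem N27789 : nd 27789 = n43716 := ndS (p := 27278) (l := 9) rfl N27278 D43716
theorem N27790 : nd 27790 = n43717 := ndS (p := 27280) (l := 9) rfl N27280 D43717
theorem N27791 : nd 27791 = n43718 := ndS (p := 27281) (l := 8) rfl N27281 D43718
theorem N27792 : nd 27792 = n43719 := ndS (p := 27283) (l := 5) rfl N27283 D43719
theorem N27793 : nd 27793 = n43720 := ndS (p := 27285) (l := 4) rfl N27285 D43720
theorem N27794 : nd 27794 = n43721 := ndS (p := 27286) (l := 4) rfl N27286 D43721
theorem N27795 : nd 27795 = n43722 := ndS (p := 27291) (l := 5) rfl N27291 D43722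
theorem N27796 : nd 27796 = n43723 := ndS (p := 27291) (l := 9) rfl N27291 D43723
theorem N27797 : nd 27797 = n43724 := ndS (p := 27294) (l := 5) rfl N27294 D43724
theorem N27798 : nd 27798 = n43725 := ndS (p := 27294) (l := 9) rfl N27294 D43725
theorem N27799 : nd 27799 = n43726 := ndS (p := 27296) (l := 7) rfl N27296 D43726
theorem N27800 : nd 27800 = n43727 := ndS (p := 27296) (l := 9) rfl N27296 D43727
theorem N27801 : nd 27801 = n43728 := ndS (p := 27297) (l := 9) rfl N27297 D43728
theorem N27802 : nd 27802 = n43729 := ndS (p := 27298) (l := 8) rfl N27298 D43729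
theorem N27803 : nd 27803 = n43730 := ndS (p := 27302) (l := 5) rfl N27302 D43730
theorem N27804 : nd 27804 = n43731 := ndS (p := 27303) (l := 4) rfl N27303 D43731
theorem N27805 : nd 27805 = n43732 := ndS (p := 27303) (l := 7) rfl N27303 D43732
theorem N27806 : nd 27806 = n43733 := ndS (p := 27303) (l := 9) rfl N27303 D43733
theorem N27807 : nd 27807 = n43734 := ndS (p := 27304) (l := 9) rfl N27304 D43734
theorem N27808 : nd 27808 = n43735 := ndS (p := 27305) (l := 8) rfl N27305 D43735
theorem N27809 : nd 27809 = n43736 := ndS (p := 27307) (l := 6) rfl N27307 D43736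
theorem N27810 : nd 27810 = n43737 := ndS (p := 27307) (l := 9) rfl N27307 D43737
theorem N27811 : nd 27811 = n43738 := ndS (p := 27308) (l := 8) rfl N27308 D43738
theorem N27812 : nd 27812 = n43739 := ndS (p := 27309) (l := 8) rfl N27309 D43739
theorem N27813 : nd 27813 = n43740 := ndS (p := 27310) (l := 5) rfl N27310 D43740
theorem N27814 : nd 27814 = n43741 := ndS (p := 27311) (l := 6) rfl N27311 D43741
theorem N27815 : nd 27815 = n43742 := ndS (p := 27313) (l := 4) rfl N27313 D43742
theorem N27816 : nd 27816 = n43743 := ndS (p := 27315) (l := 8) rfl N27315 D43743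
theorem N27817 : nd 27817 = n43744 := ndS (p := 27316) (l := 5) rfl N27316 D43744
theorem N27818 : nd 27818 = n43745 := ndS (p := 27317) (l := 5) rfl N27317 D43745
theorem N27819 : nd 27819 = n43746 := ndS (p := 27318) (l := 4) rfl N27318 D43746
theorem N27820 : nd 27820 = n43747 := ndS (p := 27318) (l := 6) rfl N27318 D43747
theorem N27821 : nd 27821 = n43748 := ndS (p := 27319) (l := 7) rfl N27319 D43748
theorem N27822 : nd 27822 = n43749 := ndS (p := 27322) (l := 3) rfl N27322 D43749
theorem N27823 : nd 27823 = n43750 := ndS (p := 27322) (l := 9) rfl N27322 D43750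
theorem N27824 : nd 27824 = n43751 := ndS (p := 27327) (l := 9) rfl N27327 D43751
theorem N27825 : nd 27825 = n43752 := ndS (p := 27329) (l := 7) rfl N27329 D43752
theorem N27826 : nd 27826 = n43753 := ndS (p := 27329) (l := 9) rfl N27329 D43753
theorem N27827 : nd 27827 = n43754 := ndS (p := 27330) (l := 9) rfl N27330 D43754
theorem N27828 : nd 27828 = n43755 := ndS (p := 27331) (l := 8) rfl N27331 D43755
theorem N27829 : nd 27829 = n43756 := ndS (p := 27336) (l := 9) rfl N27336 D43756
theorem N27830 : nd 27830 = n43757 := ndS (p := 27340) (l := 4) rfl N27340 D43757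
theorem N27831 : nd 27831 = n43758 := ndS (p := 27343) (l := 9) rfl N27343 D43758
theorem N27832 : nd 27832 = n43759 := ndS (p := 27345) (l := 5) rfl N27345 D43759
theorem N27833 : nd 27833 = n43760 := ndS (p := 27345) (l := 9) rfl N27345 D43760
theorem N27834 : nd 27834 = n43761 := ndS (p := 27347) (l := 9) rfl N27347 D43761
theorem N27835 : nd 27835 = n43762 := ndS (p := 27350) (l := 9) rfl N27350 D43762
theorem N27836 : nd 27836 = n43763 := ndS (p := 27352) (l := 9) rfl N27352 D43763
theorem N27837 : nd 27837 = n43764 := ndS (p := 27354) (l := 9) rfl N27354 D43764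
theorem N27838 : nd 27838 = n43765 := ndS (p := 27356) (l := 8) rfl N27356 D43765
theorem N27839 : nd 27839 = n43766 := ndS (p := 27357) (l := 9) rfl N27357 D43766
theorem N27840 : nd 27840 = n43767 := ndS (p := 27359) (l := 9) rfl N27359 D43767
theorem N27841 : nd 27841 = n43768 := ndS (p := 27361) (l := 9) rfl N27361 D43768
theorem N27842 : nd 27842 = n43769 := ndS (p := 27364) (l := 9) rfl N27364 D43769
theorem N27843 : nd 27843 = n43770 := ndS (p := 27365) (l := 9) rfl N27365 D43770
theorem N27844 : nd 27844 = n43771 := ndS (p := 27366) (l := 8) rfl N27366 D43771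
theorem N27845 : nd 27845 = n43772 := ndS (p := 27368) (l := 9) rfl N27368 D43772
theorem N27846 : nd 27846 = n43773 := ndS (p := 27370) (l := 9) rfl N27370 D43773
theorem N27847 : nd 27847 = n43774 := ndS (p := 27373) (l := 9) rfl N27373 D43774
theorem N27848 : nd 27848 = n43775 := ndS (p := 27374) (l := 8) rfl N27374 D43775
theorem N27849 : nd 27849 = n43776 := ndS (p := 27375) (l := 6) rfl N27375 D43776
theorem N27850 : nd 27850 = n43777 := ndS (p := 27375) (l := 9) rfl N27375 D43777
theorem N27851 : nd 27851 = n43778 := ndS (p := 27376) (l := 7) rfl N27376 D43778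
theorem N27852 : nd 27852 = n43779 := ndS (p := 27376) (l := 9) rfl N27376 D43779
theorem N27853 : nd 27853 = n43780 := ndS (p := 27377) (l := 8) rfl N27377 D43780
theorem N27854 : nd 27854 = n43781 := ndS (p := 27378) (l := 2) rfl N27378 D43781
theorem N27855 : nd 27855 = n43782 := ndS (p := 27378) (l := 9) rfl N27378 D43782
theorem N27856 : nd 27856 = n43783 := ndS (p := 27381) (l := 1) rfl N27381 D43783
theorem N27857 : nd 27857 = n43784 := ndS (p := 27381) (l := 9) rfl N27381 D43784
theorem N27858 : nd 27858 = n43785 := ndS (p := 27384) (l := 6) rfl N27384 D43785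
theorem N27859 : nd 27859 = n43786 := ndS (p := 27384) (l := 9) rfl N27384 D43786
theorem N27860 : nd 27860 = n43787 := ndS (p := 27385) (l := 7) rfl N27385 D43787
theorem N27861 : nd 27861 = n43788 := ndS (p := 27385) (l := 9) rfl N27385 D43788
theorem N27862 : nd 27862 = n43789 := ndS (p := 27387) (l := 9) rfl N27387 D43789
theorem N27863 : nd 27863 = n43790 := ndS (p := 27393) (l := 4) rfl N27393 D43790
theorem N27864 : nd 27864 = n43791 := ndS (p := 27393) (l := 9) rfl N27393 D43791
theorem N27865 : nd 27865 = n43792 := ndS (p := 27395) (l := 9) rfl N27395 D43792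
theorem N27866 : nd 27866 = n43793 := ndS (p := 27397) (l := 9) rfl N27397 D43793
theorem N27867 : nd 27867 = n43794 := ndS (p := 27398) (l := 8) rfl N27398 D43794
theorem N27868 : nd 27868 = n43795 := ndS (p := 27400) (l := 8) rfl N27400 D43795
theorem N27869 : nd 27869 = n43796 := ndS (p := 27401) (l := 8) rfl N27401 D43796
theorem N27870 : nd 27870 = n43797 := ndS (p := 27403) (l := 9) rfl N27403 D43797
theorem N27871 : nd 27871 = n43798 := ndS (p := 27406) (l := 9) rfl N27406 D43798
theorem N27872 : nd 27872 = n43799 := ndS (p := 27407) (l := 8) rfl N27407 D43799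
theorem N27873 : nd 27873 = n43800 := ndS (p := 27408) (l := 2) rfl N27408 D43800
theorem N27874 : nd 27874 = n43801 := ndS (p := 27408) (l := 9) rfl N27408 D43801
theorem N27875 : nd 27875 = n43802 := ndS (p := 27411) (l := 9) rfl N27411 D43802
theorem N27876 : nd 27876 = n43803 := ndS (p := 27412) (l := 8) rfl N27412 D43803
theorem N27877 : nd 27877 = n43804 := ndS (p := 27413) (l := 5) rfl N27413 D43804
theorem N27878 : nd 27878 = n43805 := ndS (p := 27416) (l := 7) rfl N27416 D43805
theorem N27879 : nd 27879 = n43806 := ndS (p := 27416) (l := 9) rfl N27416 D43806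
theorem N27880 : nd 27880 = n43807 := ndS (p := 27418) (l := 9) rfl N27418 D43807
theorem N27881 : nd 27881 = n43808 := ndS (p := 27419) (l := 8) rfl N27419 D43808
theorem N27882 : nd 27882 = n43809 := ndS (p := 27426) (l := 9) rfl N27426 D43809
theorem N27883 : nd 27883 = n43810 := ndS (p := 27428) (l := 7) rfl N27428 D43810
theorem N27884 : nd 27884 = n43811 := ndS (p := 27428) (l := 9) rfl N27428 D43811
theorem N27885 : nd 27885 = n43812 := ndS (p := 27429) (l := 9) rfl N27429 D43812
theorem N27886 : nd 27886 = n43813 := ndS (p := 27431) (l := 9) rfl N27431 D43813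
theorem N27887 : nd 27887 = n43814 := ndS (p := 27432) (l := 8) rfl N27432 D43814
theorem N27888 : nd 27888 = n43815 := ndS (p := 27434) (l := 5) rfl N27434 D43815
theorem N27889 : nd 27889 = n43816 := ndS (p := 27436) (l := 9) rfl N27436 D43816
theorem N27890 : nd 27890 = n43817 := ndS (p := 27440) (l := 8) rfl N27440 D43817
theorem N27891 : nd 27891 = n43818 := ndS (p := 27441) (l := 9) rfl N27441 D43818
theorem N27892 : nd 27892 = n43819 := ndS (p := 27447) (l := 9) rfl N27447 D43819
theorem N27893 : nd 27893 = n43820 := ndS (p := 27451) (l := 6) rfl N27451 D43820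
theorem N27894 : nd 27894 = n43821 := ndS (p := 27451) (l := 9) rfl N27451 D43821
theorem N27895 : nd 27895 = n43822 := ndS (p := 27452) (l := 8) rfl N27452 D43822
theorem N27896 : nd 27896 = n43823 := ndS (p := 27455) (l := 8) rfl N27455 D43823
theorem N27897 : nd 27897 = n43824 := ndS (p := 27457) (l := 9) rfl N27457 D43824
theorem N27898 : nd 27898 = n43825 := ndS (p := 27459) (l := 8) rfl N27459 D43825
theorem N27899 : nd 27899 = n43826 := ndS (p := 27460) (l := 8) rfl N27460 D43826
theorem N27900 : nd 27900 = n43827 := ndS (p := 27461) (l := 9) rfl N27461 D43827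
theorem N27901 : nd 27901 = n43828 := ndS (p := 27462) (l := 8) rfl N27462 D43828
theorem N27902 : nd 27902 = n43829 := ndS (p := 27464) (l := 6) rfl N27464 D43829
theorem N27903 : nd 27903 = n43830 := ndS (p := 27464) (l := 9) rfl N27464 D43830
theorem N27904 : nd 27904 = n43831 := ndS (p := 27466) (l := 3) rfl N27466 D43831
theorem N27905 : nd 27905 = n43832 := ndS (p := 27466) (l := 6) rfl N27466 D43832
theorem N27906 : nd 27906 = n43833 := ndS (p := 27466) (l := 9) rfl N27466 D43833
theorem N27907 : nd 27907 = n43834 := ndS (p := 27467) (l := 7) rfl N27467 D43834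
theorem N27908 : nd 27908 = n43835 := ndS (p := 27467) (l := 9) rfl N27467 D43835
theorem N27909 : nd 27909 = n43836 := ndS (p := 27468) (l := 8) rfl N27468 D43836
theorem N27910 : nd 27910 = n43837 := ndS (p := 27469) (l := 2) rfl N27469 D43837
theorem N27911 : nd 27911 = n43838 := ndS (p := 27469) (l := 9) rfl N27469 D43838
theorem N27912 : nd 27912 = n43839 := ndS (p := 27472) (l := 1) rfl N27472 D43839
theorem N27913 : nd 27913 = n43840 := ndS (p := 27472) (l := 6) rfl N27472 D43840
theorem N27914 : nd 27914 = n43841 := ndS (p := 27472) (l := 9) rfl N27472 D43841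
theorem N27915 : nd 27915 = n43842 := ndS (p := 27473) (l := 5) rfl N27473 D43842
theorem N27916 : nd 27916 = n43843 := ndS (p := 27473) (l := 9) rfl N27473 D43843
theorem N27917 : nd 27917 = n43844 := ndS (p := 27474) (l := 8) rfl N27474 D43844
theorem N27918 : nd 27918 = n43845 := ndS (p := 27475) (l := 9) rfl N27475 D43845
theorem N27919 : nd 27919 = n43846 := ndS (p := 27477) (l := 5) rfl N27477 D43846
theorem N27920 : nd 27920 = n43847 := ndS (p := 27480) (l := 8) rfl N27480 D43847
theorem N27921 : nd 27921 = n43848 := ndS (p := 27483) (l := 5) rfl N27483 D43848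
theorem N27922 : nd 27922 = n43849 := ndS (p := 27483) (l := 7) rfl N27483 D43849
theorem N27923 : nd 27923 = n43850 := ndS (p := 27483) (l := 9) rfl N27483 D43850
theorem N27924 : nd 27924 = n43851 := ndS (p := 27484) (l := 8) rfl N27484 D43851
theorem N27925 : nd 27925 = n43852 := ndS (p := 27485) (l := 7) rfl N27485 D43852
theorem N27926 : nd 27926 = n43853 := ndS (p := 27485) (l := 9) rfl N27485 D43853
theorem N27927 : nd 27927 = n43854 := ndS (p := 27486) (l := 9) rfl N27486 D43854
theorem N27928 : nd 27928 = n43855 := ndS (p := 27489) (l := 9) rfl N27489 D43855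
theorem N27929 : nd 27929 = n43856 := ndS (p := 27490) (l := 8) rfl N27490 D43856
theorem N27930 : nd 27930 = n43857 := ndS (p := 27495) (l := 9) rfl N27495 D43857
theorem N27931 : nd 27931 = n43858 := ndS (p := 27496) (l := 6) rfl N27496 D43858
theorem N27932 : nd 27932 = n43859 := ndS (p := 27496) (l := 9) rfl N27496 D43859
theorem N27933 : nd 27933 = n43860 := ndS (p := 27498) (l := 9) rfl N27498 D43860
theorem N27934 : nd 27934 = n43861 := ndS (p := 27500) (l := 6) rfl N27500 D43861
theorem N27935 : nd 27935 = n43862 := ndS (p := 27500) (l := 9) rfl N27500 D43862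
theorem N27936 : nd 27936 = n43863 := ndS (p := 27501) (l := 9) rfl N27501 D43863
theorem N27937 : nd 27937 = n43864 := ndS (p := 27503) (l := 9) rfl N27503 D43864
theorem N27938 : nd 27938 = n43865 := ndS (p := 27506) (l := 9) rfl N27506 D43865
theorem N27939 : nd 27939 = n43866 := ndS (p := 27508) (l := 4) rfl N27508 D43866
theorem N27940 : nd 27940 = n43867 := ndS (p := 27508) (l := 7) rfl N27508 D43867
theorem N27941 : nd 27941 = n43868 := ndS (p := 27508) (l := 9) rfl N27508 D43868
theorem N27942 : nd 27942 = n43869 := ndS (p := 27509) (l := 9) rfl N27509 D43869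
theorem N27943 : nd 27943 = n43870 := ndS (p := 27511) (l := 9) rfl N27511 D43870
theorem N27944 : nd 27944 = n43871 := ndS (p := 27512) (l := 8) rfl N27512 D43871
theorem N27945 : nd 27945 = n43872 := ndS (p := 27514) (l := 8) rfl N27514 D43872
theorem N27946 : nd 27946 = n43873 := ndS (p := 27519) (l := 7) rfl N27519 D43873
theorem N27947 : nd 27947 = n43874 := ndS (p := 27519) (l := 9) rfl N27519 D43874
theorem N27948 : nd 27948 = n43875 := ndS (p := 27520) (l := 9) rfl N27520 D43875
theorem N27949 : nd 27949 = n43876 := ndS (p := 27522) (l := 8) rfl N27522 D43876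
theorem N27950 : nd 27950 = n43877 := ndS (p := 27524) (l := 7) rfl N27524 D43877
theorem N27951 : nd 27951 = n43878 := ndS (p := 27524) (l := 9) rfl N27524 D43878
theorem N27952 : nd 27952 = n43879 := ndS (p := 27525) (l := 9) rfl N27525 D43879
theorem N27953 : nd 27953 = n43880 := ndS (p := 27527) (l := 6) rfl N27527 D43880
theorem N27954 : nd 27954 = n43881 := ndS (p := 27527) (l := 9) rfl N27527 D43881
theorem N27955 : nd 27955 = n43882 := ndS (p := 27528) (l := 8) rfl N27528 D43882
theorem N27956 : nd 27956 = n43883 := ndS (p := 27536) (l := 9) rfl N27536 D43883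
theorem N27957 : nd 27957 = n43884 := ndS (p := 27538) (l := 7) rfl N27538 D43884
theorem N27958 : nd 27958 = n43885 := ndS (p := 27538) (l := 9) rfl N27538 D43885
theorem N27959 : nd 27959 = n43886 := ndS (p := 27539) (l := 9) rfl N27539 D43886
theorem N27960 : nd 27960 = n43887 := ndS (p := 27541) (l := 9) rfl N27541 D43887
theorem N27961 : nd 27961 = n43888 := ndS (p := 27542) (l := 8) rfl N27542 D43888
theorem N27962 : nd 27962 = n43889 := ndS (p := 27544) (l := 9) rfl N27544 D43889
theorem N27963 : nd 27963 = n43890 := ndS (p := 27546) (l := 3) rfl N27546 D43890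
theorem N27964 : nd 27964 = n43891 := ndS (p := 27546) (l := 6) rfl N27546 D43891
theorem N27965 : nd 27965 = n43892 := ndS (p := 27546) (l := 9) rfl N27546 D43892
theorem N27966 : nd 27966 = n43893 := ndS (p := 27547) (l := 7) rfl N27547 D43893
theorem N27967 : nd 27967 = n43894 := ndS (p := 27547) (l := 9) rfl N27547 D43894
theorem N27968 : nd 27968 = n43895 := ndS (p := 27548) (l := 8) rfl N27548 D43895
theorem N27969 : nd 27969 = n43896 := ndS (p := 27549) (l := 2) rfl N27549 D43896
theorem N27970 : nd 27970 = n43897 := ndS (p := 27549) (l := 9) rfl N27549 D43897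
theorem N27971 : nd 27971 = n43898 := ndS (p := 27552) (l := 6) rfl N27552 D43898
theorem N27972 : nd 27972 = n43899 := ndS (p := 27552) (l := 9) rfl N27552 D43899
theorem N27973 : nd 27973 = n43900 := ndS (p := 27553) (l := 5) rfl N27553 D43900
theorem N27974 : nd 27974 = n43901 := ndS (p := 27553) (l := 9) rfl N27553 D43901
theorem N27975 : nd 27975 = n43902 := ndS (p := 27555) (l := 9) rfl N27555 D43902
theorem N27976 : nd 27976 = n43903 := ndS (p := 27558) (l := 7) rfl N27558 D43903
theorem N27977 : nd 27977 = n43904 := ndS (p := 27558) (l := 9) rfl N27558 D43904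
theorem N27978 : nd 27978 = n43905 := ndS (p := 27560) (l := 7) rfl N27560 D43905
theorem N27979 : nd 27979 = n43906 := ndS (p := 27560) (l := 9) rfl N27560 D43906
theorem N27980 : nd 27980 = n43907 := ndS (p := 27561) (l := 9) rfl N27561 D43907
theorem N27981 : nd 27981 = n43908 := ndS (p := 27563) (l := 9) rfl N27563 D43908
theorem N27982 : nd 27982 = n43909 := ndS (p := 27564) (l := 8) rfl N27564 D43909
theorem N27983 : nd 27983 = n43910 := ndS (p := 27567) (l := 9) rfl N27567 D43910
theorem N27984 : nd 27984 = n43911 := ndS (p := 27569) (l := 7) rfl N27569 D43911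
theorem N27985 : nd 27985 = n43912 := ndS (p := 27569) (l := 9) rfl N27569 D43912
theorem N27986 : nd 27986 = n43913 := ndS (p := 27570) (l := 9) rfl N27570 D43913
theorem N27987 : nd 27987 = n43914 := ndS (p := 27572) (l := 9) rfl N27572 D43914
theorem N27988 : nd 27988 = n43915 := ndS (p := 27573) (l := 8) rfl N27573 D43915
theorem N27989 : nd 27989 = n43916 := ndS (p := 27575) (l := 5) rfl N27575 D43916
theorem N27990 : nd 27990 = n43917 := ndS (p := 27577) (l := 8) rfl N27577 D43917
theorem N27991 : nd 27991 = n43918 := ndS (p := 27578) (l := 9) rfl N27578 D43918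
theorem N27992 : nd 27992 = n43919 := ndS (p := 27579) (l := 8) rfl N27579 D43919
theorem N27993 : nd 27993 = n43920 := ndS (p := 27580) (l := 5) rfl N27580 D43920
theorem N27994 : nd 27994 = n43921 := ndS (p := 27581) (l := 4) rfl N27581 D43921
theorem N27995 : nd 27995 = n43922 := ndS (p := 27584) (l := 9) rfl N27584 D43922
theorem N27996 : nd 27996 = n43923 := ndS (p := 27588) (l := 9) rfl N27588 D43923
theorem N27997 : nd 27997 = n43924 := ndS (p := 27589) (l := 9) rfl N27589 D43924
theorem N27998 : nd 27998 = n43925 := ndS (p := 27590) (l := 8) rfl N27590 D43925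
theorem N27999 : nd 27999 = n43926 := ndS (p := 27591) (l := 8) rfl N27591 D43926
theorem N28000 : nd 28000 = n43927 := ndS (p := 27592) (l := 5) rfl N27592 D43927
theorem N28001 : nd 28001 = n43928 := ndS (p := 27593) (l := 9) rfl N27593 D43928
theorem N28002 : nd 28002 = n43929 := ndS (p := 27594) (l := 8) rfl N27594 D43929
theorem N28003 : nd 28003 = n43930 := ndS (p := 27595) (l := 5) rfl N27595 D43930
theorem N28004 : nd 28004 = n43931 := ndS (p := 27596) (l := 5) rfl N27596 D43931
theorem N28005 : nd 28005 = n43932 := ndS (p := 27597) (l := 6) rfl N27597 D43932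
theorem N28006 : nd 28006 = n43933 := ndS (p := 27598) (l := 7) rfl N27598 D43933
theorem N28007 : nd 28007 = n43934 := ndS (p := 27599) (l := 5) rfl N27599 D43934
theorem N28008 : nd 28008 = n43935 := ndS (p := 27602) (l := 7) rfl N27602 D43935
theorem N28009 : nd 28009 = n43936 := ndS (p := 27605) (l := 6) rfl N27605 D43936
theorem N28010 : nd 28010 = n43937 := ndS (p := 27605) (l := 9) rfl N27605 D43937
theorem N28011 : nd 28011 = n43938 := ndS (p := 27606) (l := 8) rfl N27606 D43938
theorem N28012 : nd 28012 = n43939 := ndS (p := 27611) (l := 8) rfl N27611 D43939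
theorem N28013 : nd 28013 = n43940 := ndS (p := 27612) (l := 8) rfl N27612 D43940
theorem N28014 : nd 28014 = n43941 := ndS (p := 27613) (l := 9) rfl N27613 D43941
theorem N28015 : nd 28015 = n43942 := ndS (p := 27614) (l := 8) rfl N27614 D43942
theorem N28016 : nd 28016 = n43943 := ndS (p := 27616) (l := 9) rfl N27616 D43943
theorem N28017 : nd 28017 = n43944 := ndS (p := 27618) (l := 9) rfl N27618 D43944
theorem N28018 : nd 28018 = n43945 := ndS (p := 27619) (l := 8) rfl N27619 D43945
theorem N28019 : nd 28019 = n43946 := ndS (p := 27623) (l := 9) rfl N27623 D43946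
theorem N28020 : nd 28020 = n43947 := ndS (p := 27626) (l := 8) rfl N27626 D43947
theorem N28021 : nd 28021 = n43948 := ndS (p := 27630) (l := 8) rfl N27630 D43948
theorem N28022 : nd 28022 = n43949 := ndS (p := 27631) (l := 9) rfl N27631 D43949
theorem N28023 : nd 28023 = n43950 := ndS (p := 27632) (l := 8) rfl N27632 D43950
theorem N28024 : nd 28024 = n43951 := ndS (p := 27634) (l := 8) rfl N27634 D43951
theorem N28025 : nd 28025 = n43952 := ndS (p := 27635) (l := 5) rfl N27635 D43952
theorem N28026 : nd 28026 = n43953 := ndS (p := 27636) (l := 5) rfl N27636 D43953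
theorem N28027 : nd 28027 = n43954 := ndS (p := 27640) (l := 9) rfl N27640 D43954
theorem N28028 : nd 28028 = n43955 := ndS (p := 27644) (l := 9) rfl N27644 D43955
theorem N28029 : nd 28029 = n43956 := ndS (p := 27645) (l := 8) rfl N27645 D43956
theorem N28030 : nd 28030 = n43957 := ndS (p := 27648) (l := 3) rfl N27648 D43957
theorem N28031 : nd 28031 = n43958 := ndS (p := 27648) (l := 6) rfl N27648 D43958
theorem N28032 : nd 28032 = n43959 := ndS (p := 27648) (l := 9) rfl N27648 D43959
theorem N28033 : nd 28033 = n43960 := ndS (p := 27649) (l := 7) rfl N27649 D43960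
theorem N28034 : nd 28034 = n43961 := ndS (p := 27649) (l := 9) rfl N27649 D43961
theorem N28035 : nd 28035 = n43962 := ndS (p := 27650) (l := 8) rfl N27650 D43962
theorem N28036 : nd 28036 = n43963 := ndS (p := 27651) (l := 2) rfl N27651 D43963
theorem N28037 : nd 28037 = n43964 := ndS (p := 27651) (l := 9) rfl N27651 D43964
theorem N28038 : nd 28038 = n43965 := ndS (p := 27654) (l := 1) rfl N27654 D43965
theorem N28039 : nd 28039 = n43966 := ndS (p := 27654) (l := 6) rfl N27654 D43966
theorem N28040 : nd 28040 = n43967 := ndS (p := 27654) (l := 9) rfl N27654 D43967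
theorem N28041 : nd 28041 = n43968 := ndS (p := 27655) (l := 5) rfl N27655 D43968
theorem N28042 : nd 28042 = n43969 := ndS (p := 27655) (l := 9) rfl N27655 D43969
theorem N28043 : nd 28043 = n43970 := ndS (p := 27656) (l := 8) rfl N27656 D43970
theorem N28044 : nd 28044 = n43971 := ndS (p := 27657) (l := 9) rfl N27657 D43971
theorem N28045 : nd 28045 = n43972 := ndS (p := 27659) (l := 5) rfl N27659 D43972
theorem N28046 : nd 28046 = n43973 := ndS (p := 27662) (l := 8) rfl N27662 D43973
theorem N28047 : nd 28047 = n43974 := ndS (p := 27663) (l := 5) rfl N27663 D43974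
theorem N28048 : nd 28048 = n43975 := ndS (p := 27666) (l := 6) rfl N27666 D43975
theorem N28049 : nd 28049 = n43976 := ndS (p := 27666) (l := 9) rfl N27666 D43976
theorem N28050 : nd 28050 = n43977 := ndS (p := 27667) (l := 5) rfl N27667 D43977
theorem N28051 : nd 28051 = n43978 := ndS (p := 27667) (l := 7) rfl N27667 D43978
theorem N28052 : nd 28052 = n43979 := ndS (p := 27667) (l := 9) rfl N27667 D43979
theorem N28053 : nd 28053 = n43980 := ndS (p := 27668) (l := 8) rfl N27668 D43980
theorem N28054 : nd 28054 = n43981 := ndS (p := 27669) (l := 7) rfl N27669 D43981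
theorem N28055 : nd 28055 = n43982 := ndS (p := 27669) (l := 9) rfl N27669 D43982
theorem N28056 : nd 28056 = n43983 := ndS (p := 27670) (l := 9) rfl N27670 D43983
theorem N28057 : nd 28057 = n43984 := ndS (p := 27673) (l := 9) rfl N27673 D43984
theorem N28058 : nd 28058 = n43985 := ndS (p := 27674) (l := 8) rfl N27674 D43985
theorem N28059 : nd 28059 = n43986 := ndS (p := 27676) (l := 5) rfl N27676 D43986
theorem N28060 : nd 28060 = n43987 := ndS (p := 27682) (l := 9) rfl N27682 D43987
theorem N28061 : nd 28061 = n43988 := ndS (p := 27684) (l := 4) rfl N27684 D43988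
theorem N28062 : nd 28062 = n43989 := ndS (p := 27684) (l := 7) rfl N27684 D43989
theorem N28063 : nd 28063 = n43990 := ndS (p := 27684) (l := 9) rfl N27684 D43990
theorem N28064 : nd 28064 = n43991 := ndS (p := 27685) (l := 9) rfl N27685 D43991
theorem N28065 : nd 28065 = n43992 := ndS (p := 27687) (l := 9) rfl N27687 D43992
theorem N28066 : nd 28066 = n43993 := ndS (p := 27688) (l := 8) rfl N27688 D43993
theorem N28067 : nd 28067 = n43994 := ndS (p := 27690) (l := 9) rfl N27690 D43994
theorem N28068 : nd 28068 = n43995 := ndS (p := 27691) (l := 8) rfl N27691 D43995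
theorem N28069 : nd 28069 = n43996 := ndS (p := 27692) (l := 5) rfl N27692 D43996
theorem N28070 : nd 28070 = n43997 := ndS (p := 27693) (l := 5) rfl N27693 D43997
theorem N28071 : nd 28071 = n43998 := ndS (p := 27696) (l := 7) rfl N27696 D43998
theorem N28072 : nd 28072 = n43999 := ndS (p := 27696) (l := 9) rfl N27696 D43999
theorem N28073 : nd 28073 = n44000 := ndS (p := 27697) (l := 9) rfl N27697 D44000
theorem N28074 : nd 28074 = n44001 := ndS (p := 27699) (l := 8) rfl N27699 D44001
theorem N28075 : nd 28075 = n44002 := ndS (p := 27700) (l := 5) rfl N27700 D44002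
theorem N28076 : nd 28076 = n44003 := ndS (p := 27701) (l := 7) rfl N27701 D44003
theorem N28077 : nd 28077 = n44004 := ndS (p := 27701) (l := 9) rfl N27701 D44004
theorem N28078 : nd 28078 = n44005 := ndS (p := 27702) (l := 9) rfl N27702 D44005
theorem N28079 : nd 28079 = n44006 := ndS (p := 27704) (l := 6) rfl N27704 D44006
theorem N28080 : nd 28080 = n44007 := ndS (p := 27704) (l := 9) rfl N27704 D44007
theorem N28081 : nd 28081 = n44008 := ndS (p := 27705) (l := 8) rfl N27705 D44008
theorem N28082 : nd 28082 = n44009 := ndS (p := 27709) (l := 9) rfl N27709 D44009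
theorem N28083 : nd 28083 = n44010 := ndS (p := 27715) (l := 9) rfl N27715 D44010
theorem N28084 : nd 28084 = n44011 := ndS (p := 27719) (l := 8) rfl N27719 D44011
theorem N28085 : nd 28085 = n44012 := ndS (p := 27720) (l := 3) rfl N27720 D44012
theorem N28086 : nd 28086 = n44013 := ndS (p := 27720) (l := 9) rfl N27720 D44013
theorem N28087 : nd 28087 = n44014 := ndS (p := 27721) (l := 9) rfl N27721 D44014
theorem N28088 : nd 28088 = n44015 := ndS (p := 27722) (l := 8) rfl N27722 D44015
theorem N28089 : nd 28089 = n44016 := ndS (p := 27723) (l := 9) rfl N27723 D44016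
theorem N28090 : nd 28090 = n44017 := ndS (p := 27725) (l := 9) rfl N27725 D44017
theorem N28091 : nd 28091 = n44018 := ndS (p := 27726) (l := 5) rfl N27726 D44018
theorem N28092 : nd 28092 = n44019 := ndS (p := 27726) (l := 9) rfl N27726 D44019
theorem N28093 : nd 28093 = n44020 := ndS (p := 27727) (l := 8) rfl N27727 D44020
theorem N28094 : nd 28094 = n44021 := ndS (p := 27728) (l := 9) rfl N27728 D44021
theorem N28095 : nd 28095 = n44022 := ndS (p := 27730) (l := 5) rfl N27730 D44022
theorem N28096 : nd 28096 = n44023 := ndS (p := 27732) (l := 6) rfl N27732 D44023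
theorem N28097 : nd 28097 = n44024 := ndS (p := 27735) (l := 9) rfl N27735 D44024
theorem N28098 : nd 28098 = n44025 := ndS (p := 27737) (l := 9) rfl N27737 D44025
theorem N28099 : nd 28099 = n44026 := ndS (p := 27738) (l := 8) rfl N27738 D44026
theorem N28100 : nd 28100 = n44027 := ndS (p := 27740) (l := 5) rfl N27740 D44027
theorem N28101 : nd 28101 = n44028 := ndS (p := 27741) (l := 6) rfl N27741 D44028
theorem N28102 : nd 28102 = n44029 := ndS (p := 27742) (l := 6) rfl N27742 D44029
theorem N28103 : nd 28103 = n44030 := ndS (p := 27744) (l := 9) rfl N27744 D44030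
theorem N28104 : nd 28104 = n44031 := ndS (p := 27745) (l := 8) rfl N27745 D44031
theorem N28105 : nd 28105 = n44032 := ndS (p := 27751) (l := 3) rfl N27751 D44032
theorem N28106 : nd 28106 = n44033 := ndS (p := 27751) (l := 6) rfl N27751 D44033
theorem N28107 : nd 28107 = n44034 := ndS (p := 27751) (l := 9) rfl N27751 D44034
theorem N28108 : nd 28108 = n44035 := ndS (p := 27752) (l := 7) rfl N27752 D44035
theorem N28109 : nd 28109 = n44036 := ndS (p := 27752) (l := 9) rfl N27752 D44036
theorem N28110 : nd 28110 = n44037 := ndS (p := 27753) (l := 8) rfl N27753 D44037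
theorem N28111 : nd 28111 = n44038 := ndS (p := 27754) (l := 2) rfl N27754 D44038
theorem N28112 : nd 28112 = n44039 := ndS (p := 27754) (l := 9) rfl N27754 D44039
theorem N28113 : nd 28113 = n44040 := ndS (p := 27757) (l := 6) rfl N27757 D44040
theorem N28114 : nd 28114 = n44041 := ndS (p := 27757) (l := 9) rfl N27757 D44041
theorem N28115 : nd 28115 = n44042 := ndS (p := 27758) (l := 5) rfl N27758 D44042
theorem N28116 : nd 28116 = n44043 := ndS (p := 27758) (l := 9) rfl N27758 D44043
theorem N28117 : nd 28117 = n44044 := ndS (p := 27760) (l := 9) rfl N27760 D44044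
theorem N28118 : nd 28118 = n44045 := ndS (p := 27763) (l := 7) rfl N27763 D44045
theorem N28119 : nd 28119 = n44046 := ndS (p := 27763) (l := 9) rfl N27763 D44046
theorem N28120 : nd 28120 = n44047 := ndS (p := 27765) (l := 7) rfl N27765 D44047
theorem N28121 : nd 28121 = n44048 := ndS (p := 27765) (l := 9) rfl N27765 D44048
theorem N28122 : nd 28122 = n44049 := ndS (p := 27766) (l := 9) rfl N27766 D44049
theorem N28123 : nd 28123 = n44050 := ndS (p := 27768) (l := 9) rfl N27768 D44050
theorem N28124 : nd 28124 = n44051 := ndS (p := 27769) (l := 8) rfl N27769 D44051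
theorem N28125 : nd 28125 = n44052 := ndS (p := 27772) (l := 9) rfl N27772 D44052
theorem N28126 : nd 28126 = n44053 := ndS (p := 27774) (l := 8) rfl N27774 D44053
theorem N28127 : nd 28127 = n44054 := ndS (p := 27776) (l := 9) rfl N27776 D44054
theorem N28128 : nd 28128 = n44055 := ndS (p := 27779) (l := 9) rfl N27779 D44055
theorem N28129 : nd 28129 = n44056 := ndS (p := 27781) (l := 7) rfl N27781 D44056
theorem N28130 : nd 28130 = n44057 := ndS (p := 27781) (l := 9) rfl N27781 D44057
theorem N28131 : nd 28131 = n44058 := ndS (p := 27782) (l := 9) rfl N27782 D44058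
theorem N28132 : nd 28132 = n44059 := ndS (p := 27784) (l := 9) rfl N27784 D44059
theorem N28133 : nd 28133 = n44060 := ndS (p := 27785) (l := 8) rfl N27785 D44060
theorem N28134 : nd 28134 = n44061 := ndS (p := 27787) (l := 5) rfl N27787 D44061
theorem N28135 : nd 28135 = n44062 := ndS (p := 27789) (l := 8) rfl N27789 D44062
theorem N28136 : nd 28136 = n44063 := ndS (p := 27790) (l := 8) rfl N27790 D44063
theorem N28137 : nd 28137 = n44064 := ndS (p := 27791) (l := 5) rfl N27791 D44064
theorem N28138 : nd 28138 = n44065 := ndS (p := 27792) (l := 4) rfl N27792 D44065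
theorem N28139 : nd 28139 = n44066 := ndS (p := 27795) (l := 9) rfl N27795 D44066
theorem N28140 : nd 28140 = n44067 := ndS (p := 27797) (l := 9) rfl N27797 D44067
theorem N28141 : nd 28141 = n44068 := ndS (p := 27799) (l := 9) rfl N27799 D44068
theorem N28142 : nd 28142 = n44069 := ndS (p := 27800) (l := 8) rfl N27800 D44069
theorem N28143 : nd 28143 = n44070 := ndS (p := 27802) (l := 5) rfl N27802 D44070
theorem N28144 : nd 28144 = n44071 := ndS (p := 27804) (l := 9) rfl N27804 D44071
theorem N28145 : nd 28145 = n44072 := ndS (p := 27805) (l := 9) rfl N27805 D44072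
theorem N28146 : nd 28146 = n44073 := ndS (p := 27806) (l := 8) rfl N27806 D44073
theorem N28147 : nd 28147 = n44074 := ndS (p := 27807) (l := 8) rfl N27807 D44074
theorem N28148 : nd 28148 = n44075 := ndS (p := 27808) (l := 5) rfl N27808 D44075
theorem N28149 : nd 28149 = n44076 := ndS (p := 27809) (l := 9) rfl N27809 D44076
theorem N28150 : nd 28150 = n44077 := ndS (p := 27810) (l := 8) rfl N27810 D44077
theorem N28151 : nd 28151 = n44078 := ndS (p := 27811) (l := 5) rfl N27811 D44078
theorem N28152 : nd 28152 = n44079 := ndS (p := 27812) (l := 5) rfl N27812 D44079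
theorem N28153 : nd 28153 = n44080 := ndS (p := 27813) (l := 4) rfl N27813 D44080
theorem N28154 : nd 28154 = n44081 := ndS (p := 27813) (l := 6) rfl N27813 D44081
theorem N28155 : nd 28155 = n44082 := ndS (p := 27814) (l := 7) rfl N27814 D44082
theorem N28156 : nd 28156 = n44083 := ndS (p := 27816) (l := 5) rfl N27816 D44083
theorem N28157 : nd 28157 = n44084 := ndS (p := 27820) (l := 7) rfl N27820 D44084
theorem N28158 : nd 28158 = n44085 := ndS (p := 27822) (l := 9) rfl N27822 D44085
theorem N28159 : nd 28159 = n44086 := ndS (p := 27825) (l := 6) rfl N27825 D44086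
theorem N28160 : nd 28160 = n44087 := ndS (p := 27825) (l := 9) rfl N27825 D44087
theorem N28161 : nd 28161 = n44088 := ndS (p := 27826) (l := 8) rfl N27826 D44088
theorem N28162 : nd 28162 = n44089 := ndS (p := 27831) (l := 8) rfl N27831 D44089
theorem N28163 : nd 28163 = n44090 := ndS (p := 27832) (l := 9) rfl N27832 D44090
theorem N28164 : nd 28164 = n44091 := ndS (p := 27834) (l := 8) rfl N27834 D44091
theorem N28165 : nd 28165 = n44092 := ndS (p := 27835) (l := 8) rfl N27835 D44092
theorem N28166 : nd 28166 = n44093 := ndS (p := 27837) (l := 8) rfl N27837 D44093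
theorem N28167 : nd 28167 = n44094 := ndS (p := 27839) (l := 8) rfl N27839 D44094
theorem N28168 : nd 28168 = n44095 := ndS (p := 27841) (l := 8) rfl N27841 D44095
theorem N28169 : nd 28169 = n44096 := ndS (p := 27842) (l := 8) rfl N27842 D44096
theorem N28170 : nd 28170 = n44097 := ndS (p := 27843) (l := 8) rfl N27843 D44097
theorem N28171 : nd 28171 = n44098 := ndS (p := 27845) (l := 8) rfl N27845 D44098
theorem N28172 : nd 28172 = n44099 := ndS (p := 27846) (l := 8) rfl N27846 D44099
theorem N28173 : nd 28173 = n44100 := ndS (p := 27847) (l := 8) rfl N27847 D44100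
theorem N28174 : nd 28174 = n44101 := ndS (p := 27849) (l := 9) rfl N27849 D44101
theorem N28175 : nd 28175 = n44102 := ndS (p := 27850) (l := 8) rfl N27850 D44102
theorem N28176 : nd 28176 = n44103 := ndS (p := 27851) (l := 9) rfl N27851 D44103
theorem N28177 : nd 28177 = n44104 := ndS (p := 27852) (l := 8) rfl N27852 D44104
theorem N28178 : nd 28178 = n44105 := ndS (p := 27854) (l := 9) rfl N27854 D44105
theorem N28179 : nd 28179 = n44106 := ndS (p := 27856) (l := 9) rfl N27856 D44106
theorem N28180 : nd 28180 = n44107 := ndS (p := 27858) (l := 9) rfl N27858 D44107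
theorem N28181 : nd 28181 = n44108 := ndS (p := 27860) (l := 9) rfl N27860 D44108
theorem N28182 : nd 28182 = n44109 := ndS (p := 27863) (l := 9) rfl N27863 D44109
theorem N28183 : nd 28183 = n44110 := ndS (p := 27864) (l := 8) rfl N27864 D44110
theorem N28184 : nd 28184 = n44111 := ndS (p := 27866) (l := 8) rfl N27866 D44111
theorem N28185 : nd 28185 = n44112 := ndS (p := 27869) (l := 5) rfl N27869 D44112
theorem N28186 : nd 28186 = n44113 := ndS (p := 27870) (l := 8) rfl N27870 D44113
theorem N28187 : nd 28187 = n44114 := ndS (p := 27871) (l := 8) rfl N27871 D44114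
theorem N28188 : nd 28188 = n44115 := ndS (p := 27873) (l := 9) rfl N27873 D44115
theorem N28189 : nd 28189 = n44116 := ndS (p := 27878) (l := 9) rfl N27878 D44116
theorem N28190 : nd 28190 = n44117 := ndS (p := 27882) (l := 8) rfl N27882 D44117
theorem N28191 : nd 28191 = n44118 := ndS (p := 27883) (l := 9) rfl N27883 D44118
theorem N28192 : nd 28192 = n44119 := ndS (p := 27884) (l := 8) rfl N27884 D44119
theorem N28193 : nd 28193 = n44120 := ndS (p := 27886) (l := 8) rfl N27886 D44120
theorem N28194 : nd 28194 = n44121 := ndS (p := 27887) (l := 5) rfl N27887 D44121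
theorem N28195 : nd 28195 = n44122 := ndS (p := 27892) (l := 8) rfl N27892 D44122
theorem N28196 : nd 28196 = n44123 := ndS (p := 27893) (l := 9) rfl N27893 D44123
theorem N28197 : nd 28197 = n44124 := ndS (p := 27894) (l := 8) rfl N27894 D44124
theorem N28198 : nd 28198 = n44125 := ndS (p := 27900) (l := 8) rfl N27900 D44125
theorem N28199 : nd 28199 = n44126 := ndS (p := 27902) (l := 9) rfl N27902 D44126
theorem N28200 : nd 28200 = n44127 := ndS (p := 27903) (l := 8) rfl N27903 D44127
theorem N28201 : nd 28201 = n44128 := ndS (p := 27904) (l := 2) rfl N27904 D44128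
theorem N28202 : nd 28202 = n44129 := ndS (p := 27904) (l := 6) rfl N27904 D44129
theorem N28203 : nd 28203 = n44130 := ndS (p := 27904) (l := 9) rfl N27904 D44130
theorem N28204 : nd 28204 = n44131 := ndS (p := 27905) (l := 9) rfl N27905 D44131
theorem N28205 : nd 28205 = n44132 := ndS (p := 27906) (l := 8) rfl N27906 D44132
theorem N28206 : nd 28206 = n44133 := ndS (p := 27907) (l := 9) rfl N27907 D44133
theorem N28207 : nd 28207 = n44134 := ndS (p := 27908) (l := 8) rfl N27908 D44134
theorem N28208 : nd 28208 = n44135 := ndS (p := 27910) (l := 9) rfl N27910 D44135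
theorem N28209 : nd 28209 = n44136 := ndS (p := 27912) (l := 9) rfl N27912 D44136
theorem N28210 : nd 28210 = n44137 := ndS (p := 27913) (l := 5) rfl N27913 D44137
theorem N28211 : nd 28211 = n44138 := ndS (p := 27913) (l := 9) rfl N27913 D44138
theorem N28212 : nd 28212 = n44139 := ndS (p := 27914) (l := 8) rfl N27914 D44139
theorem N28213 : nd 28213 = n44140 := ndS (p := 27915) (l := 4) rfl N27915 D44140
theorem N28214 : nd 28214 = n44141 := ndS (p := 27915) (l := 9) rfl N27915 D44141
theorem N28215 : nd 28215 = n44142 := ndS (p := 27918) (l := 8) rfl N27918 D44142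
theorem N28216 : nd 28216 = n44143 := ndS (p := 27921) (l := 7) rfl N27921 D44143
theorem N28217 : nd 28217 = n44144 := ndS (p := 27921) (l := 9) rfl N27921 D44144
theorem N28218 : nd 28218 = n44145 := ndS (p := 27922) (l := 9) rfl N27922 D44145
theorem N28219 : nd 28219 = n44146 := ndS (p := 27925) (l := 9) rfl N27925 D44146
theorem N28220 : nd 28220 = n44147 := ndS (p := 27926) (l := 8) rfl N27926 D44147
theorem N28221 : nd 28221 = n44148 := ndS (p := 27928) (l := 8) rfl N27928 D44148
theorem N28222 : nd 28222 = n44149 := ndS (p := 27931) (l := 9) rfl N27931 D44149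
theorem N28223 : nd 28223 = n44150 := ndS (p := 27934) (l := 9) rfl N27934 D44150
theorem N28224 : nd 28224 = n44151 := ndS (p := 27937) (l := 8) rfl N27937 D44151
theorem N28225 : nd 28225 = n44152 := ndS (p := 27939) (l := 7) rfl N27939 D44152
theorem N28226 : nd 28226 = n44153 := ndS (p := 27939) (l := 9) rfl N27939 D44153
theorem N28227 : nd 28227 = n44154 := ndS (p := 27940) (l := 9) rfl N27940 D44154
theorem N28228 : nd 28228 = n44155 := ndS (p := 27941) (l := 8) rfl N27941 D44155
theorem N28229 : nd 28229 = n44156 := ndS (p := 27943) (l := 8) rfl N27943 D44156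
theorem N28230 : nd 28230 = n44157 := ndS (p := 27946) (l := 9) rfl N27946 D44157
theorem N28231 : nd 28231 = n44158 := ndS (p := 27947) (l := 8) rfl N27947 D44158
theorem N28232 : nd 28232 = n44159 := ndS (p := 27950) (l := 9) rfl N27950 D44159
theorem N28233 : nd 28233 = n44160 := ndS (p := 27951) (l := 8) rfl N27951 D44160
theorem N28234 : nd 28234 = n44161 := ndS (p := 27953) (l := 9) rfl N27953 D44161
theorem N28235 : nd 28235 = n44162 := ndS (p := 27954) (l := 8) rfl N27954 D44162
theorem N28236 : nd 28236 = n44163 := ndS (p := 27956) (l := 8) rfl N27956 D44163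
theorem N28237 : nd 28237 = n44164 := ndS (p := 27957) (l := 9) rfl N27957 D44164
theorem N28238 : nd 28238 = n44165 := ndS (p := 27958) (l := 8) rfl N27958 D44165
theorem N28239 : nd 28239 = n44166 := ndS (p := 27960) (l := 8) rfl N27960 D44166
theorem N28240 : nd 28240 = n44167 := ndS (p := 27963) (l := 9) rfl N27963 D44167
theorem N28241 : nd 28241 = n44168 := ndS (p := 27964) (l := 9) rfl N27964 D44168
theorem N28242 : nd 28242 = n44169 := ndS (p := 27965) (l := 8) rfl N27965 D44169
theorem N28243 : nd 28243 = n44170 := ndS (p := 27966) (l := 9) rfl N27966 D44170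
theorem N28244 : nd 28244 = n44171 := ndS (p := 27967) (l := 8) rfl N27967 D44171
theorem N28245 : nd 28245 = n44172 := ndS (p := 27969) (l := 9) rfl N27969 D44172
theorem N28246 : nd 28246 = n44173 := ndS (p := 27971) (l := 9) rfl N27971 D44173
theorem N28247 : nd 28247 = n44174 := ndS (p := 27973) (l := 9) rfl N27973 D44174
theorem N28248 : nd 28248 = n44175 := ndS (p := 27975) (l := 8) rfl N27975 D44175
theorem N28249 : nd 28249 = n44176 := ndS (p := 27976) (l := 9) rfl N27976 D44176
theorem N28250 : nd 28250 = n44177 := ndS (p := 27978) (l := 9) rfl N27978 D44177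
theorem N28251 : nd 28251 = n44178 := ndS (p := 27979) (l := 8) rfl N27979 D44178
theorem N28252 : nd 28252 = n44179 := ndS (p := 27981) (l := 8) rfl N27981 D44179
theorem N28253 : nd 28253 = n44180 := ndS (p := 27984) (l := 9) rfl N27984 D44180
theorem N28254 : nd 28254 = n44181 := ndS (p := 27985) (l := 8) rfl N27985 D44181
theorem N28255 : nd 28255 = n44182 := ndS (p := 27987) (l := 8) rfl N27987 D44182
theorem N28256 : nd 28256 = n44183 := ndS (p := 27988) (l := 5) rfl N27988 D44183
theorem N28257 : nd 28257 = n44184 := ndS (p := 27991) (l := 8) rfl N27991 D44184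
theorem N28258 : nd 28258 = n44185 := ndS (p := 27993) (l := 4) rfl N27993 D44185
theorem N28259 : nd 28259 = n44186 := ndS (p := 27996) (l := 8) rfl N27996 D44186
theorem N28260 : nd 28260 = n44187 := ndS (p := 27997) (l := 8) rfl N27997 D44187
theorem N28261 : nd 28261 = n44188 := ndS (p := 27998) (l := 5) rfl N27998 D44188
theorem N28262 : nd 28262 = n44189 := ndS (p := 27999) (l := 5) rfl N27999 D44189
theorem N28263 : nd 28263 = n44190 := ndS (p := 28001) (l := 8) rfl N28001 D44190
theorem N28264 : nd 28264 = n44191 := ndS (p := 28002) (l := 5) rfl N28002 D44191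
theorem N28265 : nd 28265 = n44192 := ndS (p := 28003) (l := 6) rfl N28003 D44192
theorem N28266 : nd 28266 = n44193 := ndS (p := 28005) (l := 7) rfl N28005 D44193
theorem N28267 : nd 28267 = n44194 := ndS (p := 28009) (l := 9) rfl N28009 D44194
theorem N28268 : nd 28268 = n44195 := ndS (p := 28010) (l := 8) rfl N28010 D44195
theorem N28269 : nd 28269 = n44196 := ndS (p := 28014) (l := 8) rfl N28014 D44196
theorem N28270 : nd 28270 = n44197 := ndS (p := 28022) (l := 8) rfl N28022 D44197
theorem N28271 : nd 28271 = n44198 := ndS (p := 28024) (l := 5) rfl N28024 D44198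
theorem N28272 : nd 28272 = n44199 := ndS (p := 28028) (l := 8) rfl N28028 D44199
theorem N28273 : nd 28273 = n44200 := ndS (p := 28030) (l := 2) rfl N28030 D44200
theorem N28274 : nd 28274 = n44201 := ndS (p := 28030) (l := 6) rfl N28030 D44201
theorem N28275 : nd 28275 = n44202 := ndS (p := 28030) (l := 9) rfl N28030 D44202
theorem N28276 : nd 28276 = n44203 := ndS (p := 28031) (l := 9) rfl N28031 D44203
theorem N28277 : nd 28277 = n44204 := ndS (p := 28032) (l := 8) rfl N28032 D44204
theorem N28278 : nd 28278 = n44205 := ndS (p := 28033) (l := 9) rfl N28033 D44205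
theorem N28279 : nd 28279 = n44206 := ndS (p := 28034) (l := 8) rfl N28034 D44206
theorem N28280 : nd 28280 = n44207 := ndS (p := 28036) (l := 9) rfl N28036 D44207
theorem N28281 : nd 28281 = n44208 := ndS (p := 28038) (l := 9) rfl N28038 D44208
theorem N28282 : nd 28282 = n44209 := ndS (p := 28039) (l := 5) rfl N28039 D44209
theorem N28283 : nd 28283 = n44210 := ndS (p := 28039) (l := 9) rfl N28039 D44210
theorem N28284 : nd 28284 = n44211 := ndS (p := 28040) (l := 8) rfl N28040 D44211
theorem N28285 : nd 28285 = n44212 := ndS (p := 28041) (l := 4) rfl N28041 D44212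
theorem N28286 : nd 28286 = n44213 := ndS (p := 28041) (l := 9) rfl N28041 D44213
theorem N28287 : nd 28287 = n44214 := ndS (p := 28043) (l := 5) rfl N28043 D44214
theorem N28288 : nd 28288 = n44215 := ndS (p := 28044) (l := 8) rfl N28044 D44215
theorem N28289 : nd 28289 = n44216 := ndS (p := 28048) (l := 9) rfl N28048 D44216
theorem N28290 : nd 28290 = n44217 := ndS (p := 28050) (l := 7) rfl N28050 D44217
theorem N28291 : nd 28291 = n44218 := ndS (p := 28050) (l := 9) rfl N28050 D44218
theorem N28292 : nd 28292 = n44219 := ndS (p := 28051) (l := 9) rfl N28051 D44219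
theorem N28293 : nd 28293 = n44220 := ndS (p := 28054) (l := 9) rfl N28054 D44220
theorem N28294 : nd 28294 = n44221 := ndS (p := 28055) (l := 8) rfl N28055 D44221
theorem N28295 : nd 28295 = n44222 := ndS (p := 28057) (l := 8) rfl N28057 D44222
theorem N28296 : nd 28296 = n44223 := ndS (p := 28058) (l := 5) rfl N28058 D44223
theorem N28297 : nd 28297 = n44224 := ndS (p := 28061) (l := 7) rfl N28061 D44224
theorem N28298 : nd 28298 = n44225 := ndS (p := 28061) (l := 9) rfl N28061 D44225
theorem N28299 : nd 28299 = n44226 := ndS (p := 28062) (l := 9) rfl N28062 D44226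
theorem N28300 : nd 28300 = n44227 := ndS (p := 28063) (l := 8) rfl N28063 D44227
theorem N28301 : nd 28301 = n44228 := ndS (p := 28065) (l := 8) rfl N28065 D44228
theorem N28302 : nd 28302 = n44229 := ndS (p := 28067) (l := 8) rfl N28067 D44229
theorem N28303 : nd 28303 = n44230 := ndS (p := 28068) (l := 5) rfl N28068 D44230
theorem N28304 : nd 28304 = n44231 := ndS (p := 28071) (l := 9) rfl N28071 D44231
theorem N28305 : nd 28305 = n44232 := ndS (p := 28072) (l := 8) rfl N28072 D44232
theorem N28306 : nd 28306 = n44233 := ndS (p := 28076) (l := 9) rfl N28076 D44233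
theorem N28307 : nd 28307 = n44234 := ndS (p := 28077) (l := 8) rfl N28077 D44234
theorem N28308 : nd 28308 = n44235 := ndS (p := 28079) (l := 9) rfl N28079 D44235
theorem N28309 : nd 28309 = n44236 := ndS (p := 28080) (l := 8) rfl N28080 D44236
theorem N28310 : nd 28310 = n44237 := ndS (p := 28085) (l := 9) rfl N28085 D44237
theorem N28311 : nd 28311 = n44238 := ndS (p := 28086) (l := 8) rfl N28086 D44238
theorem N28312 : nd 28312 = n44239 := ndS (p := 28087) (l := 8) rfl N28087 D44239
theorem N28313 : nd 28313 = n44240 := ndS (p := 28091) (l := 9) rfl N28091 D44240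
theorem N28314 : nd 28314 = n44241 := ndS (p := 28094) (l := 8) rfl N28094 D44241
theorem N28315 : nd 28315 = n44242 := ndS (p := 28095) (l := 6) rfl N28095 D44242
theorem N28316 : nd 28316 = n44243 := ndS (p := 28097) (l := 8) rfl N28097 D44243
theorem N28317 : nd 28317 = n44244 := ndS (p := 28098) (l := 8) rfl N28098 D44244
theorem N28318 : nd 28318 = n44245 := ndS (p := 28099) (l := 5) rfl N28099 D44245
theorem N28319 : nd 28319 = n44246 := ndS (p := 28100) (l := 6) rfl N28100 D44246
theorem N28320 : nd 28320 = n44247 := ndS (p := 28103) (l := 8) rfl N28103 D44247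
theorem N28321 : nd 28321 = n44248 := ndS (p := 28105) (l := 9) rfl N28105 D44248
theorem N28322 : nd 28322 = n44249 := ndS (p := 28106) (l := 9) rfl N28106 D44249
theorem N28323 : nd 28323 = n44250 := ndS (p := 28107) (l := 8) rfl N28107 D44250
theorem N28324 : nd 28324 = n44251 := ndS (p := 28108) (l := 9) rfl N28108 D44251
theorem N28325 : nd 28325 = n44252 := ndS (p := 28109) (l := 8) rfl N28109 D44252
theorem N28326 : nd 28326 = n44253 := ndS (p := 28111) (l := 9) rfl N28111 D44253
theorem N28327 : nd 28327 = n44254 := ndS (p := 28113) (l := 9) rfl N28113 D44254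
theorem N28328 : nd 28328 = n44255 := ndS (p := 28115) (l := 9) rfl N28115 D44255
theorem N28329 : nd 28329 = n44256 := ndS (p := 28117) (l := 8) rfl N28117 D44256
theorem N28330 : nd 28330 = n44257 := ndS (p := 28118) (l := 9) rfl N28118 D44257
theorem N28331 : nd 28331 = n44258 := ndS (p := 28120) (l := 9) rfl N28120 D44258
theorem N28332 : nd 28332 = n44259 := ndS (p := 28121) (l := 8) rfl N28121 D44259
theorem N28333 : nd 28333 = n44260 := ndS (p := 28123) (l := 8) rfl N28123 D44260
theorem N28334 : nd 28334 = n44261 := ndS (p := 28125) (l := 8) rfl N28125 D44261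
theorem N28335 : nd 28335 = n44262 := ndS (p := 28127) (l := 8) rfl N28127 D44262
theorem N28336 : nd 28336 = n44263 := ndS (p := 28129) (l := 9) rfl N28129 D44263
theorem N28337 : nd 28337 = n44264 := ndS (p := 28130) (l := 8) rfl N28130 D44264
theorem N28338 : nd 28338 = n44265 := ndS (p := 28132) (l := 8) rfl N28132 D44265
theorem N28339 : nd 28339 = n44266 := ndS (p := 28133) (l := 5) rfl N28133 D44266
theorem N28340 : nd 28340 = n44267 := ndS (p := 28137) (l := 4) rfl N28137 D44267
theorem N28341 : nd 28341 = n44268 := ndS (p := 28139) (l := 8) rfl N28139 D44268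
theorem N28342 : nd 28342 = n44269 := ndS (p := 28140) (l := 8) rfl N28140 D44269
theorem N28343 : nd 28343 = n44270 := ndS (p := 28141) (l := 8) rfl N28141 D44270
theorem N28344 : nd 28344 = n44271 := ndS (p := 28142) (l := 5) rfl N28142 D44271
theorem N28345 : nd 28345 = n44272 := ndS (p := 28144) (l := 8) rfl N28144 D44272
theorem N28346 : nd 28346 = n44273 := ndS (p := 28145) (l := 8) rfl N28145 D44273
theorem N28347 : nd 28347 = n44274 := ndS (p := 28146) (l := 5) rfl N28146 D44274
theorem N28348 : nd 28348 = n44275 := ndS (p := 28147) (l := 5) rfl N28147 D44275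
theorem N28349 : nd 28349 = n44276 := ndS (p := 28149) (l := 8) rfl N28149 D44276
theorem N28350 : nd 28350 = n44277 := ndS (p := 28150) (l := 5) rfl N28150 D44277
theorem N28351 : nd 28351 = n44278 := ndS (p := 28151) (l := 4) rfl N28151 D44278
theorem N28352 : nd 28352 = n44279 := ndS (p := 28151) (l := 6) rfl N28151 D44279
theorem N28353 : nd 28353 = n44280 := ndS (p := 28154) (l := 7) rfl N28154 D44280
theorem N28354 : nd 28354 = n44281 := ndS (p := 28159) (l := 9) rfl N28159 D44281
theorem N28355 : nd 28355 = n44282 := ndS (p := 28160) (l := 8) rfl N28160 D44282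
theorem N28356 : nd 28356 = n44283 := ndS (p := 28163) (l := 8) rfl N28163 D44283
theorem N28357 : nd 28357 = n44284 := ndS (p := 28174) (l := 8) rfl N28174 D44284
theorem N28358 : nd 28358 = n44285 := ndS (p := 28176) (l := 8) rfl N28176 D44285
theorem N28359 : nd 28359 = n44286 := ndS (p := 28182) (l := 8) rfl N28182 D44286
theorem N28360 : nd 28360 = n44287 := ndS (p := 28191) (l := 8) rfl N28191 D44287
theorem N28361 : nd 28361 = n44288 := ndS (p := 28196) (l := 8) rfl N28196 D44288
theorem N28362 : nd 28362 = n44289 := ndS (p := 28199) (l := 8) rfl N28199 D44289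
theorem N28363 : nd 28363 = n44290 := ndS (p := 28201) (l := 9) rfl N28201 D44290
theorem N28364 : nd 28364 = n44291 := ndS (p := 28202) (l := 9) rfl N28202 D44291
theorem N28365 : nd 28365 = n44292 := ndS (p := 28203) (l := 8) rfl N28203 D44292
theorem N28366 : nd 28366 = n44293 := ndS (p := 28204) (l := 8) rfl N28204 D44293
theorem N28367 : nd 28367 = n44294 := ndS (p := 28206) (l := 8) rfl N28206 D44294
theorem N28368 : nd 28368 = n44295 := ndS (p := 28210) (l := 9) rfl N28210 D44295
theorem N28369 : nd 28369 = n44296 := ndS (p := 28213) (l := 9) rfl N28213 D44296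
theorem N28370 : nd 28370 = n44297 := ndS (p := 28214) (l := 8) rfl N28214 D44297
theorem N28371 : nd 28371 = n44298 := ndS (p := 28216) (l := 9) rfl N28216 D44298
theorem N28372 : nd 28372 = n44299 := ndS (p := 28217) (l := 8) rfl N28217 D44299
theorem N28373 : nd 28373 = n44300 := ndS (p := 28219) (l := 8) rfl N28219 D44300
theorem N28374 : nd 28374 = n44301 := ndS (p := 28225) (l := 9) rfl N28225 D44301
theorem N28375 : nd 28375 = n44302 := ndS (p := 28226) (l := 8) rfl N28226 D44302
theorem N28376 : nd 28376 = n44303 := ndS (p := 28227) (l := 8) rfl N28227 D44303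
theorem N28377 : nd 28377 = n44304 := ndS (p := 28230) (l := 8) rfl N28230 D44304
theorem N28378 : nd 28378 = n44305 := ndS (p := 28232) (l := 8) rfl N28232 D44305
theorem N28379 : nd 28379 = n44306 := ndS (p := 28234) (l := 8) rfl N28234 D44306
theorem N28380 : nd 28380 = n44307 := ndS (p := 28237) (l := 8) rfl N28237 D44307
theorem N28381 : nd 28381 = n44308 := ndS (p := 28240) (l := 8) rfl N28240 D44308
theorem N28382 : nd 28382 = n44309 := ndS (p := 28241) (l := 8) rfl N28241 D44309
theorem N28383 : nd 28383 = n44310 := ndS (p := 28243) (l := 8) rfl N28243 D44310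
theorem N28384 : nd 28384 = n44311 := ndS (p := 28247) (l := 8) rfl N28247 D44311
theorem N28385 : nd 28385 = n44312 := ndS (p := 28250) (l := 8) rfl N28250 D44312
theorem N28386 : nd 28386 = n44313 := ndS (p := 28253) (l := 8) rfl N28253 D44313
theorem N28387 : nd 28387 = n44314 := ndS (p := 28260) (l := 5) rfl N28260 D44314
theorem N28388 : nd 28388 = n44315 := ndS (p := 28265) (l := 7) rfl N28265 D44315
theorem N28389 : nd 28389 = n44316 := ndS (p := 28267) (l := 8) rfl N28267 D44316
theorem N28390 : nd 28390 = n44317 := ndS (p := 28273) (l := 9) rfl N28273 D44317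
theorem N28391 : nd 28391 = n44318 := ndS (p := 28274) (l := 9) rfl N28274 D44318
theorem N28392 : nd 28392 = n44319 := ndS (p := 28275) (l := 8) rfl N28275 D44319
theorem N28393 : nd 28393 = n44320 := ndS (p := 28276) (l := 8) rfl N28276 D44320
theorem N28394 : nd 28394 = n44321 := ndS (p := 28278) (l := 8) rfl N28278 D44321
theorem N28395 : nd 28395 = n44322 := ndS (p := 28282) (l := 9) rfl N28282 D44322
theorem N28396 : nd 28396 = n44323 := ndS (p := 28285) (l := 9) rfl N28285 D44323
theorem N28397 : nd 28397 = n44324 := ndS (p := 28286) (l := 8) rfl N28286 D44324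
theorem N28398 : nd 28398 = n44325 := ndS (p := 28290) (l := 9) rfl N28290 D44325
theorem N28399 : nd 28399 = n44326 := ndS (p := 28291) (l := 8) rfl N28291 D44326
theorem N28400 : nd 28400 = n44327 := ndS (p := 28293) (l := 8) rfl N28293 D44327
theorem N28401 : nd 28401 = n44328 := ndS (p := 28297) (l := 9) rfl N28297 D44328
theorem N28402 : nd 28402 = n44329 := ndS (p := 28298) (l := 8) rfl N28298 D44329
theorem N28403 : nd 28403 = n44330 := ndS (p := 28299) (l := 8) rfl N28299 D44330
theorem N28404 : nd 28404 = n44331 := ndS (p := 28304) (l := 8) rfl N28304 D44331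
theorem N28405 : nd 28405 = n44332 := ndS (p := 28306) (l := 8) rfl N28306 D44332
theorem N28406 : nd 28406 = n44333 := ndS (p := 28308) (l := 8) rfl N28308 D44333
theorem N28407 : nd 28407 = n44334 := ndS (p := 28310) (l := 8) rfl N28310 D44334
theorem N28408 : nd 28408 = n44335 := ndS (p := 28313) (l := 8) rfl N28313 D44335
theorem N28409 : nd 28409 = n44336 := ndS (p := 28318) (l := 6) rfl N28318 D44336
theorem N28410 : nd 28410 = n44337 := ndS (p := 28321) (l := 8) rfl N28321 D44337
theorem N28411 : nd 28411 = n44338 := ndS (p := 28322) (l := 8) rfl N28322 D44338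
theorem N28412 : nd 28412 = n44339 := ndS (p := 28324) (l := 8) rfl N28324 D44339
theorem N28413 : nd 28413 = n44340 := ndS (p := 28328) (l := 8) rfl N28328 D44340
theorem N28414 : nd 28414 = n44341 := ndS (p := 28331) (l := 8) rfl N28331 D44341
theorem N28415 : nd 28415 = n44342 := ndS (p := 28336) (l := 8) rfl N28336 D44342
theorem N28416 : nd 28416 = n44343 := ndS (p := 28346) (l := 5) rfl N28346 D44343
theorem N28417 : nd 28417 = n44344 := ndS (p := 28352) (l := 7) rfl N28352 D44344
theorem N28418 : nd 28418 = n44345 := ndS (p := 28354) (l := 8) rfl N28354 D44345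
theorem N28419 : nd 28419 = n44346 := ndS (p := 28363) (l := 8) rfl N28363 D44346
theorem N28420 : nd 28420 = n44347 := ndS (p := 28364) (l := 8) rfl N28364 D44347
theorem N28421 : nd 28421 = n44348 := ndS (p := 28368) (l := 8) rfl N28368 D44348
theorem N28422 : nd 28422 = n44349 := ndS (p := 28369) (l := 8) rfl N28369 D44349
theorem N28423 : nd 28423 = n44350 := ndS (p := 28371) (l := 8) rfl N28371 D44350
theorem N28424 : nd 28424 = n44351 := ndS (p := 28374) (l := 8) rfl N28374 D44351
theorem N28425 : nd 28425 = n44352 := ndS (p := 28390) (l := 8) rfl N28390 D44352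
theorem N28426 : nd 28426 = n44353 := ndS (p := 28391) (l := 8) rfl N28391 D44353
theorem N28427 : nd 28427 = n44354 := ndS (p := 28395) (l := 8) rfl N28395 D44354
theorem N28428 : nd 28428 = n44355 := ndS (p := 28396) (l := 8) rfl N28396 D44355
theorem N28429 : nd 28429 = n44356 := ndS (p := 28398) (l := 8) rfl N28398 D44356
theorem N28430 : nd 28430 = n44357 := ndS (p := 28401) (l := 8) rfl N28401 D44357
theorem Q1 : ∀ i, i < 1 → P i := stepQ 0 Q0 (allL N0 (tt N0 F1) (tt N0 F2) (tt N0 F3) (tt N0 F4) (tt N0 F5) (tt N0 F6) (tt N0 F7) (tt N0 F8) (tt N0 F9) (tt N1 D1))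
theorem Q2 : ∀ i, i < 2 → P i := stepQ 1 Q1 (allL N1 (tt N1 F10) (tt N1 F11) (tt N1 F12) (tt N1 F13) (tt N1 F14) (tt N1 F15) (tt N1 F16) (tt N1 F17) (tt N2 D2) (tt N0 (iv D1)))
theorem Q3 : ∀ i, i < 3 → P i := stepQ 2 Q2 (allL N2 (tt N2 F18) (tt N2 F19) (tt N2 F20) (tt N2 F21) (tt N2 F22) (tt N3 D3) (tt N2 F23) (tt N2 F24) (tt N1 (iv D2)) (tt N2 F25))
theorem Q4 : ∀ i, i < 4 → P i := stepQ 3 Q3 (allL N3 (tt N3 F26) (tt N3 F27) (tt N3 F28) (tt N3 F29) (tt N4 D4) (tt N2 (iv D3)) (tt N5 D5) (tt N3 F30) (tt N3 F31) (tt N3 F32))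
theorem Q5 : ∀ i, i < 5 → P i := stepQ 4 Q4 (allL N4 (tt N4 F33) (tt N4 F34) (tt N4 F35) (tt N6 D6) (tt N3 (iv D4)) (tt N4 F36) (tt N7 D7) (tt N4 F37) (tt N4 F38) (tt N4 F39))
theorem Q6 : ∀ i, i < 6 → P i := stepQ 5 Q5 (allL N5 (tt N5 F40) (tt N5 F41) (tt N5 F42) (tt N5 F43) (tt N7 (iv F57)) (tt N5 F44) (tt N3 (iv D5)) (tt N8 D8) (tt N5 F45) (tt N5 F46))
theorem Q7 : ∀ i, i < 7 → P i := stepQ 6 Q6 (allL N6 (tt N6 F47) (tt N6 F48) (tt N9 D9) (tt N4 (iv D6)) (tt N6 F49) (tt N6 F50) (tt N10 D10) (tt N6 F51) (tt N6 F52) (tt N6 F53))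
theorem Q8 : ∀ i, i < 8 → P i := stepQ 7 Q7 (allL N7 (tt N7 F54) (tt N7 F55) (tt N7 F56) (tt N10 (iv F77)) (tt N5 F57) (tt N11 D11) (tt N4 (iv D7)) (tt N12 D12) (tt N7 F58) (tt N7 F59))
theorem Q9 : ∀ i, i < 9 → P i := stepQ 8 Q8 (allL N8 (tt N8 F60) (tt N8 F61) (tt N8 F62) (tt N8 F63) (tt N12 (iv F90)) (tt N8 F64) (tt N8 F65) (tt N5 (iv D8)) (tt N8 F66) (tt N8 F67))
theorem Q10 : ∀ i, i < 10 → P i := stepQ 9 Q9 (allL N9 (tt N9 F68) (tt N13 D13) (tt N6 (iv D9)) (tt N9 F69) (tt N9 F70) (tt N9 F71) (tt N14 D14) (tt N9 F72) (tt N9 F73) (tt N9 F74))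
theorem Q11 : ∀ i, i < 11 → P i := stepQ 10 Q10 (allL N10 (tt N10 F75) (tt N10 F76) (tt N14 (iv F102)) (tt N7 F77) (tt N10 F78) (tt N15 D15) (tt N6 (iv D10)) (tt N16 D16) (tt N10 F79) (tt N10 F80))
theorem Q12 : ∀ i, i < 12 → P i := stepQ 11 Q11 (allL N11 (tt N11 F81) (tt N11 F82) (tt N11 F83) (tt N15 (iv F109)) (tt N11 F84) (tt N7 (iv D11)) (tt N11 F85) (tt N17 D17) (tt N18 D18) (tt N11 F86))
theorem Q13 : ∀ i, i < 13 → P i := stepQ 12 Q12 (allL N12 (tt N12 F87) (tt N12 F88) (tt N12 F89) (tt N16 (iv F114)) (tt N8 F90) (tt N17 (iv F123)) (tt N12 F91) (tt N7 (iv D12)) (tt N12 F92) (tt N12 F93))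
theorem Q14 : ∀ i, i < 14 → P i := stepQ 13 Q13 (allL N13 (tt N19 D19) (tt N9 (iv D13)) (tt N13 F94) (tt N13 F95) (tt N13 F96) (tt N13 F97) (tt N20 D20) (tt N13 F98) (tt N13 F99) (tt N13 F100))
theorem Q15 : ∀ i, i < 15 → P i := stepQ 14 Q14 (allL N14 (tt N14 F101) (tt N20 (iv F139)) (tt N10 F102) (tt N14 F103) (tt N14 F104) (tt N21 D21) (tt N9 (iv D14)) (tt N22 D22) (tt N14 F105) (tt N14 F106))
theorem Q16 : ∀ i, i < 16 → P i := stepQ 15 Q15 (allL N15 (tt N15 F107) (tt N15 F108) (tt N21 (iv F146)) (tt N11 F109) (tt N23 D23) (tt N10 (iv D15)) (tt N15 F110) (tt N24 D24) (tt N25 D25) (tt N15 F111))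
theorem Q17 : ∀ i, i < 17 → P i := stepQ 16 Q16 (allL N16 (tt N16 F112) (tt N16 F113) (tt N22 (iv F151)) (tt N12 F114) (tt N16 F115) (tt N24 (iv F166)) (tt N16 F116) (tt N10 (iv D16)) (tt N16 F117) (tt N16 F118))
theorem Q18 : ∀ i, i < 18 → P i := stepQ 17 Q17 (allL N17 (tt N17 F119) (tt N17 F120) (tt N17 F121) (tt N24 (iv F165)) (tt N17 F122) (tt N12 F123) (tt N26 D26) (tt N11 (iv D17)) (tt N27 D27) (tt N17 F124))
theorem Q19 : ∀ i, i < 19 → P i := stepQ 18 Q18 (allL N18 (tt N18 F125) (tt N18 F126) (tt N18 F127) (tt N25 (iv F170)) (tt N18 F128) (tt N18 F129) (tt N18 F130) (tt N27 (iv F185)) (tt N11 (iv D18)) (tt N28 D28))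
theorem Q20 : ∀ i, i < 20 → P i := stepQ 19 Q19 (allL N19 (tt N13 (iv D19)) (tt N19 F131) (tt N19 F132) (tt N19 F133) (tt N19 F134) (tt N19 F135) (tt N29 D29) (tt N19 F136) (tt N19 F137) (tt N19 F138))
theorem Q21 : ∀ i, i < 21 → P i := stepQ 20 Q20 (allL N20 (tt N29 (iv F193)) (tt N14 F139) (tt N20 F140) (tt N20 F141) (tt N20 F142) (tt N30 D30) (tt N13 (iv D20)) (tt N31 D31) (tt N20 F143) (tt N20 F144))
theorem Q22 : ∀ i, i < 22 → P i := stepQ 21 Q21 (allL N21 (tt N21 F145) (tt N30 (iv F200)) (tt N15 F146) (tt N21 F147) (tt N32 D32) (tt N14 (iv D21)) (tt N21 F148) (tt N33 D33) (tt N34 D34) (tt N21 F149))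
theorem Q23 : ∀ i, i < 23 → P i := stepQ 22 Q22 (allL N22 (tt N22 F150) (tt N31 (iv F205)) (tt N16 F151) (tt N22 F152) (tt N22 F153) (tt N33 (iv F220)) (tt N22 F154) (tt N14 (iv D22)) (tt N22 F155) (tt N22 F156))
theorem Q24 : ∀ i, i < 24 → P i := stepQ 23 Q23 (allL N23 (tt N23 F157) (tt N23 F158) (tt N32 (iv F213)) (tt N23 F159) (tt N15 (iv D23)) (tt N23 F160) (tt N23 F161) (tt N35 D35) (tt N36 D36) (tt N23 F162))
theorem Q25 : ∀ i, i < 25 → P i := stepQ 24 Q24 (allL N24 (tt N24 F163) (tt N24 F164) (tt N33 (iv F218)) (tt N17 F165) (tt N35 (iv F230)) (tt N16 F166) (tt N37 D37) (tt N15 (iv D24)) (tt N38 D38) (tt N24 F167))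
theorem Q26 : ∀ i, i < 26 → P i := stepQ 25 Q25 (allL N25 (tt N25 F168) (tt N25 F169) (tt N34 (iv F223)) (tt N18 F170) (tt N36 (iv F236)) (tt N25 F171) (tt N25 F172) (tt N38 (iv F248)) (tt N15 (iv D25)) (tt N39 D39))
theorem Q27 : ∀ i, i < 27 → P i := stepQ 26 Q26 (allL N26 (tt N26 F173) (tt N26 F174) (tt N26 F175) (tt N37 (iv F240)) (tt N26 F176) (tt N26 F177) (tt N17 (iv D26)) (tt N26 F178) (tt N40 D40) (tt N26 F179))
theorem Q28 : ∀ i, i < 28 → P i := stepQ 27 Q27 (allL N27 (tt N27 F180) (tt N27 F181) (tt N27 F182) (tt N38 (iv F246)) (tt N27 F183) (tt N27 F184) (tt N40 (iv F259)) (tt N18 F185) (tt N17 (iv D27)) (tt N41 D41))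
theorem Q29 : ∀ i, i < 29 → P i := stepQ 28 Q28 (allL N28 (tt N28 F186) (tt N28 F187) (tt N28 F188) (tt N39 (iv F251)) (tt N28 F189) (tt N28 F190) (tt N28 F191) (tt N41 (iv F266)) (tt N28 F192) (tt N18 (iv D28)))
theorem Q30 : ∀ i, i < 30 → P i := stepQ 29 Q29 (allL N29 (tt N20 F193) (tt N29 F194) (tt N29 F195) (tt N29 F196) (tt N29 F197) (tt N42 D42) (tt N19 (iv D29)) (tt N43 D43) (tt N29 F198) (tt N29 F199))
theorem Q31 : ∀ i, i < 31 → P i := stepQ 30 Q30 (allL N30 (tt N42 (iv F268)) (tt N21 F200) (tt N30 F201) (tt N30 F202) (tt N44 D44) (tt N20 (iv D30)) (tt N30 F203) (tt N45 D45) (tt N46 D46) (tt N30 F204))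
theorem Q32 : ∀ i, i < 32 → P i := stepQ 31 Q31 (allL N31 (tt N43 (iv F274)) (tt N22 F205) (tt N31 F206) (tt N31 F207) (tt N31 F208) (tt N45 (iv F290)) (tt N31 F209) (tt N20 (iv D31)) (tt N31 F210) (tt N31 F211))
theorem Q33 : ∀ i, i < 33 → P i := stepQ 32 Q32 (allL N32 (tt N32 F212) (tt N44 (iv F282)) (tt N23 F213) (tt N47 D47) (tt N21 (iv D32)) (tt N32 F214) (tt N32 F215) (tt N48 D48) (tt N49 D49) (tt N32 F216))
theorem Q34 : ∀ i, i < 34 → P i := stepQ 33 Q33 (allL N33 (tt N33 F217) (tt N45 (iv F287)) (tt N24 F218) (tt N33 F219) (tt N48 (iv F305)) (tt N22 F220) (tt N50 D50) (tt N21 (iv D33)) (tt N51 D51) (tt N33 F221))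
theorem Q35 : ∀ i, i < 35 → P i := stepQ 34 Q34 (allL N34 (tt N34 F222) (tt N46 (iv F292)) (tt N25 F223) (tt N34 F224) (tt N49 (iv F310)) (tt N34 F225) (tt N34 F226) (tt N51 (iv F322)) (tt N21 (iv D34)) (tt N52 D52))
theorem Q36 : ∀ i, i < 36 → P i := stepQ 35 Q35 (allL N35 (tt N35 F227) (tt N35 F228) (tt N48 (iv F304)) (tt N35 F229) (tt N24 F230) (tt N35 F231) (tt N53 D53) (tt N23 (iv D35)) (tt N54 D54) (tt N35 F232))
theorem Q37 : ∀ i, i < 37 → P i := stepQ 36 Q36 (allL N36 (tt N36 F233) (tt N36 F234) (tt N49 (iv F309)) (tt N36 F235) (tt N25 F236) (tt N55 D55) (tt N36 F237) (tt N54 (iv F339)) (tt N23 (iv D36)) (tt N56 D56))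
theorem Q38 : ∀ i, i < 38 → P i := stepQ 37 Q37 (allL N37 (tt N37 F238) (tt N37 F239) (tt N50 (iv F313)) (tt N26 F240) (tt N53 (iv F332)) (tt N37 F241) (tt N24 (iv D37)) (tt N37 F242) (tt N57 D57) (tt N37 F243))
theorem Q39 : ∀ i, i < 39 → P i := stepQ 38 Q38 (allL N38 (tt N38 F244) (tt N38 F245) (tt N51 (iv F319)) (tt N27 F246) (tt N54 (iv F338)) (tt N38 F247) (tt N57 (iv F354)) (tt N25 F248) (tt N24 (iv D38)) (tt N58 D58))
theorem Q40 : ∀ i, i < 40 → P i := stepQ 39 Q39 (allL N39 (tt N39 F249) (tt N39 F250) (tt N52 (iv F324)) (tt N28 F251) (tt N56 (iv F348)) (tt N39 F252) (tt N39 F253) (tt N58 (iv F360)) (tt N39 F254) (tt N25 (iv D39)))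
theorem Q41 : ∀ i, i < 41 → P i := stepQ 40 Q40 (allL N40 (tt N40 F255) (tt N40 F256) (tt N40 F257) (tt N57 (iv F353)) (tt N40 F258) (tt N59 D59) (tt N27 F259) (tt N40 F260) (tt N26 (iv D40)) (tt N60 D60))
theorem Q42 : ∀ i, i < 42 → P i := stepQ 41 Q41 (allL N41 (tt N41 F261) (tt N41 F262) (tt N41 F263) (tt N58 (iv F358)) (tt N41 F264) (tt N41 F265) (tt N60 (iv F372)) (tt N28 F266) (tt N41 F267) (tt N27 (iv D41)))
theorem Q43 : ∀ i, i < 43 → P i := stepQ 42 Q42 (allL N42 (tt N30 F268) (tt N42 F269) (tt N42 F270) (tt N42 F271) (tt N61 D61) (tt N29 (iv D42)) (tt N42 F272) (tt N62 D62) (tt N63 D63) (tt N42 F273))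
theorem Q44 : ∀ i, i < 44 → P i := stepQ 43 Q43 (allL N43 (tt N31 F274) (tt N43 F275) (tt N43 F276) (tt N43 F277) (tt N43 F278) (tt N62 (iv F385)) (tt N43 F279) (tt N29 (iv D43)) (tt N43 F280) (tt N43 F281))
theorem Q45 : ∀ i, i < 45 → P i := stepQ 44 Q44 (allL N44 (tt N61 (iv F375)) (tt N32 F282) (tt N44 F283) (tt N64 D64) (tt N30 (iv D44)) (tt N44 F284) (tt N44 F285) (tt N65 D65) (tt N66 D66) (tt N44 F286))
theorem Q46 : ∀ i, i < 46 → P i := stepQ 45 Q45 (allL N45 (tt N62 (iv F381)) (tt N33 F287) (tt N45 F288) (tt N45 F289) (tt N65 (iv F400)) (tt N31 F290) (tt N67 D67) (tt N30 (iv D45)) (tt N68 D68) (tt N45 F291))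
theorem Q47 : ∀ i, i < 47 → P i := stepQ 46 Q46 (allL N46 (tt N63 (iv F387)) (tt N34 F292) (tt N46 F293) (tt N46 F294) (tt N66 (iv F405)) (tt N46 F295) (tt N46 F296) (tt N68 (iv F417)) (tt N30 (iv D46)) (tt N69 D69))
theorem Q48 : ∀ i, i < 48 → P i := stepQ 47 Q47 (allL N47 (tt N47 F297) (tt N64 (iv F393)) (tt N47 F298) (tt N32 (iv D47)) (tt N47 F299) (tt N47 F300) (tt N47 F301) (tt N70 D70) (tt N71 D71) (tt N47 F302))
theorem Q49 : ∀ i, i < 49 → P i := stepQ 48 Q48 (allL N48 (tt N48 F303) (tt N65 (iv F398)) (tt N35 F304) (tt N70 (iv F426)) (tt N33 F305) (tt N48 F306) (tt N72 D72) (tt N32 (iv D48)) (tt N73 D73) (tt N48 F307))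
theorem Q50 : ∀ i, i < 50 → P i := stepQ 49 Q49 (allL N49 (tt N49 F308) (tt N66 (iv F403)) (tt N36 F309) (tt N71 (iv F432)) (tt N34 F310) (tt N74 D74) (tt N49 F311) (tt N73 (iv F443)) (tt N32 (iv D49)) (tt N75 D75))
theorem Q51 : ∀ i, i < 51 → P i := stepQ 50 Q50 (allL N50 (tt N50 F312) (tt N67 (iv F407)) (tt N37 F313) (tt N50 F314) (tt N72 (iv F437)) (tt N50 F315) (tt N33 (iv D50)) (tt N50 F316) (tt N76 D76) (tt N50 F317))
theorem Q52 : ∀ i, i < 52 → P i := stepQ 51 Q51 (allL N51 (tt N51 F318) (tt N68 (iv F413)) (tt N38 F319) (tt N51 F320) (tt N73 (iv F442)) (tt N51 F321) (tt N76 (iv F456)) (tt N34 F322) (tt N33 (iv D51)) (tt N77 D77))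
theorem Q53 : ∀ i, i < 53 → P i := stepQ 52 Q52 (allL N52 (tt N52 F323) (tt N69 (iv F418)) (tt N39 F324) (tt N52 F325) (tt N75 (iv F450)) (tt N52 F326) (tt N52 F327) (tt N77 (iv F462)) (tt N52 F328) (tt N34 (iv D52)))
theorem Q54 : ∀ i, i < 54 → P i := stepQ 53 Q53 (allL N53 (tt N53 F329) (tt N53 F330) (tt N72 (iv F436)) (tt N53 F331) (tt N37 F332) (tt N78 D78) (tt N35 (iv D53)) (tt N53 F333) (tt N79 D79) (tt N53 F334))
theorem Q55 : ∀ i, i < 55 → P i := stepQ 54 Q54 (allL N54 (tt N54 F335) (tt N54 F336) (tt N73 (iv F441)) (tt N54 F337) (tt N38 F338) (tt N80 D80) (tt N79 (iv F475)) (tt N36 F339) (tt N35 (iv D54)) (tt N81 D81))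
theorem Q56 : ∀ i, i < 56 → P i := stepQ 55 Q55 (allL N55 (tt N55 F340) (tt N55 F341) (tt N74 (iv F445)) (tt N55 F342) (tt N55 F343) (tt N36 (iv D55)) (tt N82 D82) (tt N80 (iv F481)) (tt N55 F344) (tt N83 D83))
theorem Q57 : ∀ i, i < 57 → P i := stepQ 56 Q56 (allL N56 (tt N56 F345) (tt N56 F346) (tt N75 (iv F449)) (tt N56 F347) (tt N39 F348) (tt N83 (iv F499)) (tt N56 F349) (tt N81 (iv F487)) (tt N56 F350) (tt N36 (iv D56)))
theorem Q58 : ∀ i, i < 58 → P i := stepQ 57 Q57 (allL N57 (tt N57 F351) (tt N57 F352) (tt N76 (iv F454)) (tt N40 F353) (tt N79 (iv F474)) (tt N84 D84) (tt N38 F354) (tt N57 F355) (tt N37 (iv D57)) (tt N85 D85))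
theorem Q59 : ∀ i, i < 59 → P i := stepQ 58 Q58 (allL N58 (tt N58 F356) (tt N58 F357) (tt N77 (iv F459)) (tt N41 F358) (tt N81 (iv F486)) (tt N58 F359) (tt N85 (iv F509)) (tt N39 F360) (tt N58 F361) (tt N38 (iv D58)))
theorem Q60 : ∀ i, i < 60 → P i := stepQ 59 Q59 (allL N59 (tt N59 F362) (tt N59 F363) (tt N59 F364) (tt N84 (iv F502)) (tt N86 D86) (tt N40 (iv D59)) (tt N59 F365) (tt N59 F366) (tt N59 F367) (tt N87 D87))
theorem Q61 : ∀ i, i < 61 → P i := stepQ 60 Q60 (allL N60 (tt N60 F368) (tt N60 F369) (tt N60 F370) (tt N85 (iv F508)) (tt N60 F371) (tt N87 (iv F522)) (tt N41 F372) (tt N60 F373) (tt N60 F374) (tt N40 (iv D60)))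
theorem Q62 : ∀ i, i < 62 → P i := stepQ 61 Q61 (allL N61 (tt N44 F375) (tt N61 F376) (tt N61 F377) (tt N88 D88) (tt N42 (iv D61)) (tt N61 F378) (tt N61 F379) (tt N89 D89) (tt N90 D90) (tt N61 F380))
theorem Q63 : ∀ i, i < 63 → P i := stepQ 62 Q62 (allL N62 (tt N45 F381) (tt N62 F382) (tt N62 F383) (tt N62 F384) (tt N89 (iv F534)) (tt N43 F385) (tt N91 D91) (tt N42 (iv D62)) (tt N92 D92) (tt N62 F386))
theorem Q64 : ∀ i, i < 64 → P i := stepQ 63 Q63 (allL N63 (tt N46 F387) (tt N63 F388) (tt N63 F389) (tt N63 F390) (tt N90 (iv F540)) (tt N63 F391) (tt N63 F392) (tt N92 (iv F554)) (tt N42 (iv D63)) (tt N93 D93))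
theorem Q65 : ∀ i, i < 65 → P i := stepQ 64 Q64 (allL N64 (tt N88 (iv F525)) (tt N47 F393) (tt N94 D94) (tt N44 (iv D64)) (tt N64 F394) (tt N64 F395) (tt N64 F396) (tt N95 D95) (tt N96 D96) (tt N64 F397))
theorem Q66 : ∀ i, i < 66 → P i := stepQ 65 Q65 (allL N65 (tt N89 (iv F531)) (tt N48 F398) (tt N65 F399) (tt N95 (iv F569)) (tt N45 F400) (tt N65 F401) (tt N97 D97) (tt N44 (iv D65)) (tt N98 D98) (tt N65 F402))
theorem Q67 : ∀ i, i < 67 → P i := stepQ 66 Q66 (allL N66 (tt N90 (iv F537)) (tt N49 F403) (tt N66 F404) (tt N96 (iv F574)) (tt N46 F405) (tt N99 D99) (tt N66 F406) (tt N98 (iv F585)) (tt N44 (iv D66)) (tt N100 D100))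
theorem Q68 : ∀ i, i < 68 → P i := stepQ 67 Q67 (allL N67 (tt N91 (iv F542)) (tt N50 F407) (tt N67 F408) (tt N67 F409) (tt N97 (iv F579)) (tt N67 F410) (tt N45 (iv D67)) (tt N67 F411) (tt N101 D101) (tt N67 F412))
theorem Q69 : ∀ i, i < 69 → P i := stepQ 68 Q68 (allL N68 (tt N92 (iv F549)) (tt N51 F413) (tt N68 F414) (tt N68 F415) (tt N98 (iv F584)) (tt N68 F416) (tt N101 (iv F598)) (tt N46 F417) (tt N45 (iv D68)) (tt N102 D102))
theorem Q70 : ∀ i, i < 70 → P i := stepQ 69 Q69 (allL N69 (tt N93 (iv F555)) (tt N52 F418) (tt N69 F419) (tt N69 F420) (tt N100 (iv F592)) (tt N69 F421) (tt N69 F422) (tt N102 (iv F604)) (tt N69 F423) (tt N46 (iv D69)))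
theorem Q71 : ∀ i, i < 71 → P i := stepQ 70 Q70 (allL N70 (tt N70 F424) (tt N95 (iv F568)) (tt N70 F425) (tt N48 F426) (tt N70 F427) (tt N70 F428) (tt N103 D103) (tt N47 (iv D70)) (tt N104 D104) (tt N70 F429))
theorem Q72 : ∀ i, i < 72 → P i := stepQ 71 Q71 (allL N71 (tt N71 F430) (tt N96 (iv F573)) (tt N71 F431) (tt N49 F432) (tt N71 F433) (tt N105 D105) (tt N71 F434) (tt N104 (iv F616)) (tt N47 (iv D71)) (tt N106 D106))
theorem Q73 : ∀ i, i < 73 → P i := stepQ 72 Q72 (allL N72 (tt N72 F435) (tt N97 (iv F577)) (tt N53 F436) (tt N103 (iv F608)) (tt N50 F437) (tt N107 D107) (tt N48 (iv D72)) (tt N72 F438) (tt N108 D108) (tt N72 F439))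
theorem Q74 : ∀ i, i < 74 → P i := stepQ 73 Q73 (allL N73 (tt N73 F440) (tt N98 (iv F582)) (tt N54 F441) (tt N104 (iv F614)) (tt N51 F442) (tt N109 D109) (tt N108 (iv F636)) (tt N49 F443) (tt N48 (iv D73)) (tt N110 D110))
theorem Q75 : ∀ i, i < 75 → P i := stepQ 74 Q74 (allL N74 (tt N74 F444) (tt N99 (iv F586)) (tt N55 F445) (tt N105 (iv F619)) (tt N74 F446) (tt N49 (iv D74)) (tt N111 D111) (tt N109 (iv F641)) (tt N74 F447) (tt N112 D112))
theorem Q76 : ∀ i, i < 76 → P i := stepQ 75 Q75 (allL N75 (tt N75 F448) (tt N100 (iv F590)) (tt N56 F449) (tt N106 (iv F623)) (tt N52 F450) (tt N112 (iv F656)) (tt N75 F451) (tt N110 (iv F646)) (tt N75 F452) (tt N49 (iv D75)))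
theorem Q77 : ∀ i, i < 77 → P i := stepQ 76 Q76 (allL N76 (tt N76 F453) (tt N101 (iv F595)) (tt N57 F454) (tt N76 F455) (tt N108 (iv F635)) (tt N113 D113) (tt N51 F456) (tt N76 F457) (tt N50 (iv D76)) (tt N114 D114))
theorem Q78 : ∀ i, i < 78 → P i := stepQ 77 Q77 (allL N77 (tt N77 F458) (tt N102 (iv F600)) (tt N58 F459) (tt N77 F460) (tt N110 (iv F645)) (tt N77 F461) (tt N114 (iv F666)) (tt N52 F462) (tt N77 F463) (tt N51 (iv D77)))
theorem Q79 : ∀ i, i < 79 → P i := stepQ 78 Q78 (allL N78 (tt N78 F464) (tt N78 F465) (tt N107 (iv F628)) (tt N78 F466) (tt N78 F467) (tt N53 (iv D78)) (tt N78 F468) (tt N78 F469) (tt N115 D115) (tt N78 F470))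
theorem Q80 : ∀ i, i < 80 → P i := stepQ 79 Q79 (allL N79 (tt N79 F471) (tt N79 F472) (tt N108 (iv F634)) (tt N79 F473) (tt N57 F474) (tt N116 D116) (tt N54 F475) (tt N79 F476) (tt N53 (iv D79)) (tt N117 D117))
theorem Q81 : ∀ i, i < 81 → P i := stepQ 80 Q80 (allL N80 (tt N80 F477) (tt N80 F478) (tt N109 (iv F639)) (tt N80 F479) (tt N80 F480) (tt N54 (iv D80)) (tt N118 D118) (tt N55 F481) (tt N80 F482) (tt N119 D119))
theorem Q82 : ∀ i, i < 82 → P i := stepQ 81 Q81 (allL N81 (tt N81 F483) (tt N81 F484) (tt N110 (iv F644)) (tt N81 F485) (tt N58 F486) (tt N119 (iv F695)) (tt N117 (iv F683)) (tt N56 F487) (tt N81 F488) (tt N54 (iv D81)))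
theorem Q83 : ∀ i, i < 83 → P i := stepQ 82 Q82 (allL N82 (tt N82 F489) (tt N82 F490) (tt N111 (iv F649)) (tt N82 F491) (tt N82 F492) (tt N82 F493) (tt N55 (iv D82)) (tt N120 D120) (tt N82 F494) (tt N121 D121))
theorem Q84 : ∀ i, i < 84 → P i := stepQ 83 Q83 (allL N83 (tt N83 F495) (tt N83 F496) (tt N112 (iv F654)) (tt N83 F497) (tt N83 F498) (tt N56 F499) (tt N121 (iv F708)) (tt N119 (iv F696)) (tt N122 D122) (tt N55 (iv D83)))
theorem Q85 : ∀ i, i < 85 → P i := stepQ 84 Q84 (allL N84 (tt N84 F500) (tt N84 F501) (tt N113 (iv F658)) (tt N59 F502) (tt N123 D123) (tt N57 (iv D84)) (tt N84 F503) (tt N84 F504) (tt N84 F505) (tt N124 D124))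
theorem Q86 : ∀ i, i < 86 → P i := stepQ 85 Q85 (allL N85 (tt N85 F506) (tt N85 F507) (tt N114 (iv F664)) (tt N60 F508) (tt N117 (iv F682)) (tt N124 (iv F723)) (tt N58 F509) (tt N85 F510) (tt N85 F511) (tt N57 (iv D85)))
theorem Q87 : ∀ i, i < 87 → P i := stepQ 86 Q86 (allL N86 (tt N86 F512) (tt N86 F513) (tt N86 F514) (tt N125 D125) (tt N59 (iv D86)) (tt N86 F515) (tt N86 F516) (tt N86 F517) (tt N86 F518) (tt N126 D126))
theorem Q88 : ∀ i, i < 88 → P i := stepQ 87 Q87 (allL N87 (tt N87 F519) (tt N87 F520) (tt N87 F521) (tt N124 (iv F722)) (tt N126 (iv F735)) (tt N60 F522) (tt N87 F523) (tt N87 F524) (tt N127 D127) (tt N59 (iv D87)))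
theorem Q89 : ∀ i, i < 89 → P i := stepQ 88 Q88 (allL N88 (tt N64 F525) (tt N88 F526) (tt N128 D128) (tt N61 (iv D88)) (tt N88 F527) (tt N88 F528) (tt N88 F529) (tt N129 D129) (tt N130 D130) (tt N88 F530))
theorem Q90 : ∀ i, i < 90 → P i := stepQ 89 Q89 (allL N89 (tt N65 F531) (tt N89 F532) (tt N89 F533) (tt N129 (iv F754)) (tt N62 F534) (tt N89 F535) (tt N131 D131) (tt N61 (iv D89)) (tt N132 D132) (tt N89 F536))
theorem Q91 : ∀ i, i < 91 → P i := stepQ 90 Q90 (allL N90 (tt N66 F537) (tt N90 F538) (tt N90 F539) (tt N130 (iv F760)) (tt N63 F540) (tt N133 D133) (tt N90 F541) (tt N132 (iv F773)) (tt N61 (iv D90)) (tt N134 D134))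
theorem Q92 : ∀ i, i < 92 → P i := stepQ 91 Q91 (allL N91 (tt N67 F542) (tt N91 F543) (tt N91 F544) (tt N91 F545) (tt N131 (iv F766)) (tt N91 F546) (tt N62 (iv D91)) (tt N91 F547) (tt N135 D135) (tt N91 F548))
theorem Q93 : ∀ i, i < 93 → P i := stepQ 92 Q92 (allL N92 (tt N68 F549) (tt N92 F550) (tt N92 F551) (tt N92 F552) (tt N132 (iv F772)) (tt N92 F553) (tt N135 (iv F789)) (tt N63 F554) (tt N62 (iv D92)) (tt N136 D136))
theorem Q94 : ∀ i, i < 94 → P i := stepQ 93 Q93 (allL N93 (tt N69 F555) (tt N93 F556) (tt N93 F557) (tt N93 F558) (tt N134 (iv F782)) (tt N93 F559) (tt N93 F560) (tt N136 (iv F796)) (tt N93 F561) (tt N63 (iv D93)))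
theorem Q95 : ∀ i, i < 95 → P i := stepQ 94 Q94 (allL N94 (tt N128 (iv F746)) (tt N94 F562) (tt N64 (iv D94)) (tt N94 F563) (tt N94 F564) (tt N94 F565) (tt N94 F566) (tt N137 D137) (tt N138 D138) (tt N94 F567))
theorem Q96 : ∀ i, i < 96 → P i := stepQ 95 Q95 (allL N95 (tt N129 (iv F752)) (tt N70 F568) (tt N137 (iv F799)) (tt N65 F569) (tt N95 F570) (tt N95 F571) (tt N139 D139) (tt N64 (iv D95)) (tt N140 D140) (tt N95 F572))
theorem Q97 : ∀ i, i < 97 → P i := stepQ 96 Q96 (allL N96 (tt N130 (iv F758)) (tt N71 F573) (tt N138 (iv F805)) (tt N66 F574) (tt N96 F575) (tt N141 D141) (tt N96 F576) (tt N140 (iv F817)) (tt N64 (iv D96)) (tt N142 D142))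
theorem Q98 : ∀ i, i < 98 → P i := stepQ 97 Q97 (allL N97 (tt N131 (iv F763)) (tt N72 F577) (tt N97 F578) (tt N139 (iv F810)) (tt N67 F579) (tt N143 D143) (tt N65 (iv D97)) (tt N97 F580) (tt N144 D144) (tt N97 F581))
theorem Q99 : ∀ i, i < 99 → P i := stepQ 98 Q98 (allL N98 (tt N132 (iv F769)) (tt N73 F582) (tt N98 F583) (tt N140 (iv F815)) (tt N68 F584) (tt N145 D145) (tt N144 (iv F835)) (tt N66 F585) (tt N65 (iv D98)) (tt N146 D146))
theorem Q100 : ∀ i, i < 100 → P i := stepQ 99 Q99 (allL N99 (tt N133 (iv F774)) (tt N74 F586) (tt N99 F587) (tt N141 (iv F819)) (tt N99 F588) (tt N66 (iv D99)) (tt N147 D147) (tt N145 (iv F840)) (tt N99 F589) (tt N148 D148))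
theorem Q101 : ∀ i, i < 101 → P i := stepQ 100 Q100 (allL N100 (tt N134 (iv F779)) (tt N75 F590) (tt N100 F591) (tt N142 (iv F822)) (tt N69 F592) (tt N148 (iv F855)) (tt N100 F593) (tt N146 (iv F845)) (tt N100 F594) (tt N66 (iv D100)))
theorem Q102 : ∀ i, i < 102 → P i := stepQ 101 Q101 (allL N101 (tt N135 (iv F785)) (tt N76 F595) (tt N101 F596) (tt N101 F597) (tt N144 (iv F834)) (tt N149 D149) (tt N68 F598) (tt N101 F599) (tt N67 (iv D101)) (tt N150 D150))
theorem Q103 : ∀ i, i < 103 → P i := stepQ 102 Q102 (allL N102 (tt N136 (iv F791)) (tt N77 F600) (tt N102 F601) (tt N102 F602) (tt N146 (iv F844)) (tt N102 F603) (tt N150 (iv F865)) (tt N69 F604) (tt N102 F605) (tt N68 (iv D102)))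
theorem Q104 : ∀ i, i < 104 → P i := stepQ 103 Q103 (allL N103 (tt N103 F606) (tt N139 (iv F809)) (tt N103 F607) (tt N72 F608) (tt N103 F609) (tt N151 D151) (tt N70 (iv D103)) (tt N103 F610) (tt N152 D152) (tt N103 F611))
theorem Q105 : ∀ i, i < 105 → P i := stepQ 104 Q104 (allL N104 (tt N104 F612) (tt N140 (iv F814)) (tt N104 F613) (tt N73 F614) (tt N104 F615) (tt N153 D153) (tt N152 (iv F878)) (tt N71 F616) (tt N70 (iv D104)) (tt N154 D154))
theorem Q106 : ∀ i, i < 106 → P i := stepQ 105 Q105 (allL N105 (tt N105 F617) (tt N141 (iv F818)) (tt N105 F618) (tt N74 F619) (tt N155 D155) (tt N71 (iv D105)) (tt N156 D156) (tt N153 (iv F883)) (tt N105 F620) (tt N157 D157))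
theorem Q107 : ∀ i, i < 107 → P i := stepQ 106 Q106 (allL N106 (tt N106 F621) (tt N142 (iv F821)) (tt N106 F622) (tt N75 F623) (tt N106 F624) (tt N157 (iv F904)) (tt N106 F625) (tt N154 (iv F889)) (tt N106 F626) (tt N71 (iv D106)))
theorem Q108 : ∀ i, i < 108 → P i := stepQ 107 Q107 (allL N107 (tt N107 F627) (tt N143 (iv F826)) (tt N78 F628) (tt N151 (iv F870)) (tt N107 F629) (tt N72 (iv D107)) (tt N107 F630) (tt N107 F631) (tt N158 D158) (tt N107 F632))
theorem Q109 : ∀ i, i < 109 → P i := stepQ 108 Q108 (allL N108 (tt N108 F633) (tt N144 (iv F832)) (tt N79 F634) (tt N152 (iv F876)) (tt N76 F635) (tt N159 D159) (tt N73 F636) (tt N108 F637) (tt N72 (iv D108)) (tt N160 D160))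
theorem Q110 : ∀ i, i < 110 → P i := stepQ 109 Q109 (allL N109 (tt N109 F638) (tt N145 (iv F837)) (tt N80 F639) (tt N153 (iv F882)) (tt N109 F640) (tt N73 (iv D109)) (tt N161 D161) (tt N74 F641) (tt N109 F642) (tt N162 D162))
theorem Q111 : ∀ i, i < 111 → P i := stepQ 110 Q110 (allL N110 (tt N110 F643) (tt N146 (iv F842)) (tt N81 F644) (tt N154 (iv F887)) (tt N77 F645) (tt N162 (iv F926)) (tt N160 (iv F916)) (tt N75 F646) (tt N110 F647) (tt N73 (iv D110)))
theorem Q112 : ∀ i, i < 112 → P i := stepQ 111 Q111 (allL N111 (tt N111 F648) (tt N147 (iv F847)) (tt N82 F649) (tt N156 (iv F898)) (tt N111 F650) (tt N111 F651) (tt N74 (iv D111)) (tt N163 D163) (tt N111 F652) (tt N164 D164))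
theorem Q113 : ∀ i, i < 113 → P i := stepQ 112 Q112 (allL N112 (tt N112 F653) (tt N148 (iv F852)) (tt N83 F654) (tt N157 (iv F903)) (tt N112 F655) (tt N75 F656) (tt N164 (iv F937)) (tt N162 (iv F927)) (tt N165 D165) (tt N74 (iv D112)))
theorem Q114 : ∀ i, i < 114 → P i := stepQ 113 Q113 (allL N113 (tt N113 F657) (tt N149 (iv F856)) (tt N84 F658) (tt N113 F659) (tt N166 D166) (tt N76 (iv D113)) (tt N113 F660) (tt N113 F661) (tt N113 F662) (tt N167 D167))
theorem Q115 : ∀ i, i < 115 → P i := stepQ 114 Q114 (allL N114 (tt N114 F663) (tt N150 (iv F862)) (tt N85 F664) (tt N114 F665) (tt N160 (iv F915)) (tt N167 (iv F951)) (tt N77 F666) (tt N114 F667) (tt N114 F668) (tt N76 (iv D114)))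
theorem Q116 : ∀ i, i < 116 → P i := stepQ 115 Q115 (allL N115 (tt N115 F669) (tt N115 F670) (tt N158 (iv F906)) (tt N115 F671) (tt N115 F672) (tt N168 D168) (tt N115 F673) (tt N115 F674) (tt N78 (iv D115)) (tt N169 D169))
theorem Q117 : ∀ i, i < 117 → P i := stepQ 116 Q116 (allL N116 (tt N116 F675) (tt N116 F676) (tt N159 (iv F911)) (tt N116 F677) (tt N170 D170) (tt N79 (iv D116)) (tt N171 D171) (tt N116 F678) (tt N168 (iv F958)) (tt N172 D172))
theorem Q118 : ∀ i, i < 118 → P i := stepQ 117 Q117 (allL N117 (tt N117 F679) (tt N117 F680) (tt N160 (iv F914)) (tt N117 F681) (tt N85 F682) (tt N172 (iv F977)) (tt N81 F683) (tt N117 F684) (tt N117 F685) (tt N79 (iv D117)))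
theorem Q119 : ∀ i, i < 119 → P i := stepQ 118 Q118 (allL N118 (tt N118 F686) (tt N118 F687) (tt N161 (iv F920)) (tt N118 F688) (tt N118 F689) (tt N171 (iv F973)) (tt N80 (iv D118)) (tt N173 D173) (tt N118 F690) (tt N174 D174))
theorem Q120 : ∀ i, i < 120 → P i := stepQ 119 Q119 (allL N119 (tt N119 F691) (tt N119 F692) (tt N162 (iv F924)) (tt N119 F693) (tt N119 F694) (tt N81 F695) (tt N174 (iv F989)) (tt N83 F696) (tt N175 D175) (tt N80 (iv D119)))
theorem Q121 : ∀ i, i < 121 → P i := stepQ 120 Q120 (allL N120 (tt N120 F697) (tt N120 F698) (tt N163 (iv F929)) (tt N120 F699) (tt N120 F700) (tt N120 F701) (tt N173 (iv F983)) (tt N82 (iv D120)) (tt N120 F702) (tt N176 D176))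
theorem Q122 : ∀ i, i < 122 → P i := stepQ 121 Q121 (allL N121 (tt N121 F703) (tt N121 F704) (tt N164 (iv F934)) (tt N121 F705) (tt N121 F706) (tt N121 F707) (tt N83 F708) (tt N176 (iv F1002)) (tt N177 D177) (tt N82 (iv D121)))
theorem Q123 : ∀ i, i < 123 → P i := stepQ 122 Q122 (allL N122 (tt N122 F709) (tt N122 F710) (tt N165 (iv F939)) (tt N122 F711) (tt N122 F712) (tt N122 F713) (tt N177 (iv F1007)) (tt N175 (iv F995)) (tt N83 (iv D122)) (tt N122 F714))
theorem Q124 : ∀ i, i < 124 → P i := stepQ 123 Q123 (allL N123 (tt N123 F715) (tt N123 F716) (tt N166 (iv F944)) (tt N178 D178) (tt N84 (iv D123)) (tt N170 (iv F968)) (tt N123 F717) (tt N123 F718) (tt N123 F719) (tt N179 D179))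
theorem Q125 : ∀ i, i < 125 → P i := stepQ 124 Q124 (allL N124 (tt N124 F720) (tt N124 F721) (tt N167 (iv F949)) (tt N87 F722) (tt N179 (iv F1017)) (tt N85 F723) (tt N124 F724) (tt N124 F725) (tt N180 D180) (tt N84 (iv D124)))
theorem Q126 : ∀ i, i < 126 → P i := stepQ 125 Q125 (allL N125 (tt N125 F726) (tt N125 F727) (tt N181 D181) (tt N86 (iv D125)) (tt N178 (iv F1011)) (tt N125 F728) (tt N125 F729) (tt N125 F730) (tt N125 F731) (tt N182 D182))
theorem Q127 : ∀ i, i < 127 → P i := stepQ 126 Q126 (allL N126 (tt N126 F732) (tt N126 F733) (tt N126 F734) (tt N182 (iv F1035)) (tt N87 F735) (tt N126 F736) (tt N126 F737) (tt N126 F738) (tt N183 D183) (tt N86 (iv D126)))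
theorem Q128 : ∀ i, i < 128 → P i := stepQ 127 Q127 (allL N127 (tt N127 F739) (tt N127 F740) (tt N127 F741) (tt N180 (iv F1022)) (tt N183 (iv F1042)) (tt N127 F742) (tt N127 F743) (tt N127 F744) (tt N87 (iv D127)) (tt N127 F745))
theorem Q129 : ∀ i, i < 129 → P i := stepQ 128 Q128 (allL N128 (tt N94 F746) (tt N184 D184) (tt N88 (iv D128)) (tt N128 F747) (tt N128 F748) (tt N128 F749) (tt N128 F750) (tt N185 D185) (tt N186 D186) (tt N128 F751))
theorem Q130 : ∀ i, i < 130 → P i := stepQ 129 Q129 (allL N129 (tt N95 F752) (tt N129 F753) (tt N185 (iv F1054)) (tt N89 F754) (tt N129 F755) (tt N129 F756) (tt N187 D187) (tt N88 (iv D129)) (tt N188 D188) (tt N129 F757))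
theorem Q131 : ∀ i, i < 131 → P i := stepQ 130 Q130 (allL N130 (tt N96 F758) (tt N130 F759) (tt N186 (iv F1060)) (tt N90 F760) (tt N130 F761) (tt N189 D189) (tt N130 F762) (tt N188 (iv F1074)) (tt N88 (iv D130)) (tt N190 D190))
theorem Q132 : ∀ i, i < 132 → P i := stepQ 131 Q131 (allL N131 (tt N97 F763) (tt N131 F764) (tt N131 F765) (tt N187 (iv F1066)) (tt N91 F766) (tt N191 D191) (tt N89 (iv D131)) (tt N131 F767) (tt N192 D192) (tt N131 F768))
theorem Q133 : ∀ i, i < 133 → P i := stepQ 132 Q132 (allL N132 (tt N98 F769) (tt N132 F770) (tt N132 F771) (tt N188 (iv F1072)) (tt N92 F772) (tt N193 D193) (tt N192 (iv F1096)) (tt N90 F773) (tt N89 (iv D132)) (tt N194 D194))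
theorem Q134 : ∀ i, i < 134 → P i := stepQ 133 Q133 (allL N133 (tt N99 F774) (tt N133 F775) (tt N133 F776) (tt N189 (iv F1077)) (tt N133 F777) (tt N90 (iv D133)) (tt N195 D195) (tt N193 (iv F1102)) (tt N133 F778) (tt N196 D196))
theorem Q135 : ∀ i, i < 135 → P i := stepQ 134 Q134 (allL N134 (tt N100 F779) (tt N134 F780) (tt N134 F781) (tt N190 (iv F1081)) (tt N93 F782) (tt N196 (iv F1120)) (tt N134 F783) (tt N194 (iv F1108)) (tt N134 F784) (tt N90 (iv D134)))
theorem Q136 : ∀ i, i < 136 → P i := stepQ 135 Q135 (allL N135 (tt N101 F785) (tt N135 F786) (tt N135 F787) (tt N135 F788) (tt N192 (iv F1095)) (tt N197 D197) (tt N92 F789) (tt N135 F790) (tt N91 (iv D135)) (tt N198 D198))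
theorem Q137 : ∀ i, i < 137 → P i := stepQ 136 Q136 (allL N136 (tt N102 F791) (tt N136 F792) (tt N136 F793) (tt N136 F794) (tt N194 (iv F1107)) (tt N136 F795) (tt N198 (iv F1132)) (tt N93 F796) (tt N136 F797) (tt N92 (iv D136)))
theorem Q138 : ∀ i, i < 138 → P i := stepQ 137 Q137 (allL N137 (tt N185 (iv F1053)) (tt N137 F798) (tt N95 F799) (tt N137 F800) (tt N137 F801) (tt N137 F802) (tt N199 D199) (tt N94 (iv D137)) (tt N200 D200) (tt N137 F803))
theorem Q139 : ∀ i, i < 139 → P i := stepQ 138 Q138 (allL N138 (tt N186 (iv F1059)) (tt N138 F804) (tt N96 F805) (tt N138 F806) (tt N138 F807) (tt N201 D201) (tt N138 F808) (tt N200 (iv F1145)) (tt N94 (iv D138)) (tt N202 D202))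
theorem Q140 : ∀ i, i < 140 → P i := stepQ 139 Q139 (allL N139 (tt N187 (iv F1064)) (tt N103 F809) (tt N199 (iv F1136)) (tt N97 F810) (tt N139 F811) (tt N203 D203) (tt N95 (iv D139)) (tt N139 F812) (tt N204 D204) (tt N139 F813))
theorem Q141 : ∀ i, i < 141 → P i := stepQ 140 Q140 (allL N140 (tt N188 (iv F1070)) (tt N104 F814) (tt N200 (iv F1142)) (tt N98 F815) (tt N140 F816) (tt N205 D205) (tt N204 (iv F1164)) (tt N96 F817) (tt N95 (iv D140)) (tt N206 D206))
theorem Q142 : ∀ i, i < 142 → P i := stepQ 141 Q141 (allL N141 (tt N189 (iv F1075)) (tt N105 F818) (tt N201 (iv F1147)) (tt N99 F819) (tt N207 D207) (tt N96 (iv D141)) (tt N208 D208) (tt N205 (iv F1168)) (tt N141 F820) (tt N209 D209))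
theorem Q143 : ∀ i, i < 143 → P i := stepQ 142 Q142 (allL N142 (tt N190 (iv F1079)) (tt N106 F821) (tt N202 (iv F1151)) (tt N100 F822) (tt N142 F823) (tt N209 (iv F1185)) (tt N142 F824) (tt N206 (iv F1173)) (tt N142 F825) (tt N96 (iv D142)))
theorem Q144 : ∀ i, i < 144 → P i := stepQ 143 Q143 (allL N143 (tt N191 (iv F1085)) (tt N107 F826) (tt N143 F827) (tt N203 (iv F1157)) (tt N143 F828) (tt N97 (iv D143)) (tt N143 F829) (tt N143 F830) (tt N210 D210) (tt N143 F831))
theorem Q145 : ∀ i, i < 145 → P i := stepQ 144 Q144 (allL N144 (tt N192 (iv F1092)) (tt N108 F832) (tt N144 F833) (tt N204 (iv F1162)) (tt N101 F834) (tt N211 D211) (tt N98 F835) (tt N144 F836) (tt N97 (iv D144)) (tt N212 D212))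
theorem Q146 : ∀ i, i < 146 → P i := stepQ 145 Q145 (allL N145 (tt N193 (iv F1098)) (tt N109 F837) (tt N145 F838) (tt N205 (iv F1167)) (tt N145 F839) (tt N98 (iv D145)) (tt N213 D213) (tt N99 F840) (tt N145 F841) (tt N214 D214))
theorem Q147 : ∀ i, i < 147 → P i := stepQ 146 Q146 (allL N146 (tt N194 (iv F1104)) (tt N110 F842) (tt N146 F843) (tt N206 (iv F1171)) (tt N102 F844) (tt N214 (iv F1207)) (tt N212 (iv F1197)) (tt N100 F845) (tt N146 F846) (tt N98 (iv D146)))
theorem Q148 : ∀ i, i < 148 → P i := stepQ 147 Q147 (allL N147 (tt N195 (iv F1110)) (tt N111 F847) (tt N147 F848) (tt N208 (iv F1180)) (tt N147 F849) (tt N147 F850) (tt N99 (iv D147)) (tt N215 D215) (tt N147 F851) (tt N216 D216))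
theorem Q149 : ∀ i, i < 149 → P i := stepQ 148 Q148 (allL N148 (tt N196 (iv F1116)) (tt N112 F852) (tt N148 F853) (tt N209 (iv F1184)) (tt N148 F854) (tt N100 F855) (tt N216 (iv F1218)) (tt N214 (iv F1208)) (tt N217 D217) (tt N99 (iv D148)))
theorem Q150 : ∀ i, i < 150 → P i := stepQ 149 Q149 (allL N149 (tt N197 (iv F1121)) (tt N113 F856) (tt N149 F857) (tt N149 F858) (tt N218 D218) (tt N101 (iv D149)) (tt N149 F859) (tt N149 F860) (tt N149 F861) (tt N219 D219))
theorem Q151 : ∀ i, i < 151 → P i := stepQ 150 Q150 (allL N150 (tt N198 (iv F1128)) (tt N114 F862) (tt N150 F863) (tt N150 F864) (tt N212 (iv F1196)) (tt N219 (iv F1232)) (tt N102 F865) (tt N150 F866) (tt N150 F867) (tt N101 (iv D150)))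
theorem Q152 : ∀ i, i < 152 → P i := stepQ 151 Q151 (allL N151 (tt N151 F868) (tt N203 (iv F1156)) (tt N151 F869) (tt N107 F870) (tt N220 D220) (tt N103 (iv D151)) (tt N151 F871) (tt N151 F872) (tt N221 D221) (tt N151 F873))
theorem Q153 : ∀ i, i < 153 → P i := stepQ 152 Q152 (allL N152 (tt N152 F874) (tt N204 (iv F1161)) (tt N152 F875) (tt N108 F876) (tt N152 F877) (tt N222 D222) (tt N104 F878) (tt N152 F879) (tt N103 (iv D152)) (tt N223 D223))
theorem Q154 : ∀ i, i < 154 → P i := stepQ 153 Q153 (allL N153 (tt N153 F880) (tt N205 (iv F1166)) (tt N153 F881) (tt N109 F882) (tt N224 D224) (tt N104 (iv D153)) (tt N225 D225) (tt N105 F883) (tt N153 F884) (tt N226 D226))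
theorem Q155 : ∀ i, i < 155 → P i := stepQ 154 Q154 (allL N154 (tt N154 F885) (tt N206 (iv F1170)) (tt N154 F886) (tt N110 F887) (tt N154 F888) (tt N226 (iv F1271)) (tt N223 (iv F1255)) (tt N106 F889) (tt N154 F890) (tt N104 (iv D154)))
theorem Q156 : ∀ i, i < 156 → P i := stepQ 155 Q155 (allL N155 (tt N155 F891) (tt N207 (iv F1175)) (tt N155 F892) (tt N155 F893) (tt N105 (iv D155)) (tt N155 F894) (tt N227 D227) (tt N224 (iv F1262)) (tt N155 F895) (tt N228 D228))
theorem Q157 : ∀ i, i < 157 → P i := stepQ 156 Q156 (allL N156 (tt N156 F896) (tt N208 (iv F1179)) (tt N156 F897) (tt N111 F898) (tt N227 (iv F1276)) (tt N156 F899) (tt N105 (iv D156)) (tt N229 D229) (tt N156 F900) (tt N230 D230))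
theorem Q158 : ∀ i, i < 158 → P i := stepQ 157 Q157 (allL N157 (tt N157 F901) (tt N209 (iv F1183)) (tt N157 F902) (tt N112 F903) (tt N228 (iv F1281)) (tt N106 F904) (tt N230 (iv F1292)) (tt N226 (iv F1272)) (tt N231 D231) (tt N105 (iv D157)))
theorem Q159 : ∀ i, i < 159 → P i := stepQ 158 Q158 (allL N158 (tt N158 F905) (tt N210 (iv F1186)) (tt N115 F906) (tt N221 (iv F1244)) (tt N158 F907) (tt N232 D232) (tt N158 F908) (tt N158 F909) (tt N107 (iv D158)) (tt N233 D233))
theorem Q160 : ∀ i, i < 160 → P i := stepQ 159 Q159 (allL N159 (tt N159 F910) (tt N211 (iv F1191)) (tt N116 F911) (tt N222 (iv F1249)) (tt N234 D234) (tt N108 (iv D159)) (tt N235 D235) (tt N159 F912) (tt N232 (iv F1301)) (tt N236 D236))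
theorem Q161 : ∀ i, i < 161 → P i := stepQ 160 Q160 (allL N160 (tt N160 F913) (tt N212 (iv F1194)) (tt N117 F914) (tt N223 (iv F1253)) (tt N114 F915) (tt N236 (iv F1317)) (tt N110 F916) (tt N160 F917) (tt N160 F918) (tt N108 (iv D160)))
theorem Q162 : ∀ i, i < 162 → P i := stepQ 161 Q161 (allL N161 (tt N161 F919) (tt N213 (iv F1200)) (tt N118 F920) (tt N225 (iv F1266)) (tt N161 F921) (tt N235 (iv F1314)) (tt N109 (iv D161)) (tt N237 D237) (tt N161 F922) (tt N238 D238))
theorem Q163 : ∀ i, i < 163 → P i := stepQ 162 Q162 (allL N162 (tt N162 F923) (tt N214 (iv F1204)) (tt N119 F924) (tt N226 (iv F1270)) (tt N162 F925) (tt N110 F926) (tt N238 (iv F1327)) (tt N112 F927) (tt N239 D239) (tt N109 (iv D162)))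
theorem Q164 : ∀ i, i < 164 → P i := stepQ 163 Q163 (allL N163 (tt N163 F928) (tt N215 (iv F1209)) (tt N120 F929) (tt N229 (iv F1285)) (tt N163 F930) (tt N163 F931) (tt N237 (iv F1322)) (tt N111 (iv D163)) (tt N163 F932) (tt N240 D240))
theorem Q165 : ∀ i, i < 165 → P i := stepQ 164 Q164 (allL N164 (tt N164 F933) (tt N216 (iv F1214)) (tt N121 F934) (tt N230 (iv F1290)) (tt N164 F935) (tt N164 F936) (tt N112 F937) (tt N240 (iv F1338)) (tt N241 D241) (tt N111 (iv D164)))
theorem Q166 : ∀ i, i < 166 → P i := stepQ 165 Q165 (allL N165 (tt N165 F938) (tt N217 (iv F1219)) (tt N122 F939) (tt N231 (iv F1295)) (tt N165 F940) (tt N165 F941) (tt N241 (iv F1342)) (tt N239 (iv F1332)) (tt N112 (iv D165)) (tt N165 F942))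
theorem Q167 : ∀ i, i < 167 → P i := stepQ 166 Q166 (allL N166 (tt N166 F943) (tt N218 (iv F1224)) (tt N123 F944) (tt N242 D242) (tt N113 (iv D166)) (tt N234 (iv F1310)) (tt N166 F945) (tt N166 F946) (tt N166 F947) (tt N243 D243))
theorem Q168 : ∀ i, i < 168 → P i := stepQ 167 Q167 (allL N167 (tt N167 F948) (tt N219 (iv F1229)) (tt N124 F949) (tt N167 F950) (tt N243 (iv F1351)) (tt N114 F951) (tt N167 F952) (tt N167 F953) (tt N244 D244) (tt N113 (iv D167)))
theorem Q169 : ∀ i, i < 169 → P i := stepQ 168 Q168 (allL N168 (tt N168 F954) (tt N168 F955) (tt N232 (iv F1299)) (tt N168 F956) (tt N245 D245) (tt N115 (iv D168)) (tt N246 D246) (tt N168 F957) (tt N116 F958) (tt N247 D247))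
theorem Q170 : ∀ i, i < 170 → P i := stepQ 169 Q169 (allL N169 (tt N169 F959) (tt N169 F960) (tt N233 (iv F1303)) (tt N169 F961) (tt N169 F962) (tt N247 (iv F1374)) (tt N169 F963) (tt N169 F964) (tt N169 F965) (tt N115 (iv D169)))
theorem Q171 : ∀ i, i < 171 → P i := stepQ 170 Q170 (allL N170 (tt N170 F966) (tt N170 F967) (tt N234 (iv F1309)) (tt N248 D248) (tt N116 (iv D170)) (tt N123 F968) (tt N249 D249) (tt N170 F969) (tt N245 (iv F1365)) (tt N250 D250))
theorem Q172 : ∀ i, i < 172 → P i := stepQ 171 Q171 (allL N171 (tt N171 F970) (tt N171 F971) (tt N235 (iv F1313)) (tt N171 F972) (tt N249 (iv F1383)) (tt N118 F973) (tt N116 (iv D171)) (tt N251 D251) (tt N246 (iv F1370)) (tt N252 D252))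
theorem Q173 : ∀ i, i < 173 → P i := stepQ 172 Q172 (allL N172 (tt N172 F974) (tt N172 F975) (tt N236 (iv F1316)) (tt N172 F976) (tt N250 (iv F1387)) (tt N117 F977) (tt N252 (iv F1399)) (tt N172 F978) (tt N253 D253) (tt N116 (iv D172)))
theorem Q174 : ∀ i, i < 174 → P i := stepQ 173 Q173 (allL N173 (tt N173 F979) (tt N173 F980) (tt N237 (iv F1320)) (tt N173 F981) (tt N173 F982) (tt N251 (iv F1393)) (tt N120 F983) (tt N118 (iv D173)) (tt N173 F984) (tt N254 D254))
theorem Q175 : ∀ i, i < 175 → P i := stepQ 174 Q174 (allL N174 (tt N174 F985) (tt N174 F986) (tt N238 (iv F1325)) (tt N174 F987) (tt N174 F988) (tt N252 (iv F1398)) (tt N119 F989) (tt N254 (iv F1410)) (tt N255 D255) (tt N118 (iv D174)))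
theorem Q176 : ∀ i, i < 176 → P i := stepQ 175 Q175 (allL N175 (tt N175 F990) (tt N175 F991) (tt N239 (iv F1329)) (tt N175 F992) (tt N175 F993) (tt N175 F994) (tt N255 (iv F1415)) (tt N122 F995) (tt N119 (iv D175)) (tt N175 F996))
theorem Q177 : ∀ i, i < 177 → P i := stepQ 176 Q176 (allL N176 (tt N176 F997) (tt N176 F998) (tt N240 (iv F1335)) (tt N176 F999) (tt N176 F1000) (tt N176 F1001) (tt N254 (iv F1409)) (tt N121 F1002) (tt N256 D256) (tt N120 (iv D176)))
theorem Q178 : ∀ i, i < 178 → P i := stepQ 177 Q177 (allL N177 (tt N177 F1003) (tt N177 F1004) (tt N241 (iv F1340)) (tt N177 F1005) (tt N177 F1006) (tt N257 D257) (tt N122 F1007) (tt N256 (iv F1421)) (tt N121 (iv D177)) (tt N177 F1008))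
theorem Q179 : ∀ i, i < 179 → P i := stepQ 178 Q178 (allL N178 (tt N178 F1009) (tt N178 F1010) (tt N258 D258) (tt N123 (iv D178)) (tt N125 F1011) (tt N248 (iv F1379)) (tt N178 F1012) (tt N178 F1013) (tt N178 F1014) (tt N259 D259))
theorem Q180 : ∀ i, i < 180 → P i := stepQ 179 Q179 (allL N179 (tt N179 F1015) (tt N179 F1016) (tt N243 (iv F1350)) (tt N259 (iv F1436)) (tt N124 F1017) (tt N250 (iv F1388)) (tt N179 F1018) (tt N179 F1019) (tt N260 D260) (tt N123 (iv D179)))
theorem Q181 : ∀ i, i < 181 → P i := stepQ 180 Q180 (allL N180 (tt N180 F1020) (tt N180 F1021) (tt N244 (iv F1355)) (tt N127 F1022) (tt N260 (iv F1442)) (tt N180 F1023) (tt N180 F1024) (tt N180 F1025) (tt N124 (iv D180)) (tt N180 F1026))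
theorem Q182 : ∀ i, i < 182 → P i := stepQ 181 Q181 (allL N181 (tt N181 F1027) (tt N261 D261) (tt N125 (iv D181)) (tt N181 F1028) (tt N258 (iv F1430)) (tt N181 F1029) (tt N181 F1030) (tt N181 F1031) (tt N181 F1032) (tt N262 D262))
theorem Q183 : ∀ i, i < 183 → P i := stepQ 182 Q182 (allL N182 (tt N182 F1033) (tt N182 F1034) (tt N262 (iv F1453)) (tt N126 F1035) (tt N259 (iv F1437)) (tt N182 F1036) (tt N182 F1037) (tt N182 F1038) (tt N263 D263) (tt N125 (iv D182)))
theorem Q184 : ∀ i, i < 184 → P i := stepQ 183 Q183 (allL N183 (tt N183 F1039) (tt N183 F1040) (tt N183 F1041) (tt N263 (iv F1460)) (tt N127 F1042) (tt N264 D264) (tt N183 F1043) (tt N183 F1044) (tt N126 (iv D183)) (tt N183 F1045))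
theorem Q185 : ∀ i, i < 185 → P i := stepQ 184 Q184 (allL N184 (tt N184 F1046) (tt N128 (iv D184)) (tt N184 F1047) (tt N184 F1048) (tt N184 F1049) (tt N184 F1050) (tt N184 F1051) (tt N265 D265) (tt N266 D266) (tt N184 F1052))
theorem Q186 : ∀ i, i < 186 → P i := stepQ 185 Q185 (allL N185 (tt N137 F1053) (tt N265 (iv F1472)) (tt N129 F1054) (tt N185 F1055) (tt N185 F1056) (tt N185 F1057) (tt N267 D267) (tt N128 (iv D185)) (tt N268 D268) (tt N185 F1058))
theorem Q187 : ∀ i, i < 187 → P i := stepQ 186 Q186 (allL N186 (tt N138 F1059) (tt N266 (iv F1479)) (tt N130 F1060) (tt N186 F1061) (tt N186 F1062) (tt N269 D269) (tt N186 F1063) (tt N268 (iv F1494)) (tt N128 (iv D186)) (tt N270 D270))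
theorem Q188 : ∀ i, i < 188 → P i := stepQ 187 Q187 (allL N187 (tt N139 F1064) (tt N187 F1065) (tt N267 (iv F1485)) (tt N131 F1066) (tt N187 F1067) (tt N271 D271) (tt N129 (iv D187)) (tt N187 F1068) (tt N272 D272) (tt N187 F1069))
theorem Q189 : ∀ i, i < 189 → P i := stepQ 188 Q188 (allL N188 (tt N140 F1070) (tt N188 F1071) (tt N268 (iv F1491)) (tt N132 F1072) (tt N188 F1073) (tt N273 D273) (tt N272 (iv F1515)) (tt N130 F1074) (tt N129 (iv D188)) (tt N274 D274))
theorem Q190 : ∀ i, i < 190 → P i := stepQ 189 Q189 (allL N189 (tt N141 F1075) (tt N189 F1076) (tt N269 (iv F1496)) (tt N133 F1077) (tt N275 D275) (tt N130 (iv D189)) (tt N276 D276) (tt N273 (iv F1520)) (tt N189 F1078) (tt N277 D277))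
theorem Q191 : ∀ i, i < 191 → P i := stepQ 190 Q190 (allL N190 (tt N142 F1079) (tt N190 F1080) (tt N270 (iv F1500)) (tt N134 F1081) (tt N190 F1082) (tt N277 (iv F1541)) (tt N190 F1083) (tt N274 (iv F1526)) (tt N190 F1084) (tt N130 (iv D190)))
theorem Q192 : ∀ i, i < 192 → P i := stepQ 191 Q191 (allL N191 (tt N143 F1085) (tt N191 F1086) (tt N191 F1087) (tt N271 (iv F1507)) (tt N191 F1088) (tt N131 (iv D191)) (tt N191 F1089) (tt N191 F1090) (tt N278 D278) (tt N191 F1091))
theorem Q193 : ∀ i, i < 193 → P i := stepQ 192 Q192 (allL N192 (tt N144 F1092) (tt N192 F1093) (tt N192 F1094) (tt N272 (iv F1513)) (tt N135 F1095) (tt N279 D279) (tt N132 F1096) (tt N192 F1097) (tt N131 (iv D192)) (tt N280 D280))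
theorem Q194 : ∀ i, i < 194 → P i := stepQ 193 Q193 (allL N193 (tt N145 F1098) (tt N193 F1099) (tt N193 F1100) (tt N273 (iv F1519)) (tt N193 F1101) (tt N132 (iv D193)) (tt N281 D281) (tt N133 F1102) (tt N193 F1103) (tt N282 D282))
theorem Q195 : ∀ i, i < 195 → P i := stepQ 194 Q194 (allL N194 (tt N146 F1104) (tt N194 F1105) (tt N194 F1106) (tt N274 (iv F1524)) (tt N136 F1107) (tt N282 (iv F1568)) (tt N280 (iv F1556)) (tt N134 F1108) (tt N194 F1109) (tt N132 (iv D194)))
theorem Q196 : ∀ i, i < 196 → P i := stepQ 195 Q195 (allL N195 (tt N147 F1110) (tt N195 F1111) (tt N195 F1112) (tt N276 (iv F1535)) (tt N195 F1113) (tt N195 F1114) (tt N133 (iv D195)) (tt N283 D283) (tt N195 F1115) (tt N284 D284))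
theorem Q197 : ∀ i, i < 197 → P i := stepQ 196 Q196 (allL N196 (tt N148 F1116) (tt N196 F1117) (tt N196 F1118) (tt N277 (iv F1540)) (tt N196 F1119) (tt N134 F1120) (tt N284 (iv F1581)) (tt N282 (iv F1569)) (tt N285 D285) (tt N133 (iv D196)))
theorem Q198 : ∀ i, i < 198 → P i := stepQ 197 Q197 (allL N197 (tt N149 F1121) (tt N197 F1122) (tt N197 F1123) (tt N197 F1124) (tt N286 D286) (tt N135 (iv D197)) (tt N197 F1125) (tt N197 F1126) (tt N197 F1127) (tt N287 D287))
theorem Q199 : ∀ i, i < 199 → P i := stepQ 198 Q198 (allL N198 (tt N150 F1128) (tt N198 F1129) (tt N198 F1130) (tt N198 F1131) (tt N280 (iv F1555)) (tt N287 (iv F1598)) (tt N136 F1132) (tt N198 F1133) (tt N198 F1134) (tt N135 (iv D198)))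
theorem Q200 : ∀ i, i < 200 → P i := stepQ 199 Q199 (allL N199 (tt N267 (iv F1484)) (tt N199 F1135) (tt N139 F1136) (tt N199 F1137) (tt N199 F1138) (tt N288 D288) (tt N137 (iv D199)) (tt N199 F1139) (tt N289 D289) (tt N199 F1140))
theorem Q201 : ∀ i, i < 201 → P i := stepQ 200 Q200 (allL N200 (tt N268 (iv F1490)) (tt N200 F1141) (tt N140 F1142) (tt N200 F1143) (tt N200 F1144) (tt N290 D290) (tt N289 (iv F1611)) (tt N138 F1145) (tt N137 (iv D200)) (tt N291 D291))
theorem Q202 : ∀ i, i < 202 → P i := stepQ 201 Q201 (allL N201 (tt N269 (iv F1495)) (tt N201 F1146) (tt N141 F1147) (tt N201 F1148) (tt N276 F20010) (tt N138 (iv D201)) (tt N275 F20011) (tt N290 (iv F1616)) (tt N201 F1149) (tt N292 D294))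
theorem Q203 : ∀ i, i < 203 → P i := stepQ 202 Q202 (allL N202 (tt N270 (iv F1499)) (tt N202 F1150) (tt N142 F1151) (tt N202 F1152) (tt N202 F1153) (tt N292 (iv F1636)) (tt N202 F1154) (tt N291 (iv F1622)) (tt N202 F1155) (tt N138 (iv D202)))
theorem Q204 : ∀ i, i < 204 → P i := stepQ 203 Q203 (allL N203 (tt N271 (iv F1505)) (tt N151 F1156) (tt N288 (iv F1602)) (tt N143 F1157) (tt N293 D295) (tt N139 (iv D203)) (tt N203 F1158) (tt N203 F1159) (tt N294 D296) (tt N203 F1160))
theorem Q205 : ∀ i, i < 205 → P i := stepQ 204 Q204 (allL N204 (tt N272 (iv F1511)) (tt N152 F1161) (tt N289 (iv F1608)) (tt N144 F1162) (tt N204 F1163) (tt N295 D297) (tt N140 F1164) (tt N204 F1165) (tt N139 (iv D204)) (tt N296 D298))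
theorem Q206 : ∀ i, i < 206 → P i := stepQ 205 Q205 (allL N205 (tt N273 (iv F1517)) (tt N153 F1166) (tt N290 (iv F1614)) (tt N145 F1167) (tt N297 D299) (tt N140 (iv D205)) (tt N298 D300) (tt N141 F1168) (tt N205 F1169) (tt N299 D301))
theorem Q207 : ∀ i, i < 207 → P i := stepQ 206 Q206 (allL N206 (tt N274 (iv F1522)) (tt N154 F1170) (tt N291 (iv F1619)) (tt N146 F1171) (tt N206 F1172) (tt N299 (iv F1666)) (tt N296 (iv F1653)) (tt N142 F1173) (tt N206 F1174) (tt N140 (iv D206)))
theorem Q208 : ∀ i, i < 208 → P i := stepQ 207 Q207 (allL N207 (tt N275 (iv F1528)) (tt N155 F1175) (tt N276 F20020) (tt N207 F1176) (tt N141 (iv D207)) (tt N207 F1177) (tt N269 F20021) (tt N297 (iv F1659)) (tt N207 F1178) (tt N300 D303))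
theorem Q209 : ∀ i, i < 209 → P i := stepQ 208 Q208 (allL N208 (tt N276 (iv F1533)) (tt N156 F1179) (tt N275 F20022) (tt N147 F1180) (tt N269 F20023) (tt N208 F1181) (tt N141 (iv D208)) (tt N301 D304) (tt N208 F1182) (tt N302 D305))
theorem Q210 : ∀ i, i < 210 → P i := stepQ 209 Q209 (allL N209 (tt N277 (iv F1538)) (tt N157 F1183) (tt N292 (iv F1634)) (tt N148 F1184) (tt N300 (iv F1674)) (tt N142 F1185) (tt N302 (iv F1683)) (tt N299 (iv F1667)) (tt N303 D306) (tt N141 (iv D209)))
theorem Q211 : ∀ i, i < 211 → P i := stepQ 210 Q210 (allL N210 (tt N278 (iv F1542)) (tt N158 F1186) (tt N210 F1187) (tt N294 (iv F1644)) (tt N210 F1188) (tt N304 D307) (tt N210 F1189) (tt N210 F1190) (tt N143 (iv D210)) (tt N305 D308))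
theorem Q212 : ∀ i, i < 212 → P i := stepQ 211 Q211 (allL N211 (tt N279 (iv F1548)) (tt N159 F1191) (tt N211 F1192) (tt N295 (iv F1648)) (tt N306 D309) (tt N144 (iv D211)) (tt N307 D310) (tt N211 F1193) (tt N304 (iv F1691)) (tt N308 D311))
theorem Q213 : ∀ i, i < 213 → P i := stepQ 212 Q212 (allL N212 (tt N280 (iv F1552)) (tt N160 F1194) (tt N212 F1195) (tt N296 (iv F1651)) (tt N150 F1196) (tt N308 (iv F1707)) (tt N146 F1197) (tt N212 F1198) (tt N212 F1199) (tt N144 (iv D212)))
theorem Q214 : ∀ i, i < 214 → P i := stepQ 213 Q213 (allL N213 (tt N281 (iv F1559)) (tt N161 F1200) (tt N213 F1201) (tt N298 (iv F1662)) (tt N213 F1202) (tt N307 (iv F1704)) (tt N145 (iv D213)) (tt N309 D312) (tt N213 F1203) (tt N310 D313))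
theorem Q215 : ∀ i, i < 215 → P i := stepQ 214 Q214 (allL N214 (tt N282 (iv F1564)) (tt N162 F1204) (tt N214 F1205) (tt N299 (iv F1665)) (tt N214 F1206) (tt N146 F1207) (tt N310 (iv F1717)) (tt N148 F1208) (tt N311 D314) (tt N145 (iv D214)))
theorem Q216 : ∀ i, i < 216 → P i := stepQ 215 Q215 (allL N215 (tt N283 (iv F1570)) (tt N163 F1209) (tt N215 F1210) (tt N301 (iv F1677)) (tt N215 F1211) (tt N215 F1212) (tt N309 (iv F1712)) (tt N147 (iv D215)) (tt N215 F1213) (tt N312 D315))
theorem Q217 : ∀ i, i < 217 → P i := stepQ 216 Q216 (allL N216 (tt N284 (iv F1576)) (tt N164 F1214) (tt N216 F1215) (tt N302 (iv F1681)) (tt N216 F1216) (tt N216 F1217) (tt N148 F1218) (tt N312 (iv F1728)) (tt N313 D316) (tt N147 (iv D216)))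
theorem Q218 : ∀ i, i < 218 → P i := stepQ 217 Q217 (allL N217 (tt N285 (iv F1582)) (tt N165 F1219) (tt N217 F1220) (tt N303 (iv F1685)) (tt N217 F1221) (tt N217 F1222) (tt N313 (iv F1732)) (tt N311 (iv F1722)) (tt N148 (iv D217)) (tt N217 F1223))
theorem Q219 : ∀ i, i < 219 → P i := stepQ 218 Q218 (allL N218 (tt N286 (iv F1588)) (tt N166 F1224) (tt N218 F1225) (tt N314 D317) (tt N149 (iv D218)) (tt N306 (iv F1700)) (tt N218 F1226) (tt N218 F1227) (tt N218 F1228) (tt N315 D318))
theorem Q220 : ∀ i, i < 220 → P i := stepQ 219 Q219 (allL N219 (tt N287 (iv F1594)) (tt N167 F1229) (tt N219 F1230) (tt N219 F1231) (tt N315 (iv F1741)) (tt N150 F1232) (tt N219 F1233) (tt N219 F1234) (tt N316 D319) (tt N149 (iv D219)))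
theorem Q221 : ∀ i, i < 221 → P i := stepQ 220 Q220 (allL N220 (tt N220 F1235) (tt N293 (iv F1637)) (tt N220 F1236) (tt N220 F1237) (tt N151 (iv D220)) (tt N220 F1238) (tt N220 F1239) (tt N220 F1240) (tt N317 D320) (tt N220 F1241))
theorem Q222 : ∀ i, i < 222 → P i := stepQ 221 Q221 (allL N221 (tt N221 F1242) (tt N294 (iv F1643)) (tt N221 F1243) (tt N158 F1244) (tt N317 (iv F1754)) (tt N318 D321) (tt N221 F1245) (tt N221 F1246) (tt N151 (iv D221)) (tt N319 D322))
theorem Q223 : ∀ i, i < 223 → P i := stepQ 222 Q222 (allL N222 (tt N222 F1247) (tt N295 (iv F1647)) (tt N222 F1248) (tt N159 F1249) (tt N320 D323) (tt N152 (iv D222)) (tt N321 D324) (tt N222 F1250) (tt N318 (iv F1761)) (tt N322 D325))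
theorem Q224 : ∀ i, i < 224 → P i := stepQ 223 Q223 (allL N223 (tt N223 F1251) (tt N296 (iv F1650)) (tt N223 F1252) (tt N160 F1253) (tt N223 F1254) (tt N322 (iv F1779)) (tt N154 F1255) (tt N223 F1256) (tt N223 F1257) (tt N152 (iv D223)))
theorem Q225 : ∀ i, i < 225 → P i := stepQ 224 Q224 (allL N224 (tt N224 F1258) (tt N297 (iv F1656)) (tt N224 F1259) (tt N224 F1260) (tt N153 (iv D224)) (tt N224 F1261) (tt N323 D326) (tt N155 F1262) (tt N224 F1263) (tt N324 D327))
theorem Q226 : ∀ i, i < 226 → P i := stepQ 225 Q225 (allL N225 (tt N225 F1264) (tt N298 (iv F1661)) (tt N225 F1265) (tt N161 F1266) (tt N323 (iv F1784)) (tt N321 (iv F1775)) (tt N153 (iv D225)) (tt N325 D328) (tt N225 F1267) (tt N326 D329))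
theorem Q227 : ∀ i, i < 227 → P i := stepQ 226 Q226 (allL N226 (tt N226 F1268) (tt N299 (iv F1664)) (tt N226 F1269) (tt N162 F1270) (tt N324 (iv F1789)) (tt N154 F1271) (tt N326 (iv F1800)) (tt N157 F1272) (tt N327 D330) (tt N153 (iv D226)))
theorem Q228 : ∀ i, i < 228 → P i := stepQ 227 Q227 (allL N227 (tt N227 F1273) (tt N269 F20034) (tt N227 F1274) (tt N227 F1275) (tt N156 F1276) (tt N266 F20035) (tt N155 (iv D227)) (tt N328 D332) (tt N227 F1277) (tt N329 D333))
theorem Q229 : ∀ i, i < 229 → P i := stepQ 228 Q228 (allL N228 (tt N228 F1278) (tt N300 (iv F1672)) (tt N228 F1279) (tt N228 F1280) (tt N157 F1281) (tt N228 F1282) (tt N329 (iv F1821)) (tt N324 (iv F1791)) (tt N330 D334) (tt N155 (iv D228)))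
theorem Q230 : ∀ i, i < 230 → P i := stepQ 229 Q229 (allL N229 (tt N229 F1283) (tt N301 (iv F1676)) (tt N229 F1284) (tt N163 F1285) (tt N328 (iv F1815)) (tt N229 F1286) (tt N325 (iv F1795)) (tt N156 (iv D229)) (tt N229 F1287) (tt N331 D335))
theorem Q231 : ∀ i, i < 231 → P i := stepQ 230 Q230 (allL N230 (tt N230 F1288) (tt N302 (iv F1680)) (tt N230 F1289) (tt N164 F1290) (tt N329 (iv F1820)) (tt N230 F1291) (tt N157 F1292) (tt N331 (iv F1831)) (tt N332 D336) (tt N156 (iv D230)))
theorem Q232 : ∀ i, i < 232 → P i := stepQ 231 Q231 (allL N231 (tt N231 F1293) (tt N303 (iv F1684)) (tt N231 F1294) (tt N165 F1295) (tt N330 (iv F1825)) (tt N231 F1296) (tt N332 (iv F1835)) (tt N327 (iv F1805)) (tt N157 (iv D231)) (tt N231 F1297))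
theorem Q233 : ∀ i, i < 233 → P i := stepQ 232 Q232 (allL N232 (tt N232 F1298) (tt N304 (iv F1688)) (tt N168 F1299) (tt N318 (iv F1759)) (tt N333 D337) (tt N158 (iv D232)) (tt N334 D338) (tt N232 F1300) (tt N159 F1301) (tt N335 D339))
theorem Q234 : ∀ i, i < 234 → P i := stepQ 233 Q233 (allL N233 (tt N233 F1302) (tt N305 (iv F1692)) (tt N169 F1303) (tt N319 (iv F1764)) (tt N233 F1304) (tt N335 (iv F1848)) (tt N233 F1305) (tt N233 F1306) (tt N233 F1307) (tt N158 (iv D233)))
theorem Q235 : ∀ i, i < 235 → P i := stepQ 234 Q234 (allL N234 (tt N234 F1308) (tt N306 (iv F1698)) (tt N170 F1309) (tt N336 D340) (tt N159 (iv D234)) (tt N166 F1310) (tt N337 D341) (tt N234 F1311) (tt N333 (iv F1841)) (tt N338 D342))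
theorem Q236 : ∀ i, i < 236 → P i := stepQ 235 Q235 (allL N235 (tt N235 F1312) (tt N307 (iv F1702)) (tt N171 F1313) (tt N321 (iv F1774)) (tt N337 (iv F1855)) (tt N161 F1314) (tt N159 (iv D235)) (tt N339 D343) (tt N334 (iv F1845)) (tt N340 D344))
theorem Q237 : ∀ i, i < 237 → P i := stepQ 236 Q236 (allL N236 (tt N236 F1315) (tt N308 (iv F1705)) (tt N172 F1316) (tt N322 (iv F1778)) (tt N338 (iv F1859)) (tt N160 F1317) (tt N340 (iv F1869)) (tt N236 F1318) (tt N341 D345) (tt N159 (iv D236)))
theorem Q238 : ∀ i, i < 238 → P i := stepQ 237 Q237 (allL N237 (tt N237 F1319) (tt N309 (iv F1709)) (tt N173 F1320) (tt N325 (iv F1794)) (tt N237 F1321) (tt N339 (iv F1864)) (tt N163 F1322) (tt N161 (iv D237)) (tt N237 F1323) (tt N342 D346))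
theorem Q239 : ∀ i, i < 239 → P i := stepQ 238 Q238 (allL N238 (tt N238 F1324) (tt N310 (iv F1714)) (tt N174 F1325) (tt N326 (iv F1799)) (tt N238 F1326) (tt N340 (iv F1868)) (tt N162 F1327) (tt N342 (iv F1878)) (tt N343 D347) (tt N161 (iv D238)))
theorem Q240 : ∀ i, i < 240 → P i := stepQ 239 Q239 (allL N239 (tt N239 F1328) (tt N311 (iv F1718)) (tt N175 F1329) (tt N327 (iv F1803)) (tt N239 F1330) (tt N239 F1331) (tt N343 (iv F1882)) (tt N165 F1332) (tt N162 (iv D239)) (tt N239 F1333))
theorem Q241 : ∀ i, i < 241 → P i := stepQ 240 Q240 (allL N240 (tt N240 F1334) (tt N312 (iv F1724)) (tt N176 F1335) (tt N331 (iv F1829)) (tt N240 F1336) (tt N240 F1337) (tt N342 (iv F1877)) (tt N164 F1338) (tt N344 D348) (tt N163 (iv D240)))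
theorem Q242 : ∀ i, i < 242 → P i := stepQ 241 Q241 (allL N241 (tt N241 F1339) (tt N313 (iv F1729)) (tt N177 F1340) (tt N332 (iv F1834)) (tt N241 F1341) (tt N345 D349) (tt N165 F1342) (tt N344 (iv F1887)) (tt N164 (iv D241)) (tt N241 F1343))
theorem Q243 : ∀ i, i < 243 → P i := stepQ 242 Q242 (allL N242 (tt N242 F1344) (tt N314 (iv F1734)) (tt N346 D350) (tt N166 (iv D242)) (tt N242 F1345) (tt N336 (iv F1851)) (tt N242 F1346) (tt N242 F1347) (tt N242 F1348) (tt N347 D351))
theorem Q244 : ∀ i, i < 244 → P i := stepQ 243 Q243 (allL N243 (tt N243 F1349) (tt N315 (iv F1739)) (tt N179 F1350) (tt N347 (iv F1901)) (tt N167 F1351) (tt N338 (iv F1860)) (tt N243 F1352) (tt N243 F1353) (tt N348 D352) (tt N166 (iv D243)))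
theorem Q245 : ∀ i, i < 245 → P i := stepQ 244 Q244 (allL N244 (tt N244 F1354) (tt N316 (iv F1744)) (tt N180 F1355) (tt N244 F1356) (tt N348 (iv F1907)) (tt N244 F1357) (tt N244 F1358) (tt N244 F1359) (tt N167 (iv D244)) (tt N244 F1360))
theorem Q246 : ∀ i, i < 246 → P i := stepQ 245 Q245 (allL N245 (tt N245 F1361) (tt N245 F1362) (tt N333 (iv F1838)) (tt N349 D353) (tt N168 (iv D245)) (tt N245 F1363) (tt N350 D354) (tt N245 F1364) (tt N170 F1365) (tt N351 D355))
theorem Q247 : ∀ i, i < 247 → P i := stepQ 246 Q246 (allL N246 (tt N246 F1366) (tt N246 F1367) (tt N334 (iv F1843)) (tt N246 F1368) (tt N350 (iv F1919)) (tt N246 F1369) (tt N168 (iv D246)) (tt N352 D356) (tt N171 F1370) (tt N353 D357))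
theorem Q248 : ∀ i, i < 248 → P i := stepQ 247 Q247 (allL N247 (tt N247 F1371) (tt N247 F1372) (tt N335 (iv F1847)) (tt N247 F1373) (tt N351 (iv F1923)) (tt N169 F1374) (tt N353 (iv F1936)) (tt N247 F1375) (tt N354 D358) (tt N168 (iv D247)))
theorem Q249 : ∀ i, i < 249 → P i := stepQ 248 Q248 (allL N248 (tt N248 F1376) (tt N248 F1377) (tt N355 D359) (tt N170 (iv D248)) (tt N248 F1378) (tt N178 F1379) (tt N356 D360) (tt N248 F1380) (tt N349 (iv F1916)) (tt N357 D361))
theorem Q250 : ∀ i, i < 250 → P i := stepQ 249 Q249 (allL N249 (tt N249 F1381) (tt N249 F1382) (tt N337 (iv F1854)) (tt N356 (iv F1949)) (tt N171 F1383) (tt N249 F1384) (tt N170 (iv D249)) (tt N358 D362) (tt N350 (iv F1920)) (tt N359 D363))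
theorem Q251 : ∀ i, i < 251 → P i := stepQ 250 Q250 (allL N250 (tt N250 F1385) (tt N250 F1386) (tt N338 (iv F1858)) (tt N357 (iv F1954)) (tt N172 F1387) (tt N179 F1388) (tt N359 (iv F1967)) (tt N250 F1389) (tt N360 D364) (tt N170 (iv D250)))
theorem Q252 : ∀ i, i < 252 → P i := stepQ 251 Q251 (allL N251 (tt N251 F1390) (tt N251 F1391) (tt N339 (iv F1863)) (tt N251 F1392) (tt N358 (iv F1960)) (tt N173 F1393) (tt N251 F1394) (tt N171 (iv D251)) (tt N352 (iv F1931)) (tt N361 D365))
theorem Q253 : ∀ i, i < 253 → P i := stepQ 252 Q252 (allL N252 (tt N252 F1395) (tt N252 F1396) (tt N340 (iv F1867)) (tt N252 F1397) (tt N359 (iv F1965)) (tt N174 F1398) (tt N172 F1399) (tt N361 (iv F1977)) (tt N362 D366) (tt N171 (iv D252)))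
theorem Q254 : ∀ i, i < 254 → P i := stepQ 253 Q253 (allL N253 (tt N253 F1400) (tt N253 F1401) (tt N341 (iv F1871)) (tt N253 F1402) (tt N360 (iv F1970)) (tt N253 F1403) (tt N362 (iv F1981)) (tt N253 F1404) (tt N172 (iv D253)) (tt N354 (iv F1942)))
theorem Q255 : ∀ i, i < 255 → P i := stepQ 254 Q254 (allL N254 (tt N254 F1405) (tt N254 F1406) (tt N342 (iv F1875)) (tt N254 F1407) (tt N254 F1408) (tt N361 (iv F1975)) (tt N176 F1409) (tt N174 F1410) (tt N363 D367) (tt N173 (iv D254)))
theorem Q256 : ∀ i, i < 256 → P i := stepQ 255 Q255 (allL N255 (tt N255 F1411) (tt N255 F1412) (tt N343 (iv F1880)) (tt N255 F1413) (tt N255 F1414) (tt N364 D368) (tt N175 F1415) (tt N363 (iv F1987)) (tt N174 (iv D255)) (tt N255 F1416))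
theorem Q257 : ∀ i, i < 257 → P i := stepQ 256 Q256 (allL N256 (tt N256 F1417) (tt N256 F1418) (tt N344 (iv F1885)) (tt N256 F1419) (tt N256 F1420) (tt N365 D369) (tt N363 (iv F1986)) (tt N177 F1421) (tt N176 (iv D256)) (tt N256 F1422))
theorem Q258 : ∀ i, i < 258 → P i := stepQ 257 Q257 (allL N257 (tt N257 F1423) (tt N257 F1424) (tt N345 (iv F1890)) (tt N257 F1425) (tt N366 D370) (tt N177 (iv D257)) (tt N257 F1426) (tt N365 (iv F1997)) (tt N257 F1427) (tt N257 F1428))
theorem Q259 : ∀ i, i < 259 → P i := stepQ 258 Q258 (allL N258 (tt N258 F1429) (tt N367 D371) (tt N178 (iv D258)) (tt N346 (iv F1895)) (tt N181 F1430) (tt N355 (iv F1945)) (tt N258 F1431) (tt N258 F1432) (tt N258 F1433) (tt N368 D372))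
theorem Q260 : ∀ i, i < 260 → P i := stepQ 259 Q259 (allL N259 (tt N259 F1434) (tt N259 F1435) (tt N368 (iv F2012)) (tt N179 F1436) (tt N182 F1437) (tt N357 (iv F1956)) (tt N259 F1438) (tt N259 F1439) (tt N369 D373) (tt N178 (iv D259)))
theorem Q261 : ∀ i, i < 261 → P i := stepQ 260 Q260 (allL N260 (tt N260 F1440) (tt N260 F1441) (tt N348 (iv F1906)) (tt N369 (iv F2018)) (tt N180 F1442) (tt N370 D374) (tt N260 F1443) (tt N260 F1444) (tt N179 (iv D260)) (tt N260 F1445))
theorem Q262 : ∀ i, i < 262 → P i := stepQ 261 Q261 (allL N261 (tt N371 D375) (tt N181 (iv D261)) (tt N261 F1446) (tt N261 F1447) (tt N367 (iv F2007)) (tt N261 F1448) (tt N261 F1449) (tt N261 F1450) (tt N261 F1451) (tt N372 D376))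
theorem Q263 : ∀ i, i < 263 → P i := stepQ 262 Q262 (allL N262 (tt N262 F1452) (tt N372 (iv F2035)) (tt N182 F1453) (tt N262 F1454) (tt N368 (iv F2013)) (tt N262 F1455) (tt N262 F1456) (tt N262 F1457) (tt N373 D377) (tt N181 (iv D262)))
theorem Q264 : ∀ i, i < 264 → P i := stepQ 263 Q263 (allL N263 (tt N263 F1458) (tt N263 F1459) (tt N373 (iv F2042)) (tt N183 F1460) (tt N369 (iv F2019)) (tt N374 D378) (tt N263 F1461) (tt N263 F1462) (tt N182 (iv D263)) (tt N263 F1463))
theorem Q265 : ∀ i, i < 265 → P i := stepQ 264 Q264 (allL N264 (tt N264 F1464) (tt N264 F1465) (tt N264 F1466) (tt N374 (iv F2049)) (tt N264 F1467) (tt N183 (iv D264)) (tt N375 D379) (tt N264 F1468) (tt N264 F1469) (tt N264 F1470))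
theorem Q266 : ∀ i, i < 266 → P i := stepQ 265 Q265 (allL N265 (tt N265 F1471) (tt N185 F1472) (tt N265 F1473) (tt N265 F1474) (tt N265 F1475) (tt N265 F1476) (tt N376 D380) (tt N184 (iv D265)) (tt N377 D381) (tt N265 F1477))
theorem Q267 : ∀ i, i < 267 → P i := stepQ 266 Q266 (allL N266 (tt N266 F1478) (tt N186 F1479) (tt N266 F1480) (tt N266 F1481) (tt N266 F1482) (tt N227 (iv F20035)) (tt N266 F1483) (tt N377 (iv F2072)) (tt N184 (iv D266)) (tt N378 D383))
theorem Q268 : ∀ i, i < 268 → P i := stepQ 267 Q267 (allL N267 (tt N199 F1484) (tt N376 (iv F2061)) (tt N187 F1485) (tt N267 F1486) (tt N267 F1487) (tt N379 D384) (tt N185 (iv D267)) (tt N267 F1488) (tt N380 D385) (tt N267 F1489))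
theorem Q269 : ∀ i, i < 269 → P i := stepQ 268 Q268 (allL N268 (tt N200 F1490) (tt N377 (iv F2068)) (tt N188 F1491) (tt N268 F1492) (tt N268 F1493) (tt N381 D386) (tt N380 (iv F2095)) (tt N186 F1494) (tt N185 (iv D268)) (tt N382 D387))
theorem Q270 : ∀ i, i < 270 → P i := stepQ 269 Q269 (allL N269 (tt N201 F1495) (tt N227 (iv F20034)) (tt N189 F1496) (tt N269 F1497) (tt N208 (iv F20023)) (tt N186 (iv D269)) (tt N207 (iv F20021)) (tt N381 (iv F2100)) (tt N269 F1498) (tt N383 D390))
theorem Q271 : ∀ i, i < 271 → P i := stepQ 270 Q270 (allL N270 (tt N202 F1499) (tt N378 (iv F2079)) (tt N190 F1500) (tt N270 F1501) (tt N270 F1502) (tt N383 (iv F2120)) (tt N270 F1503) (tt N382 (iv F2106)) (tt N270 F1504) (tt N186 (iv D270)))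
theorem Q272 : ∀ i, i < 272 → P i := stepQ 271 Q271 (allL N271 (tt N203 F1505) (tt N271 F1506) (tt N379 (iv F2086)) (tt N191 F1507) (tt N384 D391) (tt N187 (iv D271)) (tt N271 F1508) (tt N271 F1509) (tt N385 D392) (tt N271 F1510))
theorem Q273 : ∀ i, i < 273 → P i := stepQ 272 Q272 (allL N272 (tt N204 F1511) (tt N272 F1512) (tt N380 (iv F2092)) (tt N192 F1513) (tt N272 F1514) (tt N386 D393) (tt N188 F1515) (tt N272 F1516) (tt N187 (iv D272)) (tt N387 D394))
theorem Q274 : ∀ i, i < 274 → P i := stepQ 273 Q273 (allL N273 (tt N205 F1517) (tt N273 F1518) (tt N381 (iv F2098)) (tt N193 F1519) (tt N388 D395) (tt N188 (iv D273)) (tt N389 D396) (tt N189 F1520) (tt N273 F1521) (tt N390 D397))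
theorem Q275 : ∀ i, i < 275 → P i := stepQ 274 Q274 (allL N274 (tt N206 F1522) (tt N274 F1523) (tt N382 (iv F2103)) (tt N194 F1524) (tt N274 F1525) (tt N390 (iv F2157)) (tt N387 (iv F2141)) (tt N190 F1526) (tt N274 F1527) (tt N188 (iv D274)))
theorem Q276 : ∀ i, i < 276 → P i := stepQ 275 Q275 (allL N275 (tt N207 F1528) (tt N275 F1529) (tt N208 (iv F20022)) (tt N275 F1530) (tt N189 (iv D275)) (tt N275 F1531) (tt N201 (iv F20011)) (tt N388 (iv F2148)) (tt N275 F1532) (tt N391 D399))
theorem Q277 : ∀ i, i < 277 → P i := stepQ 276 Q276 (allL N276 (tt N208 F1533) (tt N276 F1534) (tt N207 (iv F20020)) (tt N195 F1535) (tt N201 (iv F20010)) (tt N276 F1536) (tt N189 (iv D276)) (tt N392 D400) (tt N276 F1537) (tt N393 D401))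
theorem Q278 : ∀ i, i < 278 → P i := stepQ 277 Q277 (allL N277 (tt N209 F1538) (tt N277 F1539) (tt N383 (iv F2118)) (tt N196 F1540) (tt N391 (iv F2167)) (tt N190 F1541) (tt N393 (iv F2178)) (tt N390 (iv F2158)) (tt N394 D402) (tt N189 (iv D277)))
theorem Q279 : ∀ i, i < 279 → P i := stepQ 278 Q278 (allL N278 (tt N210 F1542) (tt N278 F1543) (tt N278 F1544) (tt N385 (iv F2130)) (tt N278 F1545) (tt N395 D403) (tt N278 F1546) (tt N278 F1547) (tt N191 (iv D278)) (tt N396 D404))
theorem Q280 : ∀ i, i < 280 → P i := stepQ 279 Q279 (allL N279 (tt N211 F1548) (tt N279 F1549) (tt N279 F1550) (tt N386 (iv F2135)) (tt N397 D405) (tt N192 (iv D279)) (tt N398 D406) (tt N279 F1551) (tt N395 (iv F2188)) (tt N399 D407))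
theorem Q281 : ∀ i, i < 281 → P i := stepQ 280 Q280 (allL N280 (tt N212 F1552) (tt N280 F1553) (tt N280 F1554) (tt N387 (iv F2139)) (tt N198 F1555) (tt N399 (iv F2208)) (tt N194 F1556) (tt N280 F1557) (tt N280 F1558) (tt N192 (iv D280)))
theorem Q282 : ∀ i, i < 282 → P i := stepQ 281 Q281 (allL N281 (tt N213 F1559) (tt N281 F1560) (tt N281 F1561) (tt N389 (iv F2152)) (tt N281 F1562) (tt N398 (iv F2204)) (tt N193 (iv D281)) (tt N400 D408) (tt N281 F1563) (tt N401 D409))
theorem Q283 : ∀ i, i < 283 → P i := stepQ 282 Q282 (allL N282 (tt N214 F1564) (tt N282 F1565) (tt N282 F1566) (tt N390 (iv F2156)) (tt N282 F1567) (tt N194 F1568) (tt N401 (iv F2220)) (tt N196 F1569) (tt N402 D410) (tt N193 (iv D282)))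
theorem Q284 : ∀ i, i < 284 → P i := stepQ 283 Q283 (allL N283 (tt N215 F1570) (tt N283 F1571) (tt N283 F1572) (tt N392 (iv F2171)) (tt N283 F1573) (tt N283 F1574) (tt N400 (iv F2214)) (tt N195 (iv D283)) (tt N283 F1575) (tt N403 D411))
theorem Q285 : ∀ i, i < 285 → P i := stepQ 284 Q284 (allL N284 (tt N216 F1576) (tt N284 F1577) (tt N284 F1578) (tt N393 (iv F2176)) (tt N284 F1579) (tt N284 F1580) (tt N196 F1581) (tt N403 (iv F2233)) (tt N404 D412) (tt N195 (iv D284)))
theorem Q286 : ∀ i, i < 286 → P i := stepQ 285 Q285 (allL N285 (tt N217 F1582) (tt N285 F1583) (tt N285 F1584) (tt N394 (iv F2181)) (tt N285 F1585) (tt N285 F1586) (tt N404 (iv F2238)) (tt N402 (iv F2226)) (tt N196 (iv D285)) (tt N285 F1587))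
theorem Q287 : ∀ i, i < 287 → P i := stepQ 286 Q286 (allL N286 (tt N218 F1588) (tt N286 F1589) (tt N286 F1590) (tt N405 D413) (tt N197 (iv D286)) (tt N397 (iv F2199)) (tt N286 F1591) (tt N286 F1592) (tt N286 F1593) (tt N406 D414))
theorem Q288 : ∀ i, i < 288 → P i := stepQ 287 Q287 (allL N287 (tt N219 F1594) (tt N287 F1595) (tt N287 F1596) (tt N287 F1597) (tt N406 (iv F2249)) (tt N198 F1598) (tt N287 F1599) (tt N287 F1600) (tt N407 D415) (tt N197 (iv D287)))
theorem Q289 : ∀ i, i < 289 → P i := stepQ 288 Q288 (allL N288 (tt N379 (iv F2085)) (tt N288 F1601) (tt N203 F1602) (tt N288 F1603) (tt N408 D416) (tt N199 (iv D288)) (tt N288 F1604) (tt N288 F1605) (tt N409 D417) (tt N288 F1606))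
theorem Q290 : ∀ i, i < 290 → P i := stepQ 289 Q289 (allL N289 (tt N380 (iv F2091)) (tt N289 F1607) (tt N204 F1608) (tt N289 F1609) (tt N289 F1610) (tt N410 D418) (tt N200 F1611) (tt N289 F1612) (tt N199 (iv D289)) (tt N411 D419))
theorem Q291 : ∀ i, i < 291 → P i := stepQ 290 Q290 (allL N290 (tt N381 (iv F2097)) (tt N290 F1613) (tt N205 F1614) (tt N290 F1615) (tt N392 (iv F20013)) (tt N200 (iv D290)) (tt N412 D421) (tt N201 F1616) (tt N290 F1617) (tt N413 D422))
theorem Q292 : ∀ i, i < 292 → P i := stepQ 291 Q291 (allL N291 (tt N382 (iv F2102)) (tt N291 F1618) (tt N206 F1619) (tt N291 F1620) (tt N291 F1621) (tt N413 (iv F2294)) (tt N411 (iv F2279)) (tt N202 F1622) (tt N291 F1623) (tt N200 (iv D291)))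
theorem Q293 : ∀ i, i < 293 → P i := stepQ 292 Q292 (allL N292 (tt N383 (iv F2117)) (tt N292 F1633) (tt N209 F1634) (tt N292 F1635) (tt N393 F20052) (tt N202 F1636) (tt N391 F20053) (tt N413 (iv F2295)) (tt N414 D428) (tt N201 (iv D294)))
theorem Q294 : ∀ i, i < 294 → P i := stepQ 293 Q293 (allL N293 (tt N384 (iv F2121)) (tt N220 F1637) (tt N408 (iv F2261)) (tt N293 F1638) (tt N203 (iv D295)) (tt N293 F1639) (tt N293 F1640) (tt N293 F1641) (tt N415 D429) (tt N293 F1642))
theorem Q295 : ∀ i, i < 295 → P i := stepQ 294 Q294 (allL N294 (tt N385 (iv F2128)) (tt N221 F1643) (tt N409 (iv F2267)) (tt N210 F1644) (tt N415 (iv F2326)) (tt N416 D430) (tt N294 F1645) (tt N294 F1646) (tt N203 (iv D296)) (tt N417 D431))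
theorem Q296 : ∀ i, i < 296 → P i := stepQ 295 Q295 (allL N295 (tt N386 (iv F2133)) (tt N222 F1647) (tt N410 (iv F2272)) (tt N211 F1648) (tt N418 D432) (tt N204 (iv D297)) (tt N419 D433) (tt N295 F1649) (tt N416 (iv F2332)) (tt N420 D434))
theorem Q297 : ∀ i, i < 297 → P i := stepQ 296 Q296 (allL N296 (tt N387 (iv F2137)) (tt N223 F1650) (tt N411 (iv F2276)) (tt N212 F1651) (tt N296 F1652) (tt N420 (iv F2346)) (tt N206 F1653) (tt N296 F1654) (tt N296 F1655) (tt N204 (iv D298)))
theorem Q298 : ∀ i, i < 298 → P i := stepQ 297 Q297 (allL N297 (tt N388 (iv F2144)) (tt N224 F1656) (tt N392 (iv F20012)) (tt N297 F1657) (tt N205 (iv D299)) (tt N297 F1658) (tt N421 D435) (tt N207 F1659) (tt N297 F1660) (tt N422 D436))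
theorem Q299 : ∀ i, i < 299 → P i := stepQ 298 Q298 (allL N298 (tt N389 (iv F2150)) (tt N225 F1661) (tt N412 (iv F2288)) (tt N213 F1662) (tt N421 (iv F2350)) (tt N419 (iv F2343)) (tt N205 (iv D300)) (tt N423 D437) (tt N298 F1663) (tt N424 D438))
theorem Q300 : ∀ i, i < 300 → P i := stepQ 299 Q299 (allL N299 (tt N390 (iv F2154)) (tt N226 F1664) (tt N413 (iv F2292)) (tt N214 F1665) (tt N422 (iv F2354)) (tt N206 F1666) (tt N424 (iv F2363)) (tt N209 F1667) (tt N425 D439) (tt N205 (iv D301)))
theorem Q301 : ∀ i, i < 301 → P i := stepQ 300 Q300 (allL N300 (tt N391 (iv F2164)) (tt N228 F1672) (tt N393 F20064) (tt N300 F1673) (tt N209 F1674) (tt N300 F1675) (tt N383 F20065) (tt N422 (iv F2356)) (tt N426 D443) (tt N207 (iv D303)))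
theorem Q302 : ∀ i, i < 302 → P i := stepQ 301 Q301 (allL N301 (tt N392 (iv F2169)) (tt N229 F1676) (tt N388 F20006) (tt N215 F1677) (tt N381 F20007) (tt N301 F1678) (tt N423 (iv F2359)) (tt N208 (iv D304)) (tt N301 F1679) (tt N427 D444))
theorem Q303 : ∀ i, i < 303 → P i := stepQ 302 Q302 (allL N302 (tt N393 (iv F2174)) (tt N230 F1680) (tt N391 F20066) (tt N216 F1681) (tt N383 F20067) (tt N302 F1682) (tt N209 F1683) (tt N427 (iv F2388)) (tt N428 D445) (tt N208 (iv D305)))
theorem Q304 : ∀ i, i < 304 → P i := stepQ 303 Q303 (allL N303 (tt N394 (iv F2179)) (tt N231 F1684) (tt N414 (iv F2320)) (tt N217 F1685) (tt N426 (iv F2383)) (tt N303 F1686) (tt N428 (iv F2391)) (tt N425 (iv F2367)) (tt N209 (iv D306)) (tt N303 F1687))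
theorem Q305 : ∀ i, i < 305 → P i := stepQ 304 Q304 (allL N304 (tt N395 (iv F2184)) (tt N232 F1688) (tt N304 F1689) (tt N416 (iv F2330)) (tt N429 D446) (tt N210 (iv D307)) (tt N430 D447) (tt N304 F1690) (tt N211 F1691) (tt N431 D448))
theorem Q306 : ∀ i, i < 306 → P i := stepQ 305 Q305 (allL N305 (tt N396 (iv F2189)) (tt N233 F1692) (tt N305 F1693) (tt N417 (iv F2334)) (tt N305 F1694) (tt N431 (iv F2404)) (tt N305 F1695) (tt N305 F1696) (tt N305 F1697) (tt N210 (iv D308)))
theorem Q307 : ∀ i, i < 307 → P i := stepQ 306 Q306 (allL N306 (tt N397 (iv F2196)) (tt N234 F1698) (tt N306 F1699) (tt N432 D449) (tt N211 (iv D309)) (tt N218 F1700) (tt N433 D450) (tt N306 F1701) (tt N429 (iv F2397)) (tt N434 D451))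
theorem Q308 : ∀ i, i < 308 → P i := stepQ 307 Q307 (allL N307 (tt N398 (iv F2201)) (tt N235 F1702) (tt N307 F1703) (tt N419 (iv F2342)) (tt N433 (iv F2411)) (tt N213 F1704) (tt N211 (iv D310)) (tt N435 D452) (tt N430 (iv F2401)) (tt N436 D453))
theorem Q309 : ∀ i, i < 309 → P i := stepQ 308 Q308 (allL N308 (tt N399 (iv F2205)) (tt N236 F1705) (tt N308 F1706) (tt N420 (iv F2345)) (tt N434 (iv F2415)) (tt N212 F1707) (tt N436 (iv F2425)) (tt N308 F1708) (tt N437 D454) (tt N211 (iv D311)))
theorem Q310 : ∀ i, i < 310 → P i := stepQ 309 Q309 (allL N309 (tt N400 (iv F2210)) (tt N237 F1709) (tt N309 F1710) (tt N423 (iv F2358)) (tt N309 F1711) (tt N435 (iv F2420)) (tt N215 F1712) (tt N213 (iv D312)) (tt N309 F1713) (tt N438 D455))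
theorem Q311 : ∀ i, i < 311 → P i := stepQ 310 Q310 (allL N310 (tt N401 (iv F2216)) (tt N238 F1714) (tt N310 F1715) (tt N424 (iv F2362)) (tt N310 F1716) (tt N436 (iv F2424)) (tt N214 F1717) (tt N438 (iv F2434)) (tt N439 D456) (tt N213 (iv D313)))
theorem Q312 : ∀ i, i < 312 → P i := stepQ 311 Q311 (allL N311 (tt N402 (iv F2221)) (tt N239 F1718) (tt N311 F1719) (tt N425 (iv F2365)) (tt N311 F1720) (tt N311 F1721) (tt N439 (iv F2438)) (tt N217 F1722) (tt N214 (iv D314)) (tt N311 F1723))
theorem Q313 : ∀ i, i < 313 → P i := stepQ 312 Q312 (allL N312 (tt N403 (iv F2228)) (tt N240 F1724) (tt N312 F1725) (tt N427 (iv F2386)) (tt N312 F1726) (tt N312 F1727) (tt N438 (iv F2433)) (tt N216 F1728) (tt N440 D457) (tt N215 (iv D315)))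
theorem Q314 : ∀ i, i < 314 → P i := stepQ 313 Q313 (allL N313 (tt N404 (iv F2234)) (tt N241 F1729) (tt N313 F1730) (tt N428 (iv F2390)) (tt N313 F1731) (tt N441 D458) (tt N217 F1732) (tt N440 (iv F2443)) (tt N216 (iv D316)) (tt N313 F1733))
theorem Q315 : ∀ i, i < 315 → P i := stepQ 314 Q314 (allL N314 (tt N405 (iv F2240)) (tt N242 F1734) (tt N442 D459) (tt N218 (iv D317)) (tt N314 F1735) (tt N432 (iv F2407)) (tt N314 F1736) (tt N314 F1737) (tt N314 F1738) (tt N443 D460))
theorem Q316 : ∀ i, i < 316 → P i := stepQ 315 Q315 (allL N315 (tt N406 (iv F2246)) (tt N243 F1739) (tt N315 F1740) (tt N443 (iv F2456)) (tt N219 F1741) (tt N434 (iv F2416)) (tt N315 F1742) (tt N315 F1743) (tt N444 D461) (tt N218 (iv D318)))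
theorem Q317 : ∀ i, i < 317 → P i := stepQ 316 Q316 (allL N316 (tt N407 (iv F2252)) (tt N244 F1744) (tt N316 F1745) (tt N316 F1746) (tt N444 (iv F2462)) (tt N316 F1747) (tt N316 F1748) (tt N316 F1749) (tt N219 (iv D319)) (tt N316 F1750))
theorem Q318 : ∀ i, i < 318 → P i := stepQ 317 Q317 (allL N317 (tt N317 F1751) (tt N415 (iv F2324)) (tt N317 F1752) (tt N317 F1753) (tt N221 F1754) (tt N445 D462) (tt N317 F1755) (tt N317 F1756) (tt N220 (iv D320)) (tt N446 D463))
theorem Q319 : ∀ i, i < 319 → P i := stepQ 318 Q318 (allL N318 (tt N318 F1757) (tt N416 (iv F2329)) (tt N318 F1758) (tt N232 F1759) (tt N447 D464) (tt N221 (iv D321)) (tt N448 D465) (tt N318 F1760) (tt N222 F1761) (tt N449 D466))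
theorem Q320 : ∀ i, i < 320 → P i := stepQ 319 Q319 (allL N319 (tt N319 F1762) (tt N417 (iv F2333)) (tt N319 F1763) (tt N233 F1764) (tt N446 (iv F2474)) (tt N449 (iv F2490)) (tt N319 F1765) (tt N319 F1766) (tt N319 F1767) (tt N221 (iv D322)))
theorem Q321 : ∀ i, i < 321 → P i := stepQ 320 Q320 (allL N320 (tt N320 F1768) (tt N418 (iv F2338)) (tt N320 F1769) (tt N450 D467) (tt N222 (iv D323)) (tt N320 F1770) (tt N451 D468) (tt N320 F1771) (tt N447 (iv F2481)) (tt N452 D469))
theorem Q322 : ∀ i, i < 322 → P i := stepQ 321 Q321 (allL N321 (tt N321 F1772) (tt N419 (iv F2341)) (tt N321 F1773) (tt N235 F1774) (tt N451 (iv F2498)) (tt N225 F1775) (tt N222 (iv D324)) (tt N453 D470) (tt N448 (iv F2486)) (tt N454 D471))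
theorem Q323 : ∀ i, i < 323 → P i := stepQ 322 Q322 (allL N322 (tt N322 F1776) (tt N420 (iv F2344)) (tt N322 F1777) (tt N236 F1778) (tt N452 (iv F2501)) (tt N223 F1779) (tt N454 (iv F2513)) (tt N322 F1780) (tt N455 D472) (tt N222 (iv D325)))
theorem Q324 : ∀ i, i < 324 → P i := stepQ 323 Q323 (allL N323 (tt N323 F1781) (tt N421 (iv F2348)) (tt N323 F1782) (tt N323 F1783) (tt N225 F1784) (tt N456 D473) (tt N224 (iv D326)) (tt N457 D474) (tt N323 F1785) (tt N458 D475))
theorem Q325 : ∀ i, i < 325 → P i := stepQ 324 Q324 (allL N324 (tt N324 F1786) (tt N422 (iv F2352)) (tt N324 F1787) (tt N324 F1788) (tt N226 F1789) (tt N324 F1790) (tt N458 (iv F2533)) (tt N228 F1791) (tt N459 D476) (tt N224 (iv D327)))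
theorem Q326 : ∀ i, i < 326 → P i := stepQ 325 Q325 (allL N325 (tt N325 F1792) (tt N423 (iv F2357)) (tt N325 F1793) (tt N237 F1794) (tt N457 (iv F2526)) (tt N453 (iv F2507)) (tt N229 F1795) (tt N225 (iv D328)) (tt N325 F1796) (tt N460 D477))
theorem Q327 : ∀ i, i < 327 → P i := stepQ 326 Q326 (allL N326 (tt N326 F1797) (tt N424 (iv F2361)) (tt N326 F1798) (tt N238 F1799) (tt N458 (iv F2532)) (tt N454 (iv F2512)) (tt N226 F1800) (tt N460 (iv F2544)) (tt N461 D478) (tt N225 (iv D329)))
theorem Q328 : ∀ i, i < 328 → P i := stepQ 327 Q327 (allL N327 (tt N327 F1801) (tt N425 (iv F2364)) (tt N327 F1802) (tt N239 F1803) (tt N459 (iv F2537)) (tt N327 F1804) (tt N461 (iv F2548)) (tt N231 F1805) (tt N226 (iv D330)) (tt N327 F1806))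
theorem Q329 : ∀ i, i < 329 → P i := stepQ 328 Q328 (allL N328 (tt N328 F1812) (tt N381 F20002) (tt N328 F1813) (tt N328 F1814) (tt N229 F1815) (tt N377 F20003) (tt N457 (iv F2527)) (tt N227 (iv D332)) (tt N328 F1816) (tt N462 D482))
theorem Q330 : ∀ i, i < 330 → P i := stepQ 329 Q329 (allL N329 (tt N329 F1817) (tt N383 F20085) (tt N329 F1818) (tt N329 F1819) (tt N230 F1820) (tt N378 F20086) (tt N228 F1821) (tt N462 (iv F2571)) (tt N463 D483) (tt N227 (iv D333)))
theorem Q331 : ∀ i, i < 331 → P i := stepQ 330 Q330 (allL N330 (tt N330 F1822) (tt N426 (iv F2381)) (tt N330 F1823) (tt N330 F1824) (tt N231 F1825) (tt N464 D484) (tt N463 (iv F2576)) (tt N459 (iv F2538)) (tt N228 (iv D334)) (tt N330 F1826))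
theorem Q332 : ∀ i, i < 332 → P i := stepQ 331 Q331 (allL N331 (tt N331 F1827) (tt N427 (iv F2385)) (tt N331 F1828) (tt N240 F1829) (tt N462 (iv F2570)) (tt N331 F1830) (tt N460 (iv F2543)) (tt N230 F1831) (tt N465 D485) (tt N229 (iv D335)))
theorem Q333 : ∀ i, i < 333 → P i := stepQ 332 Q332 (allL N332 (tt N332 F1832) (tt N428 (iv F2389)) (tt N332 F1833) (tt N241 F1834) (tt N463 (iv F2575)) (tt N466 D486) (tt N231 F1835) (tt N465 (iv F2587)) (tt N230 (iv D336)) (tt N332 F1836))
theorem Q334 : ∀ i, i < 334 → P i := stepQ 333 Q333 (allL N333 (tt N333 F1837) (tt N429 (iv F2393)) (tt N245 F1838) (tt N467 D487) (tt N232 (iv D337)) (tt N333 F1839) (tt N468 D488) (tt N333 F1840) (tt N234 F1841) (tt N469 D489))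
theorem Q335 : ∀ i, i < 335 → P i := stepQ 334 Q334 (allL N334 (tt N334 F1842) (tt N430 (iv F2398)) (tt N246 F1843) (tt N448 (iv F2484)) (tt N468 (iv F2601)) (tt N334 F1844) (tt N232 (iv D338)) (tt N470 D490) (tt N235 F1845) (tt N471 D491))
theorem Q336 : ∀ i, i < 336 → P i := stepQ 335 Q335 (allL N335 (tt N335 F1846) (tt N431 (iv F2402)) (tt N247 F1847) (tt N449 (iv F2489)) (tt N469 (iv F2605)) (tt N233 F1848) (tt N471 (iv F2616)) (tt N335 F1849) (tt N472 D492) (tt N232 (iv D339)))
theorem Q337 : ∀ i, i < 337 → P i := stepQ 336 Q336 (allL N336 (tt N336 F1850) (tt N432 (iv F2406)) (tt N473 D493) (tt N234 (iv D340)) (tt N450 (iv F2493)) (tt N242 F1851) (tt N474 D494) (tt N336 F1852) (tt N467 (iv F2598)) (tt N475 D495))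
theorem Q338 : ∀ i, i < 338 → P i := stepQ 337 Q337 (allL N337 (tt N337 F1853) (tt N433 (iv F2409)) (tt N249 F1854) (tt N474 (iv F2627)) (tt N235 F1855) (tt N337 F1856) (tt N234 (iv D341)) (tt N476 D496) (tt N468 (iv F2602)) (tt N477 D497))
theorem Q339 : ∀ i, i < 339 → P i := stepQ 338 Q338 (allL N338 (tt N338 F1857) (tt N434 (iv F2413)) (tt N250 F1858) (tt N475 (iv F2630)) (tt N236 F1859) (tt N243 F1860) (tt N477 (iv F2642)) (tt N338 F1861) (tt N478 D498) (tt N234 (iv D342)))
theorem Q340 : ∀ i, i < 340 → P i := stepQ 339 Q339 (allL N339 (tt N339 F1862) (tt N435 (iv F2418)) (tt N251 F1863) (tt N453 (iv F2506)) (tt N476 (iv F2635)) (tt N237 F1864) (tt N339 F1865) (tt N235 (iv D343)) (tt N470 (iv F2612)) (tt N479 D499))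
theorem Q341 : ∀ i, i < 341 → P i := stepQ 340 Q340 (allL N340 (tt N340 F1866) (tt N436 (iv F2422)) (tt N252 F1867) (tt N454 (iv F2511)) (tt N477 (iv F2640)) (tt N238 F1868) (tt N236 F1869) (tt N479 (iv F2651)) (tt N480 D500) (tt N235 (iv D344)))
theorem Q342 : ∀ i, i < 342 → P i := stepQ 341 Q341 (allL N341 (tt N341 F1870) (tt N437 (iv F2426)) (tt N253 F1871) (tt N455 (iv F2516)) (tt N478 (iv F2645)) (tt N341 F1872) (tt N480 (iv F2654)) (tt N341 F1873) (tt N236 (iv D345)) (tt N472 (iv F2621)))
theorem Q343 : ∀ i, i < 343 → P i := stepQ 342 Q342 (allL N342 (tt N342 F1874) (tt N438 (iv F2430)) (tt N254 F1875) (tt N460 (iv F2542)) (tt N342 F1876) (tt N479 (iv F2649)) (tt N240 F1877) (tt N238 F1878) (tt N481 D501) (tt N237 (iv D346)))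
theorem Q344 : ∀ i, i < 344 → P i := stepQ 343 Q343 (allL N343 (tt N343 F1879) (tt N439 (iv F2435)) (tt N255 F1880) (tt N461 (iv F2547)) (tt N343 F1881) (tt N482 D502) (tt N239 F1882) (tt N481 (iv F2659)) (tt N238 (iv D347)) (tt N343 F1883))
theorem Q345 : ∀ i, i < 345 → P i := stepQ 344 Q344 (allL N344 (tt N344 F1884) (tt N440 (iv F2440)) (tt N256 F1885) (tt N465 (iv F2586)) (tt N344 F1886) (tt N483 D503) (tt N481 (iv F2658)) (tt N241 F1887) (tt N240 (iv D348)) (tt N344 F1888))
theorem Q346 : ∀ i, i < 346 → P i := stepQ 345 Q345 (allL N345 (tt N345 F1889) (tt N441 (iv F2445)) (tt N257 F1890) (tt N466 (iv F2591)) (tt N484 D504) (tt N241 (iv D349)) (tt N345 F1891) (tt N483 (iv F2667)) (tt N345 F1892) (tt N345 F1893))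
theorem Q347 : ∀ i, i < 347 → P i := stepQ 346 Q346 (allL N346 (tt N346 F1894) (tt N485 D505) (tt N242 (iv D350)) (tt N258 F1895) (tt N346 F1896) (tt N473 (iv F2624)) (tt N346 F1897) (tt N346 F1898) (tt N346 F1899) (tt N486 D506))
theorem Q348 : ∀ i, i < 348 → P i := stepQ 347 Q347 (allL N347 (tt N347 F1900) (tt N443 (iv F2455)) (tt N486 (iv F2682)) (tt N243 F1901) (tt N347 F1902) (tt N475 (iv F2631)) (tt N347 F1903) (tt N347 F1904) (tt N487 D507) (tt N242 (iv D351)))
theorem Q349 : ∀ i, i < 349 → P i := stepQ 348 Q348 (allL N348 (tt N348 F1905) (tt N444 (iv F2460)) (tt N260 F1906) (tt N487 (iv F2688)) (tt N244 F1907) (tt N488 D508) (tt N348 F1908) (tt N348 F1909) (tt N243 (iv D352)) (tt N348 F1910))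
theorem Q350 : ∀ i, i < 350 → P i := stepQ 349 Q349 (allL N349 (tt N349 F1911) (tt N349 F1912) (tt N489 D509) (tt N245 (iv D353)) (tt N349 F1913) (tt N349 F1914) (tt N490 D510) (tt N349 F1915) (tt N248 F1916) (tt N491 D511))
theorem Q351 : ∀ i, i < 351 → P i := stepQ 350 Q350 (allL N350 (tt N350 F1917) (tt N350 F1918) (tt N468 (iv F2600)) (tt N490 (iv F2705)) (tt N246 F1919) (tt N492 D512) (tt N245 (iv D354)) (tt N493 D513) (tt N249 F1920) (tt N494 D514))
theorem Q352 : ∀ i, i < 352 → P i := stepQ 351 Q351 (allL N351 (tt N351 F1921) (tt N351 F1922) (tt N469 (iv F2604)) (tt N491 (iv F2710)) (tt N247 F1923) (tt N351 F1924) (tt N494 (iv F2727)) (tt N351 F1925) (tt N495 D515) (tt N245 (iv D355)))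
theorem Q353 : ∀ i, i < 353 → P i := stepQ 352 Q352 (allL N352 (tt N352 F1926) (tt N352 F1927) (tt N470 (iv F2609)) (tt N352 F1928) (tt N493 (iv F2721)) (tt N352 F1929) (tt N352 F1930) (tt N246 (iv D356)) (tt N251 F1931) (tt N496 D516))
theorem Q354 : ∀ i, i < 354 → P i := stepQ 353 Q353 (allL N353 (tt N353 F1932) (tt N353 F1933) (tt N471 (iv F2614)) (tt N353 F1934) (tt N494 (iv F2726)) (tt N353 F1935) (tt N247 F1936) (tt N496 (iv F2738)) (tt N497 D517) (tt N246 (iv D357)))
theorem Q355 : ∀ i, i < 355 → P i := stepQ 354 Q354 (allL N354 (tt N354 F1937) (tt N354 F1938) (tt N472 (iv F2618)) (tt N354 F1939) (tt N495 (iv F2730)) (tt N354 F1940) (tt N497 (iv F2742)) (tt N354 F1941) (tt N247 (iv D358)) (tt N253 F1942))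
theorem Q356 : ∀ i, i < 356 → P i := stepQ 355 Q355 (allL N355 (tt N355 F1943) (tt N498 D518) (tt N248 (iv D359)) (tt N473 (iv F2623)) (tt N355 F1944) (tt N258 F1945) (tt N499 D519) (tt N355 F1946) (tt N489 (iv F2702)) (tt N500 D520))
theorem Q357 : ∀ i, i < 357 → P i := stepQ 356 Q356 (allL N356 (tt N356 F1947) (tt N356 F1948) (tt N499 (iv F2749)) (tt N249 F1949) (tt N356 F1950) (tt N356 F1951) (tt N248 (iv D360)) (tt N501 D521) (tt N490 (iv F2707)) (tt N502 D522))
theorem Q358 : ∀ i, i < 358 → P i := stepQ 357 Q357 (allL N357 (tt N357 F1952) (tt N357 F1953) (tt N500 (iv F2753)) (tt N250 F1954) (tt N357 F1955) (tt N259 F1956) (tt N502 (iv F2768)) (tt N357 F1957) (tt N503 D523) (tt N248 (iv D361)))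
theorem Q359 : ∀ i, i < 359 → P i := stepQ 358 Q358 (allL N358 (tt N358 F1958) (tt N358 F1959) (tt N476 (iv F2634)) (tt N501 (iv F2759)) (tt N251 F1960) (tt N358 F1961) (tt N358 F1962) (tt N249 (iv D362)) (tt N493 (iv F2723)) (tt N504 D524))
theorem Q360 : ∀ i, i < 360 → P i := stepQ 359 Q359 (allL N359 (tt N359 F1963) (tt N359 F1964) (tt N477 (iv F2639)) (tt N502 (iv F2765)) (tt N252 F1965) (tt N359 F1966) (tt N250 F1967) (tt N504 (iv F2779)) (tt N505 D525) (tt N249 (iv D363)))
theorem Q361 : ∀ i, i < 361 → P i := stepQ 360 Q360 (allL N360 (tt N360 F1968) (tt N360 F1969) (tt N478 (iv F2644)) (tt N503 (iv F2771)) (tt N253 F1970) (tt N506 D526) (tt N505 (iv F2783)) (tt N360 F1971) (tt N250 (iv D364)) (tt N495 (iv F2732)))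
theorem Q362 : ∀ i, i < 362 → P i := stepQ 361 Q361 (allL N361 (tt N361 F1972) (tt N361 F1973) (tt N479 (iv F2648)) (tt N361 F1974) (tt N504 (iv F2776)) (tt N254 F1975) (tt N361 F1976) (tt N252 F1977) (tt N507 D527) (tt N251 (iv D365)))
theorem Q363 : ∀ i, i < 363 → P i := stepQ 362 Q362 (allL N362 (tt N362 F1978) (tt N362 F1979) (tt N480 (iv F2653)) (tt N362 F1980) (tt N505 (iv F2782)) (tt N508 D528) (tt N253 F1981) (tt N507 (iv F2793)) (tt N252 (iv D366)) (tt N497 (iv F2743)))
theorem Q364 : ∀ i, i < 364 → P i := stepQ 363 Q363 (allL N363 (tt N363 F1982) (tt N363 F1983) (tt N481 (iv F2656)) (tt N363 F1984) (tt N363 F1985) (tt N509 D529) (tt N256 F1986) (tt N255 F1987) (tt N254 (iv D367)) (tt N363 F1988))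
theorem Q365 : ∀ i, i < 365 → P i := stepQ 364 Q364 (allL N364 (tt N364 F1989) (tt N364 F1990) (tt N482 (iv F2662)) (tt N364 F1991) (tt N510 D530) (tt N255 (iv D368)) (tt N364 F1992) (tt N509 (iv F2802)) (tt N508 (iv F2798)) (tt N364 F1993))
theorem Q366 : ∀ i, i < 366 → P i := stepQ 365 Q365 (allL N365 (tt N365 F1994) (tt N365 F1995) (tt N483 (iv F2666)) (tt N365 F1996) (tt N511 D531) (tt N256 (iv D369)) (tt N512 D532) (tt N257 F1997) (tt N365 F1998) (tt N365 F1999))
theorem Q367 : ∀ i, i < 367 → P i := stepQ 366 Q366 (allL N366 (tt N366 F2000) (tt N366 F2001) (tt N484 (iv F2671)) (tt N513 D533) (tt N257 (iv D370)) (tt N366 F2002) (tt N366 F2003) (tt N511 (iv F2812)) (tt N366 F2004) (tt N366 F2005))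
theorem Q368 : ∀ i, i < 368 → P i := stepQ 367 Q367 (allL N367 (tt N514 D534) (tt N258 (iv D371)) (tt N367 F2006) (tt N485 (iv F2676)) (tt N261 F2007) (tt N498 (iv F2746)) (tt N367 F2008) (tt N367 F2009) (tt N367 F2010) (tt N515 D535))
theorem Q369 : ∀ i, i < 369 → P i := stepQ 368 Q368 (allL N368 (tt N368 F2011) (tt N515 (iv F2834)) (tt N259 F2012) (tt N486 (iv F2683)) (tt N262 F2013) (tt N500 (iv F2755)) (tt N368 F2014) (tt N368 F2015) (tt N516 D536) (tt N258 (iv D372)))
theorem Q370 : ∀ i, i < 370 → P i := stepQ 369 Q369 (allL N369 (tt N369 F2016) (tt N369 F2017) (tt N516 (iv F2840)) (tt N260 F2018) (tt N263 F2019) (tt N517 D537) (tt N369 F2020) (tt N369 F2021) (tt N259 (iv D373)) (tt N369 F2022))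
theorem Q371 : ∀ i, i < 371 → P i := stepQ 370 Q370 (allL N370 (tt N370 F2023) (tt N370 F2024) (tt N488 (iv F2694)) (tt N517 (iv F2847)) (tt N370 F2025) (tt N260 (iv D374)) (tt N518 D538) (tt N370 F2026) (tt N506 (iv F2788)) (tt N370 F2027))
theorem Q372 : ∀ i, i < 372 → P i := stepQ 371 Q371 (allL N371 (tt N261 (iv D375)) (tt N371 F2028) (tt N371 F2029) (tt N371 F2030) (tt N514 (iv F2830)) (tt N371 F2031) (tt N371 F2032) (tt N371 F2033) (tt N371 F2034) (tt N519 D539))
theorem Q373 : ∀ i, i < 373 → P i := stepQ 372 Q372 (allL N372 (tt N519 (iv F2855)) (tt N262 F2035) (tt N372 F2036) (tt N372 F2037) (tt N515 (iv F2836)) (tt N372 F2038) (tt N372 F2039) (tt N372 F2040) (tt N520 D540) (tt N261 (iv D376)))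
theorem Q374 : ∀ i, i < 374 → P i := stepQ 373 Q373 (allL N373 (tt N373 F2041) (tt N520 (iv F2862)) (tt N263 F2042) (tt N373 F2043) (tt N516 (iv F2841)) (tt N521 D541) (tt N373 F2044) (tt N373 F2045) (tt N262 (iv D377)) (tt N373 F2046))
theorem Q375 : ∀ i, i < 375 → P i := stepQ 374 Q374 (allL N374 (tt N374 F2047) (tt N374 F2048) (tt N521 (iv F2869)) (tt N264 F2049) (tt N512 F130955) (tt N263 (iv D378)) (tt N511 (iv F131231)) (tt N374 F2050) (tt N374 F2051) (tt N374 F2052))
theorem Q376 : ∀ i, i < 376 → P i := stepQ 375 Q375 (allL N375 (tt N375 F2053) (tt N375 F2054) (tt N375 F2055) (tt N511 F131645) (tt N375 F2056) (tt N375 F2057) (tt N264 (iv D379)) (tt N513 (iv F132011)) (tt N375 F2058) (tt N375 F2059))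
theorem Q377 : ∀ i, i < 377 → P i := stepQ 376 Q376 (allL N376 (tt N376 F2060) (tt N267 F2061) (tt N376 F2062) (tt N376 F2063) (tt N376 F2064) (tt N522 D545) (tt N265 (iv D380)) (tt N376 F2065) (tt N523 D546) (tt N376 F2066))
theorem Q378 : ∀ i, i < 378 → P i := stepQ 377 Q377 (allL N377 (tt N377 F2067) (tt N268 F2068) (tt N377 F2069) (tt N377 F2070) (tt N377 F2071) (tt N328 (iv F20003)) (tt N523 (iv F2906)) (tt N266 F2072) (tt N265 (iv D381)) (tt N524 D548))
theorem Q379 : ∀ i, i < 379 → P i := stepQ 378 Q378 (allL N378 (tt N378 F2078) (tt N270 F2079) (tt N378 F2080) (tt N378 F2081) (tt N378 F2082) (tt N329 (iv F20086)) (tt N378 F2083) (tt N524 (iv F2919)) (tt N378 F2084) (tt N266 (iv D383)))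
theorem Q380 : ∀ i, i < 380 → P i := stepQ 379 Q379 (allL N379 (tt N288 F2085) (tt N522 (iv F2895)) (tt N271 F2086) (tt N379 F2087) (tt N525 D552) (tt N267 (iv D384)) (tt N379 F2088) (tt N379 F2089) (tt N526 D553) (tt N379 F2090))
theorem Q381 : ∀ i, i < 381 → P i := stepQ 380 Q380 (allL N380 (tt N289 F2091) (tt N523 (iv F2902)) (tt N272 F2092) (tt N380 F2093) (tt N380 F2094) (tt N527 D554) (tt N268 F2095) (tt N380 F2096) (tt N267 (iv D385)) (tt N528 D555))
theorem Q382 : ∀ i, i < 382 → P i := stepQ 381 Q381 (allL N381 (tt N290 F2097) (tt N328 (iv F20002)) (tt N273 F2098) (tt N381 F2099) (tt N301 (iv F20007)) (tt N268 (iv D386)) (tt N529 D557) (tt N269 F2100) (tt N381 F2101) (tt N530 D558))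
theorem Q383 : ∀ i, i < 383 → P i := stepQ 382 Q382 (allL N382 (tt N291 F2102) (tt N524 (iv F2915)) (tt N274 F2103) (tt N382 F2104) (tt N382 F2105) (tt N530 (iv F2971)) (tt N528 (iv F2956)) (tt N270 F2106) (tt N382 F2107) (tt N268 (iv D387)))
theorem Q384 : ∀ i, i < 384 → P i := stepQ 383 Q383 (allL N383 (tt N292 F2117) (tt N329 (iv F20085)) (tt N277 F2118) (tt N383 F2119) (tt N302 (iv F20067)) (tt N270 F2120) (tt N300 (iv F20065)) (tt N530 (iv F2972)) (tt N531 D564) (tt N269 (iv D390)))
theorem Q385 : ∀ i, i < 385 → P i := stepQ 384 Q384 (allL N384 (tt N293 F2121) (tt N384 F2122) (tt N525 (iv F2938)) (tt N384 F2123) (tt N271 (iv D391)) (tt N384 F2124) (tt N384 F2125) (tt N384 F2126) (tt N532 D565) (tt N384 F2127))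
theorem Q386 : ∀ i, i < 386 → P i := stepQ 385 Q385 (allL N385 (tt N294 F2128) (tt N385 F2129) (tt N526 (iv F2944)) (tt N278 F2130) (tt N532 (iv F3004)) (tt N533 D566) (tt N385 F2131) (tt N385 F2132) (tt N271 (iv D392)) (tt N534 D567))
theorem Q387 : ∀ i, i < 387 → P i := stepQ 386 Q386 (allL N386 (tt N295 F2133) (tt N386 F2134) (tt N527 (iv F2949)) (tt N279 F2135) (tt N535 D568) (tt N272 (iv D393)) (tt N536 D569) (tt N386 F2136) (tt N533 (iv F3011)) (tt N537 D570))
theorem Q388 : ∀ i, i < 388 → P i := stepQ 387 Q387 (allL N387 (tt N296 F2137) (tt N387 F2138) (tt N528 (iv F2953)) (tt N280 F2139) (tt N387 F2140) (tt N537 (iv F3029)) (tt N274 F2141) (tt N387 F2142) (tt N387 F2143) (tt N272 (iv D394)))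
theorem Q389 : ∀ i, i < 389 → P i := stepQ 388 Q388 (allL N388 (tt N297 F2144) (tt N388 F2145) (tt N301 (iv F20006)) (tt N388 F2146) (tt N273 (iv D395)) (tt N388 F2147) (tt N538 D571) (tt N275 F2148) (tt N388 F2149) (tt N539 D572))
theorem Q390 : ∀ i, i < 390 → P i := stepQ 389 Q389 (allL N389 (tt N298 F2150) (tt N389 F2151) (tt N529 (iv F2965)) (tt N281 F2152) (tt N538 (iv F3034)) (tt N536 (iv F3025)) (tt N273 (iv D396)) (tt N540 D573) (tt N389 F2153) (tt N541 D574))
theorem Q391 : ∀ i, i < 391 → P i := stepQ 390 Q390 (allL N390 (tt N299 F2154) (tt N390 F2155) (tt N530 (iv F2969)) (tt N282 F2156) (tt N539 (iv F3039)) (tt N274 F2157) (tt N541 (iv F3050)) (tt N277 F2158) (tt N542 D575) (tt N273 (iv D397)))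
theorem Q392 : ∀ i, i < 392 → P i := stepQ 391 Q391 (allL N391 (tt N300 F2164) (tt N391 F2165) (tt N302 (iv F20066)) (tt N391 F2166) (tt N277 F2167) (tt N391 F2168) (tt N292 (iv F20053)) (tt N539 (iv F3041)) (tt N543 D579) (tt N275 (iv D399)))
theorem Q393 : ∀ i, i < 393 → P i := stepQ 392 Q392 (allL N392 (tt N301 F2169) (tt N392 F2170) (tt N297 F20012) (tt N283 F2171) (tt N290 F20013) (tt N392 F2172) (tt N540 (iv F3045)) (tt N276 (iv D400)) (tt N392 F2173) (tt N544 D580))
theorem Q394 : ∀ i, i < 394 → P i := stepQ 393 Q393 (allL N393 (tt N302 F2174) (tt N393 F2175) (tt N300 (iv F20064)) (tt N284 F2176) (tt N292 (iv F20052)) (tt N393 F2177) (tt N277 F2178) (tt N544 (iv F3081)) (tt N545 D581) (tt N276 (iv D401)))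
theorem Q395 : ∀ i, i < 395 → P i := stepQ 394 Q394 (allL N394 (tt N303 F2179) (tt N394 F2180) (tt N531 (iv F2997)) (tt N285 F2181) (tt N543 (iv F3075)) (tt N394 F2182) (tt N545 (iv F3085)) (tt N542 (iv F3055)) (tt N277 (iv D402)) (tt N394 F2183))
theorem Q396 : ∀ i, i < 396 → P i := stepQ 395 Q395 (allL N395 (tt N304 F2184) (tt N395 F2185) (tt N395 F2186) (tt N533 (iv F3009)) (tt N546 D582) (tt N278 (iv D403)) (tt N547 D583) (tt N395 F2187) (tt N279 F2188) (tt N548 D584))
theorem Q397 : ∀ i, i < 397 → P i := stepQ 396 Q396 (allL N396 (tt N305 F2189) (tt N396 F2190) (tt N396 F2191) (tt N534 (iv F3014)) (tt N396 F2192) (tt N548 (iv F3101)) (tt N396 F2193) (tt N396 F2194) (tt N396 F2195) (tt N278 (iv D404)))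
theorem Q398 : ∀ i, i < 398 → P i := stepQ 397 Q397 (allL N397 (tt N306 F2196) (tt N397 F2197) (tt N397 F2198) (tt N549 D585) (tt N279 (iv D405)) (tt N286 F2199) (tt N550 D586) (tt N397 F2200) (tt N546 (iv F3092)) (tt N551 D587))
theorem Q399 : ∀ i, i < 399 → P i := stepQ 398 Q398 (allL N398 (tt N307 F2201) (tt N398 F2202) (tt N398 F2203) (tt N536 (iv F3024)) (tt N550 (iv F3110)) (tt N281 F2204) (tt N279 (iv D406)) (tt N552 D588) (tt N547 (iv F3097)) (tt N553 D589))
theorem Q400 : ∀ i, i < 400 → P i := stepQ 399 Q399 (allL N399 (tt N308 F2205) (tt N399 F2206) (tt N399 F2207) (tt N537 (iv F3028)) (tt N551 (iv F3115)) (tt N280 F2208) (tt N553 (iv F3127)) (tt N399 F2209) (tt N554 D590) (tt N279 (iv D407)))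
theorem Q401 : ∀ i, i < 401 → P i := stepQ 400 Q400 (allL N400 (tt N309 F2210) (tt N400 F2211) (tt N400 F2212) (tt N540 (iv F3044)) (tt N400 F2213) (tt N552 (iv F3121)) (tt N283 F2214) (tt N281 (iv D408)) (tt N400 F2215) (tt N555 D591))
theorem Q402 : ∀ i, i < 402 → P i := stepQ 401 Q401 (allL N401 (tt N310 F2216) (tt N401 F2217) (tt N401 F2218) (tt N541 (iv F3049)) (tt N401 F2219) (tt N553 (iv F3126)) (tt N282 F2220) (tt N555 (iv F3138)) (tt N556 D592) (tt N281 (iv D409)))
theorem Q403 : ∀ i, i < 403 → P i := stepQ 402 Q402 (allL N402 (tt N311 F2221) (tt N402 F2222) (tt N402 F2223) (tt N542 (iv F3053)) (tt N402 F2224) (tt N402 F2225) (tt N556 (iv F3143)) (tt N285 F2226) (tt N282 (iv D410)) (tt N402 F2227))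
theorem Q404 : ∀ i, i < 404 → P i := stepQ 403 Q403 (allL N403 (tt N312 F2228) (tt N403 F2229) (tt N403 F2230) (tt N544 (iv F3079)) (tt N403 F2231) (tt N403 F2232) (tt N555 (iv F3137)) (tt N284 F2233) (tt N557 D593) (tt N283 (iv D411)))
theorem Q405 : ∀ i, i < 405 → P i := stepQ 404 Q404 (allL N404 (tt N313 F2234) (tt N404 F2235) (tt N404 F2236) (tt N545 (iv F3084)) (tt N404 F2237) (tt N558 D594) (tt N285 F2238) (tt N557 (iv F3149)) (tt N284 (iv D412)) (tt N404 F2239))
theorem Q406 : ∀ i, i < 406 → P i := stepQ 405 Q405 (allL N405 (tt N314 F2240) (tt N405 F2241) (tt N559 D595) (tt N286 (iv D413)) (tt N405 F2242) (tt N549 (iv F3105)) (tt N405 F2243) (tt N405 F2244) (tt N405 F2245) (tt N560 D596))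
theorem Q407 : ∀ i, i < 407 → P i := stepQ 406 Q406 (allL N406 (tt N315 F2246) (tt N406 F2247) (tt N406 F2248) (tt N560 (iv F3165)) (tt N287 F2249) (tt N551 (iv F3116)) (tt N406 F2250) (tt N406 F2251) (tt N561 D597) (tt N286 (iv D414)))
theorem Q408 : ∀ i, i < 408 → P i := stepQ 407 Q407 (allL N407 (tt N316 F2252) (tt N407 F2253) (tt N407 F2254) (tt N407 F2255) (tt N561 (iv F3172)) (tt N407 F2256) (tt N407 F2257) (tt N407 F2258) (tt N287 (iv D415)) (tt N407 F2259))
theorem Q409 : ∀ i, i < 409 → P i := stepQ 408 Q408 (allL N408 (tt N525 (iv F2937)) (tt N408 F2260) (tt N293 F2261) (tt N562 D598) (tt N288 (iv D416)) (tt N408 F2262) (tt N408 F2263) (tt N408 F2264) (tt N563 D599) (tt N408 F2265))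
theorem Q410 : ∀ i, i < 410 → P i := stepQ 409 Q409 (allL N409 (tt N526 (iv F2943)) (tt N409 F2266) (tt N294 F2267) (tt N409 F2268) (tt N563 (iv F3185)) (tt N564 D600) (tt N409 F2269) (tt N409 F2270) (tt N288 (iv D417)) (tt N565 D601))
theorem Q411 : ∀ i, i < 411 → P i := stepQ 410 Q410 (allL N410 (tt N527 (iv F2948)) (tt N410 F2271) (tt N295 F2272) (tt N410 F2273) (tt N566 D602) (tt N289 (iv D418)) (tt N567 D603) (tt N410 F2274) (tt N564 (iv F3192)) (tt N568 D604))
theorem Q412 : ∀ i, i < 412 → P i := stepQ 411 Q411 (allL N411 (tt N528 (iv F2952)) (tt N411 F2275) (tt N296 F2276) (tt N411 F2277) (tt N411 F2278) (tt N568 (iv F3210)) (tt N291 F2279) (tt N411 F2280) (tt N411 F2281) (tt N289 (iv D419)))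
theorem Q413 : ∀ i, i < 413 → P i := stepQ 412 Q412 (allL N412 (tt N529 (iv F2964)) (tt N412 F2287) (tt N298 F2288) (tt N412 F2289) (tt N540 F20014) (tt N567 (iv F3206)) (tt N290 (iv D421)) (tt N538 F20015) (tt N412 F2290) (tt N569 D609))
theorem Q414 : ∀ i, i < 414 → P i := stepQ 413 Q413 (allL N413 (tt N530 (iv F2968)) (tt N413 F2291) (tt N299 F2292) (tt N413 F2293) (tt N544 (iv F20055)) (tt N291 F2294) (tt N569 (iv F3235)) (tt N292 F2295) (tt N570 D610) (tt N290 (iv D422)))
theorem Q415 : ∀ i, i < 415 → P i := stepQ 414 Q414 (allL N414 (tt N531 (iv F2996)) (tt N414 F2319) (tt N303 F2320) (tt N414 F2321) (tt N545 F20107) (tt N414 F2322) (tt N543 F20108) (tt N570 (iv F3240)) (tt N292 (iv D428)) (tt N414 F2323))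
theorem Q416 : ∀ i, i < 416 → P i := stepQ 415 Q415 (allL N415 (tt N532 (iv F3001)) (tt N317 F2324) (tt N563 (iv F3184)) (tt N415 F2325) (tt N294 F2326) (tt N571 D619) (tt N415 F2327) (tt N415 F2328) (tt N293 (iv D429)) (tt N572 D620))
theorem Q417 : ∀ i, i < 417 → P i := stepQ 416 Q416 (allL N416 (tt N533 (iv F3007)) (tt N318 F2329) (tt N564 (iv F3189)) (tt N304 F2330) (tt N573 D621) (tt N294 (iv D430)) (tt N574 D622) (tt N416 F2331) (tt N295 F2332) (tt N575 D623))
theorem Q418 : ∀ i, i < 418 → P i := stepQ 417 Q417 (allL N417 (tt N534 (iv F3012)) (tt N319 F2333) (tt N565 (iv F3194)) (tt N305 F2334) (tt N572 (iv F3284)) (tt N575 (iv F3297)) (tt N417 F2335) (tt N417 F2336) (tt N417 F2337) (tt N294 (iv D431)))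
theorem Q419 : ∀ i, i < 419 → P i := stepQ 418 Q418 (allL N418 (tt N535 (iv F3018)) (tt N320 F2338) (tt N566 (iv F3200)) (tt N576 D624) (tt N295 (iv D432)) (tt N418 F2339) (tt N577 D625) (tt N418 F2340) (tt N573 (iv F3290)) (tt N578 D626))
theorem Q420 : ∀ i, i < 420 → P i := stepQ 419 Q419 (allL N419 (tt N536 (iv F3022)) (tt N321 F2341) (tt N567 (iv F3204)) (tt N307 F2342) (tt N577 (iv F3304)) (tt N298 F2343) (tt N295 (iv D433)) (tt N579 D627) (tt N574 (iv F3294)) (tt N580 D628))
theorem Q421 : ∀ i, i < 421 → P i := stepQ 420 Q420 (allL N420 (tt N537 (iv F3026)) (tt N322 F2344) (tt N568 (iv F3208)) (tt N308 F2345) (tt N578 (iv F3306)) (tt N296 F2346) (tt N580 (iv F3316)) (tt N420 F2347) (tt N581 D629) (tt N295 (iv D434)))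
theorem Q422 : ∀ i, i < 422 → P i := stepQ 421 Q421 (allL N421 (tt N538 (iv F3031)) (tt N323 F2348) (tt N540 F20024) (tt N421 F2349) (tt N298 F2350) (tt N582 D630) (tt N297 (iv D435)) (tt N529 F20025) (tt N421 F2351) (tt N583 D632))
theorem Q423 : ∀ i, i < 423 → P i := stepQ 422 Q422 (allL N422 (tt N539 (iv F3036)) (tt N324 F2352) (tt N544 (iv F20054)) (tt N422 F2353) (tt N299 F2354) (tt N422 F2355) (tt N583 (iv F3332)) (tt N300 F2356) (tt N584 D633) (tt N297 (iv D436)))
theorem Q424 : ∀ i, i < 424 → P i := stepQ 423 Q423 (allL N423 (tt N540 (iv F3042)) (tt N325 F2357) (tt N538 F20026) (tt N309 F2358) (tt N529 F20027) (tt N579 (iv F3311)) (tt N301 F2359) (tt N298 (iv D437)) (tt N423 F2360) (tt N585 D634))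
theorem Q425 : ∀ i, i < 425 → P i := stepQ 424 Q424 (allL N424 (tt N541 (iv F3047)) (tt N326 F2361) (tt N569 (iv F3233)) (tt N310 F2362) (tt N583 (iv F3331)) (tt N580 (iv F3315)) (tt N299 F2363) (tt N585 (iv F3341)) (tt N586 D635) (tt N298 (iv D438)))
theorem Q426 : ∀ i, i < 426 → P i := stepQ 425 Q425 (allL N425 (tt N542 (iv F3051)) (tt N327 F2364) (tt N570 (iv F3237)) (tt N311 F2365) (tt N584 (iv F3335)) (tt N425 F2366) (tt N586 (iv F3344)) (tt N303 F2367) (tt N299 (iv D439)) (tt N425 F2368))
theorem Q427 : ∀ i, i < 427 → P i := stepQ 426 Q426 (allL N426 (tt N543 (iv F3072)) (tt N330 F2381) (tt N545 F20120) (tt N426 F2382) (tt N303 F2383) (tt N587 D641) (tt N531 F20121) (tt N584 (iv F3336)) (tt N300 (iv D443)) (tt N426 F2384))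
theorem Q428 : ∀ i, i < 428 → P i := stepQ 427 Q427 (allL N427 (tt N544 (iv F3077)) (tt N331 F2385) (tt N539 F20045) (tt N312 F2386) (tt N530 F20046) (tt N427 F2387) (tt N585 (iv F3340)) (tt N302 F2388) (tt N588 D642) (tt N301 (iv D444)))
theorem Q429 : ∀ i, i < 429 → P i := stepQ 428 Q428 (allL N428 (tt N545 (iv F3082)) (tt N332 F2389) (tt N543 F20122) (tt N313 F2390) (tt N531 F20123) (tt N589 D643) (tt N303 F2391) (tt N588 (iv F3376)) (tt N302 (iv D445)) (tt N428 F2392))
theorem Q430 : ∀ i, i < 430 → P i := stepQ 429 Q429 (allL N429 (tt N546 (iv F3087)) (tt N333 F2393) (tt N429 F2394) (tt N590 D644) (tt N304 (iv D446)) (tt N429 F2395) (tt N591 D645) (tt N429 F2396) (tt N306 F2397) (tt N592 D646))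
theorem Q431 : ∀ i, i < 431 → P i := stepQ 430 Q430 (allL N430 (tt N547 (iv F3093)) (tt N334 F2398) (tt N430 F2399) (tt N574 (iv F3292)) (tt N591 (iv F3389)) (tt N430 F2400) (tt N304 (iv D447)) (tt N593 D647) (tt N307 F2401) (tt N594 D648))
theorem Q432 : ∀ i, i < 432 → P i := stepQ 431 Q431 (allL N431 (tt N548 (iv F3098)) (tt N335 F2402) (tt N431 F2403) (tt N575 (iv F3296)) (tt N592 (iv F3393)) (tt N305 F2404) (tt N594 (iv F3404)) (tt N431 F2405) (tt N595 D649) (tt N304 (iv D448)))
theorem Q433 : ∀ i, i < 433 → P i := stepQ 432 Q432 (allL N432 (tt N549 (iv F3103)) (tt N336 F2406) (tt N596 D650) (tt N306 (iv D449)) (tt N576 (iv F3300)) (tt N314 F2407) (tt N597 D651) (tt N432 F2408) (tt N590 (iv F3386)) (tt N598 D652))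
theorem Q434 : ∀ i, i < 434 → P i := stepQ 433 Q433 (allL N433 (tt N550 (iv F3107)) (tt N337 F2409) (tt N433 F2410) (tt N597 (iv F3414)) (tt N307 F2411) (tt N433 F2412) (tt N306 (iv D450)) (tt N599 D653) (tt N591 (iv F3390)) (tt N600 D654))
theorem Q435 : ∀ i, i < 435 → P i := stepQ 434 Q434 (allL N434 (tt N551 (iv F3112)) (tt N338 F2413) (tt N434 F2414) (tt N598 (iv F3417)) (tt N308 F2415) (tt N315 F2416) (tt N600 (iv F3429)) (tt N434 F2417) (tt N601 D655) (tt N306 (iv D451)))
theorem Q436 : ∀ i, i < 436 → P i := stepQ 435 Q435 (allL N435 (tt N552 (iv F3118)) (tt N339 F2418) (tt N435 F2419) (tt N579 (iv F3310)) (tt N599 (iv F3422)) (tt N309 F2420) (tt N435 F2421) (tt N307 (iv D452)) (tt N593 (iv F3400)) (tt N602 D656))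
theorem Q437 : ∀ i, i < 437 → P i := stepQ 436 Q436 (allL N436 (tt N553 (iv F3123)) (tt N340 F2422) (tt N436 F2423) (tt N580 (iv F3314)) (tt N600 (iv F3427)) (tt N310 F2424) (tt N308 F2425) (tt N602 (iv F3438)) (tt N603 D657) (tt N307 (iv D453)))
theorem Q438 : ∀ i, i < 438 → P i := stepQ 437 Q437 (allL N437 (tt N554 (iv F3128)) (tt N341 F2426) (tt N437 F2427) (tt N581 (iv F3318)) (tt N601 (iv F3432)) (tt N437 F2428) (tt N603 (iv F3441)) (tt N437 F2429) (tt N308 (iv D454)) (tt N595 (iv F3409)))
theorem Q439 : ∀ i, i < 439 → P i := stepQ 438 Q438 (allL N438 (tt N555 (iv F3133)) (tt N342 F2430) (tt N438 F2431) (tt N585 (iv F3339)) (tt N438 F2432) (tt N602 (iv F3436)) (tt N312 F2433) (tt N310 F2434) (tt N604 D658) (tt N309 (iv D455)))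
theorem Q440 : ∀ i, i < 440 → P i := stepQ 439 Q439 (allL N439 (tt N556 (iv F3139)) (tt N343 F2435) (tt N439 F2436) (tt N586 (iv F3343)) (tt N439 F2437) (tt N605 D659) (tt N311 F2438) (tt N604 (iv F3446)) (tt N310 (iv D456)) (tt N439 F2439))
theorem Q441 : ∀ i, i < 441 → P i := stepQ 440 Q440 (allL N440 (tt N557 (iv F3145)) (tt N344 F2440) (tt N440 F2441) (tt N588 (iv F3375)) (tt N440 F2442) (tt N606 D660) (tt N604 (iv F3445)) (tt N313 F2443) (tt N312 (iv D457)) (tt N440 F2444))
theorem Q442 : ∀ i, i < 442 → P i := stepQ 441 Q441 (allL N441 (tt N558 (iv F3151)) (tt N345 F2445) (tt N441 F2446) (tt N589 (iv F3379)) (tt N607 D661) (tt N313 (iv D458)) (tt N441 F2447) (tt N606 (iv F3454)) (tt N441 F2448) (tt N441 F2449))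
theorem Q443 : ∀ i, i < 443 → P i := stepQ 442 Q442 (allL N442 (tt N559 (iv F3157)) (tt N608 D662) (tt N314 (iv D459)) (tt N442 F2450) (tt N442 F2451) (tt N596 (iv F3411)) (tt N442 F2452) (tt N442 F2453) (tt N442 F2454) (tt N609 D663))
theorem Q444 : ∀ i, i < 444 → P i := stepQ 443 Q443 (allL N443 (tt N560 (iv F3163)) (tt N347 F2455) (tt N609 (iv F3469)) (tt N315 F2456) (tt N443 F2457) (tt N598 (iv F3418)) (tt N443 F2458) (tt N443 F2459) (tt N610 D664) (tt N314 (iv D460)))
theorem Q445 : ∀ i, i < 445 → P i := stepQ 444 Q444 (allL N444 (tt N561 (iv F3169)) (tt N348 F2460) (tt N444 F2461) (tt N610 (iv F3475)) (tt N316 F2462) (tt N611 D665) (tt N444 F2463) (tt N444 F2464) (tt N315 (iv D461)) (tt N444 F2465))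
theorem Q446 : ∀ i, i < 446 → P i := stepQ 445 Q445 (allL N445 (tt N445 F2466) (tt N571 (iv F3278)) (tt N445 F2467) (tt N445 F2468) (tt N612 D666) (tt N317 (iv D462)) (tt N613 D667) (tt N445 F2469) (tt N445 F2470) (tt N614 D668))
theorem Q447 : ∀ i, i < 447 → P i := stepQ 446 Q446 (allL N446 (tt N446 F2471) (tt N572 (iv F3282)) (tt N446 F2472) (tt N446 F2473) (tt N319 F2474) (tt N614 (iv F3498)) (tt N446 F2475) (tt N446 F2476) (tt N446 F2477) (tt N317 (iv D463)))
theorem Q448 : ∀ i, i < 448 → P i := stepQ 447 Q447 (allL N447 (tt N447 F2478) (tt N573 (iv F3288)) (tt N447 F2479) (tt N615 D669) (tt N318 (iv D464)) (tt N612 (iv F3487)) (tt N616 D670) (tt N447 F2480) (tt N320 F2481) (tt N617 D671))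
theorem Q449 : ∀ i, i < 449 → P i := stepQ 448 Q448 (allL N448 (tt N448 F2482) (tt N574 (iv F3291)) (tt N448 F2483) (tt N334 F2484) (tt N616 (iv F3506)) (tt N448 F2485) (tt N318 (iv D465)) (tt N618 D672) (tt N321 F2486) (tt N619 D673))
theorem Q450 : ∀ i, i < 450 → P i := stepQ 449 Q449 (allL N449 (tt N449 F2487) (tt N575 (iv F3295)) (tt N449 F2488) (tt N335 F2489) (tt N617 (iv F3510)) (tt N319 F2490) (tt N619 (iv F3522)) (tt N449 F2491) (tt N620 D674) (tt N318 (iv D466)))
theorem Q451 : ∀ i, i < 451 → P i := stepQ 450 Q450 (allL N450 (tt N450 F2492) (tt N576 (iv F3299)) (tt N621 D675) (tt N320 (iv D467)) (tt N336 F2493) (tt N450 F2494) (tt N622 D676) (tt N450 F2495) (tt N615 (iv F3503)) (tt N623 D677))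
theorem Q452 : ∀ i, i < 452 → P i := stepQ 451 Q451 (allL N451 (tt N451 F2496) (tt N577 (iv F3303)) (tt N451 F2497) (tt N622 (iv F3535)) (tt N321 F2498) (tt N624 D678) (tt N320 (iv D468)) (tt N625 D679) (tt N616 (iv F3507)) (tt N626 D680))
theorem Q453 : ∀ i, i < 453 → P i := stepQ 452 Q452 (allL N452 (tt N452 F2499) (tt N578 (iv F3305)) (tt N452 F2500) (tt N623 (iv F3538)) (tt N322 F2501) (tt N452 F2502) (tt N626 (iv F3553)) (tt N452 F2503) (tt N627 D681) (tt N320 (iv D469)))
theorem Q454 : ∀ i, i < 454 → P i := stepQ 453 Q453 (allL N453 (tt N453 F2504) (tt N579 (iv F3309)) (tt N453 F2505) (tt N339 F2506) (tt N625 (iv F3548)) (tt N325 F2507) (tt N453 F2508) (tt N321 (iv D470)) (tt N618 (iv F3517)) (tt N628 D682))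
theorem Q455 : ∀ i, i < 455 → P i := stepQ 454 Q454 (allL N454 (tt N454 F2509) (tt N580 (iv F3313)) (tt N454 F2510) (tt N340 F2511) (tt N626 (iv F3552)) (tt N326 F2512) (tt N322 F2513) (tt N628 (iv F3563)) (tt N629 D683) (tt N321 (iv D471)))
theorem Q456 : ∀ i, i < 456 → P i := stepQ 455 Q455 (allL N455 (tt N455 F2514) (tt N581 (iv F3317)) (tt N455 F2515) (tt N341 F2516) (tt N627 (iv F3556)) (tt N455 F2517) (tt N629 (iv F3567)) (tt N455 F2518) (tt N322 (iv D472)) (tt N620 (iv F3528)))
theorem Q457 : ∀ i, i < 457 → P i := stepQ 456 Q456 (allL N456 (tt N456 F2519) (tt N582 (iv F3321)) (tt N456 F2520) (tt N456 F2521) (tt N624 (iv F3544)) (tt N323 (iv D473)) (tt N456 F2522) (tt N630 D684) (tt N631 D685) (tt N632 D686))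
theorem Q458 : ∀ i, i < 458 → P i := stepQ 457 Q457 (allL N457 (tt N457 F2523) (tt N529 F20036) (tt N457 F2524) (tt N457 F2525) (tt N325 F2526) (tt N630 (iv F3571)) (tt N328 F2527) (tt N323 (iv D474)) (tt N457 F2528) (tt N633 D687))
theorem Q459 : ∀ i, i < 459 → P i := stepQ 458 Q458 (allL N458 (tt N458 F2529) (tt N583 (iv F3329)) (tt N458 F2530) (tt N458 F2531) (tt N326 F2532) (tt N632 (iv F3580)) (tt N324 F2533) (tt N633 (iv F3587)) (tt N634 D688) (tt N323 (iv D475)))
theorem Q460 : ∀ i, i < 460 → P i := stepQ 459 Q459 (allL N459 (tt N459 F2534) (tt N584 (iv F3333)) (tt N459 F2535) (tt N459 F2536) (tt N327 F2537) (tt N635 D689) (tt N634 (iv F3592)) (tt N330 F2538) (tt N324 (iv D476)) (tt N459 F2539))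
theorem Q461 : ∀ i, i < 461 → P i := stepQ 460 Q460 (allL N460 (tt N460 F2540) (tt N585 (iv F3338)) (tt N460 F2541) (tt N342 F2542) (tt N633 (iv F3585)) (tt N628 (iv F3561)) (tt N331 F2543) (tt N326 F2544) (tt N636 D690) (tt N325 (iv D477)))
theorem Q462 : ∀ i, i < 462 → P i := stepQ 461 Q461 (allL N461 (tt N461 F2545) (tt N586 (iv F3342)) (tt N461 F2546) (tt N343 F2547) (tt N634 (iv F3591)) (tt N637 D691) (tt N327 F2548) (tt N636 (iv F3605)) (tt N326 (iv D478)) (tt N461 F2549))
theorem Q463 : ∀ i, i < 463 → P i := stepQ 462 Q462 (allL N462 (tt N462 F2567) (tt N530 F20037) (tt N462 F2568) (tt N462 F2569) (tt N331 F2570) (tt N524 F20038) (tt N633 (iv F3586)) (tt N329 F2571) (tt N638 D697) (tt N328 (iv D482)))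
theorem Q464 : ∀ i, i < 464 → P i := stepQ 463 Q463 (allL N463 (tt N463 F2572) (tt N531 F20168) (tt N463 F2573) (tt N463 F2574) (tt N332 F2575) (tt N463 F20256) (tt N330 F2576) (tt N638 (iv F3644)) (tt N329 (iv D483)) (tt N463 F2577))
theorem Q465 : ∀ i, i < 465 → P i := stepQ 464 Q464 (allL N464 (tt N464 F2578) (tt N587 (iv F3369)) (tt N464 F2579) (tt N464 F2580) (tt N464 F2581) (tt N330 (iv D484)) (tt N464 F20306) (tt N635 (iv F3598)) (tt N464 F2582) (tt N464 F2583))
theorem Q466 : ∀ i, i < 466 → P i := stepQ 465 Q465 (allL N465 (tt N465 F2584) (tt N588 (iv F3374)) (tt N465 F2585) (tt N344 F2586) (tt N638 (iv F3643)) (tt N639 D700) (tt N636 (iv F3604)) (tt N332 F2587) (tt N331 (iv D485)) (tt N465 F2588))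
theorem Q467 : ∀ i, i < 467 → P i := stepQ 466 Q466 (allL N466 (tt N466 F2589) (tt N589 (iv F3378)) (tt N466 F2590) (tt N345 F2591) (tt N466 F20307) (tt N332 (iv D486)) (tt N466 F2592) (tt N639 (iv F3659)) (tt N466 F2593) (tt N466 F2594))
theorem Q468 : ∀ i, i < 468 → P i := stepQ 467 Q467 (allL N467 (tt N467 F2595) (tt N590 (iv F3383)) (tt N640 D702) (tt N333 (iv D487)) (tt N615 (iv F3501)) (tt N467 F2596) (tt N641 D703) (tt N467 F2597) (tt N336 F2598) (tt N642 D704))
theorem Q469 : ∀ i, i < 469 → P i := stepQ 468 Q468 (allL N468 (tt N468 F2599) (tt N591 (iv F3387)) (tt N350 F2600) (tt N641 (iv F3673)) (tt N334 F2601) (tt N643 D705) (tt N333 (iv D488)) (tt N644 D706) (tt N337 F2602) (tt N645 D707))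
theorem Q470 : ∀ i, i < 470 → P i := stepQ 469 Q469 (allL N469 (tt N469 F2603) (tt N592 (iv F3391)) (tt N351 F2604) (tt N642 (iv F3676)) (tt N335 F2605) (tt N469 F2606) (tt N645 (iv F3692)) (tt N469 F2607) (tt N646 D708) (tt N333 (iv D489)))
theorem Q471 : ∀ i, i < 471 → P i := stepQ 470 Q470 (allL N470 (tt N470 F2608) (tt N593 (iv F3396)) (tt N352 F2609) (tt N618 (iv F3514)) (tt N644 (iv F3686)) (tt N470 F2610) (tt N470 F2611) (tt N334 (iv D490)) (tt N339 F2612) (tt N647 D709))
theorem Q472 : ∀ i, i < 472 → P i := stepQ 471 Q471 (allL N471 (tt N471 F2613) (tt N594 (iv F3401)) (tt N353 F2614) (tt N619 (iv F3520)) (tt N645 (iv F3691)) (tt N471 F2615) (tt N335 F2616) (tt N647 (iv F3702)) (tt N648 D710) (tt N334 (iv D491)))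
theorem Q473 : ∀ i, i < 473 → P i := stepQ 472 Q472 (allL N472 (tt N472 F2617) (tt N595 (iv F3405)) (tt N354 F2618) (tt N620 (iv F3525)) (tt N646 (iv F3695)) (tt N472 F2619) (tt N648 (iv F3705)) (tt N472 F2620) (tt N335 (iv D492)) (tt N341 F2621))
theorem Q474 : ∀ i, i < 474 → P i := stepQ 473 Q473 (allL N473 (tt N473 F2622) (tt N649 D711) (tt N336 (iv D493)) (tt N355 F2623) (tt N621 (iv F3531)) (tt N346 F2624) (tt N650 D712) (tt N473 F2625) (tt N640 (iv F3671)) (tt N651 D713))
theorem Q475 : ∀ i, i < 475 → P i := stepQ 474 Q474 (allL N474 (tt N474 F2626) (tt N597 (iv F3413)) (tt N650 (iv F3711)) (tt N337 F2627) (tt N622 (iv F3536)) (tt N474 F2628) (tt N336 (iv D494)) (tt N652 D714) (tt N641 (iv F3674)) (tt N653 D715))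
theorem Q476 : ∀ i, i < 476 → P i := stepQ 475 Q475 (allL N475 (tt N475 F2629) (tt N598 (iv F3416)) (tt N651 (iv F3715)) (tt N338 F2630) (tt N623 (iv F3539)) (tt N347 F2631) (tt N653 (iv F3726)) (tt N475 F2632) (tt N654 D716) (tt N336 (iv D495)))
theorem Q477 : ∀ i, i < 477 → P i := stepQ 476 Q476 (allL N476 (tt N476 F2633) (tt N599 (iv F3420)) (tt N358 F2634) (tt N652 (iv F3720)) (tt N339 F2635) (tt N476 F2636) (tt N476 F2637) (tt N337 (iv D496)) (tt N644 (iv F3688)) (tt N655 D717))
theorem Q478 : ∀ i, i < 478 → P i := stepQ 477 Q477 (allL N477 (tt N477 F2638) (tt N600 (iv F3425)) (tt N359 F2639) (tt N653 (iv F3724)) (tt N340 F2640) (tt N477 F2641) (tt N338 F2642) (tt N655 (iv F3735)) (tt N656 D718) (tt N337 (iv D497)))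
theorem Q479 : ∀ i, i < 479 → P i := stepQ 478 Q478 (allL N478 (tt N478 F2643) (tt N601 (iv F3430)) (tt N360 F2644) (tt N654 (iv F3728)) (tt N341 F2645) (tt N657 D719) (tt N656 (iv F3739)) (tt N478 F2646) (tt N338 (iv D498)) (tt N646 (iv F3697)))
theorem Q480 : ∀ i, i < 480 → P i := stepQ 479 Q479 (allL N479 (tt N479 F2647) (tt N602 (iv F3434)) (tt N361 F2648) (tt N628 (iv F3560)) (tt N655 (iv F3732)) (tt N342 F2649) (tt N479 F2650) (tt N340 F2651) (tt N658 D720) (tt N339 (iv D499)))
theorem Q481 : ∀ i, i < 481 → P i := stepQ 480 Q480 (allL N480 (tt N480 F2652) (tt N603 (iv F3439)) (tt N362 F2653) (tt N629 (iv F3566)) (tt N656 (iv F3738)) (tt N659 D721) (tt N341 F2654) (tt N658 (iv F3748)) (tt N340 (iv D500)) (tt N648 (iv F3706)))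
theorem Q482 : ∀ i, i < 482 → P i := stepQ 481 Q481 (allL N481 (tt N481 F2655) (tt N604 (iv F3442)) (tt N363 F2656) (tt N636 (iv F3603)) (tt N481 F2657) (tt N660 D722) (tt N344 F2658) (tt N343 F2659) (tt N342 (iv D501)) (tt N481 F2660))
theorem Q483 : ∀ i, i < 483 → P i := stepQ 482 Q482 (allL N482 (tt N482 F2661) (tt N605 (iv F3448)) (tt N364 F2662) (tt N637 (iv F3609)) (tt N661 D723) (tt N343 (iv D502)) (tt N482 F2663) (tt N660 (iv F3755)) (tt N659 (iv F3752)) (tt N482 F2664))
theorem Q484 : ∀ i, i < 484 → P i := stepQ 483 Q483 (allL N483 (tt N483 F2665) (tt N606 (iv F3452)) (tt N365 F2666) (tt N639 (iv F3658)) (tt N662 D724) (tt N344 (iv D503)) (tt N663 D725) (tt N345 F2667) (tt N483 F2668) (tt N483 F2669))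
theorem Q485 : ∀ i, i < 485 → P i := stepQ 484 Q484 (allL N484 (tt N484 F2670) (tt N607 (iv F3457)) (tt N366 F2671) (tt N484 F20311) (tt N345 (iv D504)) (tt N484 F2672) (tt N484 F2673) (tt N662 (iv F3765)) (tt N484 F2674) (tt N484 F2675))
theorem Q486 : ∀ i, i < 486 → P i := stepQ 485 Q485 (allL N485 (tt N664 D727) (tt N346 (iv D505)) (tt N608 (iv F3463)) (tt N367 F2676) (tt N485 F2677) (tt N649 (iv F3708)) (tt N485 F2678) (tt N485 F2679) (tt N485 F2680) (tt N665 D728))
theorem Q487 : ∀ i, i < 487 → P i := stepQ 486 Q486 (allL N486 (tt N486 F2681) (tt N665 (iv F3784)) (tt N347 F2682) (tt N368 F2683) (tt N486 F2684) (tt N651 (iv F3717)) (tt N486 F2685) (tt N486 F2686) (tt N666 D729) (tt N346 (iv D506)))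
theorem Q488 : ∀ i, i < 488 → P i := stepQ 487 Q487 (allL N487 (tt N487 F2687) (tt N610 (iv F3474)) (tt N666 (iv F3790)) (tt N348 F2688) (tt N487 F2689) (tt N667 D730) (tt N487 F2690) (tt N487 F2691) (tt N347 (iv D507)) (tt N487 F2692))
theorem Q489 : ∀ i, i < 489 → P i := stepQ 488 Q488 (allL N488 (tt N488 F2693) (tt N611 (iv F3480)) (tt N370 F2694) (tt N667 (iv F3797)) (tt N488 F2695) (tt N348 (iv D508)) (tt N668 D731) (tt N488 F2696) (tt N657 (iv F3744)) (tt N488 F2697))
theorem Q490 : ∀ i, i < 490 → P i := stepQ 489 Q489 (allL N489 (tt N489 F2698) (tt N669 D732) (tt N349 (iv D509)) (tt N640 (iv F3668)) (tt N489 F2699) (tt N489 F2700) (tt N670 D733) (tt N489 F2701) (tt N355 F2702) (tt N671 D734))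
theorem Q491 : ∀ i, i < 491 → P i := stepQ 490 Q490 (allL N490 (tt N490 F2703) (tt N490 F2704) (tt N670 (iv F3811)) (tt N350 F2705) (tt N490 F2706) (tt N672 D735) (tt N349 (iv D510)) (tt N673 D736) (tt N356 F2707) (tt N674 D737))
theorem Q492 : ∀ i, i < 492 → P i := stepQ 491 Q491 (allL N491 (tt N491 F2708) (tt N491 F2709) (tt N671 (iv F3815)) (tt N351 F2710) (tt N491 F2711) (tt N491 F2712) (tt N674 (iv F3834)) (tt N491 F2713) (tt N675 D738) (tt N349 (iv D511)))
theorem Q493 : ∀ i, i < 493 → P i := stepQ 492 Q492 (allL N492 (tt N492 F2714) (tt N492 F2715) (tt N643 (iv F3680)) (tt N672 (iv F3821)) (tt N492 F2716) (tt N350 (iv D512)) (tt N492 F2717) (tt N676 D739) (tt N492 F2718) (tt N677 D740))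
theorem Q494 : ∀ i, i < 494 → P i := stepQ 493 Q493 (allL N493 (tt N493 F2719) (tt N493 F2720) (tt N644 (iv F3685)) (tt N673 (iv F3826)) (tt N352 F2721) (tt N676 (iv F3844)) (tt N493 F2722) (tt N350 (iv D513)) (tt N358 F2723) (tt N678 D741))
theorem Q495 : ∀ i, i < 495 → P i := stepQ 494 Q494 (allL N494 (tt N494 F2724) (tt N494 F2725) (tt N645 (iv F3690)) (tt N674 (iv F3832)) (tt N353 F2726) (tt N677 (iv F3849)) (tt N351 F2727) (tt N678 (iv F3855)) (tt N679 D742) (tt N350 (iv D514)))
theorem Q496 : ∀ i, i < 496 → P i := stepQ 495 Q495 (allL N495 (tt N495 F2728) (tt N495 F2729) (tt N646 (iv F3694)) (tt N675 (iv F3837)) (tt N354 F2730) (tt N680 D743) (tt N679 (iv F3859)) (tt N495 F2731) (tt N351 (iv D515)) (tt N360 F2732))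
theorem Q497 : ∀ i, i < 497 → P i := stepQ 496 Q496 (allL N496 (tt N496 F2733) (tt N496 F2734) (tt N647 (iv F3699)) (tt N496 F2735) (tt N678 (iv F3853)) (tt N496 F2736) (tt N496 F2737) (tt N353 F2738) (tt N681 D744) (tt N352 (iv D516)))
theorem Q498 : ∀ i, i < 498 → P i := stepQ 497 Q497 (allL N497 (tt N497 F2739) (tt N497 F2740) (tt N648 (iv F3704)) (tt N497 F2741) (tt N679 (iv F3858)) (tt N682 D745) (tt N354 F2742) (tt N681 (iv F3871)) (tt N353 (iv D517)) (tt N362 F2743))
theorem Q499 : ∀ i, i < 499 → P i := stepQ 498 Q498 (allL N498 (tt N683 D746) (tt N355 (iv D518)) (tt N498 F2744) (tt N649 (iv F3707)) (tt N498 F2745) (tt N367 F2746) (tt N684 D747) (tt N498 F2747) (tt N669 (iv F3809)) (tt N685 D748))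
theorem Q500 : ∀ i, i < 500 → P i := stepQ 499 Q499 (allL N499 (tt N499 F2748) (tt N684 (iv F3884)) (tt N356 F2749) (tt N650 (iv F3712)) (tt N499 F2750) (tt N499 F2751) (tt N355 (iv D519)) (tt N686 D749) (tt N670 (iv F3813)) (tt N687 D750))
theorem Q501 : ∀ i, i < 501 → P i := stepQ 500 Q500 (allL N500 (tt N500 F2752) (tt N685 (iv F3888)) (tt N357 F2753) (tt N651 (iv F3716)) (tt N500 F2754) (tt N368 F2755) (tt N687 (iv F3902)) (tt N500 F2756) (tt N688 D751) (tt N355 (iv D520)))
theorem Q502 : ∀ i, i < 502 → P i := stepQ 501 Q501 (allL N501 (tt N501 F2757) (tt N501 F2758) (tt N686 (iv F3894)) (tt N358 F2759) (tt N501 F2760) (tt N501 F2761) (tt N501 F2762) (tt N356 (iv D521)) (tt N673 (iv F3829)) (tt N689 D752))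
theorem Q503 : ∀ i, i < 503 → P i := stepQ 502 Q502 (allL N502 (tt N502 F2763) (tt N502 F2764) (tt N687 (iv F3899)) (tt N359 F2765) (tt N502 F2766) (tt N502 F2767) (tt N357 F2768) (tt N689 (iv F3913)) (tt N690 D753) (tt N356 (iv D522)))
theorem Q504 : ∀ i, i < 504 → P i := stepQ 503 Q503 (allL N503 (tt N503 F2769) (tt N503 F2770) (tt N688 (iv F3904)) (tt N360 F2771) (tt N503 F2772) (tt N691 D754) (tt N690 (iv F3918)) (tt N503 F2773) (tt N357 (iv D523)) (tt N675 (iv F3840)))
theorem Q505 : ∀ i, i < 505 → P i := stepQ 504 Q504 (allL N504 (tt N504 F2774) (tt N504 F2775) (tt N655 (iv F3731)) (tt N689 (iv F3909)) (tt N361 F2776) (tt N504 F2777) (tt N504 F2778) (tt N359 F2779) (tt N692 D755) (tt N358 (iv D524)))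
theorem Q506 : ∀ i, i < 506 → P i := stepQ 505 Q505 (allL N505 (tt N505 F2780) (tt N505 F2781) (tt N656 (iv F3737)) (tt N690 (iv F3916)) (tt N362 F2782) (tt N693 D756) (tt N360 F2783) (tt N692 (iv F3928)) (tt N359 (iv D525)) (tt N679 (iv F3860)))
theorem Q507 : ∀ i, i < 507 → P i := stepQ 506 Q506 (allL N506 (tt N506 F2784) (tt N506 F2785) (tt N657 (iv F3741)) (tt N691 (iv F3921)) (tt N506 F2786) (tt N360 (iv D526)) (tt N694 D757) (tt N506 F2787) (tt N370 F2788) (tt N680 (iv F3866)))
theorem Q508 : ∀ i, i < 508 → P i := stepQ 507 Q507 (allL N507 (tt N507 F2789) (tt N507 F2790) (tt N658 (iv F3746)) (tt N507 F2791) (tt N692 (iv F3926)) (tt N695 D758) (tt N507 F2792) (tt N362 F2793) (tt N361 (iv D527)) (tt N681 (iv F3872)))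
theorem Q509 : ∀ i, i < 509 → P i := stepQ 508 Q508 (allL N508 (tt N508 F2794) (tt N508 F2795) (tt N659 (iv F3750)) (tt N508 F2796) (tt N696 D759) (tt N362 (iv D528)) (tt N508 F2797) (tt N695 (iv F3939)) (tt N364 F2798) (tt N682 (iv F3878)))
theorem Q510 : ∀ i, i < 510 → P i := stepQ 509 Q509 (allL N509 (tt N509 F2799) (tt N509 F2800) (tt N660 (iv F3754)) (tt N509 F2801) (tt N697 D760) (tt N363 (iv D529)) (tt N698 D761) (tt N364 F2802) (tt N695 (iv F3940)) (tt N509 F2803))
theorem Q511 : ∀ i, i < 511 → P i := stepQ 510 Q510 (allL N510 (tt N510 F2804) (tt N510 F2805) (tt N661 (iv F3758)) (tt N699 D762) (tt N364 (iv D530)) (tt N510 F2806) (tt N510 F2807) (tt N697 (iv F3948)) (tt N696 (iv F3944)) (tt N510 F2808))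
theorem Q512 : ∀ i, i < 512 → P i := stepQ 511 Q511 (allL N511 (tt N511 F2809) (tt N511 F2810) (tt N662 (iv F3763)) (tt N375 (iv F131645)) (tt N365 (iv D531)) (tt N511 F2811) (tt N374 F131231) (tt N366 F2812) (tt N511 F2813) (tt N511 F2814))
theorem Q513 : ∀ i, i < 513 → P i := stepQ 512 Q512 (allL N512 (tt N512 F2815) (tt N512 F2816) (tt N663 (iv F3769)) (tt N512 F2817) (tt N374 (iv F130955)) (tt N698 (iv F3953)) (tt N365 (iv D532)) (tt N512 F2818) (tt N512 F2819) (tt N512 F2820))
theorem Q514 : ∀ i, i < 514 → P i := stepQ 513 Q513 (allL N513 (tt N513 F2821) (tt N513 F2822) (tt N513 F20333) (tt N366 (iv D533)) (tt N513 F2823) (tt N513 F2824) (tt N513 F2825) (tt N375 F132011) (tt N513 F2826) (tt N513 F2827))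
theorem Q515 : ∀ i, i < 515 → P i := stepQ 514 Q514 (allL N514 (tt N367 (iv D534)) (tt N514 F2828) (tt N514 F2829) (tt N664 (iv F3779)) (tt N371 F2830) (tt N683 (iv F3882)) (tt N514 F2831) (tt N514 F2832) (tt N514 F2833) (tt N700 D766))
theorem Q516 : ∀ i, i < 516 → P i := stepQ 515 Q515 (allL N515 (tt N700 (iv F3981)) (tt N368 F2834) (tt N515 F2835) (tt N665 (iv F3785)) (tt N372 F2836) (tt N685 (iv F3891)) (tt N515 F2837) (tt N515 F2838) (tt N701 D767) (tt N367 (iv D535)))
theorem Q517 : ∀ i, i < 517 → P i := stepQ 516 Q516 (allL N516 (tt N516 F2839) (tt N701 (iv F3987)) (tt N369 F2840) (tt N666 (iv F3791)) (tt N373 F2841) (tt N702 D768) (tt N516 F2842) (tt N516 F2843) (tt N368 (iv D536)) (tt N516 F2844))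
theorem Q518 : ∀ i, i < 518 → P i := stepQ 517 Q517 (allL N517 (tt N517 F2845) (tt N517 F2846) (tt N702 (iv F3994)) (tt N370 F2847) (tt N698 F130701) (tt N369 (iv D537)) (tt N697 F130702) (tt N517 F2848) (tt N691 (iv F3923)) (tt N517 F2849))
theorem Q519 : ∀ i, i < 519 → P i := stepQ 518 Q518 (allL N518 (tt N518 F2850) (tt N518 F2851) (tt N668 (iv F3801)) (tt N697 F130704) (tt N518 F2852) (tt N518 F2853) (tt N370 (iv D538)) (tt N699 F130705) (tt N694 (iv F3935)) (tt N518 F2854))
theorem Q520 : ∀ i, i < 520 → P i := stepQ 519 Q519 (allL N519 (tt N372 F2855) (tt N519 F2856) (tt N519 F2857) (tt N519 F2858) (tt N700 (iv F3984)) (tt N519 F2859) (tt N519 F2860) (tt N519 F2861) (tt N703 D772) (tt N371 (iv D539)))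
theorem Q521 : ∀ i, i < 521 → P i := stepQ 520 Q520 (allL N520 (tt N703 (iv F4014)) (tt N373 F2862) (tt N520 F2863) (tt N520 F2864) (tt N701 (iv F3989)) (tt N704 D773) (tt N520 F2865) (tt N520 F2866) (tt N372 (iv D540)) (tt N520 F2867))
theorem Q522 : ∀ i, i < 522 → P i := stepQ 521 Q521 (allL N521 (tt N521 F2868) (tt N704 (iv F4021)) (tt N374 F2869) (tt N521 F2870) (tt N663 F131230) (tt N373 (iv D541)) (tt N662 (iv F131644)) (tt N521 F2871) (tt N521 F2872) (tt N521 F2873))
theorem Q523 : ∀ i, i < 523 → P i := stepQ 522 Q522 (allL N522 (tt N522 F2894) (tt N379 F2895) (tt N522 F2896) (tt N522 F2897) (tt N705 D778) (tt N376 (iv D545)) (tt N522 F2898) (tt N522 F2899) (tt N706 D779) (tt N522 F2900))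
theorem Q524 : ∀ i, i < 524 → P i := stepQ 523 Q523 (allL N523 (tt N523 F2901) (tt N380 F2902) (tt N523 F2903) (tt N523 F2904) (tt N523 F2905) (tt N707 D780) (tt N377 F2906) (tt N523 F2907) (tt N376 (iv D546)) (tt N708 D781))
theorem Q525 : ∀ i, i < 525 → P i := stepQ 524 Q524 (allL N524 (tt N524 F2914) (tt N382 F2915) (tt N524 F2916) (tt N524 F2917) (tt N524 F2918) (tt N462 (iv F20038)) (tt N708 (iv F4074)) (tt N378 F2919) (tt N524 F2920) (tt N377 (iv D548)))
theorem Q526 : ∀ i, i < 526 → P i := stepQ 525 Q525 (allL N525 (tt N408 F2937) (tt N705 (iv F4052)) (tt N384 F2938) (tt N709 D791) (tt N379 (iv D552)) (tt N525 F2939) (tt N525 F2940) (tt N525 F2941) (tt N710 D792) (tt N525 F2942))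
theorem Q527 : ∀ i, i < 527 → P i := stepQ 526 Q526 (allL N526 (tt N409 F2943) (tt N706 (iv F4059)) (tt N385 F2944) (tt N526 F2945) (tt N710 (iv F4136)) (tt N711 D793) (tt N526 F2946) (tt N526 F2947) (tt N379 (iv D553)) (tt N712 D794))
theorem Q528 : ∀ i, i < 528 → P i := stepQ 527 Q527 (allL N527 (tt N410 F2948) (tt N707 (iv F4065)) (tt N386 F2949) (tt N527 F2950) (tt N713 D795) (tt N380 (iv D554)) (tt N714 D796) (tt N527 F2951) (tt N711 (iv F4143)) (tt N715 D797))
theorem Q529 : ∀ i, i < 529 → P i := stepQ 528 Q528 (allL N528 (tt N411 F2952) (tt N708 (iv F4070)) (tt N387 F2953) (tt N528 F2954) (tt N528 F2955) (tt N715 (iv F4161)) (tt N382 F2956) (tt N528 F2957) (tt N528 F2958) (tt N380 (iv D555)))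
theorem Q530 : ∀ i, i < 530 → P i := stepQ 529 Q529 (allL N529 (tt N412 F2964) (tt N457 (iv F20036)) (tt N389 F2965) (tt N529 F2966) (tt N423 (iv F20027)) (tt N714 (iv F4157)) (tt N381 (iv D557)) (tt N421 (iv F20025)) (tt N529 F2967) (tt N716 D802))
theorem Q531 : ∀ i, i < 531 → P i := stepQ 530 Q530 (allL N530 (tt N413 F2968) (tt N462 (iv F20037)) (tt N390 F2969) (tt N530 F2970) (tt N427 (iv F20046)) (tt N382 F2971) (tt N716 (iv F4186)) (tt N383 F2972) (tt N717 D803) (tt N381 (iv D558)))
theorem Q532 : ∀ i, i < 532 → P i := stepQ 531 Q531 (allL N531 (tt N414 F2996) (tt N463 (iv F20168)) (tt N394 F2997) (tt N531 F2998) (tt N428 (iv F20123)) (tt N531 F2999) (tt N426 (iv F20121)) (tt N717 (iv F4191)) (tt N383 (iv D564)) (tt N531 F3000))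
theorem Q533 : ∀ i, i < 533 → P i := stepQ 532 Q532 (allL N532 (tt N415 F3001) (tt N532 F3002) (tt N710 (iv F4135)) (tt N532 F3003) (tt N385 F3004) (tt N718 D812) (tt N532 F3005) (tt N532 F3006) (tt N384 (iv D565)) (tt N719 D813))
theorem Q534 : ∀ i, i < 534 → P i := stepQ 533 Q533 (allL N533 (tt N416 F3007) (tt N533 F3008) (tt N711 (iv F4140)) (tt N395 F3009) (tt N720 D814) (tt N385 (iv D566)) (tt N721 D815) (tt N533 F3010) (tt N386 F3011) (tt N722 D816))
theorem Q535 : ∀ i, i < 535 → P i := stepQ 534 Q534 (allL N534 (tt N417 F3012) (tt N534 F3013) (tt N712 (iv F4145)) (tt N396 F3014) (tt N719 (iv F4237)) (tt N722 (iv F4253)) (tt N534 F3015) (tt N534 F3016) (tt N534 F3017) (tt N385 (iv D567)))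
theorem Q536 : ∀ i, i < 536 → P i := stepQ 535 Q535 (allL N535 (tt N418 F3018) (tt N535 F3019) (tt N713 (iv F4151)) (tt N723 D817) (tt N386 (iv D568)) (tt N535 F3020) (tt N724 D818) (tt N535 F3021) (tt N720 (iv F4244)) (tt N725 D819))
theorem Q537 : ∀ i, i < 537 → P i := stepQ 536 Q536 (allL N536 (tt N419 F3022) (tt N536 F3023) (tt N714 (iv F4155)) (tt N398 F3024) (tt N724 (iv F4262)) (tt N389 F3025) (tt N386 (iv D569)) (tt N726 D820) (tt N721 (iv F4249)) (tt N727 D821))
theorem Q538 : ∀ i, i < 538 → P i := stepQ 537 Q537 (allL N537 (tt N420 F3026) (tt N537 F3027) (tt N715 (iv F4159)) (tt N399 F3028) (tt N725 (iv F4265)) (tt N387 F3029) (tt N727 (iv F4277)) (tt N537 F3030) (tt N728 D822) (tt N386 (iv D570)))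
theorem Q539 : ∀ i, i < 539 → P i := stepQ 538 Q538 (allL N538 (tt N421 F3031) (tt N538 F3032) (tt N423 (iv F20026)) (tt N538 F3033) (tt N389 F3034) (tt N729 D823) (tt N388 (iv D571)) (tt N412 (iv F20015)) (tt N538 F3035) (tt N730 D825))
theorem Q540 : ∀ i, i < 540 → P i := stepQ 539 Q539 (allL N539 (tt N422 F3036) (tt N539 F3037) (tt N427 (iv F20045)) (tt N539 F3038) (tt N390 F3039) (tt N539 F3040) (tt N730 (iv F4297)) (tt N391 F3041) (tt N731 D826) (tt N388 (iv D572)))
theorem Q541 : ∀ i, i < 541 → P i := stepQ 540 Q540 (allL N540 (tt N423 F3042) (tt N540 F3043) (tt N421 (iv F20024)) (tt N400 F3044) (tt N412 (iv F20014)) (tt N726 (iv F4271)) (tt N392 F3045) (tt N389 (iv D573)) (tt N540 F3046) (tt N732 D827))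
theorem Q542 : ∀ i, i < 542 → P i := stepQ 541 Q541 (allL N541 (tt N424 F3047) (tt N541 F3048) (tt N716 (iv F4184)) (tt N401 F3049) (tt N730 (iv F4296)) (tt N727 (iv F4276)) (tt N390 F3050) (tt N732 (iv F4308)) (tt N733 D828) (tt N389 (iv D574)))
theorem Q543 : ∀ i, i < 543 → P i := stepQ 542 Q542 (allL N542 (tt N425 F3051) (tt N542 F3052) (tt N717 (iv F4188)) (tt N402 F3053) (tt N731 (iv F4301)) (tt N542 F3054) (tt N733 (iv F4312)) (tt N394 F3055) (tt N390 (iv D575)) (tt N542 F3056))
theorem Q544 : ∀ i, i < 544 → P i := stepQ 543 Q543 (allL N543 (tt N426 F3072) (tt N543 F3073) (tt N428 (iv F20122)) (tt N543 F3074) (tt N394 F3075) (tt N734 D834) (tt N414 (iv F20108)) (tt N731 (iv F4302)) (tt N391 (iv D579)) (tt N543 F3076))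
theorem Q545 : ∀ i, i < 545 → P i := stepQ 544 Q544 (allL N544 (tt N427 F3077) (tt N544 F3078) (tt N422 F20054) (tt N403 F3079) (tt N413 F20055) (tt N544 F3080) (tt N732 (iv F4307)) (tt N393 F3081) (tt N735 D835) (tt N392 (iv D580)))
theorem Q546 : ∀ i, i < 546 → P i := stepQ 545 Q545 (allL N545 (tt N428 F3082) (tt N545 F3083) (tt N426 (iv F20120)) (tt N404 F3084) (tt N414 (iv F20107)) (tt N736 D836) (tt N394 F3085) (tt N735 (iv F4351)) (tt N393 (iv D581)) (tt N545 F3086))
theorem Q547 : ∀ i, i < 547 → P i := stepQ 546 Q546 (allL N546 (tt N429 F3087) (tt N546 F3088) (tt N546 F3089) (tt N737 D837) (tt N395 (iv D582)) (tt N546 F3090) (tt N738 D838) (tt N546 F3091) (tt N397 F3092) (tt N739 D839))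
theorem Q548 : ∀ i, i < 548 → P i := stepQ 547 Q547 (allL N547 (tt N430 F3093) (tt N547 F3094) (tt N547 F3095) (tt N721 (iv F4247)) (tt N738 (iv F4367)) (tt N547 F3096) (tt N395 (iv D583)) (tt N740 D840) (tt N398 F3097) (tt N741 D841))
theorem Q549 : ∀ i, i < 549 → P i := stepQ 548 Q548 (allL N548 (tt N431 F3098) (tt N548 F3099) (tt N548 F3100) (tt N722 (iv F4252)) (tt N739 (iv F4372)) (tt N396 F3101) (tt N741 (iv F4385)) (tt N548 F3102) (tt N742 D842) (tt N395 (iv D584)))
theorem Q550 : ∀ i, i < 550 → P i := stepQ 549 Q549 (allL N549 (tt N432 F3103) (tt N549 F3104) (tt N743 D843) (tt N397 (iv D585)) (tt N723 (iv F4257)) (tt N405 F3105) (tt N744 D844) (tt N549 F3106) (tt N737 (iv F4363)) (tt N745 D845))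
theorem Q551 : ∀ i, i < 551 → P i := stepQ 550 Q550 (allL N550 (tt N433 F3107) (tt N550 F3108) (tt N550 F3109) (tt N744 (iv F4398)) (tt N398 F3110) (tt N550 F3111) (tt N397 (iv D586)) (tt N746 D846) (tt N738 (iv F4368)) (tt N747 D847))
theorem Q552 : ∀ i, i < 552 → P i := stepQ 551 Q551 (allL N551 (tt N434 F3112) (tt N551 F3113) (tt N551 F3114) (tt N745 (iv F4402)) (tt N399 F3115) (tt N406 F3116) (tt N747 (iv F4416)) (tt N551 F3117) (tt N748 D848) (tt N397 (iv D587)))
theorem Q553 : ∀ i, i < 553 → P i := stepQ 552 Q552 (allL N552 (tt N435 F3118) (tt N552 F3119) (tt N552 F3120) (tt N726 (iv F4270)) (tt N746 (iv F4408)) (tt N400 F3121) (tt N552 F3122) (tt N398 (iv D588)) (tt N740 (iv F4380)) (tt N749 D849))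
theorem Q554 : ∀ i, i < 554 → P i := stepQ 553 Q553 (allL N553 (tt N436 F3123) (tt N553 F3124) (tt N553 F3125) (tt N727 (iv F4275)) (tt N747 (iv F4414)) (tt N401 F3126) (tt N399 F3127) (tt N749 (iv F4427)) (tt N750 D850) (tt N398 (iv D589)))
theorem Q555 : ∀ i, i < 555 → P i := stepQ 554 Q554 (allL N554 (tt N437 F3128) (tt N554 F3129) (tt N554 F3130) (tt N728 (iv F4280)) (tt N748 (iv F4420)) (tt N554 F3131) (tt N750 (iv F4431)) (tt N554 F3132) (tt N399 (iv D590)) (tt N742 (iv F4391)))
theorem Q556 : ∀ i, i < 556 → P i := stepQ 555 Q555 (allL N555 (tt N438 F3133) (tt N555 F3134) (tt N555 F3135) (tt N732 (iv F4306)) (tt N555 F3136) (tt N749 (iv F4425)) (tt N403 F3137) (tt N401 F3138) (tt N751 D851) (tt N400 (iv D591)))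
theorem Q557 : ∀ i, i < 557 → P i := stepQ 556 Q556 (allL N556 (tt N439 F3139) (tt N556 F3140) (tt N556 F3141) (tt N733 (iv F4311)) (tt N556 F3142) (tt N752 D852) (tt N402 F3143) (tt N751 (iv F4437)) (tt N401 (iv D592)) (tt N556 F3144))
theorem Q558 : ∀ i, i < 558 → P i := stepQ 557 Q557 (allL N557 (tt N440 F3145) (tt N557 F3146) (tt N557 F3147) (tt N735 (iv F4350)) (tt N557 F3148) (tt N753 D853) (tt N751 (iv F4436)) (tt N404 F3149) (tt N403 (iv D593)) (tt N557 F3150))
theorem Q559 : ∀ i, i < 559 → P i := stepQ 558 Q558 (allL N558 (tt N441 F3151) (tt N558 F3152) (tt N558 F3153) (tt N736 (iv F4355)) (tt N754 D854) (tt N404 (iv D594)) (tt N558 F3154) (tt N753 (iv F4447)) (tt N558 F3155) (tt N558 F3156))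
theorem Q560 : ∀ i, i < 560 → P i := stepQ 559 Q559 (allL N559 (tt N442 F3157) (tt N755 D855) (tt N405 (iv D595)) (tt N559 F3158) (tt N559 F3159) (tt N743 (iv F4394)) (tt N559 F3160) (tt N559 F3161) (tt N559 F3162) (tt N756 D856))
theorem Q561 : ∀ i, i < 561 → P i := stepQ 560 Q560 (allL N560 (tt N443 F3163) (tt N560 F3164) (tt N756 (iv F4464)) (tt N406 F3165) (tt N560 F3166) (tt N745 (iv F4403)) (tt N560 F3167) (tt N560 F3168) (tt N757 D857) (tt N405 (iv D596)))
theorem Q562 : ∀ i, i < 562 → P i := stepQ 561 Q561 (allL N561 (tt N444 F3169) (tt N561 F3170) (tt N561 F3171) (tt N757 (iv F4471)) (tt N407 F3172) (tt N758 D858) (tt N561 F3173) (tt N561 F3174) (tt N406 (iv D597)) (tt N561 F3175))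
theorem Q563 : ∀ i, i < 563 → P i := stepQ 562 Q562 (allL N562 (tt N709 (iv F4127)) (tt N562 F3176) (tt N562 F3177) (tt N408 (iv D598)) (tt N562 F3178) (tt N562 F3179) (tt N562 F3180) (tt N562 F3181) (tt N759 D859) (tt N562 F3182))
theorem Q564 : ∀ i, i < 564 → P i := stepQ 563 Q563 (allL N563 (tt N710 (iv F4134)) (tt N563 F3183) (tt N415 F3184) (tt N759 (iv F4484)) (tt N409 F3185) (tt N760 D860) (tt N563 F3186) (tt N563 F3187) (tt N408 (iv D599)) (tt N761 D861))
theorem Q565 : ∀ i, i < 565 → P i := stepQ 564 Q564 (allL N564 (tt N711 (iv F4139)) (tt N564 F3188) (tt N416 F3189) (tt N564 F3190) (tt N762 D862) (tt N409 (iv D600)) (tt N763 D863) (tt N564 F3191) (tt N410 F3192) (tt N764 D864))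
theorem Q566 : ∀ i, i < 566 → P i := stepQ 565 Q565 (allL N565 (tt N712 (iv F4144)) (tt N565 F3193) (tt N417 F3194) (tt N565 F3195) (tt N761 (iv F4494)) (tt N764 (iv F4510)) (tt N565 F3196) (tt N565 F3197) (tt N565 F3198) (tt N409 (iv D601)))
theorem Q567 : ∀ i, i < 567 → P i := stepQ 566 Q566 (allL N566 (tt N713 (iv F4150)) (tt N566 F3199) (tt N418 F3200) (tt N765 D865) (tt N410 (iv D602)) (tt N566 F3201) (tt N766 D866) (tt N566 F3202) (tt N762 (iv F4501)) (tt N767 D867))
theorem Q568 : ∀ i, i < 568 → P i := stepQ 567 Q567 (allL N567 (tt N714 (iv F4154)) (tt N567 F3203) (tt N419 F3204) (tt N567 F3205) (tt N766 (iv F4518)) (tt N412 F3206) (tt N410 (iv D603)) (tt N729 (iv F20019)) (tt N763 (iv F4506)) (tt N768 D869))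
theorem Q569 : ∀ i, i < 569 → P i := stepQ 568 Q568 (allL N568 (tt N715 (iv F4158)) (tt N568 F3207) (tt N420 F3208) (tt N568 F3209) (tt N767 (iv F4521)) (tt N411 F3210) (tt N768 (iv F4533)) (tt N568 F3211) (tt N769 D870) (tt N410 (iv D604)))
theorem Q570 : ∀ i, i < 570 → P i := stepQ 569 Q569 (allL N569 (tt N716 (iv F4183)) (tt N569 F3232) (tt N424 F3233) (tt N569 F3234) (tt N732 F20056) (tt N768 (iv F4532)) (tt N413 F3235) (tt N730 F20057) (tt N770 D878) (tt N412 (iv D609)))
theorem Q571 : ∀ i, i < 571 → P i := stepQ 570 Q570 (allL N570 (tt N717 (iv F4187)) (tt N570 F3236) (tt N425 F3237) (tt N570 F3238) (tt N735 (iv F20110)) (tt N570 F3239) (tt N770 (iv F4575)) (tt N414 F3240) (tt N413 (iv D610)) (tt N570 F3241))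
theorem Q572 : ∀ i, i < 572 → P i := stepQ 571 Q571 (allL N571 (tt N718 (iv F4229)) (tt N445 F3278) (tt N760 (iv F4489)) (tt N571 F3279) (tt N771 D891) (tt N415 (iv D619)) (tt N772 D892) (tt N571 F3280) (tt N571 F3281) (tt N773 D893))
theorem Q573 : ∀ i, i < 573 → P i := stepQ 572 Q572 (allL N572 (tt N719 (iv F4234)) (tt N446 F3282) (tt N761 (iv F4493)) (tt N572 F3283) (tt N417 F3284) (tt N773 (iv F4645)) (tt N572 F3285) (tt N572 F3286) (tt N572 F3287) (tt N415 (iv D620)))
theorem Q574 : ∀ i, i < 574 → P i := stepQ 573 Q573 (allL N573 (tt N720 (iv F4241)) (tt N447 F3288) (tt N762 (iv F4499)) (tt N774 D894) (tt N416 (iv D621)) (tt N771 (iv F4636)) (tt N775 D895) (tt N573 F3289) (tt N418 F3290) (tt N776 D896))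
theorem Q575 : ∀ i, i < 575 → P i := stepQ 574 Q574 (allL N574 (tt N721 (iv F4245)) (tt N448 F3291) (tt N763 (iv F4503)) (tt N430 F3292) (tt N775 (iv F4652)) (tt N574 F3293) (tt N416 (iv D622)) (tt N777 D897) (tt N419 F3294) (tt N778 D898))
theorem Q576 : ∀ i, i < 576 → P i := stepQ 575 Q575 (allL N575 (tt N722 (iv F4250)) (tt N449 F3295) (tt N764 (iv F4508)) (tt N431 F3296) (tt N776 (iv F4655)) (tt N417 F3297) (tt N778 (iv F4665)) (tt N575 F3298) (tt N779 D899) (tt N416 (iv D623)))
theorem Q577 : ∀ i, i < 577 → P i := stepQ 576 Q576 (allL N576 (tt N723 (iv F4255)) (tt N450 F3299) (tt N780 D900) (tt N418 (iv D624)) (tt N432 F3300) (tt N576 F3301) (tt N781 D901) (tt N576 F3302) (tt N774 (iv F4650)) (tt N782 D902))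
theorem Q578 : ∀ i, i < 578 → P i := stepQ 577 Q577 (allL N577 (tt N724 (iv F4260)) (tt N451 F3303) (tt N766 (iv F4517)) (tt N781 (iv F4675)) (tt N419 F3304) (tt N783 D903) (tt N418 (iv D625)) (tt N784 D904) (tt N775 (iv F4653)) (tt N785 D905))
theorem Q579 : ∀ i, i < 579 → P i := stepQ 578 Q578 (allL N578 (tt N725 (iv F4263)) (tt N452 F3305) (tt N767 (iv F4520)) (tt N782 (iv F4678)) (tt N420 F3306) (tt N578 F3307) (tt N785 (iv F4690)) (tt N578 F3308) (tt N786 D906) (tt N418 (iv D626)))
theorem Q580 : ∀ i, i < 580 → P i := stepQ 579 Q579 (allL N579 (tt N726 (iv F4268)) (tt N453 F3309) (tt N729 (iv F20018)) (tt N435 F3310) (tt N784 (iv F4686)) (tt N423 F3311) (tt N579 F3312) (tt N419 (iv D627)) (tt N777 (iv F4661)) (tt N787 D907))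
theorem Q581 : ∀ i, i < 581 → P i := stepQ 580 Q580 (allL N580 (tt N727 (iv F4273)) (tt N454 F3313) (tt N768 (iv F4530)) (tt N436 F3314) (tt N785 (iv F4689)) (tt N424 F3315) (tt N420 F3316) (tt N787 (iv F4698)) (tt N788 D908) (tt N419 (iv D628)))
theorem Q582 : ∀ i, i < 582 → P i := stepQ 581 Q581 (allL N581 (tt N728 (iv F4278)) (tt N455 F3317) (tt N769 (iv F4535)) (tt N437 F3318) (tt N786 (iv F4692)) (tt N581 F3319) (tt N788 (iv F4701)) (tt N581 F3320) (tt N420 (iv D629)) (tt N779 (iv F4670)))
theorem Q583 : ∀ i, i < 583 → P i := stepQ 582 Q582 (allL N582 (tt N729 (iv F4283)) (tt N456 F3321) (tt N726 F20008) (tt N582 F3322) (tt N783 (iv F4683)) (tt N421 (iv D630)) (tt N582 F3323) (tt N714 F20009) (tt N789 D910) (tt N790 D911))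
theorem Q584 : ∀ i, i < 584 → P i := stepQ 583 Q583 (allL N583 (tt N730 (iv F4293)) (tt N458 F3329) (tt N732 F20068) (tt N583 F3330) (tt N424 F3331) (tt N790 (iv F4711)) (tt N422 F3332) (tt N716 F20069) (tt N791 D913) (tt N421 (iv D632)))
theorem Q585 : ∀ i, i < 585 → P i := stepQ 584 Q584 (allL N584 (tt N731 (iv F4298)) (tt N459 F3333) (tt N735 (iv F20109)) (tt N584 F3334) (tt N425 F3335) (tt N792 D914) (tt N791 (iv F4721)) (tt N426 F3336) (tt N422 (iv D633)) (tt N584 F3337))
theorem Q586 : ∀ i, i < 586 → P i := stepQ 585 Q585 (allL N585 (tt N732 (iv F4304)) (tt N460 F3338) (tt N730 F20070) (tt N438 F3339) (tt N716 F20071) (tt N787 (iv F4696)) (tt N427 F3340) (tt N424 F3341) (tt N793 D915) (tt N423 (iv D634)))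
theorem Q587 : ∀ i, i < 587 → P i := stepQ 586 Q586 (allL N586 (tt N733 (iv F4309)) (tt N461 F3342) (tt N770 (iv F4573)) (tt N439 F3343) (tt N791 (iv F4720)) (tt N794 D916) (tt N425 F3344) (tt N793 (iv F4732)) (tt N424 (iv D635)) (tt N586 F3345))
theorem Q588 : ∀ i, i < 588 → P i := stepQ 587 Q587 (allL N587 (tt N734 (iv F4342)) (tt N464 F3369) (tt N736 F20248) (tt N587 F3370) (tt N587 F3371) (tt N426 (iv D641)) (tt N587 F20275) (tt N792 (iv F4726)) (tt N587 F3372) (tt N587 F3373))
theorem Q589 : ∀ i, i < 589 → P i := stepQ 588 Q588 (allL N588 (tt N735 (iv F4348)) (tt N465 F3374) (tt N731 F20097) (tt N440 F3375) (tt N717 F20098) (tt N795 D925) (tt N793 (iv F4731)) (tt N428 F3376) (tt N427 (iv D642)) (tt N588 F3377))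
theorem Q590 : ∀ i, i < 590 → P i := stepQ 589 Q589 (allL N589 (tt N736 (iv F4353)) (tt N466 F3378) (tt N734 F20249) (tt N441 F3379) (tt N589 F20276) (tt N428 (iv D643)) (tt N589 F3380) (tt N795 (iv F4776)) (tt N589 F3381) (tt N589 F3382))
theorem Q591 : ∀ i, i < 591 → P i := stepQ 590 Q590 (allL N590 (tt N737 (iv F4359)) (tt N467 F3383) (tt N796 D927) (tt N429 (iv D644)) (tt N774 (iv F4648)) (tt N590 F3384) (tt N797 D928) (tt N590 F3385) (tt N432 F3386) (tt N798 D929))
theorem Q592 : ∀ i, i < 592 → P i := stepQ 591 Q591 (allL N591 (tt N738 (iv F4364)) (tt N468 F3387) (tt N591 F3388) (tt N797 (iv F4788)) (tt N430 F3389) (tt N799 D930) (tt N429 (iv D645)) (tt N800 D931) (tt N433 F3390) (tt N801 D932))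
theorem Q593 : ∀ i, i < 593 → P i := stepQ 592 Q592 (allL N592 (tt N739 (iv F4369)) (tt N469 F3391) (tt N592 F3392) (tt N798 (iv F4791)) (tt N431 F3393) (tt N592 F3394) (tt N801 (iv F4807)) (tt N592 F3395) (tt N802 D933) (tt N429 (iv D646)))
theorem Q594 : ∀ i, i < 594 → P i := stepQ 593 Q593 (allL N593 (tt N740 (iv F4375)) (tt N470 F3396) (tt N593 F3397) (tt N777 (iv F4658)) (tt N800 (iv F4801)) (tt N593 F3398) (tt N593 F3399) (tt N430 (iv D647)) (tt N435 F3400) (tt N803 D934))
theorem Q595 : ∀ i, i < 595 → P i := stepQ 594 Q594 (allL N594 (tt N741 (iv F4381)) (tt N471 F3401) (tt N594 F3402) (tt N778 (iv F4663)) (tt N801 (iv F4806)) (tt N594 F3403) (tt N431 F3404) (tt N803 (iv F4817)) (tt N804 D935) (tt N430 (iv D648)))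
theorem Q596 : ∀ i, i < 596 → P i := stepQ 595 Q595 (allL N595 (tt N742 (iv F4386)) (tt N472 F3405) (tt N595 F3406) (tt N779 (iv F4667)) (tt N802 (iv F4810)) (tt N595 F3407) (tt N804 (iv F4820)) (tt N595 F3408) (tt N431 (iv D649)) (tt N437 F3409))
theorem Q597 : ∀ i, i < 597 → P i := stepQ 596 Q596 (allL N596 (tt N743 (iv F4392)) (tt N805 D936) (tt N432 (iv D650)) (tt N596 F3410) (tt N780 (iv F4671)) (tt N442 F3411) (tt N806 D937) (tt N596 F3412) (tt N796 (iv F4786)) (tt N807 D938))
theorem Q598 : ∀ i, i < 598 → P i := stepQ 597 Q597 (allL N597 (tt N744 (iv F4396)) (tt N474 F3413) (tt N806 (iv F4826)) (tt N433 F3414) (tt N781 (iv F4676)) (tt N597 F3415) (tt N432 (iv D651)) (tt N808 D939) (tt N797 (iv F4789)) (tt N809 D940))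
theorem Q599 : ∀ i, i < 599 → P i := stepQ 598 Q598 (allL N598 (tt N745 (iv F4400)) (tt N475 F3416) (tt N807 (iv F4829)) (tt N434 F3417) (tt N782 (iv F4679)) (tt N443 F3418) (tt N809 (iv F4840)) (tt N598 F3419) (tt N810 D941) (tt N432 (iv D652)))
theorem Q600 : ∀ i, i < 600 → P i := stepQ 599 Q599 (allL N599 (tt N746 (iv F4405)) (tt N476 F3420) (tt N599 F3421) (tt N808 (iv F4834)) (tt N435 F3422) (tt N599 F3423) (tt N599 F3424) (tt N433 (iv D653)) (tt N800 (iv F4803)) (tt N811 D942))
theorem Q601 : ∀ i, i < 601 → P i := stepQ 600 Q600 (allL N600 (tt N747 (iv F4411)) (tt N477 F3425) (tt N600 F3426) (tt N809 (iv F4838)) (tt N436 F3427) (tt N600 F3428) (tt N434 F3429) (tt N811 (iv F4849)) (tt N812 D943) (tt N433 (iv D654)))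
theorem Q602 : ∀ i, i < 602 → P i := stepQ 601 Q601 (allL N601 (tt N748 (iv F4417)) (tt N478 F3430) (tt N601 F3431) (tt N810 (iv F4842)) (tt N437 F3432) (tt N813 D944) (tt N812 (iv F4853)) (tt N601 F3433) (tt N434 (iv D655)) (tt N802 (iv F4812)))
theorem Q603 : ∀ i, i < 603 → P i := stepQ 602 Q602 (allL N602 (tt N749 (iv F4422)) (tt N479 F3434) (tt N602 F3435) (tt N787 (iv F4695)) (tt N811 (iv F4846)) (tt N438 F3436) (tt N602 F3437) (tt N436 F3438) (tt N814 D945) (tt N435 (iv D656)))
theorem Q604 : ∀ i, i < 604 → P i := stepQ 603 Q603 (allL N603 (tt N750 (iv F4428)) (tt N480 F3439) (tt N603 F3440) (tt N788 (iv F4700)) (tt N812 (iv F4852)) (tt N815 D946) (tt N437 F3441) (tt N814 (iv F4862)) (tt N436 (iv D657)) (tt N804 (iv F4821)))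
theorem Q605 : ∀ i, i < 605 → P i := stepQ 604 Q604 (allL N604 (tt N751 (iv F4432)) (tt N481 F3442) (tt N604 F3443) (tt N793 (iv F4730)) (tt N604 F3444) (tt N816 D947) (tt N440 F3445) (tt N439 F3446) (tt N438 (iv D658)) (tt N604 F3447))
theorem Q606 : ∀ i, i < 606 → P i := stepQ 605 Q605 (allL N605 (tt N752 (iv F4439)) (tt N482 F3448) (tt N605 F3449) (tt N794 (iv F4735)) (tt N817 D948) (tt N439 (iv D659)) (tt N605 F3450) (tt N816 (iv F4869)) (tt N815 (iv F4866)) (tt N605 F3451))
theorem Q607 : ∀ i, i < 607 → P i := stepQ 606 Q606 (allL N606 (tt N753 (iv F4444)) (tt N483 F3452) (tt N606 F3453) (tt N795 (iv F4775)) (tt N818 D949) (tt N440 (iv D660)) (tt N819 D950) (tt N441 F3454) (tt N606 F3455) (tt N606 F3456))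
theorem Q608 : ∀ i, i < 608 → P i := stepQ 607 Q607 (allL N607 (tt N754 (iv F4450)) (tt N484 F3457) (tt N607 F3458) (tt N607 F20284) (tt N441 (iv D661)) (tt N607 F3459) (tt N607 F3460) (tt N818 (iv F4879)) (tt N607 F3461) (tt N607 F3462))
theorem Q609 : ∀ i, i < 609 → P i := stepQ 608 Q608 (allL N608 (tt N820 D952) (tt N442 (iv D662)) (tt N485 F3463) (tt N608 F3464) (tt N608 F3465) (tt N805 (iv F4824)) (tt N608 F3466) (tt N608 F3467) (tt N608 F3468) (tt N821 D953))
theorem Q610 : ∀ i, i < 610 → P i := stepQ 609 Q609 (allL N609 (tt N756 (iv F4463)) (tt N821 (iv F4898)) (tt N443 F3469) (tt N609 F3470) (tt N609 F3471) (tt N807 (iv F4831)) (tt N609 F3472) (tt N609 F3473) (tt N822 D954) (tt N442 (iv D663)))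
theorem Q611 : ∀ i, i < 611 → P i := stepQ 610 Q610 (allL N610 (tt N757 (iv F4469)) (tt N487 F3474) (tt N822 (iv F4904)) (tt N444 F3475) (tt N610 F3476) (tt N823 D955) (tt N610 F3477) (tt N610 F3478) (tt N443 (iv D664)) (tt N610 F3479))
theorem Q612 : ∀ i, i < 612 → P i := stepQ 611 Q611 (allL N611 (tt N758 (iv F4476)) (tt N488 F3480) (tt N611 F3481) (tt N823 (iv F4911)) (tt N611 F3482) (tt N444 (iv D665)) (tt N824 D956) (tt N611 F3483) (tt N813 (iv F4858)) (tt N611 F3484))
theorem Q613 : ∀ i, i < 613 → P i := stepQ 612 Q612 (allL N612 (tt N612 F3485) (tt N771 (iv F4635)) (tt N612 F3486) (tt N825 D957) (tt N445 (iv D666)) (tt N447 F3487) (tt N826 D958) (tt N612 F3488) (tt N612 F3489) (tt N827 D959))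
theorem Q614 : ∀ i, i < 614 → P i := stepQ 613 Q613 (allL N613 (tt N613 F3490) (tt N772 (iv F4639)) (tt N613 F3491) (tt N613 F3492) (tt N826 (iv F4926)) (tt N613 F3493) (tt N445 (iv D667)) (tt N828 D960) (tt N613 F3494) (tt N829 D961))
theorem Q615 : ∀ i, i < 615 → P i := stepQ 614 Q614 (allL N614 (tt N614 F3495) (tt N773 (iv F4643)) (tt N614 F3496) (tt N614 F3497) (tt N827 (iv F4930)) (tt N446 F3498) (tt N829 (iv F4943)) (tt N614 F3499) (tt N830 D962) (tt N445 (iv D668)))
theorem Q616 : ∀ i, i < 616 → P i := stepQ 615 Q615 (allL N615 (tt N615 F3500) (tt N774 (iv F4647)) (tt N831 D963) (tt N447 (iv D669)) (tt N467 F3501) (tt N825 (iv F4921)) (tt N832 D964) (tt N615 F3502) (tt N450 F3503) (tt N833 D965))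
theorem Q617 : ∀ i, i < 617 → P i := stepQ 616 Q616 (allL N616 (tt N616 F3504) (tt N775 (iv F4651)) (tt N616 F3505) (tt N832 (iv F4956)) (tt N448 F3506) (tt N834 D966) (tt N447 (iv D670)) (tt N835 D967) (tt N451 F3507) (tt N836 D968))
theorem Q618 : ∀ i, i < 618 → P i := stepQ 617 Q617 (allL N617 (tt N617 F3508) (tt N776 (iv F4654)) (tt N617 F3509) (tt N833 (iv F4960)) (tt N449 F3510) (tt N827 (iv F4931)) (tt N836 (iv F4974)) (tt N617 F3511) (tt N837 D969) (tt N447 (iv D671)))
theorem Q619 : ∀ i, i < 619 → P i := stepQ 618 Q618 (allL N618 (tt N618 F3512) (tt N777 (iv F4657)) (tt N618 F3513) (tt N470 F3514) (tt N835 (iv F4968)) (tt N618 F3515) (tt N618 F3516) (tt N448 (iv D672)) (tt N453 F3517) (tt N838 D970))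
theorem Q620 : ∀ i, i < 620 → P i := stepQ 619 Q619 (allL N619 (tt N619 F3518) (tt N778 (iv F4662)) (tt N619 F3519) (tt N471 F3520) (tt N836 (iv F4973)) (tt N619 F3521) (tt N449 F3522) (tt N838 (iv F4985)) (tt N839 D971) (tt N448 (iv D673)))
theorem Q621 : ∀ i, i < 621 → P i := stepQ 620 Q620 (allL N620 (tt N620 F3523) (tt N779 (iv F4666)) (tt N620 F3524) (tt N472 F3525) (tt N837 (iv F4977)) (tt N620 F3526) (tt N839 (iv F4989)) (tt N620 F3527) (tt N449 (iv D674)) (tt N455 F3528))
theorem Q622 : ∀ i, i < 622 → P i := stepQ 621 Q621 (allL N621 (tt N621 F3529) (tt N840 D972) (tt N450 (iv D675)) (tt N621 F3530) (tt N473 F3531) (tt N621 F3532) (tt N841 D973) (tt N621 F3533) (tt N831 (iv F4954)) (tt N842 D974))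
theorem Q623 : ∀ i, i < 623 → P i := stepQ 622 Q622 (allL N622 (tt N622 F3534) (tt N781 (iv F4674)) (tt N841 (iv F4996)) (tt N451 F3535) (tt N474 F3536) (tt N843 D975) (tt N450 (iv D676)) (tt N844 D976) (tt N832 (iv F4958)) (tt N845 D977))
theorem Q624 : ∀ i, i < 624 → P i := stepQ 623 Q623 (allL N623 (tt N623 F3537) (tt N782 (iv F4677)) (tt N842 (iv F5000)) (tt N452 F3538) (tt N475 F3539) (tt N623 F3540) (tt N845 (iv F5016)) (tt N623 F3541) (tt N846 D978) (tt N450 (iv D677)))
theorem Q625 : ∀ i, i < 625 → P i := stepQ 624 Q624 (allL N624 (tt N624 F3542) (tt N783 (iv F4682)) (tt N624 F3543) (tt N843 (iv F5006)) (tt N456 F3544) (tt N451 (iv D678)) (tt N624 F3545) (tt N847 D979) (tt N848 D980) (tt N849 D981))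
theorem Q626 : ∀ i, i < 626 → P i := stepQ 625 Q625 (allL N625 (tt N625 F3546) (tt N784 (iv F4685)) (tt N625 F3547) (tt N844 (iv F5010)) (tt N453 F3548) (tt N847 (iv F5024)) (tt N625 F3549) (tt N451 (iv D679)) (tt N835 (iv F4970)) (tt N850 D982))
theorem Q627 : ∀ i, i < 627 → P i := stepQ 626 Q626 (allL N626 (tt N626 F3550) (tt N785 (iv F4688)) (tt N626 F3551) (tt N845 (iv F5014)) (tt N454 F3552) (tt N849 (iv F5032)) (tt N452 F3553) (tt N850 (iv F5038)) (tt N851 D983) (tt N451 (iv D680)))
theorem Q628 : ∀ i, i < 628 → P i := stepQ 627 Q627 (allL N627 (tt N627 F3554) (tt N786 (iv F4691)) (tt N627 F3555) (tt N846 (iv F5018)) (tt N455 F3556) (tt N852 D984) (tt N851 (iv F5042)) (tt N627 F3557) (tt N452 (iv D681)) (tt N837 (iv F4979)))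
theorem Q629 : ∀ i, i < 629 → P i := stepQ 628 Q628 (allL N628 (tt N628 F3558) (tt N787 (iv F4694)) (tt N628 F3559) (tt N479 F3560) (tt N850 (iv F5036)) (tt N460 F3561) (tt N628 F3562) (tt N454 F3563) (tt N853 D985) (tt N453 (iv D682)))
theorem Q630 : ∀ i, i < 630 → P i := stepQ 629 Q629 (allL N629 (tt N629 F3564) (tt N788 (iv F4699)) (tt N629 F3565) (tt N480 F3566) (tt N851 (iv F5041)) (tt N854 D986) (tt N455 F3567) (tt N853 (iv F5052)) (tt N454 (iv D683)) (tt N839 (iv F4990)))
theorem Q631 : ∀ i, i < 631 → P i := stepQ 630 Q630 (allL N630 (tt N630 F3568) (tt N714 F20004) (tt N630 F3569) (tt N630 F3570) (tt N847 (iv F5023)) (tt N457 F3571) (tt N707 F20005) (tt N456 (iv D684)) (tt N855 D988) (tt N856 D989))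
theorem Q632 : ∀ i, i < 632 → P i := stepQ 631 Q631 (allL N631 (tt N631 F3572) (tt N789 (iv F4705)) (tt N631 F3573) (tt N631 F3574) (tt N848 (iv F5027)) (tt N631 F3575) (tt N631 F3576) (tt N855 (iv F5067)) (tt N456 (iv D685)) (tt N857 D990))
theorem Q633 : ∀ i, i < 633 → P i := stepQ 632 Q632 (allL N632 (tt N632 F3577) (tt N790 (iv F4709)) (tt N632 F3578) (tt N632 F3579) (tt N849 (iv F5031)) (tt N458 F3580) (tt N632 F3581) (tt N856 (iv F5072)) (tt N858 D991) (tt N456 (iv D686)))
theorem Q634 : ∀ i, i < 634 → P i := stepQ 633 Q633 (allL N633 (tt N633 F3582) (tt N716 F20087) (tt N633 F3583) (tt N633 F3584) (tt N460 F3585) (tt N856 (iv F5071)) (tt N462 F3586) (tt N458 F3587) (tt N859 D992) (tt N457 (iv D687)))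
theorem Q635 : ∀ i, i < 635 → P i := stepQ 634 Q634 (allL N634 (tt N634 F3588) (tt N791 (iv F4718)) (tt N634 F3589) (tt N634 F3590) (tt N461 F3591) (tt N860 D993) (tt N459 F3592) (tt N859 (iv F5087)) (tt N458 (iv D688)) (tt N634 F3593))
theorem Q636 : ∀ i, i < 636 → P i := stepQ 635 Q635 (allL N635 (tt N635 F3594) (tt N792 (iv F4723)) (tt N635 F3595) (tt N635 F3596) (tt N635 F3597) (tt N459 (iv D689)) (tt N861 D994) (tt N464 F3598) (tt N635 F3599) (tt N635 F3600))
theorem Q637 : ∀ i, i < 637 → P i := stepQ 636 Q636 (allL N636 (tt N636 F3601) (tt N793 (iv F4729)) (tt N636 F3602) (tt N481 F3603) (tt N859 (iv F5085)) (tt N862 D995) (tt N465 F3604) (tt N461 F3605) (tt N460 (iv D690)) (tt N636 F3606))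
theorem Q638 : ∀ i, i < 638 → P i := stepQ 637 Q637 (allL N637 (tt N637 F3607) (tt N794 (iv F4734)) (tt N637 F3608) (tt N482 F3609) (tt N863 D996) (tt N461 (iv D691)) (tt N637 F3610) (tt N862 (iv F5102)) (tt N854 (iv F5057)) (tt N637 F3611))
theorem Q639 : ∀ i, i < 639 → P i := stepQ 638 Q638 (allL N638 (tt N638 F3640) (tt N717 F20088) (tt N638 F3641) (tt N638 F3642) (tt N465 F3643) (tt N638 F20170) (tt N859 (iv F5086)) (tt N463 F3644) (tt N462 (iv D697)) (tt N638 F3645))
theorem Q640 : ∀ i, i < 640 → P i := stepQ 639 Q639 (allL N639 (tt N639 F3656) (tt N795 (iv F4774)) (tt N639 F3657) (tt N483 F3658) (tt N639 F20289) (tt N465 (iv D700)) (tt N864 D1008) (tt N466 F3659) (tt N639 F3660) (tt N639 F3661))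
theorem Q641 : ∀ i, i < 641 → P i := stepQ 640 Q640 (allL N640 (tt N640 F3667) (tt N865 D1010) (tt N467 (iv D702)) (tt N489 F3668) (tt N831 (iv F4952)) (tt N640 F3669) (tt N866 D1011) (tt N640 F3670) (tt N473 F3671) (tt N867 D1012))
theorem Q642 : ∀ i, i < 642 → P i := stepQ 641 Q641 (allL N641 (tt N641 F3672) (tt N797 (iv F4787)) (tt N866 (iv F5182)) (tt N468 F3673) (tt N832 (iv F4957)) (tt N868 D1013) (tt N467 (iv D703)) (tt N869 D1014) (tt N474 F3674) (tt N870 D1015))
theorem Q643 : ∀ i, i < 643 → P i := stepQ 642 Q642 (allL N642 (tt N642 F3675) (tt N798 (iv F4790)) (tt N867 (iv F5186)) (tt N469 F3676) (tt N833 (iv F4961)) (tt N642 F3677) (tt N870 (iv F5200)) (tt N642 F3678) (tt N871 D1016) (tt N467 (iv D704)))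
theorem Q644 : ∀ i, i < 644 → P i := stepQ 643 Q643 (allL N643 (tt N643 F3679) (tt N799 (iv F4794)) (tt N492 F3680) (tt N868 (iv F5191)) (tt N643 F3681) (tt N468 (iv D705)) (tt N643 F3682) (tt N872 D1017) (tt N643 F3683) (tt N873 D1018))
theorem Q645 : ∀ i, i < 645 → P i := stepQ 644 Q644 (allL N644 (tt N644 F3684) (tt N800 (iv F4799)) (tt N493 F3685) (tt N869 (iv F5195)) (tt N470 F3686) (tt N872 (iv F5208)) (tt N644 F3687) (tt N468 (iv D706)) (tt N476 F3688) (tt N874 D1019))
theorem Q646 : ∀ i, i < 646 → P i := stepQ 645 Q645 (allL N645 (tt N645 F3689) (tt N801 (iv F4804)) (tt N494 F3690) (tt N870 (iv F5199)) (tt N471 F3691) (tt N873 (iv F5213)) (tt N469 F3692) (tt N874 (iv F5219)) (tt N875 D1020) (tt N468 (iv D707)))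
theorem Q647 : ∀ i, i < 647 → P i := stepQ 646 Q646 (allL N646 (tt N646 F3693) (tt N802 (iv F4808)) (tt N495 F3694) (tt N871 (iv F5202)) (tt N472 F3695) (tt N876 D1021) (tt N875 (iv F5223)) (tt N646 F3696) (tt N469 (iv D708)) (tt N478 F3697))
theorem Q648 : ∀ i, i < 648 → P i := stepQ 647 Q647 (allL N647 (tt N647 F3698) (tt N803 (iv F4813)) (tt N496 F3699) (tt N838 (iv F4982)) (tt N874 (iv F5217)) (tt N647 F3700) (tt N647 F3701) (tt N471 F3702) (tt N877 D1022) (tt N470 (iv D709)))
theorem Q649 : ∀ i, i < 649 → P i := stepQ 648 Q648 (allL N648 (tt N648 F3703) (tt N804 (iv F4818)) (tt N497 F3704) (tt N839 (iv F4988)) (tt N875 (iv F5222)) (tt N878 D1023) (tt N472 F3705) (tt N877 (iv F5234)) (tt N471 (iv D710)) (tt N480 F3706))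
theorem Q650 : ∀ i, i < 650 → P i := stepQ 649 Q649 (allL N649 (tt N879 D1024) (tt N473 (iv D711)) (tt N805 (iv F4822)) (tt N498 F3707) (tt N840 (iv F4992)) (tt N485 F3708) (tt N880 D1025) (tt N649 F3709) (tt N865 (iv F5180)) (tt N881 D1026))
theorem Q651 : ∀ i, i < 651 → P i := stepQ 650 Q650 (allL N650 (tt N650 F3710) (tt N880 (iv F5245)) (tt N474 F3711) (tt N499 F3712) (tt N841 (iv F4998)) (tt N650 F3713) (tt N473 (iv D712)) (tt N882 D1027) (tt N866 (iv F5184)) (tt N883 D1028))
theorem Q652 : ∀ i, i < 652 → P i := stepQ 651 Q651 (allL N651 (tt N651 F3714) (tt N881 (iv F5248)) (tt N475 F3715) (tt N500 F3716) (tt N842 (iv F5002)) (tt N486 F3717) (tt N883 (iv F5261)) (tt N651 F3718) (tt N884 D1029) (tt N473 (iv D713)))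
theorem Q653 : ∀ i, i < 653 → P i := stepQ 652 Q652 (allL N652 (tt N652 F3719) (tt N808 (iv F4833)) (tt N882 (iv F5253)) (tt N476 F3720) (tt N844 (iv F5011)) (tt N652 F3721) (tt N652 F3722) (tt N474 (iv D714)) (tt N869 (iv F5197)) (tt N885 D1030))
theorem Q654 : ∀ i, i < 654 → P i := stepQ 653 Q653 (allL N653 (tt N653 F3723) (tt N809 (iv F4837)) (tt N883 (iv F5258)) (tt N477 F3724) (tt N845 (iv F5015)) (tt N653 F3725) (tt N475 F3726) (tt N885 (iv F5270)) (tt N886 D1031) (tt N474 (iv D715)))
theorem Q655 : ∀ i, i < 655 → P i := stepQ 654 Q654 (allL N654 (tt N654 F3727) (tt N810 (iv F4841)) (tt N884 (iv F5263)) (tt N478 F3728) (tt N846 (iv F5019)) (tt N887 D1032) (tt N886 (iv F5273)) (tt N654 F3729) (tt N475 (iv D716)) (tt N871 (iv F5204)))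
theorem Q656 : ∀ i, i < 656 → P i := stepQ 655 Q655 (allL N655 (tt N655 F3730) (tt N811 (iv F4844)) (tt N504 F3731) (tt N885 (iv F5267)) (tt N479 F3732) (tt N655 F3733) (tt N655 F3734) (tt N477 F3735) (tt N888 D1033) (tt N476 (iv D717)))
theorem Q657 : ∀ i, i < 657 → P i := stepQ 656 Q656 (allL N656 (tt N656 F3736) (tt N812 (iv F4850)) (tt N505 F3737) (tt N886 (iv F5272)) (tt N480 F3738) (tt N889 D1034) (tt N478 F3739) (tt N888 (iv F5282)) (tt N477 (iv D718)) (tt N875 (iv F5224)))
theorem Q658 : ∀ i, i < 658 → P i := stepQ 657 Q657 (allL N657 (tt N657 F3740) (tt N813 (iv F4854)) (tt N506 F3741) (tt N887 (iv F5275)) (tt N657 F3742) (tt N478 (iv D719)) (tt N890 D1035) (tt N657 F3743) (tt N488 F3744) (tt N876 (iv F5230)))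
theorem Q659 : ∀ i, i < 659 → P i := stepQ 658 Q658 (allL N658 (tt N658 F3745) (tt N814 (iv F4859)) (tt N507 F3746) (tt N853 (iv F5050)) (tt N888 (iv F5280)) (tt N891 D1036) (tt N658 F3747) (tt N480 F3748) (tt N479 (iv D720)) (tt N877 (iv F5235)))
theorem Q660 : ∀ i, i < 660 → P i := stepQ 659 Q659 (allL N659 (tt N659 F3749) (tt N815 (iv F4863)) (tt N508 F3750) (tt N854 (iv F5055)) (tt N892 D1037) (tt N480 (iv D721)) (tt N659 F3751) (tt N891 (iv F5292)) (tt N482 F3752) (tt N878 (iv F5240)))
theorem Q661 : ∀ i, i < 661 → P i := stepQ 660 Q660 (allL N660 (tt N660 F3753) (tt N816 (iv F4867)) (tt N509 F3754) (tt N862 (iv F5101)) (tt N893 D1038) (tt N481 (iv D722)) (tt N894 D1039) (tt N482 F3755) (tt N891 (iv F5293)) (tt N660 F3756))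
theorem Q662 : ∀ i, i < 662 → P i := stepQ 661 Q661 (allL N661 (tt N661 F3757) (tt N817 (iv F4871)) (tt N510 F3758) (tt N895 D1040) (tt N482 (iv D723)) (tt N661 F3759) (tt N661 F3760) (tt N893 (iv F5301)) (tt N892 (iv F5297)) (tt N661 F3761))
theorem Q663 : ∀ i, i < 663 → P i := stepQ 662 Q662 (allL N662 (tt N662 F3762) (tt N818 (iv F4876)) (tt N511 F3763) (tt N662 F20322) (tt N483 (iv D724)) (tt N662 F3764) (tt N521 F131644) (tt N484 F3765) (tt N662 F3766) (tt N662 F3767))
theorem Q664 : ∀ i, i < 664 → P i := stepQ 663 Q663 (allL N663 (tt N663 F3768) (tt N819 (iv F4882)) (tt N512 F3769) (tt N864 (iv F5168)) (tt N521 (iv F131230)) (tt N894 (iv F5305)) (tt N483 (iv D725)) (tt N663 F3770) (tt N663 F3771) (tt N663 F3772))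
theorem Q665 : ∀ i, i < 665 → P i := stepQ 664 Q664 (allL N664 (tt N485 (iv D727)) (tt N664 F3778) (tt N820 (iv F4892)) (tt N514 F3779) (tt N664 F3780) (tt N879 (iv F5243)) (tt N664 F3781) (tt N664 F3782) (tt N664 F3783) (tt N896 D1044))
theorem Q666 : ∀ i, i < 666 → P i := stepQ 665 Q665 (allL N665 (tt N896 (iv F5329)) (tt N486 F3784) (tt N821 (iv F4899)) (tt N515 F3785) (tt N665 F3786) (tt N881 (iv F5250)) (tt N665 F3787) (tt N665 F3788) (tt N897 D1045) (tt N485 (iv D728)))
theorem Q667 : ∀ i, i < 667 → P i := stepQ 666 Q666 (allL N666 (tt N666 F3789) (tt N897 (iv F5335)) (tt N487 F3790) (tt N516 F3791) (tt N666 F3792) (tt N898 D1046) (tt N666 F3793) (tt N666 F3794) (tt N486 (iv D729)) (tt N666 F3795))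
theorem Q668 : ∀ i, i < 668 → P i := stepQ 667 Q667 (allL N667 (tt N667 F3796) (tt N823 (iv F4910)) (tt N898 (iv F5342)) (tt N488 F3797) (tt N899 D1047) (tt N487 (iv D730)) (tt N900 D1048) (tt N667 F3798) (tt N887 (iv F5277)) (tt N667 F3799))
theorem Q669 : ∀ i, i < 669 → P i := stepQ 668 Q668 (allL N668 (tt N668 F3800) (tt N824 (iv F4914)) (tt N518 F3801) (tt N900 (iv F5352)) (tt N668 F3802) (tt N668 F3803) (tt N488 (iv D731)) (tt N901 D1049) (tt N890 (iv F5289)) (tt N668 F3804))
theorem Q670 : ∀ i, i < 670 → P i := stepQ 669 Q669 (allL N669 (tt N902 D1050) (tt N489 (iv D732)) (tt N669 F3805) (tt N865 (iv F5177)) (tt N669 F3806) (tt N669 F3807) (tt N903 D1051) (tt N669 F3808) (tt N498 F3809) (tt N904 D1052))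
theorem Q671 : ∀ i, i < 671 → P i := stepQ 670 Q670 (allL N670 (tt N670 F3810) (tt N903 (iv F5367)) (tt N490 F3811) (tt N866 (iv F5183)) (tt N670 F3812) (tt N905 D1053) (tt N489 (iv D733)) (tt N906 D1054) (tt N499 F3813) (tt N907 D1055))
theorem Q672 : ∀ i, i < 672 → P i := stepQ 671 Q671 (allL N671 (tt N671 F3814) (tt N904 (iv F5371)) (tt N491 F3815) (tt N867 (iv F5187)) (tt N671 F3816) (tt N671 F3817) (tt N907 (iv F5388)) (tt N671 F3818) (tt N908 D1056) (tt N489 (iv D734)))
theorem Q673 : ∀ i, i < 673 → P i := stepQ 672 Q672 (allL N672 (tt N672 F3819) (tt N672 F3820) (tt N905 (iv F5377)) (tt N492 F3821) (tt N909 D1057) (tt N490 (iv D735)) (tt N672 F3822) (tt N910 D1058) (tt N672 F3823) (tt N911 D1059))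
theorem Q674 : ∀ i, i < 674 → P i := stepQ 673 Q673 (allL N673 (tt N673 F3824) (tt N673 F3825) (tt N906 (iv F5381)) (tt N493 F3826) (tt N673 F3827) (tt N910 (iv F5403)) (tt N673 F3828) (tt N490 (iv D736)) (tt N501 F3829) (tt N912 D1060))
theorem Q675 : ∀ i, i < 675 → P i := stepQ 674 Q674 (allL N674 (tt N674 F3830) (tt N674 F3831) (tt N907 (iv F5386)) (tt N494 F3832) (tt N674 F3833) (tt N911 (iv F5408)) (tt N491 F3834) (tt N912 (iv F5415)) (tt N913 D1061) (tt N490 (iv D737)))
theorem Q676 : ∀ i, i < 676 → P i := stepQ 675 Q675 (allL N675 (tt N675 F3835) (tt N675 F3836) (tt N908 (iv F5390)) (tt N495 F3837) (tt N675 F3838) (tt N914 D1062) (tt N913 (iv F5420)) (tt N675 F3839) (tt N491 (iv D738)) (tt N503 F3840))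
theorem Q677 : ∀ i, i < 677 → P i := stepQ 676 Q676 (allL N676 (tt N676 F3841) (tt N676 F3842) (tt N872 (iv F5206)) (tt N910 (iv F5402)) (tt N676 F3843) (tt N493 F3844) (tt N915 D1063) (tt N492 (iv D739)) (tt N676 F3845) (tt N916 D1064))
theorem Q678 : ∀ i, i < 678 → P i := stepQ 677 Q677 (allL N677 (tt N677 F3846) (tt N677 F3847) (tt N873 (iv F5211)) (tt N911 (iv F5407)) (tt N677 F3848) (tt N494 F3849) (tt N677 F3850) (tt N916 (iv F5438)) (tt N917 D1065) (tt N492 (iv D740)))
theorem Q679 : ∀ i, i < 679 → P i := stepQ 678 Q678 (allL N678 (tt N678 F3851) (tt N678 F3852) (tt N874 (iv F5216)) (tt N912 (iv F5412)) (tt N496 F3853) (tt N916 (iv F5437)) (tt N678 F3854) (tt N494 F3855) (tt N918 D1066) (tt N493 (iv D741)))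
theorem Q680 : ∀ i, i < 680 → P i := stepQ 679 Q679 (allL N679 (tt N679 F3856) (tt N679 F3857) (tt N875 (iv F5221)) (tt N913 (iv F5418)) (tt N497 F3858) (tt N919 D1067) (tt N495 F3859) (tt N918 (iv F5448)) (tt N494 (iv D742)) (tt N505 F3860))
theorem Q681 : ∀ i, i < 681 → P i := stepQ 680 Q680 (allL N680 (tt N680 F3861) (tt N680 F3862) (tt N876 (iv F5226)) (tt N914 (iv F5424)) (tt N680 F3863) (tt N495 (iv D743)) (tt N920 D1068) (tt N680 F3864) (tt N680 F3865) (tt N506 F3866))
theorem Q682 : ∀ i, i < 682 → P i := stepQ 681 Q681 (allL N681 (tt N681 F3867) (tt N681 F3868) (tt N877 (iv F5232)) (tt N681 F3869) (tt N918 (iv F5446)) (tt N921 D1069) (tt N681 F3870) (tt N497 F3871) (tt N496 (iv D744)) (tt N507 F3872))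
theorem Q683 : ∀ i, i < 683 → P i := stepQ 682 Q682 (allL N682 (tt N682 F3873) (tt N682 F3874) (tt N878 (iv F5237)) (tt N682 F3875) (tt N922 D1070) (tt N497 (iv D745)) (tt N682 F3876) (tt N921 (iv F5461)) (tt N682 F3877) (tt N508 F3878))
theorem Q684 : ∀ i, i < 684 → P i := stepQ 683 Q683 (allL N683 (tt N498 (iv D746)) (tt N683 F3879) (tt N683 F3880) (tt N879 (iv F5242)) (tt N683 F3881) (tt N514 F3882) (tt N923 D1071) (tt N683 F3883) (tt N902 (iv F5366)) (tt N924 D1072))
theorem Q685 : ∀ i, i < 685 → P i := stepQ 684 Q684 (allL N684 (tt N923 (iv F5469)) (tt N499 F3884) (tt N684 F3885) (tt N880 (iv F5246)) (tt N684 F3886) (tt N684 F3887) (tt N498 (iv D747)) (tt N925 D1073) (tt N903 (iv F5370)) (tt N926 D1074))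
theorem Q686 : ∀ i, i < 686 → P i := stepQ 685 Q685 (allL N685 (tt N924 (iv F5474)) (tt N500 F3888) (tt N685 F3889) (tt N881 (iv F5249)) (tt N685 F3890) (tt N515 F3891) (tt N926 (iv F5489)) (tt N685 F3892) (tt N927 D1075) (tt N498 (iv D748)))
theorem Q687 : ∀ i, i < 687 → P i := stepQ 686 Q686 (allL N686 (tt N686 F3893) (tt N925 (iv F5480)) (tt N501 F3894) (tt N882 (iv F5254)) (tt N686 F3895) (tt N686 F3896) (tt N686 F3897) (tt N499 (iv D749)) (tt N906 (iv F5384)) (tt N928 D1076))
theorem Q688 : ∀ i, i < 688 → P i := stepQ 687 Q687 (allL N687 (tt N687 F3898) (tt N926 (iv F5485)) (tt N502 F3899) (tt N883 (iv F5259)) (tt N687 F3900) (tt N687 F3901) (tt N500 F3902) (tt N928 (iv F5499)) (tt N929 D1077) (tt N499 (iv D750)))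
theorem Q689 : ∀ i, i < 689 → P i := stepQ 688 Q688 (allL N688 (tt N688 F3903) (tt N927 (iv F5490)) (tt N503 F3904) (tt N884 (iv F5264)) (tt N688 F3905) (tt N930 D1078) (tt N929 (iv F5503)) (tt N688 F3906) (tt N500 (iv D751)) (tt N908 (iv F5393)))
theorem Q690 : ∀ i, i < 690 → P i := stepQ 689 Q689 (allL N689 (tt N689 F3907) (tt N689 F3908) (tt N928 (iv F5495)) (tt N504 F3909) (tt N689 F3910) (tt N689 F3911) (tt N689 F3912) (tt N502 F3913) (tt N931 D1079) (tt N501 (iv D752)))
theorem Q691 : ∀ i, i < 691 → P i := stepQ 690 Q690 (allL N690 (tt N690 F3914) (tt N690 F3915) (tt N929 (iv F5501)) (tt N505 F3916) (tt N690 F3917) (tt N932 D1080) (tt N503 F3918) (tt N931 (iv F5513)) (tt N502 (iv D753)) (tt N913 (iv F5421)))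
theorem Q692 : ∀ i, i < 692 → P i := stepQ 691 Q691 (allL N691 (tt N691 F3919) (tt N691 F3920) (tt N930 (iv F5505)) (tt N506 F3921) (tt N933 D1081) (tt N503 (iv D754)) (tt N934 D1082) (tt N691 F3922) (tt N517 F3923) (tt N914 (iv F5427)))
theorem Q693 : ∀ i, i < 693 → P i := stepQ 692 Q692 (allL N692 (tt N692 F3924) (tt N692 F3925) (tt N888 (iv F5279)) (tt N931 (iv F5510)) (tt N507 F3926) (tt N935 D1083) (tt N692 F3927) (tt N505 F3928) (tt N504 (iv D755)) (tt N918 (iv F5449)))
theorem Q694 : ∀ i, i < 694 → P i := stepQ 693 Q693 (allL N693 (tt N693 F3929) (tt N693 F3930) (tt N889 (iv F5284)) (tt N932 (iv F5516)) (tt N936 D1084) (tt N505 (iv D756)) (tt N937 D1085) (tt N935 (iv F5530)) (tt N693 F3931) (tt N919 (iv F5452)))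
theorem Q695 : ∀ i, i < 695 → P i := stepQ 694 Q694 (allL N694 (tt N694 F3932) (tt N694 F3933) (tt N890 (iv F5287)) (tt N934 (iv F5526)) (tt N694 F3934) (tt N937 (iv F5538)) (tt N506 (iv D757)) (tt N938 D1086) (tt N518 F3935) (tt N920 (iv F5457)))
theorem Q696 : ∀ i, i < 696 → P i := stepQ 695 Q695 (allL N695 (tt N695 F3936) (tt N695 F3937) (tt N891 (iv F5291)) (tt N695 F3938) (tt N934 F130949) (tt N507 (iv D758)) (tt N933 F130950) (tt N508 F3939) (tt N509 F3940) (tt N921 (iv F5463)))
theorem Q697 : ∀ i, i < 697 → P i := stepQ 696 Q696 (allL N696 (tt N696 F3941) (tt N696 F3942) (tt N892 (iv F5295)) (tt N938 F130951) (tt N508 (iv D759)) (tt N936 (iv F5534)) (tt N696 F3943) (tt N934 F130952) (tt N510 F3944) (tt N922 (iv F5468)))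
theorem Q698 : ∀ i, i < 698 → P i := stepQ 697 Q697 (allL N697 (tt N697 F3945) (tt N697 F3946) (tt N893 (iv F5299)) (tt N518 (iv F130704)) (tt N509 (iv D760)) (tt N697 F3947) (tt N517 (iv F130702)) (tt N510 F3948) (tt N934 (iv F130697)) (tt N697 F3949))
theorem Q699 : ∀ i, i < 699 → P i := stepQ 698 Q698 (allL N698 (tt N698 F3950) (tt N698 F3951) (tt N894 (iv F5304)) (tt N698 F3952) (tt N517 (iv F130701)) (tt N512 F3953) (tt N509 (iv D761)) (tt N698 F3954) (tt N933 (iv F130698)) (tt N698 F3955))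
theorem Q700 : ∀ i, i < 700 → P i := stepQ 699 Q699 (allL N699 (tt N699 F3956) (tt N699 F3957) (tt N901 (iv F130706)) (tt N510 (iv D762)) (tt N699 F3958) (tt N699 F3959) (tt N699 F3960) (tt N518 (iv F130705)) (tt N938 (iv F130699)) (tt N699 F3961))
theorem Q701 : ∀ i, i < 701 → P i := stepQ 700 Q700 (allL N700 (tt N515 F3981) (tt N700 F3982) (tt N700 F3983) (tt N896 (iv F5331)) (tt N519 F3984) (tt N924 (iv F5478)) (tt N700 F3985) (tt N700 F3986) (tt N939 D1097) (tt N514 (iv D766)))
theorem Q702 : ∀ i, i < 702 → P i := stepQ 701 Q701 (allL N701 (tt N939 (iv F5600)) (tt N516 F3987) (tt N701 F3988) (tt N897 (iv F5336)) (tt N520 F3989) (tt N940 D1098) (tt N701 F3990) (tt N701 F3991) (tt N515 (iv D767)) (tt N701 F3992))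
theorem Q703 : ∀ i, i < 703 → P i := stepQ 702 Q702 (allL N702 (tt N702 F3993) (tt N940 (iv F5607)) (tt N517 F3994) (tt N898 (iv F5343)) (tt N894 (iv F130700)) (tt N516 (iv D768)) (tt N893 (iv F130703)) (tt N702 F3995) (tt N930 (iv F5507)) (tt N702 F3996))
theorem Q704 : ∀ i, i < 704 → P i := stepQ 703 Q703 (allL N703 (tt N520 F4014) (tt N703 F4015) (tt N703 F4016) (tt N703 F4017) (tt N939 (iv F5603)) (tt N941 D1103) (tt N703 F4018) (tt N703 F4019) (tt N519 (iv D772)) (tt N703 F4020))
theorem Q705 : ∀ i, i < 705 → P i := stepQ 704 Q704 (allL N704 (tt N941 (iv F5631)) (tt N521 F4021) (tt N704 F4022) (tt N704 F4023) (tt N819 (iv F131229)) (tt N520 (iv D773)) (tt N818 (iv F131467)) (tt N704 F4024) (tt N704 F4025) (tt N704 F4026))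
theorem Q706 : ∀ i, i < 706 → P i := stepQ 705 Q705 (allL N705 (tt N705 F4051) (tt N525 F4052) (tt N705 F4053) (tt N942 D1111) (tt N522 (iv D778)) (tt N705 F4054) (tt N705 F4055) (tt N705 F4056) (tt N943 D1112) (tt N705 F4057))
theorem Q707 : ∀ i, i < 707 → P i := stepQ 706 Q706 (allL N706 (tt N706 F4058) (tt N526 F4059) (tt N706 F4060) (tt N706 F4061) (tt N943 (iv F5689)) (tt N944 D1113) (tt N706 F4062) (tt N706 F4063) (tt N522 (iv D779)) (tt N945 D1114))
theorem Q708 : ∀ i, i < 708 → P i := stepQ 707 Q707 (allL N707 (tt N707 F4064) (tt N527 F4065) (tt N707 F4066) (tt N707 F4067) (tt N946 D1115) (tt N523 (iv D780)) (tt N630 (iv F20005)) (tt N707 F4068) (tt N944 (iv F5697)) (tt N947 D1117))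
theorem Q709 : ∀ i, i < 709 → P i := stepQ 708 Q708 (allL N708 (tt N708 F4069) (tt N528 F4070) (tt N708 F4071) (tt N708 F4072) (tt N708 F4073) (tt N947 (iv F5719)) (tt N524 F4074) (tt N708 F4075) (tt N708 F4076) (tt N523 (iv D781)))
theorem Q710 : ∀ i, i < 710 → P i := stepQ 709 Q709 (allL N709 (tt N562 F4127) (tt N942 (iv F5680)) (tt N709 F4128) (tt N525 (iv D791)) (tt N709 F4129) (tt N709 F4130) (tt N709 F4131) (tt N709 F4132) (tt N948 D1133) (tt N709 F4133))
theorem Q711 : ∀ i, i < 711 → P i := stepQ 710 Q710 (allL N710 (tt N563 F4134) (tt N943 (iv F5687)) (tt N532 F4135) (tt N948 (iv F5806)) (tt N526 F4136) (tt N949 D1134) (tt N710 F4137) (tt N710 F4138) (tt N525 (iv D792)) (tt N950 D1135))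
theorem Q712 : ∀ i, i < 712 → P i := stepQ 711 Q711 (allL N711 (tt N564 F4139) (tt N944 (iv F5693)) (tt N533 F4140) (tt N711 F4141) (tt N951 D1136) (tt N526 (iv D793)) (tt N952 D1137) (tt N711 F4142) (tt N527 F4143) (tt N953 D1138))
theorem Q713 : ∀ i, i < 713 → P i := stepQ 712 Q712 (allL N712 (tt N565 F4144) (tt N945 (iv F5699)) (tt N534 F4145) (tt N712 F4146) (tt N950 (iv F5816)) (tt N953 (iv F5832)) (tt N712 F4147) (tt N712 F4148) (tt N712 F4149) (tt N526 (iv D794)))
theorem Q714 : ∀ i, i < 714 → P i := stepQ 713 Q713 (allL N713 (tt N566 F4150) (tt N946 (iv F5706)) (tt N535 F4151) (tt N954 D1139) (tt N527 (iv D795)) (tt N713 F4152) (tt N955 D1140) (tt N713 F4153) (tt N951 (iv F5823)) (tt N956 D1141))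
theorem Q715 : ∀ i, i < 715 → P i := stepQ 714 Q714 (allL N714 (tt N567 F4154) (tt N630 (iv F20004)) (tt N536 F4155) (tt N714 F4156) (tt N955 (iv F5840)) (tt N529 F4157) (tt N527 (iv D796)) (tt N582 (iv F20009)) (tt N952 (iv F5828)) (tt N957 D1143))
theorem Q716 : ∀ i, i < 716 → P i := stepQ 715 Q715 (allL N715 (tt N568 F4158) (tt N947 (iv F5716)) (tt N537 F4159) (tt N715 F4160) (tt N956 (iv F5843)) (tt N528 F4161) (tt N957 (iv F5855)) (tt N715 F4162) (tt N958 D1144) (tt N527 (iv D797)))
theorem Q717 : ∀ i, i < 717 → P i := stepQ 716 Q716 (allL N716 (tt N569 F4183) (tt N633 (iv F20087)) (tt N541 F4184) (tt N716 F4185) (tt N585 (iv F20071)) (tt N957 (iv F5854)) (tt N530 F4186) (tt N583 (iv F20069)) (tt N959 D1152) (tt N529 (iv D802)))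
theorem Q718 : ∀ i, i < 718 → P i := stepQ 717 Q717 (allL N717 (tt N570 F4187) (tt N638 (iv F20088)) (tt N542 F4188) (tt N717 F4189) (tt N588 (iv F20098)) (tt N717 F4190) (tt N959 (iv F5897)) (tt N531 F4191) (tt N530 (iv D803)) (tt N717 F4192))
theorem Q719 : ∀ i, i < 719 → P i := stepQ 718 Q718 (allL N718 (tt N571 F4229) (tt N718 F4230) (tt N949 (iv F5811)) (tt N718 F4231) (tt N960 D1165) (tt N532 (iv D812)) (tt N961 D1166) (tt N718 F4232) (tt N718 F4233) (tt N962 D1167))
theorem Q720 : ∀ i, i < 720 → P i := stepQ 719 Q719 (allL N719 (tt N572 F4234) (tt N719 F4235) (tt N950 (iv F5815)) (tt N719 F4236) (tt N534 F4237) (tt N962 (iv F5970)) (tt N719 F4238) (tt N719 F4239) (tt N719 F4240) (tt N532 (iv D813)))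
theorem Q721 : ∀ i, i < 721 → P i := stepQ 720 Q720 (allL N720 (tt N573 F4241) (tt N720 F4242) (tt N951 (iv F5821)) (tt N963 D1168) (tt N533 (iv D814)) (tt N960 (iv F5959)) (tt N964 D1169) (tt N720 F4243) (tt N535 F4244) (tt N965 D1170))
theorem Q722 : ∀ i, i < 722 → P i := stepQ 721 Q721 (allL N721 (tt N574 F4245) (tt N721 F4246) (tt N952 (iv F5825)) (tt N547 F4247) (tt N964 (iv F5979)) (tt N721 F4248) (tt N533 (iv D815)) (tt N966 D1171) (tt N536 F4249) (tt N967 D1172))
theorem Q723 : ∀ i, i < 723 → P i := stepQ 722 Q722 (allL N722 (tt N575 F4250) (tt N722 F4251) (tt N953 (iv F5830)) (tt N548 F4252) (tt N965 (iv F5983)) (tt N534 F4253) (tt N967 (iv F5995)) (tt N722 F4254) (tt N968 D1173) (tt N533 (iv D816)))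
theorem Q724 : ∀ i, i < 724 → P i := stepQ 723 Q723 (allL N723 (tt N576 F4255) (tt N723 F4256) (tt N969 D1174) (tt N535 (iv D817)) (tt N549 F4257) (tt N723 F4258) (tt N970 D1175) (tt N723 F4259) (tt N963 (iv F5976)) (tt N971 D1176))
theorem Q725 : ∀ i, i < 725 → P i := stepQ 724 Q724 (allL N724 (tt N577 F4260) (tt N724 F4261) (tt N955 (iv F5839)) (tt N970 (iv F6008)) (tt N536 F4262) (tt N972 D1177) (tt N535 (iv D818)) (tt N973 D1178) (tt N964 (iv F5980)) (tt N974 D1179))
theorem Q726 : ∀ i, i < 726 → P i := stepQ 725 Q725 (allL N725 (tt N578 F4263) (tt N725 F4264) (tt N956 (iv F5842)) (tt N971 (iv F6012)) (tt N537 F4265) (tt N725 F4266) (tt N974 (iv F6027)) (tt N725 F4267) (tt N975 D1180) (tt N535 (iv D819)))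
theorem Q727 : ∀ i, i < 727 → P i := stepQ 726 Q726 (allL N726 (tt N579 F4268) (tt N726 F4269) (tt N582 (iv F20008)) (tt N552 F4270) (tt N973 (iv F6022)) (tt N540 F4271) (tt N726 F4272) (tt N536 (iv D820)) (tt N966 (iv F5990)) (tt N976 D1181))
theorem Q728 : ∀ i, i < 728 → P i := stepQ 727 Q727 (allL N727 (tt N580 F4273) (tt N727 F4274) (tt N957 (iv F5852)) (tt N553 F4275) (tt N974 (iv F6026)) (tt N541 F4276) (tt N537 F4277) (tt N976 (iv F6037)) (tt N977 D1182) (tt N536 (iv D821)))
theorem Q729 : ∀ i, i < 729 → P i := stepQ 728 Q728 (allL N728 (tt N581 F4278) (tt N728 F4279) (tt N958 (iv F5857)) (tt N554 F4280) (tt N975 (iv F6030)) (tt N728 F4281) (tt N977 (iv F6041)) (tt N728 F4282) (tt N537 (iv D822)) (tt N968 (iv F6001)))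
theorem Q730 : ∀ i, i < 730 → P i := stepQ 729 Q729 (allL N729 (tt N582 F4283) (tt N729 F4284) (tt N579 F20018) (tt N729 F4285) (tt N972 (iv F6018)) (tt N538 (iv D823)) (tt N729 F4286) (tt N567 F20019) (tt N978 D1184) (tt N979 D1185))
theorem Q731 : ∀ i, i < 731 → P i := stepQ 730 Q730 (allL N730 (tt N583 F4293) (tt N730 F4294) (tt N585 (iv F20070)) (tt N730 F4295) (tt N541 F4296) (tt N979 (iv F6054)) (tt N539 F4297) (tt N569 (iv F20057)) (tt N980 D1187) (tt N538 (iv D825)))
theorem Q732 : ∀ i, i < 732 → P i := stepQ 731 Q731 (allL N731 (tt N584 F4298) (tt N731 F4299) (tt N588 (iv F20097)) (tt N731 F4300) (tt N542 F4301) (tt N981 D1188) (tt N980 (iv F6066)) (tt N543 F4302) (tt N539 (iv D826)) (tt N731 F4303))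
theorem Q733 : ∀ i, i < 733 → P i := stepQ 732 Q732 (allL N732 (tt N585 F4304) (tt N732 F4305) (tt N583 (iv F20068)) (tt N555 F4306) (tt N569 (iv F20056)) (tt N976 (iv F6035)) (tt N544 F4307) (tt N541 F4308) (tt N982 D1189) (tt N540 (iv D827)))
theorem Q734 : ∀ i, i < 734 → P i := stepQ 733 Q733 (allL N733 (tt N586 F4309) (tt N733 F4310) (tt N959 (iv F5895)) (tt N556 F4311) (tt N980 (iv F6065)) (tt N983 D1190) (tt N542 F4312) (tt N982 (iv F6079)) (tt N541 (iv D828)) (tt N733 F4313))
theorem Q735 : ∀ i, i < 735 → P i := stepQ 734 Q734 (allL N734 (tt N587 F4342) (tt N734 F4343) (tt N589 (iv F20249)) (tt N734 F4344) (tt N734 F4345) (tt N543 (iv D834)) (tt N734 F20261) (tt N981 (iv F6072)) (tt N734 F4346) (tt N734 F4347))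
theorem Q736 : ∀ i, i < 736 → P i := stepQ 735 Q735 (allL N735 (tt N588 F4348) (tt N735 F4349) (tt N584 F20109) (tt N557 F4350) (tt N570 F20110) (tt N984 D1199) (tt N982 (iv F6078)) (tt N545 F4351) (tt N544 (iv D835)) (tt N735 F4352))
theorem Q737 : ∀ i, i < 737 → P i := stepQ 736 Q736 (allL N736 (tt N589 F4353) (tt N736 F4354) (tt N587 (iv F20248)) (tt N558 F4355) (tt N736 F20262) (tt N545 (iv D836)) (tt N736 F4356) (tt N984 (iv F6133)) (tt N736 F4357) (tt N736 F4358))
theorem Q738 : ∀ i, i < 738 → P i := stepQ 737 Q737 (allL N737 (tt N590 F4359) (tt N737 F4360) (tt N985 D1201) (tt N546 (iv D837)) (tt N963 (iv F5974)) (tt N737 F4361) (tt N986 D1202) (tt N737 F4362) (tt N549 F4363) (tt N987 D1203))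
theorem Q739 : ∀ i, i < 739 → P i := stepQ 738 Q738 (allL N738 (tt N591 F4364) (tt N738 F4365) (tt N738 F4366) (tt N986 (iv F6148)) (tt N547 F4367) (tt N988 D1204) (tt N546 (iv D838)) (tt N989 D1205) (tt N550 F4368) (tt N990 D1206))
theorem Q740 : ∀ i, i < 740 → P i := stepQ 739 Q739 (allL N739 (tt N592 F4369) (tt N739 F4370) (tt N739 F4371) (tt N987 (iv F6152)) (tt N548 F4372) (tt N739 F4373) (tt N990 (iv F6171)) (tt N739 F4374) (tt N991 D1207) (tt N546 (iv D839)))
theorem Q741 : ∀ i, i < 741 → P i := stepQ 740 Q740 (allL N740 (tt N593 F4375) (tt N740 F4376) (tt N740 F4377) (tt N966 (iv F5987)) (tt N989 (iv F6164)) (tt N740 F4378) (tt N740 F4379) (tt N547 (iv D840)) (tt N552 F4380) (tt N992 D1208))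
theorem Q742 : ∀ i, i < 742 → P i := stepQ 741 Q741 (allL N741 (tt N594 F4381) (tt N741 F4382) (tt N741 F4383) (tt N967 (iv F5993)) (tt N990 (iv F6170)) (tt N741 F4384) (tt N548 F4385) (tt N992 (iv F6183)) (tt N993 D1209) (tt N547 (iv D841)))
theorem Q743 : ∀ i, i < 743 → P i := stepQ 742 Q742 (allL N742 (tt N595 F4386) (tt N742 F4387) (tt N742 F4388) (tt N968 (iv F5998)) (tt N991 (iv F6175)) (tt N742 F4389) (tt N993 (iv F6187)) (tt N742 F4390) (tt N548 (iv D842)) (tt N554 F4391))
theorem Q744 : ∀ i, i < 744 → P i := stepQ 743 Q743 (allL N743 (tt N596 F4392) (tt N994 D1210) (tt N549 (iv D843)) (tt N743 F4393) (tt N969 (iv F6003)) (tt N559 F4394) (tt N995 D1211) (tt N743 F4395) (tt N985 (iv F6145)) (tt N996 D1212))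
theorem Q745 : ∀ i, i < 745 → P i := stepQ 744 Q744 (allL N744 (tt N597 F4396) (tt N744 F4397) (tt N995 (iv F6194)) (tt N550 F4398) (tt N970 (iv F6009)) (tt N744 F4399) (tt N549 (iv D844)) (tt N997 D1213) (tt N986 (iv F6149)) (tt N998 D1214))
theorem Q746 : ∀ i, i < 746 → P i := stepQ 745 Q745 (allL N745 (tt N598 F4400) (tt N745 F4401) (tt N996 (iv F6198)) (tt N551 F4402) (tt N971 (iv F6013)) (tt N560 F4403) (tt N998 (iv F6211)) (tt N745 F4404) (tt N999 D1215) (tt N549 (iv D845)))
theorem Q747 : ∀ i, i < 747 → P i := stepQ 746 Q746 (allL N746 (tt N599 F4405) (tt N746 F4406) (tt N746 F4407) (tt N997 (iv F6204)) (tt N552 F4408) (tt N746 F4409) (tt N746 F4410) (tt N550 (iv D846)) (tt N989 (iv F6166)) (tt N1000 D1216))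
theorem Q748 : ∀ i, i < 748 → P i := stepQ 747 Q747 (allL N747 (tt N600 F4411) (tt N747 F4412) (tt N747 F4413) (tt N998 (iv F6209)) (tt N553 F4414) (tt N747 F4415) (tt N551 F4416) (tt N1000 (iv F6222)) (tt N1001 D1217) (tt N550 (iv D847)))
theorem Q749 : ∀ i, i < 749 → P i := stepQ 748 Q748 (allL N748 (tt N601 F4417) (tt N748 F4418) (tt N748 F4419) (tt N999 (iv F6214)) (tt N554 F4420) (tt N1002 D1218) (tt N1001 (iv F6227)) (tt N748 F4421) (tt N551 (iv D848)) (tt N991 (iv F6177)))
theorem Q750 : ∀ i, i < 750 → P i := stepQ 749 Q749 (allL N749 (tt N602 F4422) (tt N749 F4423) (tt N749 F4424) (tt N976 (iv F6034)) (tt N1000 (iv F6219)) (tt N555 F4425) (tt N749 F4426) (tt N553 F4427) (tt N1003 D1219) (tt N552 (iv D849)))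
theorem Q751 : ∀ i, i < 751 → P i := stepQ 750 Q750 (allL N750 (tt N603 F4428) (tt N750 F4429) (tt N750 F4430) (tt N977 (iv F6040)) (tt N1001 (iv F6226)) (tt N1004 D1220) (tt N554 F4431) (tt N1003 (iv F6238)) (tt N553 (iv D850)) (tt N993 (iv F6188)))
theorem Q752 : ∀ i, i < 752 → P i := stepQ 751 Q751 (allL N751 (tt N604 F4432) (tt N751 F4433) (tt N751 F4434) (tt N982 (iv F6077)) (tt N751 F4435) (tt N1005 D1221) (tt N557 F4436) (tt N556 F4437) (tt N555 (iv D851)) (tt N751 F4438))
theorem Q753 : ∀ i, i < 753 → P i := stepQ 752 Q752 (allL N752 (tt N605 F4439) (tt N752 F4440) (tt N752 F4441) (tt N983 (iv F6083)) (tt N1006 D1222) (tt N556 (iv D852)) (tt N752 F4442) (tt N1005 (iv F6247)) (tt N1004 (iv F6243)) (tt N752 F4443))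
theorem Q754 : ∀ i, i < 754 → P i := stepQ 753 Q753 (allL N753 (tt N606 F4444) (tt N753 F4445) (tt N753 F4446) (tt N984 (iv F6132)) (tt N1007 D1223) (tt N557 (iv D853)) (tt N1008 D1224) (tt N558 F4447) (tt N753 F4448) (tt N753 F4449))
theorem Q755 : ∀ i, i < 755 → P i := stepQ 754 Q754 (allL N754 (tt N607 F4450) (tt N754 F4451) (tt N754 F4452) (tt N754 F20264) (tt N558 (iv D854)) (tt N754 F4453) (tt N754 F4454) (tt N1007 (iv F6259)) (tt N754 F4455) (tt N754 F4456))
theorem Q756 : ∀ i, i < 756 → P i := stepQ 755 Q755 (allL N755 (tt N1009 D1226) (tt N559 (iv D855)) (tt N755 F4457) (tt N755 F4458) (tt N755 F4459) (tt N994 (iv F6191)) (tt N755 F4460) (tt N755 F4461) (tt N755 F4462) (tt N1010 D1227))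
theorem Q757 : ∀ i, i < 757 → P i := stepQ 756 Q756 (allL N756 (tt N609 F4463) (tt N1010 (iv F6281)) (tt N560 F4464) (tt N756 F4465) (tt N756 F4466) (tt N996 (iv F6200)) (tt N756 F4467) (tt N756 F4468) (tt N1011 D1228) (tt N559 (iv D856)))
theorem Q758 : ∀ i, i < 758 → P i := stepQ 757 Q757 (allL N757 (tt N610 F4469) (tt N757 F4470) (tt N1011 (iv F6288)) (tt N561 F4471) (tt N757 F4472) (tt N1012 D1229) (tt N757 F4473) (tt N757 F4474) (tt N560 (iv D857)) (tt N757 F4475))
theorem Q759 : ∀ i, i < 759 → P i := stepQ 758 Q758 (allL N758 (tt N611 F4476) (tt N758 F4477) (tt N758 F4478) (tt N1012 (iv F6296)) (tt N758 F4479) (tt N561 (iv D858)) (tt N1013 D1230) (tt N758 F4480) (tt N1002 (iv F6233)) (tt N758 F4481))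
theorem Q760 : ∀ i, i < 760 → P i := stepQ 759 Q759 (allL N759 (tt N948 (iv F5804)) (tt N759 F4482) (tt N759 F4483) (tt N563 F4484) (tt N759 F4485) (tt N1014 D1231) (tt N759 F4486) (tt N759 F4487) (tt N562 (iv D859)) (tt N1015 D1232))
theorem Q761 : ∀ i, i < 761 → P i := stepQ 760 Q760 (allL N760 (tt N949 (iv F5810)) (tt N760 F4488) (tt N571 F4489) (tt N1014 (iv F6307)) (tt N1016 D1233) (tt N563 (iv D860)) (tt N1017 D1234) (tt N760 F4490) (tt N760 F4491) (tt N1018 D1235))
theorem Q762 : ∀ i, i < 762 → P i := stepQ 761 Q761 (allL N761 (tt N950 (iv F5814)) (tt N761 F4492) (tt N572 F4493) (tt N1015 (iv F6312)) (tt N565 F4494) (tt N1018 (iv F6328)) (tt N761 F4495) (tt N761 F4496) (tt N761 F4497) (tt N563 (iv D861)))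
theorem Q763 : ∀ i, i < 763 → P i := stepQ 762 Q762 (allL N762 (tt N951 (iv F5820)) (tt N762 F4498) (tt N573 F4499) (tt N1019 D1236) (tt N564 (iv D862)) (tt N1016 (iv F6319)) (tt N1020 D1237) (tt N762 F4500) (tt N566 F4501) (tt N1021 D1238))
theorem Q764 : ∀ i, i < 764 → P i := stepQ 763 Q763 (allL N763 (tt N952 (iv F5824)) (tt N763 F4502) (tt N574 F4503) (tt N763 F4504) (tt N1020 (iv F6336)) (tt N763 F4505) (tt N564 (iv D863)) (tt N978 (iv F20051)) (tt N567 F4506) (tt N1022 D1240))
theorem Q765 : ∀ i, i < 765 → P i := stepQ 764 Q764 (allL N764 (tt N953 (iv F5829)) (tt N764 F4507) (tt N575 F4508) (tt N764 F4509) (tt N1021 (iv F6340)) (tt N565 F4510) (tt N1022 (iv F6352)) (tt N764 F4511) (tt N1023 D1241) (tt N564 (iv D864)))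
theorem Q766 : ∀ i, i < 766 → P i := stepQ 765 Q765 (allL N765 (tt N954 (iv F5834)) (tt N765 F4512) (tt N1024 D1242) (tt N566 (iv D865)) (tt N765 F4513) (tt N765 F4514) (tt N1025 D1243) (tt N765 F4515) (tt N1019 (iv F6333)) (tt N1026 D1244))
theorem Q767 : ∀ i, i < 767 → P i := stepQ 766 Q766 (allL N766 (tt N955 (iv F5838)) (tt N766 F4516) (tt N577 F4517) (tt N1025 (iv F6364)) (tt N567 F4518) (tt N973 F20016) (tt N566 (iv D866)) (tt N972 F20017) (tt N1020 (iv F6337)) (tt N1027 D1247))
theorem Q768 : ∀ i, i < 768 → P i := stepQ 767 Q767 (allL N767 (tt N956 (iv F5841)) (tt N767 F4519) (tt N578 F4520) (tt N1026 (iv F6367)) (tt N568 F4521) (tt N767 F4522) (tt N1027 (iv F6382)) (tt N767 F4523) (tt N1028 D1248) (tt N566 (iv D867)))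
theorem Q769 : ∀ i, i < 769 → P i := stepQ 768 Q768 (allL N768 (tt N957 (iv F5851)) (tt N768 F4529) (tt N580 F4530) (tt N768 F4531) (tt N1027 (iv F6381)) (tt N569 F4532) (tt N568 F4533) (tt N979 (iv F20063)) (tt N1029 D1250) (tt N567 (iv D869)))
theorem Q770 : ∀ i, i < 770 → P i := stepQ 769 Q769 (allL N769 (tt N958 (iv F5856)) (tt N769 F4534) (tt N581 F4535) (tt N769 F4536) (tt N1028 (iv F6385)) (tt N769 F4537) (tt N1029 (iv F6396)) (tt N769 F4538) (tt N568 (iv D870)) (tt N1023 (iv F6358)))
theorem Q771 : ∀ i, i < 771 → P i := stepQ 770 Q770 (allL N770 (tt N959 (iv F5894)) (tt N770 F4572) (tt N586 F4573) (tt N770 F4574) (tt N982 F20111) (tt N1030 D1262) (tt N570 F4575) (tt N980 F20112) (tt N569 (iv D878)) (tt N770 F4576))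
theorem Q772 : ∀ i, i < 772 → P i := stepQ 771 Q771 (allL N771 (tt N960 (iv F5957)) (tt N612 F4635) (tt N1016 (iv F6318)) (tt N1031 D1280) (tt N571 (iv D891)) (tt N573 F4636) (tt N1032 D1281) (tt N771 F4637) (tt N771 F4638) (tt N1033 D1282))
theorem Q773 : ∀ i, i < 773 → P i := stepQ 772 Q772 (allL N772 (tt N961 (iv F5962)) (tt N613 F4639) (tt N1017 (iv F6323)) (tt N772 F4640) (tt N1032 (iv F6544)) (tt N772 F4641) (tt N571 (iv D892)) (tt N1034 D1283) (tt N772 F4642) (tt N1035 D1284))
theorem Q774 : ∀ i, i < 774 → P i := stepQ 773 Q773 (allL N773 (tt N962 (iv F5967)) (tt N614 F4643) (tt N1018 (iv F6327)) (tt N773 F4644) (tt N1033 (iv F6547)) (tt N572 F4645) (tt N1035 (iv F6558)) (tt N773 F4646) (tt N1036 D1285) (tt N571 (iv D893)))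
theorem Q775 : ∀ i, i < 775 → P i := stepQ 774 Q774 (allL N774 (tt N963 (iv F5972)) (tt N615 F4647) (tt N1037 D1286) (tt N573 (iv D894)) (tt N590 F4648) (tt N1031 (iv F6540)) (tt N1038 D1287) (tt N774 F4649) (tt N576 F4650) (tt N1039 D1288))
theorem Q776 : ∀ i, i < 776 → P i := stepQ 775 Q775 (allL N775 (tt N964 (iv F5977)) (tt N616 F4651) (tt N1020 (iv F6335)) (tt N1038 (iv F6568)) (tt N574 F4652) (tt N1040 D1289) (tt N573 (iv D895)) (tt N1041 D1290) (tt N577 F4653) (tt N1042 D1291))
theorem Q777 : ∀ i, i < 777 → P i := stepQ 776 Q776 (allL N776 (tt N965 (iv F5981)) (tt N617 F4654) (tt N1021 (iv F6339)) (tt N1039 (iv F6572)) (tt N575 F4655) (tt N1033 (iv F6548)) (tt N1042 (iv F6583)) (tt N776 F4656) (tt N1043 D1292) (tt N573 (iv D896)))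
theorem Q778 : ∀ i, i < 778 → P i := stepQ 777 Q777 (allL N777 (tt N966 (iv F5985)) (tt N618 F4657) (tt N978 (iv F20050)) (tt N593 F4658) (tt N1041 (iv F6578)) (tt N777 F4659) (tt N777 F4660) (tt N574 (iv D897)) (tt N579 F4661) (tt N1044 D1293))
theorem Q779 : ∀ i, i < 779 → P i := stepQ 778 Q778 (allL N778 (tt N967 (iv F5991)) (tt N619 F4662) (tt N1022 (iv F6349)) (tt N594 F4663) (tt N1042 (iv F6582)) (tt N778 F4664) (tt N575 F4665) (tt N1044 (iv F6592)) (tt N1045 D1294) (tt N574 (iv D898)))
theorem Q780 : ∀ i, i < 780 → P i := stepQ 779 Q779 (allL N779 (tt N968 (iv F5996)) (tt N620 F4666) (tt N1023 (iv F6354)) (tt N595 F4667) (tt N1043 (iv F6585)) (tt N779 F4668) (tt N1045 (iv F6595)) (tt N779 F4669) (tt N575 (iv D899)) (tt N581 F4670))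
theorem Q781 : ∀ i, i < 781 → P i := stepQ 780 Q780 (allL N780 (tt N969 (iv F6002)) (tt N1046 D1295) (tt N576 (iv D900)) (tt N1024 (iv F6359)) (tt N596 F4671) (tt N780 F4672) (tt N1047 D1296) (tt N780 F4673) (tt N1037 (iv F6566)) (tt N1048 D1297))
theorem Q782 : ∀ i, i < 782 → P i := stepQ 781 Q781 (allL N781 (tt N970 (iv F6006)) (tt N622 F4674) (tt N1047 (iv F6601)) (tt N577 F4675) (tt N597 F4676) (tt N1049 D1298) (tt N576 (iv D901)) (tt N1050 D1299) (tt N1038 (iv F6570)) (tt N1051 D1300))
theorem Q783 : ∀ i, i < 783 → P i := stepQ 782 Q782 (allL N782 (tt N971 (iv F6010)) (tt N623 F4677) (tt N1048 (iv F6603)) (tt N578 F4678) (tt N598 F4679) (tt N782 F4680) (tt N1051 (iv F6618)) (tt N782 F4681) (tt N1052 D1301) (tt N576 (iv D902)))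
theorem Q784 : ∀ i, i < 784 → P i := stepQ 783 Q783 (allL N783 (tt N972 (iv F6016)) (tt N624 F4682) (tt N973 F20028) (tt N1049 (iv F6608)) (tt N582 F4683) (tt N577 (iv D903)) (tt N783 F4684) (tt N955 F20029) (tt N1053 D1303) (tt N1054 D1304))
theorem Q785 : ∀ i, i < 785 → P i := stepQ 784 Q784 (allL N784 (tt N973 (iv F6020)) (tt N625 F4685) (tt N972 F20030) (tt N1050 (iv F6612)) (tt N579 F4686) (tt N955 F20031) (tt N784 F4687) (tt N577 (iv D904)) (tt N1041 (iv F6580)) (tt N1055 D1305))
theorem Q786 : ∀ i, i < 786 → P i := stepQ 785 Q785 (allL N785 (tt N974 (iv F6024)) (tt N626 F4688) (tt N1027 (iv F6380)) (tt N1051 (iv F6616)) (tt N580 F4689) (tt N1054 (iv F6631)) (tt N578 F4690) (tt N1055 (iv F6636)) (tt N1056 D1306) (tt N577 (iv D905)))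
theorem Q787 : ∀ i, i < 787 → P i := stepQ 786 Q786 (allL N786 (tt N975 (iv F6028)) (tt N627 F4691) (tt N1028 (iv F6384)) (tt N1052 (iv F6620)) (tt N581 F4692) (tt N1057 D1307) (tt N1056 (iv F6639)) (tt N786 F4693) (tt N578 (iv D906)) (tt N1043 (iv F6587)))
theorem Q788 : ∀ i, i < 788 → P i := stepQ 787 Q787 (allL N787 (tt N976 (iv F6032)) (tt N628 F4694) (tt N979 (iv F20062)) (tt N602 F4695) (tt N1055 (iv F6634)) (tt N585 F4696) (tt N787 F4697) (tt N580 F4698) (tt N1058 D1308) (tt N579 (iv D907)))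
theorem Q789 : ∀ i, i < 789 → P i := stepQ 788 Q788 (allL N788 (tt N977 (iv F6038)) (tt N629 F4699) (tt N1029 (iv F6394)) (tt N603 F4700) (tt N1056 (iv F6638)) (tt N1059 D1309) (tt N581 F4701) (tt N1058 (iv F6647)) (tt N580 (iv D908)) (tt N1045 (iv F6596)))
theorem Q790 : ∀ i, i < 790 → P i := stepQ 789 Q789 (allL N789 (tt N978 (iv F6046)) (tt N631 F4705) (tt N966 F20043) (tt N789 F4706) (tt N1053 (iv F6627)) (tt N789 F4707) (tt N789 F4708) (tt N952 F20044) (tt N582 (iv D910)) (tt N1060 D1313))
theorem Q791 : ∀ i, i < 791 → P i := stepQ 790 Q790 (allL N790 (tt N979 (iv F6051)) (tt N632 F4709) (tt N976 F20047) (tt N790 F4710) (tt N1054 (iv F6630)) (tt N583 F4711) (tt N790 F4712) (tt N957 F20048) (tt N1061 D1314) (tt N582 (iv D911)))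
theorem Q792 : ∀ i, i < 792 → P i := stepQ 791 Q791 (allL N791 (tt N980 (iv F6062)) (tt N634 F4718) (tt N982 F20124) (tt N791 F4719) (tt N586 F4720) (tt N1062 D1316) (tt N584 F4721) (tt N959 F20125) (tt N583 (iv D913)) (tt N791 F4722))
theorem Q793 : ∀ i, i < 793 → P i := stepQ 792 Q792 (allL N792 (tt N981 (iv F6068)) (tt N635 F4723) (tt N984 (iv F20244)) (tt N792 F4724) (tt N792 F4725) (tt N584 (iv D914)) (tt N1063 D1317) (tt N587 F4726) (tt N792 F4727) (tt N792 F4728))
theorem Q794 : ∀ i, i < 794 → P i := stepQ 793 Q793 (allL N793 (tt N982 (iv F6075)) (tt N636 F4729) (tt N980 F20126) (tt N604 F4730) (tt N959 F20127) (tt N1064 D1318) (tt N588 F4731) (tt N586 F4732) (tt N585 (iv D915)) (tt N793 F4733))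
theorem Q795 : ∀ i, i < 795 → P i := stepQ 794 Q794 (allL N794 (tt N983 (iv F6081)) (tt N637 F4734) (tt N1030 (iv F6452)) (tt N605 F4735) (tt N1065 D1319) (tt N586 (iv D916)) (tt N794 F4736) (tt N1064 (iv F6687)) (tt N1059 (iv F6651)) (tt N794 F4737))
theorem Q796 : ∀ i, i < 796 → P i := stepQ 795 Q795 (allL N795 (tt N984 (iv F6130)) (tt N639 F4774) (tt N981 F20196) (tt N606 F4775) (tt N795 F20259) (tt N588 (iv D925)) (tt N1066 D1331) (tt N589 F4776) (tt N795 F4777) (tt N795 F4778))
theorem Q797 : ∀ i, i < 797 → P i := stepQ 796 Q796 (allL N796 (tt N985 (iv F6141)) (tt N1067 D1333) (tt N590 (iv D927)) (tt N796 F4783) (tt N1037 (iv F6564)) (tt N796 F4784) (tt N1068 D1334) (tt N796 F4785) (tt N596 F4786) (tt N1069 D1335))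
theorem Q798 : ∀ i, i < 798 → P i := stepQ 797 Q797 (allL N797 (tt N986 (iv F6146)) (tt N641 F4787) (tt N1068 (iv F6754)) (tt N591 F4788) (tt N1038 (iv F6569)) (tt N1070 D1336) (tt N590 (iv D928)) (tt N1071 D1337) (tt N597 F4789) (tt N1072 D1338))
theorem Q799 : ∀ i, i < 799 → P i := stepQ 798 Q798 (allL N798 (tt N987 (iv F6150)) (tt N642 F4790) (tt N1069 (iv F6757)) (tt N592 F4791) (tt N1039 (iv F6573)) (tt N798 F4792) (tt N1072 (iv F6771)) (tt N798 F4793) (tt N1073 D1339) (tt N590 (iv D929)))
theorem Q800 : ∀ i, i < 800 → P i := stepQ 799 Q799 (allL N799 (tt N988 (iv F6155)) (tt N643 F4794) (tt N799 F4795) (tt N1070 (iv F6762)) (tt N799 F4796) (tt N591 (iv D930)) (tt N799 F4797) (tt N1074 D1340) (tt N799 F4798) (tt N1075 D1341))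
theorem Q801 : ∀ i, i < 801 → P i := stepQ 800 Q800 (allL N800 (tt N989 (iv F6161)) (tt N644 F4799) (tt N800 F4800) (tt N1071 (iv F6766)) (tt N593 F4801) (tt N1074 (iv F6779)) (tt N800 F4802) (tt N591 (iv D931)) (tt N599 F4803) (tt N1076 D1342))
theorem Q802 : ∀ i, i < 802 → P i := stepQ 801 Q801 (allL N801 (tt N990 (iv F6167)) (tt N645 F4804) (tt N801 F4805) (tt N1072 (iv F6770)) (tt N594 F4806) (tt N1075 (iv F6784)) (tt N592 F4807) (tt N1076 (iv F6790)) (tt N1077 D1343) (tt N591 (iv D932)))
theorem Q803 : ∀ i, i < 803 → P i := stepQ 802 Q802 (allL N802 (tt N991 (iv F6172)) (tt N646 F4808) (tt N802 F4809) (tt N1073 (iv F6773)) (tt N595 F4810) (tt N1078 D1344) (tt N1077 (iv F6794)) (tt N802 F4811) (tt N592 (iv D933)) (tt N601 F4812))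
theorem Q804 : ∀ i, i < 804 → P i := stepQ 803 Q803 (allL N803 (tt N992 (iv F6178)) (tt N647 F4813) (tt N803 F4814) (tt N1044 (iv F6589)) (tt N1076 (iv F6788)) (tt N803 F4815) (tt N803 F4816) (tt N594 F4817) (tt N1079 D1345) (tt N593 (iv D934)))
theorem Q805 : ∀ i, i < 805 → P i := stepQ 804 Q804 (allL N804 (tt N993 (iv F6184)) (tt N648 F4818) (tt N804 F4819) (tt N1045 (iv F6594)) (tt N1077 (iv F6793)) (tt N1080 D1346) (tt N595 F4820) (tt N1079 (iv F6805)) (tt N594 (iv D935)) (tt N603 F4821))
theorem Q806 : ∀ i, i < 806 → P i := stepQ 805 Q805 (allL N805 (tt N1081 D1347) (tt N596 (iv D936)) (tt N649 F4822) (tt N805 F4823) (tt N1046 (iv F6598)) (tt N608 F4824) (tt N1082 D1348) (tt N805 F4825) (tt N1067 (iv F6753)) (tt N1083 D1349))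
theorem Q807 : ∀ i, i < 807 → P i := stepQ 806 Q806 (allL N806 (tt N995 (iv F6193)) (tt N1082 (iv F6816)) (tt N597 F4826) (tt N806 F4827) (tt N1047 (iv F6602)) (tt N806 F4828) (tt N596 (iv D937)) (tt N1084 D1350) (tt N1068 (iv F6756)) (tt N1085 D1351))
theorem Q808 : ∀ i, i < 808 → P i := stepQ 807 Q807 (allL N807 (tt N996 (iv F6197)) (tt N1083 (iv F6820)) (tt N598 F4829) (tt N807 F4830) (tt N1048 (iv F6604)) (tt N609 F4831) (tt N1085 (iv F6832)) (tt N807 F4832) (tt N1086 D1352) (tt N596 (iv D938)))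
theorem Q809 : ∀ i, i < 809 → P i := stepQ 808 Q808 (allL N808 (tt N997 (iv F6202)) (tt N652 F4833) (tt N1084 (iv F6825)) (tt N599 F4834) (tt N1050 (iv F6613)) (tt N808 F4835) (tt N808 F4836) (tt N597 (iv D939)) (tt N1071 (iv F6768)) (tt N1087 D1353))
theorem Q810 : ∀ i, i < 810 → P i := stepQ 809 Q809 (allL N809 (tt N998 (iv F6207)) (tt N653 F4837) (tt N1085 (iv F6829)) (tt N600 F4838) (tt N1051 (iv F6617)) (tt N809 F4839) (tt N598 F4840) (tt N1087 (iv F6840)) (tt N1088 D1354) (tt N597 (iv D940)))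
theorem Q811 : ∀ i, i < 811 → P i := stepQ 810 Q810 (allL N810 (tt N999 (iv F6212)) (tt N654 F4841) (tt N1086 (iv F6833)) (tt N601 F4842) (tt N1052 (iv F6621)) (tt N1089 D1355) (tt N1088 (iv F6843)) (tt N810 F4843) (tt N598 (iv D941)) (tt N1073 (iv F6775)))
theorem Q812 : ∀ i, i < 812 → P i := stepQ 811 Q811 (allL N811 (tt N1000 (iv F6216)) (tt N655 F4844) (tt N811 F4845) (tt N1087 (iv F6837)) (tt N602 F4846) (tt N811 F4847) (tt N811 F4848) (tt N600 F4849) (tt N1090 D1356) (tt N599 (iv D942)))
theorem Q813 : ∀ i, i < 813 → P i := stepQ 812 Q812 (allL N812 (tt N1001 (iv F6223)) (tt N656 F4850) (tt N812 F4851) (tt N1088 (iv F6842)) (tt N603 F4852) (tt N1091 D1357) (tt N601 F4853) (tt N1090 (iv F6852)) (tt N600 (iv D943)) (tt N1077 (iv F6795)))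
theorem Q814 : ∀ i, i < 814 → P i := stepQ 813 Q813 (allL N813 (tt N1002 (iv F6228)) (tt N657 F4854) (tt N813 F4855) (tt N1089 (iv F6845)) (tt N813 F4856) (tt N601 (iv D944)) (tt N1092 D1358) (tt N813 F4857) (tt N611 F4858) (tt N1078 (iv F6801)))
theorem Q815 : ∀ i, i < 815 → P i := stepQ 814 Q814 (allL N814 (tt N1003 (iv F6234)) (tt N658 F4859) (tt N814 F4860) (tt N1058 (iv F6645)) (tt N1090 (iv F6850)) (tt N1093 D1359) (tt N814 F4861) (tt N603 F4862) (tt N602 (iv D945)) (tt N1079 (iv F6806)))
theorem Q816 : ∀ i, i < 816 → P i := stepQ 815 Q815 (allL N815 (tt N1004 (iv F6239)) (tt N659 F4863) (tt N815 F4864) (tt N1059 (iv F6649)) (tt N1094 D1360) (tt N603 (iv D946)) (tt N815 F4865) (tt N1093 (iv F6862)) (tt N605 F4866) (tt N1080 (iv F6811)))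
theorem Q817 : ∀ i, i < 817 → P i := stepQ 816 Q816 (allL N816 (tt N1005 (iv F6244)) (tt N660 F4867) (tt N816 F4868) (tt N1064 (iv F6686)) (tt N1095 D1361) (tt N604 (iv D947)) (tt N1096 D1362) (tt N605 F4869) (tt N1093 (iv F6863)) (tt N816 F4870))
theorem Q818 : ∀ i, i < 818 → P i := stepQ 817 Q817 (allL N817 (tt N1006 (iv F6249)) (tt N661 F4871) (tt N817 F4872) (tt N1097 D1363) (tt N605 (iv D948)) (tt N817 F4873) (tt N817 F4874) (tt N1095 (iv F6871)) (tt N1094 (iv F6867)) (tt N817 F4875))
theorem Q819 : ∀ i, i < 819 → P i := stepQ 818 Q818 (allL N818 (tt N1007 (iv F6255)) (tt N662 F4876) (tt N818 F4877) (tt N818 F20312) (tt N606 (iv D949)) (tt N818 F4878) (tt N704 F131467) (tt N607 F4879) (tt N818 F4880) (tt N818 F4881))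
theorem Q820 : ∀ i, i < 820 → P i := stepQ 819 Q819 (allL N819 (tt N1008 (iv F6262)) (tt N663 F4882) (tt N819 F4883) (tt N1066 (iv F6740)) (tt N704 F131229) (tt N1096 (iv F6875)) (tt N606 (iv D950)) (tt N819 F4884) (tt N819 F4885) (tt N819 F4886))
theorem Q821 : ∀ i, i < 821 → P i := stepQ 820 Q820 (allL N820 (tt N608 (iv D952)) (tt N1009 (iv F6274)) (tt N664 F4892) (tt N820 F4893) (tt N820 F4894) (tt N1081 (iv F6814)) (tt N820 F4895) (tt N820 F4896) (tt N820 F4897) (tt N1098 D1367))
theorem Q822 : ∀ i, i < 822 → P i := stepQ 821 Q821 (allL N821 (tt N1098 (iv F6898)) (tt N609 F4898) (tt N665 F4899) (tt N821 F4900) (tt N821 F4901) (tt N1083 (iv F6823)) (tt N821 F4902) (tt N821 F4903) (tt N1099 D1368) (tt N608 (iv D953)))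
theorem Q823 : ∀ i, i < 823 → P i := stepQ 822 Q822 (allL N822 (tt N1011 (iv F6287)) (tt N1099 (iv F6904)) (tt N610 F4904) (tt N822 F4905) (tt N822 F4906) (tt N1100 D1369) (tt N822 F4907) (tt N822 F4908) (tt N609 (iv D954)) (tt N822 F4909))
theorem Q824 : ∀ i, i < 824 → P i := stepQ 823 Q823 (allL N823 (tt N1012 (iv F6294)) (tt N667 F4910) (tt N1100 (iv F6911)) (tt N611 F4911) (tt N1101 D1370) (tt N610 (iv D955)) (tt N1102 D1371) (tt N823 F4912) (tt N1089 (iv F6847)) (tt N823 F4913))
theorem Q825 : ∀ i, i < 825 → P i := stepQ 824 Q824 (allL N824 (tt N1013 (iv F6299)) (tt N668 F4914) (tt N824 F4915) (tt N1102 (iv F6921)) (tt N824 F4916) (tt N824 F4917) (tt N611 (iv D956)) (tt N1103 D1372) (tt N1092 (iv F6859)) (tt N824 F4918))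
theorem Q826 : ∀ i, i < 826 → P i := stepQ 825 Q825 (allL N825 (tt N825 F4919) (tt N1031 (iv F6538)) (tt N1104 D1373) (tt N612 (iv D957)) (tt N825 F4920) (tt N615 F4921) (tt N1105 D1374) (tt N825 F4922) (tt N825 F4923) (tt N1106 D1375))
theorem Q827 : ∀ i, i < 827 → P i := stepQ 826 Q826 (allL N826 (tt N826 F4924) (tt N1032 (iv F6543)) (tt N826 F4925) (tt N1105 (iv F6937)) (tt N613 F4926) (tt N1107 D1376) (tt N612 (iv D958)) (tt N1108 D1377) (tt N826 F4927) (tt N1109 D1378))
theorem Q828 : ∀ i, i < 828 → P i := stepQ 827 Q827 (allL N827 (tt N827 F4928) (tt N1033 (iv F6546)) (tt N827 F4929) (tt N1106 (iv F6941)) (tt N614 F4930) (tt N617 F4931) (tt N1109 (iv F6957)) (tt N827 F4932) (tt N1110 D1379) (tt N612 (iv D959)))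
theorem Q829 : ∀ i, i < 829 → P i := stepQ 828 Q828 (allL N828 (tt N828 F4933) (tt N1034 (iv F6550)) (tt N828 F4934) (tt N828 F4935) (tt N1108 (iv F6951)) (tt N828 F4936) (tt N828 F4937) (tt N613 (iv D960)) (tt N828 F4938) (tt N1111 D1380))
theorem Q830 : ∀ i, i < 830 → P i := stepQ 829 Q829 (allL N829 (tt N829 F4939) (tt N1035 (iv F6555)) (tt N829 F4940) (tt N829 F4941) (tt N1109 (iv F6956)) (tt N829 F4942) (tt N614 F4943) (tt N1111 (iv F6968)) (tt N1112 D1381) (tt N613 (iv D961)))
theorem Q831 : ∀ i, i < 831 → P i := stepQ 830 Q830 (allL N830 (tt N830 F4944) (tt N1036 (iv F6559)) (tt N830 F4945) (tt N830 F4946) (tt N1110 (iv F6960)) (tt N830 F4947) (tt N1112 (iv F6972)) (tt N830 F4948) (tt N614 (iv D962)) (tt N830 F4949))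
theorem Q832 : ∀ i, i < 832 → P i := stepQ 831 Q831 (allL N831 (tt N831 F4950) (tt N1113 D1382) (tt N615 (iv D963)) (tt N831 F4951) (tt N640 F4952) (tt N1104 (iv F6933)) (tt N1114 D1383) (tt N831 F4953) (tt N621 F4954) (tt N1115 D1384))
theorem Q833 : ∀ i, i < 833 → P i := stepQ 832 Q832 (allL N832 (tt N832 F4955) (tt N1038 (iv F6567)) (tt N1114 (iv F6979)) (tt N616 F4956) (tt N641 F4957) (tt N1116 D1385) (tt N615 (iv D964)) (tt N1117 D1386) (tt N622 F4958) (tt N1118 D1387))
theorem Q834 : ∀ i, i < 834 → P i := stepQ 833 Q833 (allL N833 (tt N833 F4959) (tt N1039 (iv F6571)) (tt N1115 (iv F6984)) (tt N617 F4960) (tt N642 F4961) (tt N1106 (iv F6943)) (tt N1118 (iv F6998)) (tt N833 F4962) (tt N1119 D1388) (tt N615 (iv D965)))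
theorem Q835 : ∀ i, i < 835 → P i := stepQ 834 Q834 (allL N834 (tt N834 F4963) (tt N1040 (iv F6575)) (tt N834 F4964) (tt N1116 (iv F6989)) (tt N834 F4965) (tt N616 (iv D966)) (tt N1107 (iv F6948)) (tt N1120 D1389) (tt N1121 D1390) (tt N1122 D1391))
theorem Q836 : ∀ i, i < 836 → P i := stepQ 835 Q835 (allL N835 (tt N835 F4966) (tt N1041 (iv F6577)) (tt N835 F4967) (tt N1117 (iv F6991)) (tt N618 F4968) (tt N1120 (iv F7007)) (tt N835 F4969) (tt N616 (iv D967)) (tt N625 F4970) (tt N1123 D1392))
theorem Q837 : ∀ i, i < 837 → P i := stepQ 836 Q836 (allL N836 (tt N836 F4971) (tt N1042 (iv F6581)) (tt N836 F4972) (tt N1118 (iv F6996)) (tt N619 F4973) (tt N1122 (iv F7015)) (tt N617 F4974) (tt N1123 (iv F7020)) (tt N1124 D1393) (tt N616 (iv D968)))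
theorem Q838 : ∀ i, i < 838 → P i := stepQ 837 Q837 (allL N837 (tt N837 F4975) (tt N1043 (iv F6584)) (tt N837 F4976) (tt N1119 (iv F7000)) (tt N620 F4977) (tt N1125 D1394) (tt N1124 (iv F7024)) (tt N837 F4978) (tt N617 (iv D969)) (tt N627 F4979))
theorem Q839 : ∀ i, i < 839 → P i := stepQ 838 Q838 (allL N838 (tt N838 F4980) (tt N1044 (iv F6588)) (tt N838 F4981) (tt N647 F4982) (tt N1123 (iv F7018)) (tt N838 F4983) (tt N838 F4984) (tt N619 F4985) (tt N1126 D1395) (tt N618 (iv D970)))
theorem Q840 : ∀ i, i < 840 → P i := stepQ 839 Q839 (allL N839 (tt N839 F4986) (tt N1045 (iv F6593)) (tt N839 F4987) (tt N648 F4988) (tt N1124 (iv F7023)) (tt N1127 D1396) (tt N620 F4989) (tt N1126 (iv F7035)) (tt N619 (iv D971)) (tt N629 F4990))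
theorem Q841 : ∀ i, i < 841 → P i := stepQ 840 Q840 (allL N840 (tt N1128 D1397) (tt N621 (iv D972)) (tt N1046 (iv F6597)) (tt N840 F4991) (tt N649 F4992) (tt N840 F4993) (tt N1129 D1398) (tt N840 F4994) (tt N1113 (iv F6977)) (tt N1130 D1399))
theorem Q842 : ∀ i, i < 842 → P i := stepQ 841 Q841 (allL N841 (tt N841 F4995) (tt N1129 (iv F7048)) (tt N622 F4996) (tt N841 F4997) (tt N650 F4998) (tt N1131 D1400) (tt N621 (iv D973)) (tt N1132 D1401) (tt N1114 (iv F6982)) (tt N1133 D1402))
theorem Q843 : ∀ i, i < 843 → P i := stepQ 842 Q842 (allL N842 (tt N842 F4999) (tt N1130 (iv F7051)) (tt N623 F5000) (tt N842 F5001) (tt N651 F5002) (tt N842 F5003) (tt N1133 (iv F7070)) (tt N842 F5004) (tt N1134 D1403) (tt N621 (iv D974)))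
theorem Q844 : ∀ i, i < 844 → P i := stepQ 843 Q843 (allL N843 (tt N843 F5005) (tt N1049 (iv F6607)) (tt N1131 (iv F7057)) (tt N624 F5006) (tt N843 F5007) (tt N622 (iv D975)) (tt N843 F5008) (tt N1135 D1404) (tt N1136 D1405) (tt N1137 D1406))
theorem Q845 : ∀ i, i < 845 → P i := stepQ 844 Q844 (allL N844 (tt N844 F5009) (tt N1050 (iv F6611)) (tt N1132 (iv F7062)) (tt N625 F5010) (tt N652 F5011) (tt N1135 (iv F7079)) (tt N844 F5012) (tt N622 (iv D976)) (tt N1117 (iv F6994)) (tt N1138 D1407))
theorem Q846 : ∀ i, i < 846 → P i := stepQ 845 Q845 (allL N845 (tt N845 F5013) (tt N1051 (iv F6615)) (tt N1133 (iv F7067)) (tt N626 F5014) (tt N653 F5015) (tt N1137 (iv F7087)) (tt N623 F5016) (tt N1138 (iv F7093)) (tt N1139 D1408) (tt N622 (iv D977)))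
theorem Q847 : ∀ i, i < 847 → P i := stepQ 846 Q846 (allL N846 (tt N846 F5017) (tt N1052 (iv F6619)) (tt N1134 (iv F7072)) (tt N627 F5018) (tt N654 F5019) (tt N1140 D1409) (tt N1139 (iv F7097)) (tt N846 F5020) (tt N623 (iv D978)) (tt N1119 (iv F7003)))
theorem Q848 : ∀ i, i < 848 → P i := stepQ 847 Q847 (allL N847 (tt N847 F5021) (tt N955 F20039) (tt N847 F5022) (tt N1135 (iv F7077)) (tt N630 F5023) (tt N625 F5024) (tt N946 F20040) (tt N624 (iv D979)) (tt N1141 D1411) (tt N1142 D1412))
theorem Q849 : ∀ i, i < 849 → P i := stepQ 848 Q848 (allL N848 (tt N848 F5025) (tt N1053 (iv F6626)) (tt N848 F5026) (tt N1136 (iv F7081)) (tt N631 F5027) (tt N1121 (iv F7011)) (tt N848 F5028) (tt N1141 (iv F7110)) (tt N624 (iv D980)) (tt N1143 D1413))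
theorem Q850 : ∀ i, i < 850 → P i := stepQ 849 Q849 (allL N849 (tt N849 F5029) (tt N1054 (iv F6629)) (tt N849 F5030) (tt N1137 (iv F7085)) (tt N632 F5031) (tt N626 F5032) (tt N849 F5033) (tt N1142 (iv F7115)) (tt N1144 D1414) (tt N624 (iv D981)))
theorem Q851 : ∀ i, i < 851 → P i := stepQ 850 Q850 (allL N850 (tt N850 F5034) (tt N1055 (iv F6633)) (tt N850 F5035) (tt N1138 (iv F7090)) (tt N628 F5036) (tt N1142 (iv F7114)) (tt N850 F5037) (tt N626 F5038) (tt N1145 D1415) (tt N625 (iv D982)))
theorem Q852 : ∀ i, i < 852 → P i := stepQ 851 Q851 (allL N851 (tt N851 F5039) (tt N1056 (iv F6637)) (tt N851 F5040) (tt N1139 (iv F7095)) (tt N629 F5041) (tt N1146 D1416) (tt N627 F5042) (tt N1145 (iv F7128)) (tt N626 (iv D983)) (tt N1124 (iv F7025)))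
theorem Q853 : ∀ i, i < 853 → P i := stepQ 852 Q852 (allL N852 (tt N852 F5043) (tt N1057 (iv F6640)) (tt N852 F5044) (tt N1140 (iv F7099)) (tt N852 F5045) (tt N627 (iv D984)) (tt N1147 D1417) (tt N852 F5046) (tt N852 F5047) (tt N1125 (iv F7030)))
theorem Q854 : ∀ i, i < 854 → P i := stepQ 853 Q853 (allL N853 (tt N853 F5048) (tt N1058 (iv F6644)) (tt N853 F5049) (tt N658 F5050) (tt N1145 (iv F7126)) (tt N1148 D1418) (tt N853 F5051) (tt N629 F5052) (tt N628 (iv D985)) (tt N1126 (iv F7036)))
theorem Q855 : ∀ i, i < 855 → P i := stepQ 854 Q854 (allL N854 (tt N854 F5053) (tt N1059 (iv F6648)) (tt N854 F5054) (tt N659 F5055) (tt N1149 D1419) (tt N629 (iv D986)) (tt N854 F5056) (tt N1148 (iv F7138)) (tt N637 F5057) (tt N1127 (iv F7042)))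
theorem Q856 : ∀ i, i < 856 → P i := stepQ 855 Q855 (allL N855 (tt N855 F5063) (tt N952 F20032) (tt N855 F5064) (tt N855 F5065) (tt N1141 (iv F7109)) (tt N855 F5066) (tt N944 F20033) (tt N631 F5067) (tt N630 (iv D988)) (tt N1150 D1422))
theorem Q857 : ∀ i, i < 857 → P i := stepQ 856 Q856 (allL N856 (tt N856 F5068) (tt N957 F20041) (tt N856 F5069) (tt N856 F5070) (tt N1142 (iv F7113)) (tt N633 F5071) (tt N947 F20042) (tt N632 F5072) (tt N1151 D1423) (tt N630 (iv D989)))
theorem Q858 : ∀ i, i < 858 → P i := stepQ 857 Q857 (allL N857 (tt N857 F5073) (tt N1060 (iv F6664)) (tt N857 F5074) (tt N857 F5075) (tt N1143 (iv F7118)) (tt N857 F5076) (tt N857 F5077) (tt N1150 (iv F7159)) (tt N1152 D1424) (tt N631 (iv D990)))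
theorem Q859 : ∀ i, i < 859 → P i := stepQ 858 Q858 (allL N858 (tt N858 F5078) (tt N1061 (iv F6668)) (tt N858 F5079) (tt N858 F5080) (tt N1144 (iv F7122)) (tt N1153 D1425) (tt N858 F5081) (tt N1151 (iv F7163)) (tt N632 (iv D991)) (tt N1152 (iv F7168)))
theorem Q860 : ∀ i, i < 860 → P i := stepQ 859 Q859 (allL N859 (tt N859 F5082) (tt N959 F20169) (tt N859 F5083) (tt N859 F5084) (tt N636 F5085) (tt N1154 D1426) (tt N638 F5086) (tt N634 F5087) (tt N633 (iv D992)) (tt N859 F5088))
theorem Q861 : ∀ i, i < 861 → P i := stepQ 860 Q860 (allL N860 (tt N860 F5089) (tt N1062 (iv F6677)) (tt N860 F5090) (tt N860 F5091) (tt N1155 D1427) (tt N634 (iv D993)) (tt N1156 D1428) (tt N1154 (iv F7176)) (tt N1153 (iv F7172)) (tt N860 F5092))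
theorem Q862 : ∀ i, i < 862 → P i := stepQ 861 Q861 (allL N861 (tt N861 F5093) (tt N1063 (iv F6680)) (tt N861 F5094) (tt N861 F5095) (tt N861 F5096) (tt N1156 (iv F7185)) (tt N635 (iv D994)) (tt N861 F20308) (tt N861 F5097) (tt N861 F5098))
theorem Q863 : ∀ i, i < 863 → P i := stepQ 862 Q862 (allL N862 (tt N862 F5099) (tt N1064 (iv F6685)) (tt N862 F5100) (tt N660 F5101) (tt N1157 D1430) (tt N636 (iv D995)) (tt N1158 D1431) (tt N637 F5102) (tt N1148 (iv F7139)) (tt N862 F5103))
theorem Q864 : ∀ i, i < 864 → P i := stepQ 863 Q863 (allL N863 (tt N863 F5104) (tt N1065 (iv F6689)) (tt N863 F5105) (tt N1159 D1432) (tt N637 (iv D996)) (tt N1155 (iv F7180)) (tt N863 F5106) (tt N1157 (iv F7196)) (tt N1149 (iv F7143)) (tt N863 F5107))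
theorem Q865 : ∀ i, i < 865 → P i := stepQ 864 Q864 (allL N864 (tt N864 F5166) (tt N1066 (iv F6739)) (tt N864 F5167) (tt N663 F5168) (tt N864 F20315) (tt N1158 (iv F7201)) (tt N639 (iv D1008)) (tt N864 F5169) (tt N864 F5170) (tt N864 F5171))
theorem Q866 : ∀ i, i < 866 → P i := stepQ 865 Q865 (allL N865 (tt N1160 D1449) (tt N640 (iv D1010)) (tt N1067 (iv F6749)) (tt N669 F5177) (tt N1113 (iv F6975)) (tt N865 F5178) (tt N1161 D1450) (tt N865 F5179) (tt N649 F5180) (tt N1162 D1451))
theorem Q867 : ∀ i, i < 867 → P i := stepQ 866 Q866 (allL N866 (tt N866 F5181) (tt N1161 (iv F7295)) (tt N641 F5182) (tt N670 F5183) (tt N1114 (iv F6981)) (tt N1163 D1452) (tt N640 (iv D1011)) (tt N1164 D1453) (tt N650 F5184) (tt N1165 D1454))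
theorem Q868 : ∀ i, i < 868 → P i := stepQ 867 Q867 (allL N867 (tt N867 F5185) (tt N1162 (iv F7298)) (tt N642 F5186) (tt N671 F5187) (tt N1115 (iv F6986)) (tt N867 F5188) (tt N1165 (iv F7315)) (tt N867 F5189) (tt N1166 D1455) (tt N640 (iv D1012)))
theorem Q869 : ∀ i, i < 869 → P i := stepQ 868 Q868 (allL N868 (tt N868 F5190) (tt N1070 (iv F6761)) (tt N1163 (iv F7303)) (tt N643 F5191) (tt N1167 D1456) (tt N641 (iv D1013)) (tt N868 F5192) (tt N1168 D1457) (tt N868 F5193) (tt N1169 D1458))
theorem Q870 : ∀ i, i < 870 → P i := stepQ 869 Q869 (allL N869 (tt N869 F5194) (tt N1071 (iv F6765)) (tt N1164 (iv F7308)) (tt N644 F5195) (tt N1117 (iv F6992)) (tt N1168 (iv F7327)) (tt N869 F5196) (tt N641 (iv D1014)) (tt N652 F5197) (tt N1170 D1459))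
theorem Q871 : ∀ i, i < 871 → P i := stepQ 870 Q870 (allL N870 (tt N870 F5198) (tt N1072 (iv F6769)) (tt N1165 (iv F7313)) (tt N645 F5199) (tt N1118 (iv F6997)) (tt N1169 (iv F7331)) (tt N642 F5200) (tt N1170 (iv F7336)) (tt N1171 D1460) (tt N641 (iv D1015)))
theorem Q872 : ∀ i, i < 872 → P i := stepQ 871 Q871 (allL N871 (tt N871 F5201) (tt N1073 (iv F6772)) (tt N1166 (iv F7317)) (tt N646 F5202) (tt N1119 (iv F7001)) (tt N1172 D1461) (tt N1171 (iv F7339)) (tt N871 F5203) (tt N642 (iv D1016)) (tt N654 F5204))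
theorem Q873 : ∀ i, i < 873 → P i := stepQ 872 Q872 (allL N872 (tt N872 F5205) (tt N1074 (iv F6776)) (tt N676 F5206) (tt N1168 (iv F7326)) (tt N872 F5207) (tt N644 F5208) (tt N1173 D1462) (tt N643 (iv D1017)) (tt N872 F5209) (tt N1174 D1463))
theorem Q874 : ∀ i, i < 874 → P i := stepQ 873 Q873 (allL N873 (tt N873 F5210) (tt N1075 (iv F6781)) (tt N677 F5211) (tt N1169 (iv F7330)) (tt N873 F5212) (tt N645 F5213) (tt N873 F5214) (tt N1174 (iv F7356)) (tt N1175 D1464) (tt N643 (iv D1018)))
theorem Q875 : ∀ i, i < 875 → P i := stepQ 874 Q874 (allL N874 (tt N874 F5215) (tt N1076 (iv F6786)) (tt N678 F5216) (tt N1170 (iv F7334)) (tt N647 F5217) (tt N1174 (iv F7355)) (tt N874 F5218) (tt N645 F5219) (tt N1176 D1465) (tt N644 (iv D1019)))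
theorem Q876 : ∀ i, i < 876 → P i := stepQ 875 Q875 (allL N875 (tt N875 F5220) (tt N1077 (iv F6791)) (tt N679 F5221) (tt N1171 (iv F7338)) (tt N648 F5222) (tt N1177 D1466) (tt N646 F5223) (tt N1176 (iv F7366)) (tt N645 (iv D1020)) (tt N656 F5224))
theorem Q877 : ∀ i, i < 877 → P i := stepQ 876 Q876 (allL N876 (tt N876 F5225) (tt N1078 (iv F6796)) (tt N680 F5226) (tt N1172 (iv F7342)) (tt N876 F5227) (tt N646 (iv D1021)) (tt N1178 D1467) (tt N876 F5228) (tt N876 F5229) (tt N657 F5230))
theorem Q878 : ∀ i, i < 878 → P i := stepQ 877 Q877 (allL N877 (tt N877 F5231) (tt N1079 (iv F6802)) (tt N681 F5232) (tt N1126 (iv F7033)) (tt N1176 (iv F7364)) (tt N1179 D1468) (tt N877 F5233) (tt N648 F5234) (tt N647 (iv D1022)) (tt N658 F5235))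
theorem Q879 : ∀ i, i < 879 → P i := stepQ 878 Q878 (allL N878 (tt N878 F5236) (tt N1080 (iv F6807)) (tt N682 F5237) (tt N1127 (iv F7039)) (tt N1180 D1469) (tt N648 (iv D1023)) (tt N878 F5238) (tt N1179 (iv F7378)) (tt N878 F5239) (tt N659 F5240))
theorem Q880 : ∀ i, i < 880 → P i := stepQ 879 Q879 (allL N879 (tt N649 (iv D1024)) (tt N879 F5241) (tt N1081 (iv F6812)) (tt N683 F5242) (tt N1128 (iv F7045)) (tt N664 F5243) (tt N1181 D1470) (tt N879 F5244) (tt N1160 (iv F7294)) (tt N1182 D1471))
theorem Q881 : ∀ i, i < 881 → P i := stepQ 880 Q880 (allL N880 (tt N1181 (iv F7386)) (tt N650 F5245) (tt N1082 (iv F6817)) (tt N684 F5246) (tt N1129 (iv F7050)) (tt N880 F5247) (tt N649 (iv D1025)) (tt N1183 D1472) (tt N1161 (iv F7297)) (tt N1184 D1473))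
theorem Q882 : ∀ i, i < 882 → P i := stepQ 881 Q881 (allL N881 (tt N1182 (iv F7390)) (tt N651 F5248) (tt N1083 (iv F6821)) (tt N685 F5249) (tt N1130 (iv F7053)) (tt N665 F5250) (tt N1184 (iv F7402)) (tt N881 F5251) (tt N1185 D1474) (tt N649 (iv D1026)))
theorem Q883 : ∀ i, i < 883 → P i := stepQ 882 Q882 (allL N882 (tt N882 F5252) (tt N1183 (iv F7395)) (tt N652 F5253) (tt N686 F5254) (tt N1132 (iv F7064)) (tt N882 F5255) (tt N882 F5256) (tt N650 (iv D1027)) (tt N1164 (iv F7311)) (tt N1186 D1475))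
theorem Q884 : ∀ i, i < 884 → P i := stepQ 883 Q883 (allL N883 (tt N883 F5257) (tt N1184 (iv F7399)) (tt N653 F5258) (tt N687 F5259) (tt N1133 (iv F7069)) (tt N883 F5260) (tt N651 F5261) (tt N1186 (iv F7411)) (tt N1187 D1476) (tt N650 (iv D1028)))
theorem Q885 : ∀ i, i < 885 → P i := stepQ 884 Q884 (allL N884 (tt N884 F5262) (tt N1185 (iv F7403)) (tt N654 F5263) (tt N688 F5264) (tt N1134 (iv F7074)) (tt N1188 D1477) (tt N1187 (iv F7415)) (tt N884 F5265) (tt N651 (iv D1029)) (tt N1166 (iv F7320)))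
theorem Q886 : ∀ i, i < 886 → P i := stepQ 885 Q885 (allL N885 (tt N885 F5266) (tt N1087 (iv F6836)) (tt N1186 (iv F7407)) (tt N655 F5267) (tt N1138 (iv F7091)) (tt N885 F5268) (tt N885 F5269) (tt N653 F5270) (tt N1189 D1478) (tt N652 (iv D1030)))
theorem Q887 : ∀ i, i < 887 → P i := stepQ 886 Q886 (allL N886 (tt N886 F5271) (tt N1088 (iv F6841)) (tt N1187 (iv F7413)) (tt N656 F5272) (tt N1139 (iv F7096)) (tt N1190 D1479) (tt N654 F5273) (tt N1189 (iv F7424)) (tt N653 (iv D1031)) (tt N1171 (iv F7340)))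
theorem Q888 : ∀ i, i < 888 → P i := stepQ 887 Q887 (allL N887 (tt N887 F5274) (tt N1089 (iv F6844)) (tt N1188 (iv F7417)) (tt N657 F5275) (tt N1191 D1480) (tt N654 (iv D1032)) (tt N1192 D1481) (tt N887 F5276) (tt N667 F5277) (tt N1172 (iv F7345)))
theorem Q889 : ∀ i, i < 889 → P i := stepQ 888 Q888 (allL N888 (tt N888 F5278) (tt N1090 (iv F6848)) (tt N692 F5279) (tt N1189 (iv F7422)) (tt N658 F5280) (tt N1193 D1482) (tt N888 F5281) (tt N656 F5282) (tt N655 (iv D1033)) (tt N1176 (iv F7367)))
theorem Q890 : ∀ i, i < 890 → P i := stepQ 889 Q889 (allL N889 (tt N889 F5283) (tt N1091 (iv F6853)) (tt N693 F5284) (tt N1190 (iv F7426)) (tt N1194 D1483) (tt N656 (iv D1034)) (tt N1195 D1484) (tt N1193 (iv F7437)) (tt N889 F5285) (tt N1177 (iv F7370)))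
theorem Q891 : ∀ i, i < 891 → P i := stepQ 890 Q890 (allL N890 (tt N890 F5286) (tt N1092 (iv F6856)) (tt N694 F5287) (tt N1192 (iv F7433)) (tt N890 F5288) (tt N1195 (iv F7445)) (tt N657 (iv D1035)) (tt N1196 D1485) (tt N668 F5289) (tt N1178 (iv F7375)))
theorem Q892 : ∀ i, i < 892 → P i := stepQ 891 Q891 (allL N891 (tt N891 F5290) (tt N1093 (iv F6860)) (tt N695 F5291) (tt N1148 (iv F7137)) (tt N1197 D1486) (tt N658 (iv D1036)) (tt N1198 D1487) (tt N659 F5292) (tt N660 F5293) (tt N1179 (iv F7380)))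
theorem Q893 : ∀ i, i < 893 → P i := stepQ 892 Q892 (allL N892 (tt N892 F5294) (tt N1094 (iv F6864)) (tt N696 F5295) (tt N1199 D1488) (tt N659 (iv D1037)) (tt N1194 (iv F7441)) (tt N892 F5296) (tt N1197 (iv F7454)) (tt N661 F5297) (tt N1180 (iv F7385)))
theorem Q894 : ∀ i, i < 894 → P i := stepQ 893 Q893 (allL N893 (tt N893 F5298) (tt N1095 (iv F6868)) (tt N697 F5299) (tt N1200 D1489) (tt N660 (iv D1038)) (tt N893 F5300) (tt N702 F130703) (tt N661 F5301) (tt N1197 (iv F7455)) (tt N893 F5302))
theorem Q895 : ∀ i, i < 895 → P i := stepQ 894 Q894 (allL N894 (tt N894 F5303) (tt N1096 (iv F6873)) (tt N698 F5304) (tt N1158 (iv F7200)) (tt N702 F130700) (tt N663 F5305) (tt N660 (iv D1039)) (tt N894 F5306) (tt N1198 (iv F7460)) (tt N894 F5307))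
theorem Q896 : ∀ i, i < 896 → P i := stepQ 895 Q895 (allL N895 (tt N895 F5308) (tt N1097 (iv F6878)) (tt N1201 D1491) (tt N661 (iv D1040)) (tt N1159 (iv F7205)) (tt N895 F5309) (tt N895 F5310) (tt N1200 (iv F7466)) (tt N1199 (iv F7463)) (tt N895 F5311))
theorem Q897 : ∀ i, i < 897 → P i := stepQ 896 Q896 (allL N896 (tt N665 F5329) (tt N896 F5330) (tt N1098 (iv F6899)) (tt N700 F5331) (tt N896 F5332) (tt N1182 (iv F7393)) (tt N896 F5333) (tt N896 F5334) (tt N1202 D1496) (tt N664 (iv D1044)))
theorem Q898 : ∀ i, i < 898 → P i := stepQ 897 Q897 (allL N897 (tt N1202 (iv F7499)) (tt N666 F5335) (tt N1099 (iv F6905)) (tt N701 F5336) (tt N897 F5337) (tt N1203 D1497) (tt N897 F5338) (tt N897 F5339) (tt N665 (iv D1045)) (tt N897 F5340))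
theorem Q899 : ∀ i, i < 899 → P i := stepQ 898 Q898 (allL N898 (tt N898 F5341) (tt N1203 (iv F7506)) (tt N667 F5342) (tt N702 F5343) (tt N1204 D1498) (tt N666 (iv D1046)) (tt N1200 F130750) (tt N898 F5344) (tt N1188 (iv F7420)) (tt N898 F5345))
theorem Q900 : ∀ i, i < 900 → P i := stepQ 899 Q899 (allL N899 (tt N899 F5346) (tt N1101 (iv F6915)) (tt N1204 (iv F7511)) (tt N899 F5347) (tt N667 (iv D1047)) (tt N899 F5348) (tt N1205 D1500) (tt N899 F5349) (tt N1191 (iv F7431)) (tt N899 F5350))
theorem Q901 : ∀ i, i < 901 → P i := stepQ 900 Q900 (allL N900 (tt N900 F5351) (tt N1102 (iv F6920)) (tt N1200 F130752) (tt N668 F5352) (tt N1205 (iv F7522)) (tt N900 F5353) (tt N667 (iv D1048)) (tt N1201 F130753) (tt N1192 (iv F7434)) (tt N900 F5354))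
theorem Q902 : ∀ i, i < 902 → P i := stepQ 901 Q901 (allL N901 (tt N901 F5355) (tt N1103 (iv F6924)) (tt N699 F130706) (tt N1201 F130707) (tt N901 F5357) (tt N901 F5358) (tt N901 F5359) (tt N668 (iv D1049)) (tt N1196 (iv F7451)) (tt N901 F5360))
theorem Q903 : ∀ i, i < 903 → P i := stepQ 902 Q902 (allL N902 (tt N669 (iv D1050)) (tt N902 F5361) (tt N902 F5362) (tt N1160 (iv F7291)) (tt N902 F5363) (tt N902 F5364) (tt N1206 D1502) (tt N902 F5365) (tt N683 F5366) (tt N1207 D1503))
theorem Q904 : ∀ i, i < 904 → P i := stepQ 903 Q903 (allL N903 (tt N1206 (iv F7529)) (tt N670 F5367) (tt N903 F5368) (tt N1161 (iv F7296)) (tt N903 F5369) (tt N1208 D1504) (tt N669 (iv D1051)) (tt N1209 D1505) (tt N684 F5370) (tt N1210 D1506))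
theorem Q905 : ∀ i, i < 905 → P i := stepQ 904 Q904 (allL N904 (tt N1207 (iv F7534)) (tt N671 F5371) (tt N904 F5372) (tt N1162 (iv F7299)) (tt N904 F5373) (tt N904 F5374) (tt N1210 (iv F7552)) (tt N904 F5375) (tt N1211 D1507) (tt N669 (iv D1052)))
theorem Q906 : ∀ i, i < 906 → P i := stepQ 905 Q905 (allL N905 (tt N905 F5376) (tt N1208 (iv F7540)) (tt N672 F5377) (tt N1163 (iv F7304)) (tt N1212 D1508) (tt N670 (iv D1053)) (tt N905 F5378) (tt N1213 D1509) (tt N905 F5379) (tt N1214 D1510))
theorem Q907 : ∀ i, i < 907 → P i := stepQ 906 Q906 (allL N906 (tt N906 F5380) (tt N1209 (iv F7544)) (tt N673 F5381) (tt N1164 (iv F7309)) (tt N906 F5382) (tt N1213 (iv F7565)) (tt N906 F5383) (tt N670 (iv D1054)) (tt N686 F5384) (tt N1215 D1511))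
theorem Q908 : ∀ i, i < 908 → P i := stepQ 907 Q907 (allL N907 (tt N907 F5385) (tt N1210 (iv F7549)) (tt N674 F5386) (tt N1165 (iv F7314)) (tt N907 F5387) (tt N1214 (iv F7569)) (tt N671 F5388) (tt N1215 (iv F7575)) (tt N1216 D1512) (tt N670 (iv D1055)))
theorem Q909 : ∀ i, i < 909 → P i := stepQ 908 Q908 (allL N908 (tt N908 F5389) (tt N1211 (iv F7553)) (tt N675 F5390) (tt N1166 (iv F7318)) (tt N908 F5391) (tt N1217 D1513) (tt N1216 (iv F7579)) (tt N908 F5392) (tt N671 (iv D1056)) (tt N688 F5393))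
theorem Q910 : ∀ i, i < 910 → P i := stepQ 909 Q909 (allL N909 (tt N909 F5394) (tt N909 F5395) (tt N1212 (iv F7559)) (tt N909 F5396) (tt N672 (iv D1057)) (tt N909 F5397) (tt N909 F5398) (tt N1218 D1514) (tt N909 F5399) (tt N1219 D1515))
theorem Q911 : ∀ i, i < 911 → P i := stepQ 910 Q910 (allL N910 (tt N910 F5400) (tt N910 F5401) (tt N1213 (iv F7564)) (tt N676 F5402) (tt N1218 (iv F7589)) (tt N673 F5403) (tt N1220 D1516) (tt N672 (iv D1058)) (tt N910 F5404) (tt N1221 D1517))
theorem Q912 : ∀ i, i < 912 → P i := stepQ 911 Q911 (allL N911 (tt N911 F5405) (tt N911 F5406) (tt N1214 (iv F7568)) (tt N677 F5407) (tt N1219 (iv F7595)) (tt N674 F5408) (tt N911 F5409) (tt N1221 (iv F7608)) (tt N1222 D1518) (tt N672 (iv D1059)))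
theorem Q913 : ∀ i, i < 913 → P i := stepQ 912 Q912 (allL N912 (tt N912 F5410) (tt N912 F5411) (tt N1215 (iv F7572)) (tt N678 F5412) (tt N912 F5413) (tt N1221 (iv F7607)) (tt N912 F5414) (tt N674 F5415) (tt N1223 D1519) (tt N673 (iv D1060)))
theorem Q914 : ∀ i, i < 914 → P i := stepQ 913 Q913 (allL N913 (tt N913 F5416) (tt N913 F5417) (tt N1216 (iv F7577)) (tt N679 F5418) (tt N913 F5419) (tt N1224 D1520) (tt N675 F5420) (tt N1223 (iv F7619)) (tt N674 (iv D1061)) (tt N690 F5421))
theorem Q915 : ∀ i, i < 915 → P i := stepQ 914 Q914 (allL N914 (tt N914 F5422) (tt N914 F5423) (tt N1217 (iv F7582)) (tt N680 F5424) (tt N1225 D1521) (tt N675 (iv D1062)) (tt N1226 D1522) (tt N914 F5425) (tt N914 F5426) (tt N691 F5427))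
theorem Q916 : ∀ i, i < 916 → P i := stepQ 915 Q915 (allL N915 (tt N915 F5428) (tt N915 F5429) (tt N1173 (iv F7347)) (tt N1220 (iv F7600)) (tt N915 F5430) (tt N915 F5431) (tt N676 (iv D1063)) (tt N915 F5432) (tt N915 F5433) (tt N1227 D1523))
theorem Q917 : ∀ i, i < 917 → P i := stepQ 916 Q916 (allL N916 (tt N916 F5434) (tt N916 F5435) (tt N1174 (iv F7353)) (tt N1221 (iv F7606)) (tt N916 F5436) (tt N678 F5437) (tt N1227 (iv F7641)) (tt N677 F5438) (tt N1228 D1524) (tt N676 (iv D1064)))
theorem Q918 : ∀ i, i < 918 → P i := stepQ 917 Q917 (allL N917 (tt N917 F5439) (tt N917 F5440) (tt N1175 (iv F7358)) (tt N1222 (iv F7611)) (tt N917 F5441) (tt N1229 D1525) (tt N917 F5442) (tt N1228 (iv F7646)) (tt N677 (iv D1065)) (tt N917 F5443))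
theorem Q919 : ∀ i, i < 919 → P i := stepQ 918 Q918 (allL N918 (tt N918 F5444) (tt N918 F5445) (tt N1176 (iv F7363)) (tt N1223 (iv F7616)) (tt N681 F5446) (tt N1230 D1526) (tt N918 F5447) (tt N679 F5448) (tt N678 (iv D1066)) (tt N692 F5449))
theorem Q920 : ∀ i, i < 920 → P i := stepQ 919 Q919 (allL N919 (tt N919 F5450) (tt N919 F5451) (tt N1177 (iv F7369)) (tt N1224 (iv F7623)) (tt N1231 D1527) (tt N679 (iv D1067)) (tt N1232 D1528) (tt N1230 (iv F7654)) (tt N1229 (iv F7650)) (tt N693 F5452))
theorem Q921 : ∀ i, i < 921 → P i := stepQ 920 Q920 (allL N920 (tt N920 F5453) (tt N920 F5454) (tt N1178 (iv F7372)) (tt N1226 (iv F7634)) (tt N920 F5455) (tt N1232 (iv F7662)) (tt N680 (iv D1068)) (tt N1233 D1529) (tt N920 F5456) (tt N694 F5457))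
theorem Q922 : ∀ i, i < 922 → P i := stepQ 921 Q921 (allL N921 (tt N921 F5458) (tt N921 F5459) (tt N1179 (iv F7377)) (tt N921 F5460) (tt N1226 F131206) (tt N681 (iv D1069)) (tt N1225 F131207) (tt N682 F5461) (tt N921 F5462) (tt N695 F5463))
theorem Q923 : ∀ i, i < 923 → P i := stepQ 922 Q922 (allL N922 (tt N922 F5464) (tt N922 F5465) (tt N1180 (iv F7382)) (tt N1233 F131208) (tt N682 (iv D1070)) (tt N1231 (iv F7658)) (tt N922 F5466) (tt N1226 F131209) (tt N922 F5467) (tt N696 F5468))
theorem Q924 : ∀ i, i < 924 → P i := stepQ 923 Q923 (allL N923 (tt N684 F5469) (tt N923 F5470) (tt N923 F5471) (tt N1181 (iv F7388)) (tt N923 F5472) (tt N923 F5473) (tt N683 (iv D1071)) (tt N1234 D1533) (tt N1206 (iv F7533)) (tt N1235 D1534))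
theorem Q925 : ∀ i, i < 925 → P i := stepQ 924 Q924 (allL N924 (tt N685 F5474) (tt N924 F5475) (tt N924 F5476) (tt N1182 (iv F7392)) (tt N924 F5477) (tt N700 F5478) (tt N1235 (iv F7699)) (tt N924 F5479) (tt N1236 D1535) (tt N683 (iv D1072)))
theorem Q926 : ∀ i, i < 926 → P i := stepQ 925 Q925 (allL N925 (tt N1234 (iv F7688)) (tt N686 F5480) (tt N925 F5481) (tt N1183 (iv F7396)) (tt N925 F5482) (tt N925 F5483) (tt N925 F5484) (tt N684 (iv D1073)) (tt N1209 (iv F7548)) (tt N1237 D1536))
theorem Q927 : ∀ i, i < 927 → P i := stepQ 926 Q926 (allL N926 (tt N1235 (iv F7694)) (tt N687 F5485) (tt N926 F5486) (tt N1184 (iv F7400)) (tt N926 F5487) (tt N926 F5488) (tt N685 F5489) (tt N1237 (iv F7710)) (tt N1238 D1537) (tt N684 (iv D1074)))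
theorem Q928 : ∀ i, i < 928 → P i := stepQ 927 Q927 (allL N927 (tt N1236 (iv F7700)) (tt N688 F5490) (tt N927 F5491) (tt N1185 (iv F7404)) (tt N927 F5492) (tt N1239 D1538) (tt N1238 (iv F7714)) (tt N927 F5493) (tt N685 (iv D1075)) (tt N1211 (iv F7557)))
theorem Q929 : ∀ i, i < 929 → P i := stepQ 928 Q928 (allL N928 (tt N928 F5494) (tt N1237 (iv F7705)) (tt N689 F5495) (tt N1186 (iv F7408)) (tt N928 F5496) (tt N928 F5497) (tt N928 F5498) (tt N687 F5499) (tt N1240 D1539) (tt N686 (iv D1076)))
theorem Q930 : ∀ i, i < 930 → P i := stepQ 929 Q929 (allL N929 (tt N929 F5500) (tt N1238 (iv F7711)) (tt N690 F5501) (tt N1187 (iv F7414)) (tt N929 F5502) (tt N1241 D1540) (tt N688 F5503) (tt N1240 (iv F7723)) (tt N687 (iv D1077)) (tt N1216 (iv F7580)))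
theorem Q931 : ∀ i, i < 931 → P i := stepQ 930 Q930 (allL N930 (tt N930 F5504) (tt N1239 (iv F7715)) (tt N691 F5505) (tt N1188 (iv F7418)) (tt N1198 (iv F130954)) (tt N688 (iv D1078)) (tt N1197 (iv F130948)) (tt N930 F5506) (tt N702 F5507) (tt N1217 (iv F7585)))
theorem Q932 : ∀ i, i < 932 → P i := stepQ 931 Q931 (allL N931 (tt N931 F5508) (tt N931 F5509) (tt N1240 (iv F7720)) (tt N692 F5510) (tt N931 F5511) (tt N1242 D1543) (tt N931 F5512) (tt N690 F5513) (tt N689 (iv D1079)) (tt N1223 (iv F7620)))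
theorem Q933 : ∀ i, i < 933 → P i := stepQ 932 Q932 (allL N932 (tt N932 F5514) (tt N932 F5515) (tt N1241 (iv F7725)) (tt N693 F5516) (tt N1243 D1544) (tt N690 (iv D1080)) (tt N1244 D1545) (tt N1242 (iv F7738)) (tt N932 F5517) (tt N1224 (iv F7624)))
theorem Q934 : ∀ i, i < 934 → P i := stepQ 933 Q933 (allL N933 (tt N933 F5518) (tt N933 F5519) (tt N1198 (iv F130953)) (tt N933 F5520) (tt N691 (iv D1081)) (tt N933 F5521) (tt N695 (iv F130950)) (tt N933 F5522) (tt N698 F130698) (tt N1225 (iv F7631)))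
theorem Q935 : ∀ i, i < 935 → P i := stepQ 934 Q934 (allL N934 (tt N934 F5524) (tt N934 F5525) (tt N1197 (iv F130946)) (tt N694 F5526) (tt N695 (iv F130949)) (tt N1244 (iv F7747)) (tt N691 (iv D1082)) (tt N696 (iv F130952)) (tt N697 F130697) (tt N1226 (iv F7636)))
theorem Q936 : ∀ i, i < 936 → P i := stepQ 935 Q935 (allL N935 (tt N935 F5528) (tt N935 F5529) (tt N1193 (iv F7436)) (tt N1242 (iv F7737)) (tt N1244 F131218) (tt N692 (iv D1083)) (tt N1243 F131219) (tt N693 F5530) (tt N935 F5531) (tt N1230 (iv F7655)))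
theorem Q937 : ∀ i, i < 937 → P i := stepQ 936 Q936 (allL N936 (tt N936 F5532) (tt N936 F5533) (tt N1194 (iv F7440)) (tt N1245 D1550) (tt N693 (iv D1084)) (tt N696 F5534) (tt N1246 D1551) (tt N1244 F131220) (tt N936 F5535) (tt N1231 (iv F7659)))
theorem Q938 : ∀ i, i < 938 → P i := stepQ 937 Q937 (allL N937 (tt N937 F5536) (tt N937 F5537) (tt N1195 (iv F7444)) (tt N1244 (iv F7746)) (tt N1246 (iv F7774)) (tt N694 F5538) (tt N693 (iv D1085)) (tt N1245 F131217) (tt N937 F5539) (tt N1232 (iv F7663)))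
theorem Q939 : ∀ i, i < 939 → P i := stepQ 938 Q938 (allL N938 (tt N938 F5540) (tt N938 F5541) (tt N1196 (iv F7448)) (tt N696 (iv F130951)) (tt N938 F5542) (tt N1245 (iv F130945)) (tt N938 F5543) (tt N694 (iv D1086)) (tt N699 F130699) (tt N1233 (iv F7669)))
theorem Q940 : ∀ i, i < 940 → P i := stepQ 939 Q939 (allL N939 (tt N701 F5600) (tt N939 F5601) (tt N939 F5602) (tt N1202 (iv F7501)) (tt N703 F5603) (tt N1247 D1565) (tt N939 F5604) (tt N939 F5605) (tt N700 (iv D1097)) (tt N939 F5606))
theorem Q941 : ∀ i, i < 941 → P i := stepQ 940 Q940 (allL N940 (tt N1247 (iv F7847)) (tt N702 F5607) (tt N940 F5608) (tt N1203 (iv F7507)) (tt N1096 (iv F130956)) (tt N701 (iv D1098)) (tt N1095 (iv F130957)) (tt N940 F5609) (tt N1239 (iv F7718)) (tt N940 F5610))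
theorem Q942 : ∀ i, i < 942 → P i := stepQ 941 Q941 (allL N941 (tt N704 F5631) (tt N941 F5632) (tt N941 F5633) (tt N941 F5634) (tt N1008 (iv F131643)) (tt N703 (iv D1103)) (tt N1007 (iv F131874)) (tt N941 F5635) (tt N941 F5636) (tt N941 F5637))
theorem Q943 : ∀ i, i < 943 → P i := stepQ 942 Q942 (allL N942 (tt N942 F5679) (tt N709 F5680) (tt N1248 D1583) (tt N705 (iv D1111)) (tt N942 F5681) (tt N942 F5682) (tt N942 F5683) (tt N942 F5684) (tt N1249 D1584) (tt N942 F5685))
theorem Q944 : ∀ i, i < 944 → P i := stepQ 943 Q943 (allL N943 (tt N943 F5686) (tt N710 F5687) (tt N943 F5688) (tt N1249 (iv F7954)) (tt N706 F5689) (tt N1250 D1585) (tt N943 F5690) (tt N943 F5691) (tt N705 (iv D1112)) (tt N1251 D1586))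
theorem Q945 : ∀ i, i < 945 → P i := stepQ 944 Q944 (allL N944 (tt N944 F5692) (tt N711 F5693) (tt N944 F5694) (tt N944 F5695) (tt N1252 D1587) (tt N706 (iv D1113)) (tt N855 (iv F20033)) (tt N944 F5696) (tt N707 F5697) (tt N1253 D1589))
theorem Q946 : ∀ i, i < 946 → P i := stepQ 945 Q945 (allL N945 (tt N945 F5698) (tt N712 F5699) (tt N945 F5700) (tt N945 F5701) (tt N1251 (iv F7966)) (tt N1253 (iv F7985)) (tt N945 F5702) (tt N945 F5703) (tt N945 F5704) (tt N706 (iv D1114)))
theorem Q947 : ∀ i, i < 947 → P i := stepQ 946 Q946 (allL N946 (tt N946 F5705) (tt N713 F5706) (tt N946 F5707) (tt N1254 D1590) (tt N707 (iv D1115)) (tt N946 F5708) (tt N847 (iv F20040)) (tt N946 F5709) (tt N1252 (iv F7974)) (tt N1255 D1592))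
theorem Q948 : ∀ i, i < 948 → P i := stepQ 947 Q947 (allL N947 (tt N947 F5715) (tt N715 F5716) (tt N947 F5717) (tt N947 F5718) (tt N1255 (iv F7999)) (tt N708 F5719) (tt N856 (iv F20042)) (tt N947 F5720) (tt N1256 D1595) (tt N707 (iv D1117)))
theorem Q949 : ∀ i, i < 949 → P i := stepQ 948 Q948 (allL N948 (tt N759 F5804) (tt N1249 (iv F7953)) (tt N948 F5805) (tt N710 F5806) (tt N948 F5807) (tt N1257 D1619) (tt N948 F5808) (tt N948 F5809) (tt N709 (iv D1133)) (tt N1258 D1620))
theorem Q950 : ∀ i, i < 950 → P i := stepQ 949 Q949 (allL N949 (tt N760 F5810) (tt N1250 (iv F7959)) (tt N718 F5811) (tt N1257 (iv F8151)) (tt N1259 D1621) (tt N710 (iv D1134)) (tt N1260 D1622) (tt N949 F5812) (tt N949 F5813) (tt N1261 D1623))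
theorem Q951 : ∀ i, i < 951 → P i := stepQ 950 Q950 (allL N950 (tt N761 F5814) (tt N1251 (iv F7964)) (tt N719 F5815) (tt N1258 (iv F8156)) (tt N712 F5816) (tt N1261 (iv F8172)) (tt N950 F5817) (tt N950 F5818) (tt N950 F5819) (tt N710 (iv D1135)))
theorem Q952 : ∀ i, i < 952 → P i := stepQ 951 Q951 (allL N951 (tt N762 F5820) (tt N1252 (iv F7971)) (tt N720 F5821) (tt N1262 D1624) (tt N711 (iv D1136)) (tt N1259 (iv F8163)) (tt N1263 D1625) (tt N951 F5822) (tt N713 F5823) (tt N1264 D1626))
theorem Q953 : ∀ i, i < 953 → P i := stepQ 952 Q952 (allL N952 (tt N763 F5824) (tt N855 (iv F20032)) (tt N721 F5825) (tt N952 F5826) (tt N1263 (iv F8180)) (tt N952 F5827) (tt N711 (iv D1137)) (tt N789 (iv F20044)) (tt N714 F5828) (tt N1265 D1628))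
theorem Q954 : ∀ i, i < 954 → P i := stepQ 953 Q953 (allL N953 (tt N764 F5829) (tt N1253 (iv F7982)) (tt N722 F5830) (tt N953 F5831) (tt N1264 (iv F8184)) (tt N712 F5832) (tt N1265 (iv F8196)) (tt N953 F5833) (tt N1266 D1629) (tt N711 (iv D1138)))
theorem Q955 : ∀ i, i < 955 → P i := stepQ 954 Q954 (allL N954 (tt N765 F5834) (tt N1254 (iv F7988)) (tt N1267 D1630) (tt N713 (iv D1139)) (tt N954 F5835) (tt N954 F5836) (tt N1268 D1631) (tt N954 F5837) (tt N1262 (iv F8177)) (tt N1269 D1632))
theorem Q956 : ∀ i, i < 956 → P i := stepQ 955 Q955 (allL N955 (tt N766 F5838) (tt N847 (iv F20039)) (tt N724 F5839) (tt N1268 (iv F8209)) (tt N714 F5840) (tt N784 (iv F20031)) (tt N713 (iv D1140)) (tt N783 (iv F20029)) (tt N1263 (iv F8181)) (tt N1270 D1635))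
theorem Q957 : ∀ i, i < 957 → P i := stepQ 956 Q956 (allL N956 (tt N767 F5841) (tt N1255 (iv F7997)) (tt N725 F5842) (tt N1269 (iv F8212)) (tt N715 F5843) (tt N956 F5844) (tt N1270 (iv F8227)) (tt N956 F5845) (tt N1271 D1636) (tt N713 (iv D1141)))
theorem Q958 : ∀ i, i < 958 → P i := stepQ 957 Q957 (allL N957 (tt N768 F5851) (tt N856 (iv F20041)) (tt N727 F5852) (tt N957 F5853) (tt N1270 (iv F8226)) (tt N716 F5854) (tt N715 F5855) (tt N790 (iv F20048)) (tt N1272 D1638) (tt N714 (iv D1143)))
theorem Q959 : ∀ i, i < 959 → P i := stepQ 958 Q958 (allL N958 (tt N769 F5856) (tt N1256 (iv F8015)) (tt N728 F5857) (tt N958 F5858) (tt N1271 (iv F8230)) (tt N958 F5859) (tt N1272 (iv F8241)) (tt N958 F5860) (tt N715 (iv D1144)) (tt N1266 (iv F8202)))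
theorem Q960 : ∀ i, i < 960 → P i := stepQ 959 Q959 (allL N959 (tt N770 F5894) (tt N859 (iv F20169)) (tt N733 F5895) (tt N959 F5896) (tt N793 (iv F20127)) (tt N1273 D1650) (tt N717 F5897) (tt N791 (iv F20125)) (tt N716 (iv D1152)) (tt N959 F5898))
theorem Q961 : ∀ i, i < 961 → P i := stepQ 960 Q960 (allL N960 (tt N771 F5957) (tt N960 F5958) (tt N1259 (iv F8162)) (tt N1274 D1668) (tt N718 (iv D1165)) (tt N720 F5959) (tt N1275 D1669) (tt N960 F5960) (tt N960 F5961) (tt N1276 D1670))
theorem Q962 : ∀ i, i < 962 → P i := stepQ 961 Q961 (allL N961 (tt N772 F5962) (tt N961 F5963) (tt N1260 (iv F8167)) (tt N961 F5964) (tt N1275 (iv F8391)) (tt N961 F5965) (tt N718 (iv D1166)) (tt N1277 D1671) (tt N961 F5966) (tt N1278 D1672))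
theorem Q963 : ∀ i, i < 963 → P i := stepQ 962 Q962 (allL N962 (tt N773 F5967) (tt N962 F5968) (tt N1261 (iv F8171)) (tt N962 F5969) (tt N1276 (iv F8395)) (tt N719 F5970) (tt N1278 (iv F8408)) (tt N962 F5971) (tt N1279 D1673) (tt N718 (iv D1167)))
theorem Q964 : ∀ i, i < 964 → P i := stepQ 963 Q963 (allL N963 (tt N774 F5972) (tt N963 F5973) (tt N1280 D1674) (tt N720 (iv D1168)) (tt N737 F5974) (tt N1274 (iv F8386)) (tt N1281 D1675) (tt N963 F5975) (tt N723 F5976) (tt N1282 D1676))
theorem Q965 : ∀ i, i < 965 → P i := stepQ 964 Q964 (allL N964 (tt N775 F5977) (tt N964 F5978) (tt N1263 (iv F8179)) (tt N1281 (iv F8421)) (tt N721 F5979) (tt N1283 D1677) (tt N720 (iv D1169)) (tt N1284 D1678) (tt N724 F5980) (tt N1285 D1679))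
theorem Q966 : ∀ i, i < 966 → P i := stepQ 965 Q965 (allL N965 (tt N776 F5981) (tt N965 F5982) (tt N1264 (iv F8183)) (tt N1282 (iv F8426)) (tt N722 F5983) (tt N1276 (iv F8396)) (tt N1285 (iv F8440)) (tt N965 F5984) (tt N1286 D1680) (tt N720 (iv D1170)))
theorem Q967 : ∀ i, i < 967 → P i := stepQ 966 Q966 (allL N966 (tt N777 F5985) (tt N966 F5986) (tt N789 (iv F20043)) (tt N740 F5987) (tt N1284 (iv F8434)) (tt N966 F5988) (tt N966 F5989) (tt N721 (iv D1171)) (tt N726 F5990) (tt N1287 D1681))
theorem Q968 : ∀ i, i < 968 → P i := stepQ 967 Q967 (allL N967 (tt N778 F5991) (tt N967 F5992) (tt N1265 (iv F8193)) (tt N741 F5993) (tt N1285 (iv F8439)) (tt N967 F5994) (tt N722 F5995) (tt N1287 (iv F8451)) (tt N1288 D1682) (tt N721 (iv D1172)))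
theorem Q969 : ∀ i, i < 969 → P i := stepQ 968 Q968 (allL N968 (tt N779 F5996) (tt N968 F5997) (tt N1266 (iv F8198)) (tt N742 F5998) (tt N1286 (iv F8443)) (tt N968 F5999) (tt N1288 (iv F8455)) (tt N968 F6000) (tt N722 (iv D1173)) (tt N728 F6001))
theorem Q970 : ∀ i, i < 970 → P i := stepQ 969 Q969 (allL N969 (tt N780 F6002) (tt N1289 D1683) (tt N723 (iv D1174)) (tt N1267 (iv F8204)) (tt N743 F6003) (tt N969 F6004) (tt N1290 D1684) (tt N969 F6005) (tt N1280 (iv F8418)) (tt N1291 D1685))
theorem Q971 : ∀ i, i < 971 → P i := stepQ 970 Q970 (allL N970 (tt N781 F6006) (tt N970 F6007) (tt N1290 (iv F8462)) (tt N724 F6008) (tt N744 F6009) (tt N1292 D1686) (tt N723 (iv D1175)) (tt N1293 D1687) (tt N1281 (iv F8423)) (tt N1294 D1688))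
theorem Q972 : ∀ i, i < 972 → P i := stepQ 971 Q971 (allL N971 (tt N782 F6010) (tt N971 F6011) (tt N1291 (iv F8465)) (tt N725 F6012) (tt N745 F6013) (tt N971 F6014) (tt N1294 (iv F8483)) (tt N971 F6015) (tt N1295 D1689) (tt N723 (iv D1176)))
theorem Q973 : ∀ i, i < 973 → P i := stepQ 972 Q972 (allL N972 (tt N783 F6016) (tt N972 F6017) (tt N784 (iv F20030)) (tt N1292 (iv F8471)) (tt N729 F6018) (tt N724 (iv D1177)) (tt N972 F6019) (tt N766 (iv F20017)) (tt N1296 D1691) (tt N1297 D1692))
theorem Q974 : ∀ i, i < 974 → P i := stepQ 973 Q973 (allL N973 (tt N784 F6020) (tt N973 F6021) (tt N783 (iv F20028)) (tt N1293 (iv F8476)) (tt N726 F6022) (tt N766 (iv F20016)) (tt N973 F6023) (tt N724 (iv D1178)) (tt N1284 (iv F8436)) (tt N1298 D1693))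
theorem Q975 : ∀ i, i < 975 → P i := stepQ 974 Q974 (allL N974 (tt N785 F6024) (tt N974 F6025) (tt N1270 (iv F8225)) (tt N1294 (iv F8481)) (tt N727 F6026) (tt N1297 (iv F8500)) (tt N725 F6027) (tt N1298 (iv F8506)) (tt N1299 D1694) (tt N724 (iv D1179)))
theorem Q976 : ∀ i, i < 976 → P i := stepQ 975 Q975 (allL N975 (tt N786 F6028) (tt N975 F6029) (tt N1271 (iv F8229)) (tt N1295 (iv F8486)) (tt N728 F6030) (tt N1300 D1695) (tt N1299 (iv F8510)) (tt N975 F6031) (tt N725 (iv D1180)) (tt N1286 (iv F8445)))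
theorem Q977 : ∀ i, i < 977 → P i := stepQ 976 Q976 (allL N976 (tt N787 F6032) (tt N976 F6033) (tt N790 (iv F20047)) (tt N749 F6034) (tt N1298 (iv F8504)) (tt N732 F6035) (tt N976 F6036) (tt N727 F6037) (tt N1301 D1696) (tt N726 (iv D1181)))
theorem Q978 : ∀ i, i < 978 → P i := stepQ 977 Q977 (allL N977 (tt N788 F6038) (tt N977 F6039) (tt N1272 (iv F8239)) (tt N750 F6040) (tt N1299 (iv F8509)) (tt N1302 D1697) (tt N728 F6041) (tt N1301 (iv F8520)) (tt N727 (iv D1182)) (tt N1288 (iv F8456)))
theorem Q979 : ∀ i, i < 979 → P i := stepQ 978 Q978 (allL N978 (tt N789 F6046) (tt N978 F6047) (tt N777 F20050) (tt N978 F6048) (tt N1296 (iv F8495)) (tt N978 F6049) (tt N978 F6050) (tt N763 F20051) (tt N729 (iv D1184)) (tt N1303 D1701))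
theorem Q980 : ∀ i, i < 980 → P i := stepQ 979 Q979 (allL N979 (tt N790 F6051) (tt N979 F6052) (tt N787 F20062) (tt N979 F6053) (tt N1297 (iv F8499)) (tt N730 F6054) (tt N979 F6055) (tt N768 F20063) (tt N1304 D1702) (tt N729 (iv D1185)))
theorem Q981 : ∀ i, i < 981 → P i := stepQ 980 Q980 (allL N980 (tt N791 F6062) (tt N980 F6063) (tt N793 (iv F20126)) (tt N980 F6064) (tt N733 F6065) (tt N1305 D1704) (tt N731 F6066) (tt N770 (iv F20112)) (tt N730 (iv D1187)) (tt N980 F6067))
theorem Q982 : ∀ i, i < 982 → P i := stepQ 981 Q981 (allL N981 (tt N792 F6068) (tt N981 F6069) (tt N795 (iv F20196)) (tt N981 F6070) (tt N981 F6071) (tt N731 (iv D1188)) (tt N1306 D1705) (tt N734 F6072) (tt N981 F6073) (tt N981 F6074))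
theorem Q983 : ∀ i, i < 983 → P i := stepQ 982 Q982 (allL N982 (tt N793 F6075) (tt N982 F6076) (tt N791 (iv F20124)) (tt N751 F6077) (tt N770 (iv F20111)) (tt N1307 D1706) (tt N735 F6078) (tt N733 F6079) (tt N732 (iv D1189)) (tt N982 F6080))
theorem Q984 : ∀ i, i < 984 → P i := stepQ 983 Q983 (allL N983 (tt N794 F6081) (tt N983 F6082) (tt N1273 (iv F8297)) (tt N752 F6083) (tt N1308 D1707) (tt N733 (iv D1190)) (tt N983 F6084) (tt N1307 (iv F8570)) (tt N1302 (iv F8525)) (tt N983 F6085))
theorem Q985 : ∀ i, i < 985 → P i := stepQ 984 Q984 (allL N984 (tt N795 F6130) (tt N984 F6131) (tt N792 F20244) (tt N753 F6132) (tt N984 F20267) (tt N735 (iv D1199)) (tt N1309 D1719) (tt N736 F6133) (tt N984 F6134) (tt N984 F6135))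
theorem Q986 : ∀ i, i < 986 → P i := stepQ 985 Q985 (allL N985 (tt N796 F6141) (tt N1310 D1721) (tt N737 (iv D1201)) (tt N985 F6142) (tt N1280 (iv F8416)) (tt N985 F6143) (tt N1311 D1722) (tt N985 F6144) (tt N743 F6145) (tt N1312 D1723))
theorem Q987 : ∀ i, i < 987 → P i := stepQ 986 Q986 (allL N986 (tt N797 F6146) (tt N986 F6147) (tt N1311 (iv F8652)) (tt N738 F6148) (tt N1281 (iv F8422)) (tt N1313 D1724) (tt N737 (iv D1202)) (tt N1314 D1725) (tt N744 F6149) (tt N1315 D1726))
theorem Q988 : ∀ i, i < 988 → P i := stepQ 987 Q987 (allL N987 (tt N798 F6150) (tt N987 F6151) (tt N1312 (iv F8656)) (tt N739 F6152) (tt N1282 (iv F8427)) (tt N987 F6153) (tt N1315 (iv F8673)) (tt N987 F6154) (tt N1316 D1727) (tt N737 (iv D1203)))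
theorem Q989 : ∀ i, i < 989 → P i := stepQ 988 Q988 (allL N988 (tt N799 F6155) (tt N988 F6156) (tt N988 F6157) (tt N1313 (iv F8662)) (tt N988 F6158) (tt N738 (iv D1204)) (tt N988 F6159) (tt N1317 D1728) (tt N988 F6160) (tt N1318 D1729))
theorem Q990 : ∀ i, i < 990 → P i := stepQ 989 Q989 (allL N989 (tt N800 F6161) (tt N989 F6162) (tt N989 F6163) (tt N1314 (iv F8667)) (tt N740 F6164) (tt N1317 (iv F8683)) (tt N989 F6165) (tt N738 (iv D1205)) (tt N746 F6166) (tt N1319 D1730))
theorem Q991 : ∀ i, i < 991 → P i := stepQ 990 Q990 (allL N990 (tt N801 F6167) (tt N990 F6168) (tt N990 F6169) (tt N1315 (iv F8672)) (tt N741 F6170) (tt N1318 (iv F8689)) (tt N739 F6171) (tt N1319 (iv F8696)) (tt N1320 D1731) (tt N738 (iv D1206)))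
theorem Q992 : ∀ i, i < 992 → P i := stepQ 991 Q991 (allL N991 (tt N802 F6172) (tt N991 F6173) (tt N991 F6174) (tt N1316 (iv F8676)) (tt N742 F6175) (tt N1321 D1732) (tt N1320 (iv F8701)) (tt N991 F6176) (tt N739 (iv D1207)) (tt N748 F6177))
theorem Q993 : ∀ i, i < 993 → P i := stepQ 992 Q992 (allL N992 (tt N803 F6178) (tt N992 F6179) (tt N992 F6180) (tt N1287 (iv F8448)) (tt N1319 (iv F8694)) (tt N992 F6181) (tt N992 F6182) (tt N741 F6183) (tt N1322 D1733) (tt N740 (iv D1208)))
theorem Q994 : ∀ i, i < 994 → P i := stepQ 993 Q993 (allL N993 (tt N804 F6184) (tt N993 F6185) (tt N993 F6186) (tt N1288 (iv F8454)) (tt N1320 (iv F8700)) (tt N1323 D1734) (tt N742 F6187) (tt N1322 (iv F8714)) (tt N741 (iv D1209)) (tt N750 F6188))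
theorem Q995 : ∀ i, i < 995 → P i := stepQ 994 Q994 (allL N994 (tt N1324 D1735) (tt N743 (iv D1210)) (tt N994 F6189) (tt N994 F6190) (tt N1289 (iv F8458)) (tt N755 F6191) (tt N1325 D1736) (tt N994 F6192) (tt N1310 (iv F8650)) (tt N1326 D1737))
theorem Q996 : ∀ i, i < 996 → P i := stepQ 995 Q995 (allL N995 (tt N806 F6193) (tt N1325 (iv F8727)) (tt N744 F6194) (tt N995 F6195) (tt N1290 (iv F8463)) (tt N995 F6196) (tt N743 (iv D1211)) (tt N1327 D1738) (tt N1311 (iv F8654)) (tt N1328 D1739))
theorem Q997 : ∀ i, i < 997 → P i := stepQ 996 Q996 (allL N996 (tt N807 F6197) (tt N1326 (iv F8731)) (tt N745 F6198) (tt N996 F6199) (tt N1291 (iv F8466)) (tt N756 F6200) (tt N1328 (iv F8745)) (tt N996 F6201) (tt N1329 D1740) (tt N743 (iv D1212)))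
theorem Q998 : ∀ i, i < 998 → P i := stepQ 997 Q997 (allL N997 (tt N808 F6202) (tt N997 F6203) (tt N1327 (iv F8737)) (tt N746 F6204) (tt N1293 (iv F8477)) (tt N997 F6205) (tt N997 F6206) (tt N744 (iv D1213)) (tt N1314 (iv F8669)) (tt N1330 D1741))
theorem Q999 : ∀ i, i < 999 → P i := stepQ 998 Q998 (allL N998 (tt N809 F6207) (tt N998 F6208) (tt N1328 (iv F8742)) (tt N747 F6209) (tt N1294 (iv F8482)) (tt N998 F6210) (tt N745 F6211) (tt N1330 (iv F8755)) (tt N1331 D1742) (tt N744 (iv D1214)))
theorem Q1000 : ∀ i, i < 1000 → P i := stepQ 999 Q999 (allL N999 (tt N810 F6212) (tt N999 F6213) (tt N1329 (iv F8747)) (tt N748 F6214) (tt N1295 (iv F8487)) (tt N1332 D1743) (tt N1331 (iv F8759)) (tt N999 F6215) (tt N745 (iv D1215)) (tt N1316 (iv F8678)))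
theorem Q1001 : ∀ i, i < 1001 → P i := stepQ 1000 Q1000 (allL N1000 (tt N811 F6216) (tt N1000 F6217) (tt N1000 F6218) (tt N1330 (iv F8752)) (tt N749 F6219) (tt N1000 F6220) (tt N1000 F6221) (tt N747 F6222) (tt N1333 D1744) (tt N746 (iv D1216)))
theorem Q1002 : ∀ i, i < 1002 → P i := stepQ 1001 Q1001 (allL N1001 (tt N812 F6223) (tt N1001 F6224) (tt N1001 F6225) (tt N1331 (iv F8758)) (tt N750 F6226) (tt N1334 D1745) (tt N748 F6227) (tt N1333 (iv F8770)) (tt N747 (iv D1217)) (tt N1320 (iv F8702)))
theorem Q1003 : ∀ i, i < 1003 → P i := stepQ 1002 Q1002 (allL N1002 (tt N813 F6228) (tt N1002 F6229) (tt N1002 F6230) (tt N1332 (iv F8762)) (tt N1002 F6231) (tt N748 (iv D1218)) (tt N1335 D1746) (tt N1002 F6232) (tt N758 F6233) (tt N1321 (iv F8709)))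
theorem Q1004 : ∀ i, i < 1004 → P i := stepQ 1003 Q1003 (allL N1003 (tt N814 F6234) (tt N1003 F6235) (tt N1003 F6236) (tt N1301 (iv F8518)) (tt N1333 (iv F8768)) (tt N1336 D1747) (tt N1003 F6237) (tt N750 F6238) (tt N749 (iv D1219)) (tt N1322 (iv F8715)))
theorem Q1005 : ∀ i, i < 1005 → P i := stepQ 1004 Q1004 (allL N1004 (tt N815 F6239) (tt N1004 F6240) (tt N1004 F6241) (tt N1302 (iv F8523)) (tt N1337 D1748) (tt N750 (iv D1220)) (tt N1004 F6242) (tt N1336 (iv F8783)) (tt N752 F6243) (tt N1323 (iv F8721)))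
theorem Q1006 : ∀ i, i < 1006 → P i := stepQ 1005 Q1005 (allL N1005 (tt N816 F6244) (tt N1005 F6245) (tt N1005 F6246) (tt N1307 (iv F8569)) (tt N1338 D1749) (tt N751 (iv D1221)) (tt N1339 D1750) (tt N752 F6247) (tt N1336 (iv F8784)) (tt N1005 F6248))
theorem Q1007 : ∀ i, i < 1007 → P i := stepQ 1006 Q1006 (allL N1006 (tt N817 F6249) (tt N1006 F6250) (tt N1006 F6251) (tt N1340 D1751) (tt N752 (iv D1222)) (tt N1006 F6252) (tt N1006 F6253) (tt N1338 (iv F8794)) (tt N1337 (iv F8789)) (tt N1006 F6254))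
theorem Q1008 : ∀ i, i < 1008 → P i := stepQ 1007 Q1007 (allL N1007 (tt N818 F6255) (tt N1007 F6256) (tt N1007 F6257) (tt N1007 F20305) (tt N753 (iv D1223)) (tt N1007 F6258) (tt N941 F131874) (tt N754 F6259) (tt N1007 F6260) (tt N1007 F6261))
theorem Q1009 : ∀ i, i < 1009 → P i := stepQ 1008 Q1008 (allL N1008 (tt N819 F6262) (tt N1008 F6263) (tt N1008 F6264) (tt N1309 (iv F8636)) (tt N941 F131643) (tt N1339 (iv F8799)) (tt N753 (iv D1224)) (tt N1008 F6265) (tt N1008 F6266) (tt N1008 F6267))
theorem Q1010 : ∀ i, i < 1010 → P i := stepQ 1009 Q1009 (allL N1009 (tt N755 (iv D1226)) (tt N820 F6274) (tt N1009 F6275) (tt N1009 F6276) (tt N1009 F6277) (tt N1324 (iv F8725)) (tt N1009 F6278) (tt N1009 F6279) (tt N1009 F6280) (tt N1341 D1755))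
theorem Q1011 : ∀ i, i < 1011 → P i := stepQ 1010 Q1010 (allL N1010 (tt N1341 (iv F8826)) (tt N756 F6281) (tt N1010 F6282) (tt N1010 F6283) (tt N1010 F6284) (tt N1326 (iv F8734)) (tt N1010 F6285) (tt N1010 F6286) (tt N1342 D1756) (tt N755 (iv D1227)))
theorem Q1012 : ∀ i, i < 1012 → P i := stepQ 1011 Q1011 (allL N1011 (tt N822 F6287) (tt N1342 (iv F8833)) (tt N757 F6288) (tt N1011 F6289) (tt N1011 F6290) (tt N1343 D1757) (tt N1011 F6291) (tt N1011 F6292) (tt N756 (iv D1228)) (tt N1011 F6293))
theorem Q1013 : ∀ i, i < 1013 → P i := stepQ 1012 Q1012 (allL N1012 (tt N823 F6294) (tt N1012 F6295) (tt N1343 (iv F8841)) (tt N758 F6296) (tt N1344 D1758) (tt N757 (iv D1229)) (tt N1345 D1759) (tt N1012 F6297) (tt N1332 (iv F8764)) (tt N1012 F6298))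
theorem Q1014 : ∀ i, i < 1014 → P i := stepQ 1013 Q1013 (allL N1013 (tt N824 F6299) (tt N1013 F6300) (tt N1013 F6301) (tt N1345 (iv F8853)) (tt N1013 F6302) (tt N1013 F6303) (tt N758 (iv D1230)) (tt N1346 D1760) (tt N1335 (iv F8779)) (tt N1013 F6304))
theorem Q1015 : ∀ i, i < 1015 → P i := stepQ 1014 Q1014 (allL N1014 (tt N1257 (iv F8149)) (tt N1014 F6305) (tt N1014 F6306) (tt N760 F6307) (tt N1347 D1761) (tt N759 (iv D1231)) (tt N1348 D1762) (tt N1014 F6308) (tt N1014 F6309) (tt N1349 D1763))
theorem Q1016 : ∀ i, i < 1016 → P i := stepQ 1015 Q1015 (allL N1015 (tt N1258 (iv F8154)) (tt N1015 F6310) (tt N1015 F6311) (tt N761 F6312) (tt N1015 F6313) (tt N1349 (iv F8876)) (tt N1015 F6314) (tt N1015 F6315) (tt N1015 F6316) (tt N759 (iv D1232)))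
theorem Q1017 : ∀ i, i < 1017 → P i := stepQ 1016 Q1016 (allL N1016 (tt N1259 (iv F8161)) (tt N1016 F6317) (tt N771 F6318) (tt N1350 D1764) (tt N760 (iv D1233)) (tt N762 F6319) (tt N1351 D1765) (tt N1016 F6320) (tt N1016 F6321) (tt N1352 D1766))
theorem Q1018 : ∀ i, i < 1018 → P i := stepQ 1017 Q1017 (allL N1017 (tt N1260 (iv F8166)) (tt N1017 F6322) (tt N772 F6323) (tt N1348 (iv F8870)) (tt N1351 (iv F8884)) (tt N1017 F6324) (tt N760 (iv D1234)) (tt N1353 D1767) (tt N1017 F6325) (tt N1354 D1768))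
theorem Q1019 : ∀ i, i < 1019 → P i := stepQ 1018 Q1018 (allL N1018 (tt N1261 (iv F8170)) (tt N1018 F6326) (tt N773 F6327) (tt N1349 (iv F8875)) (tt N1352 (iv F8888)) (tt N761 F6328) (tt N1354 (iv F8899)) (tt N1018 F6329) (tt N1355 D1769) (tt N760 (iv D1235)))
theorem Q1020 : ∀ i, i < 1020 → P i := stepQ 1019 Q1019 (allL N1019 (tt N1262 (iv F8174)) (tt N1019 F6330) (tt N1356 D1770) (tt N762 (iv D1236)) (tt N1019 F6331) (tt N1350 (iv F8879)) (tt N1357 D1771) (tt N1019 F6332) (tt N765 F6333) (tt N1358 D1772))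
theorem Q1021 : ∀ i, i < 1021 → P i := stepQ 1020 Q1020 (allL N1020 (tt N1263 (iv F8178)) (tt N1020 F6334) (tt N775 F6335) (tt N1357 (iv F8910)) (tt N763 F6336) (tt N1359 D1773) (tt N762 (iv D1237)) (tt N1296 F20049) (tt N766 F6337) (tt N1360 D1775))
theorem Q1022 : ∀ i, i < 1022 → P i := stepQ 1021 Q1021 (allL N1021 (tt N1264 (iv F8182)) (tt N1021 F6338) (tt N776 F6339) (tt N1358 (iv F8914)) (tt N764 F6340) (tt N1352 (iv F8889)) (tt N1360 (iv F8928)) (tt N1021 F6341) (tt N1361 D1776) (tt N762 (iv D1238)))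
theorem Q1023 : ∀ i, i < 1023 → P i := stepQ 1022 Q1022 (allL N1022 (tt N1265 (iv F8192)) (tt N1022 F6348) (tt N778 F6349) (tt N1022 F6350) (tt N1360 (iv F8927)) (tt N1022 F6351) (tt N764 F6352) (tt N1303 (iv F20106)) (tt N1362 D1778) (tt N763 (iv D1240)))
theorem Q1024 : ∀ i, i < 1024 → P i := stepQ 1023 Q1023 (allL N1023 (tt N1266 (iv F8197)) (tt N1023 F6353) (tt N779 F6354) (tt N1023 F6355) (tt N1361 (iv F8931)) (tt N1023 F6356) (tt N1362 (iv F8943)) (tt N1023 F6357) (tt N764 (iv D1241)) (tt N769 F6358))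
theorem Q1025 : ∀ i, i < 1025 → P i := stepQ 1024 Q1024 (allL N1024 (tt N1267 (iv F8203)) (tt N1363 D1779) (tt N765 (iv D1242)) (tt N780 F6359) (tt N1024 F6360) (tt N1024 F6361) (tt N1364 D1780) (tt N1024 F6362) (tt N1356 (iv F8908)) (tt N1365 D1781))
theorem Q1026 : ∀ i, i < 1026 → P i := stepQ 1025 Q1025 (allL N1025 (tt N1268 (iv F8208)) (tt N1025 F6363) (tt N1364 (iv F8950)) (tt N766 F6364) (tt N1025 F6365) (tt N1293 F20058) (tt N765 (iv D1243)) (tt N1292 F20059) (tt N1357 (iv F8912)) (tt N1366 D1784))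
theorem Q1027 : ∀ i, i < 1027 → P i := stepQ 1026 Q1026 (allL N1026 (tt N1269 (iv F8211)) (tt N1026 F6366) (tt N1365 (iv F8953)) (tt N767 F6367) (tt N1026 F6368) (tt N1026 F6369) (tt N1366 (iv F8968)) (tt N1026 F6370) (tt N1367 D1785) (tt N765 (iv D1244)))
theorem Q1028 : ∀ i, i < 1028 → P i := stepQ 1027 Q1027 (allL N1027 (tt N1270 (iv F8224)) (tt N1027 F6379) (tt N785 F6380) (tt N1366 (iv F8966)) (tt N768 F6381) (tt N1298 F20060) (tt N767 F6382) (tt N1297 F20061) (tt N1368 D1790) (tt N766 (iv D1247)))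
theorem Q1029 : ∀ i, i < 1029 → P i := stepQ 1028 Q1028 (allL N1028 (tt N1271 (iv F8228)) (tt N1028 F6383) (tt N786 F6384) (tt N1367 (iv F8970)) (tt N769 F6385) (tt N1369 D1791) (tt N1368 (iv F8994)) (tt N1028 F6386) (tt N767 (iv D1248)) (tt N1361 (iv F8933)))
theorem Q1030 : ∀ i, i < 1030 → P i := stepQ 1029 Q1029 (allL N1029 (tt N1272 (iv F8238)) (tt N1029 F6393) (tt N788 F6394) (tt N1029 F6395) (tt N1368 (iv F8993)) (tt N1370 D1793) (tt N769 F6396) (tt N1304 (iv F20119)) (tt N768 (iv D1250)) (tt N1362 (iv F8944)))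
theorem Q1031 : ∀ i, i < 1031 → P i := stepQ 1030 Q1030 (allL N1030 (tt N1273 (iv F8296)) (tt N1030 F6451) (tt N794 F6452) (tt N1030 F6453) (tt N1371 D1810) (tt N770 (iv D1262)) (tt N1030 F6454) (tt N1305 F20245) (tt N1370 (iv F9009)) (tt N1030 F6455))
theorem Q1032 : ∀ i, i < 1032 → P i := stepQ 1031 Q1031 (allL N1031 (tt N1274 (iv F8383)) (tt N825 F6538) (tt N1372 D1836) (tt N771 (iv D1280)) (tt N1031 F6539) (tt N774 F6540) (tt N1373 D1837) (tt N1031 F6541) (tt N1031 F6542) (tt N1374 D1838))
theorem Q1033 : ∀ i, i < 1033 → P i := stepQ 1032 Q1032 (allL N1032 (tt N1275 (iv F8389)) (tt N826 F6543) (tt N1351 (iv F8883)) (tt N1373 (iv F9213)) (tt N772 F6544) (tt N1375 D1839) (tt N771 (iv D1281)) (tt N1376 D1840) (tt N1032 F6545) (tt N1377 D1841))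
theorem Q1034 : ∀ i, i < 1034 → P i := stepQ 1033 Q1033 (allL N1033 (tt N1276 (iv F8393)) (tt N827 F6546) (tt N1352 (iv F8887)) (tt N1374 (iv F9217)) (tt N773 F6547) (tt N776 F6548) (tt N1377 (iv F9230)) (tt N1033 F6549) (tt N1378 D1842) (tt N771 (iv D1282)))
theorem Q1035 : ∀ i, i < 1035 → P i := stepQ 1034 Q1034 (allL N1034 (tt N1277 (iv F8398)) (tt N828 F6550) (tt N1353 (iv F8892)) (tt N1034 F6551) (tt N1376 (iv F9225)) (tt N1034 F6552) (tt N1034 F6553) (tt N772 (iv D1283)) (tt N1034 F6554) (tt N1379 D1843))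
theorem Q1036 : ∀ i, i < 1036 → P i := stepQ 1035 Q1035 (allL N1035 (tt N1278 (iv F8404)) (tt N829 F6555) (tt N1354 (iv F8897)) (tt N1035 F6556) (tt N1377 (iv F9229)) (tt N1035 F6557) (tt N773 F6558) (tt N1379 (iv F9239)) (tt N1380 D1844) (tt N772 (iv D1284)))
theorem Q1037 : ∀ i, i < 1037 → P i := stepQ 1036 Q1036 (allL N1036 (tt N1279 (iv F8409)) (tt N830 F6559) (tt N1355 (iv F8901)) (tt N1036 F6560) (tt N1378 (iv F9232)) (tt N1036 F6561) (tt N1380 (iv F9242)) (tt N1036 F6562) (tt N773 (iv D1285)) (tt N1036 F6563))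
theorem Q1038 : ∀ i, i < 1038 → P i := stepQ 1037 Q1037 (allL N1037 (tt N1280 (iv F8415)) (tt N1381 D1845) (tt N774 (iv D1286)) (tt N1356 (iv F8905)) (tt N796 F6564) (tt N1372 (iv F9209)) (tt N1382 D1846) (tt N1037 F6565) (tt N780 F6566) (tt N1383 D1847))
theorem Q1039 : ∀ i, i < 1039 → P i := stepQ 1038 Q1038 (allL N1038 (tt N1281 (iv F8419)) (tt N832 F6567) (tt N1382 (iv F9248)) (tt N775 F6568) (tt N797 F6569) (tt N1384 D1848) (tt N774 (iv D1287)) (tt N1385 D1849) (tt N781 F6570) (tt N1386 D1850))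
theorem Q1040 : ∀ i, i < 1040 → P i := stepQ 1039 Q1039 (allL N1039 (tt N1282 (iv F8424)) (tt N833 F6571) (tt N1383 (iv F9251)) (tt N776 F6572) (tt N798 F6573) (tt N1374 (iv F9219)) (tt N1386 (iv F9264)) (tt N1039 F6574) (tt N1387 D1851) (tt N774 (iv D1288)))
theorem Q1041 : ∀ i, i < 1041 → P i := stepQ 1040 Q1040 (allL N1040 (tt N1283 (iv F8429)) (tt N834 F6575) (tt N1359 (iv F8918)) (tt N1384 (iv F9255)) (tt N1040 F6576) (tt N775 (iv D1289)) (tt N1375 (iv F9223)) (tt N1388 D1852) (tt N1389 D1853) (tt N1390 D1854))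
theorem Q1042 : ∀ i, i < 1042 → P i := stepQ 1041 Q1041 (allL N1041 (tt N1284 (iv F8432)) (tt N835 F6577) (tt N1296 F20078) (tt N1385 (iv F9257)) (tt N777 F6578) (tt N1388 (iv F9272)) (tt N1041 F6579) (tt N775 (iv D1290)) (tt N784 F6580) (tt N1391 D1855))
theorem Q1043 : ∀ i, i < 1043 → P i := stepQ 1042 Q1042 (allL N1042 (tt N1285 (iv F8437)) (tt N836 F6581) (tt N1360 (iv F8926)) (tt N1386 (iv F9262)) (tt N778 F6582) (tt N1390 (iv F9278)) (tt N776 F6583) (tt N1391 (iv F9282)) (tt N1392 D1856) (tt N775 (iv D1291)))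
theorem Q1044 : ∀ i, i < 1044 → P i := stepQ 1043 Q1043 (allL N1043 (tt N1286 (iv F8441)) (tt N837 F6584) (tt N1361 (iv F8930)) (tt N1387 (iv F9266)) (tt N779 F6585) (tt N1393 D1857) (tt N1392 (iv F9285)) (tt N1043 F6586) (tt N776 (iv D1292)) (tt N786 F6587))
theorem Q1045 : ∀ i, i < 1045 → P i := stepQ 1044 Q1044 (allL N1044 (tt N1287 (iv F8446)) (tt N838 F6588) (tt N1303 (iv F20105)) (tt N803 F6589) (tt N1391 (iv F9280)) (tt N1044 F6590) (tt N1044 F6591) (tt N778 F6592) (tt N1394 D1858) (tt N777 (iv D1293)))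
theorem Q1046 : ∀ i, i < 1046 → P i := stepQ 1045 Q1045 (allL N1045 (tt N1288 (iv F8452)) (tt N839 F6593) (tt N1362 (iv F8941)) (tt N804 F6594) (tt N1392 (iv F9284)) (tt N1395 D1859) (tt N779 F6595) (tt N1394 (iv F9294)) (tt N778 (iv D1294)) (tt N788 F6596))
theorem Q1047 : ∀ i, i < 1047 → P i := stepQ 1046 Q1046 (allL N1046 (tt N1396 D1860) (tt N780 (iv D1295)) (tt N840 F6597) (tt N1363 (iv F8946)) (tt N805 F6598) (tt N1046 F6599) (tt N1397 D1861) (tt N1046 F6600) (tt N1381 (iv F9247)) (tt N1398 D1862))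
theorem Q1048 : ∀ i, i < 1048 → P i := stepQ 1047 Q1047 (allL N1047 (tt N1290 (iv F8461)) (tt N1397 (iv F9305)) (tt N781 F6601) (tt N1364 (iv F8951)) (tt N806 F6602) (tt N1399 D1863) (tt N780 (iv D1296)) (tt N1400 D1864) (tt N1382 (iv F9250)) (tt N1401 D1865))
theorem Q1049 : ∀ i, i < 1049 → P i := stepQ 1048 Q1048 (allL N1048 (tt N1291 (iv F8464)) (tt N1398 (iv F9308)) (tt N782 F6603) (tt N1365 (iv F8954)) (tt N807 F6604) (tt N1048 F6605) (tt N1401 (iv F9321)) (tt N1048 F6606) (tt N1402 D1866) (tt N780 (iv D1297)))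
theorem Q1050 : ∀ i, i < 1050 → P i := stepQ 1049 Q1049 (allL N1049 (tt N1292 (iv F8469)) (tt N843 F6607) (tt N1399 (iv F9313)) (tt N783 F6608) (tt N1049 F6609) (tt N781 (iv D1298)) (tt N1049 F6610) (tt N1268 F20072) (tt N1403 D1868) (tt N1404 D1869))
theorem Q1051 : ∀ i, i < 1051 → P i := stepQ 1050 Q1050 (allL N1050 (tt N1293 (iv F8474)) (tt N844 F6611) (tt N1400 (iv F9316)) (tt N784 F6612) (tt N808 F6613) (tt N1268 F20073) (tt N1050 F6614) (tt N781 (iv D1299)) (tt N1385 (iv F9260)) (tt N1405 D1870))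
theorem Q1052 : ∀ i, i < 1052 → P i := stepQ 1051 Q1051 (allL N1051 (tt N1294 (iv F8479)) (tt N845 F6615) (tt N1401 (iv F9319)) (tt N785 F6616) (tt N809 F6617) (tt N1404 (iv F9336)) (tt N782 F6618) (tt N1405 (iv F9342)) (tt N1406 D1871) (tt N781 (iv D1300)))
theorem Q1053 : ∀ i, i < 1053 → P i := stepQ 1052 Q1052 (allL N1052 (tt N1295 (iv F8484)) (tt N846 F6619) (tt N1402 (iv F9322)) (tt N786 F6620) (tt N810 F6621) (tt N1407 D1872) (tt N1406 (iv F9346)) (tt N1052 F6622) (tt N782 (iv D1301)) (tt N1387 (iv F9269)))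
theorem Q1054 : ∀ i, i < 1054 → P i := stepQ 1053 Q1053 (allL N1053 (tt N1296 (iv F8493)) (tt N848 F6626) (tt N1284 F20074) (tt N1403 (iv F9330)) (tt N789 F6627) (tt N1389 (iv F9275)) (tt N1053 F6628) (tt N1263 F20075) (tt N783 (iv D1303)) (tt N1408 D1876))
theorem Q1055 : ∀ i, i < 1055 → P i := stepQ 1054 Q1054 (allL N1054 (tt N1297 (iv F8497)) (tt N849 F6629) (tt N1298 F20076) (tt N1404 (iv F9334)) (tt N790 F6630) (tt N785 F6631) (tt N1054 F6632) (tt N1270 F20077) (tt N1409 D1877) (tt N783 (iv D1304)))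
theorem Q1056 : ∀ i, i < 1056 → P i := stepQ 1055 Q1055 (allL N1055 (tt N1298 (iv F8502)) (tt N850 F6633) (tt N1297 F20079) (tt N1405 (iv F9339)) (tt N787 F6634) (tt N1270 F20080) (tt N1055 F6635) (tt N785 F6636) (tt N1410 D1878) (tt N784 (iv D1305)))
theorem Q1057 : ∀ i, i < 1057 → P i := stepQ 1056 Q1056 (allL N1056 (tt N1299 (iv F8507)) (tt N851 F6637) (tt N1368 (iv F8992)) (tt N1406 (iv F9344)) (tt N788 F6638) (tt N1411 D1879) (tt N786 F6639) (tt N1410 (iv F9371)) (tt N785 (iv D1306)) (tt N1392 (iv F9286)))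
theorem Q1058 : ∀ i, i < 1058 → P i := stepQ 1057 Q1057 (allL N1057 (tt N1300 (iv F8511)) (tt N852 F6640) (tt N1369 (iv F8996)) (tt N1407 (iv F9348)) (tt N1057 F6641) (tt N786 (iv D1307)) (tt N1412 D1880) (tt N1057 F6642) (tt N1057 F6643) (tt N1393 (iv F9290)))
theorem Q1059 : ∀ i, i < 1059 → P i := stepQ 1058 Q1058 (allL N1058 (tt N1301 (iv F8516)) (tt N853 F6644) (tt N1304 (iv F20118)) (tt N814 F6645) (tt N1410 (iv F9369)) (tt N1413 D1881) (tt N1058 F6646) (tt N788 F6647) (tt N787 (iv D1308)) (tt N1394 (iv F9295)))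
theorem Q1060 : ∀ i, i < 1060 → P i := stepQ 1059 Q1059 (allL N1059 (tt N1302 (iv F8521)) (tt N854 F6648) (tt N1370 (iv F9006)) (tt N815 F6649) (tt N1414 D1882) (tt N788 (iv D1309)) (tt N1059 F6650) (tt N1413 (iv F9378)) (tt N794 F6651) (tt N1395 (iv F9300)))
theorem Q1061 : ∀ i, i < 1061 → P i := stepQ 1060 Q1060 (allL N1060 (tt N1303 (iv F8541)) (tt N857 F6664) (tt N1287 F20095) (tt N1060 F6665) (tt N1408 (iv F9363)) (tt N1060 F6666) (tt N1060 F6667) (tt N1265 F20096) (tt N1415 D1887) (tt N789 (iv D1313)))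
theorem Q1062 : ∀ i, i < 1062 → P i := stepQ 1061 Q1061 (allL N1061 (tt N1304 (iv F8546)) (tt N858 F6668) (tt N1301 F20099) (tt N1061 F6669) (tt N1409 (iv F9366)) (tt N1416 D1888) (tt N1061 F6670) (tt N1272 F20100) (tt N790 (iv D1314)) (tt N1415 (iv F9402)))
theorem Q1063 : ∀ i, i < 1063 → P i := stepQ 1062 Q1062 (allL N1062 (tt N1305 (iv F8557)) (tt N860 F6677) (tt N1307 F20250) (tt N1062 F6678) (tt N1417 D1890) (tt N791 (iv D1316)) (tt N1418 D1891) (tt N1273 F20251) (tt N1416 (iv F9405)) (tt N1062 F6679))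
theorem Q1064 : ∀ i, i < 1064 → P i := stepQ 1063 Q1063 (allL N1063 (tt N1306 (iv F8561)) (tt N861 F6680) (tt N1309 (iv F20268)) (tt N1063 F6681) (tt N1063 F6682) (tt N1418 (iv F9415)) (tt N792 (iv D1317)) (tt N1063 F20280) (tt N1063 F6683) (tt N1063 F6684))
theorem Q1065 : ∀ i, i < 1065 → P i := stepQ 1064 Q1064 (allL N1064 (tt N1307 (iv F8567)) (tt N862 F6685) (tt N1305 F20252) (tt N816 F6686) (tt N1419 D1893) (tt N793 (iv D1318)) (tt N1420 D1894) (tt N794 F6687) (tt N1413 (iv F9379)) (tt N1064 F6688))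
theorem Q1066 : ∀ i, i < 1066 → P i := stepQ 1065 Q1065 (allL N1065 (tt N1308 (iv F8572)) (tt N863 F6689) (tt N1371 (iv F9085)) (tt N1421 D1895) (tt N794 (iv D1319)) (tt N1417 (iv F9411)) (tt N1065 F6690) (tt N1419 (iv F9424)) (tt N1414 (iv F9382)) (tt N1065 F6691))
theorem Q1067 : ∀ i, i < 1067 → P i := stepQ 1066 Q1066 (allL N1066 (tt N1309 (iv F8634)) (tt N864 F6739) (tt N1306 F20260) (tt N819 F6740) (tt N1066 F20294) (tt N1420 (iv F9428)) (tt N795 (iv D1331)) (tt N1066 F6741) (tt N1066 F6742) (tt N1066 F6743))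
theorem Q1068 : ∀ i, i < 1068 → P i := stepQ 1067 Q1067 (allL N1067 (tt N1422 D1912) (tt N796 (iv D1333)) (tt N865 F6749) (tt N1067 F6750) (tt N1381 (iv F9245)) (tt N1067 F6751) (tt N1423 D1913) (tt N1067 F6752) (tt N805 F6753) (tt N1424 D1914))
theorem Q1069 : ∀ i, i < 1069 → P i := stepQ 1068 Q1068 (allL N1068 (tt N1311 (iv F8651)) (tt N1423 (iv F9507)) (tt N797 F6754) (tt N1068 F6755) (tt N1382 (iv F9249)) (tt N1425 D1915) (tt N796 (iv D1334)) (tt N1426 D1916) (tt N806 F6756) (tt N1427 D1917))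
theorem Q1070 : ∀ i, i < 1070 → P i := stepQ 1069 Q1069 (allL N1069 (tt N1312 (iv F8655)) (tt N1424 (iv F9511)) (tt N798 F6757) (tt N1069 F6758) (tt N1383 (iv F9252)) (tt N1069 F6759) (tt N1427 (iv F9526)) (tt N1069 F6760) (tt N1428 D1918) (tt N796 (iv D1335)))
theorem Q1071 : ∀ i, i < 1071 → P i := stepQ 1070 Q1070 (allL N1070 (tt N1313 (iv F8660)) (tt N868 F6761) (tt N1425 (iv F9516)) (tt N799 F6762) (tt N1429 D1919) (tt N797 (iv D1336)) (tt N1070 F6763) (tt N1430 D1920) (tt N1070 F6764) (tt N1431 D1921))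
theorem Q1072 : ∀ i, i < 1072 → P i := stepQ 1071 Q1071 (allL N1071 (tt N1314 (iv F8665)) (tt N869 F6765) (tt N1426 (iv F9520)) (tt N800 F6766) (tt N1385 (iv F9258)) (tt N1430 (iv F9537)) (tt N1071 F6767) (tt N797 (iv D1337)) (tt N808 F6768) (tt N1432 D1922))
theorem Q1073 : ∀ i, i < 1073 → P i := stepQ 1072 Q1072 (allL N1072 (tt N1315 (iv F8670)) (tt N870 F6769) (tt N1427 (iv F9524)) (tt N801 F6770) (tt N1386 (iv F9263)) (tt N1431 (iv F9541)) (tt N798 F6771) (tt N1432 (iv F9546)) (tt N1433 D1923) (tt N797 (iv D1338)))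
theorem Q1074 : ∀ i, i < 1074 → P i := stepQ 1073 Q1073 (allL N1073 (tt N1316 (iv F8674)) (tt N871 F6772) (tt N1428 (iv F9527)) (tt N802 F6773) (tt N1387 (iv F9267)) (tt N1434 D1924) (tt N1433 (iv F9549)) (tt N1073 F6774) (tt N798 (iv D1339)) (tt N810 F6775))
theorem Q1075 : ∀ i, i < 1075 → P i := stepQ 1074 Q1074 (allL N1074 (tt N1317 (iv F8679)) (tt N872 F6776) (tt N1074 F6777) (tt N1430 (iv F9536)) (tt N1074 F6778) (tt N800 F6779) (tt N1435 D1925) (tt N799 (iv D1340)) (tt N1074 F6780) (tt N1436 D1926))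
theorem Q1076 : ∀ i, i < 1076 → P i := stepQ 1075 Q1075 (allL N1075 (tt N1318 (iv F8685)) (tt N873 F6781) (tt N1075 F6782) (tt N1431 (iv F9540)) (tt N1075 F6783) (tt N801 F6784) (tt N1075 F6785) (tt N1436 (iv F9566)) (tt N1437 D1927) (tt N799 (iv D1341)))
theorem Q1077 : ∀ i, i < 1077 → P i := stepQ 1076 Q1076 (allL N1076 (tt N1319 (iv F8691)) (tt N874 F6786) (tt N1076 F6787) (tt N1432 (iv F9544)) (tt N803 F6788) (tt N1436 (iv F9565)) (tt N1076 F6789) (tt N801 F6790) (tt N1438 D1928) (tt N800 (iv D1342)))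
theorem Q1078 : ∀ i, i < 1078 → P i := stepQ 1077 Q1077 (allL N1077 (tt N1320 (iv F8697)) (tt N875 F6791) (tt N1077 F6792) (tt N1433 (iv F9548)) (tt N804 F6793) (tt N1439 D1929) (tt N802 F6794) (tt N1438 (iv F9576)) (tt N801 (iv D1343)) (tt N812 F6795))
theorem Q1079 : ∀ i, i < 1079 → P i := stepQ 1078 Q1078 (allL N1078 (tt N1321 (iv F8703)) (tt N876 F6796) (tt N1078 F6797) (tt N1434 (iv F9552)) (tt N1078 F6798) (tt N802 (iv D1344)) (tt N1440 D1930) (tt N1078 F6799) (tt N1078 F6800) (tt N813 F6801))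
theorem Q1080 : ∀ i, i < 1080 → P i := stepQ 1079 Q1079 (allL N1079 (tt N1322 (iv F8710)) (tt N877 F6802) (tt N1079 F6803) (tt N1394 (iv F9292)) (tt N1438 (iv F9574)) (tt N1441 D1931) (tt N1079 F6804) (tt N804 F6805) (tt N803 (iv D1345)) (tt N814 F6806))
theorem Q1081 : ∀ i, i < 1081 → P i := stepQ 1080 Q1080 (allL N1080 (tt N1323 (iv F8716)) (tt N878 F6807) (tt N1080 F6808) (tt N1395 (iv F9297)) (tt N1442 D1932) (tt N804 (iv D1346)) (tt N1080 F6809) (tt N1441 (iv F9588)) (tt N1080 F6810) (tt N815 F6811))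
theorem Q1082 : ∀ i, i < 1082 → P i := stepQ 1081 Q1081 (allL N1081 (tt N805 (iv D1347)) (tt N1324 (iv F8722)) (tt N879 F6812) (tt N1081 F6813) (tt N1396 (iv F9302)) (tt N820 F6814) (tt N1443 D1933) (tt N1081 F6815) (tt N1422 (iv F9506)) (tt N1444 D1934))
theorem Q1083 : ∀ i, i < 1083 → P i := stepQ 1082 Q1082 (allL N1082 (tt N1443 (iv F9596)) (tt N806 F6816) (tt N880 F6817) (tt N1082 F6818) (tt N1397 (iv F9307)) (tt N1082 F6819) (tt N805 (iv D1348)) (tt N1445 D1935) (tt N1423 (iv F9510)) (tt N1446 D1936))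
theorem Q1084 : ∀ i, i < 1084 → P i := stepQ 1083 Q1083 (allL N1083 (tt N1444 (iv F9600)) (tt N807 F6820) (tt N881 F6821) (tt N1083 F6822) (tt N1398 (iv F9310)) (tt N821 F6823) (tt N1446 (iv F9614)) (tt N1083 F6824) (tt N1447 D1937) (tt N805 (iv D1349)))
theorem Q1085 : ∀ i, i < 1085 → P i := stepQ 1084 Q1084 (allL N1084 (tt N1327 (iv F8736)) (tt N1445 (iv F9605)) (tt N808 F6825) (tt N1084 F6826) (tt N1400 (iv F9317)) (tt N1084 F6827) (tt N1084 F6828) (tt N806 (iv D1350)) (tt N1426 (iv F9523)) (tt N1448 D1938))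
theorem Q1086 : ∀ i, i < 1086 → P i := stepQ 1085 Q1085 (allL N1085 (tt N1328 (iv F8741)) (tt N1446 (iv F9610)) (tt N809 F6829) (tt N1085 F6830) (tt N1401 (iv F9320)) (tt N1085 F6831) (tt N807 F6832) (tt N1448 (iv F9623)) (tt N1449 D1939) (tt N806 (iv D1351)))
theorem Q1087 : ∀ i, i < 1087 → P i := stepQ 1086 Q1086 (allL N1086 (tt N1329 (iv F8746)) (tt N1447 (iv F9615)) (tt N810 F6833) (tt N1086 F6834) (tt N1402 (iv F9323)) (tt N1450 D1940) (tt N1449 (iv F9626)) (tt N1086 F6835) (tt N807 (iv D1352)) (tt N1428 (iv F9530)))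
theorem Q1088 : ∀ i, i < 1088 → P i := stepQ 1087 Q1087 (allL N1087 (tt N1330 (iv F8750)) (tt N885 F6836) (tt N1448 (iv F9619)) (tt N811 F6837) (tt N1405 (iv F9340)) (tt N1087 F6838) (tt N1087 F6839) (tt N809 F6840) (tt N1451 D1941) (tt N808 (iv D1353)))
theorem Q1089 : ∀ i, i < 1089 → P i := stepQ 1088 Q1088 (allL N1088 (tt N1331 (iv F8756)) (tt N886 F6841) (tt N1449 (iv F9624)) (tt N812 F6842) (tt N1406 (iv F9345)) (tt N1452 D1942) (tt N810 F6843) (tt N1451 (iv F9634)) (tt N809 (iv D1354)) (tt N1433 (iv F9550)))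
theorem Q1090 : ∀ i, i < 1090 → P i := stepQ 1089 Q1089 (allL N1089 (tt N1332 (iv F8760)) (tt N887 F6844) (tt N1450 (iv F9627)) (tt N813 F6845) (tt N1453 D1943) (tt N810 (iv D1355)) (tt N1454 D1944) (tt N1089 F6846) (tt N823 F6847) (tt N1434 (iv F9555)))
theorem Q1091 : ∀ i, i < 1091 → P i := stepQ 1090 Q1090 (allL N1090 (tt N1333 (iv F8765)) (tt N888 F6848) (tt N1090 F6849) (tt N1451 (iv F9632)) (tt N814 F6850) (tt N1455 D1945) (tt N1090 F6851) (tt N812 F6852) (tt N811 (iv D1356)) (tt N1438 (iv F9577)))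
theorem Q1092 : ∀ i, i < 1092 → P i := stepQ 1091 Q1091 (allL N1091 (tt N1334 (iv F8771)) (tt N889 F6853) (tt N1091 F6854) (tt N1452 (iv F9636)) (tt N1456 D1946) (tt N812 (iv D1357)) (tt N1457 D1947) (tt N1455 (iv F9647)) (tt N1091 F6855) (tt N1439 (iv F9580)))
theorem Q1093 : ∀ i, i < 1093 → P i := stepQ 1092 Q1092 (allL N1092 (tt N1335 (iv F8775)) (tt N890 F6856) (tt N1092 F6857) (tt N1454 (iv F9643)) (tt N1092 F6858) (tt N1457 (iv F9655)) (tt N813 (iv D1358)) (tt N1458 D1948) (tt N824 F6859) (tt N1440 (iv F9585)))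
theorem Q1094 : ∀ i, i < 1094 → P i := stepQ 1093 Q1093 (allL N1093 (tt N1336 (iv F8780)) (tt N891 F6860) (tt N1093 F6861) (tt N1413 (iv F9377)) (tt N1459 D1949) (tt N814 (iv D1359)) (tt N1460 D1950) (tt N815 F6862) (tt N816 F6863) (tt N1441 (iv F9590)))
theorem Q1095 : ∀ i, i < 1095 → P i := stepQ 1094 Q1094 (allL N1094 (tt N1337 (iv F8785)) (tt N892 F6864) (tt N1094 F6865) (tt N1461 D1951) (tt N815 (iv D1360)) (tt N1456 (iv F9651)) (tt N1094 F6866) (tt N1459 (iv F9664)) (tt N817 F6867) (tt N1442 (iv F9595)))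
theorem Q1096 : ∀ i, i < 1096 → P i := stepQ 1095 Q1095 (allL N1095 (tt N1338 (iv F8790)) (tt N893 F6868) (tt N1095 F6869) (tt N1462 D1952) (tt N816 (iv D1361)) (tt N1095 F6870) (tt N940 F130957) (tt N817 F6871) (tt N1459 (iv F9665)) (tt N1095 F6872))
theorem Q1097 : ∀ i, i < 1097 → P i := stepQ 1096 Q1096 (allL N1096 (tt N1339 (iv F8796)) (tt N894 F6873) (tt N1096 F6874) (tt N1420 (iv F9427)) (tt N940 F130956) (tt N819 F6875) (tt N816 (iv D1362)) (tt N1096 F6876) (tt N1460 (iv F9670)) (tt N1096 F6877))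
theorem Q1098 : ∀ i, i < 1098 → P i := stepQ 1097 Q1097 (allL N1097 (tt N1340 (iv F8802)) (tt N895 F6878) (tt N1463 D1954) (tt N817 (iv D1363)) (tt N1421 (iv F9432)) (tt N1097 F6879) (tt N1097 F6880) (tt N1462 (iv F9676)) (tt N1461 (iv F9673)) (tt N1097 F6881))
theorem Q1099 : ∀ i, i < 1099 → P i := stepQ 1098 Q1098 (allL N1098 (tt N821 F6898) (tt N1341 (iv F8827)) (tt N896 F6899) (tt N1098 F6900) (tt N1098 F6901) (tt N1444 (iv F9603)) (tt N1098 F6902) (tt N1098 F6903) (tt N1464 D1959) (tt N820 (iv D1367)))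
theorem Q1100 : ∀ i, i < 1100 → P i := stepQ 1099 Q1099 (allL N1099 (tt N1464 (iv F9708)) (tt N822 F6904) (tt N897 F6905) (tt N1099 F6906) (tt N1099 F6907) (tt N1465 D1960) (tt N1099 F6908) (tt N1099 F6909) (tt N821 (iv D1368)) (tt N1099 F6910))
theorem Q1101 : ∀ i, i < 1101 → P i := stepQ 1100 Q1100 (allL N1100 (tt N1343 (iv F8840)) (tt N1465 (iv F9715)) (tt N823 F6911) (tt N1100 F6912) (tt N1466 D1961) (tt N822 (iv D1369)) (tt N1467 D1962) (tt N1100 F6913) (tt N1450 (iv F9630)) (tt N1100 F6914))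
theorem Q1102 : ∀ i, i < 1102 → P i := stepQ 1101 Q1101 (allL N1101 (tt N1344 (iv F8845)) (tt N899 F6915) (tt N1466 (iv F9720)) (tt N1101 F6916) (tt N823 (iv D1370)) (tt N1101 F6917) (tt N1468 D1963) (tt N1101 F6918) (tt N1453 (iv F9641)) (tt N1101 F6919))
theorem Q1103 : ∀ i, i < 1103 → P i := stepQ 1102 Q1102 (allL N1102 (tt N1345 (iv F8851)) (tt N900 F6920) (tt N1467 (iv F9724)) (tt N824 F6921) (tt N1468 (iv F9730)) (tt N1102 F6922) (tt N823 (iv D1371)) (tt N1469 D1964) (tt N1454 (iv F9644)) (tt N1102 F6923))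
theorem Q1104 : ∀ i, i < 1104 → P i := stepQ 1103 Q1103 (allL N1103 (tt N1346 (iv F8856)) (tt N901 F6924) (tt N1103 F6925) (tt N1469 (iv F9733)) (tt N1103 F6926) (tt N1103 F6927) (tt N1103 F6928) (tt N824 (iv D1372)) (tt N1458 (iv F9661)) (tt N1103 F6929))
theorem Q1105 : ∀ i, i < 1105 → P i := stepQ 1104 Q1104 (allL N1104 (tt N1104 F6930) (tt N1470 D1965) (tt N825 (iv D1373)) (tt N1104 F6931) (tt N1104 F6932) (tt N831 F6933) (tt N1471 D1966) (tt N1104 F6934) (tt N1104 F6935) (tt N1472 D1967))
theorem Q1106 : ∀ i, i < 1106 → P i := stepQ 1105 Q1105 (allL N1105 (tt N1105 F6936) (tt N1373 (iv F9212)) (tt N1471 (iv F9743)) (tt N826 F6937) (tt N1105 F6938) (tt N1473 D1968) (tt N825 (iv D1374)) (tt N1474 D1969) (tt N1105 F6939) (tt N1475 D1970))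
theorem Q1107 : ∀ i, i < 1107 → P i := stepQ 1106 Q1106 (allL N1106 (tt N1106 F6940) (tt N1374 (iv F9216)) (tt N1472 (iv F9748)) (tt N827 F6941) (tt N1106 F6942) (tt N833 F6943) (tt N1475 (iv F9764)) (tt N1106 F6944) (tt N1476 D1971) (tt N825 (iv D1375)))
theorem Q1108 : ∀ i, i < 1108 → P i := stepQ 1107 Q1107 (allL N1107 (tt N1107 F6945) (tt N1375 (iv F9221)) (tt N1107 F6946) (tt N1473 (iv F9754)) (tt N1107 F6947) (tt N826 (iv D1376)) (tt N834 F6948) (tt N1477 D1972) (tt N1478 D1973) (tt N1479 D1974))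
theorem Q1109 : ∀ i, i < 1109 → P i := stepQ 1108 Q1108 (allL N1108 (tt N1108 F6949) (tt N1376 (iv F9224)) (tt N1108 F6950) (tt N1474 (iv F9757)) (tt N828 F6951) (tt N1477 (iv F9773)) (tt N1108 F6952) (tt N826 (iv D1377)) (tt N1108 F6953) (tt N1480 D1975))
theorem Q1110 : ∀ i, i < 1110 → P i := stepQ 1109 Q1109 (allL N1109 (tt N1109 F6954) (tt N1377 (iv F9228)) (tt N1109 F6955) (tt N1475 (iv F9762)) (tt N829 F6956) (tt N1479 (iv F9782)) (tt N827 F6957) (tt N1480 (iv F9788)) (tt N1481 D1976) (tt N826 (iv D1378)))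
theorem Q1111 : ∀ i, i < 1111 → P i := stepQ 1110 Q1110 (allL N1110 (tt N1110 F6958) (tt N1378 (iv F9231)) (tt N1110 F6959) (tt N1476 (iv F9766)) (tt N830 F6960) (tt N1482 D1977) (tt N1481 (iv F9792)) (tt N1110 F6961) (tt N827 (iv D1379)) (tt N1110 F6962))
theorem Q1112 : ∀ i, i < 1112 → P i := stepQ 1111 Q1111 (allL N1111 (tt N1111 F6963) (tt N1379 (iv F9235)) (tt N1111 F6964) (tt N1111 F6965) (tt N1480 (iv F9786)) (tt N1111 F6966) (tt N1111 F6967) (tt N829 F6968) (tt N1483 D1978) (tt N828 (iv D1380)))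
theorem Q1113 : ∀ i, i < 1113 → P i := stepQ 1112 Q1112 (allL N1112 (tt N1112 F6969) (tt N1380 (iv F9240)) (tt N1112 F6970) (tt N1112 F6971) (tt N1481 (iv F9791)) (tt N1484 D1979) (tt N830 F6972) (tt N1483 (iv F9804)) (tt N829 (iv D1381)) (tt N1112 F6973))
theorem Q1114 : ∀ i, i < 1114 → P i := stepQ 1113 Q1113 (allL N1113 (tt N1485 D1980) (tt N831 (iv D1382)) (tt N1381 (iv F9244)) (tt N1113 F6974) (tt N865 F6975) (tt N1470 (iv F9739)) (tt N1486 D1981) (tt N1113 F6976) (tt N840 F6977) (tt N1487 D1982))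
theorem Q1115 : ∀ i, i < 1115 → P i := stepQ 1114 Q1114 (allL N1114 (tt N1114 F6978) (tt N1486 (iv F9817)) (tt N832 F6979) (tt N1114 F6980) (tt N866 F6981) (tt N1488 D1983) (tt N831 (iv D1383)) (tt N1489 D1984) (tt N841 F6982) (tt N1490 D1985))
theorem Q1116 : ∀ i, i < 1116 → P i := stepQ 1115 Q1115 (allL N1115 (tt N1115 F6983) (tt N1487 (iv F9821)) (tt N833 F6984) (tt N1115 F6985) (tt N867 F6986) (tt N1472 (iv F9751)) (tt N1490 (iv F9838)) (tt N1115 F6987) (tt N1491 D1986) (tt N831 (iv D1384)))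
theorem Q1117 : ∀ i, i < 1117 → P i := stepQ 1116 Q1116 (allL N1116 (tt N1116 F6988) (tt N1384 (iv F9254)) (tt N1488 (iv F9826)) (tt N834 F6989) (tt N1492 D1987) (tt N832 (iv D1385)) (tt N1473 (iv F9755)) (tt N1493 D1988) (tt N1494 D1989) (tt N1495 D1990))
theorem Q1118 : ∀ i, i < 1118 → P i := stepQ 1117 Q1117 (allL N1117 (tt N1117 F6990) (tt N1385 (iv F9256)) (tt N1489 (iv F9829)) (tt N835 F6991) (tt N869 F6992) (tt N1493 (iv F9850)) (tt N1117 F6993) (tt N832 (iv D1386)) (tt N844 F6994) (tt N1496 D1991))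
theorem Q1119 : ∀ i, i < 1119 → P i := stepQ 1118 Q1118 (allL N1118 (tt N1118 F6995) (tt N1386 (iv F9261)) (tt N1490 (iv F9835)) (tt N836 F6996) (tt N870 F6997) (tt N1495 (iv F9856)) (tt N833 F6998) (tt N1496 (iv F9861)) (tt N1497 D1992) (tt N832 (iv D1387)))
theorem Q1120 : ∀ i, i < 1120 → P i := stepQ 1119 Q1119 (allL N1119 (tt N1119 F6999) (tt N1387 (iv F9265)) (tt N1491 (iv F9840)) (tt N837 F7000) (tt N871 F7001) (tt N1498 D1993) (tt N1497 (iv F9865)) (tt N1119 F7002) (tt N833 (iv D1388)) (tt N846 F7003))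
theorem Q1121 : ∀ i, i < 1121 → P i := stepQ 1120 Q1120 (allL N1120 (tt N1120 F7004) (tt N1388 (iv F9270)) (tt N1120 F7005) (tt N1493 (iv F9849)) (tt N1120 F7006) (tt N835 F7007) (tt N1499 D1994) (tt N834 (iv D1389)) (tt N1500 D1995) (tt N1501 D1996))
theorem Q1122 : ∀ i, i < 1122 → P i := stepQ 1121 Q1121 (allL N1121 (tt N1121 F7008) (tt N1389 (iv F9273)) (tt N1121 F7009) (tt N1494 (iv F9852)) (tt N1121 F7010) (tt N848 F7011) (tt N1478 (iv F9778)) (tt N1500 (iv F9879)) (tt N834 (iv D1390)) (tt N1502 D1997))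
theorem Q1123 : ∀ i, i < 1123 → P i := stepQ 1122 Q1122 (allL N1122 (tt N1122 F7012) (tt N1390 (iv F9276)) (tt N1122 F7013) (tt N1495 (iv F9855)) (tt N1122 F7014) (tt N836 F7015) (tt N1479 (iv F9783)) (tt N1501 (iv F9884)) (tt N1503 D1998) (tt N834 (iv D1391)))
theorem Q1124 : ∀ i, i < 1124 → P i := stepQ 1123 Q1123 (allL N1123 (tt N1123 F7016) (tt N1391 (iv F9279)) (tt N1123 F7017) (tt N1496 (iv F9858)) (tt N838 F7018) (tt N1501 (iv F9883)) (tt N1123 F7019) (tt N836 F7020) (tt N1504 D1999) (tt N835 (iv D1392)))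
theorem Q1125 : ∀ i, i < 1125 → P i := stepQ 1124 Q1124 (allL N1124 (tt N1124 F7021) (tt N1392 (iv F9283)) (tt N1124 F7022) (tt N1497 (iv F9863)) (tt N839 F7023) (tt N1505 D2000) (tt N837 F7024) (tt N1504 (iv F9896)) (tt N836 (iv D1393)) (tt N851 F7025))
theorem Q1126 : ∀ i, i < 1126 → P i := stepQ 1125 Q1125 (allL N1125 (tt N1125 F7026) (tt N1393 (iv F9287)) (tt N1125 F7027) (tt N1498 (iv F9868)) (tt N1125 F7028) (tt N837 (iv D1394)) (tt N1506 D2001) (tt N1125 F7029) (tt N1482 (iv F9798)) (tt N852 F7030))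
theorem Q1127 : ∀ i, i < 1127 → P i := stepQ 1126 Q1126 (allL N1126 (tt N1126 F7031) (tt N1394 (iv F9291)) (tt N1126 F7032) (tt N877 F7033) (tt N1504 (iv F9894)) (tt N1507 D2002) (tt N1126 F7034) (tt N839 F7035) (tt N838 (iv D1395)) (tt N853 F7036))
theorem Q1128 : ∀ i, i < 1128 → P i := stepQ 1127 Q1127 (allL N1127 (tt N1127 F7037) (tt N1395 (iv F9296)) (tt N1127 F7038) (tt N878 F7039) (tt N1508 D2003) (tt N839 (iv D1396)) (tt N1127 F7040) (tt N1507 (iv F9908)) (tt N1127 F7041) (tt N854 F7042))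
theorem Q1129 : ∀ i, i < 1129 → P i := stepQ 1128 Q1128 (allL N1128 (tt N840 (iv D1397)) (tt N1128 F7043) (tt N1396 (iv F9301)) (tt N1128 F7044) (tt N879 F7045) (tt N1128 F7046) (tt N1509 D2004) (tt N1128 F7047) (tt N1485 (iv F9816)) (tt N1510 D2005))
theorem Q1130 : ∀ i, i < 1130 → P i := stepQ 1129 Q1129 (allL N1129 (tt N1509 (iv F9916)) (tt N841 F7048) (tt N1397 (iv F9306)) (tt N1129 F7049) (tt N880 F7050) (tt N1511 D2006) (tt N840 (iv D1398)) (tt N1512 D2007) (tt N1486 (iv F9820)) (tt N1513 D2008))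
theorem Q1131 : ∀ i, i < 1131 → P i := stepQ 1130 Q1130 (allL N1130 (tt N1510 (iv F9920)) (tt N842 F7051) (tt N1398 (iv F9309)) (tt N1130 F7052) (tt N881 F7053) (tt N1130 F7054) (tt N1513 (iv F9937)) (tt N1130 F7055) (tt N1514 D2009) (tt N840 (iv D1399)))
theorem Q1132 : ∀ i, i < 1132 → P i := stepQ 1131 Q1131 (allL N1131 (tt N1131 F7056) (tt N1511 (iv F9926)) (tt N843 F7057) (tt N1131 F7058) (tt N1131 F7059) (tt N841 (iv D1400)) (tt N1131 F7060) (tt N1515 D2010) (tt N1516 D2011) (tt N1517 D2012))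
theorem Q1133 : ∀ i, i < 1133 → P i := stepQ 1132 Q1132 (allL N1132 (tt N1132 F7061) (tt N1512 (iv F9930)) (tt N844 F7062) (tt N1132 F7063) (tt N882 F7064) (tt N1515 (iv F9946)) (tt N1132 F7065) (tt N841 (iv D1401)) (tt N1489 (iv F9833)) (tt N1518 D2013))
theorem Q1134 : ∀ i, i < 1134 → P i := stepQ 1133 Q1133 (allL N1133 (tt N1133 F7066) (tt N1513 (iv F9934)) (tt N845 F7067) (tt N1133 F7068) (tt N883 F7069) (tt N1517 (iv F9956)) (tt N842 F7070) (tt N1518 (iv F9963)) (tt N1519 D2014) (tt N841 (iv D1402)))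
theorem Q1135 : ∀ i, i < 1135 → P i := stepQ 1134 Q1134 (allL N1134 (tt N1134 F7071) (tt N1514 (iv F9938)) (tt N846 F7072) (tt N1134 F7073) (tt N884 F7074) (tt N1520 D2015) (tt N1519 (iv F9968)) (tt N1134 F7075) (tt N842 (iv D1403)) (tt N1491 (iv F9844)))
theorem Q1136 : ∀ i, i < 1136 → P i := stepQ 1135 Q1135 (allL N1135 (tt N1135 F7076) (tt N1268 F20089) (tt N1515 (iv F9943)) (tt N847 F7077) (tt N1135 F7078) (tt N844 F7079) (tt N1254 F20090) (tt N843 (iv D1404)) (tt N1521 D2017) (tt N1522 D2018))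
theorem Q1137 : ∀ i, i < 1137 → P i := stepQ 1136 Q1136 (allL N1136 (tt N1136 F7080) (tt N1403 (iv F9329)) (tt N1516 (iv F9948)) (tt N848 F7081) (tt N1136 F7082) (tt N1494 (iv F9853)) (tt N1136 F7083) (tt N1521 (iv F9982)) (tt N843 (iv D1405)) (tt N1523 D2019))
theorem Q1138 : ∀ i, i < 1138 → P i := stepQ 1137 Q1137 (allL N1137 (tt N1137 F7084) (tt N1404 (iv F9333)) (tt N1517 (iv F9953)) (tt N849 F7085) (tt N1137 F7086) (tt N845 F7087) (tt N1137 F7088) (tt N1522 (iv F9987)) (tt N1524 D2020) (tt N843 (iv D1406)))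
theorem Q1139 : ∀ i, i < 1139 → P i := stepQ 1138 Q1138 (allL N1138 (tt N1138 F7089) (tt N1405 (iv F9338)) (tt N1518 (iv F9959)) (tt N850 F7090) (tt N885 F7091) (tt N1522 (iv F9986)) (tt N1138 F7092) (tt N845 F7093) (tt N1525 D2021) (tt N844 (iv D1407)))
theorem Q1140 : ∀ i, i < 1140 → P i := stepQ 1139 Q1139 (allL N1139 (tt N1139 F7094) (tt N1406 (iv F9343)) (tt N1519 (iv F9965)) (tt N851 F7095) (tt N886 F7096) (tt N1526 D2022) (tt N846 F7097) (tt N1525 (iv F10000)) (tt N845 (iv D1408)) (tt N1497 (iv F9866)))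
theorem Q1141 : ∀ i, i < 1141 → P i := stepQ 1140 Q1140 (allL N1140 (tt N1140 F7098) (tt N1407 (iv F9347)) (tt N1520 (iv F9970)) (tt N852 F7099) (tt N1527 D2023) (tt N846 (iv D1409)) (tt N1528 D2024) (tt N1140 F7100) (tt N1140 F7101) (tt N1498 (iv F9870)))
theorem Q1142 : ∀ i, i < 1142 → P i := stepQ 1141 Q1141 (allL N1141 (tt N1141 F7107) (tt N1263 F20081) (tt N1141 F7108) (tt N1521 (iv F9980)) (tt N855 F7109) (tt N1500 (iv F9878)) (tt N1252 F20082) (tt N848 F7110) (tt N847 (iv D1411)) (tt N1529 D2027))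
theorem Q1143 : ∀ i, i < 1143 → P i := stepQ 1142 Q1142 (allL N1142 (tt N1142 F7111) (tt N1270 F20091) (tt N1142 F7112) (tt N1522 (iv F9984)) (tt N856 F7113) (tt N850 F7114) (tt N1255 F20092) (tt N849 F7115) (tt N1530 D2028) (tt N847 (iv D1412)))
theorem Q1144 : ∀ i, i < 1144 → P i := stepQ 1143 Q1143 (allL N1143 (tt N1143 F7116) (tt N1408 (iv F9362)) (tt N1143 F7117) (tt N1523 (iv F9989)) (tt N857 F7118) (tt N1502 (iv F9888)) (tt N1143 F7119) (tt N1529 (iv F10025)) (tt N1531 D2029) (tt N848 (iv D1413)))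
theorem Q1145 : ∀ i, i < 1145 → P i := stepQ 1144 Q1144 (allL N1144 (tt N1144 F7120) (tt N1409 (iv F9365)) (tt N1144 F7121) (tt N1524 (iv F9993)) (tt N858 F7122) (tt N1532 D2030) (tt N1144 F7123) (tt N1530 (iv F10029)) (tt N849 (iv D1414)) (tt N1531 (iv F10034)))
theorem Q1146 : ∀ i, i < 1146 → P i := stepQ 1145 Q1145 (allL N1145 (tt N1145 F7124) (tt N1410 (iv F9368)) (tt N1145 F7125) (tt N1525 (iv F9997)) (tt N853 F7126) (tt N1533 D2031) (tt N1145 F7127) (tt N851 F7128) (tt N850 (iv D1415)) (tt N1504 (iv F9897)))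
theorem Q1147 : ∀ i, i < 1147 → P i := stepQ 1146 Q1146 (allL N1146 (tt N1146 F7129) (tt N1411 (iv F9372)) (tt N1146 F7130) (tt N1526 (iv F10002)) (tt N1534 D2032) (tt N851 (iv D1416)) (tt N1535 D2033) (tt N1533 (iv F10040)) (tt N1532 (iv F10037)) (tt N1505 (iv F9900)))
theorem Q1148 : ∀ i, i < 1148 → P i := stepQ 1147 Q1147 (allL N1147 (tt N1147 F7131) (tt N1412 (iv F9373)) (tt N1147 F7132) (tt N1528 (iv F10009)) (tt N1147 F7133) (tt N1535 (iv F10046)) (tt N852 (iv D1417)) (tt N1536 D2034) (tt N1147 F7134) (tt N1506 (iv F9904)))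
theorem Q1149 : ∀ i, i < 1149 → P i := stepQ 1148 Q1148 (allL N1148 (tt N1148 F7135) (tt N1413 (iv F9376)) (tt N1148 F7136) (tt N891 F7137) (tt N1537 D2035) (tt N853 (iv D1418)) (tt N1538 D2036) (tt N854 F7138) (tt N862 F7139) (tt N1507 (iv F9910)))
theorem Q1150 : ∀ i, i < 1150 → P i := stepQ 1149 Q1149 (allL N1149 (tt N1149 F7140) (tt N1414 (iv F9380)) (tt N1149 F7141) (tt N1539 D2037) (tt N854 (iv D1419)) (tt N1534 (iv F10043)) (tt N1149 F7142) (tt N1537 (iv F10054)) (tt N863 F7143) (tt N1508 (iv F9915)))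
theorem Q1151 : ∀ i, i < 1151 → P i := stepQ 1150 Q1150 (allL N1150 (tt N1150 F7155) (tt N1265 F20083) (tt N1150 F7156) (tt N1150 F7157) (tt N1529 (iv F10024)) (tt N1150 F7158) (tt N1253 F20084) (tt N857 F7159) (tt N1540 D2041) (tt N855 (iv D1422)))
theorem Q1152 : ∀ i, i < 1152 → P i := stepQ 1151 Q1151 (allL N1151 (tt N1151 F7160) (tt N1272 F20093) (tt N1151 F7161) (tt N1151 F7162) (tt N1530 (iv F10028)) (tt N1541 D2042) (tt N1256 F20094) (tt N858 F7163) (tt N856 (iv D1423)) (tt N1540 (iv F10086)))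
theorem Q1153 : ∀ i, i < 1153 → P i := stepQ 1152 Q1152 (allL N1152 (tt N1152 F7164) (tt N1415 (iv F9399)) (tt N1152 F7165) (tt N1152 F7166) (tt N1531 (iv F10032)) (tt N1542 D2043) (tt N1152 F7167) (tt N1540 (iv F10085)) (tt N857 (iv D1424)) (tt N858 F7168))
theorem Q1154 : ∀ i, i < 1154 → P i := stepQ 1153 Q1153 (allL N1153 (tt N1153 F7169) (tt N1416 (iv F9403)) (tt N1153 F7170) (tt N1153 F7171) (tt N1543 D2044) (tt N858 (iv D1425)) (tt N1544 D2045) (tt N1541 (iv F10090)) (tt N860 F7172) (tt N1542 (iv F10096)))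
theorem Q1155 : ∀ i, i < 1155 → P i := stepQ 1154 Q1154 (allL N1154 (tt N1154 F7173) (tt N1273 F20257) (tt N1154 F7174) (tt N1154 F7175) (tt N1545 D2046) (tt N859 (iv D1426)) (tt N1154 F20291) (tt N860 F7176) (tt N1541 (iv F10091)) (tt N1154 F7177))
theorem Q1156 : ∀ i, i < 1156 → P i := stepQ 1155 Q1155 (allL N1155 (tt N1155 F7178) (tt N1417 (iv F9410)) (tt N1155 F7179) (tt N1546 D2048) (tt N860 (iv D1427)) (tt N863 F7180) (tt N1547 D2049) (tt N1545 (iv F10108)) (tt N1543 (iv F10099)) (tt N1155 F7181))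
theorem Q1157 : ∀ i, i < 1157 → P i := stepQ 1156 Q1156 (allL N1156 (tt N1156 F7182) (tt N1418 (iv F9413)) (tt N1156 F7183) (tt N1156 F7184) (tt N1547 (iv F10121)) (tt N861 F7185) (tt N860 (iv D1428)) (tt N1156 F20319) (tt N1544 (iv F10104)) (tt N1156 F7186))
theorem Q1158 : ∀ i, i < 1158 → P i := stepQ 1157 Q1157 (allL N1157 (tt N1157 F7194) (tt N1419 (iv F9423)) (tt N1157 F7195) (tt N1548 D2051) (tt N862 (iv D1430)) (tt N1545 (iv F10107)) (tt N1549 D2052) (tt N863 F7196) (tt N1537 (iv F10055)) (tt N1157 F7197))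
theorem Q1159 : ∀ i, i < 1159 → P i := stepQ 1158 Q1158 (allL N1158 (tt N1158 F7198) (tt N1420 (iv F9426)) (tt N1158 F7199) (tt N894 F7200) (tt N1549 (iv F10135)) (tt N864 F7201) (tt N862 (iv D1431)) (tt N1158 F7202) (tt N1538 (iv F10061)) (tt N1158 F7203))
theorem Q1160 : ∀ i, i < 1160 → P i := stepQ 1159 Q1159 (allL N1159 (tt N1159 F7204) (tt N1421 (iv F9431)) (tt N1550 D2053) (tt N863 (iv D1432)) (tt N895 F7205) (tt N1546 (iv F10117)) (tt N1159 F7206) (tt N1548 (iv F10131)) (tt N1539 (iv F10065)) (tt N1159 F7207))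
theorem Q1161 : ∀ i, i < 1161 → P i := stepQ 1160 Q1160 (allL N1160 (tt N865 (iv D1449)) (tt N1160 F7290) (tt N1422 (iv F9502)) (tt N902 F7291) (tt N1485 (iv F9814)) (tt N1160 F7292) (tt N1551 D2076) (tt N1160 F7293) (tt N879 F7294) (tt N1552 D2077))
theorem Q1162 : ∀ i, i < 1162 → P i := stepQ 1161 Q1161 (allL N1161 (tt N1551 (iv F10254)) (tt N866 F7295) (tt N1423 (iv F9508)) (tt N903 F7296) (tt N1486 (iv F9819)) (tt N1553 D2078) (tt N865 (iv D1450)) (tt N1554 D2079) (tt N880 F7297) (tt N1555 D2080))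
theorem Q1163 : ∀ i, i < 1163 → P i := stepQ 1162 Q1162 (allL N1162 (tt N1552 (iv F10258)) (tt N867 F7298) (tt N1424 (iv F9512)) (tt N904 F7299) (tt N1487 (iv F9823)) (tt N1162 F7300) (tt N1555 (iv F10273)) (tt N1162 F7301) (tt N1556 D2081) (tt N865 (iv D1451)))
theorem Q1164 : ∀ i, i < 1164 → P i := stepQ 1163 Q1163 (allL N1163 (tt N1163 F7302) (tt N1553 (iv F10263)) (tt N868 F7303) (tt N905 F7304) (tt N1557 D2082) (tt N866 (iv D1452)) (tt N1163 F7305) (tt N1558 D2083) (tt N1163 F7306) (tt N1559 D2084))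
theorem Q1165 : ∀ i, i < 1165 → P i := stepQ 1164 Q1164 (allL N1164 (tt N1164 F7307) (tt N1554 (iv F10267)) (tt N869 F7308) (tt N906 F7309) (tt N1489 (iv F9831)) (tt N1558 (iv F10285)) (tt N1164 F7310) (tt N866 (iv D1453)) (tt N882 F7311) (tt N1560 D2085))
theorem Q1166 : ∀ i, i < 1166 → P i := stepQ 1165 Q1165 (allL N1165 (tt N1165 F7312) (tt N1555 (iv F10271)) (tt N870 F7313) (tt N907 F7314) (tt N1490 (iv F9837)) (tt N1559 (iv F10290)) (tt N867 F7315) (tt N1560 (iv F10296)) (tt N1561 D2086) (tt N866 (iv D1454)))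
theorem Q1167 : ∀ i, i < 1167 → P i := stepQ 1166 Q1166 (allL N1166 (tt N1166 F7316) (tt N1556 (iv F10274)) (tt N871 F7317) (tt N908 F7318) (tt N1491 (iv F9842)) (tt N1562 D2087) (tt N1561 (iv F10300)) (tt N1166 F7319) (tt N867 (iv D1455)) (tt N884 F7320))
theorem Q1168 : ∀ i, i < 1168 → P i := stepQ 1167 Q1167 (allL N1167 (tt N1167 F7321) (tt N1429 (iv F9531)) (tt N1557 (iv F10279)) (tt N1167 F7322) (tt N868 (iv D1456)) (tt N1492 (iv F9847)) (tt N1167 F7323) (tt N1563 D2088) (tt N1167 F7324) (tt N1564 D2089))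
theorem Q1169 : ∀ i, i < 1169 → P i := stepQ 1168 Q1168 (allL N1168 (tt N1168 F7325) (tt N1430 (iv F9535)) (tt N1558 (iv F10283)) (tt N872 F7326) (tt N1563 (iv F10310)) (tt N869 F7327) (tt N1565 D2090) (tt N868 (iv D1457)) (tt N1168 F7328) (tt N1566 D2091))
theorem Q1170 : ∀ i, i < 1170 → P i := stepQ 1169 Q1169 (allL N1169 (tt N1169 F7329) (tt N1431 (iv F9539)) (tt N1559 (iv F10288)) (tt N873 F7330) (tt N1564 (iv F10314)) (tt N870 F7331) (tt N1169 F7332) (tt N1566 (iv F10324)) (tt N1567 D2092) (tt N868 (iv D1458)))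
theorem Q1171 : ∀ i, i < 1171 → P i := stepQ 1170 Q1170 (allL N1170 (tt N1170 F7333) (tt N1432 (iv F9543)) (tt N1560 (iv F10293)) (tt N874 F7334) (tt N1496 (iv F9859)) (tt N1566 (iv F10323)) (tt N1170 F7335) (tt N870 F7336) (tt N1568 D2093) (tt N869 (iv D1459)))
theorem Q1172 : ∀ i, i < 1172 → P i := stepQ 1171 Q1171 (allL N1171 (tt N1171 F7337) (tt N1433 (iv F9547)) (tt N1561 (iv F10298)) (tt N875 F7338) (tt N1497 (iv F9864)) (tt N1569 D2094) (tt N871 F7339) (tt N1568 (iv F10332)) (tt N870 (iv D1460)) (tt N886 F7340))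
theorem Q1173 : ∀ i, i < 1173 → P i := stepQ 1172 Q1172 (allL N1172 (tt N1172 F7341) (tt N1434 (iv F9551)) (tt N1562 (iv F10303)) (tt N876 F7342) (tt N1570 D2095) (tt N871 (iv D1461)) (tt N1571 D2096) (tt N1172 F7343) (tt N1172 F7344) (tt N887 F7345))
theorem Q1174 : ∀ i, i < 1174 → P i := stepQ 1173 Q1173 (allL N1173 (tt N1173 F7346) (tt N1435 (iv F9556)) (tt N915 F7347) (tt N1565 (iv F10317)) (tt N1173 F7348) (tt N1173 F7349) (tt N872 (iv D1462)) (tt N1173 F7350) (tt N1173 F7351) (tt N1572 D2097))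
theorem Q1175 : ∀ i, i < 1175 → P i := stepQ 1174 Q1174 (allL N1174 (tt N1174 F7352) (tt N1436 (iv F9562)) (tt N916 F7353) (tt N1566 (iv F10322)) (tt N1174 F7354) (tt N874 F7355) (tt N1572 (iv F10350)) (tt N873 F7356) (tt N1573 D2098) (tt N872 (iv D1463)))
theorem Q1176 : ∀ i, i < 1176 → P i := stepQ 1175 Q1175 (allL N1175 (tt N1175 F7357) (tt N1437 (iv F9567)) (tt N917 F7358) (tt N1567 (iv F10326)) (tt N1175 F7359) (tt N1574 D2099) (tt N1175 F7360) (tt N1573 (iv F10355)) (tt N873 (iv D1464)) (tt N1175 F7361))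
theorem Q1177 : ∀ i, i < 1177 → P i := stepQ 1176 Q1176 (allL N1176 (tt N1176 F7362) (tt N1438 (iv F9572)) (tt N918 F7363) (tt N1568 (iv F10330)) (tt N877 F7364) (tt N1575 D2100) (tt N1176 F7365) (tt N875 F7366) (tt N874 (iv D1465)) (tt N888 F7367))
theorem Q1178 : ∀ i, i < 1178 → P i := stepQ 1177 Q1177 (allL N1177 (tt N1177 F7368) (tt N1439 (iv F9578)) (tt N919 F7369) (tt N1569 (iv F10335)) (tt N1576 D2101) (tt N875 (iv D1466)) (tt N1577 D2102) (tt N1575 (iv F10363)) (tt N1574 (iv F10359)) (tt N889 F7370))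
theorem Q1179 : ∀ i, i < 1179 → P i := stepQ 1178 Q1178 (allL N1178 (tt N1178 F7371) (tt N1440 (iv F9581)) (tt N920 F7372) (tt N1571 (iv F10343)) (tt N1178 F7373) (tt N1577 (iv F10371)) (tt N876 (iv D1467)) (tt N1578 D2103) (tt N1178 F7374) (tt N890 F7375))
theorem Q1180 : ∀ i, i < 1180 → P i := stepQ 1179 Q1179 (allL N1179 (tt N1179 F7376) (tt N1441 (iv F9586)) (tt N921 F7377) (tt N1507 (iv F9907)) (tt N1579 D2104) (tt N877 (iv D1468)) (tt N1580 D2105) (tt N878 F7378) (tt N1179 F7379) (tt N891 F7380))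
theorem Q1181 : ∀ i, i < 1181 → P i := stepQ 1180 Q1180 (allL N1180 (tt N1180 F7381) (tt N1442 (iv F9591)) (tt N922 F7382) (tt N1581 D2106) (tt N878 (iv D1469)) (tt N1576 (iv F10367)) (tt N1180 F7383) (tt N1579 (iv F10381)) (tt N1180 F7384) (tt N892 F7385))
theorem Q1182 : ∀ i, i < 1182 → P i := stepQ 1181 Q1181 (allL N1181 (tt N880 F7386) (tt N1181 F7387) (tt N1443 (iv F9597)) (tt N923 F7388) (tt N1509 (iv F9919)) (tt N1181 F7389) (tt N879 (iv D1470)) (tt N1582 D2107) (tt N1551 (iv F10257)) (tt N1583 D2108))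
theorem Q1183 : ∀ i, i < 1183 → P i := stepQ 1182 Q1182 (allL N1182 (tt N881 F7390) (tt N1182 F7391) (tt N1444 (iv F9601)) (tt N924 F7392) (tt N1510 (iv F9923)) (tt N896 F7393) (tt N1583 (iv F10403)) (tt N1182 F7394) (tt N1584 D2109) (tt N879 (iv D1471)))
theorem Q1184 : ∀ i, i < 1184 → P i := stepQ 1183 Q1183 (allL N1183 (tt N1582 (iv F10394)) (tt N882 F7395) (tt N1445 (iv F9606)) (tt N925 F7396) (tt N1512 (iv F9932)) (tt N1183 F7397) (tt N1183 F7398) (tt N880 (iv D1472)) (tt N1554 (iv F10270)) (tt N1585 D2110))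
theorem Q1185 : ∀ i, i < 1185 → P i := stepQ 1184 Q1184 (allL N1184 (tt N1583 (iv F10399)) (tt N883 F7399) (tt N1446 (iv F9611)) (tt N926 F7400) (tt N1513 (iv F9936)) (tt N1184 F7401) (tt N881 F7402) (tt N1585 (iv F10412)) (tt N1586 D2111) (tt N880 (iv D1473)))
theorem Q1186 : ∀ i, i < 1186 → P i := stepQ 1185 Q1185 (allL N1185 (tt N1584 (iv F10404)) (tt N884 F7403) (tt N1447 (iv F9616)) (tt N927 F7404) (tt N1514 (iv F9940)) (tt N1587 D2112) (tt N1586 (iv F10415)) (tt N1185 F7405) (tt N881 (iv D1474)) (tt N1556 (iv F10277)))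
theorem Q1187 : ∀ i, i < 1187 → P i := stepQ 1186 Q1186 (allL N1186 (tt N1186 F7406) (tt N1585 (iv F10408)) (tt N885 F7407) (tt N928 F7408) (tt N1518 (iv F9961)) (tt N1186 F7409) (tt N1186 F7410) (tt N883 F7411) (tt N1588 D2113) (tt N882 (iv D1475)))
theorem Q1188 : ∀ i, i < 1188 → P i := stepQ 1187 Q1187 (allL N1187 (tt N1187 F7412) (tt N1586 (iv F10413)) (tt N886 F7413) (tt N929 F7414) (tt N1519 (iv F9967)) (tt N1589 D2114) (tt N884 F7415) (tt N1588 (iv F10424)) (tt N883 (iv D1476)) (tt N1561 (iv F10301)))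
theorem Q1189 : ∀ i, i < 1189 → P i := stepQ 1188 Q1188 (allL N1188 (tt N1188 F7416) (tt N1587 (iv F10416)) (tt N887 F7417) (tt N930 F7418) (tt N1590 D2115) (tt N884 (iv D1477)) (tt N1591 D2116) (tt N1188 F7419) (tt N898 F7420) (tt N1562 (iv F10307)))
theorem Q1190 : ∀ i, i < 1190 → P i := stepQ 1189 Q1189 (allL N1189 (tt N1189 F7421) (tt N1451 (iv F9631)) (tt N1588 (iv F10421)) (tt N888 F7422) (tt N1525 (iv F9998)) (tt N1592 D2117) (tt N1189 F7423) (tt N886 F7424) (tt N885 (iv D1478)) (tt N1568 (iv F10333)))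
theorem Q1191 : ∀ i, i < 1191 → P i := stepQ 1190 Q1190 (allL N1190 (tt N1190 F7425) (tt N1452 (iv F9635)) (tt N1589 (iv F10426)) (tt N889 F7426) (tt N1593 D2118) (tt N886 (iv D1479)) (tt N1594 D2119) (tt N1592 (iv F10439)) (tt N1190 F7427) (tt N1569 (iv F10336)))
theorem Q1192 : ∀ i, i < 1192 → P i := stepQ 1191 Q1191 (allL N1191 (tt N1191 F7428) (tt N1453 (iv F9638)) (tt N1590 (iv F10430)) (tt N1191 F7429) (tt N887 (iv D1480)) (tt N1527 (iv F10005)) (tt N1595 D2120) (tt N1191 F7430) (tt N899 F7431) (tt N1570 (iv F10341)))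
theorem Q1193 : ∀ i, i < 1193 → P i := stepQ 1192 Q1192 (allL N1192 (tt N1192 F7432) (tt N1454 (iv F9642)) (tt N1591 (iv F10434)) (tt N890 F7433) (tt N1595 (iv F10449)) (tt N1594 (iv F10445)) (tt N887 (iv D1481)) (tt N1596 D2121) (tt N900 F7434) (tt N1571 (iv F10345)))
theorem Q1194 : ∀ i, i < 1194 → P i := stepQ 1193 Q1193 (allL N1193 (tt N1193 F7435) (tt N1455 (iv F9645)) (tt N935 F7436) (tt N1592 (iv F10438)) (tt N1597 D2122) (tt N888 (iv D1482)) (tt N1598 D2123) (tt N889 F7437) (tt N1193 F7438) (tt N1575 (iv F10364)))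
theorem Q1195 : ∀ i, i < 1195 → P i := stepQ 1194 Q1194 (allL N1194 (tt N1194 F7439) (tt N1456 (iv F9649)) (tt N936 F7440) (tt N1599 D2124) (tt N889 (iv D1483)) (tt N892 F7441) (tt N1600 D2125) (tt N1597 (iv F10458)) (tt N1194 F7442) (tt N1576 (iv F10368)))
theorem Q1196 : ∀ i, i < 1196 → P i := stepQ 1195 Q1195 (allL N1195 (tt N1195 F7443) (tt N1457 (iv F9653)) (tt N937 F7444) (tt N1594 (iv F10444)) (tt N1600 (iv F10469)) (tt N890 F7445) (tt N889 (iv D1484)) (tt N1601 D2126) (tt N1195 F7446) (tt N1577 (iv F10372)))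
theorem Q1197 : ∀ i, i < 1197 → P i := stepQ 1196 Q1196 (allL N1196 (tt N1196 F7447) (tt N1458 (iv F9657)) (tt N938 F7448) (tt N1596 (iv F10452)) (tt N1196 F7449) (tt N1601 (iv F10474)) (tt N1196 F7450) (tt N890 (iv D1485)) (tt N901 F7451) (tt N1578 (iv F10378)))
theorem Q1198 : ∀ i, i < 1198 → P i := stepQ 1197 Q1197 (allL N1197 (tt N1197 F7452) (tt N1459 (iv F9662)) (tt N934 F130946) (tt N1591 F130947) (tt N891 (iv D1486)) (tt N1597 (iv F10457)) (tt N930 F130948) (tt N892 F7454) (tt N893 F7455) (tt N1579 (iv F10383)))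
theorem Q1199 : ∀ i, i < 1199 → P i := stepQ 1198 Q1198 (allL N1198 (tt N1198 F7456) (tt N1460 (iv F9666)) (tt N933 F130953) (tt N1538 (iv F10058)) (tt N930 F130954) (tt N1198 F7458) (tt N891 (iv D1487)) (tt N1198 F7459) (tt N894 F7460) (tt N1580 (iv F10389)))
theorem Q1200 : ∀ i, i < 1200 → P i := stepQ 1199 Q1199 (allL N1199 (tt N1199 F7461) (tt N1461 (iv F9671)) (tt N1596 F131004) (tt N892 (iv D1488)) (tt N1539 (iv F10063)) (tt N1599 (iv F10465)) (tt N1199 F7462) (tt N1591 F131005) (tt N895 F7463) (tt N1581 (iv F10393)))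
theorem Q1201 : ∀ i, i < 1201 → P i := stepQ 1200 Q1200 (allL N1200 (tt N1200 F7464) (tt N1462 (iv F9674)) (tt N900 (iv F130752)) (tt N893 (iv D1489)) (tt N1548 (iv F10130)) (tt N1200 F7465) (tt N898 (iv F130750)) (tt N895 F7466) (tt N1591 (iv F130748)) (tt N1200 F7467))
theorem Q1202 : ∀ i, i < 1202 → P i := stepQ 1201 Q1201 (allL N1201 (tt N1201 F7473) (tt N1469 (iv F130754)) (tt N895 (iv D1491)) (tt N901 (iv F130707)) (tt N1550 (iv F10140)) (tt N1201 F7475) (tt N1201 F7476) (tt N900 (iv F130753)) (tt N1596 (iv F130749)) (tt N1201 F7477))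
theorem Q1203 : ∀ i, i < 1203 → P i := stepQ 1202 Q1202 (allL N1202 (tt N897 F7499) (tt N1202 F7500) (tt N1464 (iv F9709)) (tt N939 F7501) (tt N1202 F7502) (tt N1602 D2139) (tt N1202 F7503) (tt N1202 F7504) (tt N896 (iv D1496)) (tt N1202 F7505))
theorem Q1204 : ∀ i, i < 1204 → P i := stepQ 1203 Q1203 (allL N1203 (tt N1602 (iv F10534)) (tt N898 F7506) (tt N1465 (iv F9716)) (tt N940 F7507) (tt N1603 D2140) (tt N897 (iv D1497)) (tt N1462 (iv F130751)) (tt N1203 F7508) (tt N1587 (iv F10419)) (tt N1203 F7509))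
theorem Q1205 : ∀ i, i < 1205 → P i := stepQ 1204 Q1204 (allL N1204 (tt N1204 F7510) (tt N1603 (iv F10539)) (tt N899 F7511) (tt N1549 F131010) (tt N898 (iv D1498)) (tt N1204 F7512) (tt N1548 F131011) (tt N1204 F7513) (tt N1590 (iv F10432)) (tt N1204 F7514))
theorem Q1206 : ∀ i, i < 1206 → P i := stepQ 1205 Q1205 (allL N1205 (tt N1205 F7520) (tt N1468 (iv F9728)) (tt N1548 F131007) (tt N1205 F7521) (tt N900 F7522) (tt N1604 D2145) (tt N899 (iv D1500)) (tt N1550 F131008) (tt N1595 (iv F10450)) (tt N1205 F7523))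
theorem Q1207 : ∀ i, i < 1207 → P i := stepQ 1206 Q1206 (allL N1206 (tt N903 F7529) (tt N1206 F7530) (tt N1206 F7531) (tt N1551 (iv F10256)) (tt N1206 F7532) (tt N1605 D2147) (tt N902 (iv D1502)) (tt N1606 D2148) (tt N923 F7533) (tt N1607 D2149))
theorem Q1208 : ∀ i, i < 1208 → P i := stepQ 1207 Q1207 (allL N1207 (tt N904 F7534) (tt N1207 F7535) (tt N1207 F7536) (tt N1552 (iv F10260)) (tt N1207 F7537) (tt N1207 F7538) (tt N1607 (iv F10588)) (tt N1207 F7539) (tt N1608 D2150) (tt N902 (iv D1503)))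
theorem Q1209 : ∀ i, i < 1209 → P i := stepQ 1208 Q1208 (allL N1208 (tt N1605 (iv F10573)) (tt N905 F7540) (tt N1208 F7541) (tt N1553 (iv F10264)) (tt N1609 D2151) (tt N903 (iv D1504)) (tt N1208 F7542) (tt N1610 D2152) (tt N1208 F7543) (tt N1611 D2153))
theorem Q1210 : ∀ i, i < 1210 → P i := stepQ 1209 Q1209 (allL N1209 (tt N1606 (iv F10578)) (tt N906 F7544) (tt N1209 F7545) (tt N1554 (iv F10268)) (tt N1209 F7546) (tt N1610 (iv F10602)) (tt N1209 F7547) (tt N903 (iv D1505)) (tt N925 F7548) (tt N1612 D2154))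
theorem Q1211 : ∀ i, i < 1211 → P i := stepQ 1210 Q1210 (allL N1210 (tt N1607 (iv F10584)) (tt N907 F7549) (tt N1210 F7550) (tt N1555 (iv F10272)) (tt N1210 F7551) (tt N1611 (iv F10606)) (tt N904 F7552) (tt N1612 (iv F10612)) (tt N1613 D2155) (tt N903 (iv D1506)))
theorem Q1212 : ∀ i, i < 1212 → P i := stepQ 1211 Q1211 (allL N1211 (tt N1608 (iv F10589)) (tt N908 F7553) (tt N1211 F7554) (tt N1556 (iv F10275)) (tt N1211 F7555) (tt N1614 D2156) (tt N1613 (iv F10616)) (tt N1211 F7556) (tt N904 (iv D1507)) (tt N927 F7557))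
theorem Q1213 : ∀ i, i < 1213 → P i := stepQ 1212 Q1212 (allL N1212 (tt N1212 F7558) (tt N1609 (iv F10595)) (tt N909 F7559) (tt N1615 D2157) (tt N905 (iv D1508)) (tt N1212 F7560) (tt N1212 F7561) (tt N1616 D2158) (tt N1212 F7562) (tt N1617 D2159))
theorem Q1214 : ∀ i, i < 1214 → P i := stepQ 1213 Q1213 (allL N1213 (tt N1213 F7563) (tt N1610 (iv F10600)) (tt N910 F7564) (tt N1558 (iv F10284)) (tt N1616 (iv F10630)) (tt N906 F7565) (tt N1618 D2160) (tt N905 (iv D1509)) (tt N1213 F7566) (tt N1619 D2161))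
theorem Q1215 : ∀ i, i < 1215 → P i := stepQ 1214 Q1214 (allL N1214 (tt N1214 F7567) (tt N1611 (iv F10604)) (tt N911 F7568) (tt N1559 (iv F10289)) (tt N1617 (iv F10635)) (tt N907 F7569) (tt N1214 F7570) (tt N1619 (iv F10646)) (tt N1620 D2162) (tt N905 (iv D1510)))
theorem Q1216 : ∀ i, i < 1216 → P i := stepQ 1215 Q1215 (allL N1215 (tt N1215 F7571) (tt N1612 (iv F10608)) (tt N912 F7572) (tt N1560 (iv F10294)) (tt N1215 F7573) (tt N1619 (iv F10645)) (tt N1215 F7574) (tt N907 F7575) (tt N1621 D2163) (tt N906 (iv D1511)))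
theorem Q1217 : ∀ i, i < 1217 → P i := stepQ 1216 Q1216 (allL N1216 (tt N1216 F7576) (tt N1613 (iv F10613)) (tt N913 F7577) (tt N1561 (iv F10299)) (tt N1216 F7578) (tt N1622 D2164) (tt N908 F7579) (tt N1621 (iv F10655)) (tt N907 (iv D1512)) (tt N929 F7580))
theorem Q1218 : ∀ i, i < 1218 → P i := stepQ 1217 Q1217 (allL N1217 (tt N1217 F7581) (tt N1614 (iv F10618)) (tt N914 F7582) (tt N1562 (iv F10304)) (tt N1580 (iv F131211)) (tt N908 (iv D1513)) (tt N1579 (iv F131205)) (tt N1217 F7583) (tt N1217 F7584) (tt N930 F7585))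
theorem Q1219 : ∀ i, i < 1219 → P i := stepQ 1218 Q1218 (allL N1218 (tt N1218 F7586) (tt N1218 F7587) (tt N1616 (iv F10629)) (tt N1218 F7588) (tt N910 F7589) (tt N1218 F7590) (tt N1623 D2167) (tt N909 (iv D1514)) (tt N1218 F7591) (tt N1624 D2168))
theorem Q1220 : ∀ i, i < 1220 → P i := stepQ 1219 Q1219 (allL N1219 (tt N1219 F7592) (tt N1219 F7593) (tt N1617 (iv F10634)) (tt N1219 F7594) (tt N911 F7595) (tt N1219 F7596) (tt N1219 F7597) (tt N1624 (iv F10681)) (tt N1625 D2169) (tt N909 (iv D1515)))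
theorem Q1221 : ∀ i, i < 1221 → P i := stepQ 1220 Q1220 (allL N1220 (tt N1220 F7598) (tt N1220 F7599) (tt N1618 (iv F10639)) (tt N915 F7600) (tt N1623 (iv F10673)) (tt N1220 F7601) (tt N910 (iv D1516)) (tt N1220 F7602) (tt N1220 F7603) (tt N1626 D2170))
theorem Q1222 : ∀ i, i < 1222 → P i := stepQ 1221 Q1221 (allL N1221 (tt N1221 F7604) (tt N1221 F7605) (tt N1619 (iv F10644)) (tt N916 F7606) (tt N1624 (iv F10679)) (tt N912 F7607) (tt N1626 (iv F10692)) (tt N911 F7608) (tt N1627 D2171) (tt N910 (iv D1517)))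
theorem Q1223 : ∀ i, i < 1223 → P i := stepQ 1222 Q1222 (allL N1222 (tt N1222 F7609) (tt N1222 F7610) (tt N1620 (iv F10648)) (tt N917 F7611) (tt N1625 (iv F10685)) (tt N1628 D2172) (tt N1222 F7612) (tt N1627 (iv F10697)) (tt N911 (iv D1518)) (tt N1222 F7613))
theorem Q1224 : ∀ i, i < 1224 → P i := stepQ 1223 Q1223 (allL N1223 (tt N1223 F7614) (tt N1223 F7615) (tt N1621 (iv F10652)) (tt N918 F7616) (tt N1223 F7617) (tt N1629 D2173) (tt N1223 F7618) (tt N913 F7619) (tt N912 (iv D1519)) (tt N931 F7620))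
theorem Q1225 : ∀ i, i < 1225 → P i := stepQ 1224 Q1224 (allL N1224 (tt N1224 F7621) (tt N1224 F7622) (tt N1622 (iv F10658)) (tt N919 F7623) (tt N1630 D2174) (tt N913 (iv D1520)) (tt N1631 D2175) (tt N1629 (iv F10707)) (tt N1628 (iv F10702)) (tt N932 F7624))
theorem Q1226 : ∀ i, i < 1226 → P i := stepQ 1225 Q1225 (allL N1225 (tt N1225 F7625) (tt N1225 F7626) (tt N1580 (iv F131210)) (tt N1225 F7627) (tt N914 (iv D1521)) (tt N1225 F7628) (tt N921 (iv F131207)) (tt N1225 F7629) (tt N1225 F7630) (tt N933 F7631))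
theorem Q1227 : ∀ i, i < 1227 → P i := stepQ 1226 Q1226 (allL N1226 (tt N1226 F7632) (tt N1226 F7633) (tt N1579 (iv F131203)) (tt N920 F7634) (tt N921 (iv F131206)) (tt N1631 (iv F10716)) (tt N914 (iv D1522)) (tt N922 (iv F131209)) (tt N1226 F7635) (tt N934 F7636))
theorem Q1228 : ∀ i, i < 1228 → P i := stepQ 1227 Q1227 (allL N1227 (tt N1227 F7637) (tt N1227 F7638) (tt N1572 (iv F10347)) (tt N1626 (iv F10690)) (tt N1227 F7639) (tt N1227 F7640) (tt N916 F7641) (tt N1227 F7642) (tt N1632 D2178) (tt N915 (iv D1523)))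
theorem Q1229 : ∀ i, i < 1229 → P i := stepQ 1228 Q1228 (allL N1228 (tt N1228 F7643) (tt N1228 F7644) (tt N1573 (iv F10353)) (tt N1627 (iv F10696)) (tt N1228 F7645) (tt N1633 D2179) (tt N1632 (iv F10733)) (tt N917 F7646) (tt N916 (iv D1524)) (tt N1228 F7647))
theorem Q1230 : ∀ i, i < 1230 → P i := stepQ 1229 Q1229 (allL N1229 (tt N1229 F7648) (tt N1229 F7649) (tt N1574 (iv F10358)) (tt N1628 (iv F10701)) (tt N1634 D2180) (tt N917 (iv D1525)) (tt N1635 D2181) (tt N1633 (iv F10738)) (tt N919 F7650) (tt N1229 F7651))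
theorem Q1231 : ∀ i, i < 1231 → P i := stepQ 1230 Q1230 (allL N1230 (tt N1230 F7652) (tt N1230 F7653) (tt N1575 (iv F10362)) (tt N1629 (iv F10706)) (tt N1631 F131626) (tt N918 (iv D1526)) (tt N1630 F131627) (tt N919 F7654) (tt N1633 (iv F10739)) (tt N935 F7655))
theorem Q1232 : ∀ i, i < 1232 → P i := stepQ 1231 Q1231 (allL N1231 (tt N1231 F7656) (tt N1231 F7657) (tt N1576 (iv F10366)) (tt N1636 D2184) (tt N919 (iv D1527)) (tt N922 F7658) (tt N1637 D2185) (tt N1631 F131628) (tt N1634 (iv F10744)) (tt N936 F7659))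
theorem Q1233 : ∀ i, i < 1233 → P i := stepQ 1232 Q1232 (allL N1232 (tt N1232 F7660) (tt N1232 F7661) (tt N1577 (iv F10370)) (tt N1631 (iv F10715)) (tt N1637 (iv F10766)) (tt N920 F7662) (tt N919 (iv D1528)) (tt N1636 F131625) (tt N1635 (iv F10749)) (tt N937 F7663))
theorem Q1234 : ∀ i, i < 1234 → P i := stepQ 1233 Q1233 (allL N1233 (tt N1233 F7664) (tt N1233 F7665) (tt N1578 (iv F10374)) (tt N922 (iv F131208)) (tt N1233 F7666) (tt N1636 (iv F131202)) (tt N1233 F7667) (tt N920 (iv D1529)) (tt N1233 F7668) (tt N938 F7669))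
theorem Q1235 : ∀ i, i < 1235 → P i := stepQ 1234 Q1234 (allL N1234 (tt N925 F7688) (tt N1234 F7689) (tt N1234 F7690) (tt N1582 (iv F10396)) (tt N1234 F7691) (tt N1234 F7692) (tt N1234 F7693) (tt N923 (iv D1533)) (tt N1606 (iv F10583)) (tt N1638 D2190))
theorem Q1236 : ∀ i, i < 1236 → P i := stepQ 1235 Q1235 (allL N1235 (tt N926 F7694) (tt N1235 F7695) (tt N1235 F7696) (tt N1583 (iv F10401)) (tt N1235 F7697) (tt N1235 F7698) (tt N924 F7699) (tt N1638 (iv F10796)) (tt N1639 D2191) (tt N923 (iv D1534)))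
theorem Q1237 : ∀ i, i < 1237 → P i := stepQ 1236 Q1236 (allL N1236 (tt N927 F7700) (tt N1236 F7701) (tt N1236 F7702) (tt N1584 (iv F10406)) (tt N1236 F7703) (tt N1640 D2192) (tt N1639 (iv F10801)) (tt N1236 F7704) (tt N924 (iv D1535)) (tt N1608 (iv F10594)))
theorem Q1238 : ∀ i, i < 1238 → P i := stepQ 1237 Q1237 (allL N1237 (tt N1638 (iv F10790)) (tt N928 F7705) (tt N1237 F7706) (tt N1585 (iv F10409)) (tt N1237 F7707) (tt N1237 F7708) (tt N1237 F7709) (tt N926 F7710) (tt N1641 D2193) (tt N925 (iv D1536)))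
theorem Q1239 : ∀ i, i < 1239 → P i := stepQ 1238 Q1238 (allL N1238 (tt N1639 (iv F10797)) (tt N929 F7711) (tt N1238 F7712) (tt N1586 (iv F10414)) (tt N1238 F7713) (tt N1642 D2194) (tt N927 F7714) (tt N1641 (iv F10811)) (tt N926 (iv D1537)) (tt N1613 (iv F10617)))
theorem Q1240 : ∀ i, i < 1240 → P i := stepQ 1239 Q1239 (allL N1239 (tt N1640 (iv F10802)) (tt N930 F7715) (tt N1239 F7716) (tt N1587 (iv F10417)) (tt N1460 (iv F131228)) (tt N927 (iv D1538)) (tt N1459 (iv F131227)) (tt N1239 F7717) (tt N940 F7718) (tt N1614 (iv F10622)))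
theorem Q1241 : ∀ i, i < 1241 → P i := stepQ 1240 Q1240 (allL N1240 (tt N1240 F7719) (tt N1641 (iv F10807)) (tt N931 F7720) (tt N1588 (iv F10422)) (tt N1240 F7721) (tt N1643 D2197) (tt N1240 F7722) (tt N929 F7723) (tt N928 (iv D1539)) (tt N1621 (iv F10656)))
theorem Q1242 : ∀ i, i < 1242 → P i := stepQ 1241 Q1241 (allL N1241 (tt N1241 F7724) (tt N1642 (iv F10812)) (tt N932 F7725) (tt N1589 (iv F10427)) (tt N1598 (iv F131222)) (tt N929 (iv D1540)) (tt N1597 (iv F131216)) (tt N1643 (iv F10825)) (tt N1241 F7726) (tt N1622 (iv F10659)))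
theorem Q1243 : ∀ i, i < 1243 → P i := stepQ 1242 Q1242 (allL N1242 (tt N1242 F7735) (tt N1242 F7736) (tt N1643 (iv F10824)) (tt N935 F7737) (tt N1644 D2203) (tt N931 (iv D1543)) (tt N1645 D2204) (tt N932 F7738) (tt N1242 F7739) (tt N1629 (iv F10708)))
theorem Q1244 : ∀ i, i < 1244 → P i := stepQ 1243 Q1243 (allL N1243 (tt N1243 F7740) (tt N1243 F7741) (tt N1598 (iv F131221)) (tt N1645 (iv F131223)) (tt N932 (iv D1544)) (tt N1243 F7742) (tt N935 (iv F131219)) (tt N1644 (iv F10851)) (tt N1243 F7743) (tt N1630 (iv F10712)))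
theorem Q1245 : ∀ i, i < 1245 → P i := stepQ 1244 Q1244 (allL N1244 (tt N1244 F7744) (tt N1244 F7745) (tt N1597 (iv F131214)) (tt N937 F7746) (tt N935 (iv F131218)) (tt N934 F7747) (tt N932 (iv D1545)) (tt N936 (iv F131220)) (tt N1244 F7748) (tt N1631 (iv F10717)))
theorem Q1246 : ∀ i, i < 1246 → P i := stepQ 1245 Q1245 (allL N1245 (tt N1245 F7768) (tt N1245 F7769) (tt N1601 (iv F131226)) (tt N936 (iv D1550)) (tt N1645 (iv F131224)) (tt N938 F130945) (tt N1644 (iv F131212)) (tt N937 (iv F131217)) (tt N1245 F7771) (tt N1636 (iv F10763)))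
theorem Q1247 : ∀ i, i < 1247 → P i := stepQ 1246 Q1246 (allL N1246 (tt N1246 F7772) (tt N1246 F7773) (tt N1600 (iv F10468)) (tt N1644 F131225) (tt N937 F7774) (tt N1246 F7775) (tt N936 (iv D1551)) (tt N1645 (iv F131213)) (tt N1246 F7776) (tt N1637 (iv F10768)))
theorem Q1248 : ∀ i, i < 1248 → P i := stepQ 1247 Q1247 (allL N1247 (tt N940 F7847) (tt N1247 F7848) (tt N1247 F7849) (tt N1602 (iv F10536)) (tt N1339 (iv F131234)) (tt N939 (iv D1565)) (tt N1338 (iv F131235)) (tt N1247 F7850) (tt N1640 (iv F10806)) (tt N1247 F7851))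
theorem Q1249 : ∀ i, i < 1249 → P i := stepQ 1248 Q1248 (allL N1248 (tt N1248 F7944) (tt N1248 F7945) (tt N942 (iv D1583)) (tt N1248 F7946) (tt N1248 F7947) (tt N1248 F7948) (tt N1248 F7949) (tt N1248 F7950) (tt N1646 D2255) (tt N1248 F7951))
theorem Q1250 : ∀ i, i < 1250 → P i := stepQ 1249 Q1249 (allL N1249 (tt N1249 F7952) (tt N948 F7953) (tt N1646 (iv F11120)) (tt N943 F7954) (tt N1249 F7955) (tt N1647 D2256) (tt N1249 F7956) (tt N1249 F7957) (tt N942 (iv D1584)) (tt N1648 D2257))
theorem Q1251 : ∀ i, i < 1251 → P i := stepQ 1250 Q1250 (allL N1250 (tt N1250 F7958) (tt N949 F7959) (tt N1250 F7960) (tt N1647 (iv F11127)) (tt N1649 D2258) (tt N943 (iv D1585)) (tt N1650 D2259) (tt N1250 F7961) (tt N1250 F7962) (tt N1651 D2260))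
theorem Q1252 : ∀ i, i < 1252 → P i := stepQ 1251 Q1251 (allL N1251 (tt N1251 F7963) (tt N950 F7964) (tt N1251 F7965) (tt N1648 (iv F11132)) (tt N945 F7966) (tt N1651 (iv F11151)) (tt N1251 F7967) (tt N1251 F7968) (tt N1251 F7969) (tt N943 (iv D1586)))
theorem Q1253 : ∀ i, i < 1253 → P i := stepQ 1252 Q1252 (allL N1252 (tt N1252 F7970) (tt N951 F7971) (tt N1252 F7972) (tt N1652 D2261) (tt N944 (iv D1587)) (tt N1649 (iv F11140)) (tt N1141 (iv F20082)) (tt N1252 F7973) (tt N946 F7974) (tt N1653 D2263))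
theorem Q1254 : ∀ i, i < 1254 → P i := stepQ 1253 Q1253 (allL N1253 (tt N1253 F7981) (tt N953 F7982) (tt N1253 F7983) (tt N1253 F7984) (tt N1653 (iv F11166)) (tt N945 F7985) (tt N1150 (iv F20084)) (tt N1253 F7986) (tt N1654 D2266) (tt N944 (iv D1589)))
theorem Q1255 : ∀ i, i < 1255 → P i := stepQ 1254 Q1254 (allL N1254 (tt N1254 F7987) (tt N954 F7988) (tt N1655 D2267) (tt N946 (iv D1590)) (tt N1254 F7989) (tt N1254 F7990) (tt N1135 (iv F20090)) (tt N1254 F7991) (tt N1652 (iv F11157)) (tt N1656 D2269))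
theorem Q1256 : ∀ i, i < 1256 → P i := stepQ 1255 Q1255 (allL N1255 (tt N1255 F7996) (tt N956 F7997) (tt N1255 F7998) (tt N1656 (iv F11199)) (tt N947 F7999) (tt N1255 F8000) (tt N1142 (iv F20092)) (tt N1255 F8001) (tt N1657 D2273) (tt N946 (iv D1592)))
theorem Q1257 : ∀ i, i < 1257 → P i := stepQ 1256 Q1256 (allL N1256 (tt N1256 F8014) (tt N958 F8015) (tt N1256 F8016) (tt N1256 F8017) (tt N1657 (iv F11221)) (tt N1256 F8018) (tt N1151 (iv F20094)) (tt N1256 F8019) (tt N947 (iv D1595)) (tt N1654 (iv F11187)))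
theorem Q1258 : ∀ i, i < 1258 → P i := stepQ 1257 Q1257 (allL N1257 (tt N1014 F8149) (tt N1647 (iv F11126)) (tt N1257 F8150) (tt N949 F8151) (tt N1658 D2311) (tt N948 (iv D1619)) (tt N1659 D2312) (tt N1257 F8152) (tt N1257 F8153) (tt N1660 D2313))
theorem Q1259 : ∀ i, i < 1259 → P i := stepQ 1258 Q1258 (allL N1258 (tt N1015 F8154) (tt N1648 (iv F11131)) (tt N1258 F8155) (tt N950 F8156) (tt N1258 F8157) (tt N1660 (iv F11443)) (tt N1258 F8158) (tt N1258 F8159) (tt N1258 F8160) (tt N948 (iv D1620)))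
theorem Q1260 : ∀ i, i < 1260 → P i := stepQ 1259 Q1259 (allL N1259 (tt N1016 F8161) (tt N1649 (iv F11138)) (tt N960 F8162) (tt N1661 D2314) (tt N949 (iv D1621)) (tt N951 F8163) (tt N1662 D2315) (tt N1259 F8164) (tt N1259 F8165) (tt N1663 D2316))
theorem Q1261 : ∀ i, i < 1261 → P i := stepQ 1260 Q1260 (allL N1260 (tt N1017 F8166) (tt N1650 (iv F11144)) (tt N961 F8167) (tt N1659 (iv F11437)) (tt N1662 (iv F11451)) (tt N1260 F8168) (tt N949 (iv D1622)) (tt N1664 D2317) (tt N1260 F8169) (tt N1665 D2318))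
theorem Q1262 : ∀ i, i < 1262 → P i := stepQ 1261 Q1261 (allL N1261 (tt N1018 F8170) (tt N1651 (iv F11149)) (tt N962 F8171) (tt N1660 (iv F11442)) (tt N1663 (iv F11455)) (tt N950 F8172) (tt N1665 (iv F11466)) (tt N1261 F8173) (tt N1666 D2319) (tt N949 (iv D1623)))
theorem Q1263 : ∀ i, i < 1263 → P i := stepQ 1262 Q1262 (allL N1262 (tt N1019 F8174) (tt N1652 (iv F11154)) (tt N1667 D2320) (tt N951 (iv D1624)) (tt N1262 F8175) (tt N1661 (iv F11446)) (tt N1668 D2321) (tt N1262 F8176) (tt N954 F8177) (tt N1669 D2322))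
theorem Q1264 : ∀ i, i < 1264 → P i := stepQ 1263 Q1263 (allL N1263 (tt N1020 F8178) (tt N1141 (iv F20081)) (tt N964 F8179) (tt N1668 (iv F11478)) (tt N952 F8180) (tt N1670 D2323) (tt N951 (iv D1625)) (tt N1053 (iv F20075)) (tt N955 F8181) (tt N1671 D2325))
theorem Q1265 : ∀ i, i < 1265 → P i := stepQ 1264 Q1264 (allL N1264 (tt N1021 F8182) (tt N1653 (iv F11164)) (tt N965 F8183) (tt N1669 (iv F11482)) (tt N953 F8184) (tt N1663 (iv F11456)) (tt N1671 (iv F11496)) (tt N1264 F8185) (tt N1672 D2326) (tt N951 (iv D1626)))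
theorem Q1266 : ∀ i, i < 1266 → P i := stepQ 1265 Q1265 (allL N1265 (tt N1022 F8192) (tt N1150 (iv F20083)) (tt N967 F8193) (tt N1265 F8194) (tt N1671 (iv F11495)) (tt N1265 F8195) (tt N953 F8196) (tt N1060 (iv F20096)) (tt N1673 D2328) (tt N952 (iv D1628)))
theorem Q1267 : ∀ i, i < 1267 → P i := stepQ 1266 Q1266 (allL N1266 (tt N1023 F8197) (tt N1654 (iv F11182)) (tt N968 F8198) (tt N1266 F8199) (tt N1672 (iv F11499)) (tt N1266 F8200) (tt N1673 (iv F11511)) (tt N1266 F8201) (tt N953 (iv D1629)) (tt N958 F8202))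
theorem Q1268 : ∀ i, i < 1268 → P i := stepQ 1267 Q1267 (allL N1267 (tt N1024 F8203) (tt N1674 D2329) (tt N954 (iv D1630)) (tt N969 F8204) (tt N1267 F8205) (tt N1267 F8206) (tt N1675 D2330) (tt N1267 F8207) (tt N1667 (iv F11476)) (tt N1676 D2331))
theorem Q1269 : ∀ i, i < 1269 → P i := stepQ 1268 Q1268 (allL N1268 (tt N1025 F8208) (tt N1135 (iv F20089)) (tt N1675 (iv F11518)) (tt N955 F8209) (tt N1268 F8210) (tt N1050 (iv F20073)) (tt N954 (iv D1631)) (tt N1049 (iv F20072)) (tt N1668 (iv F11480)) (tt N1677 D2334))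
theorem Q1270 : ∀ i, i < 1270 → P i := stepQ 1269 Q1269 (allL N1269 (tt N1026 F8211) (tt N1656 (iv F11198)) (tt N1676 (iv F11522)) (tt N956 F8212) (tt N1269 F8213) (tt N1269 F8214) (tt N1677 (iv F11537)) (tt N1269 F8215) (tt N1678 D2335) (tt N954 (iv D1632)))
theorem Q1271 : ∀ i, i < 1271 → P i := stepQ 1270 Q1270 (allL N1270 (tt N1027 F8224) (tt N1142 (iv F20091)) (tt N974 F8225) (tt N1677 (iv F11535)) (tt N957 F8226) (tt N1055 (iv F20080)) (tt N956 F8227) (tt N1054 (iv F20077)) (tt N1679 D2340) (tt N955 (iv D1635)))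
theorem Q1272 : ∀ i, i < 1272 → P i := stepQ 1271 Q1271 (allL N1271 (tt N1028 F8228) (tt N1657 (iv F11219)) (tt N975 F8229) (tt N1678 (iv F11539)) (tt N958 F8230) (tt N1680 D2341) (tt N1679 (iv F11563)) (tt N1271 F8231) (tt N956 (iv D1636)) (tt N1672 (iv F11501)))
theorem Q1273 : ∀ i, i < 1273 → P i := stepQ 1272 Q1272 (allL N1272 (tt N1029 F8238) (tt N1151 (iv F20093)) (tt N977 F8239) (tt N1272 F8240) (tt N1679 (iv F11562)) (tt N1681 D2343) (tt N958 F8241) (tt N1061 (iv F20100)) (tt N957 (iv D1638)) (tt N1673 (iv F11512)))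
theorem Q1274 : ∀ i, i < 1274 → P i := stepQ 1273 Q1273 (allL N1273 (tt N1030 F8296) (tt N1154 (iv F20257)) (tt N983 F8297) (tt N1273 F8298) (tt N1682 D2360) (tt N959 (iv D1650)) (tt N1273 F8299) (tt N1062 (iv F20251)) (tt N1681 (iv F11578)) (tt N1273 F8300))
theorem Q1275 : ∀ i, i < 1275 → P i := stepQ 1274 Q1274 (allL N1274 (tt N1031 F8383) (tt N1274 F8384) (tt N1683 D2386) (tt N960 (iv D1668)) (tt N1274 F8385) (tt N963 F8386) (tt N1684 D2387) (tt N1274 F8387) (tt N1274 F8388) (tt N1685 D2388))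
theorem Q1276 : ∀ i, i < 1276 → P i := stepQ 1275 Q1275 (allL N1275 (tt N1032 F8389) (tt N1275 F8390) (tt N1662 (iv F11450)) (tt N1684 (iv F11784)) (tt N961 F8391) (tt N1686 D2389) (tt N960 (iv D1669)) (tt N1687 D2390) (tt N1275 F8392) (tt N1688 D2391))
theorem Q1277 : ∀ i, i < 1277 → P i := stepQ 1276 Q1276 (allL N1276 (tt N1033 F8393) (tt N1276 F8394) (tt N1663 (iv F11454)) (tt N1685 (iv F11789)) (tt N962 F8395) (tt N965 F8396) (tt N1688 (iv F11805)) (tt N1276 F8397) (tt N1689 D2392) (tt N960 (iv D1670)))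
theorem Q1278 : ∀ i, i < 1278 → P i := stepQ 1277 Q1277 (allL N1277 (tt N1034 F8398) (tt N1277 F8399) (tt N1664 (iv F11459)) (tt N1277 F8400) (tt N1687 (iv F11799)) (tt N1277 F8401) (tt N1277 F8402) (tt N961 (iv D1671)) (tt N1277 F8403) (tt N1690 D2393))
theorem Q1279 : ∀ i, i < 1279 → P i := stepQ 1278 Q1278 (allL N1278 (tt N1035 F8404) (tt N1278 F8405) (tt N1665 (iv F11464)) (tt N1278 F8406) (tt N1688 (iv F11804)) (tt N1278 F8407) (tt N962 F8408) (tt N1690 (iv F11816)) (tt N1691 D2394) (tt N961 (iv D1672)))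
theorem Q1280 : ∀ i, i < 1280 → P i := stepQ 1279 Q1279 (allL N1279 (tt N1036 F8409) (tt N1279 F8410) (tt N1666 (iv F11468)) (tt N1279 F8411) (tt N1689 (iv F11808)) (tt N1279 F8412) (tt N1691 (iv F11820)) (tt N1279 F8413) (tt N962 (iv D1673)) (tt N1279 F8414))
theorem Q1281 : ∀ i, i < 1281 → P i := stepQ 1280 Q1280 (allL N1280 (tt N1037 F8415) (tt N1692 D2395) (tt N963 (iv D1674)) (tt N1667 (iv F11473)) (tt N985 F8416) (tt N1683 (iv F11779)) (tt N1693 D2396) (tt N1280 F8417) (tt N969 F8418) (tt N1694 D2397))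
theorem Q1282 : ∀ i, i < 1282 → P i := stepQ 1281 Q1281 (allL N1281 (tt N1038 F8419) (tt N1281 F8420) (tt N1693 (iv F11827)) (tt N964 F8421) (tt N986 F8422) (tt N1695 D2398) (tt N963 (iv D1675)) (tt N1696 D2399) (tt N970 F8423) (tt N1697 D2400))
theorem Q1283 : ∀ i, i < 1283 → P i := stepQ 1282 Q1282 (allL N1282 (tt N1039 F8424) (tt N1282 F8425) (tt N1694 (iv F11831)) (tt N965 F8426) (tt N987 F8427) (tt N1685 (iv F11791)) (tt N1697 (iv F11847)) (tt N1282 F8428) (tt N1698 D2401) (tt N963 (iv D1676)))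
theorem Q1284 : ∀ i, i < 1284 → P i := stepQ 1283 Q1283 (allL N1283 (tt N1040 F8429) (tt N1283 F8430) (tt N1670 (iv F11486)) (tt N1695 (iv F11836)) (tt N1283 F8431) (tt N964 (iv D1677)) (tt N1686 (iv F11796)) (tt N1699 D2402) (tt N1700 D2403) (tt N1701 D2404))
theorem Q1285 : ∀ i, i < 1285 → P i := stepQ 1284 Q1284 (allL N1284 (tt N1041 F8432) (tt N1284 F8433) (tt N1053 (iv F20074)) (tt N1696 (iv F11839)) (tt N966 F8434) (tt N1699 (iv F11857)) (tt N1284 F8435) (tt N964 (iv D1678)) (tt N973 F8436) (tt N1702 D2405))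
theorem Q1286 : ∀ i, i < 1286 → P i := stepQ 1285 Q1285 (allL N1285 (tt N1042 F8437) (tt N1285 F8438) (tt N1671 (iv F11494)) (tt N1697 (iv F11845)) (tt N967 F8439) (tt N1701 (iv F11865)) (tt N965 F8440) (tt N1702 (iv F11870)) (tt N1703 D2406) (tt N964 (iv D1679)))
theorem Q1287 : ∀ i, i < 1287 → P i := stepQ 1286 Q1286 (allL N1286 (tt N1043 F8441) (tt N1286 F8442) (tt N1672 (iv F11498)) (tt N1698 (iv F11850)) (tt N968 F8443) (tt N1704 D2407) (tt N1703 (iv F11874)) (tt N1286 F8444) (tt N965 (iv D1680)) (tt N975 F8445))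
theorem Q1288 : ∀ i, i < 1288 → P i := stepQ 1287 Q1287 (allL N1287 (tt N1044 F8446) (tt N1287 F8447) (tt N1060 (iv F20095)) (tt N992 F8448) (tt N1702 (iv F11868)) (tt N1287 F8449) (tt N1287 F8450) (tt N967 F8451) (tt N1705 D2408) (tt N966 (iv D1681)))
theorem Q1289 : ∀ i, i < 1289 → P i := stepQ 1288 Q1288 (allL N1288 (tt N1045 F8452) (tt N1288 F8453) (tt N1673 (iv F11509)) (tt N993 F8454) (tt N1703 (iv F11873)) (tt N1706 D2409) (tt N968 F8455) (tt N1705 (iv F11885)) (tt N967 (iv D1682)) (tt N977 F8456))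
theorem Q1290 : ∀ i, i < 1290 → P i := stepQ 1289 Q1289 (allL N1289 (tt N1707 D2410) (tt N969 (iv D1683)) (tt N1289 F8457) (tt N1674 (iv F11513)) (tt N994 F8458) (tt N1289 F8459) (tt N1708 D2411) (tt N1289 F8460) (tt N1692 (iv F11825)) (tt N1709 D2412))
theorem Q1291 : ∀ i, i < 1291 → P i := stepQ 1290 Q1290 (allL N1290 (tt N1047 F8461) (tt N1708 (iv F11898)) (tt N970 F8462) (tt N1675 (iv F11519)) (tt N995 F8463) (tt N1710 D2413) (tt N969 (iv D1684)) (tt N1711 D2414) (tt N1693 (iv F11829)) (tt N1712 D2415))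
theorem Q1292 : ∀ i, i < 1292 → P i := stepQ 1291 Q1291 (allL N1291 (tt N1048 F8464) (tt N1709 (iv F11901)) (tt N971 F8465) (tt N1676 (iv F11523)) (tt N996 F8466) (tt N1291 F8467) (tt N1712 (iv F11917)) (tt N1291 F8468) (tt N1713 D2416) (tt N969 (iv D1685)))
theorem Q1293 : ∀ i, i < 1293 → P i := stepQ 1292 Q1292 (allL N1292 (tt N1049 F8469) (tt N1292 F8470) (tt N1710 (iv F11907)) (tt N972 F8471) (tt N1292 F8472) (tt N970 (iv D1686)) (tt N1292 F8473) (tt N1025 (iv F20059)) (tt N1714 D2418) (tt N1715 D2419))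
theorem Q1294 : ∀ i, i < 1294 → P i := stepQ 1293 Q1293 (allL N1293 (tt N1050 F8474) (tt N1293 F8475) (tt N1711 (iv F11911)) (tt N973 F8476) (tt N997 F8477) (tt N1025 (iv F20058)) (tt N1293 F8478) (tt N970 (iv D1687)) (tt N1696 (iv F11842)) (tt N1716 D2420))
theorem Q1295 : ∀ i, i < 1295 → P i := stepQ 1294 Q1294 (allL N1294 (tt N1051 F8479) (tt N1294 F8480) (tt N1712 (iv F11915)) (tt N974 F8481) (tt N998 F8482) (tt N1715 (iv F11936)) (tt N971 F8483) (tt N1716 (iv F11943)) (tt N1717 D2421) (tt N970 (iv D1688)))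
theorem Q1296 : ∀ i, i < 1296 → P i := stepQ 1295 Q1295 (allL N1295 (tt N1052 F8484) (tt N1295 F8485) (tt N1713 (iv F11919)) (tt N975 F8486) (tt N999 F8487) (tt N1718 D2422) (tt N1717 (iv F11948)) (tt N1295 F8488) (tt N971 (iv D1689)) (tt N1698 (iv F11853)))
theorem Q1297 : ∀ i, i < 1297 → P i := stepQ 1296 Q1296 (allL N1296 (tt N1053 F8493) (tt N1296 F8494) (tt N1041 (iv F20078)) (tt N1714 (iv F11929)) (tt N978 F8495) (tt N1700 (iv F11861)) (tt N1296 F8496) (tt N1020 (iv F20049)) (tt N972 (iv D1691)) (tt N1719 D2426))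
theorem Q1298 : ∀ i, i < 1298 → P i := stepQ 1297 Q1297 (allL N1297 (tt N1054 F8497) (tt N1297 F8498) (tt N1055 (iv F20079)) (tt N1715 (iv F11934)) (tt N979 F8499) (tt N974 F8500) (tt N1297 F8501) (tt N1027 (iv F20061)) (tt N1720 D2427) (tt N972 (iv D1692)))
theorem Q1299 : ∀ i, i < 1299 → P i := stepQ 1298 Q1298 (allL N1298 (tt N1055 F8502) (tt N1298 F8503) (tt N1054 (iv F20076)) (tt N1716 (iv F11940)) (tt N976 F8504) (tt N1027 (iv F20060)) (tt N1298 F8505) (tt N974 F8506) (tt N1721 D2428) (tt N973 (iv D1693)))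
theorem Q1300 : ∀ i, i < 1300 → P i := stepQ 1299 Q1299 (allL N1299 (tt N1056 F8507) (tt N1299 F8508) (tt N1679 (iv F11561)) (tt N1717 (iv F11946)) (tt N977 F8509) (tt N1722 D2429) (tt N975 F8510) (tt N1721 (iv F11980)) (tt N974 (iv D1694)) (tt N1703 (iv F11875)))
theorem Q1301 : ∀ i, i < 1301 → P i := stepQ 1300 Q1300 (allL N1300 (tt N1057 F8511) (tt N1300 F8512) (tt N1680 (iv F11565)) (tt N1718 (iv F11951)) (tt N1300 F8513) (tt N975 (iv D1695)) (tt N1723 D2430) (tt N1300 F8514) (tt N1300 F8515) (tt N1704 (iv F11880)))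
theorem Q1302 : ∀ i, i < 1302 → P i := stepQ 1301 Q1301 (allL N1301 (tt N1058 F8516) (tt N1301 F8517) (tt N1061 (iv F20099)) (tt N1003 F8518) (tt N1721 (iv F11978)) (tt N1724 D2431) (tt N1301 F8519) (tt N977 F8520) (tt N976 (iv D1696)) (tt N1705 (iv F11886)))
theorem Q1303 : ∀ i, i < 1303 → P i := stepQ 1302 Q1302 (allL N1302 (tt N1059 F8521) (tt N1302 F8522) (tt N1681 (iv F11575)) (tt N1004 F8523) (tt N1725 D2432) (tt N977 (iv D1697)) (tt N1302 F8524) (tt N1724 (iv F11990)) (tt N983 F8525) (tt N1706 (iv F11892)))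
theorem Q1304 : ∀ i, i < 1304 → P i := stepQ 1303 Q1303 (allL N1303 (tt N1060 F8541) (tt N1303 F8542) (tt N1044 F20105) (tt N1303 F8543) (tt N1719 (iv F11970)) (tt N1303 F8544) (tt N1303 F8545) (tt N1022 F20106) (tt N1726 D2437) (tt N978 (iv D1701)))
theorem Q1305 : ∀ i, i < 1305 → P i := stepQ 1304 Q1304 (allL N1304 (tt N1061 F8546) (tt N1304 F8547) (tt N1058 F20118) (tt N1304 F8548) (tt N1720 (iv F11974)) (tt N1727 D2438) (tt N1304 F8549) (tt N1029 F20119) (tt N979 (iv D1702)) (tt N1726 (iv F12020)))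
theorem Q1306 : ∀ i, i < 1306 → P i := stepQ 1305 Q1305 (allL N1305 (tt N1062 F8557) (tt N1305 F8558) (tt N1064 (iv F20252)) (tt N1305 F8559) (tt N1728 D2440) (tt N980 (iv D1704)) (tt N1729 D2441) (tt N1030 (iv F20245)) (tt N1727 (iv F12024)) (tt N1305 F8560))
theorem Q1307 : ∀ i, i < 1307 → P i := stepQ 1306 Q1306 (allL N1306 (tt N1063 F8561) (tt N1306 F8562) (tt N1066 (iv F20260)) (tt N1306 F8563) (tt N1306 F8564) (tt N1729 (iv F12037)) (tt N981 (iv D1705)) (tt N1306 F20263) (tt N1306 F8565) (tt N1306 F8566))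
theorem Q1308 : ∀ i, i < 1308 → P i := stepQ 1307 Q1307 (allL N1307 (tt N1064 F8567) (tt N1307 F8568) (tt N1062 (iv F20250)) (tt N1005 F8569) (tt N1730 D2443) (tt N982 (iv D1706)) (tt N1731 D2444) (tt N983 F8570) (tt N1724 (iv F11991)) (tt N1307 F8571))
theorem Q1309 : ∀ i, i < 1309 → P i := stepQ 1308 Q1308 (allL N1308 (tt N1065 F8572) (tt N1308 F8573) (tt N1682 (iv F11654)) (tt N1732 D2445) (tt N983 (iv D1707)) (tt N1728 (iv F12032)) (tt N1308 F8574) (tt N1730 (iv F12048)) (tt N1725 (iv F11995)) (tt N1308 F8575))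
theorem Q1310 : ∀ i, i < 1310 → P i := stepQ 1309 Q1309 (allL N1309 (tt N1066 F8634) (tt N1309 F8635) (tt N1063 F20268) (tt N1008 F8636) (tt N1309 F20309) (tt N1731 (iv F12053)) (tt N984 (iv D1719)) (tt N1309 F8637) (tt N1309 F8638) (tt N1309 F8639))
theorem Q1311 : ∀ i, i < 1311 → P i := stepQ 1310 Q1310 (allL N1310 (tt N1733 D2462) (tt N985 (iv D1721)) (tt N1310 F8646) (tt N1310 F8647) (tt N1692 (iv F11823)) (tt N1310 F8648) (tt N1734 D2463) (tt N1310 F8649) (tt N994 F8650) (tt N1735 D2464))
theorem Q1312 : ∀ i, i < 1312 → P i := stepQ 1311 Q1311 (allL N1311 (tt N1068 F8651) (tt N1734 (iv F12150)) (tt N986 F8652) (tt N1311 F8653) (tt N1693 (iv F11828)) (tt N1736 D2465) (tt N985 (iv D1722)) (tt N1737 D2466) (tt N995 F8654) (tt N1738 D2467))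
theorem Q1313 : ∀ i, i < 1313 → P i := stepQ 1312 Q1312 (allL N1312 (tt N1069 F8655) (tt N1735 (iv F12154)) (tt N987 F8656) (tt N1312 F8657) (tt N1694 (iv F11832)) (tt N1312 F8658) (tt N1738 (iv F12172)) (tt N1312 F8659) (tt N1739 D2468) (tt N985 (iv D1723)))
theorem Q1314 : ∀ i, i < 1314 → P i := stepQ 1313 Q1313 (allL N1313 (tt N1070 F8660) (tt N1313 F8661) (tt N1736 (iv F12160)) (tt N988 F8662) (tt N1740 D2469) (tt N986 (iv D1724)) (tt N1313 F8663) (tt N1741 D2470) (tt N1313 F8664) (tt N1742 D2471))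
theorem Q1315 : ∀ i, i < 1315 → P i := stepQ 1314 Q1314 (allL N1314 (tt N1071 F8665) (tt N1314 F8666) (tt N1737 (iv F12165)) (tt N989 F8667) (tt N1696 (iv F11840)) (tt N1741 (iv F12186)) (tt N1314 F8668) (tt N986 (iv D1725)) (tt N997 F8669) (tt N1743 D2472))
theorem Q1316 : ∀ i, i < 1316 → P i := stepQ 1315 Q1315 (allL N1315 (tt N1072 F8670) (tt N1315 F8671) (tt N1738 (iv F12170)) (tt N990 F8672) (tt N1697 (iv F11846)) (tt N1742 (iv F12191)) (tt N987 F8673) (tt N1743 (iv F12197)) (tt N1744 D2473) (tt N986 (iv D1726)))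
theorem Q1317 : ∀ i, i < 1317 → P i := stepQ 1316 Q1316 (allL N1316 (tt N1073 F8674) (tt N1316 F8675) (tt N1739 (iv F12174)) (tt N991 F8676) (tt N1698 (iv F11851)) (tt N1745 D2474) (tt N1744 (iv F12201)) (tt N1316 F8677) (tt N987 (iv D1727)) (tt N999 F8678))
theorem Q1318 : ∀ i, i < 1318 → P i := stepQ 1317 Q1317 (allL N1317 (tt N1074 F8679) (tt N1317 F8680) (tt N1317 F8681) (tt N1741 (iv F12185)) (tt N1317 F8682) (tt N989 F8683) (tt N1746 D2475) (tt N988 (iv D1728)) (tt N1317 F8684) (tt N1747 D2476))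
theorem Q1319 : ∀ i, i < 1319 → P i := stepQ 1318 Q1318 (allL N1318 (tt N1075 F8685) (tt N1318 F8686) (tt N1318 F8687) (tt N1742 (iv F12190)) (tt N1318 F8688) (tt N990 F8689) (tt N1318 F8690) (tt N1747 (iv F12221)) (tt N1748 D2477) (tt N988 (iv D1729)))
theorem Q1320 : ∀ i, i < 1320 → P i := stepQ 1319 Q1319 (allL N1319 (tt N1076 F8691) (tt N1319 F8692) (tt N1319 F8693) (tt N1743 (iv F12195)) (tt N992 F8694) (tt N1747 (iv F12220)) (tt N1319 F8695) (tt N990 F8696) (tt N1749 D2478) (tt N989 (iv D1730)))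
theorem Q1321 : ∀ i, i < 1321 → P i := stepQ 1320 Q1320 (allL N1320 (tt N1077 F8697) (tt N1320 F8698) (tt N1320 F8699) (tt N1744 (iv F12200)) (tt N993 F8700) (tt N1750 D2479) (tt N991 F8701) (tt N1749 (iv F12233)) (tt N990 (iv D1731)) (tt N1001 F8702))
theorem Q1322 : ∀ i, i < 1322 → P i := stepQ 1321 Q1321 (allL N1321 (tt N1078 F8703) (tt N1321 F8704) (tt N1321 F8705) (tt N1745 (iv F12205)) (tt N1321 F8706) (tt N991 (iv D1732)) (tt N1751 D2480) (tt N1321 F8707) (tt N1321 F8708) (tt N1002 F8709))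
theorem Q1323 : ∀ i, i < 1323 → P i := stepQ 1322 Q1322 (allL N1322 (tt N1079 F8710) (tt N1322 F8711) (tt N1322 F8712) (tt N1705 (iv F11883)) (tt N1749 (iv F12231)) (tt N1752 D2481) (tt N1322 F8713) (tt N993 F8714) (tt N992 (iv D1733)) (tt N1003 F8715))
theorem Q1324 : ∀ i, i < 1324 → P i := stepQ 1323 Q1323 (allL N1323 (tt N1080 F8716) (tt N1323 F8717) (tt N1323 F8718) (tt N1706 (iv F11889)) (tt N1753 D2482) (tt N993 (iv D1734)) (tt N1323 F8719) (tt N1752 (iv F12248)) (tt N1323 F8720) (tt N1004 F8721))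
theorem Q1325 : ∀ i, i < 1325 → P i := stepQ 1324 Q1324 (allL N1324 (tt N994 (iv D1735)) (tt N1081 F8722) (tt N1324 F8723) (tt N1324 F8724) (tt N1707 (iv F11895)) (tt N1009 F8725) (tt N1754 D2483) (tt N1324 F8726) (tt N1733 (iv F12149)) (tt N1755 D2484))
theorem Q1326 : ∀ i, i < 1326 → P i := stepQ 1325 Q1325 (allL N1325 (tt N1754 (iv F12257)) (tt N995 F8727) (tt N1325 F8728) (tt N1325 F8729) (tt N1708 (iv F11900)) (tt N1325 F8730) (tt N994 (iv D1736)) (tt N1756 D2485) (tt N1734 (iv F12153)) (tt N1757 D2486))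
theorem Q1327 : ∀ i, i < 1327 → P i := stepQ 1326 Q1326 (allL N1326 (tt N1755 (iv F12262)) (tt N996 F8731) (tt N1326 F8732) (tt N1326 F8733) (tt N1709 (iv F11903)) (tt N1010 F8734) (tt N1757 (iv F12277)) (tt N1326 F8735) (tt N1758 D2487) (tt N994 (iv D1737)))
theorem Q1328 : ∀ i, i < 1328 → P i := stepQ 1327 Q1327 (allL N1327 (tt N1084 F8736) (tt N1756 (iv F12268)) (tt N997 F8737) (tt N1327 F8738) (tt N1711 (iv F11912)) (tt N1327 F8739) (tt N1327 F8740) (tt N995 (iv D1738)) (tt N1737 (iv F12168)) (tt N1759 D2488))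
theorem Q1329 : ∀ i, i < 1329 → P i := stepQ 1328 Q1328 (allL N1328 (tt N1085 F8741) (tt N1757 (iv F12273)) (tt N998 F8742) (tt N1328 F8743) (tt N1712 (iv F11916)) (tt N1328 F8744) (tt N996 F8745) (tt N1759 (iv F12287)) (tt N1760 D2489) (tt N995 (iv D1739)))
theorem Q1330 : ∀ i, i < 1330 → P i := stepQ 1329 Q1329 (allL N1329 (tt N1086 F8746) (tt N1758 (iv F12278)) (tt N999 F8747) (tt N1329 F8748) (tt N1713 (iv F11920)) (tt N1761 D2490) (tt N1760 (iv F12291)) (tt N1329 F8749) (tt N996 (iv D1740)) (tt N1739 (iv F12177)))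
theorem Q1331 : ∀ i, i < 1331 → P i := stepQ 1330 Q1330 (allL N1330 (tt N1087 F8750) (tt N1330 F8751) (tt N1759 (iv F12283)) (tt N1000 F8752) (tt N1716 (iv F11941)) (tt N1330 F8753) (tt N1330 F8754) (tt N998 F8755) (tt N1762 D2491) (tt N997 (iv D1741)))
theorem Q1332 : ∀ i, i < 1332 → P i := stepQ 1331 Q1331 (allL N1331 (tt N1088 F8756) (tt N1331 F8757) (tt N1760 (iv F12289)) (tt N1001 F8758) (tt N1717 (iv F11947)) (tt N1763 D2492) (tt N999 F8759) (tt N1762 (iv F12301)) (tt N998 (iv D1742)) (tt N1744 (iv F12202)))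
theorem Q1333 : ∀ i, i < 1333 → P i := stepQ 1332 Q1332 (allL N1332 (tt N1089 F8760) (tt N1332 F8761) (tt N1761 (iv F12293)) (tt N1002 F8762) (tt N1764 D2493) (tt N999 (iv D1743)) (tt N1765 D2494) (tt N1332 F8763) (tt N1012 F8764) (tt N1745 (iv F12208)))
theorem Q1334 : ∀ i, i < 1334 → P i := stepQ 1333 Q1333 (allL N1333 (tt N1090 F8765) (tt N1333 F8766) (tt N1333 F8767) (tt N1762 (iv F12299)) (tt N1003 F8768) (tt N1766 D2495) (tt N1333 F8769) (tt N1001 F8770) (tt N1000 (iv D1744)) (tt N1749 (iv F12234)))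
theorem Q1335 : ∀ i, i < 1335 → P i := stepQ 1334 Q1334 (allL N1334 (tt N1091 F8771) (tt N1334 F8772) (tt N1334 F8773) (tt N1763 (iv F12304)) (tt N1767 D2496) (tt N1001 (iv D1745)) (tt N1768 D2497) (tt N1766 (iv F12318)) (tt N1334 F8774) (tt N1750 (iv F12238)))
theorem Q1336 : ∀ i, i < 1336 → P i := stepQ 1335 Q1335 (allL N1335 (tt N1092 F8775) (tt N1335 F8776) (tt N1335 F8777) (tt N1765 (iv F12313)) (tt N1335 F8778) (tt N1768 (iv F12328)) (tt N1002 (iv D1746)) (tt N1769 D2498) (tt N1013 F8779) (tt N1751 (iv F12244)))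
theorem Q1337 : ∀ i, i < 1337 → P i := stepQ 1336 Q1336 (allL N1336 (tt N1093 F8780) (tt N1336 F8781) (tt N1336 F8782) (tt N1724 (iv F11989)) (tt N1770 D2499) (tt N1003 (iv D1747)) (tt N1771 D2500) (tt N1004 F8783) (tt N1005 F8784) (tt N1752 (iv F12250)))
theorem Q1338 : ∀ i, i < 1338 → P i := stepQ 1337 Q1337 (allL N1337 (tt N1094 F8785) (tt N1337 F8786) (tt N1337 F8787) (tt N1772 D2501) (tt N1004 (iv D1748)) (tt N1767 (iv F12323)) (tt N1337 F8788) (tt N1770 (iv F12339)) (tt N1006 F8789) (tt N1753 (iv F12256)))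
theorem Q1339 : ∀ i, i < 1339 → P i := stepQ 1338 Q1338 (allL N1338 (tt N1095 F8790) (tt N1338 F8791) (tt N1338 F8792) (tt N1773 D2502) (tt N1005 (iv D1749)) (tt N1338 F8793) (tt N1247 F131235) (tt N1006 F8794) (tt N1770 (iv F12340)) (tt N1338 F8795))
theorem Q1340 : ∀ i, i < 1340 → P i := stepQ 1339 Q1339 (allL N1339 (tt N1096 F8796) (tt N1339 F8797) (tt N1339 F8798) (tt N1731 (iv F12052)) (tt N1247 F131234) (tt N1008 F8799) (tt N1005 (iv D1750)) (tt N1339 F8800) (tt N1771 (iv F12346)) (tt N1339 F8801))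
theorem Q1341 : ∀ i, i < 1341 → P i := stepQ 1340 Q1340 (allL N1340 (tt N1097 F8802) (tt N1340 F8803) (tt N1774 D2504) (tt N1006 (iv D1751)) (tt N1732 (iv F12058)) (tt N1340 F8804) (tt N1340 F8805) (tt N1773 (iv F12354)) (tt N1772 (iv F12350)) (tt N1340 F8806))
theorem Q1342 : ∀ i, i < 1342 → P i := stepQ 1341 Q1341 (allL N1341 (tt N1010 F8826) (tt N1098 F8827) (tt N1341 F8828) (tt N1341 F8829) (tt N1341 F8830) (tt N1755 (iv F12266)) (tt N1341 F8831) (tt N1341 F8832) (tt N1775 D2509) (tt N1009 (iv D1755)))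
theorem Q1343 : ∀ i, i < 1343 → P i := stepQ 1342 Q1342 (allL N1342 (tt N1775 (iv F12391)) (tt N1011 F8833) (tt N1342 F8834) (tt N1342 F8835) (tt N1342 F8836) (tt N1776 D2510) (tt N1342 F8837) (tt N1342 F8838) (tt N1010 (iv D1756)) (tt N1342 F8839))
theorem Q1344 : ∀ i, i < 1344 → P i := stepQ 1343 Q1343 (allL N1343 (tt N1100 F8840) (tt N1776 (iv F12399)) (tt N1012 F8841) (tt N1343 F8842) (tt N1777 D2511) (tt N1011 (iv D1757)) (tt N1778 D2512) (tt N1343 F8843) (tt N1761 (iv F12296)) (tt N1343 F8844))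
theorem Q1345 : ∀ i, i < 1345 → P i := stepQ 1344 Q1344 (allL N1344 (tt N1101 F8845) (tt N1344 F8846) (tt N1777 (iv F12405)) (tt N1344 F8847) (tt N1012 (iv D1758)) (tt N1344 F8848) (tt N1779 D2513) (tt N1344 F8849) (tt N1764 (iv F12310)) (tt N1344 F8850))
theorem Q1346 : ∀ i, i < 1346 → P i := stepQ 1345 Q1345 (allL N1345 (tt N1102 F8851) (tt N1345 F8852) (tt N1778 (iv F12410)) (tt N1013 F8853) (tt N1779 (iv F12417)) (tt N1345 F8854) (tt N1012 (iv D1759)) (tt N1780 D2514) (tt N1765 (iv F12314)) (tt N1345 F8855))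
theorem Q1347 : ∀ i, i < 1347 → P i := stepQ 1346 Q1346 (allL N1346 (tt N1103 F8856) (tt N1346 F8857) (tt N1346 F8858) (tt N1780 (iv F12421)) (tt N1346 F8859) (tt N1346 F8860) (tt N1346 F8861) (tt N1013 (iv D1760)) (tt N1769 (iv F12335)) (tt N1346 F8862))
theorem Q1348 : ∀ i, i < 1348 → P i := stepQ 1347 Q1347 (allL N1347 (tt N1658 (iv F11430)) (tt N1347 F8863) (tt N1347 F8864) (tt N1781 D2515) (tt N1014 (iv D1761)) (tt N1347 F8865) (tt N1782 D2516) (tt N1347 F8866) (tt N1347 F8867) (tt N1783 D2517))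
theorem Q1349 : ∀ i, i < 1349 → P i := stepQ 1348 Q1348 (allL N1348 (tt N1659 (iv F11435)) (tt N1348 F8868) (tt N1348 F8869) (tt N1017 F8870) (tt N1782 (iv F12432)) (tt N1348 F8871) (tt N1014 (iv D1762)) (tt N1784 D2518) (tt N1348 F8872) (tt N1785 D2519))
theorem Q1350 : ∀ i, i < 1350 → P i := stepQ 1349 Q1349 (allL N1349 (tt N1660 (iv F11440)) (tt N1349 F8873) (tt N1349 F8874) (tt N1018 F8875) (tt N1783 (iv F12436)) (tt N1015 F8876) (tt N1785 (iv F12449)) (tt N1349 F8877) (tt N1786 D2520) (tt N1014 (iv D1763)))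
theorem Q1351 : ∀ i, i < 1351 → P i := stepQ 1350 Q1350 (allL N1350 (tt N1661 (iv F11445)) (tt N1350 F8878) (tt N1787 D2521) (tt N1016 (iv D1764)) (tt N1781 (iv F12426)) (tt N1019 F8879) (tt N1788 D2522) (tt N1350 F8880) (tt N1350 F8881) (tt N1789 D2523))
theorem Q1352 : ∀ i, i < 1352 → P i := stepQ 1351 Q1351 (allL N1351 (tt N1662 (iv F11449)) (tt N1351 F8882) (tt N1032 F8883) (tt N1788 (iv F12461)) (tt N1017 F8884) (tt N1790 D2524) (tt N1016 (iv D1765)) (tt N1791 D2525) (tt N1351 F8885) (tt N1792 D2526))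
theorem Q1353 : ∀ i, i < 1353 → P i := stepQ 1352 Q1352 (allL N1352 (tt N1663 (iv F11453)) (tt N1352 F8886) (tt N1033 F8887) (tt N1789 (iv F12464)) (tt N1018 F8888) (tt N1021 F8889) (tt N1792 (iv F12479)) (tt N1352 F8890) (tt N1793 D2527) (tt N1016 (iv D1766)))
theorem Q1354 : ∀ i, i < 1354 → P i := stepQ 1353 Q1353 (allL N1353 (tt N1664 (iv F11458)) (tt N1353 F8891) (tt N1034 F8892) (tt N1784 (iv F12441)) (tt N1791 (iv F12473)) (tt N1353 F8893) (tt N1353 F8894) (tt N1017 (iv D1767)) (tt N1353 F8895) (tt N1794 D2528))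
theorem Q1355 : ∀ i, i < 1355 → P i := stepQ 1354 Q1354 (allL N1354 (tt N1665 (iv F11463)) (tt N1354 F8896) (tt N1035 F8897) (tt N1785 (iv F12447)) (tt N1792 (iv F12478)) (tt N1354 F8898) (tt N1018 F8899) (tt N1794 (iv F12489)) (tt N1795 D2529) (tt N1017 (iv D1768)))
theorem Q1356 : ∀ i, i < 1356 → P i := stepQ 1355 Q1355 (allL N1355 (tt N1666 (iv F11467)) (tt N1355 F8900) (tt N1036 F8901) (tt N1786 (iv F12452)) (tt N1793 (iv F12482)) (tt N1355 F8902) (tt N1795 (iv F12492)) (tt N1355 F8903) (tt N1018 (iv D1769)) (tt N1355 F8904))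
theorem Q1357 : ∀ i, i < 1357 → P i := stepQ 1356 Q1356 (allL N1356 (tt N1667 (iv F11472)) (tt N1796 D2530) (tt N1019 (iv D1770)) (tt N1037 F8905) (tt N1356 F8906) (tt N1787 (iv F12457)) (tt N1797 D2531) (tt N1356 F8907) (tt N1024 F8908) (tt N1798 D2532))
theorem Q1358 : ∀ i, i < 1358 → P i := stepQ 1357 Q1357 (allL N1357 (tt N1668 (iv F11477)) (tt N1357 F8909) (tt N1797 (iv F12499)) (tt N1020 F8910) (tt N1357 F8911) (tt N1799 D2533) (tt N1019 (iv D1771)) (tt N1714 F20101) (tt N1025 F8912) (tt N1800 D2535))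
theorem Q1359 : ∀ i, i < 1359 → P i := stepQ 1358 Q1358 (allL N1358 (tt N1669 (iv F11481)) (tt N1358 F8913) (tt N1798 (iv F12503)) (tt N1021 F8914) (tt N1358 F8915) (tt N1789 (iv F12465)) (tt N1800 (iv F12517)) (tt N1358 F8916) (tt N1801 D2536) (tt N1019 (iv D1772)))
theorem Q1360 : ∀ i, i < 1360 → P i := stepQ 1359 Q1359 (allL N1359 (tt N1670 (iv F11485)) (tt N1359 F8917) (tt N1040 F8918) (tt N1799 (iv F12508)) (tt N1359 F8919) (tt N1020 (iv D1773)) (tt N1790 (iv F12470)) (tt N1700 F20102) (tt N1699 F20103) (tt N1802 D2539))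
theorem Q1361 : ∀ i, i < 1361 → P i := stepQ 1360 Q1360 (allL N1360 (tt N1671 (iv F11493)) (tt N1360 F8925) (tt N1042 F8926) (tt N1800 (iv F12515)) (tt N1022 F8927) (tt N1802 (iv F12534)) (tt N1021 F8928) (tt N1719 F20104) (tt N1803 D2541) (tt N1020 (iv D1775)))
theorem Q1362 : ∀ i, i < 1362 → P i := stepQ 1361 Q1361 (allL N1361 (tt N1672 (iv F11497)) (tt N1361 F8929) (tt N1043 F8930) (tt N1801 (iv F12519)) (tt N1023 F8931) (tt N1804 D2542) (tt N1803 (iv F12543)) (tt N1361 F8932) (tt N1021 (iv D1776)) (tt N1028 F8933))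
theorem Q1363 : ∀ i, i < 1363 → P i := stepQ 1362 Q1362 (allL N1362 (tt N1673 (iv F11508)) (tt N1362 F8940) (tt N1045 F8941) (tt N1362 F8942) (tt N1803 (iv F12542)) (tt N1805 D2544) (tt N1023 F8943) (tt N1726 (iv F20243)) (tt N1022 (iv D1778)) (tt N1029 F8944))
theorem Q1364 : ∀ i, i < 1364 → P i := stepQ 1363 Q1363 (allL N1363 (tt N1806 D2545) (tt N1024 (iv D1779)) (tt N1363 F8945) (tt N1046 F8946) (tt N1363 F8947) (tt N1363 F8948) (tt N1807 D2546) (tt N1363 F8949) (tt N1796 (iv F12498)) (tt N1808 D2547))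
theorem Q1365 : ∀ i, i < 1365 → P i := stepQ 1364 Q1364 (allL N1364 (tt N1675 (iv F11517)) (tt N1807 (iv F12567)) (tt N1025 F8950) (tt N1047 F8951) (tt N1364 F8952) (tt N1711 F20113) (tt N1024 (iv D1780)) (tt N1710 F20114) (tt N1797 (iv F12502)) (tt N1809 D2550))
theorem Q1366 : ∀ i, i < 1366 → P i := stepQ 1365 Q1365 (allL N1365 (tt N1676 (iv F11521)) (tt N1808 (iv F12571)) (tt N1026 F8953) (tt N1048 F8954) (tt N1365 F8955) (tt N1365 F8956) (tt N1809 (iv F12587)) (tt N1365 F8957) (tt N1810 D2551) (tt N1024 (iv D1781)))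
theorem Q1367 : ∀ i, i < 1367 → P i := stepQ 1366 Q1366 (allL N1366 (tt N1677 (iv F11534)) (tt N1366 F8965) (tt N1809 (iv F12584)) (tt N1027 F8966) (tt N1366 F8967) (tt N1716 F20115) (tt N1026 F8968) (tt N1715 F20116) (tt N1811 D2557) (tt N1025 (iv D1784)))
theorem Q1368 : ∀ i, i < 1368 → P i := stepQ 1367 Q1367 (allL N1367 (tt N1678 (iv F11538)) (tt N1367 F8969) (tt N1810 (iv F12588)) (tt N1028 F8970) (tt N1367 F8971) (tt N1812 D2558) (tt N1811 (iv F12614)) (tt N1367 F8972) (tt N1026 (iv D1785)) (tt N1801 (iv F12522)))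
theorem Q1369 : ∀ i, i < 1369 → P i := stepQ 1368 Q1368 (allL N1368 (tt N1679 (iv F11560)) (tt N1368 F8991) (tt N1056 F8992) (tt N1811 (iv F12612)) (tt N1029 F8993) (tt N1813 D2565) (tt N1028 F8994) (tt N1720 F20117) (tt N1027 (iv D1790)) (tt N1803 (iv F12544)))
theorem Q1370 : ∀ i, i < 1370 → P i := stepQ 1369 Q1369 (allL N1369 (tt N1680 (iv F11564)) (tt N1369 F8995) (tt N1057 F8996) (tt N1812 (iv F12616)) (tt N1369 F8997) (tt N1028 (iv D1791)) (tt N1814 D2566) (tt N1369 F8998) (tt N1369 F8999) (tt N1804 (iv F12549)))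
theorem Q1371 : ∀ i, i < 1371 → P i := stepQ 1370 Q1370 (allL N1370 (tt N1681 (iv F11574)) (tt N1370 F9005) (tt N1059 F9006) (tt N1370 F9007) (tt N1815 D2568) (tt N1029 (iv D1793)) (tt N1370 F9008) (tt N1727 (iv F20247)) (tt N1030 F9009) (tt N1805 (iv F12561)))
theorem Q1372 : ∀ i, i < 1372 → P i := stepQ 1371 Q1371 (allL N1371 (tt N1682 (iv F11653)) (tt N1371 F9084) (tt N1065 F9085) (tt N1816 D2593) (tt N1030 (iv D1810)) (tt N1730 F20269) (tt N1371 F9086) (tt N1728 F20270) (tt N1815 (iv F12660)) (tt N1371 F9087))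
theorem Q1373 : ∀ i, i < 1373 → P i := stepQ 1372 Q1372 (allL N1372 (tt N1683 (iv F11777)) (tt N1817 D2627) (tt N1031 (iv D1836)) (tt N1787 (iv F12456)) (tt N1372 F9208) (tt N1037 F9209) (tt N1818 D2628) (tt N1372 F9210) (tt N1372 F9211) (tt N1819 D2629))
theorem Q1374 : ∀ i, i < 1374 → P i := stepQ 1373 Q1373 (allL N1373 (tt N1684 (iv F11782)) (tt N1105 F9212) (tt N1818 (iv F12936)) (tt N1032 F9213) (tt N1373 F9214) (tt N1820 D2630) (tt N1031 (iv D1837)) (tt N1821 D2631) (tt N1373 F9215) (tt N1822 D2632))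
theorem Q1375 : ∀ i, i < 1375 → P i := stepQ 1374 Q1374 (allL N1374 (tt N1685 (iv F11787)) (tt N1106 F9216) (tt N1819 (iv F12939)) (tt N1033 F9217) (tt N1374 F9218) (tt N1039 F9219) (tt N1822 (iv F12954)) (tt N1374 F9220) (tt N1823 D2633) (tt N1031 (iv D1838)))
theorem Q1376 : ∀ i, i < 1376 → P i := stepQ 1375 Q1375 (allL N1375 (tt N1686 (iv F11793)) (tt N1107 F9221) (tt N1790 (iv F12468)) (tt N1820 (iv F12944)) (tt N1375 F9222) (tt N1032 (iv D1839)) (tt N1040 F9223) (tt N1824 D2634) (tt N1825 D2635) (tt N1826 D2636))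
theorem Q1377 : ∀ i, i < 1377 → P i := stepQ 1376 Q1376 (allL N1376 (tt N1687 (iv F11797)) (tt N1108 F9224) (tt N1791 (iv F12472)) (tt N1821 (iv F12947)) (tt N1034 F9225) (tt N1824 (iv F12962)) (tt N1376 F9226) (tt N1032 (iv D1840)) (tt N1376 F9227) (tt N1827 D2637))
theorem Q1378 : ∀ i, i < 1378 → P i := stepQ 1377 Q1377 (allL N1377 (tt N1688 (iv F11802)) (tt N1109 F9228) (tt N1792 (iv F12477)) (tt N1822 (iv F12952)) (tt N1035 F9229) (tt N1826 (iv F12969)) (tt N1033 F9230) (tt N1827 (iv F12974)) (tt N1828 D2638) (tt N1032 (iv D1841)))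
theorem Q1379 : ∀ i, i < 1379 → P i := stepQ 1378 Q1378 (allL N1378 (tt N1689 (iv F11806)) (tt N1110 F9231) (tt N1793 (iv F12481)) (tt N1823 (iv F12956)) (tt N1036 F9232) (tt N1829 D2639) (tt N1828 (iv F12977)) (tt N1378 F9233) (tt N1033 (iv D1842)) (tt N1378 F9234))
theorem Q1380 : ∀ i, i < 1380 → P i := stepQ 1379 Q1379 (allL N1379 (tt N1690 (iv F11811)) (tt N1111 F9235) (tt N1794 (iv F12486)) (tt N1379 F9236) (tt N1827 (iv F12972)) (tt N1379 F9237) (tt N1379 F9238) (tt N1035 F9239) (tt N1830 D2640) (tt N1034 (iv D1843)))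
theorem Q1381 : ∀ i, i < 1381 → P i := stepQ 1380 Q1380 (allL N1380 (tt N1691 (iv F11817)) (tt N1112 F9240) (tt N1795 (iv F12491)) (tt N1380 F9241) (tt N1828 (iv F12976)) (tt N1831 D2641) (tt N1036 F9242) (tt N1830 (iv F12987)) (tt N1035 (iv D1844)) (tt N1380 F9243))
theorem Q1382 : ∀ i, i < 1382 → P i := stepQ 1381 Q1381 (allL N1381 (tt N1832 D2642) (tt N1037 (iv D1845)) (tt N1113 F9244) (tt N1796 (iv F12495)) (tt N1067 F9245) (tt N1817 (iv F12933)) (tt N1833 D2643) (tt N1381 F9246) (tt N1046 F9247) (tt N1834 D2644))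
theorem Q1383 : ∀ i, i < 1383 → P i := stepQ 1382 Q1382 (allL N1382 (tt N1693 (iv F11826)) (tt N1833 (iv F12998)) (tt N1038 F9248) (tt N1797 (iv F12500)) (tt N1068 F9249) (tt N1835 D2645) (tt N1037 (iv D1846)) (tt N1836 D2646) (tt N1047 F9250) (tt N1837 D2647))
theorem Q1384 : ∀ i, i < 1384 → P i := stepQ 1383 Q1383 (allL N1383 (tt N1694 (iv F11830)) (tt N1834 (iv F13002)) (tt N1039 F9251) (tt N1798 (iv F12504)) (tt N1069 F9252) (tt N1819 (iv F12941)) (tt N1837 (iv F13013)) (tt N1383 F9253) (tt N1838 D2648) (tt N1037 (iv D1847)))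
theorem Q1385 : ∀ i, i < 1385 → P i := stepQ 1384 Q1384 (allL N1384 (tt N1695 (iv F11834)) (tt N1116 F9254) (tt N1835 (iv F13006)) (tt N1040 F9255) (tt N1839 D2649) (tt N1038 (iv D1848)) (tt N1820 (iv F12945)) (tt N1840 D2650) (tt N1841 D2651) (tt N1842 D2652))
theorem Q1386 : ∀ i, i < 1386 → P i := stepQ 1385 Q1385 (allL N1385 (tt N1696 (iv F11837)) (tt N1117 F9256) (tt N1836 (iv F13007)) (tt N1041 F9257) (tt N1071 F9258) (tt N1840 (iv F13023)) (tt N1385 F9259) (tt N1038 (iv D1849)) (tt N1050 F9260) (tt N1843 D2653))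
theorem Q1387 : ∀ i, i < 1387 → P i := stepQ 1386 Q1386 (allL N1386 (tt N1697 (iv F11843)) (tt N1118 F9261) (tt N1837 (iv F13011)) (tt N1042 F9262) (tt N1072 F9263) (tt N1842 (iv F13029)) (tt N1039 F9264) (tt N1843 (iv F13034)) (tt N1844 D2654) (tt N1038 (iv D1850)))
theorem Q1388 : ∀ i, i < 1388 → P i := stepQ 1387 Q1387 (allL N1387 (tt N1698 (iv F11848)) (tt N1119 F9265) (tt N1838 (iv F13014)) (tt N1043 F9266) (tt N1073 F9267) (tt N1845 D2655) (tt N1844 (iv F13038)) (tt N1387 F9268) (tt N1039 (iv D1851)) (tt N1052 F9269))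
theorem Q1389 : ∀ i, i < 1389 → P i := stepQ 1388 Q1388 (allL N1388 (tt N1699 (iv F11854)) (tt N1120 F9270) (tt N1700 F20141) (tt N1840 (iv F13022)) (tt N1388 F9271) (tt N1041 F9272) (tt N1846 D2656) (tt N1040 (iv D1852)) (tt N1670 F20142) (tt N1847 D2658))
theorem Q1390 : ∀ i, i < 1390 → P i := stepQ 1389 Q1389 (allL N1389 (tt N1700 (iv F11858)) (tt N1121 F9273) (tt N1699 F20135) (tt N1841 (iv F13025)) (tt N1389 F9274) (tt N1053 F9275) (tt N1825 (iv F12966)) (tt N1670 F20136) (tt N1040 (iv D1853)) (tt N1848 D2659))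
theorem Q1391 : ∀ i, i < 1391 → P i := stepQ 1390 Q1390 (allL N1390 (tt N1701 (iv F11862)) (tt N1122 F9276) (tt N1802 (iv F12532)) (tt N1842 (iv F13028)) (tt N1390 F9277) (tt N1042 F9278) (tt N1826 (iv F12970)) (tt N1847 (iv F13054)) (tt N1849 D2660) (tt N1040 (iv D1854)))
theorem Q1392 : ∀ i, i < 1392 → P i := stepQ 1391 Q1391 (allL N1391 (tt N1702 (iv F11866)) (tt N1123 F9279) (tt N1719 F20143) (tt N1843 (iv F13031)) (tt N1044 F9280) (tt N1847 (iv F13053)) (tt N1391 F9281) (tt N1042 F9282) (tt N1850 D2661) (tt N1041 (iv D1855)))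
theorem Q1393 : ∀ i, i < 1393 → P i := stepQ 1392 Q1392 (allL N1392 (tt N1703 (iv F11871)) (tt N1124 F9283) (tt N1803 (iv F12541)) (tt N1844 (iv F13036)) (tt N1045 F9284) (tt N1851 D2662) (tt N1043 F9285) (tt N1850 (iv F13063)) (tt N1042 (iv D1856)) (tt N1056 F9286))
theorem Q1394 : ∀ i, i < 1394 → P i := stepQ 1393 Q1393 (allL N1393 (tt N1704 (iv F11876)) (tt N1125 F9287) (tt N1804 (iv F12546)) (tt N1845 (iv F13041)) (tt N1393 F9288) (tt N1043 (iv D1857)) (tt N1852 D2663) (tt N1393 F9289) (tt N1829 (iv F12982)) (tt N1057 F9290))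
theorem Q1395 : ∀ i, i < 1395 → P i := stepQ 1394 Q1394 (allL N1394 (tt N1705 (iv F11881)) (tt N1126 F9291) (tt N1726 (iv F20242)) (tt N1079 F9292) (tt N1850 (iv F13061)) (tt N1853 D2664) (tt N1394 F9293) (tt N1045 F9294) (tt N1044 (iv D1858)) (tt N1058 F9295))
theorem Q1396 : ∀ i, i < 1396 → P i := stepQ 1395 Q1395 (allL N1395 (tt N1706 (iv F11887)) (tt N1127 F9296) (tt N1805 (iv F12557)) (tt N1080 F9297) (tt N1854 D2665) (tt N1045 (iv D1859)) (tt N1395 F9298) (tt N1853 (iv F13072)) (tt N1395 F9299) (tt N1059 F9300))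
theorem Q1397 : ∀ i, i < 1397 → P i := stepQ 1396 Q1396 (allL N1396 (tt N1046 (iv D1860)) (tt N1707 (iv F11893)) (tt N1128 F9301) (tt N1806 (iv F12563)) (tt N1081 F9302) (tt N1396 F9303) (tt N1855 D2666) (tt N1396 F9304) (tt N1832 (iv F12997)) (tt N1856 D2667))
theorem Q1398 : ∀ i, i < 1398 → P i := stepQ 1397 Q1397 (allL N1397 (tt N1855 (iv F13079)) (tt N1047 F9305) (tt N1129 F9306) (tt N1807 (iv F12569)) (tt N1082 F9307) (tt N1857 D2668) (tt N1046 (iv D1861)) (tt N1858 D2669) (tt N1833 (iv F13001)) (tt N1859 D2670))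
theorem Q1399 : ∀ i, i < 1399 → P i := stepQ 1398 Q1398 (allL N1398 (tt N1856 (iv F13082)) (tt N1048 F9308) (tt N1130 F9309) (tt N1808 (iv F12573)) (tt N1083 F9310) (tt N1398 F9311) (tt N1859 (iv F13098)) (tt N1398 F9312) (tt N1860 D2671) (tt N1046 (iv D1862)))
theorem Q1400 : ∀ i, i < 1400 → P i := stepQ 1399 Q1399 (allL N1399 (tt N1710 (iv F11906)) (tt N1857 (iv F13087)) (tt N1049 F9313) (tt N1711 F20128) (tt N1399 F9314) (tt N1047 (iv D1863)) (tt N1399 F9315) (tt N1675 F20129) (tt N1861 D2673) (tt N1862 D2674))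
theorem Q1401 : ∀ i, i < 1401 → P i := stepQ 1400 Q1400 (allL N1400 (tt N1711 (iv F11910)) (tt N1858 (iv F13091)) (tt N1050 F9316) (tt N1710 F20132) (tt N1084 F9317) (tt N1675 F20133) (tt N1400 F9318) (tt N1047 (iv D1864)) (tt N1836 (iv F13010)) (tt N1863 D2675))
theorem Q1402 : ∀ i, i < 1402 → P i := stepQ 1401 Q1401 (allL N1401 (tt N1712 (iv F11914)) (tt N1859 (iv F13095)) (tt N1051 F9319) (tt N1809 (iv F12585)) (tt N1085 F9320) (tt N1862 (iv F13111)) (tt N1048 F9321) (tt N1863 (iv F13116)) (tt N1864 D2676) (tt N1047 (iv D1865)))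
theorem Q1403 : ∀ i, i < 1403 → P i := stepQ 1402 Q1402 (allL N1402 (tt N1713 (iv F11918)) (tt N1860 (iv F13099)) (tt N1052 F9322) (tt N1810 (iv F12589)) (tt N1086 F9323) (tt N1865 D2677) (tt N1864 (iv F13119)) (tt N1402 F9324) (tt N1048 (iv D1866)) (tt N1838 (iv F13017)))
theorem Q1404 : ∀ i, i < 1404 → P i := stepQ 1403 Q1403 (allL N1403 (tt N1714 (iv F11927)) (tt N1136 F9329) (tt N1861 (iv F13106)) (tt N1053 F9330) (tt N1403 F9331) (tt N1841 (iv F13026)) (tt N1403 F9332) (tt N1668 F20130) (tt N1049 (iv D1868)) (tt N1866 D2681))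
theorem Q1405 : ∀ i, i < 1405 → P i := stepQ 1404 Q1404 (allL N1404 (tt N1715 (iv F11932)) (tt N1137 F9333) (tt N1862 (iv F13109)) (tt N1054 F9334) (tt N1404 F9335) (tt N1051 F9336) (tt N1404 F9337) (tt N1677 F20131) (tt N1867 D2682) (tt N1049 (iv D1869)))
theorem Q1406 : ∀ i, i < 1406 → P i := stepQ 1405 Q1405 (allL N1405 (tt N1716 (iv F11938)) (tt N1138 F9338) (tt N1863 (iv F13113)) (tt N1055 F9339) (tt N1087 F9340) (tt N1677 F20134) (tt N1405 F9341) (tt N1051 F9342) (tt N1868 D2683) (tt N1050 (iv D1870)))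
theorem Q1407 : ∀ i, i < 1407 → P i := stepQ 1406 Q1406 (allL N1406 (tt N1717 (iv F11944)) (tt N1139 F9343) (tt N1864 (iv F13117)) (tt N1056 F9344) (tt N1088 F9345) (tt N1869 D2684) (tt N1052 F9346) (tt N1868 (iv F13149)) (tt N1051 (iv D1871)) (tt N1844 (iv F13039)))
theorem Q1408 : ∀ i, i < 1408 → P i := stepQ 1407 Q1407 (allL N1407 (tt N1718 (iv F11949)) (tt N1140 F9347) (tt N1865 (iv F13120)) (tt N1057 F9348) (tt N1870 D2685) (tt N1052 (iv D1872)) (tt N1871 D2686) (tt N1407 F9349) (tt N1407 F9350) (tt N1845 (iv F13043)))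
theorem Q1409 : ∀ i, i < 1409 → P i := stepQ 1408 Q1408 (allL N1408 (tt N1719 (iv F11968)) (tt N1143 F9362) (tt N1702 F20137) (tt N1866 (iv F13138)) (tt N1060 F9363) (tt N1848 (iv F13057)) (tt N1408 F9364) (tt N1671 F20138) (tt N1872 D2691) (tt N1053 (iv D1876)))
theorem Q1410 : ∀ i, i < 1410 → P i := stepQ 1409 Q1409 (allL N1409 (tt N1720 (iv F11972)) (tt N1144 F9365) (tt N1721 F20139) (tt N1867 (iv F13142)) (tt N1061 F9366) (tt N1873 D2692) (tt N1409 F9367) (tt N1679 F20140) (tt N1054 (iv D1877)) (tt N1872 (iv F13178)))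
theorem Q1411 : ∀ i, i < 1411 → P i := stepQ 1410 Q1410 (allL N1410 (tt N1721 (iv F11976)) (tt N1145 F9368) (tt N1720 F20144) (tt N1868 (iv F13146)) (tt N1058 F9369) (tt N1874 D2693) (tt N1410 F9370) (tt N1056 F9371) (tt N1055 (iv D1878)) (tt N1850 (iv F13064)))
theorem Q1412 : ∀ i, i < 1412 → P i := stepQ 1411 Q1411 (allL N1411 (tt N1722 (iv F11981)) (tt N1146 F9372) (tt N1813 (iv F12647)) (tt N1869 (iv F13151)) (tt N1875 D2694) (tt N1056 (iv D1879)) (tt N1876 D2695) (tt N1874 (iv F13182)) (tt N1873 (iv F13180)) (tt N1851 (iv F13066)))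
theorem Q1413 : ∀ i, i < 1413 → P i := stepQ 1412 Q1412 (allL N1412 (tt N1723 (iv F11983)) (tt N1147 F9373) (tt N1814 (iv F12649)) (tt N1871 (iv F13158)) (tt N1412 F9374) (tt N1876 (iv F13186)) (tt N1057 (iv D1880)) (tt N1877 D2696) (tt N1412 F9375) (tt N1852 (iv F13069)))
theorem Q1414 : ∀ i, i < 1414 → P i := stepQ 1413 Q1413 (allL N1413 (tt N1724 (iv F11987)) (tt N1148 F9376) (tt N1727 (iv F20246)) (tt N1093 F9377) (tt N1878 D2697) (tt N1058 (iv D1881)) (tt N1879 D2698) (tt N1059 F9378) (tt N1064 F9379) (tt N1853 (iv F13074)))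
theorem Q1415 : ∀ i, i < 1415 → P i := stepQ 1414 Q1414 (allL N1414 (tt N1725 (iv F11992)) (tt N1149 F9380) (tt N1815 (iv F12658)) (tt N1880 D2699) (tt N1059 (iv D1882)) (tt N1875 (iv F13184)) (tt N1414 F9381) (tt N1878 (iv F13192)) (tt N1065 F9382) (tt N1854 (iv F13078)))
theorem Q1416 : ∀ i, i < 1416 → P i := stepQ 1415 Q1415 (allL N1415 (tt N1726 (iv F12016)) (tt N1152 F9399) (tt N1705 F20192) (tt N1415 F9400) (tt N1872 (iv F13176)) (tt N1881 D2705) (tt N1415 F9401) (tt N1673 F20193) (tt N1060 (iv D1887)) (tt N1061 F9402))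
theorem Q1417 : ∀ i, i < 1417 → P i := stepQ 1416 Q1416 (allL N1416 (tt N1727 (iv F12021)) (tt N1153 F9403) (tt N1724 F20207) (tt N1416 F9404) (tt N1882 D2706) (tt N1061 (iv D1888)) (tt N1883 D2707) (tt N1681 F20208) (tt N1062 F9405) (tt N1881 (iv F13227)))
theorem Q1418 : ∀ i, i < 1418 → P i := stepQ 1417 Q1417 (allL N1417 (tt N1728 (iv F12030)) (tt N1155 F9410) (tt N1730 F20277) (tt N1884 D2710) (tt N1062 (iv D1890)) (tt N1065 F9411) (tt N1885 D2711) (tt N1682 F20278) (tt N1882 (iv F13229)) (tt N1417 F9412))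
theorem Q1419 : ∀ i, i < 1419 → P i := stepQ 1418 Q1418 (allL N1418 (tt N1729 (iv F12034)) (tt N1156 F9413) (tt N1731 F20279) (tt N1418 F9414) (tt N1885 (iv F13247)) (tt N1063 F9415) (tt N1062 (iv D1891)) (tt N1418 F20310) (tt N1883 (iv F13233)) (tt N1418 F9416))
theorem Q1420 : ∀ i, i < 1420 → P i := stepQ 1419 Q1419 (allL N1419 (tt N1730 (iv F12046)) (tt N1157 F9423) (tt N1728 F20281) (tt N1886 D2713) (tt N1064 (iv D1893)) (tt N1682 F20282) (tt N1887 D2714) (tt N1065 F9424) (tt N1878 (iv F13193)) (tt N1419 F9425))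
theorem Q1421 : ∀ i, i < 1421 → P i := stepQ 1420 Q1420 (allL N1420 (tt N1731 (iv F12050)) (tt N1158 F9426) (tt N1729 F20283) (tt N1096 F9427) (tt N1887 (iv F13259)) (tt N1066 F9428) (tt N1064 (iv D1894)) (tt N1420 F9429) (tt N1879 (iv F13198)) (tt N1420 F9430))
theorem Q1422 : ∀ i, i < 1422 → P i := stepQ 1421 Q1421 (allL N1421 (tt N1732 (iv F12056)) (tt N1159 F9431) (tt N1888 D2715) (tt N1065 (iv D1895)) (tt N1097 F9432) (tt N1884 (iv F13244)) (tt N1421 F9433) (tt N1886 (iv F13256)) (tt N1880 (iv F13202)) (tt N1421 F9434))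
theorem Q1423 : ∀ i, i < 1423 → P i := stepQ 1422 Q1422 (allL N1422 (tt N1067 (iv D1912)) (tt N1733 (iv F12144)) (tt N1160 F9502) (tt N1422 F9503) (tt N1832 (iv F12995)) (tt N1422 F9504) (tt N1889 D2738) (tt N1422 F9505) (tt N1081 F9506) (tt N1890 D2739))
theorem Q1424 : ∀ i, i < 1424 → P i := stepQ 1423 Q1423 (allL N1423 (tt N1889 (iv F13357)) (tt N1068 F9507) (tt N1161 F9508) (tt N1423 F9509) (tt N1833 (iv F13000)) (tt N1891 D2740) (tt N1067 (iv D1913)) (tt N1892 D2741) (tt N1082 F9510) (tt N1893 D2742))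
theorem Q1425 : ∀ i, i < 1425 → P i := stepQ 1424 Q1424 (allL N1424 (tt N1890 (iv F13361)) (tt N1069 F9511) (tt N1162 F9512) (tt N1424 F9513) (tt N1834 (iv F13004)) (tt N1424 F9514) (tt N1893 (iv F13379)) (tt N1424 F9515) (tt N1894 D2743) (tt N1067 (iv D1914)))
theorem Q1426 : ∀ i, i < 1426 → P i := stepQ 1425 Q1425 (allL N1425 (tt N1736 (iv F12159)) (tt N1891 (iv F13366)) (tt N1070 F9516) (tt N1425 F9517) (tt N1895 D2744) (tt N1068 (iv D1915)) (tt N1425 F9518) (tt N1896 D2745) (tt N1425 F9519) (tt N1897 D2746))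
theorem Q1427 : ∀ i, i < 1427 → P i := stepQ 1426 Q1426 (allL N1426 (tt N1737 (iv F12164)) (tt N1892 (iv F13371)) (tt N1071 F9520) (tt N1426 F9521) (tt N1836 (iv F13008)) (tt N1896 (iv F13390)) (tt N1426 F9522) (tt N1068 (iv D1916)) (tt N1084 F9523) (tt N1898 D2747))
theorem Q1428 : ∀ i, i < 1428 → P i := stepQ 1427 Q1427 (allL N1427 (tt N1738 (iv F12169)) (tt N1893 (iv F13376)) (tt N1072 F9524) (tt N1427 F9525) (tt N1837 (iv F13012)) (tt N1897 (iv F13394)) (tt N1069 F9526) (tt N1898 (iv F13399)) (tt N1899 D2748) (tt N1068 (iv D1917)))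
theorem Q1429 : ∀ i, i < 1429 → P i := stepQ 1428 Q1428 (allL N1428 (tt N1739 (iv F12173)) (tt N1894 (iv F13380)) (tt N1073 F9527) (tt N1428 F9528) (tt N1838 (iv F13015)) (tt N1900 D2749) (tt N1899 (iv F13402)) (tt N1428 F9529) (tt N1069 (iv D1918)) (tt N1086 F9530))
theorem Q1430 : ∀ i, i < 1430 → P i := stepQ 1429 Q1429 (allL N1429 (tt N1740 (iv F12178)) (tt N1167 F9531) (tt N1895 (iv F13385)) (tt N1429 F9532) (tt N1070 (iv D1919)) (tt N1839 (iv F13020)) (tt N1429 F9533) (tt N1901 D2750) (tt N1429 F9534) (tt N1902 D2751))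
theorem Q1431 : ∀ i, i < 1431 → P i := stepQ 1430 Q1430 (allL N1430 (tt N1741 (iv F12183)) (tt N1168 F9535) (tt N1896 (iv F13388)) (tt N1074 F9536) (tt N1901 (iv F13411)) (tt N1071 F9537) (tt N1903 D2752) (tt N1070 (iv D1920)) (tt N1430 F9538) (tt N1904 D2753))
theorem Q1432 : ∀ i, i < 1432 → P i := stepQ 1431 Q1431 (allL N1431 (tt N1742 (iv F12188)) (tt N1169 F9539) (tt N1897 (iv F13392)) (tt N1075 F9540) (tt N1902 (iv F13415)) (tt N1072 F9541) (tt N1431 F9542) (tt N1904 (iv F13425)) (tt N1905 D2754) (tt N1070 (iv D1921)))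
theorem Q1433 : ∀ i, i < 1433 → P i := stepQ 1432 Q1432 (allL N1432 (tt N1743 (iv F12193)) (tt N1170 F9543) (tt N1898 (iv F13396)) (tt N1076 F9544) (tt N1843 (iv F13032)) (tt N1904 (iv F13424)) (tt N1432 F9545) (tt N1072 F9546) (tt N1906 D2755) (tt N1071 (iv D1922)))
theorem Q1434 : ∀ i, i < 1434 → P i := stepQ 1433 Q1433 (allL N1433 (tt N1744 (iv F12198)) (tt N1171 F9547) (tt N1899 (iv F13400)) (tt N1077 F9548) (tt N1844 (iv F13037)) (tt N1907 D2756) (tt N1073 F9549) (tt N1906 (iv F13433)) (tt N1072 (iv D1923)) (tt N1088 F9550))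
theorem Q1435 : ∀ i, i < 1435 → P i := stepQ 1434 Q1434 (allL N1434 (tt N1745 (iv F12203)) (tt N1172 F9551) (tt N1900 (iv F13404)) (tt N1078 F9552) (tt N1908 D2757) (tt N1073 (iv D1924)) (tt N1909 D2758) (tt N1434 F9553) (tt N1434 F9554) (tt N1089 F9555))
theorem Q1436 : ∀ i, i < 1436 → P i := stepQ 1435 Q1435 (allL N1435 (tt N1746 (iv F12209)) (tt N1173 F9556) (tt N1435 F9557) (tt N1903 (iv F13418)) (tt N1435 F9558) (tt N1435 F9559) (tt N1074 (iv D1925)) (tt N1435 F9560) (tt N1435 F9561) (tt N1910 D2759))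
theorem Q1437 : ∀ i, i < 1437 → P i := stepQ 1436 Q1436 (allL N1436 (tt N1747 (iv F12216)) (tt N1174 F9562) (tt N1436 F9563) (tt N1904 (iv F13423)) (tt N1436 F9564) (tt N1076 F9565) (tt N1910 (iv F13451)) (tt N1075 F9566) (tt N1911 D2760) (tt N1074 (iv D1926)))
theorem Q1438 : ∀ i, i < 1438 → P i := stepQ 1437 Q1437 (allL N1437 (tt N1748 (iv F12222)) (tt N1175 F9567) (tt N1437 F9568) (tt N1905 (iv F13427)) (tt N1437 F9569) (tt N1912 D2761) (tt N1437 F9570) (tt N1911 (iv F13456)) (tt N1075 (iv D1927)) (tt N1437 F9571))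
theorem Q1439 : ∀ i, i < 1439 → P i := stepQ 1438 Q1438 (allL N1438 (tt N1749 (iv F12228)) (tt N1176 F9572) (tt N1438 F9573) (tt N1906 (iv F13431)) (tt N1079 F9574) (tt N1913 D2762) (tt N1438 F9575) (tt N1077 F9576) (tt N1076 (iv D1928)) (tt N1090 F9577))
theorem Q1440 : ∀ i, i < 1440 → P i := stepQ 1439 Q1439 (allL N1439 (tt N1750 (iv F12235)) (tt N1177 F9578) (tt N1439 F9579) (tt N1907 (iv F13436)) (tt N1914 D2763) (tt N1077 (iv D1929)) (tt N1915 D2764) (tt N1913 (iv F13464)) (tt N1912 (iv F13460)) (tt N1091 F9580))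
theorem Q1441 : ∀ i, i < 1441 → P i := stepQ 1440 Q1440 (allL N1440 (tt N1751 (iv F12239)) (tt N1178 F9581) (tt N1440 F9582) (tt N1909 (iv F13444)) (tt N1440 F9583) (tt N1915 (iv F13472)) (tt N1078 (iv D1930)) (tt N1916 D2765) (tt N1440 F9584) (tt N1092 F9585))
theorem Q1442 : ∀ i, i < 1442 → P i := stepQ 1441 Q1441 (allL N1441 (tt N1752 (iv F12245)) (tt N1179 F9586) (tt N1441 F9587) (tt N1853 (iv F13071)) (tt N1917 D2766) (tt N1079 (iv D1931)) (tt N1918 D2767) (tt N1080 F9588) (tt N1441 F9589) (tt N1093 F9590))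
theorem Q1443 : ∀ i, i < 1443 → P i := stepQ 1442 Q1442 (allL N1442 (tt N1753 (iv F12251)) (tt N1180 F9591) (tt N1442 F9592) (tt N1919 D2768) (tt N1080 (iv D1932)) (tt N1914 (iv F13468)) (tt N1442 F9593) (tt N1917 (iv F13482)) (tt N1442 F9594) (tt N1094 F9595))
theorem Q1444 : ∀ i, i < 1444 → P i := stepQ 1443 Q1443 (allL N1443 (tt N1082 F9596) (tt N1754 (iv F12258)) (tt N1181 F9597) (tt N1443 F9598) (tt N1855 (iv F13081)) (tt N1443 F9599) (tt N1081 (iv D1933)) (tt N1920 D2769) (tt N1889 (iv F13360)) (tt N1921 D2770))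
theorem Q1445 : ∀ i, i < 1445 → P i := stepQ 1444 Q1444 (allL N1444 (tt N1083 F9600) (tt N1755 (iv F12263)) (tt N1182 F9601) (tt N1444 F9602) (tt N1856 (iv F13084)) (tt N1098 F9603) (tt N1921 (iv F13504)) (tt N1444 F9604) (tt N1922 D2771) (tt N1081 (iv D1934)))
theorem Q1446 : ∀ i, i < 1446 → P i := stepQ 1445 Q1445 (allL N1445 (tt N1920 (iv F13495)) (tt N1084 F9605) (tt N1183 F9606) (tt N1445 F9607) (tt N1858 (iv F13093)) (tt N1445 F9608) (tt N1445 F9609) (tt N1082 (iv D1935)) (tt N1892 (iv F13375)) (tt N1923 D2772))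
theorem Q1447 : ∀ i, i < 1447 → P i := stepQ 1446 Q1446 (allL N1446 (tt N1921 (iv F13500)) (tt N1085 F9610) (tt N1184 F9611) (tt N1446 F9612) (tt N1859 (iv F13097)) (tt N1446 F9613) (tt N1083 F9614) (tt N1923 (iv F13514)) (tt N1924 D2773) (tt N1082 (iv D1936)))
theorem Q1448 : ∀ i, i < 1448 → P i := stepQ 1447 Q1447 (allL N1447 (tt N1922 (iv F13505)) (tt N1086 F9615) (tt N1185 F9616) (tt N1447 F9617) (tt N1860 (iv F13101)) (tt N1925 D2774) (tt N1924 (iv F13518)) (tt N1447 F9618) (tt N1083 (iv D1937)) (tt N1894 (iv F13384)))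
theorem Q1449 : ∀ i, i < 1449 → P i := stepQ 1448 Q1448 (allL N1448 (tt N1759 (iv F12282)) (tt N1923 (iv F13509)) (tt N1087 F9619) (tt N1448 F9620) (tt N1863 (iv F13114)) (tt N1448 F9621) (tt N1448 F9622) (tt N1085 F9623) (tt N1926 D2775) (tt N1084 (iv D1938)))
theorem Q1450 : ∀ i, i < 1450 → P i := stepQ 1449 Q1449 (allL N1449 (tt N1760 (iv F12288)) (tt N1924 (iv F13515)) (tt N1088 F9624) (tt N1449 F9625) (tt N1864 (iv F13118)) (tt N1927 D2776) (tt N1086 F9626) (tt N1926 (iv F13527)) (tt N1085 (iv D1939)) (tt N1899 (iv F13403)))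
theorem Q1451 : ∀ i, i < 1451 → P i := stepQ 1450 Q1450 (allL N1450 (tt N1761 (iv F12292)) (tt N1925 (iv F13519)) (tt N1089 F9627) (tt N1450 F9628) (tt N1928 D2777) (tt N1086 (iv D1940)) (tt N1929 D2778) (tt N1450 F9629) (tt N1100 F9630) (tt N1900 (iv F13408)))
theorem Q1452 : ∀ i, i < 1452 → P i := stepQ 1451 Q1451 (allL N1451 (tt N1762 (iv F12297)) (tt N1189 F9631) (tt N1926 (iv F13524)) (tt N1090 F9632) (tt N1868 (iv F13147)) (tt N1930 D2779) (tt N1451 F9633) (tt N1088 F9634) (tt N1087 (iv D1941)) (tt N1906 (iv F13434)))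
theorem Q1453 : ∀ i, i < 1453 → P i := stepQ 1452 Q1452 (allL N1452 (tt N1763 (iv F12302)) (tt N1190 F9635) (tt N1927 (iv F13528)) (tt N1091 F9636) (tt N1931 D2780) (tt N1088 (iv D1942)) (tt N1932 D2781) (tt N1930 (iv F13539)) (tt N1452 F9637) (tt N1907 (iv F13437)))
theorem Q1454 : ∀ i, i < 1454 → P i := stepQ 1453 Q1453 (allL N1453 (tt N1764 (iv F12306)) (tt N1191 F9638) (tt N1928 (iv F13531)) (tt N1453 F9639) (tt N1089 (iv D1943)) (tt N1870 (iv F13154)) (tt N1933 D2782) (tt N1453 F9640) (tt N1101 F9641) (tt N1908 (iv F13442)))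
theorem Q1455 : ∀ i, i < 1455 → P i := stepQ 1454 Q1454 (allL N1454 (tt N1765 (iv F12311)) (tt N1192 F9642) (tt N1929 (iv F13534)) (tt N1092 F9643) (tt N1933 (iv F13549)) (tt N1932 (iv F13545)) (tt N1089 (iv D1944)) (tt N1934 D2783) (tt N1102 F9644) (tt N1909 (iv F13446)))
theorem Q1456 : ∀ i, i < 1456 → P i := stepQ 1455 Q1455 (allL N1455 (tt N1766 (iv F12315)) (tt N1193 F9645) (tt N1455 F9646) (tt N1930 (iv F13538)) (tt N1935 D2784) (tt N1090 (iv D1945)) (tt N1936 D2785) (tt N1091 F9647) (tt N1455 F9648) (tt N1913 (iv F13465)))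
theorem Q1457 : ∀ i, i < 1457 → P i := stepQ 1456 Q1456 (allL N1456 (tt N1767 (iv F12320)) (tt N1194 F9649) (tt N1456 F9650) (tt N1937 D2786) (tt N1091 (iv D1946)) (tt N1094 F9651) (tt N1938 D2787) (tt N1935 (iv F13558)) (tt N1456 F9652) (tt N1914 (iv F13469)))
theorem Q1458 : ∀ i, i < 1458 → P i := stepQ 1457 Q1457 (allL N1457 (tt N1768 (iv F12325)) (tt N1195 F9653) (tt N1457 F9654) (tt N1932 (iv F13544)) (tt N1938 (iv F13569)) (tt N1092 F9655) (tt N1091 (iv D1947)) (tt N1939 D2788) (tt N1457 F9656) (tt N1915 (iv F13473)))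
theorem Q1459 : ∀ i, i < 1459 → P i := stepQ 1458 Q1458 (allL N1458 (tt N1769 (iv F12330)) (tt N1196 F9657) (tt N1458 F9658) (tt N1934 (iv F13552)) (tt N1458 F9659) (tt N1939 (iv F13574)) (tt N1458 F9660) (tt N1092 (iv D1948)) (tt N1103 F9661) (tt N1916 (iv F13479)))
theorem Q1460 : ∀ i, i < 1460 → P i := stepQ 1459 Q1459 (allL N1459 (tt N1770 (iv F12336)) (tt N1197 F9662) (tt N1459 F9663) (tt N1940 D2789) (tt N1093 (iv D1949)) (tt N1935 (iv F13557)) (tt N1239 F131227) (tt N1094 F9664) (tt N1095 F9665) (tt N1917 (iv F13484)))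
theorem Q1461 : ∀ i, i < 1461 → P i := stepQ 1460 Q1460 (allL N1460 (tt N1771 (iv F12341)) (tt N1198 F9666) (tt N1460 F9667) (tt N1879 (iv F13195)) (tt N1239 F131228) (tt N1460 F9668) (tt N1093 (iv D1950)) (tt N1460 F9669) (tt N1096 F9670) (tt N1918 (iv F13490)))
theorem Q1462 : ∀ i, i < 1462 → P i := stepQ 1461 Q1461 (allL N1461 (tt N1772 (iv F12347)) (tt N1199 F9671) (tt N1941 D2791) (tt N1094 (iv D1951)) (tt N1880 (iv F13200)) (tt N1937 (iv F13565)) (tt N1461 F9672) (tt N1940 (iv F13577)) (tt N1097 F9673) (tt N1919 (iv F13494)))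
theorem Q1463 : ∀ i, i < 1463 → P i := stepQ 1462 Q1462 (allL N1462 (tt N1773 (iv F12351)) (tt N1200 F9674) (tt N1942 D2792) (tt N1095 (iv D1952)) (tt N1886 (iv F13255)) (tt N1462 F9675) (tt N1203 F130751) (tt N1097 F9676) (tt N1940 (iv F13578)) (tt N1462 F9677))
theorem Q1464 : ∀ i, i < 1464 → P i := stepQ 1463 Q1463 (allL N1463 (tt N1774 (iv F12362)) (tt N1943 D2795) (tt N1097 (iv D1954)) (tt N1463 F9683) (tt N1888 (iv F13262)) (tt N1463 F9684) (tt N1463 F9685) (tt N1942 (iv F13589)) (tt N1941 (iv F13586)) (tt N1463 F9686))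
theorem Q1465 : ∀ i, i < 1465 → P i := stepQ 1464 Q1464 (allL N1464 (tt N1099 F9708) (tt N1775 (iv F12392)) (tt N1202 F9709) (tt N1464 F9710) (tt N1464 F9711) (tt N1944 D2801) (tt N1464 F9712) (tt N1464 F9713) (tt N1098 (iv D1959)) (tt N1464 F9714))
theorem Q1466 : ∀ i, i < 1466 → P i := stepQ 1465 Q1465 (allL N1465 (tt N1944 (iv F13633)) (tt N1100 F9715) (tt N1203 F9716) (tt N1465 F9717) (tt N1945 D2802) (tt N1099 (iv D1960)) (tt N1942 F130834) (tt N1465 F9718) (tt N1925 (iv F13523)) (tt N1465 F9719))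
theorem Q1467 : ∀ i, i < 1467 → P i := stepQ 1466 Q1466 (allL N1466 (tt N1777 (iv F12404)) (tt N1945 (iv F13638)) (tt N1101 F9720) (tt N1946 D2804) (tt N1100 (iv D1961)) (tt N1466 F9721) (tt N1947 D2805) (tt N1466 F9722) (tt N1928 (iv F13533)) (tt N1466 F9723))
theorem Q1468 : ∀ i, i < 1468 → P i := stepQ 1467 Q1467 (allL N1467 (tt N1778 (iv F12409)) (tt N1942 F130836) (tt N1102 F9724) (tt N1467 F9725) (tt N1947 (iv F13654)) (tt N1467 F9726) (tt N1100 (iv D1962)) (tt N1943 F130837) (tt N1929 (iv F13536)) (tt N1467 F9727))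
theorem Q1469 : ∀ i, i < 1469 → P i := stepQ 1468 Q1468 (allL N1468 (tt N1779 (iv F12414)) (tt N1205 F9728) (tt N1947 (iv F13653)) (tt N1468 F9729) (tt N1102 F9730) (tt N1948 D2807) (tt N1101 (iv D1963)) (tt N1949 D2808) (tt N1933 (iv F13550)) (tt N1468 F9731))
theorem Q1470 : ∀ i, i < 1470 → P i := stepQ 1469 Q1469 (allL N1469 (tt N1780 (iv F12419)) (tt N1201 F130754) (tt N1943 F130755) (tt N1103 F9733) (tt N1949 (iv F13668)) (tt N1469 F9734) (tt N1469 F9735) (tt N1102 (iv D1964)) (tt N1934 (iv F13554)) (tt N1469 F9736))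
theorem Q1471 : ∀ i, i < 1471 → P i := stepQ 1470 Q1470 (allL N1470 (tt N1950 D2809) (tt N1104 (iv D1965)) (tt N1817 (iv F12931)) (tt N1470 F9737) (tt N1470 F9738) (tt N1113 F9739) (tt N1951 D2810) (tt N1470 F9740) (tt N1470 F9741) (tt N1952 D2811))
theorem Q1472 : ∀ i, i < 1472 → P i := stepQ 1471 Q1471 (allL N1471 (tt N1471 F9742) (tt N1951 (iv F13677)) (tt N1105 F9743) (tt N1471 F9744) (tt N1471 F9745) (tt N1953 D2812) (tt N1104 (iv D1966)) (tt N1954 D2813) (tt N1471 F9746) (tt N1955 D2814))
theorem Q1473 : ∀ i, i < 1473 → P i := stepQ 1472 Q1472 (allL N1472 (tt N1472 F9747) (tt N1952 (iv F13681)) (tt N1106 F9748) (tt N1472 F9749) (tt N1472 F9750) (tt N1115 F9751) (tt N1955 (iv F13700)) (tt N1472 F9752) (tt N1956 D2815) (tt N1104 (iv D1967)))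
theorem Q1474 : ∀ i, i < 1474 → P i := stepQ 1473 Q1473 (allL N1473 (tt N1473 F9753) (tt N1820 (iv F12943)) (tt N1953 (iv F13687)) (tt N1107 F9754) (tt N1957 D2816) (tt N1105 (iv D1968)) (tt N1116 F9755) (tt N1958 D2817) (tt N1959 D2818) (tt N1960 D2819))
theorem Q1475 : ∀ i, i < 1475 → P i := stepQ 1474 Q1474 (allL N1474 (tt N1474 F9756) (tt N1821 (iv F12946)) (tt N1954 (iv F13691)) (tt N1108 F9757) (tt N1474 F9758) (tt N1958 (iv F13713)) (tt N1474 F9759) (tt N1105 (iv D1969)) (tt N1474 F9760) (tt N1961 D2820))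
theorem Q1476 : ∀ i, i < 1476 → P i := stepQ 1475 Q1475 (allL N1475 (tt N1475 F9761) (tt N1822 (iv F12951)) (tt N1955 (iv F13697)) (tt N1109 F9762) (tt N1475 F9763) (tt N1960 (iv F13720)) (tt N1106 F9764) (tt N1961 (iv F13726)) (tt N1962 D2821) (tt N1105 (iv D1970)))
theorem Q1477 : ∀ i, i < 1477 → P i := stepQ 1476 Q1476 (allL N1476 (tt N1476 F9765) (tt N1823 (iv F12955)) (tt N1956 (iv F13702)) (tt N1110 F9766) (tt N1476 F9767) (tt N1963 D2822) (tt N1962 (iv F13730)) (tt N1476 F9768) (tt N1106 (iv D1971)) (tt N1476 F9769))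
theorem Q1478 : ∀ i, i < 1478 → P i := stepQ 1477 Q1477 (allL N1477 (tt N1477 F9770) (tt N1824 (iv F12960)) (tt N1477 F9771) (tt N1958 (iv F13712)) (tt N1477 F9772) (tt N1108 F9773) (tt N1964 D2823) (tt N1107 (iv D1972)) (tt N1965 D2824) (tt N1966 D2825))
theorem Q1479 : ∀ i, i < 1479 → P i := stepQ 1478 Q1478 (allL N1478 (tt N1478 F9774) (tt N1825 (iv F12963)) (tt N1478 F9775) (tt N1959 (iv F13715)) (tt N1478 F9776) (tt N1478 F9777) (tt N1121 F9778) (tt N1965 (iv F13746)) (tt N1107 (iv D1973)) (tt N1967 D2826))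
theorem Q1480 : ∀ i, i < 1480 → P i := stepQ 1479 Q1479 (allL N1479 (tt N1479 F9779) (tt N1826 (iv F12967)) (tt N1479 F9780) (tt N1960 (iv F13719)) (tt N1479 F9781) (tt N1109 F9782) (tt N1122 F9783) (tt N1966 (iv F13751)) (tt N1968 D2827) (tt N1107 (iv D1974)))
theorem Q1481 : ∀ i, i < 1481 → P i := stepQ 1480 Q1480 (allL N1480 (tt N1480 F9784) (tt N1827 (iv F12971)) (tt N1480 F9785) (tt N1961 (iv F13723)) (tt N1111 F9786) (tt N1966 (iv F13750)) (tt N1480 F9787) (tt N1109 F9788) (tt N1969 D2828) (tt N1108 (iv D1975)))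
theorem Q1482 : ∀ i, i < 1482 → P i := stepQ 1481 Q1481 (allL N1481 (tt N1481 F9789) (tt N1828 (iv F12975)) (tt N1481 F9790) (tt N1962 (iv F13728)) (tt N1112 F9791) (tt N1970 D2829) (tt N1110 F9792) (tt N1969 (iv F13765)) (tt N1109 (iv D1976)) (tt N1481 F9793))
theorem Q1483 : ∀ i, i < 1483 → P i := stepQ 1482 Q1482 (allL N1482 (tt N1482 F9794) (tt N1829 (iv F12979)) (tt N1482 F9795) (tt N1963 (iv F13733)) (tt N1482 F9796) (tt N1110 (iv D1977)) (tt N1971 D2830) (tt N1482 F9797) (tt N1125 F9798) (tt N1482 F9799))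
theorem Q1484 : ∀ i, i < 1484 → P i := stepQ 1483 Q1483 (allL N1483 (tt N1483 F9800) (tt N1830 (iv F12984)) (tt N1483 F9801) (tt N1483 F9802) (tt N1969 (iv F13763)) (tt N1972 D2831) (tt N1483 F9803) (tt N1112 F9804) (tt N1111 (iv D1978)) (tt N1483 F9805))
theorem Q1485 : ∀ i, i < 1485 → P i := stepQ 1484 Q1484 (allL N1484 (tt N1484 F9806) (tt N1831 (iv F12989)) (tt N1484 F9807) (tt N1484 F9808) (tt N1973 D2832) (tt N1112 (iv D1979)) (tt N1484 F9809) (tt N1972 (iv F13778)) (tt N1484 F9810) (tt N1484 F9811))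
theorem Q1486 : ∀ i, i < 1486 → P i := stepQ 1485 Q1485 (allL N1485 (tt N1113 (iv D1980)) (tt N1485 F9812) (tt N1832 (iv F12994)) (tt N1485 F9813) (tt N1160 F9814) (tt N1950 (iv F13674)) (tt N1974 D2833) (tt N1485 F9815) (tt N1128 F9816) (tt N1975 D2834))
theorem Q1487 : ∀ i, i < 1487 → P i := stepQ 1486 Q1486 (allL N1486 (tt N1974 (iv F13786)) (tt N1114 F9817) (tt N1833 (iv F12999)) (tt N1486 F9818) (tt N1161 F9819) (tt N1976 D2835) (tt N1113 (iv D1981)) (tt N1977 D2836) (tt N1129 F9820) (tt N1978 D2837))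
theorem Q1488 : ∀ i, i < 1488 → P i := stepQ 1487 Q1487 (allL N1487 (tt N1975 (iv F13791)) (tt N1115 F9821) (tt N1834 (iv F13003)) (tt N1487 F9822) (tt N1162 F9823) (tt N1952 (iv F13684)) (tt N1978 (iv F13806)) (tt N1487 F9824) (tt N1979 D2838) (tt N1113 (iv D1982)))
theorem Q1489 : ∀ i, i < 1489 → P i := stepQ 1488 Q1488 (allL N1488 (tt N1488 F9825) (tt N1976 (iv F13796)) (tt N1116 F9826) (tt N1488 F9827) (tt N1980 D2839) (tt N1114 (iv D1983)) (tt N1953 (iv F13689)) (tt N1981 D2840) (tt N1982 D2841) (tt N1983 D2842))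
theorem Q1490 : ∀ i, i < 1490 → P i := stepQ 1489 Q1489 (allL N1489 (tt N1489 F9828) (tt N1977 (iv F13798)) (tt N1117 F9829) (tt N1489 F9830) (tt N1164 F9831) (tt N1981 (iv F13818)) (tt N1489 F9832) (tt N1114 (iv D1984)) (tt N1132 F9833) (tt N1984 D2843))
theorem Q1491 : ∀ i, i < 1491 → P i := stepQ 1490 Q1490 (allL N1490 (tt N1490 F9834) (tt N1978 (iv F13803)) (tt N1118 F9835) (tt N1490 F9836) (tt N1165 F9837) (tt N1983 (iv F13826)) (tt N1115 F9838) (tt N1984 (iv F13832)) (tt N1985 D2844) (tt N1114 (iv D1985)))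
theorem Q1492 : ∀ i, i < 1492 → P i := stepQ 1491 Q1491 (allL N1491 (tt N1491 F9839) (tt N1979 (iv F13807)) (tt N1119 F9840) (tt N1491 F9841) (tt N1166 F9842) (tt N1986 D2845) (tt N1985 (iv F13837)) (tt N1491 F9843) (tt N1115 (iv D1986)) (tt N1134 F9844))
theorem Q1493 : ∀ i, i < 1493 → P i := stepQ 1492 Q1492 (allL N1492 (tt N1492 F9845) (tt N1839 (iv F13018)) (tt N1980 (iv F13813)) (tt N1492 F9846) (tt N1116 (iv D1987)) (tt N1167 F9847) (tt N1957 (iv F13710)) (tt N1987 D2846) (tt N1988 D2847) (tt N1989 D2848))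
theorem Q1494 : ∀ i, i < 1494 → P i := stepQ 1493 Q1493 (allL N1493 (tt N1493 F9848) (tt N1840 (iv F13021)) (tt N1981 (iv F13816)) (tt N1120 F9849) (tt N1987 (iv F13846)) (tt N1117 F9850) (tt N1990 D2849) (tt N1116 (iv D1988)) (tt N1991 D2850) (tt N1992 D2851))
theorem Q1495 : ∀ i, i < 1495 → P i := stepQ 1494 Q1494 (allL N1494 (tt N1494 F9851) (tt N1841 (iv F13024)) (tt N1982 (iv F13820)) (tt N1121 F9852) (tt N1988 (iv F13850)) (tt N1136 F9853) (tt N1959 (iv F13717)) (tt N1991 (iv F13862)) (tt N1116 (iv D1989)) (tt N1993 D2852))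
theorem Q1496 : ∀ i, i < 1496 → P i := stepQ 1495 Q1495 (allL N1495 (tt N1495 F9854) (tt N1842 (iv F13027)) (tt N1983 (iv F13824)) (tt N1122 F9855) (tt N1989 (iv F13854)) (tt N1118 F9856) (tt N1960 (iv F13721)) (tt N1992 (iv F13866)) (tt N1994 D2853) (tt N1116 (iv D1990)))
theorem Q1497 : ∀ i, i < 1497 → P i := stepQ 1496 Q1496 (allL N1496 (tt N1496 F9857) (tt N1843 (iv F13030)) (tt N1984 (iv F13828)) (tt N1123 F9858) (tt N1170 F9859) (tt N1992 (iv F13865)) (tt N1496 F9860) (tt N1118 F9861) (tt N1995 D2854) (tt N1117 (iv D1991)))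
theorem Q1498 : ∀ i, i < 1498 → P i := stepQ 1497 Q1497 (allL N1497 (tt N1497 F9862) (tt N1844 (iv F13035)) (tt N1985 (iv F13834)) (tt N1124 F9863) (tt N1171 F9864) (tt N1996 D2855) (tt N1119 F9865) (tt N1995 (iv F13876)) (tt N1118 (iv D1992)) (tt N1139 F9866))
theorem Q1499 : ∀ i, i < 1499 → P i := stepQ 1498 Q1498 (allL N1498 (tt N1498 F9867) (tt N1845 (iv F13040)) (tt N1986 (iv F13840)) (tt N1125 F9868) (tt N1997 D2856) (tt N1119 (iv D1993)) (tt N1998 D2857) (tt N1498 F9869) (tt N1963 (iv F13735)) (tt N1140 F9870))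
theorem Q1500 : ∀ i, i < 1500 → P i := stepQ 1499 Q1499 (allL N1499 (tt N1499 F9871) (tt N1846 (iv F13044)) (tt N1499 F9872) (tt N1990 (iv F13857)) (tt N1499 F9873) (tt N1499 F9874) (tt N1120 (iv D1994)) (tt N1964 (iv F13741)) (tt N1999 D2858) (tt N2000 D2859))
theorem Q1501 : ∀ i, i < 1501 → P i := stepQ 1500 Q1500 (allL N1500 (tt N1500 F9875) (tt N1670 F20162) (tt N1500 F9876) (tt N1991 (iv F13860)) (tt N1500 F9877) (tt N1141 F9878) (tt N1999 (iv F13892)) (tt N1121 F9879) (tt N1120 (iv D1995)) (tt N2001 D2860))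
theorem Q1502 : ∀ i, i < 1502 → P i := stepQ 1501 Q1501 (allL N1501 (tt N1501 F9880) (tt N1847 (iv F13051)) (tt N1501 F9881) (tt N1992 (iv F13864)) (tt N1501 F9882) (tt N1123 F9883) (tt N2000 (iv F13897)) (tt N1122 F9884) (tt N2002 D2861) (tt N1120 (iv D1996)))
theorem Q1503 : ∀ i, i < 1503 → P i := stepQ 1502 Q1502 (allL N1502 (tt N1502 F9885) (tt N1848 (iv F13055)) (tt N1502 F9886) (tt N1993 (iv F13868)) (tt N1502 F9887) (tt N1143 F9888) (tt N1967 (iv F13756)) (tt N2001 (iv F13902)) (tt N2003 D2862) (tt N1121 (iv D1997)))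
theorem Q1504 : ∀ i, i < 1504 → P i := stepQ 1503 Q1503 (allL N1503 (tt N1503 F9889) (tt N1849 (iv F13058)) (tt N1503 F9890) (tt N1994 (iv F13871)) (tt N1503 F9891) (tt N2004 D2863) (tt N1968 (iv F13760)) (tt N2002 (iv F13906)) (tt N1122 (iv D1998)) (tt N2003 (iv F13910)))
theorem Q1505 : ∀ i, i < 1505 → P i := stepQ 1504 Q1504 (allL N1504 (tt N1504 F9892) (tt N1850 (iv F13060)) (tt N1504 F9893) (tt N1995 (iv F13873)) (tt N1126 F9894) (tt N2005 D2864) (tt N1504 F9895) (tt N1124 F9896) (tt N1123 (iv D1999)) (tt N1145 F9897))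
theorem Q1506 : ∀ i, i < 1506 → P i := stepQ 1505 Q1505 (allL N1505 (tt N1505 F9898) (tt N1851 (iv F13065)) (tt N1505 F9899) (tt N1996 (iv F13879)) (tt N2006 D2865) (tt N1124 (iv D2000)) (tt N2007 D2866) (tt N2005 (iv F13916)) (tt N2004 (iv F13913)) (tt N1146 F9900))
theorem Q1507 : ∀ i, i < 1507 → P i := stepQ 1506 Q1506 (allL N1506 (tt N1506 F9901) (tt N1852 (iv F13067)) (tt N1506 F9902) (tt N1998 (iv F13887)) (tt N1506 F9903) (tt N2007 (iv F13924)) (tt N1125 (iv D2001)) (tt N2008 D2867) (tt N1971 (iv F13773)) (tt N1147 F9904))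
theorem Q1508 : ∀ i, i < 1508 → P i := stepQ 1507 Q1507 (allL N1507 (tt N1507 F9905) (tt N1853 (iv F13070)) (tt N1507 F9906) (tt N1179 F9907) (tt N2009 D2868) (tt N1126 (iv D2002)) (tt N2010 D2869) (tt N1127 F9908) (tt N1507 F9909) (tt N1148 F9910))
theorem Q1509 : ∀ i, i < 1509 → P i := stepQ 1508 Q1508 (allL N1508 (tt N1508 F9911) (tt N1854 (iv F13075)) (tt N1508 F9912) (tt N2011 D2870) (tt N1127 (iv D2003)) (tt N2006 (iv F13920)) (tt N1508 F9913) (tt N2009 (iv F13933)) (tt N1508 F9914) (tt N1149 F9915))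
theorem Q1510 : ∀ i, i < 1510 → P i := stepQ 1509 Q1509 (allL N1509 (tt N1129 F9916) (tt N1509 F9917) (tt N1855 (iv F13080)) (tt N1509 F9918) (tt N1181 F9919) (tt N2012 D2871) (tt N1128 (iv D2004)) (tt N2013 D2872) (tt N1974 (iv F13790)) (tt N2014 D2873))
theorem Q1511 : ∀ i, i < 1511 → P i := stepQ 1510 Q1510 (allL N1510 (tt N1130 F9920) (tt N1510 F9921) (tt N1856 (iv F13083)) (tt N1510 F9922) (tt N1182 F9923) (tt N1510 F9924) (tt N2014 (iv F13962)) (tt N1510 F9925) (tt N2015 D2874) (tt N1128 (iv D2005)))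
theorem Q1512 : ∀ i, i < 1512 → P i := stepQ 1511 Q1511 (allL N1511 (tt N2012 (iv F13948)) (tt N1131 F9926) (tt N1857 (iv F13088)) (tt N1511 F9927) (tt N1511 F9928) (tt N1129 (iv D2006)) (tt N1511 F9929) (tt N2016 D2875) (tt N2017 D2876) (tt N2018 D2877))
theorem Q1513 : ∀ i, i < 1513 → P i := stepQ 1512 Q1512 (allL N1512 (tt N2013 (iv F13953)) (tt N1132 F9930) (tt N1858 (iv F13092)) (tt N1512 F9931) (tt N1183 F9932) (tt N2016 (iv F13971)) (tt N1512 F9933) (tt N1129 (iv D2007)) (tt N1977 (iv F13802)) (tt N2019 D2878))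
theorem Q1514 : ∀ i, i < 1514 → P i := stepQ 1513 Q1513 (allL N1513 (tt N2014 (iv F13958)) (tt N1133 F9934) (tt N1859 (iv F13096)) (tt N1513 F9935) (tt N1184 F9936) (tt N2018 (iv F13979)) (tt N1130 F9937) (tt N2019 (iv F13985)) (tt N2020 D2879) (tt N1129 (iv D2008)))
theorem Q1515 : ∀ i, i < 1515 → P i := stepQ 1514 Q1514 (allL N1514 (tt N2015 (iv F13963)) (tt N1134 F9938) (tt N1860 (iv F13100)) (tt N1514 F9939) (tt N1185 F9940) (tt N2021 D2880) (tt N2020 (iv F13989)) (tt N1514 F9941) (tt N1130 (iv D2009)) (tt N1979 (iv F13811)))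
theorem Q1516 : ∀ i, i < 1516 → P i := stepQ 1515 Q1515 (allL N1515 (tt N1515 F9942) (tt N2016 (iv F13968)) (tt N1135 F9943) (tt N1515 F9944) (tt N1515 F9945) (tt N1132 F9946) (tt N1655 F20172) (tt N1131 (iv D2010)) (tt N2022 D2882) (tt N2023 D2883))
theorem Q1517 : ∀ i, i < 1517 → P i := stepQ 1516 Q1516 (allL N1516 (tt N1516 F9947) (tt N2017 (iv F13972)) (tt N1136 F9948) (tt N1516 F9949) (tt N1516 F9950) (tt N1982 (iv F13822)) (tt N1516 F9951) (tt N2022 (iv F14004)) (tt N1131 (iv D2011)) (tt N2024 D2884))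
theorem Q1518 : ∀ i, i < 1518 → P i := stepQ 1517 Q1517 (allL N1517 (tt N1517 F9952) (tt N2018 (iv F13976)) (tt N1137 F9953) (tt N1517 F9954) (tt N1517 F9955) (tt N1133 F9956) (tt N1517 F9957) (tt N2023 (iv F14010)) (tt N2025 D2885) (tt N1131 (iv D2012)))
theorem Q1519 : ∀ i, i < 1519 → P i := stepQ 1518 Q1518 (allL N1518 (tt N1518 F9958) (tt N2019 (iv F13981)) (tt N1138 F9959) (tt N1518 F9960) (tt N1186 F9961) (tt N2023 (iv F14009)) (tt N1518 F9962) (tt N1133 F9963) (tt N2026 D2886) (tt N1132 (iv D2013)))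
theorem Q1520 : ∀ i, i < 1520 → P i := stepQ 1519 Q1519 (allL N1519 (tt N1519 F9964) (tt N2020 (iv F13986)) (tt N1139 F9965) (tt N1519 F9966) (tt N1187 F9967) (tt N2027 D2887) (tt N1134 F9968) (tt N2026 (iv F14026)) (tt N1133 (iv D2014)) (tt N1985 (iv F13838)))
theorem Q1521 : ∀ i, i < 1521 → P i := stepQ 1520 Q1520 (allL N1520 (tt N1520 F9969) (tt N2021 (iv F13990)) (tt N1140 F9970) (tt N1520 F9971) (tt N2028 D2888) (tt N1134 (iv D2015)) (tt N2029 D2889) (tt N1520 F9972) (tt N1520 F9973) (tt N1986 (iv F13843)))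
theorem Q1522 : ∀ i, i < 1522 → P i := stepQ 1521 Q1521 (allL N1521 (tt N1521 F9979) (tt N1668 F20159) (tt N2022 (iv F14001)) (tt N1141 F9980) (tt N1521 F9981) (tt N1991 (iv F13861)) (tt N1652 F20160) (tt N1136 F9982) (tt N1135 (iv D2017)) (tt N2030 D2892))
theorem Q1523 : ∀ i, i < 1523 → P i := stepQ 1522 Q1522 (allL N1522 (tt N1522 F9983) (tt N1677 F20174) (tt N2023 (iv F14006)) (tt N1142 F9984) (tt N1522 F9985) (tt N1138 F9986) (tt N1656 F20175) (tt N1137 F9987) (tt N2031 D2893) (tt N1135 (iv D2018)))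
theorem Q1524 : ∀ i, i < 1524 → P i := stepQ 1523 Q1523 (allL N1523 (tt N1523 F9988) (tt N1866 (iv F13137)) (tt N2024 (iv F14012)) (tt N1143 F9989) (tt N1523 F9990) (tt N1993 (iv F13869)) (tt N1523 F9991) (tt N2030 (iv F14053)) (tt N2032 D2894) (tt N1136 (iv D2019)))
theorem Q1525 : ∀ i, i < 1525 → P i := stepQ 1524 Q1524 (allL N1524 (tt N1524 F9992) (tt N1867 (iv F13141)) (tt N2025 (iv F14017)) (tt N1144 F9993) (tt N1524 F9994) (tt N2033 D2895) (tt N1524 F9995) (tt N2031 (iv F14057)) (tt N1137 (iv D2020)) (tt N2032 (iv F14062)))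
theorem Q1526 : ∀ i, i < 1526 → P i := stepQ 1525 Q1525 (allL N1525 (tt N1525 F9996) (tt N1868 (iv F13145)) (tt N2026 (iv F14022)) (tt N1145 F9997) (tt N1189 F9998) (tt N2034 D2896) (tt N1525 F9999) (tt N1139 F10000) (tt N1138 (iv D2021)) (tt N1995 (iv F13877)))
theorem Q1527 : ∀ i, i < 1527 → P i := stepQ 1526 Q1526 (allL N1526 (tt N1526 F10001) (tt N1869 (iv F13150)) (tt N2027 (iv F14028)) (tt N1146 F10002) (tt N2035 D2897) (tt N1139 (iv D2022)) (tt N2036 D2898) (tt N2034 (iv F14068)) (tt N2033 (iv F14065)) (tt N1996 (iv F13880)))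
theorem Q1528 : ∀ i, i < 1528 → P i := stepQ 1527 Q1527 (allL N1527 (tt N1527 F10003) (tt N1870 (iv F13152)) (tt N2028 (iv F14031)) (tt N1527 F10004) (tt N1140 (iv D2023)) (tt N1191 F10005) (tt N2037 D2899) (tt N1527 F10006) (tt N1527 F10007) (tt N1997 (iv F13885)))
theorem Q1529 : ∀ i, i < 1529 → P i := stepQ 1528 Q1528 (allL N1528 (tt N1528 F10008) (tt N1871 (iv F13157)) (tt N2029 (iv F14036)) (tt N1147 F10009) (tt N2037 (iv F14076)) (tt N2036 (iv F14073)) (tt N1140 (iv D2024)) (tt N2038 D2900) (tt N1528 F10010) (tt N1998 (iv F13888)))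
theorem Q1530 : ∀ i, i < 1530 → P i := stepQ 1529 Q1529 (allL N1529 (tt N1529 F10022) (tt N1671 F20163) (tt N1529 F10023) (tt N2030 (iv F14051)) (tt N1150 F10024) (tt N2001 (iv F13901)) (tt N1653 F20164) (tt N1143 F10025) (tt N2039 D2904) (tt N1141 (iv D2027)))
theorem Q1531 : ∀ i, i < 1531 → P i := stepQ 1530 Q1530 (allL N1530 (tt N1530 F10026) (tt N1679 F20177) (tt N1530 F10027) (tt N2031 (iv F14055)) (tt N1151 F10028) (tt N2040 D2905) (tt N1657 F20178) (tt N1144 F10029) (tt N1142 (iv D2028)) (tt N2039 (iv F14100)))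
theorem Q1532 : ∀ i, i < 1532 → P i := stepQ 1531 Q1531 (allL N1531 (tt N1531 F10030) (tt N1872 (iv F13175)) (tt N1531 F10031) (tt N2032 (iv F14059)) (tt N1152 F10032) (tt N2041 D2906) (tt N1531 F10033) (tt N2039 (iv F14099)) (tt N1143 (iv D2029)) (tt N1144 F10034))
theorem Q1533 : ∀ i, i < 1533 → P i := stepQ 1532 Q1532 (allL N1532 (tt N1532 F10035) (tt N1873 (iv F13179)) (tt N1532 F10036) (tt N2033 (iv F14064)) (tt N2042 D2907) (tt N1144 (iv D2030)) (tt N2043 D2908) (tt N2040 (iv F14103)) (tt N1146 F10037) (tt N2041 (iv F14107)))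
theorem Q1534 : ∀ i, i < 1534 → P i := stepQ 1533 Q1533 (allL N1533 (tt N1533 F10038) (tt N1874 (iv F13181)) (tt N1533 F10039) (tt N2034 (iv F14067)) (tt N2044 D2909) (tt N1145 (iv D2031)) (tt N2045 D2910) (tt N1146 F10040) (tt N2040 (iv F14104)) (tt N2005 (iv F13917)))
theorem Q1535 : ∀ i, i < 1535 → P i := stepQ 1534 Q1534 (allL N1534 (tt N1534 F10041) (tt N1875 (iv F13183)) (tt N1534 F10042) (tt N2046 D2911) (tt N1146 (iv D2032)) (tt N1149 F10043) (tt N2047 D2912) (tt N2044 (iv F14119)) (tt N2042 (iv F14111)) (tt N2006 (iv F13921)))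
theorem Q1536 : ∀ i, i < 1536 → P i := stepQ 1535 Q1535 (allL N1535 (tt N1535 F10044) (tt N1876 (iv F13185)) (tt N1535 F10045) (tt N2036 (iv F14072)) (tt N2047 (iv F14127)) (tt N1147 F10046) (tt N1146 (iv D2033)) (tt N2048 D2913) (tt N2043 (iv F14115)) (tt N2007 (iv F13925)))
theorem Q1537 : ∀ i, i < 1537 → P i := stepQ 1536 Q1536 (allL N1536 (tt N1536 F10047) (tt N1877 (iv F13187)) (tt N1536 F10048) (tt N2038 (iv F14079)) (tt N1536 F10049) (tt N2048 (iv F14131)) (tt N1536 F10050) (tt N1147 (iv D2034)) (tt N1536 F10051) (tt N2008 (iv F13930)))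
theorem Q1538 : ∀ i, i < 1538 → P i := stepQ 1537 Q1537 (allL N1537 (tt N1537 F10052) (tt N1878 (iv F13191)) (tt N1537 F10053) (tt N2049 D2914) (tt N1148 (iv D2035)) (tt N2044 (iv F14118)) (tt N2050 D2915) (tt N1149 F10054) (tt N1157 F10055) (tt N2009 (iv F13935)))
theorem Q1539 : ∀ i, i < 1539 → P i := stepQ 1538 Q1538 (allL N1538 (tt N1538 F10056) (tt N1879 (iv F13194)) (tt N1538 F10057) (tt N1198 F10058) (tt N2050 (iv F14138)) (tt N1538 F10059) (tt N1148 (iv D2036)) (tt N1538 F10060) (tt N1158 F10061) (tt N2010 (iv F13942)))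
theorem Q1540 : ∀ i, i < 1540 → P i := stepQ 1539 Q1539 (allL N1539 (tt N1539 F10062) (tt N1880 (iv F13199)) (tt N2051 D2916) (tt N1149 (iv D2037)) (tt N1199 F10063) (tt N2046 (iv F14124)) (tt N1539 F10064) (tt N2049 (iv F14134)) (tt N1159 F10065) (tt N2011 (iv F13947)))
theorem Q1541 : ∀ i, i < 1541 → P i := stepQ 1540 Q1540 (allL N1540 (tt N1540 F10082) (tt N1673 F20166) (tt N1540 F10083) (tt N1540 F10084) (tt N2039 (iv F14098)) (tt N2052 D2921) (tt N1654 F20167) (tt N1152 F10085) (tt N1150 (iv D2041)) (tt N1151 F10086))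
theorem Q1542 : ∀ i, i < 1542 → P i := stepQ 1541 Q1541 (allL N1541 (tt N1541 F10087) (tt N1681 F20179) (tt N1541 F10088) (tt N1541 F10089) (tt N2053 D2922) (tt N1151 (iv D2042)) (tt N1541 F20258) (tt N1153 F10090) (tt N1154 F10091) (tt N2052 (iv F14173)))
theorem Q1543 : ∀ i, i < 1543 → P i := stepQ 1542 Q1542 (allL N1542 (tt N1542 F10092) (tt N1881 (iv F13224)) (tt N1542 F10093) (tt N1542 F10094) (tt N2054 D2924) (tt N1152 (iv D2043)) (tt N2055 D2925) (tt N2052 (iv F14171)) (tt N1542 F10095) (tt N1153 F10096))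
theorem Q1544 : ∀ i, i < 1544 → P i := stepQ 1543 Q1543 (allL N1543 (tt N1543 F10097) (tt N1882 (iv F13228)) (tt N1543 F10098) (tt N2056 D2926) (tt N1153 (iv D2044)) (tt N2042 (iv F14110)) (tt N2057 D2927) (tt N2053 (iv F14176)) (tt N1155 F10099) (tt N2054 (iv F14185)))
theorem Q1545 : ∀ i, i < 1545 → P i := stepQ 1544 Q1544 (allL N1544 (tt N1544 F10100) (tt N1883 (iv F13230)) (tt N1544 F10101) (tt N1544 F10102) (tt N2057 (iv F14197)) (tt N1544 F10103) (tt N1153 (iv D2045)) (tt N1544 F20317) (tt N1156 F10104) (tt N2055 (iv F14191)))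
theorem Q1546 : ∀ i, i < 1546 → P i := stepQ 1545 Q1545 (allL N1545 (tt N1545 F10105) (tt N1682 F20290) (tt N1545 F10106) (tt N2058 D2929) (tt N1154 (iv D2046)) (tt N1157 F10107) (tt N1545 F20316) (tt N1155 F10108) (tt N2053 (iv F14177)) (tt N1545 F10109))
theorem Q1547 : ∀ i, i < 1547 → P i := stepQ 1546 Q1546 (allL N1546 (tt N1546 F10115) (tt N1884 (iv F13242)) (tt N2059 D2932) (tt N1155 (iv D2048)) (tt N1546 F10116) (tt N1159 F10117) (tt N2060 D2933) (tt N2058 (iv F14207)) (tt N2056 (iv F14194)) (tt N1546 F10118))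
theorem Q1548 : ∀ i, i < 1548 → P i := stepQ 1547 Q1547 (allL N1547 (tt N1547 F10119) (tt N1885 (iv F13246)) (tt N1547 F10120) (tt N2060 (iv F14225)) (tt N1156 F10121) (tt N1547 F10122) (tt N1155 (iv D2049)) (tt N1547 F20332) (tt N2057 (iv F14198)) (tt N1547 F10123))
theorem Q1549 : ∀ i, i < 1549 → P i := stepQ 1548 Q1548 (allL N1548 (tt N1548 F10129) (tt N1886 (iv F13254)) (tt N1205 (iv F131007)) (tt N1157 (iv D2051)) (tt N1200 F10130) (tt N2058 (iv F14206)) (tt N1204 (iv F131011)) (tt N1159 F10131) (tt N2049 (iv F14135)) (tt N1548 F10132))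
theorem Q1550 : ∀ i, i < 1550 → P i := stepQ 1549 Q1549 (allL N1549 (tt N1549 F10133) (tt N1887 (iv F13258)) (tt N1549 F10134) (tt N1204 (iv F131010)) (tt N1158 F10135) (tt N1549 F20336) (tt N1157 (iv D2052)) (tt N1549 F10136) (tt N2050 (iv F14140)) (tt N1549 F10137))
theorem Q1551 : ∀ i, i < 1551 → P i := stepQ 1550 Q1550 (allL N1550 (tt N1550 F10138) (tt N1949 (iv F131012)) (tt N1159 (iv D2053)) (tt N1550 F10139) (tt N1201 F10140) (tt N2059 (iv F14222)) (tt N1550 F10141) (tt N1205 (iv F131008)) (tt N2051 (iv F14145)) (tt N1550 F10142))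
theorem Q1552 : ∀ i, i < 1552 → P i := stepQ 1551 Q1551 (allL N1551 (tt N1161 F10254) (tt N1551 F10255) (tt N1889 (iv F13358)) (tt N1206 F10256) (tt N1974 (iv F13789)) (tt N2061 D2969) (tt N1160 (iv D2076)) (tt N2062 D2970) (tt N1181 F10257) (tt N2063 D2971))
theorem Q1553 : ∀ i, i < 1553 → P i := stepQ 1552 Q1552 (allL N1552 (tt N1162 F10258) (tt N1552 F10259) (tt N1890 (iv F13362)) (tt N1207 F10260) (tt N1975 (iv F13794)) (tt N1552 F10261) (tt N2063 (iv F14414)) (tt N1552 F10262) (tt N2064 D2972) (tt N1160 (iv D2077)))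
theorem Q1554 : ∀ i, i < 1554 → P i := stepQ 1553 Q1553 (allL N1553 (tt N2061 (iv F14401)) (tt N1163 F10263) (tt N1891 (iv F13367)) (tt N1208 F10264) (tt N2065 D2973) (tt N1161 (iv D2078)) (tt N1553 F10265) (tt N2066 D2974) (tt N1553 F10266) (tt N2067 D2975))
theorem Q1555 : ∀ i, i < 1555 → P i := stepQ 1554 Q1554 (allL N1554 (tt N2062 (iv F14406)) (tt N1164 F10267) (tt N1892 (iv F13372)) (tt N1209 F10268) (tt N1977 (iv F13800)) (tt N2066 (iv F14425)) (tt N1554 F10269) (tt N1161 (iv D2079)) (tt N1183 F10270) (tt N2068 D2976))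
theorem Q1556 : ∀ i, i < 1556 → P i := stepQ 1555 Q1555 (allL N1555 (tt N2063 (iv F14411)) (tt N1165 F10271) (tt N1893 (iv F13377)) (tt N1210 F10272) (tt N1978 (iv F13805)) (tt N2067 (iv F14429)) (tt N1162 F10273) (tt N2068 (iv F14434)) (tt N2069 D2977) (tt N1161 (iv D2080)))
theorem Q1557 : ∀ i, i < 1557 → P i := stepQ 1556 Q1556 (allL N1556 (tt N2064 (iv F14415)) (tt N1166 F10274) (tt N1894 (iv F13381)) (tt N1211 F10275) (tt N1979 (iv F13809)) (tt N2070 D2978) (tt N2069 (iv F14437)) (tt N1556 F10276) (tt N1162 (iv D2081)) (tt N1185 F10277))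
theorem Q1558 : ∀ i, i < 1558 → P i := stepQ 1557 Q1557 (allL N1557 (tt N1557 F10278) (tt N2065 (iv F14420)) (tt N1167 F10279) (tt N2071 D2979) (tt N1163 (iv D2082)) (tt N1980 (iv F13814)) (tt N1557 F10280) (tt N2072 D2980) (tt N1557 F10281) (tt N2073 D2981))
theorem Q1559 : ∀ i, i < 1559 → P i := stepQ 1558 Q1558 (allL N1558 (tt N1558 F10282) (tt N2066 (iv F14423)) (tt N1168 F10283) (tt N1213 F10284) (tt N2072 (iv F14451)) (tt N1164 F10285) (tt N2074 D2982) (tt N1163 (iv D2083)) (tt N1558 F10286) (tt N2075 D2983))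
theorem Q1560 : ∀ i, i < 1560 → P i := stepQ 1559 Q1559 (allL N1559 (tt N1559 F10287) (tt N2067 (iv F14427)) (tt N1169 F10288) (tt N1214 F10289) (tt N2073 (iv F14455)) (tt N1165 F10290) (tt N1559 F10291) (tt N2075 (iv F14467)) (tt N2076 D2984) (tt N1163 (iv D2084)))
theorem Q1561 : ∀ i, i < 1561 → P i := stepQ 1560 Q1560 (allL N1560 (tt N1560 F10292) (tt N2068 (iv F14431)) (tt N1170 F10293) (tt N1215 F10294) (tt N1984 (iv F13830)) (tt N2075 (iv F14466)) (tt N1560 F10295) (tt N1165 F10296) (tt N2077 D2985) (tt N1164 (iv D2085)))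
theorem Q1562 : ∀ i, i < 1562 → P i := stepQ 1561 Q1561 (allL N1561 (tt N1561 F10297) (tt N2069 (iv F14435)) (tt N1171 F10298) (tt N1216 F10299) (tt N1985 (iv F13836)) (tt N2078 D2986) (tt N1166 F10300) (tt N2077 (iv F14477)) (tt N1165 (iv D2086)) (tt N1187 F10301))
theorem Q1563 : ∀ i, i < 1563 → P i := stepQ 1562 Q1562 (allL N1562 (tt N1562 F10302) (tt N2070 (iv F14439)) (tt N1172 F10303) (tt N1217 F10304) (tt N2079 D2987) (tt N1166 (iv D2087)) (tt N2080 D2988) (tt N1562 F10305) (tt N1562 F10306) (tt N1188 F10307))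
theorem Q1564 : ∀ i, i < 1564 → P i := stepQ 1563 Q1563 (allL N1563 (tt N1563 F10308) (tt N1901 (iv F13409)) (tt N2072 (iv F14450)) (tt N1563 F10309) (tt N1168 F10310) (tt N1987 (iv F13847)) (tt N2081 D2989) (tt N1167 (iv D2088)) (tt N1563 F10311) (tt N2082 D2990))
theorem Q1565 : ∀ i, i < 1565 → P i := stepQ 1564 Q1564 (allL N1564 (tt N1564 F10312) (tt N1902 (iv F13413)) (tt N2073 (iv F14454)) (tt N1564 F10313) (tt N1169 F10314) (tt N1989 (iv F13855)) (tt N1564 F10315) (tt N2082 (iv F14501)) (tt N2083 D2991) (tt N1167 (iv D2089)))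
theorem Q1566 : ∀ i, i < 1566 → P i := stepQ 1565 Q1565 (allL N1565 (tt N1565 F10316) (tt N1903 (iv F13417)) (tt N2074 (iv F14458)) (tt N1173 F10317) (tt N2081 (iv F14495)) (tt N1565 F10318) (tt N1168 (iv D2090)) (tt N1565 F10319) (tt N1565 F10320) (tt N2084 D2992))
theorem Q1567 : ∀ i, i < 1567 → P i := stepQ 1566 Q1566 (allL N1566 (tt N1566 F10321) (tt N1904 (iv F13422)) (tt N2075 (iv F14464)) (tt N1174 F10322) (tt N2082 (iv F14500)) (tt N1170 F10323) (tt N2084 (iv F14510)) (tt N1169 F10324) (tt N2085 D2993) (tt N1168 (iv D2091)))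
theorem Q1568 : ∀ i, i < 1568 → P i := stepQ 1567 Q1567 (allL N1567 (tt N1567 F10325) (tt N1905 (iv F13426)) (tt N2076 (iv F14469)) (tt N1175 F10326) (tt N2083 (iv F14504)) (tt N2086 D2994) (tt N1567 F10327) (tt N2085 (iv F14514)) (tt N1169 (iv D2092)) (tt N1567 F10328))
theorem Q1569 : ∀ i, i < 1569 → P i := stepQ 1568 Q1568 (allL N1568 (tt N1568 F10329) (tt N1906 (iv F13430)) (tt N2077 (iv F14474)) (tt N1176 F10330) (tt N1995 (iv F13874)) (tt N2087 D2995) (tt N1568 F10331) (tt N1171 F10332) (tt N1170 (iv D2093)) (tt N1189 F10333))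
theorem Q1570 : ∀ i, i < 1570 → P i := stepQ 1569 Q1569 (allL N1569 (tt N1569 F10334) (tt N1907 (iv F13435)) (tt N2078 (iv F14480)) (tt N1177 F10335) (tt N2088 D2996) (tt N1171 (iv D2094)) (tt N2089 D2997) (tt N2087 (iv F14522)) (tt N2086 (iv F14518)) (tt N1190 F10336))

end Cfsg.Agent.Helper17.SP6TC
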